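import Mathlib
import Cfsg.Agent.Helper17.HeCent.Defs

set_option autoImplicit false
set_option linter.all false

noncomputable section

namespace Cfsg.Agent.Helper17.HCPTC

open Cfsg.Spor Cfsg.Agent.Helper17.HeCent

abbrev Gn := Cfsg.Agent.Helper17.HeCent.HCP.Gen

abbrev Rels : Set (FreeGroup Gn) :=
  Cfsg.Spor.coxRelators Cfsg.Agent.Helper17.HeCent.HCP.edges ∪ {r | r ∈ Cfsg.Agent.Helper17.HeCent.HCP.extra}

abbrev G := PresentedGroup Rels

def Hs : Subgroup G :=
  (Subgroup.closure ({HCP.a} : Set (FreeGroup Gn))).map (PresentedGroup.mk Rels)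

abbrev Q := G ⧸ Hs

def gen : ℕ → Gn
  | 0 => .a
  | 1 => .b
  | 2 => .c
  | 3 => .d
  | _ => .e

def gG (l : ℕ) : G := PresentedGroup.of (gen l)

def act (l : ℕ) (x : Q) : Q := gG l • x

def n0 : Q := ((1 : G) : Q)

def actw : List ℕ → Q → Q
  | [], x => x
  | l :: w, x => actw w (act l x)

def prodw : List ℕ → G
  | [] => 1
  | l :: w => prodw w * gG l

theorem actw_eq (w : List ℕ) (x : Q) : actw w x = prodw w • x := by
  induction w generalizing x with
  | nil => simp [actw, prodw]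
  | cons l w ih => simp [actw, prodw, ih, act, mul_smul]

theorem mem_nodes (x : Gn) : x ∈ coxNodes HCP.edges := by
  cases x <;> decide

theorem cox (x y : Gn) :
    ((PresentedGroup.of x : G) * PresentedGroup.of y) ^ coxLabel HCP.edges x y = 1 := by
  have h : (FreeGroup.of x * FreeGroup.of y) ^ coxLabel HCP.edges x y ∈ Rels :=
    Or.inl ⟨x, mem_nodes x, y, mem_nodes y, rfl⟩
  have := PresentedGroup.one_of_mem h
  simpa [PresentedGroup.of] using this

theorem gG_mul_self (l : ℕ) : gG l * gG l = 1 := by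
  have := cox (gen l) (gen l)
  simpa [coxLabel, gG] using this

theorem gG_inv (l : ℕ) : (gG l)⁻¹ = gG l := by
  rw [inv_eq_iff_mul_eq_one]; exact gG_mul_self l

theorem act_act (l : ℕ) (x : Q) : act l (act l x) = x := by
  simp [act, ← mul_smul, gG_mul_self]

theorem iv {l : ℕ} {x y : Q} (h : act l x = y) : act l y = x := by
  rw [← h, act_act]

theorem ij {l : ℕ} {x y : Q} (h : act l x = act l y) : x = y := by
  have := congrArg (act l) h
  simpa [act_act] using this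

theorem tr {l : ℕ} {x y z : Q} (h : act l x = y) (e : y = z) : act l x = z := h.trans e

theorem sb {l : ℕ} {x x' y : Q} (e : x = x') (h : act l x = y) : act l x' = y := e ▸ h

theorem extra_one {r : FreeGroup Gn} (h : r ∈ HCP.extra) : PresentedGroup.mk Rels r = 1 :=
  PresentedGroup.one_of_mem (Or.inr h)

theorem mk_of (x : Gn) : PresentedGroup.mk Rels (FreeGroup.of x) = PresentedGroup.of x := rfl

theorem act_n0_of_mem {g : G} (h : g ∈ Hs) : g • n0 = n0 := by
  unfold n0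
  rw [MulAction.Quotient.smul_mk, QuotientGroup.eq]
  simpa using Hs.inv_mem h


theorem coxG (i j : ℕ) : (gG i * gG j) ^ coxLabel HCP.edges (gen i) (gen j) = 1 := cox _ _

theorem R_of_prod (w : List ℕ) (h : prodw w = 1) (x : Q) : actw w x = x := by
  rw [actw_eq, h, one_smul]

theorem ofG0 : (PresentedGroup.of HCP.Gen.a : G) = gG 0 := rfl
theorem ofG1 : (PresentedGroup.of HCP.Gen.b : G) = gG 1 := rfl
theorem ofG2 : (PresentedGroup.of HCP.Gen.c : G) = gG 2 := rfl
theorem ofG3 : (PresentedGroup.of HCP.Gen.d : G) = gG 3 := rfl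
theorem ofG4 : (PresentedGroup.of HCP.Gen.e : G) = gG 4 := rfl

theorem P0 : prodw [1, 0, 1, 0, 1, 0, 1, 0] = 1 := by
  have h := coxG 0 1
  rw [show coxLabel HCP.edges (gen 0) (gen 1) = 4 from by decide] at h
  simp only [pow_succ, pow_zero, one_mul, mul_assoc] at h
  simp only [prodw, one_mul, mul_assoc]
  exact h

theorem R0 (x : Q) : act 0 (act 1 (act 0 (act 1 (act 0 (act 1 (act 0 (act 1 x))))))) = x := R_of_prod [1, 0, 1, 0, 1, 0, 1, 0] P0 x

theorem P1 : prodw [2, 0, 2, 0, 2, 0, 2, 0] = 1 := by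
  have h := coxG 0 2
  rw [show coxLabel HCP.edges (gen 0) (gen 2) = 4 from by decide] at h
  simp only [pow_succ, pow_zero, one_mul, mul_assoc] at h
  simp only [prodw, one_mul, mul_assoc]
  exact h

theorem R1 (x : Q) : act 0 (act 2 (act 0 (act 2 (act 0 (act 2 (act 0 (act 2 x))))))) = x := R_of_prod [2, 0, 2, 0, 2, 0, 2, 0] P1 x

theorem P2 : prodw [3, 0, 3, 0, 3, 0, 3, 0] = 1 := by
  have h := coxG 0 3
  rw [show coxLabel HCP.edges (gen 0) (gen 3) = 4 from by decide] at h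
  simp only [pow_succ, pow_zero, one_mul, mul_assoc] at h
  simp only [prodw, one_mul, mul_assoc]
  exact h

theorem R2 (x : Q) : act 0 (act 3 (act 0 (act 3 (act 0 (act 3 (act 0 (act 3 x))))))) = x := R_of_prod [3, 0, 3, 0, 3, 0, 3, 0] P2 x

theorem P3 : prodw [4, 0, 4, 0] = 1 := by
  have h := coxG 0 4
  rw [show coxLabel HCP.edges (gen 0) (gen 4) = 2 from by decide] at h
  simp only [pow_succ, pow_zero, one_mul, mul_assoc] at h
  simp only [prodw, one_mul, mul_assoc]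
  exact h

theorem R3 (x : Q) : act 0 (act 4 (act 0 (act 4 x))) = x := R_of_prod [4, 0, 4, 0] P3 x

theorem P4 : prodw [2, 1, 2, 1, 2, 1, 2, 1] = 1 := by
  have h := coxG 1 2
  rw [show coxLabel HCP.edges (gen 1) (gen 2) = 4 from by decide] at h
  simp only [pow_succ, pow_zero, one_mul, mul_assoc] at h
  simp only [prodw, one_mul, mul_assoc]
  exact h

theorem R4 (x : Q) : act 1 (act 2 (act 1 (act 2 (act 1 (act 2 (act 1 (act 2 x))))))) = x := R_of_prod [2, 1, 2, 1, 2, 1, 2, 1] P4 x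

theorem P5 : prodw [3, 1, 3, 1] = 1 := by
  have h := coxG 1 3
  rw [show coxLabel HCP.edges (gen 1) (gen 3) = 2 from by decide] at h
  simp only [pow_succ, pow_zero, one_mul, mul_assoc] at h
  simp only [prodw, one_mul, mul_assoc]
  exact h

theorem R5 (x : Q) : act 1 (act 3 (act 1 (act 3 x))) = x := R_of_prod [3, 1, 3, 1] P5 x

theorem P6 : prodw [4, 1, 4, 1] = 1 := by
  have h := coxG 1 4
  rw [show coxLabel HCP.edges (gen 1) (gen 4) = 2 from by decide] at h
  simp only [pow_succ, pow_zero, one_mul, mul_assoc] at h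
  simp only [prodw, one_mul, mul_assoc]
  exact h

theorem R6 (x : Q) : act 1 (act 4 (act 1 (act 4 x))) = x := R_of_prod [4, 1, 4, 1] P6 x

theorem P7 : prodw [3, 2, 3, 2] = 1 := by
  have h := coxG 2 3
  rw [show coxLabel HCP.edges (gen 2) (gen 3) = 2 from by decide] at h
  simp only [pow_succ, pow_zero, one_mul, mul_assoc] at h
  simp only [prodw, one_mul, mul_assoc]
  exact h

theorem R7 (x : Q) : act 2 (act 3 (act 2 (act 3 x))) = x := R_of_prod [3, 2, 3, 2] P7 x

theorem P8 : prodw [4, 2, 4, 2, 4, 2, 4, 2] = 1 := by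
  have h := coxG 2 4
  rw [show coxLabel HCP.edges (gen 2) (gen 4) = 4 from by decide] at h
  simp only [pow_succ, pow_zero, one_mul, mul_assoc] at h
  simp only [prodw, one_mul, mul_assoc]
  exact h

theorem R8 (x : Q) : act 2 (act 4 (act 2 (act 4 (act 2 (act 4 (act 2 (act 4 x))))))) = x := R_of_prod [4, 2, 4, 2, 4, 2, 4, 2] P8 x

theorem P9 : prodw [4, 3, 4, 3, 4, 3, 4, 3] = 1 := by
  have h := coxG 3 4
  rw [show coxLabel HCP.edges (gen 3) (gen 4) = 4 from by decide] at h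
  simp only [pow_succ, pow_zero, one_mul, mul_assoc] at h
  simp only [prodw, one_mul, mul_assoc]
  exact h

theorem R9 (x : Q) : act 3 (act 4 (act 3 (act 4 (act 3 (act 4 (act 3 (act 4 x))))))) = x := R_of_prod [4, 3, 4, 3, 4, 3, 4, 3] P9 x

theorem P10 : prodw [3, 0, 2, 0, 3, 0, 2, 0] = 1 := by
  have h := extra_one (r := HCP.a * HCP.c * HCP.a * HCP.d * HCP.a * HCP.c * HCP.a * HCP.d) (by simp [HCP.extra])
  simp only [map_mul, map_inv, map_pow, mk_of, ofG0, ofG1, ofG2, ofG3, ofG4] at h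
  simp only [pow_succ, pow_zero, one_mul, mul_inv_rev, gG_inv, mul_assoc] at h
  simp only [prodw, one_mul, mul_assoc]
  exact h

theorem R10 (x : Q) : act 0 (act 2 (act 0 (act 3 (act 0 (act 2 (act 0 (act 3 x))))))) = x := R_of_prod [3, 0, 2, 0, 3, 0, 2, 0] P10 x

theorem P11 : prodw [2, 4, 2, 0, 2, 4, 2, 0] = 1 := by
  have h := extra_one (r := HCP.a * HCP.c * HCP.e * HCP.c * HCP.a * HCP.c * HCP.e * HCP.c) (by simp [HCP.extra])
  simp only [map_mul, map_inv, map_pow, mk_of, ofG0, ofG1, ofG2, ofG3, ofG4] at h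
  simp only [pow_succ, pow_zero, one_mul, mul_inv_rev, gG_inv, mul_assoc] at h
  simp only [prodw, one_mul, mul_assoc]
  exact h

theorem R11 (x : Q) : act 0 (act 2 (act 4 (act 2 (act 0 (act 2 (act 4 (act 2 x))))))) = x := R_of_prod [2, 4, 2, 0, 2, 4, 2, 0] P11 x

theorem P12 : prodw [3, 4, 3, 0, 3, 4, 3, 0] = 1 := by
  have h := extra_one (r := HCP.a * HCP.d * HCP.e * HCP.d * HCP.a * HCP.d * HCP.e * HCP.d) (by simp [HCP.extra])
  simp only [map_mul, map_inv, map_pow, mk_of, ofG0, ofG1, ofG2, ofG3, ofG4] at h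
  simp only [pow_succ, pow_zero, one_mul, mul_inv_rev, gG_inv, mul_assoc] at h
  simp only [prodw, one_mul, mul_assoc]
  exact h

theorem R12 (x : Q) : act 0 (act 3 (act 4 (act 3 (act 0 (act 3 (act 4 (act 3 x))))))) = x := R_of_prod [3, 4, 3, 0, 3, 4, 3, 0] P12 x

theorem P13 : prodw [2, 0, 1, 0, 2, 0, 1, 0, 2, 0, 1, 0] = 1 := by
  have h := extra_one (r := HCP.a * HCP.b * HCP.a * HCP.c * HCP.a * HCP.b * HCP.a * HCP.c * HCP.a * HCP.b * HCP.a * HCP.c) (by simp [HCP.extra])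
  simp only [map_mul, map_inv, map_pow, mk_of, ofG0, ofG1, ofG2, ofG3, ofG4] at h
  simp only [pow_succ, pow_zero, one_mul, mul_inv_rev, gG_inv, mul_assoc] at h
  simp only [prodw, one_mul, mul_assoc]
  exact h

theorem R13 (x : Q) : act 0 (act 1 (act 0 (act 2 (act 0 (act 1 (act 0 (act 2 (act 0 (act 1 (act 0 (act 2 x))))))))))) = x := R_of_prod [2, 0, 1, 0, 2, 0, 1, 0, 2, 0, 1, 0] P13 x

theorem P14 : prodw [1, 2, 1, 0, 1, 2, 1, 0, 1, 2, 1, 0] = 1 := by
  have h := extra_one (r := HCP.a * HCP.b * HCP.c * HCP.b * HCP.a * HCP.b * HCP.c * HCP.b * HCP.a * HCP.b * HCP.c * HCP.b) (by simp [HCP.extra])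
  simp only [map_mul, map_inv, map_pow, mk_of, ofG0, ofG1, ofG2, ofG3, ofG4] at h
  simp only [pow_succ, pow_zero, one_mul, mul_inv_rev, gG_inv, mul_assoc] at h
  simp only [prodw, one_mul, mul_assoc]
  exact h

theorem R14 (x : Q) : act 0 (act 1 (act 2 (act 1 (act 0 (act 1 (act 2 (act 1 (act 0 (act 1 (act 2 (act 1 x))))))))))) = x := R_of_prod [1, 2, 1, 0, 1, 2, 1, 0, 1, 2, 1, 0] P14 x

theorem P15 : prodw [2, 0, 2, 1, 0, 1, 2, 0, 2, 1, 0, 1, 0] = 1 := by
  have h := extra_one (r := HCP.a * HCP.b * HCP.a * HCP.b * HCP.c * HCP.a * HCP.c * HCP.b * HCP.a * HCP.b * HCP.c * HCP.a * HCP.c) (by simp [HCP.extra])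
  simp only [map_mul, map_inv, map_pow, mk_of, ofG0, ofG1, ofG2, ofG3, ofG4] at h
  simp only [pow_succ, pow_zero, one_mul, mul_inv_rev, gG_inv, mul_assoc] at h
  simp only [prodw, one_mul, mul_assoc]
  exact h

theorem R15 (x : Q) : act 0 (act 1 (act 0 (act 1 (act 2 (act 0 (act 2 (act 1 (act 0 (act 1 (act 2 (act 0 (act 2 x)))))))))))) = x := R_of_prod [2, 0, 2, 1, 0, 1, 2, 0, 2, 1, 0, 1, 0] P15 x

theorem P16 : prodw [3, 0, 3, 1, 2, 1, 0, 3, 0, 1, 2, 1, 0] = 1 := by
  have h := extra_one (r := HCP.a * HCP.b * HCP.c * HCP.b * HCP.a * HCP.d * HCP.a * HCP.b * HCP.c * HCP.b * HCP.d * HCP.a * HCP.d) (by simp [HCP.extra])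
  simp only [map_mul, map_inv, map_pow, mk_of, ofG0, ofG1, ofG2, ofG3, ofG4] at h
  simp only [pow_succ, pow_zero, one_mul, mul_inv_rev, gG_inv, mul_assoc] at h
  simp only [prodw, one_mul, mul_assoc]
  exact h

theorem R16 (x : Q) : act 0 (act 1 (act 2 (act 1 (act 0 (act 3 (act 0 (act 1 (act 2 (act 1 (act 3 (act 0 (act 3 x)))))))))))) = x := R_of_prod [3, 0, 3, 1, 2, 1, 0, 3, 0, 1, 2, 1, 0] P16 x

theorem P17 : prodw [4, 1, 2, 4, 2, 1, 0, 1, 2, 4, 2, 1, 0] = 1 := by
  have h := extra_one (r := HCP.a * HCP.b * HCP.c * HCP.e * HCP.c * HCP.b * HCP.a * HCP.b * HCP.c * HCP.e * HCP.c * HCP.b * HCP.e) (by simp [HCP.extra])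
  simp only [map_mul, map_inv, map_pow, mk_of, ofG0, ofG1, ofG2, ofG3, ofG4] at h
  simp only [pow_succ, pow_zero, one_mul, mul_inv_rev, gG_inv, mul_assoc] at h
  simp only [prodw, one_mul, mul_assoc]
  exact h

theorem R17 (x : Q) : act 0 (act 1 (act 2 (act 4 (act 2 (act 1 (act 0 (act 1 (act 2 (act 4 (act 2 (act 1 (act 4 x)))))))))))) = x := R_of_prod [4, 1, 2, 4, 2, 1, 0, 1, 2, 4, 2, 1, 0] P17 x

theorem B0 : act 0 n0 = n0 := by
  have hm : prodw [0] ∈ Hs := by
    have h1 : PresentedGroup.mk Rels (HCP.a) ∈ Hs := Subgroup.mem_map_of_mem _ (Subgroup.subset_closure (by simp))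
    simp only [map_mul, map_inv, map_pow, mk_of, ofG0, ofG1, ofG2, ofG3, ofG4] at h1
    try simp only [pow_succ, pow_zero, one_mul, mul_inv_rev, gG_inv, mul_assoc] at h1
    simp only [prodw, one_mul, mul_assoc]
    exact h1
  have := act_n0_of_mem hm
  rw [← actw_eq] at this
  exact this

end Cfsg.Agent.Helper17.HCPTC
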