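import Cfsg.Agent.Helper17.HCPTC.Lemmas

set_option autoImplicit false
set_option linter.all false

noncomputable section

namespace Cfsg.Agent.Helper17.HCPTC

theorem F1 : act 0 n0 = n0 := d18_0 B0 
def n1 : Q := act 1 n0
theorem D1 : act 1 n0 = n1 := rfl
def n2 : Q := act 2 n0
theorem D2 : act 2 n0 = n2 := rfl
def n3 : Q := act 3 n0
theorem D3 : act 3 n0 = n3 := rfl
def n4 : Q := act 4 n0
theorem D4 : act 4 n0 = n4 := rfl
theorem F2 : act 0 n4 = n4 := d3_1 D4 (iv D4) F1
def n5 : Q := act 0 n1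
theorem D5 : act 0 n1 = n5 := rfl
def n6 : Q := act 2 n1
theorem D6 : act 2 n1 = n6 := rfl
def n7 : Q := act 3 n1
theorem D7 : act 3 n1 = n7 := rfl
theorem F3 : act 1 n7 = n3 := d5_1 D7 (iv D3) D1
def n8 : Q := act 4 n1
theorem D8 : act 4 n1 = n8 := rfl
theorem F4 : act 1 n8 = n4 := d6_1 D8 (iv D4) D1
def n9 : Q := act 0 n2
theorem D9 : act 0 n2 = n9 := rfl
def n10 : Q := act 1 n2
theorem D10 : act 1 n2 = n10 := rfl
def n11 : Q := act 3 n2
theorem D11 : act 3 n2 = n11 := rfl
theorem F5 : act 2 n11 = n3 := d7_1 D11 (iv D3) D2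
def n12 : Q := act 4 n2
theorem D12 : act 4 n2 = n12 := rfl
def n13 : Q := act 0 n3
theorem D13 : act 0 n3 = n13 := rfl
def n14 : Q := act 4 n3
theorem D14 : act 4 n3 = n14 := rfl
def n15 : Q := act 2 n4
theorem D15 : act 2 n4 = n15 := rfl
def n16 : Q := act 3 n4
theorem D16 : act 3 n4 = n16 := rfl
def n17 : Q := act 1 n5
theorem D17 : act 1 n5 = n17 := rfl
theorem F6 : act 0 n17 = n17 := d0_1 D17 (iv D17) (iv D5) (iv D1) F1 D1 D5
def n18 : Q := act 2 n5
theorem D18 : act 2 n5 = n18 := rfl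
def n19 : Q := act 3 n5
theorem D19 : act 3 n5 = n19 := rfl
def n20 : Q := act 4 n5
theorem D20 : act 4 n5 = n20 := rfl
theorem F7 : act 0 n20 = n8 := d3_1 D20 (iv D8) D5
def n21 : Q := act 0 n6
theorem D21 : act 0 n6 = n21 := rfl
def n22 : Q := act 1 n6
theorem D22 : act 1 n6 = n22 := rfl
def n23 : Q := act 3 n6
theorem D23 : act 3 n6 = n23 := rfl
theorem F8 : act 2 n23 = n7 := d7_1 D23 (iv D7) D6
def n24 : Q := act 4 n6
theorem D24 : act 4 n6 = n24 := rfl
def n25 : Q := act 0 n7
theorem D25 : act 0 n7 = n25 := rfl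
def n26 : Q := act 4 n7
theorem D26 : act 4 n7 = n26 := rfl
theorem F9 : act 1 n26 = n14 := d6_1 D26 (iv D14) (iv F3)
def n27 : Q := act 2 n8
theorem D27 : act 2 n8 = n27 := rfl
def n28 : Q := act 3 n8
theorem D28 : act 3 n8 = n28 := rfl
theorem F10 : act 1 n28 = n16 := d5_1 D28 (iv D16) (iv F4)
def n29 : Q := act 1 n9
theorem D29 : act 1 n9 = n29 := rfl
def n30 : Q := act 2 n9
theorem D30 : act 2 n9 = n30 := rfl
theorem F11 : act 0 n30 = n30 := d1_1 D30 (iv D30) (iv D9) (iv D2) F1 D2 D9
def n31 : Q := act 3 n9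
theorem D31 : act 3 n9 = n31 := rfl
def n32 : Q := act 4 n9
theorem D32 : act 4 n9 = n32 := rfl
theorem F12 : act 0 n32 = n12 := d3_1 D32 (iv D12) D9
def n33 : Q := act 0 n10
theorem D33 : act 0 n10 = n33 := rfl
def n34 : Q := act 2 n10
theorem D34 : act 2 n10 = n34 := rfl
def n35 : Q := act 3 n10
theorem D35 : act 3 n10 = n35 := rfl
theorem F13 : act 1 n35 = n11 := d5_1 D35 (iv D11) D10
def n36 : Q := act 4 n10
theorem D36 : act 4 n10 = n36 := rfl
theorem F14 : act 1 n36 = n12 := d6_1 D36 (iv D12) D10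
def n37 : Q := act 0 n11
theorem D37 : act 0 n11 = n37 := rfl
def n38 : Q := act 4 n11
theorem D38 : act 4 n11 = n38 := rfl
def n39 : Q := act 2 n12
theorem D39 : act 2 n12 = n39 := rfl
theorem F15 : act 0 n39 = n39 := d11_3 D2 D12 D39 (iv D39) (iv D12) (iv D2) F1
def n40 : Q := act 3 n12
theorem D40 : act 3 n12 = n40 := rfl
def n41 : Q := act 1 n13
theorem D41 : act 1 n13 = n41 := rfl
def n42 : Q := act 2 n13
theorem D42 : act 2 n13 = n42 := rfl
theorem F16 : act 0 n42 = n31 := d10_3 D3 D13 D42 (iv D31) (iv D9) (iv D2) F1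
def n43 : Q := act 3 n13
theorem D43 : act 3 n13 = n43 := rfl
theorem F17 : act 0 n43 = n43 := d2_1 D43 (iv D43) (iv D13) (iv D3) F1 D3 D13
def n44 : Q := act 4 n13
theorem D44 : act 4 n13 = n44 := rfl
theorem F18 : act 0 n44 = n14 := d3_1 D44 (iv D14) D13
def n45 : Q := act 2 n14
theorem D45 : act 2 n14 = n45 := rfl
def n46 : Q := act 3 n14
theorem D46 : act 3 n14 = n46 := rfl
theorem F19 : act 0 n46 = n46 := d12_3 D3 D14 D46 (iv D46) (iv D14) (iv D3) F1
def n47 : Q := act 0 n15
theorem D47 : act 0 n15 = n47 := rfl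
def n48 : Q := act 1 n15
theorem D48 : act 1 n15 = n48 := rfl
def n49 : Q := act 3 n15
theorem D49 : act 3 n15 = n49 := rfl
theorem F20 : act 2 n49 = n16 := d7_1 D49 (iv D16) D15
def n50 : Q := act 4 n15
theorem D50 : act 4 n15 = n50 := rfl
def n51 : Q := act 0 n16
theorem D51 : act 0 n16 = n51 := rfl
def n52 : Q := act 4 n16
theorem D52 : act 4 n16 = n52 := rfl
def n53 : Q := act 2 n17
theorem D53 : act 2 n17 = n53 := rfl
def n54 : Q := act 3 n17
theorem D54 : act 3 n17 = n54 := rfl
theorem F21 : act 1 n54 = n19 := d5_1 D54 (iv D19) D17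
def n55 : Q := act 4 n17
theorem D55 : act 4 n17 = n55 := rfl
theorem F22 : act 0 n55 = n55 := d3_1 D55 (iv D55) F6
theorem F23 : act 1 n55 = n20 := d6_1 D55 (iv D20) D17
def n56 : Q := act 0 n18
theorem D56 : act 0 n18 = n56 := rfl
def n57 : Q := act 1 n18
theorem D57 : act 1 n18 = n57 := rfl
def n58 : Q := act 3 n18
theorem D58 : act 3 n18 = n58 := rfl
theorem F24 : act 2 n58 = n19 := d7_1 D58 (iv D19) D18
def n59 : Q := act 4 n18
theorem D59 : act 4 n18 = n59 := rfl
def n60 : Q := act 0 n19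
theorem D60 : act 0 n19 = n60 := rfl
def n61 : Q := act 4 n19
theorem D61 : act 4 n19 = n61 := rfl
def n62 : Q := act 2 n20
theorem D62 : act 2 n20 = n62 := rfl
def n63 : Q := act 3 n20
theorem D63 : act 3 n20 = n63 := rfl
def n64 : Q := act 1 n21
theorem D64 : act 1 n21 = n64 := rfl
def n65 : Q := act 2 n21
theorem D65 : act 2 n21 = n65 := rfl
def n66 : Q := act 3 n21
theorem D66 : act 3 n21 = n66 := rfl
def n67 : Q := act 4 n21
theorem D67 : act 4 n21 = n67 := rfl
theorem F25 : act 0 n67 = n24 := d3_1 D67 (iv D24) D21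
def n68 : Q := act 0 n22
theorem D68 : act 0 n22 = n68 := rfl
def n69 : Q := act 2 n22
theorem D69 : act 2 n22 = n69 := rfl
theorem F26 : act 1 n69 = n34 := d4_1 D69 (iv D34) (iv D10) (iv D2) D1 D6 D22
def n70 : Q := act 3 n22
theorem D70 : act 3 n22 = n70 := rfl
theorem F27 : act 1 n70 = n23 := d5_1 D70 (iv D23) D22
def n71 : Q := act 4 n22
theorem D71 : act 4 n22 = n71 := rfl
theorem F28 : act 1 n71 = n24 := d6_1 D71 (iv D24) D22
def n72 : Q := act 0 n23
theorem D72 : act 0 n23 = n72 := rfl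
def n73 : Q := act 4 n23
theorem D73 : act 4 n23 = n73 := rfl
def n74 : Q := act 2 n24
theorem D74 : act 2 n24 = n74 := rfl
def n75 : Q := act 3 n24
theorem D75 : act 3 n24 = n75 := rfl
def n76 : Q := act 1 n25
theorem D76 : act 1 n25 = n76 := rfl
def n77 : Q := act 2 n25
theorem D77 : act 2 n25 = n77 := rfl
def n78 : Q := act 3 n25
theorem D78 : act 3 n25 = n78 := rfl
def n79 : Q := act 4 n25
theorem D79 : act 4 n25 = n79 := rfl
theorem F29 : act 0 n79 = n26 := d3_1 D79 (iv D26) D25
def n80 : Q := act 2 n26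
theorem D80 : act 2 n26 = n80 := rfl
def n81 : Q := act 3 n26
theorem D81 : act 3 n26 = n81 := rfl
theorem F30 : act 1 n81 = n46 := d5_1 D81 (iv D46) (iv F9)
def n82 : Q := act 0 n27
theorem D82 : act 0 n27 = n82 := rfl
def n83 : Q := act 1 n27
theorem D83 : act 1 n27 = n83 := rfl
def n84 : Q := act 3 n27
theorem D84 : act 3 n27 = n84 := rfl
theorem F31 : act 2 n84 = n28 := d7_1 D84 (iv D28) D27
def n85 : Q := act 4 n27
theorem D85 : act 4 n27 = n85 := rfl
def n86 : Q := act 0 n28
theorem D86 : act 0 n28 = n86 := rfl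
def n87 : Q := act 4 n28
theorem D87 : act 4 n28 = n87 := rfl
theorem F32 : act 1 n87 = n52 := d6_1 D87 (iv D52) (iv F10)
def n88 : Q := act 0 n29
theorem D88 : act 0 n29 = n88 := rfl
def n89 : Q := act 2 n29
theorem D89 : act 2 n29 = n89 := rfl
def n90 : Q := act 3 n29
theorem D90 : act 3 n29 = n90 := rfl
theorem F33 : act 1 n90 = n31 := d5_1 D90 (iv D31) D29
def n91 : Q := act 4 n29
theorem D91 : act 4 n29 = n91 := rfl
theorem F34 : act 1 n91 = n32 := d6_1 D91 (iv D32) D29
def n92 : Q := act 1 n30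
theorem D92 : act 1 n30 = n92 := rfl
def n93 : Q := act 3 n30
theorem D93 : act 3 n30 = n93 := rfl
theorem F35 : act 2 n93 = n31 := d7_1 D93 (iv D31) D30
def n94 : Q := act 4 n30
theorem D94 : act 4 n30 = n94 := rfl
theorem F36 : act 0 n94 = n94 := d3_1 D94 (iv D94) F11
theorem F37 : act 2 n94 = n47 := d11_2 D30 D94 (iv D47) (iv D15) (iv D4) D2 D9
def n95 : Q := act 4 n31
theorem D95 : act 4 n31 = n95 := rfl
def n96 : Q := act 2 n32
theorem D96 : act 2 n32 = n96 := rfl
theorem F38 : act 0 n96 = n96 := d1_1 D96 (iv D96) F12 D39 F15 (iv D39) (iv F12)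
def n97 : Q := act 3 n32
theorem D97 : act 3 n32 = n97 := rfl
def n98 : Q := act 1 n33
theorem D98 : act 1 n33 = n98 := rfl
def n99 : Q := act 2 n33
theorem D99 : act 2 n33 = n99 := rfl
def n100 : Q := act 3 n33
theorem D100 : act 3 n33 = n100 := rfl
def n101 : Q := act 4 n33
theorem D101 : act 4 n33 = n101 := rfl
theorem F39 : act 0 n101 = n36 := d3_1 D101 (iv D36) D33
def n102 : Q := act 0 n34
theorem D102 : act 0 n34 = n102 := rfl
def n103 : Q := act 3 n34
theorem D103 : act 3 n34 = n103 := rfl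
theorem F40 : act 2 n103 = n35 := d7_1 D103 (iv D35) D34
def n104 : Q := act 4 n34
theorem D104 : act 4 n34 = n104 := rfl
def n105 : Q := act 0 n35
theorem D105 : act 0 n35 = n105 := rfl
def n106 : Q := act 4 n35
theorem D106 : act 4 n35 = n106 := rfl
theorem F41 : act 1 n106 = n38 := d6_1 D106 (iv D38) (iv F13)
def n107 : Q := act 2 n36
theorem D107 : act 2 n36 = n107 := rfl
def n108 : Q := act 3 n36
theorem D108 : act 3 n36 = n108 := rfl
theorem F42 : act 1 n108 = n40 := d5_1 D108 (iv D40) (iv F14)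
def n109 : Q := act 1 n37
theorem D109 : act 1 n37 = n109 := rfl
def n110 : Q := act 2 n37
theorem D110 : act 2 n37 = n110 := rfl
theorem F43 : act 0 n110 = n93 := d1_1 D110 F35 (iv F16) (iv D42) (iv D13) (iv F5) D37
def n111 : Q := act 3 n37
theorem D111 : act 3 n37 = n111 := rfl
def n112 : Q := act 4 n37
theorem D112 : act 4 n37 = n112 := rfl
theorem F44 : act 0 n112 = n38 := d3_1 D112 (iv D38) D37
def n113 : Q := act 2 n38
theorem D113 : act 2 n38 = n113 := rfl
def n114 : Q := act 3 n38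
theorem D114 : act 3 n38 = n114 := rfl
def n115 : Q := act 1 n39
theorem D115 : act 1 n39 = n115 := rfl
def n116 : Q := act 3 n39
theorem D116 : act 3 n39 = n116 := rfl
theorem F45 : act 2 n116 = n40 := d7_1 D116 (iv D40) D39
def n117 : Q := act 4 n39
theorem D117 : act 4 n39 = n117 := rfl
theorem F46 : act 0 n117 = n117 := d3_1 D117 (iv D117) F15
theorem F47 : act 2 n117 = n50 := d8_1 D117 (iv D50) (iv D15) (iv D4) D2 D12 D39
def n118 : Q := act 0 n40
theorem D118 : act 0 n40 = n118 := rfl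
def n119 : Q := act 4 n40
theorem D119 : act 4 n40 = n119 := rfl
def n120 : Q := act 0 n41
theorem D120 : act 0 n41 = n120 := rfl
def n121 : Q := act 2 n41
theorem D121 : act 2 n41 = n121 := rfl
def n122 : Q := act 3 n41
theorem D122 : act 3 n41 = n122 := rfl
theorem F48 : act 1 n122 = n43 := d5_1 D122 (iv D43) D41
def n123 : Q := act 4 n41
theorem D123 : act 4 n41 = n123 := rfl
theorem F49 : act 1 n123 = n44 := d6_1 D123 (iv D44) D41
def n124 : Q := act 1 n42
theorem D124 : act 1 n42 = n124 := rfl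
def n125 : Q := act 3 n42
theorem D125 : act 3 n42 = n125 := rfl
theorem F50 : act 0 n125 = n111 := d2_1 D125 (iv D111) (iv D37) (iv D11) D9 D31 (iv F16)
theorem F51 : act 2 n125 = n43 := d7_1 D125 (iv D43) D42
def n126 : Q := act 4 n42
theorem D126 : act 4 n42 = n126 := rfl
theorem F52 : act 0 n126 = n95 := d3_1 D126 (iv D95) (iv F16)
def n127 : Q := act 4 n43
theorem D127 : act 4 n43 = n127 := rfl
theorem F53 : act 0 n127 = n127 := d3_1 D127 (iv D127) F17
theorem F54 : act 3 n127 = n51 := d12_2 D43 D127 (iv D51) (iv D16) (iv D4) D3 D13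
def n128 : Q := act 2 n44
theorem D128 : act 2 n44 = n128 := rfl
def n129 : Q := act 3 n44
theorem D129 : act 3 n44 = n129 := rfl
theorem F55 : act 0 n129 = n129 := d2_1 D129 (iv D129) F18 D46 F19 (iv D46) (iv F18)
def n130 : Q := act 0 n45
theorem D130 : act 0 n45 = n130 := rfl
def n131 : Q := act 1 n45
theorem D131 : act 1 n45 = n131 := rfl
def n132 : Q := act 3 n45
theorem D132 : act 3 n45 = n132 := rfl
theorem F56 : act 2 n132 = n46 := d7_1 D132 (iv D46) D45
def n133 : Q := act 4 n45
theorem D133 : act 4 n45 = n133 := rfl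
def n134 : Q := act 4 n46
theorem D134 : act 4 n46 = n134 := rfl
theorem F57 : act 0 n134 = n134 := d3_1 D134 (iv D134) F19
theorem F58 : act 3 n134 = n52 := d9_1 D134 (iv D52) (iv D16) (iv D4) D3 D14 D46
def n135 : Q := act 1 n47
theorem D135 : act 1 n47 = n135 := rfl
def n136 : Q := act 3 n47
theorem D136 : act 3 n47 = n136 := rfl
def n137 : Q := act 4 n47
theorem D137 : act 4 n47 = n137 := rfl
theorem F59 : act 0 n137 = n50 := d3_1 D137 (iv D50) D47
def n138 : Q := act 0 n48
theorem D138 : act 0 n48 = n138 := rfl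
def n139 : Q := act 2 n48
theorem D139 : act 2 n48 = n139 := rfl
def n140 : Q := act 3 n48
theorem D140 : act 3 n48 = n140 := rfl
theorem F60 : act 1 n140 = n49 := d5_1 D140 (iv D49) D48
def n141 : Q := act 4 n48
theorem D141 : act 4 n48 = n141 := rfl
theorem F61 : act 1 n141 = n50 := d6_1 D141 (iv D50) D48
def n142 : Q := act 0 n49
theorem D142 : act 0 n49 = n142 := rfl
def n143 : Q := act 4 n49
theorem D143 : act 4 n49 = n143 := rfl
def n144 : Q := act 3 n50
theorem D144 : act 3 n50 = n144 := rfl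
def n145 : Q := act 1 n51
theorem D145 : act 1 n51 = n145 := rfl
def n146 : Q := act 2 n51
theorem D146 : act 2 n51 = n146 := rfl
theorem F62 : act 0 n146 = n136 := d10_3 D16 D51 D146 (iv D136) (iv D47) (iv D15) F2
def n147 : Q := act 4 n51
theorem D147 : act 4 n51 = n147 := rfl
theorem F63 : act 0 n147 = n52 := d3_1 D147 (iv D52) D51
def n148 : Q := act 2 n52
theorem D148 : act 2 n52 = n148 := rfl
def n149 : Q := act 0 n53
theorem D149 : act 0 n53 = n149 := rfl
def n150 : Q := act 1 n53
theorem D150 : act 1 n53 = n150 := rfl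
def n151 : Q := act 3 n53
theorem D151 : act 3 n53 = n151 := rfl
theorem F64 : act 2 n151 = n54 := d7_1 D151 (iv D54) D53
def n152 : Q := act 4 n53
theorem D152 : act 4 n53 = n152 := rfl
def n153 : Q := act 0 n54
theorem D153 : act 0 n54 = n153 := rfl
def n154 : Q := act 4 n54
theorem D154 : act 4 n54 = n154 := rfl
theorem F65 : act 1 n154 = n61 := d6_1 D154 (iv D61) (iv F21)
def n155 : Q := act 2 n55
theorem D155 : act 2 n55 = n155 := rfl
def n156 : Q := act 3 n55
theorem D156 : act 3 n55 = n156 := rfl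
theorem F66 : act 1 n156 = n63 := d5_1 D156 (iv D63) (iv F23)
def n157 : Q := act 1 n56
theorem D157 : act 1 n56 = n157 := rfl
def n158 : Q := act 2 n56
theorem D158 : act 2 n56 = n158 := rfl
theorem F67 : act 0 n158 = n65 := d1_1 D158 (iv D65) (iv D21) (iv D6) D5 D18 D56
def n159 : Q := act 3 n56
theorem D159 : act 3 n56 = n159 := rfl
theorem F68 : act 0 n159 = n77 := d10_1 D159 (iv D77) (iv D25) (iv D7) D5 D18 D56
def n160 : Q := act 4 n56
theorem D160 : act 4 n56 = n160 := rfl
theorem F69 : act 0 n160 = n59 := d3_1 D160 (iv D59) D56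
def n161 : Q := act 0 n57
theorem D161 : act 0 n57 = n161 := rfl
def n162 : Q := act 2 n57
theorem D162 : act 2 n57 = n162 := rfl
def n163 : Q := act 3 n57
theorem D163 : act 3 n57 = n163 := rfl
theorem F70 : act 1 n163 = n58 := d5_1 D163 (iv D58) D57
def n164 : Q := act 4 n57
theorem D164 : act 4 n57 = n164 := rfl
theorem F71 : act 1 n164 = n59 := d6_1 D164 (iv D59) D57
def n165 : Q := act 0 n58
theorem D165 : act 0 n58 = n165 := rfl
def n166 : Q := act 4 n58
theorem D166 : act 4 n58 = n166 := rfl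
def n167 : Q := act 2 n59
theorem D167 : act 2 n59 = n167 := rfl
theorem F72 : act 0 n167 = n74 := d11_3 D18 D59 D167 (iv D74) (iv D24) (iv D6) D5
def n168 : Q := act 3 n59
theorem D168 : act 3 n59 = n168 := rfl
def n169 : Q := act 1 n60
theorem D169 : act 1 n60 = n169 := rfl
def n170 : Q := act 2 n60
theorem D170 : act 2 n60 = n170 := rfl
theorem F73 : act 0 n170 = n66 := d10_3 D19 D60 D170 (iv D66) (iv D21) (iv D6) D5
def n171 : Q := act 3 n60
theorem D171 : act 3 n60 = n171 := rfl
theorem F74 : act 0 n171 = n78 := d2_1 D171 (iv D78) (iv D25) (iv D7) D5 D19 D60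
def n172 : Q := act 4 n60
theorem D172 : act 4 n60 = n172 := rfl
theorem F75 : act 0 n172 = n61 := d3_1 D172 (iv D61) D60
def n173 : Q := act 2 n61
theorem D173 : act 2 n61 = n173 := rfl
def n174 : Q := act 3 n61
theorem D174 : act 3 n61 = n174 := rfl
theorem F76 : act 0 n174 = n81 := d12_3 D19 D61 D174 (iv D81) (iv D26) (iv D7) D5
def n175 : Q := act 0 n62
theorem D175 : act 0 n62 = n175 := rfl
def n176 : Q := act 1 n62
theorem D176 : act 1 n62 = n176 := rfl
def n177 : Q := act 3 n62
theorem D177 : act 3 n62 = n177 := rfl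
theorem F77 : act 2 n177 = n63 := d7_1 D177 (iv D63) D62
def n178 : Q := act 4 n62
theorem D178 : act 4 n62 = n178 := rfl
def n179 : Q := act 0 n63
theorem D179 : act 0 n63 = n179 := rfl
def n180 : Q := act 4 n63
theorem D180 : act 4 n63 = n180 := rfl
def n181 : Q := act 0 n64
theorem D181 : act 0 n64 = n181 := rfl
def n182 : Q := act 2 n64
theorem D182 : act 2 n64 = n182 := rfl
def n183 : Q := act 3 n64
theorem D183 : act 3 n64 = n183 := rfl
theorem F78 : act 1 n183 = n66 := d5_1 D183 (iv D66) D64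
def n184 : Q := act 4 n64
theorem D184 : act 4 n64 = n184 := rfl
theorem F79 : act 1 n184 = n67 := d6_1 D184 (iv D67) D64
def n185 : Q := act 1 n65
theorem D185 : act 1 n65 = n185 := rfl
def n186 : Q := act 3 n65
theorem D186 : act 3 n65 = n186 := rfl
theorem F80 : act 2 n186 = n66 := d7_1 D186 (iv D66) D65
def n187 : Q := act 4 n65
theorem D187 : act 4 n65 = n187 := rfl
theorem F81 : act 2 n187 = n82 := d11_2 D65 D187 (iv D82) (iv D27) (iv D8) D6 D21
def n188 : Q := act 4 n66
theorem D188 : act 4 n66 = n188 := rfl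
def n189 : Q := act 2 n67
theorem D189 : act 2 n67 = n189 := rfl
def n190 : Q := act 3 n67
theorem D190 : act 3 n67 = n190 := rfl
def n191 : Q := act 1 n68
theorem D191 : act 1 n68 = n191 := rfl
theorem F82 : act 2 n191 = n191 := d14_1 D191 (iv D191) (iv D68) (iv D22) (iv D6) (iv D1) F1 D1 D6 D22 D68
def n192 : Q := act 2 n68
theorem D192 : act 2 n68 = n192 := rfl
def n193 : Q := act 3 n68
theorem D193 : act 3 n68 = n193 := rfl
def n194 : Q := act 4 n68
theorem D194 : act 4 n68 = n194 := rfl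
theorem F83 : act 0 n194 = n71 := d3_1 D194 (iv D71) D68
def n195 : Q := act 0 n69
theorem D195 : act 0 n69 = n195 := rfl
def n196 : Q := act 3 n69
theorem D196 : act 3 n69 = n196 := rfl
theorem F84 : act 1 n196 = n103 := d5_1 D196 (iv D103) (iv F26)
theorem F85 : act 2 n196 = n70 := d7_1 D196 (iv D70) D69
def n197 : Q := act 4 n69
theorem D197 : act 4 n69 = n197 := rfl
theorem F86 : act 1 n197 = n104 := d6_1 D197 (iv D104) (iv F26)
def n198 : Q := act 0 n70
theorem D198 : act 0 n70 = n198 := rfl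
def n199 : Q := act 4 n70
theorem D199 : act 4 n70 = n199 := rfl
theorem F87 : act 1 n199 = n73 := d6_1 D199 (iv D73) (iv F27)
def n200 : Q := act 2 n71
theorem D200 : act 2 n71 = n200 := rfl
def n201 : Q := act 3 n71
theorem D201 : act 3 n71 = n201 := rfl
theorem F88 : act 1 n201 = n75 := d5_1 D201 (iv D75) (iv F28)
def n202 : Q := act 1 n72
theorem D202 : act 1 n72 = n202 := rfl
def n203 : Q := act 2 n72
theorem D203 : act 2 n72 = n203 := rfl
def n204 : Q := act 3 n72
theorem D204 : act 3 n72 = n204 := rfl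
def n205 : Q := act 4 n72
theorem D205 : act 4 n72 = n205 := rfl
theorem F89 : act 0 n205 = n73 := d3_1 D205 (iv D73) D72
def n206 : Q := act 2 n73
theorem D206 : act 2 n73 = n206 := rfl
def n207 : Q := act 3 n73
theorem D207 : act 3 n73 = n207 := rfl
def n208 : Q := act 1 n74
theorem D208 : act 1 n74 = n208 := rfl
def n209 : Q := act 3 n74
theorem D209 : act 3 n74 = n209 := rfl
theorem F90 : act 2 n209 = n75 := d7_1 D209 (iv D75) D74
def n210 : Q := act 4 n74
theorem D210 : act 4 n74 = n210 := rfl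
theorem F91 : act 2 n210 = n85 := d8_1 D210 (iv D85) (iv D27) (iv D8) D6 D24 D74
def n211 : Q := act 0 n75
theorem D211 : act 0 n75 = n211 := rfl
def n212 : Q := act 4 n75
theorem D212 : act 4 n75 = n212 := rfl
def n213 : Q := act 0 n76
theorem D213 : act 0 n76 = n213 := rfl
theorem F92 : act 1 n213 = n120 := d0_2 D76 D213 (iv D120) (iv D41) (iv D13) (iv F3) D25
def n214 : Q := act 2 n76
theorem D214 : act 2 n76 = n214 := rfl
def n215 : Q := act 3 n76
theorem D215 : act 3 n76 = n215 := rfl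
theorem F93 : act 1 n215 = n78 := d5_1 D215 (iv D78) D76
def n216 : Q := act 4 n76
theorem D216 : act 4 n76 = n216 := rfl
theorem F94 : act 1 n216 = n79 := d6_1 D216 (iv D79) D76
def n217 : Q := act 1 n77
theorem D217 : act 1 n77 = n217 := rfl
def n218 : Q := act 3 n77
theorem D218 : act 3 n77 = n218 := rfl
theorem F95 : act 2 n218 = n78 := d7_1 D218 (iv D78) D77
def n219 : Q := act 4 n77
theorem D219 : act 4 n77 = n219 := rfl
def n220 : Q := act 4 n78
theorem D220 : act 4 n78 = n220 := rfl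
theorem F96 : act 3 n220 = n86 := d12_2 D78 D220 (iv D86) (iv D28) (iv D8) D7 D25
def n221 : Q := act 2 n79
theorem D221 : act 2 n79 = n221 := rfl
def n222 : Q := act 3 n79
theorem D222 : act 3 n79 = n222 := rfl
def n223 : Q := act 0 n80
theorem D223 : act 0 n80 = n223 := rfl
def n224 : Q := act 1 n80
theorem D224 : act 1 n80 = n224 := rfl
def n225 : Q := act 3 n80
theorem D225 : act 3 n80 = n225 := rfl
theorem F97 : act 2 n225 = n81 := d7_1 D225 (iv D81) D80
def n226 : Q := act 4 n80
theorem D226 : act 4 n80 = n226 := rfl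
def n227 : Q := act 4 n81
theorem D227 : act 4 n81 = n227 := rfl
theorem F98 : act 1 n227 = n134 := d6_1 D227 (iv D134) (iv F30)
theorem F99 : act 3 n227 = n87 := d9_1 D227 (iv D87) (iv D28) (iv D8) D7 D26 D81
def n228 : Q := act 1 n82
theorem D228 : act 1 n82 = n228 := rfl
def n229 : Q := act 3 n82
theorem D229 : act 3 n82 = n229 := rfl
def n230 : Q := act 4 n82
theorem D230 : act 4 n82 = n230 := rfl
theorem F100 : act 0 n230 = n85 := d3_1 D230 (iv D85) D82
def n231 : Q := act 0 n83
theorem D231 : act 0 n83 = n231 := rfl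
def n232 : Q := act 2 n83
theorem D232 : act 2 n83 = n232 := rfl
theorem F101 : act 1 n232 = n139 := d4_1 D232 (iv D139) (iv D48) (iv D15) (iv F4) D27 D83
def n233 : Q := act 3 n83
theorem D233 : act 3 n83 = n233 := rfl
theorem F102 : act 1 n233 = n84 := d5_1 D233 (iv D84) D83
def n234 : Q := act 4 n83
theorem D234 : act 4 n83 = n234 := rfl
theorem F103 : act 1 n234 = n85 := d6_1 D234 (iv D85) D83
def n235 : Q := act 0 n84
theorem D235 : act 0 n84 = n235 := rfl
def n236 : Q := act 4 n84
theorem D236 : act 4 n84 = n236 := rfl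
def n237 : Q := act 3 n85
theorem D237 : act 3 n85 = n237 := rfl
def n238 : Q := act 1 n86
theorem D238 : act 1 n86 = n238 := rfl
def n239 : Q := act 2 n86
theorem D239 : act 2 n86 = n239 := rfl
def n240 : Q := act 4 n86
theorem D240 : act 4 n86 = n240 := rfl
theorem F104 : act 0 n240 = n87 := d3_1 D240 (iv D87) D86
def n241 : Q := act 2 n87
theorem D241 : act 2 n87 = n241 := rfl
def n242 : Q := act 1 n88
theorem D242 : act 1 n88 = n242 := rfl
theorem F105 : act 0 n242 = n98 := d0_1 D242 (iv D98) (iv D33) (iv D10) D9 D29 D88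
def n243 : Q := act 2 n88
theorem D243 : act 2 n88 = n243 := rfl
theorem F106 : act 0 n243 = n157 := d13_1 D243 (iv D157) (iv D56) (iv D18) (iv D5) (iv D1) F1 D2 D9 D29 D88
def n244 : Q := act 3 n88
theorem D244 : act 3 n88 = n244 := rfl
def n245 : Q := act 4 n88
theorem D245 : act 4 n88 = n245 := rfl
theorem F107 : act 0 n245 = n91 := d3_1 D245 (iv D91) D88
def n246 : Q := act 0 n89
theorem D246 : act 0 n89 = n246 := rfl
def n247 : Q := act 1 n89
theorem D247 : act 1 n89 = n247 := rfl
def n248 : Q := act 3 n89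
theorem D248 : act 3 n89 = n248 := rfl
theorem F108 : act 2 n248 = n90 := d7_1 D248 (iv D90) D89
def n249 : Q := act 4 n89
theorem D249 : act 4 n89 = n249 := rfl
def n250 : Q := act 0 n90
theorem D250 : act 0 n90 = n250 := rfl
def n251 : Q := act 4 n90
theorem D251 : act 4 n90 = n251 := rfl
theorem F109 : act 1 n251 = n95 := d6_1 D251 (iv D95) (iv F33)
def n252 : Q := act 2 n91
theorem D252 : act 2 n91 = n252 := rfl
def n253 : Q := act 3 n91
theorem D253 : act 3 n91 = n253 := rfl
theorem F110 : act 1 n253 = n97 := d5_1 D253 (iv D97) (iv F34)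
def n254 : Q := act 0 n92
theorem D254 : act 0 n92 = n254 := rfl
def n255 : Q := act 2 n92
theorem D255 : act 2 n92 = n255 := rfl
def n256 : Q := act 3 n92
theorem D256 : act 3 n92 = n256 := rfl
theorem F111 : act 1 n256 = n93 := d5_1 D256 (iv D93) D92
def n257 : Q := act 4 n92
theorem D257 : act 4 n92 = n257 := rfl
theorem F112 : act 1 n257 = n94 := d6_1 D257 (iv D94) D92
def n258 : Q := act 4 n93
theorem D258 : act 4 n93 = n258 := rfl
def n259 : Q := act 3 n94
theorem D259 : act 3 n94 = n259 := rfl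
theorem F113 : act 2 n259 = n136 := d7_1 D259 (iv D136) (iv F37)
def n260 : Q := act 2 n95
theorem D260 : act 2 n95 = n260 := rfl
def n261 : Q := act 3 n95
theorem D261 : act 3 n95 = n261 := rfl
theorem F114 : act 0 n261 = n114 := d12_3 D31 D95 D261 (iv D114) (iv D38) (iv D11) D9
def n262 : Q := act 1 n96
theorem D262 : act 1 n96 = n262 := rfl
def n263 : Q := act 3 n96
theorem D263 : act 3 n96 = n263 := rfl
theorem F115 : act 2 n263 = n97 := d7_1 D263 (iv D97) D96
def n264 : Q := act 4 n96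
theorem D264 : act 4 n96 = n264 := rfl
theorem F116 : act 0 n264 = n264 := d3_1 D264 (iv D264) F38
theorem F117 : act 2 n264 = n137 := d8_1 D264 (iv D137) (iv F37) (iv D94) (iv D30) D32 D96
def n265 : Q := act 0 n97
theorem D265 : act 0 n97 = n265 := rfl
def n266 : Q := act 4 n97
theorem D266 : act 4 n97 = n266 := rfl
def n267 : Q := act 2 n98
theorem D267 : act 2 n98 = n267 := rfl
def n268 : Q := act 3 n98
theorem D268 : act 3 n98 = n268 := rfl
theorem F118 : act 1 n268 = n100 := d5_1 D268 (iv D100) D98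
def n269 : Q := act 4 n98
theorem D269 : act 4 n98 = n269 := rfl
theorem F119 : act 1 n269 = n101 := d6_1 D269 (iv D101) D98
def n270 : Q := act 0 n99
theorem D270 : act 0 n99 = n270 := rfl
def n271 : Q := act 1 n99
theorem D271 : act 1 n99 = n271 := rfl
def n272 : Q := act 3 n99
theorem D272 : act 3 n99 = n272 := rfl
theorem F120 : act 2 n272 = n100 := d7_1 D272 (iv D100) D99
def n273 : Q := act 4 n99
theorem D273 : act 4 n99 = n273 := rfl
def n274 : Q := act 0 n100
theorem D274 : act 0 n100 = n274 := rfl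
def n275 : Q := act 4 n100
theorem D275 : act 4 n100 = n275 := rfl
def n276 : Q := act 2 n101
theorem D276 : act 2 n101 = n276 := rfl
def n277 : Q := act 3 n101
theorem D277 : act 3 n101 = n277 := rfl
def n278 : Q := act 1 n102
theorem D278 : act 1 n102 = n278 := rfl
def n279 : Q := act 2 n102
theorem D279 : act 2 n102 = n279 := rfl
def n280 : Q := act 3 n102
theorem D280 : act 3 n102 = n280 := rfl
def n281 : Q := act 4 n102
theorem D281 : act 4 n102 = n281 := rfl
theorem F121 : act 0 n281 = n104 := d3_1 D281 (iv D104) D102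
def n282 : Q := act 0 n103
theorem D282 : act 0 n103 = n282 := rfl
def n283 : Q := act 4 n103
theorem D283 : act 4 n103 = n283 := rfl
def n284 : Q := act 2 n104
theorem D284 : act 2 n104 = n284 := rfl
def n285 : Q := act 3 n104
theorem D285 : act 3 n104 = n285 := rfl
def n286 : Q := act 1 n105
theorem D286 : act 1 n105 = n286 := rfl
def n287 : Q := act 2 n105
theorem D287 : act 2 n105 = n287 := rfl
def n288 : Q := act 3 n105
theorem D288 : act 3 n105 = n288 := rfl
def n289 : Q := act 4 n105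
theorem D289 : act 4 n105 = n289 := rfl
theorem F122 : act 0 n289 = n106 := d3_1 D289 (iv D106) D105
def n290 : Q := act 2 n106
theorem D290 : act 2 n106 = n290 := rfl
def n291 : Q := act 3 n106
theorem D291 : act 3 n106 = n291 := rfl
theorem F123 : act 1 n291 = n114 := d5_1 D291 (iv D114) (iv F41)
def n292 : Q := act 0 n107
theorem D292 : act 0 n107 = n292 := rfl
def n293 : Q := act 1 n107
theorem D293 : act 1 n107 = n293 := rfl
def n294 : Q := act 3 n107
theorem D294 : act 3 n107 = n294 := rfl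
theorem F124 : act 2 n294 = n108 := d7_1 D294 (iv D108) D107
def n295 : Q := act 4 n107
theorem D295 : act 4 n107 = n295 := rfl
def n296 : Q := act 0 n108
theorem D296 : act 0 n108 = n296 := rfl
def n297 : Q := act 4 n108
theorem D297 : act 4 n108 = n297 := rfl
theorem F125 : act 1 n297 = n119 := d6_1 D297 (iv D119) (iv F42)
def n298 : Q := act 0 n109
theorem D298 : act 0 n109 = n298 := rfl
def n299 : Q := act 2 n109
theorem D299 : act 2 n109 = n299 := rfl
def n300 : Q := act 3 n109
theorem D300 : act 3 n109 = n300 := rfl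
theorem F126 : act 1 n300 = n111 := d5_1 D300 (iv D111) D109
def n301 : Q := act 4 n109
theorem D301 : act 4 n109 = n301 := rfl
theorem F127 : act 1 n301 = n112 := d6_1 D301 (iv D112) D109
def n302 : Q := act 1 n110
theorem D302 : act 1 n110 = n302 := rfl
def n303 : Q := act 3 n110
theorem D303 : act 3 n110 = n303 := rfl
theorem F128 : act 0 n303 = n303 := d2_1 D303 (iv D303) F43 (iv D93) F11 D93 (iv F43)
theorem F129 : act 2 n303 = n111 := d7_1 D303 (iv D111) D110
def n304 : Q := act 4 n110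
theorem D304 : act 4 n110 = n304 := rfl
theorem F130 : act 0 n304 = n258 := d3_1 D304 (iv D258) (iv F43)
theorem F131 : act 2 n304 = n130 := d11_2 D110 D304 (iv D130) (iv D45) (iv D14) (iv F5) D37
def n305 : Q := act 4 n111
theorem D305 : act 4 n111 = n305 := rfl
theorem F132 : act 3 n305 = n118 := d12_2 D111 D305 (iv D118) (iv D40) (iv D12) D11 D37
def n306 : Q := act 2 n112
theorem D306 : act 2 n112 = n306 := rfl
theorem F133 : act 0 n306 = n260 := d11_3 (iv D110) D112 D306 (iv D260) (iv D95) (iv F35) (iv F43)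
def n307 : Q := act 3 n112
theorem D307 : act 3 n112 = n307 := rfl
def n308 : Q := act 0 n113
theorem D308 : act 0 n113 = n308 := rfl
theorem F134 : act 2 n308 = n126 := d1_2 D113 D308 F52 D260 (iv F133) (iv D306) F44
def n309 : Q := act 1 n113
theorem D309 : act 1 n113 = n309 := rfl
def n310 : Q := act 3 n113
theorem D310 : act 3 n113 = n310 := rfl
theorem F135 : act 2 n310 = n114 := d7_1 D310 (iv D114) D113
theorem F136 : act 0 n310 = n310 := d10_1 D310 F135 (iv F114) (iv D261) (iv F52) (iv F134) (iv D308)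
def n311 : Q := act 4 n113
theorem D311 : act 4 n113 = n311 := rfl
theorem F137 : act 2 n311 = n133 := d8_1 D311 (iv D133) (iv D45) (iv D14) (iv F5) D38 D113
def n312 : Q := act 4 n114
theorem D312 : act 4 n114 = n312 := rfl
theorem F138 : act 3 n312 = n119 := d9_1 D312 (iv D119) (iv D40) (iv D12) D11 D38 D114
def n313 : Q := act 0 n115
theorem D313 : act 0 n115 = n313 := rfl
def n314 : Q := act 2 n115
theorem D314 : act 2 n115 = n314 := rfl
def n315 : Q := act 3 n115
theorem D315 : act 3 n115 = n315 := rfl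
theorem F139 : act 1 n315 = n116 := d5_1 D315 (iv D116) D115
def n316 : Q := act 4 n115
theorem D316 : act 4 n115 = n316 := rfl
theorem F140 : act 1 n316 = n117 := d6_1 D316 (iv D117) D115
def n317 : Q := act 0 n116
theorem D317 : act 0 n116 = n317 := rfl
theorem F141 : act 2 n317 = n265 := d10_2 D116 D317 (iv D265) (iv D97) F12 D39 F15
def n318 : Q := act 4 n116
theorem D318 : act 4 n116 = n318 := rfl
def n319 : Q := act 3 n117
theorem D319 : act 3 n117 = n319 := rfl
theorem F142 : act 2 n319 = n144 := d7_1 D319 (iv D144) (iv F47)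
def n320 : Q := act 1 n118
theorem D320 : act 1 n118 = n320 := rfl
def n321 : Q := act 2 n118
theorem D321 : act 2 n118 = n321 := rfl
theorem F143 : act 0 n321 = n263 := d1_1 D321 F115 D265 (iv F141) (iv D317) F45 D118
def n322 : Q := act 4 n118
theorem D322 : act 4 n118 = n322 := rfl
theorem F144 : act 0 n322 = n119 := d3_1 D322 (iv D119) D118
def n323 : Q := act 2 n119
theorem D323 : act 2 n119 = n323 := rfl
def n324 : Q := act 2 n120
theorem D324 : act 2 n120 = n324 := rfl
def n325 : Q := act 3 n120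
theorem D325 : act 3 n120 = n325 := rfl
def n326 : Q := act 4 n120
theorem D326 : act 4 n120 = n326 := rfl
theorem F145 : act 0 n326 = n123 := d3_1 D326 (iv D123) D120
def n327 : Q := act 0 n121
theorem D327 : act 0 n121 = n327 := rfl
def n328 : Q := act 1 n121
theorem D328 : act 1 n121 = n328 := rfl
def n329 : Q := act 3 n121
theorem D329 : act 3 n121 = n329 := rfl
theorem F146 : act 2 n329 = n122 := d7_1 D329 (iv D122) D121
def n330 : Q := act 4 n121
theorem D330 : act 4 n121 = n330 := rfl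
def n331 : Q := act 0 n122
theorem D331 : act 0 n122 = n331 := rfl
def n332 : Q := act 4 n122
theorem D332 : act 4 n122 = n332 := rfl
theorem F147 : act 1 n332 = n127 := d6_1 D332 (iv D127) (iv F48)
theorem F148 : act 3 n145 = n332 := d5_0 F147 F54 D145
def n333 : Q := act 2 n123
theorem D333 : act 2 n123 = n333 := rfl
def n334 : Q := act 3 n123
theorem D334 : act 3 n123 = n334 := rfl
theorem F149 : act 1 n334 = n129 := d5_1 D334 (iv D129) (iv F49)
def n335 : Q := act 0 n124
theorem D335 : act 0 n124 = n335 := rfl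
def n336 : Q := act 2 n124
theorem D336 : act 2 n124 = n336 := rfl
def n337 : Q := act 3 n124
theorem D337 : act 3 n124 = n337 := rfl
theorem F150 : act 1 n337 = n125 := d5_1 D337 (iv D125) D124
def n338 : Q := act 4 n124
theorem D338 : act 4 n124 = n338 := rfl
theorem F151 : act 1 n338 = n126 := d6_1 D338 (iv D126) D124
def n339 : Q := act 4 n125
theorem D339 : act 4 n125 = n339 := rfl
theorem F152 : act 0 n339 = n305 := d3_1 D339 (iv D305) (iv F50)
theorem F153 : act 3 n339 = n265 := d12_2 D125 D339 (iv D265) (iv D97) (iv D32) D31 (iv F16)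
def n340 : Q := act 3 n126
theorem D340 : act 3 n126 = n340 := rfl
theorem F154 : act 0 n340 = n307 := d2_1 D340 (iv D307) F44 D114 (iv F114) (iv D261) (iv F52)
def n341 : Q := act 2 n127
theorem D341 : act 2 n127 = n341 := rfl
theorem F155 : act 3 n341 = n146 := d7_2 (iv F54) D341 (iv D146)
def n342 : Q := act 0 n128
theorem D342 : act 0 n128 = n342 := rfl
theorem F156 : act 2 n342 = n258 := d1_2 D128 D342 (iv F130) F131 (iv D130) (iv D45) (iv F18)
def n343 : Q := act 1 n128
theorem D343 : act 1 n128 = n343 := rfl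
def n344 : Q := act 3 n128
theorem D344 : act 3 n128 = n344 := rfl
theorem F157 : act 2 n344 = n129 := d7_1 D344 (iv D129) D128
def n345 : Q := act 4 n128
theorem D345 : act 4 n128 = n345 := rfl
def n346 : Q := act 4 n129
theorem D346 : act 4 n129 = n346 := rfl
theorem F158 : act 0 n346 = n346 := d3_1 D346 (iv D346) F55
theorem F159 : act 3 n346 = n147 := d9_1 D346 (iv D147) (iv F54) (iv D127) (iv D43) D44 D129
def n347 : Q := act 1 n130
theorem D347 : act 1 n130 = n347 := rfl
def n348 : Q := act 3 n130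
theorem D348 : act 3 n130 = n348 := rfl
theorem F160 : act 0 n348 = n344 := d10_1 D348 F157 F55 (iv D129) F18 D45 D130
def n349 : Q := act 4 n130
theorem D349 : act 4 n130 = n349 := rfl
theorem F161 : act 0 n349 = n133 := d3_1 D349 (iv D133) D130
def n350 : Q := act 0 n131
theorem D350 : act 0 n131 = n350 := rfl
def n351 : Q := act 2 n131
theorem D351 : act 2 n131 = n351 := rfl
def n352 : Q := act 3 n131
theorem D352 : act 3 n131 = n352 := rfl
theorem F162 : act 1 n352 = n132 := d5_1 D352 (iv D132) D131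
def n353 : Q := act 4 n131
theorem D353 : act 4 n131 = n353 := rfl
theorem F163 : act 1 n353 = n133 := d6_1 D353 (iv D133) D131
def n354 : Q := act 0 n132
theorem D354 : act 0 n132 = n354 := rfl
theorem F164 : act 3 n354 = n342 := d2_2 D132 D354 (iv D342) D344 (iv F160) (iv D348) (iv D130)
def n355 : Q := act 4 n132
theorem D355 : act 4 n132 = n355 := rfl
def n356 : Q := act 3 n133
theorem D356 : act 3 n133 = n356 := rfl
def n357 : Q := act 2 n134
theorem D357 : act 2 n134 = n357 := rfl
theorem F165 : act 3 n357 = n148 := d7_2 (iv F58) D357 (iv D148)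
def n358 : Q := act 0 n135
theorem D358 : act 0 n135 = n358 := rfl
def n359 : Q := act 2 n135
theorem D359 : act 2 n135 = n359 := rfl
def n360 : Q := act 3 n135
theorem D360 : act 3 n135 = n360 := rfl
theorem F166 : act 1 n360 = n136 := d5_1 D360 (iv D136) D135
def n361 : Q := act 4 n135
theorem D361 : act 4 n135 = n361 := rfl
theorem F167 : act 1 n361 = n137 := d6_1 D361 (iv D137) D135
def n362 : Q := act 4 n136
theorem D362 : act 4 n136 = n362 := rfl
def n363 : Q := act 3 n137
theorem D363 : act 3 n137 = n363 := rfl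
def n364 : Q := act 1 n138
theorem D364 : act 1 n138 = n364 := rfl
def n365 : Q := act 2 n138
theorem D365 : act 2 n138 = n365 := rfl
def n366 : Q := act 3 n138
theorem D366 : act 3 n138 = n366 := rfl
def n367 : Q := act 4 n138
theorem D367 : act 4 n138 = n367 := rfl
theorem F168 : act 0 n367 = n141 := d3_1 D367 (iv D141) D138
def n368 : Q := act 0 n139
theorem D368 : act 0 n139 = n368 := rfl
def n369 : Q := act 3 n139
theorem D369 : act 3 n139 = n369 := rfl
theorem F169 : act 2 n369 = n140 := d7_1 D369 (iv D140) D139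
def n370 : Q := act 4 n139
theorem D370 : act 4 n139 = n370 := rfl
def n371 : Q := act 0 n140
theorem D371 : act 0 n140 = n371 := rfl
def n372 : Q := act 4 n140
theorem D372 : act 4 n140 = n372 := rfl
theorem F170 : act 1 n372 = n143 := d6_1 D372 (iv D143) (iv F60)
def n373 : Q := act 2 n141
theorem D373 : act 2 n141 = n373 := rfl
def n374 : Q := act 3 n141
theorem D374 : act 3 n141 = n374 := rfl
theorem F171 : act 1 n374 = n144 := d5_1 D374 (iv D144) (iv F61)
def n375 : Q := act 1 n142
theorem D375 : act 1 n142 = n375 := rfl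
def n376 : Q := act 2 n142
theorem D376 : act 2 n142 = n376 := rfl
theorem F172 : act 0 n376 = n259 := d1_1 D376 F113 (iv F62) (iv D146) (iv D51) (iv F20) D142
def n377 : Q := act 3 n142
theorem D377 : act 3 n142 = n377 := rfl
theorem F173 : act 0 n377 = n341 := d2_1 D377 F155 F62 (iv D136) (iv D47) D49 D142
def n378 : Q := act 4 n142
theorem D378 : act 4 n142 = n378 := rfl
theorem F174 : act 0 n378 = n143 := d3_1 D378 (iv D143) D142
def n379 : Q := act 2 n143
theorem D379 : act 2 n143 = n379 := rfl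
def n380 : Q := act 3 n143
theorem D380 : act 3 n143 = n380 := rfl
def n381 : Q := act 0 n144
theorem D381 : act 0 n144 = n381 := rfl
def n382 : Q := act 4 n144
theorem D382 : act 4 n144 = n382 := rfl
def n383 : Q := act 0 n145
theorem D383 : act 0 n145 = n383 := rfl
def n384 : Q := act 2 n145
theorem D384 : act 2 n145 = n384 := rfl
def n385 : Q := act 4 n145
theorem D385 : act 4 n145 = n385 := rfl
theorem F175 : act 1 n385 = n147 := d6_1 D385 (iv D147) D145
def n386 : Q := act 1 n146
theorem D386 : act 1 n146 = n386 := rfl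
def n387 : Q := act 4 n146
theorem D387 : act 4 n146 = n387 := rfl
theorem F176 : act 0 n387 = n362 := d3_1 D387 (iv D362) (iv F62)
def n388 : Q := act 2 n147
theorem D388 : act 2 n147 = n388 := rfl
def n389 : Q := act 0 n148
theorem D389 : act 0 n148 = n389 := rfl
def n390 : Q := act 1 n148
theorem D390 : act 1 n148 = n390 := rfl
def n391 : Q := act 4 n148
theorem D391 : act 4 n148 = n391 := rfl
def n392 : Q := act 1 n149
theorem D392 : act 1 n149 = n392 := rfl
def n393 : Q := act 2 n149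
theorem D393 : act 2 n149 = n393 := rfl
theorem F177 : act 0 n393 = n393 := d1_1 D393 (iv D393) (iv D149) (iv D53) F6 D53 D149
theorem F178 : act 1 n393 = n254 := d15_3 D53 D149 D393 (iv D254) (iv D92) (iv D30) (iv D9) (iv D2) D1 D5 D17 F6
def n394 : Q := act 3 n149
theorem D394 : act 3 n149 = n394 := rfl
def n395 : Q := act 4 n149
theorem D395 : act 4 n149 = n395 := rfl
theorem F179 : act 0 n395 = n152 := d3_1 D395 (iv D152) D149
def n396 : Q := act 0 n150
theorem D396 : act 0 n150 = n396 := rfl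
theorem F180 : act 1 n396 = n267 := d14_4 D17 D53 D150 D396 (iv D267) (iv D98) (iv D33) (iv D10) (iv D2) D1 D5
def n397 : Q := act 2 n150
theorem D397 : act 2 n150 = n397 := rfl
theorem F181 : act 1 n397 = n162 := d4_1 D397 (iv D162) (iv D57) (iv D18) D17 D53 D150
def n398 : Q := act 3 n150
theorem D398 : act 3 n150 = n398 := rfl
theorem F182 : act 1 n398 = n151 := d5_1 D398 (iv D151) D150
def n399 : Q := act 4 n150
theorem D399 : act 4 n150 = n399 := rfl
theorem F183 : act 1 n399 = n152 := d6_1 D399 (iv D152) D150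
def n400 : Q := act 0 n151
theorem D400 : act 0 n151 = n400 := rfl
def n401 : Q := act 4 n151
theorem D401 : act 4 n151 = n401 := rfl
def n402 : Q := act 2 n152
theorem D402 : act 2 n152 = n402 := rfl
theorem F184 : act 0 n402 = n402 := d11_3 D53 D152 D402 (iv D402) (iv D152) (iv D53) F6
def n403 : Q := act 3 n152
theorem D403 : act 3 n152 = n403 := rfl
def n404 : Q := act 1 n153
theorem D404 : act 1 n153 = n404 := rfl
def n405 : Q := act 2 n153
theorem D405 : act 2 n153 = n405 := rfl
theorem F185 : act 0 n405 = n394 := d10_3 D54 D153 D405 (iv D394) (iv D149) (iv D53) F6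
def n406 : Q := act 3 n153
theorem D406 : act 3 n153 = n406 := rfl
theorem F186 : act 0 n406 = n406 := d2_1 D406 (iv D406) (iv D153) (iv D54) F6 D54 D153
def n407 : Q := act 4 n153
theorem D407 : act 4 n153 = n407 := rfl
theorem F187 : act 0 n407 = n154 := d3_1 D407 (iv D154) D153
def n408 : Q := act 2 n154
theorem D408 : act 2 n154 = n408 := rfl
def n409 : Q := act 3 n154
theorem D409 : act 3 n154 = n409 := rfl
theorem F188 : act 1 n409 = n174 := d5_1 D409 (iv D174) (iv F65)
theorem F189 : act 0 n409 = n409 := d12_3 D54 D154 D409 (iv D409) (iv D154) (iv D54) F6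
def n410 : Q := act 0 n155
theorem D410 : act 0 n155 = n410 := rfl
def n411 : Q := act 1 n155
theorem D411 : act 1 n155 = n411 := rfl
def n412 : Q := act 3 n155
theorem D412 : act 3 n155 = n412 := rfl
theorem F190 : act 2 n412 = n156 := d7_1 D412 (iv D156) D155
def n413 : Q := act 4 n155
theorem D413 : act 4 n155 = n413 := rfl
def n414 : Q := act 0 n156
theorem D414 : act 0 n156 = n414 := rfl
def n415 : Q := act 4 n156
theorem D415 : act 4 n156 = n415 := rfl
theorem F191 : act 1 n415 = n180 := d6_1 D415 (iv D180) (iv F66)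
def n416 : Q := act 2 n157
theorem D416 : act 2 n157 = n416 := rfl
def n417 : Q := act 3 n157
theorem D417 : act 3 n157 = n417 := rfl
theorem F192 : act 1 n417 = n159 := d5_1 D417 (iv D159) D157
def n418 : Q := act 4 n157
theorem D418 : act 4 n157 = n418 := rfl
theorem F193 : act 1 n418 = n160 := d6_1 D418 (iv D160) D157
def n419 : Q := act 1 n158
theorem D419 : act 1 n158 = n419 := rfl
theorem F194 : act 0 n419 = n185 := d15_4 D18 D56 D158 D419 (iv D185) (iv D65) (iv D21) (iv D6) (iv D1) F1 D1 D5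
def n420 : Q := act 3 n158
theorem D420 : act 3 n158 = n420 := rfl
theorem F195 : act 2 n420 = n159 := d7_1 D420 (iv D159) D158
theorem F196 : act 0 n420 = n203 := d10_1 D420 (iv D203) (iv D72) (iv D23) D21 D65 (iv F67)
def n421 : Q := act 4 n158
theorem D421 : act 4 n158 = n421 := rfl
theorem F197 : act 0 n421 = n187 := d3_1 D421 (iv D187) (iv F67)
theorem F198 : act 2 n421 = n175 := d11_2 D158 D421 (iv D175) (iv D62) (iv D20) D18 D56
def n422 : Q := act 4 n159
theorem D422 : act 4 n159 = n422 := rfl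
theorem F199 : act 0 n422 = n219 := d3_1 D422 (iv D219) (iv F68)
def n423 : Q := act 2 n160
theorem D423 : act 2 n160 = n423 := rfl
theorem F200 : act 0 n423 = n189 := d1_1 D423 (iv D189) F25 D74 (iv F72) (iv D167) (iv F69)
def n424 : Q := act 3 n160
theorem D424 : act 3 n160 = n424 := rfl
def n425 : Q := act 1 n161
theorem D425 : act 1 n161 = n425 := rfl
theorem F201 : act 2 n425 = n425 := d14_1 D425 (iv D425) (iv D161) (iv D57) (iv D18) D17 F6 (iv D17) D18 D57 D161
def n426 : Q := act 2 n161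
theorem D426 : act 2 n161 = n426 := rfl
def n427 : Q := act 3 n161
theorem D427 : act 3 n161 = n427 := rfl
def n428 : Q := act 4 n161
theorem D428 : act 4 n161 = n428 := rfl
theorem F202 : act 0 n428 = n164 := d3_1 D428 (iv D164) D161
def n429 : Q := act 0 n162
theorem D429 : act 0 n162 = n429 := rfl
def n430 : Q := act 3 n162
theorem D430 : act 3 n162 = n430 := rfl
theorem F203 : act 2 n430 = n163 := d7_1 D430 (iv D163) D162
def n431 : Q := act 4 n162
theorem D431 : act 4 n162 = n431 := rfl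
def n432 : Q := act 0 n163
theorem D432 : act 0 n163 = n432 := rfl
def n433 : Q := act 4 n163
theorem D433 : act 4 n163 = n433 := rfl
theorem F204 : act 1 n433 = n166 := d6_1 D433 (iv D166) (iv F70)
def n434 : Q := act 2 n164
theorem D434 : act 2 n164 = n434 := rfl
def n435 : Q := act 3 n164
theorem D435 : act 3 n164 = n435 := rfl
theorem F205 : act 1 n435 = n168 := d5_1 D435 (iv D168) (iv F71)
def n436 : Q := act 1 n165
theorem D436 : act 1 n165 = n436 := rfl
def n437 : Q := act 2 n165
theorem D437 : act 2 n165 = n437 := rfl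
theorem F206 : act 0 n437 = n186 := d1_1 D437 F80 (iv F73) (iv D170) (iv D60) (iv F24) D165
def n438 : Q := act 3 n165
theorem D438 : act 3 n165 = n438 := rfl
theorem F207 : act 0 n438 = n218 := d2_1 D438 (iv D218) (iv F68) (iv D159) (iv D56) D58 D165
def n439 : Q := act 4 n165
theorem D439 : act 4 n165 = n439 := rfl
theorem F208 : act 0 n439 = n166 := d3_1 D439 (iv D166) D165
def n440 : Q := act 2 n166
theorem D440 : act 2 n166 = n440 := rfl
def n441 : Q := act 3 n166
theorem D441 : act 3 n166 = n441 := rfl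
def n442 : Q := act 1 n167
theorem D442 : act 1 n167 = n442 := rfl
def n443 : Q := act 3 n167
theorem D443 : act 3 n167 = n443 := rfl
theorem F209 : act 2 n443 = n168 := d7_1 D443 (iv D168) D167
def n444 : Q := act 4 n167
theorem D444 : act 4 n167 = n444 := rfl
theorem F210 : act 0 n444 = n210 := d3_1 D444 (iv D210) (iv F72)
theorem F211 : act 2 n444 = n178 := d8_1 D444 (iv D178) (iv D62) (iv D20) D18 D59 D167
def n445 : Q := act 0 n168
theorem D445 : act 0 n168 = n445 := rfl
def n446 : Q := act 4 n168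
theorem D446 : act 4 n168 = n446 := rfl
def n447 : Q := act 0 n169
theorem D447 : act 0 n169 = n447 := rfl
def n448 : Q := act 2 n169
theorem D448 : act 2 n169 = n448 := rfl
def n449 : Q := act 3 n169
theorem D449 : act 3 n169 = n449 := rfl
theorem F212 : act 1 n449 = n171 := d5_1 D449 (iv D171) D169
def n450 : Q := act 4 n169
theorem D450 : act 4 n169 = n450 := rfl
theorem F213 : act 1 n450 = n172 := d6_1 D450 (iv D172) D169
def n451 : Q := act 1 n170
theorem D451 : act 1 n170 = n451 := rfl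
def n452 : Q := act 3 n170
theorem D452 : act 3 n170 = n452 := rfl
theorem F214 : act 0 n452 = n204 := d2_1 D452 (iv D204) (iv D72) (iv D23) D21 D66 (iv F73)
theorem F215 : act 2 n452 = n171 := d7_1 D452 (iv D171) D170
def n453 : Q := act 4 n170
theorem D453 : act 4 n170 = n453 := rfl
theorem F216 : act 0 n453 = n188 := d3_1 D453 (iv D188) (iv F73)
def n454 : Q := act 4 n171
theorem D454 : act 4 n171 = n454 := rfl
theorem F217 : act 0 n454 = n220 := d3_1 D454 (iv D220) (iv F74)
theorem F218 : act 3 n454 = n179 := d12_2 D171 D454 (iv D179) (iv D63) (iv D20) D19 D60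
def n455 : Q := act 2 n172
theorem D455 : act 2 n172 = n455 := rfl
def n456 : Q := act 3 n172
theorem D456 : act 3 n172 = n456 := rfl
theorem F219 : act 0 n456 = n222 := d2_1 D456 (iv D222) F29 D81 (iv F76) (iv D174) (iv F75)
def n457 : Q := act 0 n173
theorem D457 : act 0 n173 = n457 := rfl
def n458 : Q := act 1 n173
theorem D458 : act 1 n173 = n458 := rfl
def n459 : Q := act 3 n173
theorem D459 : act 3 n173 = n459 := rfl
theorem F220 : act 2 n459 = n174 := d7_1 D459 (iv D174) D173
def n460 : Q := act 4 n173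
theorem D460 : act 4 n173 = n460 := rfl
def n461 : Q := act 4 n174
theorem D461 : act 4 n174 = n461 := rfl
theorem F221 : act 0 n461 = n227 := d3_1 D461 (iv D227) (iv F76)
theorem F222 : act 3 n461 = n180 := d9_1 D461 (iv D180) (iv D63) (iv D20) D19 D61 D174
def n462 : Q := act 1 n175
theorem D462 : act 1 n175 = n462 := rfl
def n463 : Q := act 3 n175
theorem D463 : act 3 n175 = n463 := rfl
theorem F223 : act 0 n463 = n239 := d10_1 D463 (iv D239) (iv D86) (iv D28) (iv F7) D62 D175
def n464 : Q := act 4 n175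
theorem D464 : act 4 n175 = n464 := rfl
theorem F224 : act 0 n464 = n178 := d3_1 D464 (iv D178) D175
def n465 : Q := act 0 n176
theorem D465 : act 0 n176 = n465 := rfl
def n466 : Q := act 2 n176
theorem D466 : act 2 n176 = n466 := rfl
def n467 : Q := act 3 n176
theorem D467 : act 3 n176 = n467 := rfl
theorem F225 : act 1 n467 = n177 := d5_1 D467 (iv D177) D176
def n468 : Q := act 4 n176
theorem D468 : act 4 n176 = n468 := rfl
theorem F226 : act 1 n468 = n178 := d6_1 D468 (iv D178) D176
def n469 : Q := act 0 n177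
theorem D469 : act 0 n177 = n469 := rfl
def n470 : Q := act 4 n177
theorem D470 : act 4 n177 = n470 := rfl
def n471 : Q := act 3 n178
theorem D471 : act 3 n178 = n471 := rfl
def n472 : Q := act 1 n179
theorem D472 : act 1 n179 = n472 := rfl
def n473 : Q := act 2 n179
theorem D473 : act 2 n179 = n473 := rfl
theorem F227 : act 0 n473 = n229 := d10_3 D63 D179 D473 (iv D229) (iv D82) (iv D27) (iv F7)
def n474 : Q := act 4 n179
theorem D474 : act 4 n179 = n474 := rfl
theorem F228 : act 0 n474 = n180 := d3_1 D474 (iv D180) D179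
def n475 : Q := act 2 n180
theorem D475 : act 2 n180 = n475 := rfl
def n476 : Q := act 1 n181
theorem D476 : act 1 n181 = n476 := rfl
theorem F229 : act 0 n476 = n191 := d0_1 D476 (iv D191) (iv D68) (iv D22) D21 D64 D181
def n477 : Q := act 2 n181
theorem D477 : act 2 n181 = n477 := rfl
theorem F230 : act 0 n477 = n392 := d13_1 D477 (iv D392) (iv D149) (iv D53) F6 (iv D17) (iv D5) D6 D21 D64 D181
def n478 : Q := act 3 n181
theorem D478 : act 3 n181 = n478 := rfl
def n479 : Q := act 4 n181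
theorem D479 : act 4 n181 = n479 := rfl
theorem F231 : act 0 n479 = n184 := d3_1 D479 (iv D184) D181
def n480 : Q := act 0 n182
theorem D480 : act 0 n182 = n480 := rfl
theorem F232 : act 1 n480 = n480 := d13_2 D182 D480 (iv D480) (iv D182) D181 D476 F229 F82 (iv F229) (iv D476) (iv D181)
def n481 : Q := act 1 n182
theorem D481 : act 1 n182 = n481 := rfl
def n482 : Q := act 3 n182
theorem D482 : act 3 n182 = n482 := rfl
theorem F233 : act 2 n482 = n183 := d7_1 D482 (iv D183) D182
def n483 : Q := act 4 n182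
theorem D483 : act 4 n182 = n483 := rfl
def n484 : Q := act 0 n183
theorem D484 : act 0 n183 = n484 := rfl
def n485 : Q := act 4 n183
theorem D485 : act 4 n183 = n485 := rfl
theorem F234 : act 1 n485 = n188 := d6_1 D485 (iv D188) (iv F78)
def n486 : Q := act 2 n184
theorem D486 : act 2 n184 = n486 := rfl
def n487 : Q := act 3 n184
theorem D487 : act 3 n184 = n487 := rfl
theorem F235 : act 1 n487 = n190 := d5_1 D487 (iv D190) (iv F79)
def n488 : Q := act 2 n185
theorem D488 : act 2 n185 = n488 := rfl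
def n489 : Q := act 3 n185
theorem D489 : act 3 n185 = n489 := rfl
theorem F236 : act 1 n489 = n186 := d5_1 D489 (iv D186) D185
def n490 : Q := act 4 n185
theorem D490 : act 4 n185 = n490 := rfl
theorem F237 : act 1 n490 = n187 := d6_1 D490 (iv D187) D185
def n491 : Q := act 4 n186
theorem D491 : act 4 n186 = n491 := rfl
def n492 : Q := act 3 n187
theorem D492 : act 3 n187 = n492 := rfl
theorem F238 : act 2 n492 = n229 := d7_1 D492 (iv D229) (iv F81)
def n493 : Q := act 2 n188
theorem D493 : act 2 n188 = n493 := rfl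
def n494 : Q := act 3 n188
theorem D494 : act 3 n188 = n494 := rfl
theorem F239 : act 0 n494 = n207 := d12_3 D66 D188 D494 (iv D207) (iv D73) (iv D23) D21
def n495 : Q := act 1 n189
theorem D495 : act 1 n189 = n495 := rfl
def n496 : Q := act 3 n189
theorem D496 : act 3 n189 = n496 := rfl
theorem F240 : act 2 n496 = n190 := d7_1 D496 (iv D190) D189
def n497 : Q := act 4 n189
theorem D497 : act 4 n189 = n497 := rfl
theorem F241 : act 2 n497 = n230 := d8_1 D497 (iv D230) (iv F81) (iv D187) (iv D65) D67 D189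
def n498 : Q := act 0 n190
theorem D498 : act 0 n190 = n498 := rfl
def n499 : Q := act 4 n190
theorem D499 : act 4 n190 = n499 := rfl
def n500 : Q := act 3 n191
theorem D500 : act 3 n191 = n500 := rfl
theorem F242 : act 1 n500 = n193 := d5_1 D500 (iv D193) D191
theorem F243 : act 2 n500 = n500 := d7_1 D500 (iv D500) F82
def n501 : Q := act 4 n191
theorem D501 : act 4 n191 = n501 := rfl
theorem F244 : act 1 n501 = n194 := d6_1 D501 (iv D194) D191
def n502 : Q := act 0 n192
theorem D502 : act 0 n192 = n502 := rfl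
def n503 : Q := act 1 n192
theorem D503 : act 1 n192 = n503 := rfl
theorem F245 : act 2 n503 = n503 := d4_2 D192 D503 (iv D503) (iv D192) D191 F82 (iv D191)
def n504 : Q := act 3 n192
theorem D504 : act 3 n192 = n504 := rfl
theorem F246 : act 2 n504 = n193 := d7_1 D504 (iv D193) D192
def n505 : Q := act 4 n192
theorem D505 : act 4 n192 = n505 := rfl
def n506 : Q := act 0 n193
theorem D506 : act 0 n193 = n506 := rfl
theorem F247 : act 3 n506 = n328 := d16_2 D193 D506 (iv D328) (iv D121) (iv D41) (iv D13) (iv D3) F1 D1 D6 D22 D68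
theorem F248 : act 1 n506 = n329 := d16_9 (iv D43) (iv D13) (iv D3) D1 D6 D22 D68 D193 D506 F146 F48 F17
def n507 : Q := act 4 n193
theorem D507 : act 4 n193 = n507 := rfl
def n508 : Q := act 2 n194
theorem D508 : act 2 n194 = n508 := rfl
def n509 : Q := act 3 n194
theorem D509 : act 3 n194 = n509 := rfl
def n510 : Q := act 1 n195
theorem D510 : act 1 n195 = n510 := rfl
def n511 : Q := act 2 n195
theorem D511 : act 2 n195 = n511 := rfl
def n512 : Q := act 3 n195
theorem D512 : act 3 n195 = n512 := rfl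
def n513 : Q := act 4 n195
theorem D513 : act 4 n195 = n513 := rfl
theorem F249 : act 0 n513 = n197 := d3_1 D513 (iv D197) D195
def n514 : Q := act 0 n196
theorem D514 : act 0 n196 = n514 := rfl
def n515 : Q := act 4 n196
theorem D515 : act 4 n196 = n515 := rfl
theorem F250 : act 1 n515 = n283 := d6_1 D515 (iv D283) (iv F84)
def n516 : Q := act 2 n197
theorem D516 : act 2 n197 = n516 := rfl
def n517 : Q := act 3 n197
theorem D517 : act 3 n197 = n517 := rfl
theorem F251 : act 1 n517 = n285 := d5_1 D517 (iv D285) (iv F86)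
def n518 : Q := act 1 n198
theorem D518 : act 1 n198 = n518 := rfl
def n519 : Q := act 2 n198
theorem D519 : act 2 n198 = n519 := rfl
def n520 : Q := act 3 n198
theorem D520 : act 3 n198 = n520 := rfl
theorem F252 : act 0 n520 = n328 := d2_1 D520 (iv F247) (iv D506) (iv D193) (iv D68) D70 D198
def n521 : Q := act 4 n198
theorem D521 : act 4 n198 = n521 := rfl
theorem F253 : act 0 n521 = n199 := d3_1 D521 (iv D199) D198
def n522 : Q := act 2 n199
theorem D522 : act 2 n199 = n522 := rfl
def n523 : Q := act 3 n199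
theorem D523 : act 3 n199 = n523 := rfl
theorem F254 : act 1 n523 = n207 := d5_1 D523 (iv D207) (iv F87)
def n524 : Q := act 0 n200
theorem D524 : act 0 n200 = n524 := rfl
def n525 : Q := act 1 n200
theorem D525 : act 1 n200 = n525 := rfl
def n526 : Q := act 3 n200
theorem D526 : act 3 n200 = n526 := rfl
theorem F255 : act 2 n526 = n201 := d7_1 D526 (iv D201) D200
def n527 : Q := act 4 n200
theorem D527 : act 4 n200 = n527 := rfl
def n528 : Q := act 0 n201
theorem D528 : act 0 n201 = n528 := rfl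
def n529 : Q := act 4 n201
theorem D529 : act 4 n201 = n529 := rfl
theorem F256 : act 1 n529 = n212 := d6_1 D529 (iv D212) (iv F88)
def n530 : Q := act 0 n202
theorem D530 : act 0 n202 = n530 := rfl
def n531 : Q := act 2 n202
theorem D531 : act 2 n202 = n531 := rfl
def n532 : Q := act 3 n202
theorem D532 : act 3 n202 = n532 := rfl
theorem F257 : act 1 n532 = n204 := d5_1 D532 (iv D204) D202
def n533 : Q := act 4 n202
theorem D533 : act 4 n202 = n533 := rfl
theorem F258 : act 1 n533 = n205 := d6_1 D533 (iv D205) D202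
def n534 : Q := act 1 n203
theorem D534 : act 1 n203 = n534 := rfl
def n535 : Q := act 3 n203
theorem D535 : act 3 n203 = n535 := rfl
theorem F259 : act 2 n535 = n204 := d7_1 D535 (iv D204) D203
def n536 : Q := act 4 n203
theorem D536 : act 4 n203 = n536 := rfl
theorem F260 : act 2 n536 = n223 := d11_2 D203 D536 (iv D223) (iv D80) (iv D26) (iv F8) D72
def n537 : Q := act 4 n204
theorem D537 : act 4 n204 = n537 := rfl
theorem F261 : act 3 n537 = n211 := d12_2 D204 D537 (iv D211) (iv D75) (iv D24) D23 D72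
def n538 : Q := act 2 n205
theorem D538 : act 2 n205 = n538 := rfl
def n539 : Q := act 3 n205
theorem D539 : act 3 n205 = n539 := rfl
def n540 : Q := act 0 n206
theorem D540 : act 0 n206 = n540 := rfl
theorem F262 : act 2 n540 = n219 := d11_4 (iv F8) D73 D206 D540 (iv D219) (iv D77) (iv D25)
def n541 : Q := act 1 n206
theorem D541 : act 1 n206 = n541 := rfl
def n542 : Q := act 3 n206
theorem D542 : act 3 n206 = n542 := rfl
theorem F263 : act 2 n542 = n207 := d7_1 D542 (iv D207) D206
def n543 : Q := act 4 n206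
theorem D543 : act 4 n206 = n543 := rfl
theorem F264 : act 2 n543 = n226 := d8_1 D543 (iv D226) (iv D80) (iv D26) (iv F8) D73 D206
def n544 : Q := act 4 n207
theorem D544 : act 4 n207 = n544 := rfl
theorem F265 : act 3 n544 = n212 := d9_1 D544 (iv D212) (iv D75) (iv D24) D23 D73 D207
def n545 : Q := act 0 n208
theorem D545 : act 0 n208 = n545 := rfl
theorem F266 : act 1 n545 = n210 := d17_7 (iv D4) D1 D6 D24 D74 D208 D545 F91 (iv D85) (iv D27) F4 F2
theorem F267 : act 4 n545 = n208 := d17_0 (iv D208) (iv D74) (iv D24) (iv D6) (iv D1) F1 D1 D6 D24 D74 D208 D545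
def n546 : Q := act 2 n208
theorem D546 : act 2 n208 = n546 := rfl
def n547 : Q := act 3 n208
theorem D547 : act 3 n208 = n547 := rfl
theorem F268 : act 1 n547 = n209 := d5_1 D547 (iv D209) D208
def n548 : Q := act 0 n209
theorem D548 : act 0 n209 = n548 := rfl
def n549 : Q := act 4 n209
theorem D549 : act 4 n209 = n549 := rfl
def n550 : Q := act 3 n210
theorem D550 : act 3 n210 = n550 := rfl
theorem F269 : act 2 n550 = n237 := d7_1 D550 (iv D237) (iv F91)
def n551 : Q := act 1 n211
theorem D551 : act 1 n211 = n551 := rfl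
def n552 : Q := act 2 n211
theorem D552 : act 2 n211 = n552 := rfl
def n553 : Q := act 4 n211
theorem D553 : act 4 n211 = n553 := rfl
theorem F270 : act 0 n553 = n212 := d3_1 D553 (iv D212) D211
def n554 : Q := act 2 n212
theorem D554 : act 2 n212 = n554 := rfl
def n555 : Q := act 2 n213
theorem D555 : act 2 n213 = n555 := rfl
def n556 : Q := act 3 n213
theorem D556 : act 3 n213 = n556 := rfl
theorem F271 : act 1 n556 = n325 := d5_1 D556 (iv D325) (iv F92)
def n557 : Q := act 4 n213
theorem D557 : act 4 n213 = n557 := rfl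
theorem F272 : act 0 n557 = n216 := d3_1 D557 (iv D216) D213
theorem F273 : act 1 n557 = n326 := d6_1 D557 (iv D326) (iv F92)
def n558 : Q := act 0 n214
theorem D558 : act 0 n214 = n558 := rfl
def n559 : Q := act 1 n214
theorem D559 : act 1 n214 = n559 := rfl
def n560 : Q := act 3 n214
theorem D560 : act 3 n214 = n560 := rfl
theorem F274 : act 2 n560 = n215 := d7_1 D560 (iv D215) D214
def n561 : Q := act 4 n214
theorem D561 : act 4 n214 = n561 := rfl
def n562 : Q := act 0 n215
theorem D562 : act 0 n215 = n562 := rfl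
def n563 : Q := act 4 n215
theorem D563 : act 4 n215 = n563 := rfl
theorem F275 : act 1 n563 = n220 := d6_1 D563 (iv D220) (iv F93)
theorem F276 : act 3 n238 = n563 := d5_0 F275 F96 D238
def n564 : Q := act 2 n216
theorem D564 : act 2 n216 = n564 := rfl
def n565 : Q := act 3 n216
theorem D565 : act 3 n216 = n565 := rfl
theorem F277 : act 1 n565 = n222 := d5_1 D565 (iv D222) (iv F94)
def n566 : Q := act 0 n217
theorem D566 : act 0 n217 = n566 := rfl
def n567 : Q := act 2 n217
theorem D567 : act 2 n217 = n567 := rfl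
def n568 : Q := act 3 n217
theorem D568 : act 3 n217 = n568 := rfl
theorem F278 : act 1 n568 = n218 := d5_1 D568 (iv D218) D217
def n569 : Q := act 4 n217
theorem D569 : act 4 n217 = n569 := rfl
theorem F279 : act 1 n569 = n219 := d6_1 D569 (iv D219) D217
def n570 : Q := act 4 n218
theorem D570 : act 4 n218 = n570 := rfl
def n571 : Q := act 3 n219
theorem D571 : act 3 n219 = n571 := rfl
def n572 : Q := act 2 n220
theorem D572 : act 2 n220 = n572 := rfl
theorem F280 : act 3 n572 = n239 := d7_2 (iv F96) D572 (iv D239)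
def n573 : Q := act 0 n221
theorem D573 : act 0 n221 = n573 := rfl
def n574 : Q := act 1 n221
theorem D574 : act 1 n221 = n574 := rfl
def n575 : Q := act 3 n221
theorem D575 : act 3 n221 = n575 := rfl
theorem F281 : act 2 n575 = n222 := d7_1 D575 (iv D222) D221
def n576 : Q := act 4 n221
theorem D576 : act 4 n221 = n576 := rfl
def n577 : Q := act 4 n222
theorem D577 : act 4 n222 = n577 := rfl
theorem F282 : act 3 n577 = n240 := d9_1 D577 (iv D240) (iv F96) (iv D220) (iv D78) D79 D222
def n578 : Q := act 1 n223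
theorem D578 : act 1 n223 = n578 := rfl
def n579 : Q := act 3 n223
theorem D579 : act 3 n223 = n579 := rfl
def n580 : Q := act 4 n223
theorem D580 : act 4 n223 = n580 := rfl
theorem F283 : act 0 n580 = n226 := d3_1 D580 (iv D226) D223
def n581 : Q := act 0 n224
theorem D581 : act 0 n224 = n581 := rfl
def n582 : Q := act 2 n224
theorem D582 : act 2 n224 = n582 := rfl
theorem F284 : act 1 n582 = n351 := d4_1 D582 (iv D351) (iv D131) (iv D45) (iv F9) D80 D224
def n583 : Q := act 3 n224
theorem D583 : act 3 n224 = n583 := rfl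
theorem F285 : act 1 n583 = n225 := d5_1 D583 (iv D225) D224
def n584 : Q := act 4 n224
theorem D584 : act 4 n224 = n584 := rfl
theorem F286 : act 1 n584 = n226 := d6_1 D584 (iv D226) D224
def n585 : Q := act 0 n225
theorem D585 : act 0 n225 = n585 := rfl
def n586 : Q := act 4 n225
theorem D586 : act 4 n225 = n586 := rfl
def n587 : Q := act 3 n226
theorem D587 : act 3 n226 = n587 := rfl
def n588 : Q := act 2 n227
theorem D588 : act 2 n227 = n588 := rfl
theorem F287 : act 3 n588 = n241 := d7_2 (iv F99) D588 (iv D241)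
def n589 : Q := act 0 n228
theorem D589 : act 0 n228 = n589 := rfl
def n590 : Q := act 2 n228
theorem D590 : act 2 n228 = n590 := rfl
def n591 : Q := act 3 n228
theorem D591 : act 3 n228 = n591 := rfl
theorem F288 : act 1 n591 = n229 := d5_1 D591 (iv D229) D228
def n592 : Q := act 4 n228
theorem D592 : act 4 n228 = n592 := rfl
theorem F289 : act 1 n592 = n230 := d6_1 D592 (iv D230) D228
def n593 : Q := act 4 n229
theorem D593 : act 4 n229 = n593 := rfl
def n594 : Q := act 3 n230
theorem D594 : act 3 n230 = n594 := rfl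
def n595 : Q := act 1 n231
theorem D595 : act 1 n231 = n595 := rfl
theorem F290 : act 2 n595 = n595 := d14_1 D595 (iv D595) (iv D231) (iv D83) (iv D27) F4 F2 (iv F4) D27 D83 D231
def n596 : Q := act 2 n231
theorem D596 : act 2 n231 = n596 := rfl
def n597 : Q := act 3 n231
theorem D597 : act 3 n231 = n597 := rfl
def n598 : Q := act 4 n231
theorem D598 : act 4 n231 = n598 := rfl
theorem F291 : act 0 n598 = n234 := d3_1 D598 (iv D234) D231
def n599 : Q := act 0 n232
theorem D599 : act 0 n232 = n599 := rfl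
def n600 : Q := act 3 n232
theorem D600 : act 3 n232 = n600 := rfl
theorem F292 : act 1 n600 = n369 := d5_1 D600 (iv D369) (iv F101)
theorem F293 : act 2 n600 = n233 := d7_1 D600 (iv D233) D232
def n601 : Q := act 4 n232
theorem D601 : act 4 n232 = n601 := rfl
theorem F294 : act 1 n601 = n370 := d6_1 D601 (iv D370) (iv F101)
def n602 : Q := act 0 n233
theorem D602 : act 0 n233 = n602 := rfl
def n603 : Q := act 4 n233
theorem D603 : act 4 n233 = n603 := rfl
theorem F295 : act 1 n603 = n236 := d6_1 D603 (iv D236) (iv F102)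
def n604 : Q := act 2 n234
theorem D604 : act 2 n234 = n604 := rfl
def n605 : Q := act 3 n234
theorem D605 : act 3 n234 = n605 := rfl
theorem F296 : act 1 n605 = n237 := d5_1 D605 (iv D237) (iv F103)
def n606 : Q := act 1 n235
theorem D606 : act 1 n235 = n606 := rfl
def n607 : Q := act 2 n235
theorem D607 : act 2 n235 = n607 := rfl
def n608 : Q := act 3 n235
theorem D608 : act 3 n235 = n608 := rfl
def n609 : Q := act 4 n235
theorem D609 : act 4 n235 = n609 := rfl
theorem F297 : act 0 n609 = n236 := d3_1 D609 (iv D236) D235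
def n610 : Q := act 2 n236
theorem D610 : act 2 n236 = n610 := rfl
def n611 : Q := act 3 n236
theorem D611 : act 3 n236 = n611 := rfl
def n612 : Q := act 0 n237
theorem D612 : act 0 n237 = n612 := rfl
def n613 : Q := act 4 n237
theorem D613 : act 4 n237 = n613 := rfl
def n614 : Q := act 0 n238
theorem D614 : act 0 n238 = n614 := rfl
theorem F298 : act 1 n614 = n383 := d0_2 D238 D614 (iv D383) (iv D145) (iv D51) (iv F10) D86
def n615 : Q := act 2 n238
theorem D615 : act 2 n238 = n615 := rfl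
def n616 : Q := act 4 n238
theorem D616 : act 4 n238 = n616 := rfl
theorem F299 : act 1 n616 = n240 := d6_1 D616 (iv D240) D238
def n617 : Q := act 1 n239
theorem D617 : act 1 n239 = n617 := rfl
def n618 : Q := act 4 n239
theorem D618 : act 4 n239 = n618 := rfl
def n619 : Q := act 2 n240
theorem D619 : act 2 n240 = n619 := rfl
def n620 : Q := act 0 n241
theorem D620 : act 0 n241 = n620 := rfl
def n621 : Q := act 1 n241
theorem D621 : act 1 n241 = n621 := rfl
def n622 : Q := act 4 n241
theorem D622 : act 4 n241 = n622 := rfl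
def n623 : Q := act 2 n242
theorem D623 : act 2 n242 = n623 := rfl
theorem F300 : act 1 n623 = n477 := d14_2 D242 D623 F230 (iv D392) D393 F178 (iv D254) (iv D92) (iv D30) D29 D88
theorem F301 : act 0 n623 = n267 := d15_1 D623 (iv D267) (iv D98) (iv D33) (iv D10) (iv D2) F1 D2 D10 D33 D98 (iv F105)
theorem F302 : act 0 n278 = n397 := d13_7 (iv D623) F105 (iv D98) (iv D33) D34 D102 D278 (iv D397) D396 F180 (iv F301)
theorem E1 : n510 = n429 := ((c0_4 D278 F302 F181 D429 (iv D510) (iv D195) F26 D102)).symm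
theorem F303 : act 1 n429 = n195 := (sb E1 (iv D510))
def n624 : Q := act 3 n242
theorem D624 : act 3 n242 = n624 := rfl
theorem F304 : act 1 n624 = n244 := d5_1 D624 (iv D244) D242
def n625 : Q := act 4 n242
theorem D625 : act 4 n242 = n625 := rfl
theorem F305 : act 0 n625 = n269 := d3_1 D625 (iv D269) (iv F105)
theorem F306 : act 1 n625 = n245 := d6_1 D625 (iv D245) D242
def n626 : Q := act 1 n243
theorem D626 : act 1 n243 = n626 := rfl
theorem F307 : act 0 n626 = n425 := d0_1 D626 (iv D425) (iv D161) (iv D57) D56 D157 (iv F106)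
theorem F308 : act 2 n626 = n476 := d4_2 D243 D626 (iv D476) D477 (iv F300) (iv D623) (iv D242)
def n627 : Q := act 3 n243
theorem D627 : act 3 n243 = n627 := rfl
theorem F309 : act 2 n627 = n244 := d7_1 D627 (iv D244) D243
def n628 : Q := act 4 n243
theorem D628 : act 4 n243 = n628 := rfl
theorem F310 : act 0 n628 = n418 := d3_1 D628 (iv D418) (iv F106)
def n629 : Q := act 0 n244
theorem D629 : act 0 n244 = n629 := rfl
def n630 : Q := act 4 n244
theorem D630 : act 4 n244 = n630 := rfl
def n631 : Q := act 2 n245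
theorem D631 : act 2 n245 = n631 := rfl
def n632 : Q := act 3 n245
theorem D632 : act 3 n245 = n632 := rfl
def n633 : Q := act 1 n246
theorem D633 : act 1 n246 = n633 := rfl
def n634 : Q := act 2 n246
theorem D634 : act 2 n246 = n634 := rfl
theorem F311 : act 0 n634 = n416 := d1_1 D634 (iv D416) (iv F106) (iv D243) (iv D88) D89 D246
theorem F312 : act 1 n634 = n634 := d13_2 D416 (iv F311) F311 (iv D416) (iv F106) D626 F307 F201 (iv F307) (iv D626) F106
def n635 : Q := act 3 n246
theorem D635 : act 3 n246 = n635 := rfl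
def n636 : Q := act 4 n246
theorem D636 : act 4 n246 = n636 := rfl
theorem F313 : act 0 n636 = n249 := d3_1 D636 (iv D249) D246
def n637 : Q := act 0 n247
theorem D637 : act 0 n247 = n637 := rfl
def n638 : Q := act 2 n247
theorem D638 : act 2 n247 = n638 := rfl
theorem F314 : act 1 n638 = n255 := d4_1 D638 (iv D255) (iv D92) (iv D30) D29 D89 D247
def n639 : Q := act 3 n247
theorem D639 : act 3 n247 = n639 := rfl
theorem F315 : act 1 n639 = n248 := d5_1 D639 (iv D248) D247
def n640 : Q := act 4 n247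
theorem D640 : act 4 n247 = n640 := rfl
theorem F316 : act 1 n640 = n249 := d6_1 D640 (iv D249) D247
def n641 : Q := act 0 n248
theorem D641 : act 0 n248 = n641 := rfl
def n642 : Q := act 4 n248
theorem D642 : act 4 n248 = n642 := rfl
def n643 : Q := act 2 n249
theorem D643 : act 2 n249 = n643 := rfl
def n644 : Q := act 3 n249
theorem D644 : act 3 n249 = n644 := rfl
def n645 : Q := act 1 n250
theorem D645 : act 1 n250 = n645 := rfl
def n646 : Q := act 2 n250
theorem D646 : act 2 n250 = n646 := rfl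
theorem F317 : act 0 n646 = n417 := d10_3 D90 D250 D646 (iv D417) (iv F106) (iv D243) (iv D88)
def n647 : Q := act 3 n250
theorem D647 : act 3 n250 = n647 := rfl
def n648 : Q := act 4 n250
theorem D648 : act 4 n250 = n648 := rfl
theorem F318 : act 0 n648 = n251 := d3_1 D648 (iv D251) D250
def n649 : Q := act 2 n251
theorem D649 : act 2 n251 = n649 := rfl
def n650 : Q := act 3 n251
theorem D650 : act 3 n251 = n650 := rfl
theorem F319 : act 1 n650 = n261 := d5_1 D650 (iv D261) (iv F109)
def n651 : Q := act 0 n252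
theorem D651 : act 0 n252 = n651 := rfl
def n652 : Q := act 1 n252
theorem D652 : act 1 n252 = n652 := rfl
def n653 : Q := act 3 n252
theorem D653 : act 3 n252 = n653 := rfl
theorem F320 : act 2 n653 = n253 := d7_1 D653 (iv D253) D252
def n654 : Q := act 4 n252
theorem D654 : act 4 n252 = n654 := rfl
def n655 : Q := act 0 n253
theorem D655 : act 0 n253 = n655 := rfl
def n656 : Q := act 4 n253
theorem D656 : act 4 n253 = n656 := rfl
theorem F321 : act 1 n656 = n266 := d6_1 D656 (iv D266) (iv F110)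
def n657 : Q := act 2 n254
theorem D657 : act 2 n254 = n657 := rfl
def n658 : Q := act 3 n254
theorem D658 : act 3 n254 = n658 := rfl
def n659 : Q := act 4 n254
theorem D659 : act 4 n254 = n659 := rfl
theorem F322 : act 0 n659 = n257 := d3_1 D659 (iv D257) D254
def n660 : Q := act 0 n255
theorem D660 : act 0 n255 = n660 := rfl
def n661 : Q := act 3 n255
theorem D661 : act 3 n255 = n661 := rfl
theorem F323 : act 2 n661 = n256 := d7_1 D661 (iv D256) D255
def n662 : Q := act 4 n255
theorem D662 : act 4 n255 = n662 := rfl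
def n663 : Q := act 0 n256
theorem D663 : act 0 n256 = n663 := rfl
def n664 : Q := act 4 n256
theorem D664 : act 4 n256 = n664 := rfl
theorem F324 : act 1 n664 = n258 := d6_1 D664 (iv D258) (iv F111)
def n665 : Q := act 2 n257
theorem D665 : act 2 n257 = n665 := rfl
def n666 : Q := act 3 n257
theorem D666 : act 3 n257 = n666 := rfl
theorem F325 : act 1 n666 = n259 := d5_1 D666 (iv D259) (iv F112)
def n667 : Q := act 3 n258
theorem D667 : act 3 n258 = n667 := rfl
theorem F326 : act 2 n667 = n354 := d7_1 D667 F164 F156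
theorem F327 : act 0 n667 = n667 := d10_1 D667 F326 (iv D354) (iv D132) D130 (iv F131) F130
def n668 : Q := act 4 n259
theorem D668 : act 4 n259 = n668 := rfl
def n669 : Q := act 1 n260
theorem D669 : act 1 n260 = n669 := rfl
def n670 : Q := act 3 n260
theorem D670 : act 3 n260 = n670 := rfl
theorem F328 : act 2 n670 = n261 := d7_1 D670 (iv D261) D260
theorem F329 : act 0 n670 = n670 := d10_1 D670 F328 F114 (iv D114) (iv F44) D306 F133
def n671 : Q := act 4 n260
theorem D671 : act 4 n260 = n671 := rfl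
def n672 : Q := act 4 n261
theorem D672 : act 4 n261 = n672 := rfl
theorem F330 : act 0 n672 = n312 := d3_1 D672 (iv D312) (iv F114)
theorem F331 : act 3 n672 = n266 := d9_1 D672 (iv D266) (iv D97) (iv D32) D31 D95 D261
def n673 : Q := act 0 n262
theorem D673 : act 0 n262 = n673 := rfl
def n674 : Q := act 2 n262
theorem D674 : act 2 n262 = n674 := rfl
def n675 : Q := act 3 n262
theorem D675 : act 3 n262 = n675 := rfl
theorem F332 : act 1 n675 = n263 := d5_1 D675 (iv D263) D262
def n676 : Q := act 4 n262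
theorem D676 : act 4 n262 = n676 := rfl
theorem F333 : act 1 n676 = n264 := d6_1 D676 (iv D264) D262
def n677 : Q := act 4 n263
theorem D677 : act 4 n263 = n677 := rfl
def n678 : Q := act 3 n264
theorem D678 : act 3 n264 = n678 := rfl
theorem F334 : act 2 n678 = n363 := d7_1 D678 (iv D363) (iv F117)
def n679 : Q := act 1 n265
theorem D679 : act 1 n265 = n679 := rfl
def n680 : Q := act 4 n265
theorem D680 : act 4 n265 = n680 := rfl
theorem F335 : act 0 n680 = n266 := d3_1 D680 (iv D266) D265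
def n681 : Q := act 2 n266
theorem D681 : act 2 n266 = n681 := rfl
def n682 : Q := act 3 n267
theorem D682 : act 3 n267 = n682 := rfl
theorem F336 : act 2 n682 = n268 := d7_1 D682 (iv D268) D267
def n683 : Q := act 4 n267
theorem D683 : act 4 n267 = n683 := rfl
def n684 : Q := act 0 n268
theorem D684 : act 0 n268 = n684 := rfl
def n685 : Q := act 4 n268
theorem D685 : act 4 n268 = n685 := rfl
theorem F337 : act 1 n685 = n275 := d6_1 D685 (iv D275) (iv F118)
def n686 : Q := act 2 n269
theorem D686 : act 2 n269 = n686 := rfl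
def n687 : Q := act 3 n269
theorem D687 : act 3 n269 = n687 := rfl
theorem F338 : act 1 n687 = n277 := d5_1 D687 (iv D277) (iv F119)
def n688 : Q := act 1 n270
theorem D688 : act 1 n270 = n688 := rfl
theorem F339 : act 0 n688 = n657 := d13_3 D99 D270 D688 (iv D657) (iv D254) (iv D92) F11 (iv D30) (iv D9) D10 D33
def n689 : Q := act 2 n270
theorem D689 : act 2 n270 = n689 := rfl
theorem F340 : act 0 n689 = n279 := d1_1 D689 (iv D279) (iv D102) (iv D34) D33 D99 D270
theorem F341 : act 1 n689 = n416 := d15_3 D99 D270 D689 (iv F311) F312 (iv D634) (iv D246) (iv D89) (iv D29) (iv D9) D10 D33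
theorem F342 : act 2 n688 = n419 := d4_2 (iv D689) D688 (iv D419) (iv D158) D157 D416 (iv F341)
theorem F343 : act 1 n279 = n279 := d15_11 (iv D689) (iv D270) (iv D99) D98 (iv F105) (iv D242) D243 F106 D416 (iv F341) F340 (iv F340)
theorem E2 : n660 = n488 := ((c1_3 F342 F194 D488 (iv D660) (iv D255) D254 D657 (iv F339))).symm
theorem F344 : act 0 n488 = n255 := (sb E2 (iv D660))
theorem E3 : n638 = n502 := (c13_3 D488 F344 (iv F314) (iv D502) (iv D192) (iv D68) (iv D22) D21 D65 (iv F67) D419 F194)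
theorem F345 : act 1 n502 = n255 := (sb E3 F314)
theorem F346 : act 2 n502 = n247 := (sb E3 (iv D638))
theorem E4 : n637 = n511 := (c1_2 F346 D637 (iv D511) (iv D195) (iv D69) D68 D192 D502)
theorem F347 : act 0 n511 = n247 := (sb E4 (iv D637))
theorem F348 : act 2 n633 = n480 := d15_6 D192 D502 F346 (iv D247) D246 D633 (iv D480) (iv D182) (iv D64) (iv D21) D22 D68
def n690 : Q := act 3 n270
theorem D690 : act 3 n270 = n690 := rfl
theorem F349 : act 0 n690 = n287 := d10_1 D690 (iv D287) (iv D105) (iv D35) D33 D99 D270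
def n691 : Q := act 4 n270
theorem D691 : act 4 n270 = n691 := rfl
theorem F350 : act 0 n691 = n273 := d3_1 D691 (iv D273) D270
def n692 : Q := act 0 n271
theorem D692 : act 0 n271 = n692 := rfl
theorem F351 : act 2 n692 = n692 := d13_4 (iv D689) (iv D270) D271 D692 (iv D692) (iv D271) D270 D689 F340 F343 (iv F340)
theorem F352 : act 1 n692 = n426 := d14_4 (iv D98) D99 D271 D692 (iv D426) D425 (iv F307) (iv D626) (iv D243) D242 F105
def n693 : Q := act 2 n271
theorem D693 : act 2 n271 = n693 := rfl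
theorem F353 : act 0 n693 = n503 := d15_7 (iv D488) (iv F194) (iv F342) (iv D688) (iv D270) D271 D693 F245 (iv D503) D502 F345 (iv F344)
def n694 : Q := act 3 n271
theorem D694 : act 3 n271 = n694 := rfl
theorem F354 : act 1 n694 = n272 := d5_1 D694 (iv D272) D271
def n695 : Q := act 4 n271
theorem D695 : act 4 n271 = n695 := rfl
theorem F355 : act 1 n695 = n273 := d6_1 D695 (iv D273) D271
def n696 : Q := act 0 n272
theorem D696 : act 0 n272 = n696 := rfl
def n697 : Q := act 4 n272
theorem D697 : act 4 n272 = n697 := rfl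
def n698 : Q := act 2 n273
theorem D698 : act 2 n273 = n698 := rfl
theorem F356 : act 0 n698 = n284 := d11_3 D99 D273 D698 (iv D284) (iv D104) (iv D34) D33
def n699 : Q := act 3 n273
theorem D699 : act 3 n273 = n699 := rfl
def n700 : Q := act 1 n274
theorem D700 : act 1 n274 = n700 := rfl
theorem F357 : act 2 n700 = n449 := d16_10 (iv D78) (iv D25) (iv D7) (iv D1) D2 D10 D33 D100 D274 D700 F212 F74
theorem F358 : act 3 n448 = n700 := d7_0 F357 (iv D449) D448
def n701 : Q := act 2 n274
theorem D701 : act 2 n274 = n701 := rfl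
theorem F359 : act 0 n701 = n280 := d10_3 D100 D274 D701 (iv D280) (iv D102) (iv D34) D33
def n702 : Q := act 3 n274
theorem D702 : act 3 n274 = n702 := rfl
theorem F360 : act 0 n702 = n288 := d2_1 D702 (iv D288) (iv D105) (iv D35) D33 D100 D274
theorem F361 : act 1 n702 = n448 := d5_1 D702 F358 (iv D700)
def n703 : Q := act 4 n274
theorem D703 : act 4 n274 = n703 := rfl
theorem F362 : act 0 n703 = n275 := d3_1 D703 (iv D275) D274
def n704 : Q := act 2 n275
theorem D704 : act 2 n275 = n704 := rfl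
def n705 : Q := act 3 n275
theorem D705 : act 3 n275 = n705 := rfl
theorem F363 : act 0 n705 = n291 := d12_3 D100 D275 D705 (iv D291) (iv D106) (iv D35) D33
def n706 : Q := act 0 n276
theorem D706 : act 0 n276 = n706 := rfl
def n707 : Q := act 1 n276
theorem D707 : act 1 n276 = n707 := rfl
def n708 : Q := act 3 n276
theorem D708 : act 3 n276 = n708 := rfl
theorem F364 : act 2 n708 = n277 := d7_1 D708 (iv D277) D276
def n709 : Q := act 4 n276
theorem D709 : act 4 n276 = n709 := rfl
def n710 : Q := act 0 n277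
theorem D710 : act 0 n277 = n710 := rfl
def n711 : Q := act 4 n277
theorem D711 : act 4 n277 = n711 := rfl
def n712 : Q := act 2 n278
theorem D712 : act 2 n278 = n712 := rfl
theorem F365 : act 1 n712 = n712 := d4_1 D712 (iv D712) (iv D278) D279 F343 (iv D279) D278
theorem F366 : act 0 n712 = n481 := d14_3 D278 D712 F365 (iv D481) (iv D182) (iv D64) (iv D21) D22 D69 F26 D102
def n713 : Q := act 3 n278
theorem D713 : act 3 n278 = n713 := rfl
theorem F367 : act 1 n713 = n280 := d5_1 D713 (iv D280) D278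
def n714 : Q := act 4 n278
theorem D714 : act 4 n278 = n714 := rfl
theorem F368 : act 1 n714 = n281 := d6_1 D714 (iv D281) D278
def n715 : Q := act 3 n279
theorem D715 : act 3 n279 = n715 := rfl
theorem F369 : act 1 n715 = n715 := d5_1 D715 (iv D715) F343
theorem F370 : act 2 n715 = n280 := d7_1 D715 (iv D280) D279
def n716 : Q := act 4 n279
theorem D716 : act 4 n279 = n716 := rfl
theorem F371 : act 1 n716 = n716 := d6_1 D716 (iv D716) F343
theorem F372 : act 2 n716 = n292 := d11_2 D279 D716 (iv D292) (iv D107) (iv D36) D34 D102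
def n717 : Q := act 4 n280
theorem D717 : act 4 n280 = n717 := rfl
def n718 : Q := act 2 n281
theorem D718 : act 2 n281 = n718 := rfl
def n719 : Q := act 3 n281
theorem D719 : act 3 n281 = n719 := rfl
def n720 : Q := act 1 n282
theorem D720 : act 1 n282 = n720 := rfl
def n721 : Q := act 2 n282
theorem D721 : act 2 n282 = n721 := rfl
def n722 : Q := act 3 n282
theorem D722 : act 3 n282 = n722 := rfl
def n723 : Q := act 4 n282
theorem D723 : act 4 n282 = n723 := rfl
theorem F373 : act 0 n723 = n283 := d3_1 D723 (iv D283) D282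
def n724 : Q := act 2 n283
theorem D724 : act 2 n283 = n724 := rfl
def n725 : Q := act 3 n283
theorem D725 : act 3 n283 = n725 := rfl
def n726 : Q := act 1 n284
theorem D726 : act 1 n284 = n726 := rfl
def n727 : Q := act 3 n284
theorem D727 : act 3 n284 = n727 := rfl
theorem F374 : act 2 n727 = n285 := d7_1 D727 (iv D285) D284
def n728 : Q := act 4 n284
theorem D728 : act 4 n284 = n728 := rfl
theorem F375 : act 2 n728 = n295 := d8_1 D728 (iv D295) (iv D107) (iv D36) D34 D104 D284
def n729 : Q := act 0 n285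
theorem D729 : act 0 n285 = n729 := rfl
def n730 : Q := act 4 n285
theorem D730 : act 4 n285 = n730 := rfl
def n731 : Q := act 0 n286
theorem D731 : act 0 n286 = n731 := rfl
theorem F376 : act 1 n731 = n298 := d0_2 D286 D731 (iv D298) (iv D109) (iv D37) (iv F13) D105
def n732 : Q := act 2 n286
theorem D732 : act 2 n286 = n732 := rfl
def n733 : Q := act 3 n286
theorem D733 : act 3 n286 = n733 := rfl
theorem F377 : act 1 n733 = n288 := d5_1 D733 (iv D288) D286
def n734 : Q := act 4 n286
theorem D734 : act 4 n286 = n734 := rfl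
theorem F378 : act 1 n734 = n289 := d6_1 D734 (iv D289) D286
def n735 : Q := act 1 n287
theorem D735 : act 1 n287 = n735 := rfl
def n736 : Q := act 3 n287
theorem D736 : act 3 n287 = n736 := rfl
theorem F379 : act 2 n736 = n288 := d7_1 D736 (iv D288) D287
def n737 : Q := act 4 n287
theorem D737 : act 4 n287 = n737 := rfl
def n738 : Q := act 4 n288
theorem D738 : act 4 n288 = n738 := rfl
theorem F380 : act 3 n738 = n296 := d12_2 D288 D738 (iv D296) (iv D108) (iv D36) D35 D105
def n739 : Q := act 2 n289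
theorem D739 : act 2 n289 = n739 := rfl
def n740 : Q := act 3 n289
theorem D740 : act 3 n289 = n740 := rfl
def n741 : Q := act 0 n290
theorem D741 : act 0 n290 = n741 := rfl
def n742 : Q := act 1 n290
theorem D742 : act 1 n290 = n742 := rfl
def n743 : Q := act 3 n290
theorem D743 : act 3 n290 = n743 := rfl
theorem F381 : act 2 n743 = n291 := d7_1 D743 (iv D291) D290
def n744 : Q := act 4 n290
theorem D744 : act 4 n290 = n744 := rfl
def n745 : Q := act 4 n291
theorem D745 : act 4 n291 = n745 := rfl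
theorem F382 : act 1 n745 = n312 := d6_1 D745 (iv D312) (iv F123)
theorem F383 : act 3 n745 = n297 := d9_1 D745 (iv D297) (iv D108) (iv D36) D35 D106 D291
def n746 : Q := act 1 n292
theorem D746 : act 1 n292 = n746 := rfl
def n747 : Q := act 3 n292
theorem D747 : act 3 n292 = n747 := rfl
def n748 : Q := act 4 n292
theorem D748 : act 4 n292 = n748 := rfl
theorem F384 : act 0 n748 = n295 := d3_1 D748 (iv D295) D292
def n749 : Q := act 0 n293
theorem D749 : act 0 n293 = n749 := rfl
def n750 : Q := act 2 n293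
theorem D750 : act 2 n293 = n750 := rfl
theorem F385 : act 1 n750 = n314 := d4_1 D750 (iv D314) (iv D115) (iv D39) (iv F14) D107 D293
def n751 : Q := act 3 n293
theorem D751 : act 3 n293 = n751 := rfl
theorem F386 : act 1 n751 = n294 := d5_1 D751 (iv D294) D293
def n752 : Q := act 4 n293
theorem D752 : act 4 n293 = n752 := rfl
theorem F387 : act 1 n752 = n295 := d6_1 D752 (iv D295) D293
def n753 : Q := act 0 n294
theorem D753 : act 0 n294 = n753 := rfl
def n754 : Q := act 4 n294
theorem D754 : act 4 n294 = n754 := rfl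
def n755 : Q := act 3 n295
theorem D755 : act 3 n295 = n755 := rfl
def n756 : Q := act 1 n296
theorem D756 : act 1 n296 = n756 := rfl
def n757 : Q := act 2 n296
theorem D757 : act 2 n296 = n757 := rfl
def n758 : Q := act 4 n296
theorem D758 : act 4 n296 = n758 := rfl
theorem F388 : act 0 n758 = n297 := d3_1 D758 (iv D297) D296
def n759 : Q := act 2 n297
theorem D759 : act 2 n297 = n759 := rfl
def n760 : Q := act 2 n298
theorem D760 : act 2 n298 = n760 := rfl
def n761 : Q := act 3 n298
theorem D761 : act 3 n298 = n761 := rfl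
def n762 : Q := act 4 n298
theorem D762 : act 4 n298 = n762 := rfl
theorem F389 : act 0 n762 = n301 := d3_1 D762 (iv D301) D298
def n763 : Q := act 0 n299
theorem D763 : act 0 n299 = n763 := rfl
def n764 : Q := act 1 n299
theorem D764 : act 1 n299 = n764 := rfl
def n765 : Q := act 3 n299
theorem D765 : act 3 n299 = n765 := rfl
theorem F390 : act 2 n765 = n300 := d7_1 D765 (iv D300) D299
def n766 : Q := act 4 n299
theorem D766 : act 4 n299 = n766 := rfl
def n767 : Q := act 0 n300
theorem D767 : act 0 n300 = n767 := rfl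
def n768 : Q := act 4 n300
theorem D768 : act 4 n300 = n768 := rfl
theorem F391 : act 1 n768 = n305 := d6_1 D768 (iv D305) (iv F126)
theorem F392 : act 3 n320 = n768 := d5_0 F391 F132 D320
def n769 : Q := act 2 n301
theorem D769 : act 2 n301 = n769 := rfl
def n770 : Q := act 3 n301
theorem D770 : act 3 n301 = n770 := rfl
theorem F393 : act 1 n770 = n307 := d5_1 D770 (iv D307) (iv F127)
def n771 : Q := act 0 n302
theorem D771 : act 0 n302 = n771 := rfl
def n772 : Q := act 2 n302
theorem D772 : act 2 n302 = n772 := rfl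
def n773 : Q := act 3 n302
theorem D773 : act 3 n302 = n773 := rfl
theorem F394 : act 1 n773 = n303 := d5_1 D773 (iv D303) D302
def n774 : Q := act 4 n302
theorem D774 : act 4 n302 = n774 := rfl
theorem F395 : act 1 n774 = n304 := d6_1 D774 (iv D304) D302
def n775 : Q := act 4 n303
theorem D775 : act 4 n303 = n775 := rfl
theorem F396 : act 0 n775 = n775 := d3_1 D775 (iv D775) F128
theorem F397 : act 2 n775 = n377 := d11_2 (iv F129) D775 F173 (iv D341) (iv D127) (iv F51) F50
theorem F398 : act 3 n775 = n376 := d12_2 D303 D775 F172 (iv D259) (iv D94) D93 (iv F43)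
def n776 : Q := act 3 n304
theorem D776 : act 3 n304 = n776 := rfl
theorem F399 : act 0 n776 = n776 := d2_1 D776 (iv D776) F130 D667 F327 (iv D667) (iv F130)
theorem F400 : act 2 n776 = n348 := d7_1 D776 (iv D348) (iv F131)
def n777 : Q := act 2 n305
theorem D777 : act 2 n305 = n777 := rfl
theorem F401 : act 3 n777 = n321 := d7_2 (iv F132) D777 (iv D321)
theorem F402 : act 0 n777 = n777 := d10_3 (iv F153) F152 D777 F401 F143 F115 D265
def n778 : Q := act 1 n306
theorem D778 : act 1 n306 = n778 := rfl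
def n779 : Q := act 3 n306
theorem D779 : act 3 n306 = n779 := rfl
theorem F403 : act 0 n779 = n779 := d2_1 D779 (iv D779) F133 D670 F329 (iv D670) (iv F133)
theorem F404 : act 2 n779 = n307 := d7_1 D779 (iv D307) D306
def n780 : Q := act 4 n306
theorem D780 : act 4 n306 = n780 := rfl
theorem F405 : act 0 n780 = n671 := d3_1 D780 (iv D671) (iv F133)
theorem F406 : act 2 n780 = n349 := d8_1 D780 (iv D349) (iv F131) (iv D304) (iv D110) D112 D306
def n781 : Q := act 4 n307
theorem D781 : act 4 n307 = n781 := rfl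
theorem F407 : act 3 n781 = n322 := d9_1 D781 (iv D322) (iv F132) (iv D305) (iv D111) D112 D307
def n782 : Q := act 1 n308
theorem D782 : act 1 n308 = n782 := rfl
def n783 : Q := act 3 n308
theorem D783 : act 3 n308 = n783 := rfl
theorem F408 : act 0 n783 = n783 := d2_1 D783 (iv D783) (iv D308) D310 F136 (iv D310) D308
theorem F409 : act 2 n783 = n340 := d7_1 D783 (iv D340) (iv F134)
def n784 : Q := act 4 n308
theorem D784 : act 4 n308 = n784 := rfl
theorem F410 : act 0 n784 = n311 := d3_1 D784 (iv D311) D308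
theorem F411 : act 2 n784 = n345 := d8_1 D784 (iv D345) (iv D128) (iv D44) D42 D126 (iv F134)
def n785 : Q := act 0 n309
theorem D785 : act 0 n309 = n785 := rfl
def n786 : Q := act 2 n309
theorem D786 : act 2 n309 = n786 := rfl
def n787 : Q := act 3 n309
theorem D787 : act 3 n309 = n787 := rfl
theorem F412 : act 1 n787 = n310 := d5_1 D787 (iv D310) D309
def n788 : Q := act 4 n309
theorem D788 : act 4 n309 = n788 := rfl
theorem F413 : act 1 n788 = n311 := d6_1 D788 (iv D311) D309
def n789 : Q := act 4 n310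
theorem D789 : act 4 n310 = n789 := rfl
theorem F414 : act 0 n789 = n789 := d3_1 D789 (iv D789) F136
def n790 : Q := act 3 n311
theorem D790 : act 3 n311 = n790 := rfl
theorem F416 : act 0 n790 = n790 := d12_3 (iv D310) D311 D790 (iv D790) (iv D311) D310 F136
def n791 : Q := act 2 n312
theorem D791 : act 2 n312 = n791 := rfl
theorem F417 : act 3 n791 = n323 := d7_2 (iv F138) D791 (iv D323)
def n792 : Q := act 1 n313
theorem D792 : act 1 n313 = n792 := rfl
theorem F419 : act 0 n792 = n792 := d0_1 D792 (iv D792) (iv D313) (iv D115) F15 D115 D313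
theorem F420 : act 2 n792 = n413 := d17_8 (iv D8) (iv D1) D2 D12 D39 D115 D313 D792 (iv D413) (iv D155) F23 F7
theorem F421 : act 4 n402 = n792 := d8_0 F420 (iv D413) (iv D155) (iv D55) D53 D152 D402
def n793 : Q := act 2 n313
theorem D793 : act 2 n313 = n793 := rfl
def n794 : Q := act 3 n313
theorem D794 : act 3 n313 = n794 := rfl
def n795 : Q := act 4 n313
theorem D795 : act 4 n313 = n795 := rfl
theorem F422 : act 0 n795 = n316 := d3_1 D795 (iv D316) D313
theorem F423 : act 1 n795 = n402 := d6_1 D795 F421 (iv D792)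
def n796 : Q := act 0 n314
theorem D796 : act 0 n314 = n796 := rfl
def n797 : Q := act 3 n314
theorem D797 : act 3 n314 = n797 := rfl
theorem F424 : act 2 n797 = n315 := d7_1 D797 (iv D315) D314
def n798 : Q := act 4 n314
theorem D798 : act 4 n314 = n798 := rfl
def n799 : Q := act 0 n315
theorem D799 : act 0 n315 = n799 := rfl
def n800 : Q := act 4 n315
theorem D800 : act 4 n315 = n800 := rfl
theorem F425 : act 1 n800 = n318 := d6_1 D800 (iv D318) (iv F139)
def n801 : Q := act 2 n316
theorem D801 : act 2 n316 = n801 := rfl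
def n802 : Q := act 3 n316
theorem D802 : act 3 n316 = n802 := rfl
theorem F426 : act 1 n802 = n319 := d5_1 D802 (iv D319) (iv F140)
def n803 : Q := act 1 n317
theorem D803 : act 1 n317 = n803 := rfl
def n804 : Q := act 3 n317
theorem D804 : act 3 n317 = n804 := rfl
theorem F427 : act 0 n804 = n804 := d2_1 D804 (iv D804) (iv D317) (iv D116) F15 D116 D317
theorem F428 : act 2 n804 = n339 := d7_1 D804 F153 (iv F141)
def n805 : Q := act 4 n317
theorem D805 : act 4 n317 = n805 := rfl
theorem F429 : act 0 n805 = n318 := d3_1 D805 (iv D318) D317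
def n807 : Q := act 3 n318
theorem D807 : act 3 n318 = n807 := rfl
def n808 : Q := act 0 n319
theorem D808 : act 0 n319 = n808 := rfl
def n809 : Q := act 4 n319
theorem D809 : act 4 n319 = n809 := rfl
def n810 : Q := act 0 n320
theorem D810 : act 0 n320 = n810 := rfl
def n811 : Q := act 2 n320
theorem D811 : act 2 n320 = n811 := rfl
def n812 : Q := act 4 n320
theorem D812 : act 4 n320 = n812 := rfl
theorem F431 : act 1 n812 = n322 := d6_1 D812 (iv D322) D320
def n813 : Q := act 1 n321
theorem D813 : act 1 n321 = n813 := rfl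
def n814 : Q := act 4 n321
theorem D814 : act 4 n321 = n814 := rfl
theorem F432 : act 0 n814 = n677 := d3_1 D814 (iv D677) (iv F143)
def n815 : Q := act 2 n322
theorem D815 : act 2 n322 = n815 := rfl
theorem F433 : act 0 n815 = n681 := d11_3 (iv D321) D322 D815 (iv D681) (iv D266) (iv F115) (iv F143)
def n816 : Q := act 0 n323
theorem D816 : act 0 n323 = n816 := rfl
theorem F434 : act 2 n816 = n680 := d1_2 D323 D816 F335 D681 (iv F433) (iv D815) F144
def n819 : Q := act 0 n324
theorem D819 : act 0 n324 = n819 := rfl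
def n820 : Q := act 1 n324
theorem D820 : act 1 n324 = n820 := rfl
def n821 : Q := act 3 n324
theorem D821 : act 3 n324 = n821 := rfl
theorem F435 : act 2 n821 = n325 := d7_1 D821 (iv D325) D324
def n822 : Q := act 4 n324
theorem D822 : act 4 n324 = n822 := rfl
def n823 : Q := act 0 n325
theorem D823 : act 0 n325 = n823 := rfl
def n824 : Q := act 4 n325
theorem D824 : act 4 n325 = n824 := rfl
theorem F436 : act 3 n824 = n383 := d12_2 D325 D824 (iv D383) F148 (iv D332) (iv D122) D120
def n825 : Q := act 2 n326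
theorem D825 : act 2 n326 = n825 := rfl
def n826 : Q := act 3 n326
theorem D826 : act 3 n326 = n826 := rfl
def n827 : Q := act 1 n327
theorem D827 : act 1 n327 = n827 := rfl
def n828 : Q := act 2 n327
theorem D828 : act 2 n327 = n828 := rfl
def n829 : Q := act 3 n327
theorem D829 : act 3 n327 = n829 := rfl
def n830 : Q := act 4 n327
theorem D830 : act 4 n327 = n830 := rfl
theorem F437 : act 0 n830 = n330 := d3_1 D830 (iv D330) D327
def n831 : Q := act 2 n328
theorem D831 : act 2 n328 = n831 := rfl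
theorem F438 : act 1 n831 = n336 := d4_1 D831 (iv D336) (iv D124) (iv D42) D41 D121 D328
def n832 : Q := act 4 n328
theorem D832 : act 4 n328 = n832 := rfl
theorem F439 : act 1 n832 = n330 := d6_1 D832 (iv D330) D328
def n833 : Q := act 0 n329
theorem D833 : act 0 n329 = n833 := rfl
def n834 : Q := act 4 n329
theorem D834 : act 4 n329 = n834 := rfl
def n835 : Q := act 2 n330
theorem D835 : act 2 n330 = n835 := rfl
def n836 : Q := act 3 n330
theorem D836 : act 3 n330 = n836 := rfl
def n837 : Q := act 1 n331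
theorem D837 : act 1 n331 = n837 := rfl
def n838 : Q := act 2 n331
theorem D838 : act 2 n331 = n838 := rfl
def n839 : Q := act 3 n331
theorem D839 : act 3 n331 = n839 := rfl
def n840 : Q := act 4 n331
theorem D840 : act 4 n331 = n840 := rfl
theorem F441 : act 0 n840 = n332 := d3_1 D840 (iv D332) D331
def n841 : Q := act 2 n332
theorem D841 : act 2 n332 = n841 := rfl
theorem F442 : act 3 n841 = n384 := d7_2 F148 D841 (iv D384)
def n842 : Q := act 0 n333
theorem D842 : act 0 n333 = n842 := rfl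
def n843 : Q := act 1 n333
theorem D843 : act 1 n333 = n843 := rfl
def n844 : Q := act 3 n333
theorem D844 : act 3 n333 = n844 := rfl
theorem F443 : act 2 n844 = n334 := d7_1 D844 (iv D334) D333
def n845 : Q := act 4 n333
theorem D845 : act 4 n333 = n845 := rfl
def n846 : Q := act 0 n334
theorem D846 : act 0 n334 = n846 := rfl
def n847 : Q := act 4 n334
theorem D847 : act 4 n334 = n847 := rfl
theorem F444 : act 1 n847 = n346 := d6_1 D847 (iv D346) (iv F149)
theorem F445 : act 3 n847 = n385 := d9_1 D847 (iv D385) F148 (iv D332) (iv D122) D123 D334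
def n848 : Q := act 1 n335
theorem D848 : act 1 n335 = n848 := rfl
theorem F446 : act 0 n848 = n645 := d0_1 D848 (iv D645) (iv D250) F33 (iv F16) D124 D335
def n849 : Q := act 2 n335
theorem D849 : act 2 n335 = n849 := rfl
def n850 : Q := act 3 n335
theorem D850 : act 3 n335 = n850 := rfl
def n851 : Q := act 4 n335
theorem D851 : act 4 n335 = n851 := rfl
theorem F447 : act 0 n851 = n338 := d3_1 D851 (iv D338) D335
def n852 : Q := act 0 n336
theorem D852 : act 0 n336 = n852 := rfl
def n853 : Q := act 3 n336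
theorem D853 : act 3 n336 = n853 := rfl
theorem F448 : act 2 n853 = n337 := d7_1 D853 (iv D337) D336
def n854 : Q := act 4 n336
theorem D854 : act 4 n336 = n854 := rfl
def n855 : Q := act 0 n337
theorem D855 : act 0 n337 = n855 := rfl
def n856 : Q := act 4 n337
theorem D856 : act 4 n337 = n856 := rfl
theorem F449 : act 1 n856 = n339 := d6_1 D856 (iv D339) (iv F150)
theorem F450 : act 3 n679 = n856 := d5_0 F449 F153 D679
def n857 : Q := act 2 n338
theorem D857 : act 2 n338 = n857 := rfl
def n858 : Q := act 3 n338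
theorem D858 : act 3 n338 = n858 := rfl
theorem F451 : act 1 n858 = n340 := d5_1 D858 (iv D340) (iv F151)
def n859 : Q := act 4 n340
theorem D859 : act 4 n340 = n859 := rfl
theorem F452 : act 0 n859 = n781 := d3_1 D859 (iv D781) (iv F154)
theorem F453 : act 3 n859 = n680 := d9_1 D859 (iv D680) (iv F153) (iv D339) (iv D125) D126 D340
def n860 : Q := act 1 n341
theorem D860 : act 1 n341 = n860 := rfl
theorem F454 : act 3 n860 = n386 := d5_2 (iv F155) D860 (iv D386)
def n861 : Q := act 4 n341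
theorem D861 : act 4 n341 = n861 := rfl
def n862 : Q := act 1 n342
theorem D862 : act 1 n342 = n862 := rfl
def n863 : Q := act 4 n342
theorem D863 : act 4 n342 = n863 := rfl
theorem F455 : act 0 n863 = n345 := d3_1 D863 (iv D345) D342
theorem F456 : act 2 n863 = n671 := d8_1 D863 (iv D671) (iv D260) (iv D95) (iv F35) D258 (iv F156)
def n864 : Q := act 0 n343
theorem D864 : act 0 n343 = n864 := rfl
def n865 : Q := act 2 n343
theorem D865 : act 2 n343 = n865 := rfl
def n866 : Q := act 3 n343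
theorem D866 : act 3 n343 = n866 := rfl
theorem F457 : act 1 n866 = n344 := d5_1 D866 (iv D344) D343
def n867 : Q := act 4 n343
theorem D867 : act 4 n343 = n867 := rfl
theorem F458 : act 1 n867 = n345 := d6_1 D867 (iv D345) D343
def n868 : Q := act 4 n344
theorem D868 : act 4 n344 = n868 := rfl
def n869 : Q := act 3 n345
theorem D869 : act 3 n345 = n869 := rfl
def n870 : Q := act 2 n346
theorem D870 : act 2 n346 = n870 := rfl
theorem F459 : act 3 n870 = n388 := d7_2 (iv F159) D870 (iv D388)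
def n871 : Q := act 0 n347
theorem D871 : act 0 n347 = n871 := rfl
def n872 : Q := act 2 n347
theorem D872 : act 2 n347 = n872 := rfl
def n873 : Q := act 3 n347
theorem D873 : act 3 n347 = n873 := rfl
theorem F460 : act 1 n873 = n348 := d5_1 D873 (iv D348) D347
def n874 : Q := act 4 n347
theorem D874 : act 4 n347 = n874 := rfl
theorem F461 : act 1 n874 = n349 := d6_1 D874 (iv D349) D347
def n875 : Q := act 4 n348
theorem D875 : act 4 n348 = n875 := rfl
theorem F462 : act 0 n875 = n868 := d3_1 D875 (iv D868) (iv F160)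
def n876 : Q := act 3 n349
theorem D876 : act 3 n349 = n876 := rfl
theorem F463 : act 0 n876 = n869 := d12_3 (iv D348) D349 D876 (iv D869) (iv D345) D344 (iv F160)
def n877 : Q := act 1 n350
theorem D877 : act 1 n350 = n877 := rfl
def n878 : Q := act 2 n350
theorem D878 : act 2 n350 = n878 := rfl
def n879 : Q := act 3 n350
theorem D879 : act 3 n350 = n879 := rfl
def n880 : Q := act 4 n350
theorem D880 : act 4 n350 = n880 := rfl
theorem F464 : act 0 n880 = n353 := d3_1 D880 (iv D353) D350
def n881 : Q := act 0 n351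
theorem D881 : act 0 n351 = n881 := rfl
def n882 : Q := act 3 n351
theorem D882 : act 3 n351 = n882 := rfl
theorem F465 : act 2 n882 = n352 := d7_1 D882 (iv D352) D351
def n883 : Q := act 4 n351
theorem D883 : act 4 n351 = n883 := rfl
def n884 : Q := act 0 n352
theorem D884 : act 0 n352 = n884 := rfl
def n885 : Q := act 4 n352
theorem D885 : act 4 n352 = n885 := rfl
theorem F466 : act 1 n885 = n355 := d6_1 D885 (iv D355) (iv F162)
def n886 : Q := act 2 n353
theorem D886 : act 2 n353 = n886 := rfl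
def n887 : Q := act 3 n353
theorem D887 : act 3 n353 = n887 := rfl
def n888 : Q := act 1 n354
theorem D888 : act 1 n354 = n888 := rfl
theorem F468 : act 3 n888 = n862 := d5_2 (iv F164) D888 (iv D862)
def n889 : Q := act 4 n354
theorem D889 : act 4 n354 = n889 := rfl
theorem F469 : act 0 n889 = n355 := d3_1 D889 (iv D355) D354
def n890 : Q := act 2 n355
theorem D890 : act 2 n355 = n890 := rfl
def n891 : Q := act 3 n355
theorem D891 : act 3 n355 = n891 := rfl
def n892 : Q := act 0 n356
theorem D892 : act 0 n356 = n892 := rfl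
theorem F471 : act 3 n892 = n863 := d2_2 D356 D892 F455 D869 (iv F463) (iv D876) F161
def n893 : Q := act 4 n356
theorem D893 : act 4 n356 = n893 := rfl
def n894 : Q := act 0 n357
theorem D894 : act 0 n357 = n894 := rfl
def n895 : Q := act 1 n357
theorem D895 : act 1 n357 = n895 := rfl
theorem F472 : act 3 n895 = n390 := d5_2 (iv F165) D895 (iv D390)
def n896 : Q := act 4 n357
theorem D896 : act 4 n357 = n896 := rfl
def n897 : Q := act 1 n358
theorem D897 : act 1 n358 = n897 := rfl
theorem F473 : act 0 n897 = n364 := d0_1 D897 (iv D364) (iv D138) (iv D48) D47 D135 D358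
def n898 : Q := act 2 n358
theorem D898 : act 2 n358 = n898 := rfl
theorem F474 : act 0 n898 = n462 := d13_1 D898 (iv D462) (iv D175) (iv D62) F7 F4 F2 D15 D47 D135 D358
def n899 : Q := act 3 n358
theorem D899 : act 3 n358 = n899 := rfl
def n900 : Q := act 4 n358
theorem D900 : act 4 n358 = n900 := rfl
theorem F475 : act 0 n900 = n361 := d3_1 D900 (iv D361) D358
def n901 : Q := act 0 n359
theorem D901 : act 0 n359 = n901 := rfl
def n902 : Q := act 1 n359
theorem D902 : act 1 n359 = n902 := rfl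
def n903 : Q := act 3 n359
theorem D903 : act 3 n359 = n903 := rfl
theorem F476 : act 2 n903 = n360 := d7_1 D903 (iv D360) D359
def n904 : Q := act 4 n359
theorem D904 : act 4 n359 = n904 := rfl
def n905 : Q := act 0 n360
theorem D905 : act 0 n360 = n905 := rfl
def n906 : Q := act 4 n360
theorem D906 : act 4 n360 = n906 := rfl
theorem F477 : act 1 n906 = n362 := d6_1 D906 (iv D362) (iv F166)
def n907 : Q := act 2 n361
theorem D907 : act 2 n361 = n907 := rfl
def n908 : Q := act 3 n361
theorem D908 : act 3 n361 = n908 := rfl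
theorem F478 : act 1 n908 = n363 := d5_1 D908 (iv D363) (iv F167)
def n909 : Q := act 2 n362
theorem D909 : act 2 n362 = n909 := rfl
def n910 : Q := act 3 n362
theorem D910 : act 3 n362 = n910 := rfl
theorem F479 : act 0 n910 = n380 := d12_3 D136 D362 D910 (iv D380) (iv D143) (iv D49) D47
def n911 : Q := act 0 n363
theorem D911 : act 0 n363 = n911 := rfl
theorem F480 : act 2 n911 = n808 := d10_2 D363 D911 (iv D808) (iv D319) F46 F47 (iv F59)
theorem F481 : act 3 n911 = n861 := d12_4 (iv D136) D137 D363 D911 (iv D861) F155 F62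
def n912 : Q := act 4 n363
theorem D912 : act 4 n363 = n912 := rfl
def n913 : Q := act 2 n364
theorem D913 : act 2 n364 = n913 := rfl
theorem F482 : act 4 n913 = n686 := d17_3 (iv D367) D364 D913 (iv D686) F119 F39 F14 D39 D117 F47 (iv F61) (iv F168)
def n914 : Q := act 3 n364
theorem D914 : act 3 n364 = n914 := rfl
theorem F483 : act 1 n914 = n366 := d5_1 D914 (iv D366) D364
def n915 : Q := act 4 n364
theorem D915 : act 4 n364 = n915 := rfl
theorem F484 : act 1 n915 = n367 := d6_1 D915 (iv D367) D364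
theorem F485 : act 2 n915 = n683 := d8_1 D915 (iv D683) (iv D267) D269 D686 (iv F482) (iv D913)
def n916 : Q := act 0 n365
theorem D916 : act 0 n365 = n916 := rfl
def n917 : Q := act 1 n365
theorem D917 : act 1 n365 = n917 := rfl
def n918 : Q := act 3 n365
theorem D918 : act 3 n365 = n918 := rfl
theorem F486 : act 2 n918 = n366 := d7_1 D918 (iv D366) D365
def n919 : Q := act 4 n365
theorem D919 : act 4 n365 = n919 := rfl
def n920 : Q := act 0 n366
theorem D920 : act 0 n366 = n920 := rfl
def n921 : Q := act 4 n366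
theorem D921 : act 4 n366 = n921 := rfl
def n922 : Q := act 2 n367
theorem D922 : act 2 n367 = n922 := rfl
def n923 : Q := act 3 n367
theorem D923 : act 3 n367 = n923 := rfl
def n924 : Q := act 1 n368
theorem D924 : act 1 n368 = n924 := rfl
def n925 : Q := act 2 n368
theorem D925 : act 2 n368 = n925 := rfl
def n926 : Q := act 3 n368
theorem D926 : act 3 n368 = n926 := rfl
def n927 : Q := act 4 n368
theorem D927 : act 4 n368 = n927 := rfl
theorem F487 : act 0 n927 = n370 := d3_1 D927 (iv D370) D368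
def n928 : Q := act 0 n369
theorem D928 : act 0 n369 = n928 := rfl
def n929 : Q := act 4 n369
theorem D929 : act 4 n369 = n929 := rfl
def n930 : Q := act 2 n370
theorem D930 : act 2 n370 = n930 := rfl
def n931 : Q := act 3 n370
theorem D931 : act 3 n370 = n931 := rfl
def n932 : Q := act 1 n371
theorem D932 : act 1 n371 = n932 := rfl
def n933 : Q := act 2 n371
theorem D933 : act 2 n371 = n933 := rfl
def n934 : Q := act 3 n371
theorem D934 : act 3 n371 = n934 := rfl
def n935 : Q := act 4 n371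
theorem D935 : act 4 n371 = n935 := rfl
theorem F488 : act 0 n935 = n372 := d3_1 D935 (iv D372) D371
def n936 : Q := act 2 n372
theorem D936 : act 2 n372 = n936 := rfl
def n937 : Q := act 3 n372
theorem D937 : act 3 n372 = n937 := rfl
def n938 : Q := act 0 n373
theorem D938 : act 0 n373 = n938 := rfl
def n939 : Q := act 1 n373
theorem D939 : act 1 n373 = n939 := rfl
def n940 : Q := act 3 n373
theorem D940 : act 3 n373 = n940 := rfl
theorem F490 : act 2 n940 = n374 := d7_1 D940 (iv D374) D373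
def n941 : Q := act 4 n373
theorem D941 : act 4 n373 = n941 := rfl
def n942 : Q := act 0 n374
theorem D942 : act 0 n374 = n942 := rfl
def n943 : Q := act 4 n374
theorem D943 : act 4 n374 = n943 := rfl
def n944 : Q := act 0 n375
theorem D944 : act 0 n375 = n944 := rfl
def n945 : Q := act 2 n375
theorem D945 : act 2 n375 = n945 := rfl
def n946 : Q := act 3 n375
theorem D946 : act 3 n375 = n946 := rfl
theorem F492 : act 1 n946 = n377 := d5_1 D946 (iv D377) D375
def n947 : Q := act 4 n375
theorem D947 : act 4 n375 = n947 := rfl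
theorem F493 : act 1 n947 = n378 := d6_1 D947 (iv D378) D375
def n948 : Q := act 1 n376
theorem D948 : act 1 n376 = n948 := rfl
def n949 : Q := act 4 n376
theorem D949 : act 4 n376 = n949 := rfl
theorem F494 : act 0 n949 = n668 := d3_1 D949 (iv D668) (iv F172)
theorem F495 : act 2 n949 = n389 := d11_2 D376 D949 (iv D389) (iv D148) (iv D52) (iv F20) D142
def n950 : Q := act 4 n377
theorem D950 : act 4 n377 = n950 := rfl
theorem F496 : act 0 n950 = n861 := d3_1 D950 (iv D861) (iv F173)
theorem F497 : act 3 n950 = n381 := d12_2 D377 D950 (iv D381) (iv D144) (iv D50) D49 D142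
def n951 : Q := act 2 n378
theorem D951 : act 2 n378 = n951 := rfl
theorem F498 : act 0 n951 = n909 := d11_3 (iv D376) D378 D951 (iv D909) (iv D362) (iv F113) (iv F172)
def n952 : Q := act 3 n378
theorem D952 : act 3 n378 = n952 := rfl
def n953 : Q := act 0 n379
theorem D953 : act 0 n379 = n953 := rfl
theorem F499 : act 2 n953 = n387 := d1_2 D379 D953 F176 D909 (iv F498) (iv D951) F174
def n956 : Q := act 4 n379
theorem D956 : act 4 n379 = n956 := rfl
theorem F502 : act 2 n956 = n391 := d8_1 D956 (iv D391) (iv D148) (iv D52) (iv F20) D143 D379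
def n957 : Q := act 4 n380
theorem D957 : act 4 n380 = n957 := rfl
theorem F503 : act 3 n957 = n382 := d9_1 D957 (iv D382) (iv D144) (iv D50) D49 D143 D380
def n958 : Q := act 1 n381
theorem D958 : act 1 n381 = n958 := rfl
def n959 : Q := act 2 n381
theorem D959 : act 2 n381 = n959 := rfl
theorem F504 : act 0 n959 = n678 := d1_1 D959 F334 D911 F480 (iv D808) F142 D381
def n960 : Q := act 4 n381
theorem D960 : act 4 n381 = n960 := rfl
def n962 : Q := act 2 n383
theorem D962 : act 2 n383 = n962 := rfl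
def n963 : Q := act 4 n383
theorem D963 : act 4 n383 = n963 := rfl
theorem F506 : act 0 n963 = n385 := d3_1 D963 (iv D385) D383
def n964 : Q := act 0 n384
theorem D964 : act 0 n384 = n964 := rfl
def n965 : Q := act 1 n384
theorem D965 : act 1 n384 = n965 := rfl
def n966 : Q := act 4 n384
theorem D966 : act 4 n384 = n966 := rfl
def n967 : Q := act 2 n385
theorem D967 : act 2 n385 = n967 := rfl
def n968 : Q := act 0 n386
theorem D968 : act 0 n386 = n968 := rfl
def n969 : Q := act 2 n386
theorem D969 : act 2 n386 = n969 := rfl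
def n970 : Q := act 4 n386
theorem D970 : act 4 n386 = n970 := rfl
theorem F507 : act 1 n970 = n387 := d6_1 D970 (iv D387) D386
def n971 : Q := act 3 n387
theorem D971 : act 3 n387 = n971 := rfl
def n972 : Q := act 0 n388
theorem D972 : act 0 n388 = n972 := rfl
theorem F509 : act 2 n972 = n668 := d1_2 D388 D972 (iv F494) F495 (iv D389) (iv D148) (iv F63)
theorem F510 : act 3 n972 = n894 := d10_4 F58 (iv F63) D388 D972 (iv D894) (iv D357) F57
def n973 : Q := act 1 n388
theorem D973 : act 1 n388 = n973 := rfl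
def n974 : Q := act 4 n388
theorem D974 : act 4 n388 = n974 := rfl
def n976 : Q := act 3 n389
theorem D976 : act 3 n389 = n976 := rfl
theorem F511 : act 0 n976 = n870 := d2_1 D976 F459 D972 F510 (iv D894) F165 D389
def n977 : Q := act 4 n389
theorem D977 : act 4 n389 = n977 := rfl
def n979 : Q := act 2 n390
theorem D979 : act 2 n390 = n979 := rfl
def n982 : Q := act 2 n392
theorem D982 : act 2 n392 = n982 := rfl
theorem F514 : act 0 n982 = n633 := d1_1 D982 F348 (iv D480) (iv D182) D181 D477 F230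
def n983 : Q := act 3 n392
theorem D983 : act 3 n392 = n983 := rfl
theorem F515 : act 1 n983 = n394 := d5_1 D983 (iv D394) D392
def n984 : Q := act 4 n392
theorem D984 : act 4 n392 = n984 := rfl
theorem F516 : act 1 n984 = n395 := d6_1 D984 (iv D395) D392
def n985 : Q := act 3 n393
theorem D985 : act 3 n393 = n985 := rfl
theorem F517 : act 1 n985 = n658 := d5_1 D985 (iv D658) (iv F178)
theorem F518 : act 2 n985 = n394 := d7_1 D985 (iv D394) D393
def n986 : Q := act 4 n393
theorem D986 : act 4 n393 = n986 := rfl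
theorem F519 : act 0 n986 = n986 := d3_1 D986 (iv D986) F177
theorem F520 : act 1 n986 = n659 := d6_1 D986 (iv D659) (iv F178)
theorem F521 : act 2 n986 = n410 := d11_2 D393 D986 (iv D410) (iv D155) (iv D55) D53 D149
def n987 : Q := act 4 n394
theorem D987 : act 4 n394 = n987 := rfl
def n988 : Q := act 2 n395
theorem D988 : act 2 n395 = n988 := rfl
theorem F522 : act 0 n988 = n988 := d1_1 D988 (iv D988) F179 D402 F184 (iv D402) (iv F179)
def n989 : Q := act 3 n395
theorem D989 : act 3 n395 = n989 := rfl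
def n990 : Q := act 2 n396
theorem D990 : act 2 n396 = n990 := rfl
theorem F523 : act 1 n990 = n693 := d4_1 D990 (iv D693) (iv D271) (iv D99) D98 D267 (iv F180)
def n991 : Q := act 3 n396
theorem D991 : act 3 n396 = n991 := rfl
theorem F524 : act 1 n991 = n682 := d5_1 D991 (iv D682) (iv F180)
def n992 : Q := act 4 n396
theorem D992 : act 4 n396 = n992 := rfl
theorem F525 : act 0 n992 = n399 := d3_1 D992 (iv D399) D396
theorem F526 : act 1 n992 = n683 := d6_1 D992 (iv D683) (iv F180)
def n993 : Q := act 3 n397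
theorem D993 : act 3 n397 = n993 := rfl
theorem F527 : act 1 n993 = n430 := d5_1 D993 (iv D430) (iv F181)
theorem F528 : act 2 n993 = n398 := d7_1 D993 (iv D398) D397
def n994 : Q := act 4 n397
theorem D994 : act 4 n397 = n994 := rfl
theorem F529 : act 0 n994 = n714 := d3_1 D994 (iv D714) F302
theorem F530 : act 1 n994 = n431 := d6_1 D994 (iv D431) (iv F181)
def n995 : Q := act 0 n398
theorem D995 : act 0 n398 = n995 := rfl
def n996 : Q := act 4 n398
theorem D996 : act 4 n398 = n996 := rfl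
theorem F531 : act 1 n996 = n401 := d6_1 D996 (iv D401) (iv F182)
def n997 : Q := act 2 n399
theorem D997 : act 2 n399 = n997 := rfl
def n998 : Q := act 3 n399
theorem D998 : act 3 n399 = n998 := rfl
theorem F532 : act 1 n998 = n403 := d5_1 D998 (iv D403) (iv F183)
def n999 : Q := act 1 n400
theorem D999 : act 1 n400 = n999 := rfl
def n1000 : Q := act 2 n400
theorem D1000 : act 2 n400 = n1000 := rfl
theorem F533 : act 0 n1000 = n985 := d1_1 D1000 F518 (iv F185) (iv D405) (iv D153) (iv F64) D400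
def n1001 : Q := act 3 n400
theorem D1001 : act 3 n400 = n1001 := rfl
def n1002 : Q := act 4 n400
theorem D1002 : act 4 n400 = n1002 := rfl
theorem F534 : act 0 n1002 = n401 := d3_1 D1002 (iv D401) D400
def n1003 : Q := act 2 n401
theorem D1003 : act 2 n401 = n1003 := rfl
def n1004 : Q := act 3 n401
theorem D1004 : act 3 n401 = n1004 := rfl
def n1005 : Q := act 3 n402
theorem D1005 : act 3 n402 = n1005 := rfl
theorem F535 : act 2 n1005 = n403 := d7_1 D1005 (iv D403) D402
def n1006 : Q := act 0 n403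
theorem D1006 : act 0 n403 = n1006 := rfl
def n1007 : Q := act 4 n403
theorem D1007 : act 4 n403 = n1007 := rfl
def n1008 : Q := act 0 n404
theorem D1008 : act 0 n404 = n1008 := rfl
theorem F536 : act 1 n1008 = n447 := d0_2 D404 D1008 (iv D447) (iv D169) (iv D60) (iv F21) D153
def n1009 : Q := act 2 n404
theorem D1009 : act 2 n404 = n1009 := rfl
def n1010 : Q := act 3 n404
theorem D1010 : act 3 n404 = n1010 := rfl
theorem F537 : act 1 n1010 = n406 := d5_1 D1010 (iv D406) D404
def n1011 : Q := act 4 n404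
theorem D1011 : act 4 n404 = n1011 := rfl
theorem F538 : act 1 n1011 = n407 := d6_1 D1011 (iv D407) D404
def n1012 : Q := act 1 n405
theorem D1012 : act 1 n405 = n1012 := rfl
def n1013 : Q := act 3 n405
theorem D1013 : act 3 n405 = n1013 := rfl
theorem F539 : act 0 n1013 = n1001 := d2_1 D1013 (iv D1001) (iv D400) (iv D151) D149 D394 (iv F185)
theorem F540 : act 2 n1013 = n406 := d7_1 D1013 (iv D406) D405
def n1014 : Q := act 4 n405
theorem D1014 : act 4 n405 = n1014 := rfl
theorem F541 : act 0 n1014 = n987 := d3_1 D1014 (iv D987) (iv F185)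
def n1015 : Q := act 4 n406
theorem D1015 : act 4 n406 = n1015 := rfl
theorem F542 : act 0 n1015 = n1015 := d3_1 D1015 (iv D1015) F186
theorem F543 : act 3 n1015 = n414 := d12_2 D406 D1015 (iv D414) (iv D156) (iv D55) D54 D153
def n1016 : Q := act 2 n407
theorem D1016 : act 2 n407 = n1016 := rfl
def n1017 : Q := act 3 n407
theorem D1017 : act 3 n407 = n1017 := rfl
theorem F544 : act 0 n1017 = n1017 := d2_1 D1017 (iv D1017) F187 D409 F189 (iv D409) (iv F187)
def n1018 : Q := act 0 n408
theorem D1018 : act 0 n408 = n1018 := rfl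
def n1019 : Q := act 1 n408
theorem D1019 : act 1 n408 = n1019 := rfl
def n1020 : Q := act 3 n408
theorem D1020 : act 3 n408 = n1020 := rfl
theorem F545 : act 2 n1020 = n409 := d7_1 D1020 (iv D409) D408
def n1021 : Q := act 4 n408
theorem D1021 : act 4 n408 = n1021 := rfl
def n1022 : Q := act 4 n409
theorem D1022 : act 4 n409 = n1022 := rfl
theorem F546 : act 0 n1022 = n1022 := d3_1 D1022 (iv D1022) F189
theorem F547 : act 1 n1022 = n461 := d6_1 D1022 (iv D461) (iv F188)
theorem F548 : act 3 n1022 = n415 := d9_1 D1022 (iv D415) (iv D156) (iv D55) D54 D154 D409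
def n1023 : Q := act 1 n410
theorem D1023 : act 1 n410 = n1023 := rfl
def n1024 : Q := act 3 n410
theorem D1024 : act 3 n410 = n1024 := rfl
def n1025 : Q := act 4 n410
theorem D1025 : act 4 n410 = n1025 := rfl
theorem F549 : act 0 n1025 = n413 := d3_1 D1025 (iv D413) D410
def n1026 : Q := act 0 n411
theorem D1026 : act 0 n411 = n1026 := rfl
theorem F550 : act 1 n1026 = n913 := d14_4 (iv F23) D155 D411 D1026 (iv D913) (iv D364) (iv D138) (iv D48) (iv D15) (iv F4) (iv F7)
def n1027 : Q := act 2 n411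
theorem D1027 : act 2 n411 = n1027 := rfl
theorem F551 : act 1 n1027 = n466 := d4_1 D1027 (iv D466) (iv D176) (iv D62) (iv F23) D155 D411
def n1028 : Q := act 3 n411
theorem D1028 : act 3 n411 = n1028 := rfl
theorem F552 : act 1 n1028 = n412 := d5_1 D1028 (iv D412) D411
def n1029 : Q := act 4 n411
theorem D1029 : act 4 n411 = n1029 := rfl
theorem F553 : act 1 n1029 = n413 := d6_1 D1029 (iv D413) D411
def n1030 : Q := act 0 n412
theorem D1030 : act 0 n412 = n1030 := rfl
def n1031 : Q := act 4 n412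
theorem D1031 : act 4 n412 = n1031 := rfl
def n1032 : Q := act 3 n413
theorem D1032 : act 3 n413 = n1032 := rfl
def n1033 : Q := act 1 n414
theorem D1033 : act 1 n414 = n1033 := rfl
def n1034 : Q := act 2 n414
theorem D1034 : act 2 n414 = n1034 := rfl
theorem F554 : act 0 n1034 = n1024 := d10_3 D156 D414 D1034 (iv D1024) (iv D410) (iv D155) F22
def n1035 : Q := act 4 n414
theorem D1035 : act 4 n414 = n1035 := rfl
theorem F555 : act 0 n1035 = n415 := d3_1 D1035 (iv D415) D414
def n1036 : Q := act 2 n415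
theorem D1036 : act 2 n415 = n1036 := rfl
def n1037 : Q := act 3 n416
theorem D1037 : act 3 n416 = n1037 := rfl
theorem F556 : act 2 n1037 = n417 := d7_1 D1037 (iv D417) D416
def n1038 : Q := act 4 n416
theorem D1038 : act 4 n416 = n1038 := rfl
def n1039 : Q := act 4 n417
theorem D1039 : act 4 n417 = n1039 := rfl
theorem F557 : act 1 n1039 = n422 := d6_1 D1039 (iv D422) (iv F192)
def n1040 : Q := act 2 n418
theorem D1040 : act 2 n418 = n1040 := rfl
def n1041 : Q := act 3 n418
theorem D1041 : act 3 n418 = n1041 := rfl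
theorem F558 : act 1 n1041 = n424 := d5_1 D1041 (iv D424) (iv F193)
def n1042 : Q := act 3 n419
theorem D1042 : act 3 n419 = n1042 := rfl
theorem F559 : act 1 n1042 = n420 := d5_1 D1042 (iv D420) D419
def n1043 : Q := act 4 n419
theorem D1043 : act 4 n419 = n1043 := rfl
theorem F560 : act 0 n1043 = n490 := d3_1 D1043 (iv D490) (iv F194)
theorem F561 : act 1 n1043 = n421 := d6_1 D1043 (iv D421) D419
def n1044 : Q := act 4 n420
theorem D1044 : act 4 n420 = n1044 := rfl
theorem F562 : act 0 n1044 = n536 := d3_1 D1044 (iv D536) (iv F196)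
theorem F563 : act 2 n1044 = n573 := d11_2 (iv F195) D1044 (iv D573) (iv D221) (iv D79) D77 (iv F68)
def n1045 : Q := act 3 n421
theorem D1045 : act 3 n421 = n1045 := rfl
theorem F564 : act 2 n1045 = n463 := d7_1 D1045 (iv D463) (iv F198)
theorem F565 : act 0 n1045 = n607 := d10_1 D1045 (iv D607) (iv D235) (iv D84) D82 (iv F81) (iv F197)
def n1046 : Q := act 2 n422
theorem D1046 : act 2 n422 = n1046 := rfl
theorem F566 : act 0 n1046 = n538 := d1_1 D1046 (iv D538) F89 D206 D540 F262 (iv F199)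
def n1047 : Q := act 3 n422
theorem D1047 : act 3 n422 = n1047 := rfl
theorem F567 : act 0 n1047 = n441 := d12_3 D159 D422 D1047 (iv D441) (iv D166) (iv D58) D56
def n1048 : Q := act 1 n423
theorem D1048 : act 1 n423 = n1048 := rfl
def n1049 : Q := act 3 n423
theorem D1049 : act 3 n423 = n1049 := rfl
theorem F568 : act 2 n1049 = n424 := d7_1 D1049 (iv D424) D423
theorem F569 : act 0 n1049 = n552 := d10_1 D1049 (iv D552) (iv D211) (iv D75) (iv F25) D189 (iv F200)
def n1050 : Q := act 4 n423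
theorem D1050 : act 4 n423 = n1050 := rfl
theorem F570 : act 0 n1050 = n497 := d3_1 D1050 (iv D497) (iv F200)
theorem F571 : act 2 n1050 = n464 := d8_1 D1050 (iv D464) (iv F198) (iv D421) (iv D158) D160 D423
def n1051 : Q := act 0 n424
theorem D1051 : act 0 n424 = n1051 := rfl
theorem F572 : act 2 n1051 = n548 := d1_2 F568 D1051 (iv D548) F90 D211 D552 (iv F569)
theorem F573 : act 3 n1051 = n570 := d12_4 (iv D159) D160 D424 D1051 (iv D570) (iv D218) (iv F68)
def n1052 : Q := act 4 n424
theorem D1052 : act 4 n424 = n1052 := rfl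
def n1053 : Q := act 3 n425
theorem D1053 : act 3 n425 = n1053 := rfl
theorem F574 : act 1 n1053 = n427 := d5_1 D1053 (iv D427) D425
theorem F575 : act 2 n1053 = n1053 := d7_1 D1053 (iv D1053) F201
def n1054 : Q := act 4 n425
theorem D1054 : act 4 n425 = n1054 := rfl
theorem F576 : act 1 n1054 = n428 := d6_1 D1054 (iv D428) D425
def n1055 : Q := act 0 n426
theorem D1055 : act 0 n426 = n1055 := rfl
theorem F577 : act 1 n1055 = n657 := d0_2 F352 D1055 (iv F339) (iv D688) (iv D270) D271 D692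
def n1056 : Q := act 3 n426
theorem D1056 : act 3 n426 = n1056 := rfl
theorem F578 : act 2 n1056 = n427 := d7_1 D1056 (iv D427) D426
def n1057 : Q := act 4 n426
theorem D1057 : act 4 n426 = n1057 := rfl
def n1058 : Q := act 0 n427
theorem D1058 : act 0 n427 = n1058 := rfl
def n1059 : Q := act 4 n427
theorem D1059 : act 4 n427 = n1059 := rfl
def n1060 : Q := act 2 n428
theorem D1060 : act 2 n428 = n1060 := rfl
def n1061 : Q := act 3 n428
theorem D1061 : act 3 n428 = n1061 := rfl
def n1062 : Q := act 2 n429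
theorem D1062 : act 2 n429 = n1062 := rfl
theorem F579 : act 1 n1062 = n511 := d14_2 (iv F303) D1062 F347 (iv D247) (iv D89) (iv D29) (iv D9) D10 D34 (iv F26) D195
def n1063 : Q := act 3 n429
theorem D1063 : act 3 n429 = n1063 := rfl
theorem F580 : act 1 n1063 = n512 := d5_1 D1063 (iv D512) (iv F303)
def n1064 : Q := act 4 n429
theorem D1064 : act 4 n429 = n1064 := rfl
theorem F581 : act 0 n1064 = n431 := d3_1 D1064 (iv D431) D429
theorem F582 : act 1 n1064 = n513 := d6_1 D1064 (iv D513) (iv F303)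
def n1065 : Q := act 0 n430
theorem D1065 : act 0 n430 = n1065 := rfl
def n1066 : Q := act 4 n430
theorem D1066 : act 4 n430 = n1066 := rfl
def n1067 : Q := act 2 n431
theorem D1067 : act 2 n431 = n1067 := rfl
def n1068 : Q := act 3 n431
theorem D1068 : act 3 n431 = n1068 := rfl
def n1069 : Q := act 1 n432
theorem D1069 : act 1 n432 = n1069 := rfl
def n1070 : Q := act 2 n432
theorem D1070 : act 2 n432 = n1070 := rfl
def n1071 : Q := act 3 n432
theorem D1071 : act 3 n432 = n1071 := rfl
def n1072 : Q := act 4 n432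
theorem D1072 : act 4 n432 = n1072 := rfl
theorem F583 : act 0 n1072 = n433 := d3_1 D1072 (iv D433) D432
def n1073 : Q := act 2 n433
theorem D1073 : act 2 n433 = n1073 := rfl
def n1074 : Q := act 3 n433
theorem D1074 : act 3 n433 = n1074 := rfl
theorem F584 : act 1 n1074 = n441 := d5_1 D1074 (iv D441) (iv F204)
def n1075 : Q := act 0 n434
theorem D1075 : act 0 n434 = n1075 := rfl
def n1076 : Q := act 1 n434
theorem D1076 : act 1 n434 = n1076 := rfl
def n1077 : Q := act 3 n434
theorem D1077 : act 3 n434 = n1077 := rfl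
theorem F585 : act 2 n1077 = n435 := d7_1 D1077 (iv D435) D434
def n1078 : Q := act 4 n434
theorem D1078 : act 4 n434 = n1078 := rfl
def n1079 : Q := act 0 n435
theorem D1079 : act 0 n435 = n1079 := rfl
def n1080 : Q := act 4 n435
theorem D1080 : act 4 n435 = n1080 := rfl
theorem F586 : act 1 n1080 = n446 := d6_1 D1080 (iv D446) (iv F205)
def n1081 : Q := act 0 n436
theorem D1081 : act 0 n436 = n1081 := rfl
def n1082 : Q := act 2 n436
theorem D1082 : act 2 n436 = n1082 := rfl
def n1083 : Q := act 3 n436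
theorem D1083 : act 3 n436 = n1083 := rfl
theorem F587 : act 1 n1083 = n438 := d5_1 D1083 (iv D438) D436
def n1084 : Q := act 4 n436
theorem D1084 : act 4 n436 = n1084 := rfl
theorem F588 : act 1 n1084 = n439 := d6_1 D1084 (iv D439) D436
def n1085 : Q := act 1 n437
theorem D1085 : act 1 n437 = n1085 := rfl
def n1086 : Q := act 3 n437
theorem D1086 : act 3 n437 = n1086 := rfl
theorem F589 : act 0 n1086 = n535 := d2_1 D1086 (iv D535) (iv F196) (iv D420) F67 D186 (iv F206)
theorem F590 : act 2 n1086 = n438 := d7_1 D1086 (iv D438) D437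
def n1087 : Q := act 4 n437
theorem D1087 : act 4 n437 = n1087 := rfl
theorem F591 : act 0 n1087 = n491 := d3_1 D1087 (iv D491) (iv F206)
theorem F592 : act 2 n1087 = n457 := d11_2 D437 D1087 (iv D457) (iv D173) (iv D61) (iv F24) D165
def n1088 : Q := act 4 n438
theorem D1088 : act 4 n438 = n1088 := rfl
theorem F593 : act 0 n1088 = n570 := d3_1 D1088 (iv D570) (iv F207)
theorem F594 : act 3 n1088 = n445 := d12_2 D438 D1088 (iv D445) (iv D168) (iv D59) D58 D165
def n1089 : Q := act 2 n439
theorem D1089 : act 2 n439 = n1089 := rfl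
theorem F595 : act 0 n1089 = n493 := d11_3 (iv D437) D439 D1089 (iv D493) (iv D188) (iv F80) (iv F206)
def n1090 : Q := act 3 n439
theorem D1090 : act 3 n439 = n1090 := rfl
theorem F596 : act 0 n1090 = n571 := d2_1 D1090 (iv D571) (iv F199) D1047 F567 (iv D441) (iv F208)
def n1091 : Q := act 0 n440
theorem D1091 : act 0 n440 = n1091 := rfl
theorem F597 : act 2 n1091 = n453 := d1_2 D440 D1091 F216 D493 (iv F595) (iv D1089) F208
def n1092 : Q := act 1 n440
theorem D1092 : act 1 n440 = n1092 := rfl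
def n1093 : Q := act 3 n440
theorem D1093 : act 3 n440 = n1093 := rfl
theorem F598 : act 2 n1093 = n441 := d7_1 D1093 (iv D441) D440
theorem F599 : act 0 n1093 = n542 := d10_1 D1093 F263 (iv F239) (iv D494) (iv F216) (iv F597) (iv D1091)
def n1094 : Q := act 4 n440
theorem D1094 : act 4 n440 = n1094 := rfl
theorem F600 : act 2 n1094 = n460 := d8_1 D1094 (iv D460) (iv D173) (iv D61) (iv F24) D166 D440
def n1095 : Q := act 4 n441
theorem D1095 : act 4 n441 = n1095 := rfl
theorem F601 : act 3 n1095 = n446 := d9_1 D1095 (iv D446) (iv D168) (iv D59) D58 D166 D441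
def n1096 : Q := act 0 n442
theorem D1096 : act 0 n442 = n1096 := rfl
theorem F602 : act 1 n1096 = n444 := d0_2 D442 D1096 F210 (iv F266) (iv D545) (iv D208) (iv F72)
theorem F603 : act 4 n1096 = n442 := d17_0 (iv D442) (iv D167) (iv D59) (iv D18) D17 F6 (iv D17) D18 D59 D167 D442 D1096
def n1097 : Q := act 2 n442
theorem D1097 : act 2 n442 = n1097 := rfl
def n1098 : Q := act 3 n442
theorem D1098 : act 3 n442 = n1098 := rfl
theorem F604 : act 1 n1098 = n443 := d5_1 D1098 (iv D443) D442
def n1099 : Q := act 0 n443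
theorem D1099 : act 0 n443 = n1099 := rfl
theorem F605 : act 2 n1099 = n498 := d10_2 D443 D1099 (iv D498) (iv D190) F25 D74 (iv F72)
def n1100 : Q := act 4 n443
theorem D1100 : act 4 n443 = n1100 := rfl
def n1101 : Q := act 3 n444
theorem D1101 : act 3 n444 = n1101 := rfl
theorem F606 : act 2 n1101 = n471 := d7_1 D1101 (iv D471) (iv F211)
def n1102 : Q := act 1 n445
theorem D1102 : act 1 n445 = n1102 := rfl
def n1103 : Q := act 2 n445
theorem D1103 : act 2 n445 = n1103 := rfl
theorem F607 : act 0 n1103 = n496 := d1_1 D1103 F240 D498 (iv F605) (iv D1099) F209 D445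
def n1104 : Q := act 4 n445
theorem D1104 : act 4 n445 = n1104 := rfl
theorem F608 : act 0 n1104 = n446 := d3_1 D1104 (iv D446) D445
def n1105 : Q := act 2 n446
theorem D1105 : act 2 n446 = n1105 := rfl
def n1106 : Q := act 2 n447
theorem D1106 : act 2 n447 = n1106 := rfl
def n1107 : Q := act 3 n447
theorem D1107 : act 3 n447 = n1107 := rfl
def n1108 : Q := act 4 n447
theorem D1108 : act 4 n447 = n1108 := rfl
theorem F609 : act 0 n1108 = n450 := d3_1 D1108 (iv D450) D447
def n1109 : Q := act 0 n448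
theorem D1109 : act 0 n448 = n1109 := rfl
def n1110 : Q := act 4 n448
theorem D1110 : act 4 n448 = n1110 := rfl
def n1111 : Q := act 0 n449
theorem D1111 : act 0 n449 = n1111 := rfl
def n1112 : Q := act 4 n449
theorem D1112 : act 4 n449 = n1112 := rfl
theorem F610 : act 1 n1112 = n454 := d6_1 D1112 (iv D454) (iv F212)
theorem F611 : act 3 n472 = n1112 := d5_0 F610 F218 D472
def n1113 : Q := act 2 n450
theorem D1113 : act 2 n450 = n1113 := rfl
def n1114 : Q := act 3 n450
theorem D1114 : act 3 n450 = n1114 := rfl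
theorem F612 : act 1 n1114 = n456 := d5_1 D1114 (iv D456) (iv F213)
def n1115 : Q := act 0 n451
theorem D1115 : act 0 n451 = n1115 := rfl
def n1116 : Q := act 2 n451
theorem D1116 : act 2 n451 = n1116 := rfl
def n1117 : Q := act 3 n451
theorem D1117 : act 3 n451 = n1117 := rfl
theorem F613 : act 1 n1117 = n452 := d5_1 D1117 (iv D452) D451
def n1118 : Q := act 4 n451
theorem D1118 : act 4 n451 = n1118 := rfl
theorem F614 : act 1 n1118 = n453 := d6_1 D1118 (iv D453) D451
def n1119 : Q := act 4 n452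
theorem D1119 : act 4 n452 = n1119 := rfl
theorem F615 : act 0 n1119 = n537 := d3_1 D1119 (iv D537) (iv F214)
theorem F616 : act 3 n1119 = n498 := d12_2 D452 D1119 (iv D498) (iv D190) (iv D67) D66 (iv F73)
def n1120 : Q := act 3 n453
theorem D1120 : act 3 n453 = n1120 := rfl
theorem F617 : act 0 n1120 = n539 := d2_1 D1120 (iv D539) F89 D207 (iv F239) (iv D494) (iv F216)
def n1121 : Q := act 2 n454
theorem D1121 : act 2 n454 = n1121 := rfl
theorem F618 : act 3 n1121 = n473 := d7_2 (iv F218) D1121 (iv D473)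
theorem F619 : act 0 n1121 = n608 := d10_3 (iv F96) (iv F217) D1121 (iv D608) (iv D235) F31 D86
def n1122 : Q := act 0 n455
theorem D1122 : act 0 n455 = n1122 := rfl
theorem F620 : act 2 n1122 = n491 := d1_2 D455 D1122 (iv F591) F592 (iv D457) (iv D173) (iv F75)
theorem F621 : act 3 n1122 = n585 := d10_4 (iv D174) (iv F75) D455 D1122 (iv D585) F97 (iv F76)
def n1123 : Q := act 1 n455
theorem D1123 : act 1 n455 = n1123 := rfl
def n1124 : Q := act 3 n455
theorem D1124 : act 3 n455 = n1124 := rfl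
theorem F622 : act 0 n1124 = n579 := d2_1 D1124 (iv D579) (iv D223) D225 D585 (iv F621) (iv D1122)
theorem F623 : act 2 n1124 = n456 := d7_1 D1124 (iv D456) D455
def n1125 : Q := act 4 n455
theorem D1125 : act 4 n455 = n1125 := rfl
def n1126 : Q := act 4 n456
theorem D1126 : act 4 n456 = n1126 := rfl
theorem F624 : act 0 n1126 = n577 := d3_1 D1126 (iv D577) (iv F219)
theorem F625 : act 3 n1126 = n474 := d9_1 D1126 (iv D474) (iv F218) (iv D454) (iv D171) D172 D456
def n1127 : Q := act 1 n457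
theorem D1127 : act 1 n457 = n1127 := rfl
def n1128 : Q := act 3 n457
theorem D1128 : act 3 n457 = n1128 := rfl
theorem F626 : act 0 n1128 = n575 := d10_1 D1128 F281 (iv F219) (iv D456) F75 D173 D457
def n1129 : Q := act 4 n457
theorem D1129 : act 4 n457 = n1129 := rfl
theorem F627 : act 0 n1129 = n460 := d3_1 D1129 (iv D460) D457
def n1130 : Q := act 0 n458
theorem D1130 : act 0 n458 = n1130 := rfl
def n1131 : Q := act 2 n458
theorem D1131 : act 2 n458 = n1131 := rfl
def n1132 : Q := act 3 n458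
theorem D1132 : act 3 n458 = n1132 := rfl
theorem F628 : act 1 n1132 = n459 := d5_1 D1132 (iv D459) D458
def n1133 : Q := act 4 n458
theorem D1133 : act 4 n458 = n1133 := rfl
theorem F629 : act 1 n1133 = n460 := d6_1 D1133 (iv D460) D458
def n1134 : Q := act 0 n459
theorem D1134 : act 0 n459 = n1134 := rfl
theorem F630 : act 3 n1134 = n573 := d2_2 D459 D1134 (iv D573) D575 (iv F626) (iv D1128) (iv D457)
def n1135 : Q := act 4 n459
theorem D1135 : act 4 n459 = n1135 := rfl
def n1136 : Q := act 3 n460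
theorem D1136 : act 3 n460 = n1136 := rfl
def n1137 : Q := act 2 n461
theorem D1137 : act 2 n461 = n1137 := rfl
theorem F631 : act 3 n1137 = n475 := d7_2 (iv F222) D1137 (iv D475)
def n1138 : Q := act 2 n462
theorem D1138 : act 2 n462 = n1138 := rfl
def n1139 : Q := act 3 n462
theorem D1139 : act 3 n462 = n1139 := rfl
theorem F632 : act 1 n1139 = n463 := d5_1 D1139 (iv D463) D462
def n1140 : Q := act 4 n462
theorem D1140 : act 4 n462 = n1140 := rfl
theorem F633 : act 1 n1140 = n464 := d6_1 D1140 (iv D464) D462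
def n1141 : Q := act 4 n463
theorem D1141 : act 4 n463 = n1141 := rfl
theorem F634 : act 0 n1141 = n618 := d3_1 D1141 (iv D618) (iv F223)
def n1142 : Q := act 3 n464
theorem D1142 : act 3 n464 = n1142 := rfl
def n1143 : Q := act 1 n465
theorem D1143 : act 1 n465 = n1143 := rfl
theorem F635 : act 2 n1143 = n1143 := d14_1 D1143 (iv D1143) (iv D465) (iv D176) (iv D62) (iv F23) F22 F23 D62 D176 D465
def n1144 : Q := act 2 n465
theorem D1144 : act 2 n465 = n1144 := rfl
def n1145 : Q := act 3 n465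
theorem D1145 : act 3 n465 = n1145 := rfl
def n1146 : Q := act 4 n465
theorem D1146 : act 4 n465 = n1146 := rfl
theorem F636 : act 0 n1146 = n468 := d3_1 D1146 (iv D468) D465
def n1147 : Q := act 0 n466
theorem D1147 : act 0 n466 = n1147 := rfl
def n1148 : Q := act 3 n466
theorem D1148 : act 3 n466 = n1148 := rfl
theorem F637 : act 2 n1148 = n467 := d7_1 D1148 (iv D467) D466
def n1149 : Q := act 4 n466
theorem D1149 : act 4 n466 = n1149 := rfl
def n1150 : Q := act 0 n467
theorem D1150 : act 0 n467 = n1150 := rfl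
def n1151 : Q := act 4 n467
theorem D1151 : act 4 n467 = n1151 := rfl
theorem F638 : act 1 n1151 = n470 := d6_1 D1151 (iv D470) (iv F225)
def n1152 : Q := act 2 n468
theorem D1152 : act 2 n468 = n1152 := rfl
def n1153 : Q := act 3 n468
theorem D1153 : act 3 n468 = n1153 := rfl
theorem F639 : act 1 n1153 = n471 := d5_1 D1153 (iv D471) (iv F226)
def n1154 : Q := act 1 n469
theorem D1154 : act 1 n469 = n1154 := rfl
def n1155 : Q := act 2 n469
theorem D1155 : act 2 n469 = n1155 := rfl
theorem F640 : act 0 n1155 = n492 := d1_1 D1155 F238 (iv F227) (iv D473) (iv D179) (iv F77) D469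
def n1156 : Q := act 3 n469
theorem D1156 : act 3 n469 = n1156 := rfl
theorem F641 : act 0 n1156 = n572 := d2_1 D1156 F280 (iv F223) (iv D463) (iv D175) D177 D469
def n1157 : Q := act 4 n469
theorem D1157 : act 4 n469 = n1157 := rfl
theorem F642 : act 0 n1157 = n470 := d3_1 D1157 (iv D470) D469
def n1158 : Q := act 2 n470
theorem D1158 : act 2 n470 = n1158 := rfl
def n1159 : Q := act 3 n470
theorem D1159 : act 3 n470 = n1159 := rfl
def n1162 : Q := act 0 n472
theorem D1162 : act 0 n472 = n1162 := rfl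
def n1163 : Q := act 2 n472
theorem D1163 : act 2 n472 = n1163 := rfl
def n1164 : Q := act 4 n472
theorem D1164 : act 4 n472 = n1164 := rfl
theorem F643 : act 1 n1164 = n474 := d6_1 D1164 (iv D474) D472
def n1165 : Q := act 1 n473
theorem D1165 : act 1 n473 = n1165 := rfl
def n1166 : Q := act 4 n473
theorem D1166 : act 4 n473 = n1166 := rfl
theorem F644 : act 0 n1166 = n593 := d3_1 D1166 (iv D593) (iv F227)
def n1167 : Q := act 2 n474
theorem D1167 : act 2 n474 = n1167 := rfl
def n1168 : Q := act 0 n475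
theorem D1168 : act 0 n475 = n1168 := rfl
def n1170 : Q := act 4 n475
theorem D1170 : act 4 n475 = n1170 := rfl
def n1171 : Q := act 3 n476
theorem D1171 : act 3 n476 = n1171 := rfl
theorem F645 : act 1 n1171 = n478 := d5_1 D1171 (iv D478) D476
def n1172 : Q := act 4 n476
theorem D1172 : act 4 n476 = n1172 := rfl
theorem F646 : act 0 n1172 = n501 := d3_1 D1172 (iv D501) (iv F229)
theorem F647 : act 1 n1172 = n479 := d6_1 D1172 (iv D479) D476
def n1173 : Q := act 3 n477
theorem D1173 : act 3 n477 = n1173 := rfl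
theorem F648 : act 2 n1173 = n478 := d7_1 D1173 (iv D478) D477
def n1174 : Q := act 4 n477
theorem D1174 : act 4 n477 = n1174 := rfl
theorem F649 : act 0 n1174 = n984 := d3_1 D1174 (iv D984) (iv F230)
def n1175 : Q := act 0 n478
theorem D1175 : act 0 n478 = n1175 := rfl
def n1176 : Q := act 4 n478
theorem D1176 : act 4 n478 = n1176 := rfl
def n1177 : Q := act 2 n479
theorem D1177 : act 2 n479 = n1177 := rfl
def n1178 : Q := act 3 n479
theorem D1178 : act 3 n479 = n1178 := rfl
def n1179 : Q := act 3 n480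
theorem D1179 : act 3 n480 = n1179 := rfl
theorem F650 : act 1 n1179 = n1179 := d5_1 D1179 (iv D1179) F232
def n1180 : Q := act 4 n480
theorem D1180 : act 4 n480 = n1180 := rfl
theorem F651 : act 0 n1180 = n483 := d3_1 D1180 (iv D483) D480
theorem F652 : act 1 n1180 = n1180 := d6_1 D1180 (iv D1180) F232
def n1181 : Q := act 2 n481
theorem D1181 : act 2 n481 = n1181 := rfl
theorem F653 : act 0 n1181 = n990 := d1_1 D1181 (iv D990) (iv D396) D397 (iv F302) D712 F366
theorem F654 : act 1 n1181 = n488 := d4_1 D1181 (iv D488) (iv D185) (iv D65) D64 D182 D481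
def n1182 : Q := act 3 n481
theorem D1182 : act 3 n481 = n1182 := rfl
theorem F655 : act 1 n1182 = n482 := d5_1 D1182 (iv D482) D481
def n1183 : Q := act 4 n481
theorem D1183 : act 4 n481 = n1183 := rfl
theorem F656 : act 1 n1183 = n483 := d6_1 D1183 (iv D483) D481
def n1184 : Q := act 0 n482
theorem D1184 : act 0 n482 = n1184 := rfl
def n1185 : Q := act 4 n482
theorem D1185 : act 4 n482 = n1185 := rfl
def n1186 : Q := act 2 n483
theorem D1186 : act 2 n483 = n1186 := rfl
def n1187 : Q := act 3 n483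
theorem D1187 : act 3 n483 = n1187 := rfl
def n1188 : Q := act 1 n484
theorem D1188 : act 1 n484 = n1188 := rfl
def n1189 : Q := act 2 n484
theorem D1189 : act 2 n484 = n1189 := rfl
theorem F657 : act 0 n1189 = n983 := d10_3 D183 D484 D1189 (iv D983) (iv F230) (iv D477) (iv D181)
def n1190 : Q := act 3 n484
theorem D1190 : act 3 n484 = n1190 := rfl
def n1191 : Q := act 4 n484
theorem D1191 : act 4 n484 = n1191 := rfl
theorem F658 : act 0 n1191 = n485 := d3_1 D1191 (iv D485) D484
def n1192 : Q := act 2 n485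
theorem D1192 : act 2 n485 = n1192 := rfl
def n1193 : Q := act 3 n485
theorem D1193 : act 3 n485 = n1193 := rfl
theorem F659 : act 1 n1193 = n494 := d5_1 D1193 (iv D494) (iv F234)
def n1194 : Q := act 0 n486
theorem D1194 : act 0 n486 = n1194 := rfl
def n1195 : Q := act 1 n486
theorem D1195 : act 1 n486 = n1195 := rfl
def n1196 : Q := act 3 n486
theorem D1196 : act 3 n486 = n1196 := rfl
theorem F660 : act 2 n1196 = n487 := d7_1 D1196 (iv D487) D486
def n1197 : Q := act 4 n486
theorem D1197 : act 4 n486 = n1197 := rfl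
def n1198 : Q := act 0 n487
theorem D1198 : act 0 n487 = n1198 := rfl
def n1199 : Q := act 4 n487
theorem D1199 : act 4 n487 = n1199 := rfl
theorem F661 : act 1 n1199 = n499 := d6_1 D1199 (iv D499) (iv F235)
def n1200 : Q := act 3 n488
theorem D1200 : act 3 n488 = n1200 := rfl
theorem F662 : act 2 n1200 = n489 := d7_1 D1200 (iv D489) D488
def n1201 : Q := act 4 n488
theorem D1201 : act 4 n488 = n1201 := rfl
theorem F663 : act 0 n1201 = n662 := d3_1 D1201 (iv D662) (iv F344)
def n1202 : Q := act 0 n489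
theorem D1202 : act 0 n489 = n1202 := rfl
def n1203 : Q := act 4 n489
theorem D1203 : act 4 n489 = n1203 := rfl
theorem F664 : act 1 n1203 = n491 := d6_1 D1203 (iv D491) (iv F236)
def n1204 : Q := act 2 n490
theorem D1204 : act 2 n490 = n1204 := rfl
theorem F665 : act 0 n1204 = n665 := d11_3 (iv D488) D490 D1204 (iv D665) (iv D257) D255 (iv F344)
def n1205 : Q := act 3 n490
theorem D1205 : act 3 n490 = n1205 := rfl
theorem F666 : act 1 n1205 = n492 := d5_1 D1205 (iv D492) (iv F237)
def n1206 : Q := act 3 n491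
theorem D1206 : act 3 n491 = n1206 := rfl
theorem F667 : act 2 n1206 = n585 := d7_1 D1206 (iv F621) F620
def n1207 : Q := act 4 n492
theorem D1207 : act 4 n492 = n1207 := rfl
def n1208 : Q := act 1 n493
theorem D1208 : act 1 n493 = n1208 := rfl
def n1209 : Q := act 3 n493
theorem D1209 : act 3 n493 = n1209 := rfl
theorem F668 : act 2 n1209 = n494 := d7_1 D1209 (iv D494) D493
def n1210 : Q := act 4 n493
theorem D1210 : act 4 n493 = n1210 := rfl
def n1211 : Q := act 4 n494
theorem D1211 : act 4 n494 = n1211 := rfl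
theorem F669 : act 0 n1211 = n544 := d3_1 D1211 (iv D544) (iv F239)
theorem F670 : act 3 n1211 = n499 := d9_1 D1211 (iv D499) (iv D190) (iv D67) D66 D188 D494
def n1212 : Q := act 0 n495
theorem D1212 : act 0 n495 = n1212 := rfl
theorem F671 : act 1 n1212 = n1050 := d15_5 (iv D74) (iv F25) D189 D495 D1212 F571 F224 (iv F211) (iv F602) (iv D1096) (iv D442) F72
theorem F672 : act 4 n1212 = n1048 := d17_0 (iv D1048) (iv D423) (iv D160) D158 D419 F194 (iv D185) (iv D65) D67 D189 D495 D1212
def n1213 : Q := act 2 n495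
theorem D1213 : act 2 n495 = n1213 := rfl
def n1214 : Q := act 3 n495
theorem D1214 : act 3 n495 = n1214 := rfl
theorem F673 : act 1 n1214 = n496 := d5_1 D1214 (iv D496) D495
def n1215 : Q := act 4 n495
theorem D1215 : act 4 n495 = n1215 := rfl
theorem F674 : act 0 n1215 = n1048 := d3_1 D1215 (iv F672) (iv D1212)
theorem F675 : act 1 n1215 = n497 := d6_1 D1215 (iv D497) D495
def n1216 : Q := act 4 n496
theorem D1216 : act 4 n496 = n1216 := rfl
def n1217 : Q := act 3 n497
theorem D1217 : act 3 n497 = n1217 := rfl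
theorem F676 : act 2 n1217 = n594 := d7_1 D1217 (iv D594) (iv F241)
def n1218 : Q := act 1 n498
theorem D1218 : act 1 n498 = n1218 := rfl
def n1219 : Q := act 4 n498
theorem D1219 : act 4 n498 = n1219 := rfl
theorem F677 : act 0 n1219 = n499 := d3_1 D1219 (iv D499) D498
def n1220 : Q := act 2 n499
theorem D1220 : act 2 n499 = n1220 := rfl
def n1221 : Q := act 0 n500
theorem D1221 : act 0 n500 = n1221 := rfl
def n1222 : Q := act 4 n500
theorem D1222 : act 4 n500 = n1222 := rfl
theorem F678 : act 1 n1222 = n507 := d6_1 D1222 (iv D507) (iv F242)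
def n1223 : Q := act 2 n501
theorem D1223 : act 2 n501 = n1223 := rfl
theorem F679 : act 1 n1223 = n598 := d14_2 (iv F244) D1223 F291 F103 (iv F91) (iv F266) (iv D545) (iv D208) (iv D74) (iv F28) (iv F83)
theorem F680 : act 4 n1223 = n595 := d17_3 D194 (iv F244) D1223 F290 (iv D595) (iv D231) (iv D83) (iv D27) (iv D8) D6 D22 D68
def n1224 : Q := act 3 n501
theorem D1224 : act 3 n501 = n1224 := rfl
theorem F681 : act 1 n1224 = n509 := d5_1 D1224 (iv D509) (iv F244)
def n1225 : Q := act 3 n502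
theorem D1225 : act 3 n502 = n1225 := rfl
theorem F682 : act 1 n1225 = n661 := d5_1 D1225 (iv D661) (iv F345)
theorem F683 : act 2 n1225 = n639 := d7_1 D1225 (iv D639) (iv F346)
theorem F684 : act 0 n1225 = n519 := d10_1 D1225 (iv D519) (iv D198) (iv D70) D68 D192 D502
def n1226 : Q := act 4 n502
theorem D1226 : act 4 n502 = n1226 := rfl
theorem F685 : act 0 n1226 = n505 := d3_1 D1226 (iv D505) D502
theorem F686 : act 1 n1226 = n662 := d6_1 D1226 (iv D662) (iv F345)
def n1227 : Q := act 3 n503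
theorem D1227 : act 3 n503 = n1227 := rfl
theorem F687 : act 1 n1227 = n504 := d5_1 D1227 (iv D504) D503
theorem F688 : act 2 n1227 = n1227 := d7_1 D1227 (iv D1227) F245
def n1228 : Q := act 4 n503
theorem D1228 : act 4 n503 = n1228 := rfl
theorem F689 : act 1 n1228 = n505 := d6_1 D1228 (iv D505) D503
def n1229 : Q := act 0 n504
theorem D1229 : act 0 n504 = n1229 := rfl
def n1230 : Q := act 4 n504
theorem D1230 : act 4 n504 = n1230 := rfl
def n1231 : Q := act 2 n505
theorem D1231 : act 2 n505 = n1231 := rfl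
theorem F690 : act 0 n1231 = n516 := d11_3 D192 D505 D1231 (iv D516) (iv D197) (iv D69) D68
def n1232 : Q := act 3 n505
theorem D1232 : act 3 n505 = n1232 := rfl
def n1233 : Q := act 2 n506
theorem D1233 : act 2 n506 = n1233 := rfl
theorem F691 : act 1 n1233 = n853 := d4_1 D1233 F448 F150 F51 (iv F48) (iv F146) (iv F248)
theorem F692 : act 3 n1233 = n831 := d7_2 (iv F247) D1233 (iv D831)
theorem F693 : act 0 n1233 = n512 := d10_3 D193 D506 D1233 (iv D512) (iv D195) (iv D69) D68
def n1234 : Q := act 4 n506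
theorem D1234 : act 4 n506 = n1234 := rfl
theorem F694 : act 0 n1234 = n507 := d3_1 D1234 (iv D507) D506
theorem F695 : act 1 n1234 = n834 := d6_1 D1234 (iv D834) (iv F248)
def n1235 : Q := act 2 n507
theorem D1235 : act 2 n507 = n1235 := rfl
def n1236 : Q := act 3 n507
theorem D1236 : act 3 n507 = n1236 := rfl
theorem F696 : act 0 n1236 = n523 := d12_3 D193 D507 D1236 (iv D523) (iv D199) (iv D70) D68
def n1237 : Q := act 0 n508
theorem D1237 : act 0 n508 = n1237 := rfl
theorem F697 : act 2 n1237 = n640 := d11_4 (iv D192) D194 D508 D1237 (iv D640) (iv F346) (iv D502)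
def n1238 : Q := act 1 n508
theorem D1238 : act 1 n508 = n1238 := rfl
def n1239 : Q := act 3 n508
theorem D1239 : act 3 n508 = n1239 := rfl
theorem F698 : act 2 n1239 = n509 := d7_1 D1239 (iv D509) D508
def n1240 : Q := act 4 n508
theorem D1240 : act 4 n508 = n1240 := rfl
def n1241 : Q := act 0 n509
theorem D1241 : act 0 n509 = n1241 := rfl
theorem F699 : act 3 n1241 = n832 := d12_4 (iv D193) D194 D509 D1241 (iv D832) (iv F247) (iv D506)
theorem F700 : act 1 n836 = n1241 := d5_3 F699 F439 D836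
def n1242 : Q := act 4 n509
theorem D1242 : act 4 n509 = n1242 := rfl
def n1243 : Q := act 3 n511
theorem D1243 : act 3 n511 = n1243 := rfl
theorem F701 : act 2 n1243 = n512 := d7_1 D1243 (iv D512) D511
def n1244 : Q := act 4 n511
theorem D1244 : act 4 n511 = n1244 := rfl
theorem F702 : act 0 n1244 = n640 := d3_1 D1244 (iv D640) (iv F347)
theorem F703 : act 2 n1244 = n524 := d11_2 D511 D1244 (iv D524) (iv D200) (iv D71) D69 D195
def n1245 : Q := act 4 n512
theorem D1245 : act 4 n512 = n1245 := rfl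
def n1246 : Q := act 2 n513
theorem D1246 : act 2 n513 = n1246 := rfl
def n1247 : Q := act 3 n513
theorem D1247 : act 3 n513 = n1247 := rfl
def n1248 : Q := act 1 n514
theorem D1248 : act 1 n514 = n1248 := rfl
def n1249 : Q := act 2 n514
theorem D1249 : act 2 n514 = n1249 := rfl
theorem F704 : act 0 n1249 = n639 := d1_1 D1249 (iv F683) F684 (iv D519) (iv D198) (iv F85) D514
def n1250 : Q := act 3 n514
theorem D1250 : act 3 n514 = n1250 := rfl
theorem F705 : act 0 n1250 = n831 := d2_1 D1250 (iv F692) F693 (iv D512) (iv D195) D196 D514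
def n1251 : Q := act 4 n514
theorem D1251 : act 4 n514 = n1251 := rfl
theorem F706 : act 0 n1251 = n515 := d3_1 D1251 (iv D515) D514
def n1252 : Q := act 2 n515
theorem D1252 : act 2 n515 = n1252 := rfl
def n1253 : Q := act 3 n515
theorem D1253 : act 3 n515 = n1253 := rfl
theorem F707 : act 1 n1253 = n725 := d5_1 D1253 (iv D725) (iv F250)
def n1254 : Q := act 1 n516
theorem D1254 : act 1 n516 = n1254 := rfl
def n1255 : Q := act 3 n516
theorem D1255 : act 3 n516 = n1255 := rfl
theorem F708 : act 2 n1255 = n517 := d7_1 D1255 (iv D517) D516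
def n1256 : Q := act 4 n516
theorem D1256 : act 4 n516 = n1256 := rfl
theorem F709 : act 2 n1256 = n527 := d8_1 D1256 (iv D527) (iv D200) (iv D71) D69 D197 D516
def n1257 : Q := act 0 n517
theorem D1257 : act 0 n517 = n1257 := rfl
def n1258 : Q := act 4 n517
theorem D1258 : act 4 n517 = n1258 := rfl
theorem F710 : act 1 n1258 = n730 := d6_1 D1258 (iv D730) (iv F251)
def n1259 : Q := act 0 n518
theorem D1259 : act 0 n518 = n1259 := rfl
theorem F711 : act 1 n1259 = n530 := d0_2 D518 D1259 (iv D530) (iv D202) (iv D72) (iv F27) D198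
def n1260 : Q := act 2 n518
theorem D1260 : act 2 n518 = n1260 := rfl
theorem F712 : act 1 n1260 = n520 := d14_2 D518 D1260 F252 (iv D328) (iv D121) (iv D41) (iv D13) (iv F3) (iv F8) (iv F27) D198
theorem F713 : act 3 n518 = n1260 := d5_0 F712 (iv D520) D518
def n1261 : Q := act 4 n518
theorem D1261 : act 4 n518 = n1261 := rfl
theorem F714 : act 1 n1261 = n521 := d6_1 D1261 (iv D521) D518
def n1262 : Q := act 1 n519
theorem D1262 : act 1 n519 = n1262 := rfl
def n1263 : Q := act 3 n519
theorem D1263 : act 3 n519 = n1263 := rfl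
theorem F715 : act 2 n1263 = n520 := d7_1 D1263 (iv D520) D519
def n1264 : Q := act 4 n519
theorem D1264 : act 4 n519 = n1264 := rfl
def n1265 : Q := act 4 n520
theorem D1265 : act 4 n520 = n1265 := rfl
theorem F716 : act 0 n1265 = n832 := d3_1 D1265 (iv D832) (iv F252)
theorem F717 : act 3 n1265 = n528 := d12_2 D520 D1265 (iv D528) (iv D201) (iv D71) D70 D198
def n1266 : Q := act 2 n521
theorem D1266 : act 2 n521 = n1266 := rfl
def n1267 : Q := act 3 n521
theorem D1267 : act 3 n521 = n1267 := rfl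
def n1268 : Q := act 0 n522
theorem D1268 : act 0 n522 = n1268 := rfl
def n1269 : Q := act 1 n522
theorem D1269 : act 1 n522 = n1269 := rfl
def n1270 : Q := act 3 n522
theorem D1270 : act 3 n522 = n1270 := rfl
theorem F718 : act 2 n1270 = n523 := d7_1 D1270 (iv D523) D522
def n1271 : Q := act 4 n522
theorem D1271 : act 4 n522 = n1271 := rfl
def n1272 : Q := act 4 n523
theorem D1272 : act 4 n523 = n1272 := rfl
theorem F719 : act 1 n1272 = n544 := d6_1 D1272 (iv D544) (iv F254)
theorem F720 : act 3 n1272 = n529 := d9_1 D1272 (iv D529) (iv D201) (iv D71) D70 D199 D523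
def n1273 : Q := act 1 n524
theorem D1273 : act 1 n524 = n1273 := rfl
def n1274 : Q := act 3 n524
theorem D1274 : act 3 n524 = n1274 := rfl
def n1275 : Q := act 4 n524
theorem D1275 : act 4 n524 = n1275 := rfl
theorem F721 : act 0 n1275 = n527 := d3_1 D1275 (iv D527) D524
def n1276 : Q := act 0 n525
theorem D1276 : act 0 n525 = n1276 := rfl
def n1277 : Q := act 2 n525
theorem D1277 : act 2 n525 = n1277 := rfl
theorem F722 : act 1 n1277 = n546 := d4_1 D1277 (iv D546) (iv D208) (iv D74) (iv F28) D200 D525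
def n1278 : Q := act 3 n525
theorem D1278 : act 3 n525 = n1278 := rfl
theorem F723 : act 1 n1278 = n526 := d5_1 D1278 (iv D526) D525
def n1279 : Q := act 4 n525
theorem D1279 : act 4 n525 = n1279 := rfl
theorem F724 : act 1 n1279 = n527 := d6_1 D1279 (iv D527) D525
def n1280 : Q := act 0 n526
theorem D1280 : act 0 n526 = n1280 := rfl
def n1281 : Q := act 4 n526
theorem D1281 : act 4 n526 = n1281 := rfl
def n1282 : Q := act 3 n527
theorem D1282 : act 3 n527 = n1282 := rfl
def n1283 : Q := act 1 n528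
theorem D1283 : act 1 n528 = n1283 := rfl
def n1284 : Q := act 2 n528
theorem D1284 : act 2 n528 = n1284 := rfl
def n1285 : Q := act 4 n528
theorem D1285 : act 4 n528 = n1285 := rfl
theorem F725 : act 0 n1285 = n529 := d3_1 D1285 (iv D529) D528
def n1286 : Q := act 2 n529
theorem D1286 : act 2 n529 = n1286 := rfl
def n1287 : Q := act 2 n530
theorem D1287 : act 2 n530 = n1287 := rfl
def n1288 : Q := act 3 n530
theorem D1288 : act 3 n530 = n1288 := rfl
def n1289 : Q := act 4 n530
theorem D1289 : act 4 n530 = n1289 := rfl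
theorem F726 : act 0 n1289 = n533 := d3_1 D1289 (iv D533) D530
def n1290 : Q := act 0 n531
theorem D1290 : act 0 n531 = n1290 := rfl
def n1291 : Q := act 1 n531
theorem D1291 : act 1 n531 = n1291 := rfl
def n1292 : Q := act 3 n531
theorem D1292 : act 3 n531 = n1292 := rfl
theorem F727 : act 2 n1292 = n532 := d7_1 D1292 (iv D532) D531
def n1293 : Q := act 4 n531
theorem D1293 : act 4 n531 = n1293 := rfl
def n1294 : Q := act 0 n532
theorem D1294 : act 0 n532 = n1294 := rfl
def n1295 : Q := act 4 n532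
theorem D1295 : act 4 n532 = n1295 := rfl
theorem F728 : act 1 n1295 = n537 := d6_1 D1295 (iv D537) (iv F257)
theorem F729 : act 3 n551 = n1295 := d5_0 F728 F261 D551
def n1296 : Q := act 2 n533
theorem D1296 : act 2 n533 = n1296 := rfl
def n1297 : Q := act 3 n533
theorem D1297 : act 3 n533 = n1297 := rfl
theorem F730 : act 1 n1297 = n539 := d5_1 D1297 (iv D539) (iv F258)
def n1298 : Q := act 0 n534
theorem D1298 : act 0 n534 = n1298 := rfl
def n1299 : Q := act 2 n534
theorem D1299 : act 2 n534 = n1299 := rfl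
def n1300 : Q := act 3 n534
theorem D1300 : act 3 n534 = n1300 := rfl
theorem F731 : act 1 n1300 = n535 := d5_1 D1300 (iv D535) D534
def n1301 : Q := act 4 n534
theorem D1301 : act 4 n534 = n1301 := rfl
theorem F732 : act 1 n1301 = n536 := d6_1 D1301 (iv D536) D534
def n1302 : Q := act 4 n535
theorem D1302 : act 4 n535 = n1302 := rfl
theorem F733 : act 2 n1302 = n608 := d11_2 (iv F259) D1302 (iv F619) (iv D1121) (iv D454) (iv F215) F214
theorem F734 : act 3 n1302 = n607 := d12_2 D535 D1302 (iv F565) (iv D1045) (iv D421) D420 F196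
def n1303 : Q := act 3 n536
theorem D1303 : act 3 n536 = n1303 := rfl
theorem F735 : act 2 n1303 = n579 := d7_1 D1303 (iv D579) (iv F260)
def n1304 : Q := act 2 n537
theorem D1304 : act 2 n537 = n1304 := rfl
theorem F736 : act 3 n1304 = n552 := d7_2 (iv F261) D1304 (iv D552)
def n1305 : Q := act 1 n538
theorem D1305 : act 1 n538 = n1305 := rfl
def n1306 : Q := act 3 n538
theorem D1306 : act 3 n538 = n1306 := rfl
theorem F737 : act 2 n1306 = n539 := d7_1 D1306 (iv D539) D538
def n1307 : Q := act 4 n538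
theorem D1307 : act 4 n538 = n1307 := rfl
theorem F738 : act 2 n1307 = n580 := d8_1 D1307 (iv D580) (iv F260) (iv D536) (iv D203) D205 D538
def n1308 : Q := act 4 n539
theorem D1308 : act 4 n539 = n1308 := rfl
theorem F739 : act 3 n1308 = n553 := d9_1 D1308 (iv D553) (iv F261) (iv D537) (iv D204) D205 D539
def n1309 : Q := act 1 n540
theorem D1309 : act 1 n540 = n1309 := rfl
def n1310 : Q := act 3 n540
theorem D1310 : act 3 n540 = n1310 := rfl
theorem F740 : act 2 n1310 = n571 := d7_1 D1310 (iv D571) (iv F262)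
def n1311 : Q := act 4 n540
theorem D1311 : act 4 n540 = n1311 := rfl
theorem F741 : act 0 n1311 = n543 := d3_1 D1311 (iv D543) D540
theorem F742 : act 2 n1311 = n576 := d8_1 D1311 (iv D576) (iv D221) (iv D79) D77 D219 (iv F262)
def n1312 : Q := act 0 n541
theorem D1312 : act 0 n541 = n1312 := rfl
def n1313 : Q := act 2 n541
theorem D1313 : act 2 n541 = n1313 := rfl
def n1314 : Q := act 3 n541
theorem D1314 : act 3 n541 = n1314 := rfl
theorem F743 : act 1 n1314 = n542 := d5_1 D1314 (iv D542) D541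
def n1315 : Q := act 4 n541
theorem D1315 : act 4 n541 = n1315 := rfl
theorem F744 : act 1 n1315 = n543 := d6_1 D1315 (iv D543) D541
def n1316 : Q := act 4 n542
theorem D1316 : act 4 n542 = n1316 := rfl
def n1317 : Q := act 3 n543
theorem D1317 : act 3 n543 = n1317 := rfl
def n1318 : Q := act 2 n544
theorem D1318 : act 2 n544 = n1318 := rfl
theorem F746 : act 3 n1318 = n554 := d7_2 (iv F265) D1318 (iv D554)
def n1319 : Q := act 2 n545
theorem D1319 : act 2 n545 = n1319 := rfl
def n1320 : Q := act 3 n545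
theorem D1320 : act 3 n545 = n1320 := rfl
theorem F747 : act 1 n1320 = n550 := d5_1 D1320 (iv D550) (iv F266)
def n1321 : Q := act 0 n546
theorem D1321 : act 0 n546 = n1321 := rfl
def n1322 : Q := act 3 n546
theorem D1322 : act 3 n546 = n1322 := rfl
theorem F748 : act 2 n1322 = n547 := d7_1 D1322 (iv D547) D546
def n1323 : Q := act 4 n546
theorem D1323 : act 4 n546 = n1323 := rfl
def n1324 : Q := act 0 n547
theorem D1324 : act 0 n547 = n1324 := rfl
def n1325 : Q := act 4 n547
theorem D1325 : act 4 n547 = n1325 := rfl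
theorem F749 : act 1 n1325 = n549 := d6_1 D1325 (iv D549) (iv F268)
def n1326 : Q := act 1 n548
theorem D1326 : act 1 n548 = n1326 := rfl
def n1327 : Q := act 3 n548
theorem D1327 : act 3 n548 = n1327 := rfl
theorem F750 : act 2 n1327 = n570 := d7_1 D1327 (iv F573) F572
def n1328 : Q := act 4 n548
theorem D1328 : act 4 n548 = n1328 := rfl
theorem F751 : act 0 n1328 = n549 := d3_1 D1328 (iv D549) D548
def n1329 : Q := act 2 n549
theorem D1329 : act 2 n549 = n1329 := rfl
def n1330 : Q := act 3 n549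
theorem D1330 : act 3 n549 = n1330 := rfl
def n1333 : Q := act 0 n551
theorem D1333 : act 0 n551 = n1333 := rfl
def n1334 : Q := act 2 n551
theorem D1334 : act 2 n551 = n1334 := rfl
def n1335 : Q := act 4 n551
theorem D1335 : act 4 n551 = n1335 := rfl
theorem F752 : act 1 n1335 = n553 := d6_1 D1335 (iv D553) D551
def n1336 : Q := act 1 n552
theorem D1336 : act 1 n552 = n1336 := rfl
def n1337 : Q := act 4 n552
theorem D1337 : act 4 n552 = n1337 := rfl
def n1338 : Q := act 2 n553
theorem D1338 : act 2 n553 = n1338 := rfl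
def n1339 : Q := act 0 n554
theorem D1339 : act 0 n554 = n1339 := rfl
def n1341 : Q := act 4 n554
theorem D1341 : act 4 n554 = n1341 := rfl
def n1342 : Q := act 0 n555
theorem D1342 : act 0 n555 = n1342 := rfl
def n1343 : Q := act 1 n555
theorem D1343 : act 1 n555 = n1343 := rfl
def n1344 : Q := act 3 n555
theorem D1344 : act 3 n555 = n1344 := rfl
theorem F753 : act 2 n1344 = n556 := d7_1 D1344 (iv D556) D555
def n1345 : Q := act 4 n555
theorem D1345 : act 4 n555 = n1345 := rfl
def n1346 : Q := act 0 n556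
theorem D1346 : act 0 n556 = n1346 := rfl
def n1347 : Q := act 4 n556
theorem D1347 : act 4 n556 = n1347 := rfl
theorem F754 : act 1 n1347 = n824 := d6_1 D1347 (iv D824) (iv F271)
theorem F755 : act 3 n1347 = n614 := d12_2 D556 D1347 (iv D614) F276 (iv D563) (iv D215) D213
def n1348 : Q := act 2 n557
theorem D1348 : act 2 n557 = n1348 := rfl
def n1349 : Q := act 3 n557
theorem D1349 : act 3 n557 = n1349 := rfl
theorem F756 : act 1 n1349 = n826 := d5_1 D1349 (iv D826) (iv F273)
def n1350 : Q := act 1 n558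
theorem D1350 : act 1 n558 = n1350 := rfl
def n1351 : Q := act 2 n558
theorem D1351 : act 2 n558 = n1351 := rfl
theorem F757 : act 1 n1351 = n663 := d15_3 D214 D558 D1351 (iv D663) F111 F35 (iv F16) (iv D42) D41 D120 (iv F92) (iv D213)
def n1352 : Q := act 3 n558
theorem D1352 : act 3 n558 = n1352 := rfl
def n1353 : Q := act 4 n558
theorem D1353 : act 4 n558 = n1353 := rfl
theorem F758 : act 0 n1353 = n561 := d3_1 D1353 (iv D561) D558
def n1354 : Q := act 0 n559
theorem D1354 : act 0 n559 = n1354 := rfl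
theorem F759 : act 1 n1354 = n732 := d14_4 D76 D214 D559 D1354 (iv D732) (iv D286) (iv D105) F13 F5 (iv F3) D25
theorem F760 : act 3 n1354 = n995 := d16_7 D171 F74 (iv D78) D76 D214 D559 D1354 (iv D995) F182 F64 F21 D60
def n1355 : Q := act 2 n559
theorem D1355 : act 2 n559 = n1355 := rfl
theorem F761 : act 1 n1355 = n567 := d4_1 D1355 (iv D567) (iv D217) (iv D77) D76 D214 D559
def n1356 : Q := act 3 n559
theorem D1356 : act 3 n559 = n1356 := rfl
theorem F762 : act 0 n1356 = n991 := d2_1 D1356 (iv D991) (iv D396) D398 D995 (iv F760) (iv D1354)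
theorem F763 : act 1 n1356 = n560 := d5_1 D1356 (iv D560) D559
def n1357 : Q := act 4 n559
theorem D1357 : act 4 n559 = n1357 := rfl
theorem F764 : act 1 n1357 = n561 := d6_1 D1357 (iv D561) D559
def n1358 : Q := act 0 n560
theorem D1358 : act 0 n560 = n1358 := rfl
def n1359 : Q := act 4 n560
theorem D1359 : act 4 n560 = n1359 := rfl
def n1360 : Q := act 2 n561
theorem D1360 : act 2 n561 = n1360 := rfl
def n1361 : Q := act 3 n561
theorem D1361 : act 3 n561 = n1361 := rfl
def n1363 : Q := act 2 n562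
theorem D1363 : act 2 n562 = n1363 := rfl
def n1365 : Q := act 4 n562
theorem D1365 : act 4 n562 = n1365 := rfl
theorem F765 : act 0 n1365 = n563 := d3_1 D1365 (iv D563) D562
def n1366 : Q := act 2 n563
theorem D1366 : act 2 n563 = n1366 := rfl
theorem F766 : act 3 n1366 = n615 := d7_2 F276 D1366 (iv D615)
def n1367 : Q := act 0 n564
theorem D1367 : act 0 n564 = n1367 := rfl
def n1368 : Q := act 1 n564
theorem D1368 : act 1 n564 = n1368 := rfl
def n1369 : Q := act 3 n564
theorem D1369 : act 3 n564 = n1369 := rfl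
theorem F767 : act 2 n1369 = n565 := d7_1 D1369 (iv D565) D564
def n1370 : Q := act 4 n564
theorem D1370 : act 4 n564 = n1370 := rfl
def n1371 : Q := act 0 n565
theorem D1371 : act 0 n565 = n1371 := rfl
def n1372 : Q := act 4 n565
theorem D1372 : act 4 n565 = n1372 := rfl
theorem F768 : act 1 n1372 = n577 := d6_1 D1372 (iv D577) (iv F277)
theorem F769 : act 3 n1372 = n616 := d9_1 D1372 (iv D616) F276 (iv D563) (iv D215) D216 D565
def n1373 : Q := act 1 n566
theorem D1373 : act 1 n566 = n1373 := rfl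
def n1374 : Q := act 2 n566
theorem D1374 : act 2 n566 = n1374 := rfl
def n1375 : Q := act 3 n566
theorem D1375 : act 3 n566 = n1375 := rfl
def n1376 : Q := act 4 n566
theorem D1376 : act 4 n566 = n1376 := rfl
theorem F770 : act 0 n1376 = n569 := d3_1 D1376 (iv D569) D566
def n1377 : Q := act 0 n567
theorem D1377 : act 0 n567 = n1377 := rfl
def n1378 : Q := act 3 n567
theorem D1378 : act 3 n567 = n1378 := rfl
theorem F771 : act 2 n1378 = n568 := d7_1 D1378 (iv D568) D567
def n1379 : Q := act 4 n567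
theorem D1379 : act 4 n567 = n1379 := rfl
def n1380 : Q := act 0 n568
theorem D1380 : act 0 n568 = n1380 := rfl
def n1381 : Q := act 4 n568
theorem D1381 : act 4 n568 = n1381 := rfl
theorem F772 : act 1 n1381 = n570 := d6_1 D1381 (iv D570) (iv F278)
def n1382 : Q := act 2 n569
theorem D1382 : act 2 n569 = n1382 := rfl
def n1383 : Q := act 3 n569
theorem D1383 : act 3 n569 = n1383 := rfl
theorem F773 : act 1 n1383 = n571 := d5_1 D1383 (iv D571) (iv F279)
def n1384 : Q := act 4 n571
theorem D1384 : act 4 n571 = n1384 := rfl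
def n1385 : Q := act 1 n572
theorem D1385 : act 1 n572 = n1385 := rfl
theorem F774 : act 3 n1385 = n617 := d5_2 (iv F280) D1385 (iv D617)
def n1386 : Q := act 4 n572
theorem D1386 : act 4 n572 = n1386 := rfl
def n1387 : Q := act 1 n573
theorem D1387 : act 1 n573 = n1387 := rfl
def n1388 : Q := act 4 n573
theorem D1388 : act 4 n573 = n1388 := rfl
theorem F775 : act 0 n1388 = n576 := d3_1 D1388 (iv D576) D573
def n1389 : Q := act 0 n574
theorem D1389 : act 0 n574 = n1389 := rfl
def n1390 : Q := act 2 n574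
theorem D1390 : act 2 n574 = n1390 := rfl
def n1391 : Q := act 3 n574
theorem D1391 : act 3 n574 = n1391 := rfl
theorem F776 : act 1 n1391 = n575 := d5_1 D1391 (iv D575) D574
def n1392 : Q := act 4 n574
theorem D1392 : act 4 n574 = n1392 := rfl
theorem F777 : act 1 n1392 = n576 := d6_1 D1392 (iv D576) D574
def n1393 : Q := act 4 n575
theorem D1393 : act 4 n575 = n1393 := rfl
def n1394 : Q := act 3 n576
theorem D1394 : act 3 n576 = n1394 := rfl
def n1395 : Q := act 2 n577
theorem D1395 : act 2 n577 = n1395 := rfl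
theorem F778 : act 3 n1395 = n619 := d7_2 (iv F282) D1395 (iv D619)
def n1396 : Q := act 0 n578
theorem D1396 : act 0 n578 = n1396 := rfl
def n1397 : Q := act 2 n578
theorem D1397 : act 2 n578 = n1397 := rfl
def n1398 : Q := act 3 n578
theorem D1398 : act 3 n578 = n1398 := rfl
theorem F779 : act 1 n1398 = n579 := d5_1 D1398 (iv D579) D578
def n1399 : Q := act 4 n578
theorem D1399 : act 4 n578 = n1399 := rfl
theorem F780 : act 1 n1399 = n580 := d6_1 D1399 (iv D580) D578
def n1400 : Q := act 4 n579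
theorem D1400 : act 4 n579 = n1400 := rfl
def n1401 : Q := act 3 n580
theorem D1401 : act 3 n580 = n1401 := rfl
def n1402 : Q := act 1 n581
theorem D1402 : act 1 n581 = n1402 := rfl
def n1403 : Q := act 2 n581
theorem D1403 : act 2 n581 = n1403 := rfl
def n1404 : Q := act 3 n581
theorem D1404 : act 3 n581 = n1404 := rfl
theorem F781 : act 0 n1404 = n843 := d16_8 D46 F19 (iv D46) (iv F9) D80 D224 D581 D1404 (iv D843) (iv D333) F49 F18
def n1405 : Q := act 4 n581
theorem D1405 : act 4 n581 = n1405 := rfl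
theorem F782 : act 0 n1405 = n584 := d3_1 D1405 (iv D584) D581
def n1406 : Q := act 0 n582
theorem D1406 : act 0 n582 = n1406 := rfl
def n1407 : Q := act 3 n582
theorem D1407 : act 3 n582 = n1407 := rfl
theorem F783 : act 1 n1407 = n882 := d5_1 D1407 (iv D882) (iv F284)
theorem F784 : act 2 n1407 = n583 := d7_1 D1407 (iv D583) D582
def n1408 : Q := act 4 n582
theorem D1408 : act 4 n582 = n1408 := rfl
theorem F785 : act 1 n1408 = n883 := d6_1 D1408 (iv D883) (iv F284)
def n1409 : Q := act 0 n583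
theorem D1409 : act 0 n583 = n1409 := rfl
def n1410 : Q := act 4 n583
theorem D1410 : act 4 n583 = n1410 := rfl
theorem F786 : act 1 n1410 = n586 := d6_1 D1410 (iv D586) (iv F285)
def n1411 : Q := act 2 n584
theorem D1411 : act 2 n584 = n1411 := rfl
def n1412 : Q := act 3 n584
theorem D1412 : act 3 n584 = n1412 := rfl
def n1413 : Q := act 1 n585
theorem D1413 : act 1 n585 = n1413 := rfl
def n1414 : Q := act 4 n585
theorem D1414 : act 4 n585 = n1414 := rfl
theorem F788 : act 0 n1414 = n586 := d3_1 D1414 (iv D586) D585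
def n1415 : Q := act 2 n586
theorem D1415 : act 2 n586 = n1415 := rfl
def n1416 : Q := act 3 n586
theorem D1416 : act 3 n586 = n1416 := rfl
def n1419 : Q := act 0 n588
theorem D1419 : act 0 n588 = n1419 := rfl
def n1422 : Q := act 1 n589
theorem D1422 : act 1 n589 = n1422 := rfl
theorem F790 : act 0 n1422 = n595 := d0_1 D1422 (iv D595) (iv D231) (iv D83) D82 D228 D589
def n1423 : Q := act 2 n589
theorem D1423 : act 2 n589 = n1423 := rfl
theorem F791 : act 0 n1423 = n1023 := d13_1 D1423 (iv D1023) (iv D410) (iv D155) F22 F23 F7 D27 D82 D228 D589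
def n1424 : Q := act 3 n589
theorem D1424 : act 3 n589 = n1424 := rfl
def n1425 : Q := act 4 n589
theorem D1425 : act 4 n589 = n1425 := rfl
theorem F792 : act 0 n1425 = n592 := d3_1 D1425 (iv D592) D589
def n1426 : Q := act 0 n590
theorem D1426 : act 0 n590 = n1426 := rfl
theorem F793 : act 1 n1426 = n1426 := d13_2 D590 D1426 (iv D1426) (iv D590) D589 D1422 F790 F290 (iv F790) (iv D1422) (iv D589)
def n1427 : Q := act 1 n590
theorem D1427 : act 1 n590 = n1427 := rfl
def n1428 : Q := act 3 n590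
theorem D1428 : act 3 n590 = n1428 := rfl
theorem F794 : act 2 n1428 = n591 := d7_1 D1428 (iv D591) D590
def n1429 : Q := act 4 n590
theorem D1429 : act 4 n590 = n1429 := rfl
def n1430 : Q := act 0 n591
theorem D1430 : act 0 n591 = n1430 := rfl
def n1431 : Q := act 4 n591
theorem D1431 : act 4 n591 = n1431 := rfl
theorem F795 : act 1 n1431 = n593 := d6_1 D1431 (iv D593) (iv F288)
def n1432 : Q := act 2 n592
theorem D1432 : act 2 n592 = n1432 := rfl
def n1433 : Q := act 3 n592
theorem D1433 : act 3 n592 = n1433 := rfl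
theorem F796 : act 1 n1433 = n594 := d5_1 D1433 (iv D594) (iv F289)
def n1434 : Q := act 2 n593
theorem D1434 : act 2 n593 = n1434 := rfl
def n1435 : Q := act 3 n593
theorem D1435 : act 3 n593 = n1435 := rfl
theorem F797 : act 0 n1435 = n611 := d12_3 D229 D593 D1435 (iv D611) (iv D236) (iv D84) D82
def n1436 : Q := act 0 n594
theorem D1436 : act 0 n594 = n1436 := rfl
def n1437 : Q := act 4 n594
theorem D1437 : act 4 n594 = n1437 := rfl
def n1438 : Q := act 3 n595
theorem D1438 : act 3 n595 = n1438 := rfl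
theorem F798 : act 1 n1438 = n597 := d5_1 D1438 (iv D597) D595
theorem F799 : act 2 n1438 = n1438 := d7_1 D1438 (iv D1438) F290
def n1439 : Q := act 0 n596
theorem D1439 : act 0 n596 = n1439 := rfl
theorem F800 : act 1 n1439 = n665 := d13_2 D596 D1439 (iv F665) (iv D1204) (iv F560) F561 F197 F81 (iv D82) D83 D231
theorem F801 : act 2 n902 = n1439 := d4_0 F800 (iv D665) F112 F37 D135 D359 D902
def n1440 : Q := act 1 n596
theorem D1440 : act 1 n596 = n1440 := rfl
theorem F802 : act 2 n1440 = n1440 := d4_2 D596 D1440 (iv D1440) (iv D596) D595 F290 (iv D595)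
def n1441 : Q := act 3 n596
theorem D1441 : act 3 n596 = n1441 := rfl
theorem F803 : act 2 n1441 = n597 := d7_1 D1441 (iv D597) D596
def n1442 : Q := act 4 n596
theorem D1442 : act 4 n596 = n1442 := rfl
def n1443 : Q := act 0 n597
theorem D1443 : act 0 n597 = n1443 := rfl
theorem F804 : act 3 n1443 = n965 := d16_2 D597 D1443 (iv D965) (iv D384) (iv D145) (iv D51) (iv D16) F2 (iv F4) D27 D83 D231
theorem F805 : act 1 n1443 = n841 := d16_9 F54 (iv D51) (iv D16) (iv F4) D27 D83 D231 D597 D1443 (iv D841) F147 F53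
def n1444 : Q := act 4 n597
theorem D1444 : act 4 n597 = n1444 := rfl
def n1445 : Q := act 2 n598
theorem D1445 : act 2 n598 = n1445 := rfl
def n1446 : Q := act 3 n598
theorem D1446 : act 3 n598 = n1446 := rfl
def n1447 : Q := act 1 n599
theorem D1447 : act 1 n599 = n1447 := rfl
def n1448 : Q := act 2 n599
theorem D1448 : act 2 n599 = n1448 := rfl
theorem F806 : act 0 n1448 = n902 := d1_1 D1448 F801 (iv D1439) (iv D596) (iv D231) D232 D599
def n1449 : Q := act 3 n599
theorem D1449 : act 3 n599 = n1449 := rfl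
def n1450 : Q := act 4 n599
theorem D1450 : act 4 n599 = n1450 := rfl
theorem F807 : act 0 n1450 = n601 := d3_1 D1450 (iv D601) D599
def n1451 : Q := act 0 n600
theorem D1451 : act 0 n600 = n1451 := rfl
def n1452 : Q := act 4 n600
theorem D1452 : act 4 n600 = n1452 := rfl
theorem F808 : act 1 n1452 = n929 := d6_1 D1452 (iv D929) (iv F292)
def n1453 : Q := act 2 n601
theorem D1453 : act 2 n601 = n1453 := rfl
def n1454 : Q := act 3 n601
theorem D1454 : act 3 n601 = n1454 := rfl
theorem F809 : act 1 n1454 = n931 := d5_1 D1454 (iv D931) (iv F294)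
def n1455 : Q := act 1 n602
theorem D1455 : act 1 n602 = n1455 := rfl
def n1456 : Q := act 2 n602
theorem D1456 : act 2 n602 = n1456 := rfl
def n1457 : Q := act 3 n602
theorem D1457 : act 3 n602 = n1457 := rfl
theorem F810 : act 0 n1457 = n965 := d2_1 D1457 (iv F804) (iv D1443) (iv D597) (iv D231) D233 D602
def n1458 : Q := act 4 n602
theorem D1458 : act 4 n602 = n1458 := rfl
theorem F811 : act 0 n1458 = n603 := d3_1 D1458 (iv D603) D602
def n1459 : Q := act 2 n603
theorem D1459 : act 2 n603 = n1459 := rfl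
def n1460 : Q := act 3 n603
theorem D1460 : act 3 n603 = n1460 := rfl
theorem F812 : act 1 n1460 = n611 := d5_1 D1460 (iv D611) (iv F295)
def n1461 : Q := act 0 n604
theorem D1461 : act 0 n604 = n1461 := rfl
def n1462 : Q := act 1 n604
theorem D1462 : act 1 n604 = n1462 := rfl
def n1463 : Q := act 3 n604
theorem D1463 : act 3 n604 = n1463 := rfl
theorem F813 : act 2 n1463 = n605 := d7_1 D1463 (iv D605) D604
def n1464 : Q := act 4 n604
theorem D1464 : act 4 n604 = n1464 := rfl
def n1466 : Q := act 4 n605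
theorem D1466 : act 4 n605 = n1466 := rfl
theorem F814 : act 1 n1466 = n613 := d6_1 D1466 (iv D613) (iv F296)
def n1467 : Q := act 0 n606
theorem D1467 : act 0 n606 = n1467 := rfl
def n1468 : Q := act 2 n606
theorem D1468 : act 2 n606 = n1468 := rfl
def n1469 : Q := act 3 n606
theorem D1469 : act 3 n606 = n1469 := rfl
theorem F815 : act 1 n1469 = n608 := d5_1 D1469 (iv D608) D606
def n1470 : Q := act 4 n606
theorem D1470 : act 4 n606 = n1470 := rfl
theorem F816 : act 1 n1470 = n609 := d6_1 D1470 (iv D609) D606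
def n1471 : Q := act 1 n607
theorem D1471 : act 1 n607 = n1471 := rfl
def n1472 : Q := act 4 n607
theorem D1472 : act 4 n607 = n1472 := rfl
theorem F817 : act 2 n1472 = n620 := d11_2 D607 D1472 (iv D620) (iv D241) (iv D87) (iv F31) D235
def n1473 : Q := act 4 n608
theorem D1473 : act 4 n608 = n1473 := rfl
theorem F818 : act 3 n1473 = n612 := d12_2 D608 D1473 (iv D612) (iv D237) (iv D85) D84 D235
def n1474 : Q := act 2 n609
theorem D1474 : act 2 n609 = n1474 := rfl
def n1475 : Q := act 3 n609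
theorem D1475 : act 3 n609 = n1475 := rfl
def n1476 : Q := act 0 n610
theorem D1476 : act 0 n610 = n1476 := rfl
theorem F819 : act 2 n1476 = n618 := d11_4 (iv F31) D236 D610 D1476 (iv D618) (iv D239) (iv D86)
def n1478 : Q := act 3 n610
theorem D1478 : act 3 n610 = n1478 := rfl
theorem F820 : act 2 n1478 = n611 := d7_1 D1478 (iv D611) D610
def n1479 : Q := act 4 n610
theorem D1479 : act 4 n610 = n1479 := rfl
theorem F821 : act 2 n1479 = n622 := d8_1 D1479 (iv D622) (iv D241) (iv D87) (iv F31) D236 D610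
def n1480 : Q := act 4 n611
theorem D1480 : act 4 n611 = n1480 := rfl
theorem F822 : act 3 n1480 = n613 := d9_1 D1480 (iv D613) (iv D237) (iv D85) D84 D236 D611
def n1483 : Q := act 4 n612
theorem D1483 : act 4 n612 = n1483 := rfl
theorem F823 : act 0 n1483 = n613 := d3_1 D1483 (iv D613) D612
def n1484 : Q := act 2 n613
theorem D1484 : act 2 n613 = n1484 := rfl
def n1485 : Q := act 2 n614
theorem D1485 : act 2 n614 = n1485 := rfl
def n1486 : Q := act 4 n614
theorem D1486 : act 4 n614 = n1486 := rfl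
theorem F824 : act 0 n1486 = n616 := d3_1 D1486 (iv D616) D614
theorem F825 : act 1 n1486 = n963 := d6_1 D1486 (iv D963) (iv F298)
def n1487 : Q := act 0 n615
theorem D1487 : act 0 n615 = n1487 := rfl
def n1488 : Q := act 1 n615
theorem D1488 : act 1 n615 = n1488 := rfl
def n1489 : Q := act 4 n615
theorem D1489 : act 4 n615 = n1489 := rfl
def n1490 : Q := act 2 n616
theorem D1490 : act 2 n616 = n1490 := rfl
def n1491 : Q := act 0 n617
theorem D1491 : act 0 n617 = n1491 := rfl
def n1492 : Q := act 2 n617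
theorem D1492 : act 2 n617 = n1492 := rfl
def n1493 : Q := act 4 n617
theorem D1493 : act 4 n617 = n1493 := rfl
theorem F826 : act 1 n1493 = n618 := d6_1 D1493 (iv D618) D617
def n1494 : Q := act 3 n618
theorem D1494 : act 3 n618 = n1494 := rfl
def n1495 : Q := act 0 n619
theorem D1495 : act 0 n619 = n1495 := rfl
def n1496 : Q := act 1 n619
theorem D1496 : act 1 n619 = n1496 := rfl
def n1497 : Q := act 4 n619
theorem D1497 : act 4 n619 = n1497 := rfl
def n1499 : Q := act 3 n620
theorem D1499 : act 3 n620 = n1499 := rfl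
def n1500 : Q := act 4 n620
theorem D1500 : act 4 n620 = n1500 := rfl
theorem F827 : act 0 n1500 = n622 := d3_1 D1500 (iv D622) D620
def n1502 : Q := act 2 n621
theorem D1502 : act 2 n621 = n1502 := rfl
theorem F828 : act 1 n1502 = n979 := d4_1 D1502 (iv D979) (iv D390) (iv D148) (iv F32) D241 D621
def n1503 : Q := act 4 n621
theorem D1503 : act 4 n621 = n1503 := rfl
theorem F829 : act 1 n1503 = n622 := d6_1 D1503 (iv D622) D621
def n1505 : Q := act 3 n623
theorem D1505 : act 3 n623 = n1505 := rfl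
theorem F830 : act 1 n1505 = n1173 := d5_1 D1505 (iv D1173) (iv F300)
theorem F831 : act 2 n1505 = n624 := d7_1 D1505 (iv D624) D623
def n1506 : Q := act 4 n623
theorem D1506 : act 4 n623 = n1506 := rfl
theorem F832 : act 0 n1506 = n683 := d3_1 D1506 (iv D683) (iv F301)
theorem F833 : act 1 n1506 = n1174 := d6_1 D1506 (iv D1174) (iv F300)
def n1507 : Q := act 0 n624
theorem D1507 : act 0 n624 = n1507 := rfl
def n1508 : Q := act 4 n624
theorem D1508 : act 4 n624 = n1508 := rfl
theorem F834 : act 1 n1508 = n630 := d6_1 D1508 (iv D630) (iv F304)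
def n1509 : Q := act 2 n625
theorem D1509 : act 2 n625 = n1509 := rfl
theorem F835 : act 0 n1509 = n686 := d11_3 (iv D623) D625 D1509 (iv D686) (iv D269) D267 (iv F301)
def n1510 : Q := act 3 n625
theorem D1510 : act 3 n625 = n1510 := rfl
theorem F836 : act 1 n1510 = n632 := d5_1 D1510 (iv D632) (iv F306)
def n1511 : Q := act 3 n626
theorem D1511 : act 3 n626 = n1511 := rfl
theorem F837 : act 1 n1511 = n627 := d5_1 D1511 (iv D627) D626
theorem F838 : act 2 n1511 = n1171 := d7_1 D1511 (iv D1171) (iv F308)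
def n1512 : Q := act 4 n626
theorem D1512 : act 4 n626 = n1512 := rfl
theorem F839 : act 0 n1512 = n1054 := d3_1 D1512 (iv D1054) (iv F307)
theorem F840 : act 1 n1512 = n628 := d6_1 D1512 (iv D628) D626
def n1513 : Q := act 0 n627
theorem D1513 : act 0 n627 = n1513 := rfl
def n1514 : Q := act 4 n627
theorem D1514 : act 4 n627 = n1514 := rfl
def n1515 : Q := act 2 n628
theorem D1515 : act 2 n628 = n1515 := rfl
theorem F841 : act 0 n1515 = n643 := d11_3 D243 D628 D1515 (iv D643) (iv D249) (iv D89) D88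
def n1516 : Q := act 3 n628
theorem D1516 : act 3 n628 = n1516 := rfl
def n1517 : Q := act 1 n629
theorem D1517 : act 1 n629 = n1517 := rfl
def n1518 : Q := act 2 n629
theorem D1518 : act 2 n629 = n1518 := rfl
theorem F842 : act 0 n1518 = n635 := d10_3 D244 D629 D1518 (iv D635) (iv D246) (iv D89) D88
def n1519 : Q := act 3 n629
theorem D1519 : act 3 n629 = n1519 := rfl
theorem F843 : act 0 n1519 = n647 := d2_1 D1519 (iv D647) (iv D250) (iv D90) D88 D244 D629
def n1520 : Q := act 4 n629
theorem D1520 : act 4 n629 = n1520 := rfl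
theorem F844 : act 0 n1520 = n630 := d3_1 D1520 (iv D630) D629
def n1521 : Q := act 2 n630
theorem D1521 : act 2 n630 = n1521 := rfl
def n1522 : Q := act 3 n630
theorem D1522 : act 3 n630 = n1522 := rfl
theorem F845 : act 0 n1522 = n650 := d12_3 D244 D630 D1522 (iv D650) (iv D251) (iv D90) D88
def n1523 : Q := act 0 n631
theorem D1523 : act 0 n631 = n1523 := rfl
theorem F846 : act 2 n1523 = n1038 := d11_4 (iv D243) D245 D631 D1523 (iv D1038) (iv D416) (iv F106)
def n1524 : Q := act 1 n631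
theorem D1524 : act 1 n631 = n1524 := rfl
def n1525 : Q := act 3 n631
theorem D1525 : act 3 n631 = n1525 := rfl
theorem F847 : act 2 n1525 = n632 := d7_1 D1525 (iv D632) D631
def n1526 : Q := act 4 n631
theorem D1526 : act 4 n631 = n1526 := rfl
def n1527 : Q := act 0 n632
theorem D1527 : act 0 n632 = n1527 := rfl
def n1528 : Q := act 4 n632
theorem D1528 : act 4 n632 = n1528 := rfl
def n1529 : Q := act 3 n633
theorem D1529 : act 3 n633 = n1529 := rfl
theorem F848 : act 1 n1529 = n635 := d5_1 D1529 (iv D635) D633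
theorem F849 : act 2 n1529 = n1179 := d7_1 D1529 (iv D1179) (iv F348)
def n1530 : Q := act 4 n633
theorem D1530 : act 4 n633 = n1530 := rfl
theorem F850 : act 1 n1530 = n636 := d6_1 D1530 (iv D636) D633
theorem F851 : act 2 n1530 = n1194 := d11_2 (iv F348) D1530 (iv D1194) (iv D486) (iv D184) D182 D480
def n1531 : Q := act 3 n634
theorem D1531 : act 3 n634 = n1531 := rfl
theorem F852 : act 1 n1531 = n1531 := d5_1 D1531 (iv D1531) F312
theorem F853 : act 2 n1531 = n635 := d7_1 D1531 (iv D635) D634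
def n1532 : Q := act 4 n634
theorem D1532 : act 4 n634 = n1532 := rfl
theorem F854 : act 0 n1532 = n1038 := d3_1 D1532 (iv D1038) (iv F311)
theorem F855 : act 1 n1532 = n1532 := d6_1 D1532 (iv D1532) F312
theorem F856 : act 2 n1532 = n651 := d11_2 D634 D1532 (iv D651) (iv D252) (iv D91) D89 D246
def n1533 : Q := act 4 n635
theorem D1533 : act 4 n635 = n1533 := rfl
def n1534 : Q := act 2 n636
theorem D1534 : act 2 n636 = n1534 := rfl
theorem F857 : act 0 n1534 = n1040 := d1_1 D1534 (iv D1040) (iv F310) D1515 F841 (iv D643) (iv F313)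
def n1535 : Q := act 3 n636
theorem D1535 : act 3 n636 = n1535 := rfl
def n1536 : Q := act 4 n639
theorem D1536 : act 4 n639 = n1536 := rfl
theorem F858 : act 1 n1536 = n642 := d6_1 D1536 (iv D642) (iv F315)
def n1537 : Q := act 3 n640
theorem D1537 : act 3 n640 = n1537 := rfl
theorem F859 : act 1 n1537 = n644 := d5_1 D1537 (iv D644) (iv F316)
def n1538 : Q := act 1 n641
theorem D1538 : act 1 n641 = n1538 := rfl
theorem F860 : act 2 n1538 = n1290 := d15_6 D519 (iv F684) F683 F315 D641 D1538 (iv D1290) (iv D531) (iv D202) (iv D72) (iv F27) D198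
def n1539 : Q := act 2 n641
theorem D1539 : act 2 n641 = n1539 := rfl
theorem F861 : act 0 n1539 = n1037 := d1_1 D1539 F556 (iv F317) (iv D646) (iv D250) (iv F108) D641
def n1540 : Q := act 3 n641
theorem D1540 : act 3 n641 = n1540 := rfl
def n1541 : Q := act 4 n641
theorem D1541 : act 4 n641 = n1541 := rfl
theorem F862 : act 0 n1541 = n642 := d3_1 D1541 (iv D642) D641
def n1542 : Q := act 2 n642
theorem D1542 : act 2 n642 = n1542 := rfl
def n1543 : Q := act 3 n642
theorem D1543 : act 3 n642 = n1543 := rfl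
def n1544 : Q := act 1 n643
theorem D1544 : act 1 n643 = n1544 := rfl
theorem F863 : act 0 n1544 = n1319 := d13_3 D1515 F841 D1544 (iv D1319) (iv D545) (iv D208) (iv F72) (iv D167) (iv F69) (iv F193) (iv F310)
theorem F864 : act 1 n1319 = n728 := d17_7 (iv D32) D29 D89 D249 D643 D1544 F863 F375 (iv D295) (iv D107) F14 (iv F12)
theorem F865 : act 4 n1319 = n726 := d17_0 (iv D726) (iv D284) (iv D104) (iv D34) (iv D10) D9 D29 D89 D249 D643 D1544 F863
theorem E5 : n752 = n604 := (c4_4 D1319 F864 F375 (iv F387) (iv D604) F103 (iv F91) (iv F266))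
theorem E6 : n1462 = n295 := ((D1462).symm.trans (sb E5 F387))
theorem E7 : n1464 = n293 := ((D1464).symm.trans (sb E5 (iv D752)))
theorem F866 : act 1 n295 = n604 := (sb E6 (iv D1462))
theorem F867 : act 4 n293 = n604 := (sb E7 (iv D1464))
theorem F868 : act 4 n1461 = n749 := d3_2 F867 D1461 (iv D749)
theorem F869 : act 4 n1453 = n750 := d8_6 F867 (iv D604) (iv D234) D232 D601 D1453 (iv D750)
theorem F870 : act 1 n798 = n1453 := d6_3 F869 F385 D798
theorem F871 : act 1 n1463 = n755 := d5_3 (iv D755) F866 D1463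
def n1545 : Q := act 3 n643
theorem D1545 : act 3 n643 = n1545 := rfl
theorem F872 : act 2 n1545 = n644 := d7_1 D1545 (iv D644) D643
def n1546 : Q := act 4 n643
theorem D1546 : act 4 n643 = n1546 := rfl
theorem F873 : act 2 n1546 = n654 := d8_1 D1546 (iv D654) (iv D252) (iv D91) D89 D249 D643
def n1547 : Q := act 0 n644
theorem D1547 : act 0 n644 = n1547 := rfl
def n1548 : Q := act 4 n644
theorem D1548 : act 4 n644 = n1548 := rfl
def n1549 : Q := act 2 n645
theorem D1549 : act 2 n645 = n1549 := rfl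
theorem F874 : act 0 n1549 = n732 := d15_1 D1549 (iv D732) (iv D286) (iv D105) F13 F5 D13 D42 D124 D335 D848 F446
def n1550 : Q := act 3 n645
theorem D1550 : act 3 n645 = n1550 := rfl
theorem F875 : act 1 n1550 = n647 := d5_1 D1550 (iv D647) D645
def n1551 : Q := act 4 n645
theorem D1551 : act 4 n645 = n1551 := rfl
theorem F876 : act 1 n1551 = n648 := d6_1 D1551 (iv D648) D645
def n1552 : Q := act 1 n646
theorem D1552 : act 1 n646 = n1552 := rfl
theorem F877 : act 0 n1552 = n1373 := d0_1 D1552 (iv D1373) (iv D566) (iv D217) (iv F68) (iv F192) (iv F317)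
def n1553 : Q := act 3 n646
theorem D1553 : act 3 n646 = n1553 := rfl
theorem F878 : act 2 n1553 = n647 := d7_1 D1553 (iv D647) D646
def n1554 : Q := act 4 n646
theorem D1554 : act 4 n646 = n1554 := rfl
theorem F879 : act 0 n1554 = n1039 := d3_1 D1554 (iv D1039) (iv F317)
def n1555 : Q := act 4 n647
theorem D1555 : act 4 n647 = n1555 := rfl
theorem F880 : act 3 n1555 = n655 := d12_2 D647 D1555 (iv D655) (iv D253) (iv D91) D90 D250
def n1556 : Q := act 2 n648
theorem D1556 : act 2 n648 = n1556 := rfl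
def n1557 : Q := act 3 n648
theorem D1557 : act 3 n648 = n1557 := rfl
def n1558 : Q := act 0 n649
theorem D1558 : act 0 n649 = n1558 := rfl
def n1559 : Q := act 1 n649
theorem D1559 : act 1 n649 = n1559 := rfl
def n1560 : Q := act 3 n649
theorem D1560 : act 3 n649 = n1560 := rfl
theorem F881 : act 2 n1560 = n650 := d7_1 D1560 (iv D650) D649
def n1561 : Q := act 4 n649
theorem D1561 : act 4 n649 = n1561 := rfl
def n1562 : Q := act 4 n650
theorem D1562 : act 4 n650 = n1562 := rfl
theorem F882 : act 1 n1562 = n672 := d6_1 D1562 (iv D672) (iv F319)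
theorem F883 : act 3 n1562 = n656 := d9_1 D1562 (iv D656) (iv D253) (iv D91) D90 D251 D650
def n1563 : Q := act 1 n651
theorem D1563 : act 1 n651 = n1563 := rfl
def n1564 : Q := act 3 n651
theorem D1564 : act 3 n651 = n1564 := rfl
def n1565 : Q := act 4 n651
theorem D1565 : act 4 n651 = n1565 := rfl
theorem F884 : act 0 n1565 = n654 := d3_1 D1565 (iv D654) D651
def n1566 : Q := act 0 n652
theorem D1566 : act 0 n652 = n1566 := rfl
def n1567 : Q := act 2 n652
theorem D1567 : act 2 n652 = n1567 := rfl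
theorem F885 : act 1 n1567 = n674 := d4_1 D1567 (iv D674) (iv D262) (iv D96) (iv F34) D252 D652
def n1568 : Q := act 3 n652
theorem D1568 : act 3 n652 = n1568 := rfl
theorem F886 : act 1 n1568 = n653 := d5_1 D1568 (iv D653) D652
def n1569 : Q := act 4 n652
theorem D1569 : act 4 n652 = n1569 := rfl
theorem F887 : act 1 n1569 = n654 := d6_1 D1569 (iv D654) D652
def n1570 : Q := act 0 n653
theorem D1570 : act 0 n653 = n1570 := rfl
def n1571 : Q := act 4 n653
theorem D1571 : act 4 n653 = n1571 := rfl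
def n1572 : Q := act 3 n654
theorem D1572 : act 3 n654 = n1572 := rfl
def n1573 : Q := act 1 n655
theorem D1573 : act 1 n655 = n1573 := rfl
def n1574 : Q := act 2 n655
theorem D1574 : act 2 n655 = n1574 := rfl
def n1575 : Q := act 4 n655
theorem D1575 : act 4 n655 = n1575 := rfl
theorem F888 : act 0 n1575 = n656 := d3_1 D1575 (iv D656) D655
def n1576 : Q := act 2 n656
theorem D1576 : act 2 n656 = n1576 := rfl
def n1577 : Q := act 3 n657
theorem D1577 : act 3 n657 = n1577 := rfl
theorem F889 : act 2 n1577 = n658 := d7_1 D1577 (iv D658) D657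
def n1578 : Q := act 4 n657
theorem D1578 : act 4 n657 = n1578 := rfl
def n1579 : Q := act 0 n658
theorem D1579 : act 0 n658 = n1579 := rfl
def n1580 : Q := act 4 n658
theorem D1580 : act 4 n658 = n1580 := rfl
def n1581 : Q := act 2 n659
theorem D1581 : act 2 n659 = n1581 := rfl
def n1582 : Q := act 3 n659
theorem D1582 : act 3 n659 = n1582 := rfl
def n1583 : Q := act 0 n661
theorem D1583 : act 0 n661 = n1583 := rfl
def n1584 : Q := act 4 n661
theorem D1584 : act 4 n661 = n1584 := rfl
def n1585 : Q := act 2 n662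
theorem D1585 : act 2 n662 = n1585 := rfl
def n1586 : Q := act 3 n662
theorem D1586 : act 3 n662 = n1586 := rfl
def n1587 : Q := act 2 n663
theorem D1587 : act 2 n663 = n1587 := rfl
def n1588 : Q := act 3 n663
theorem D1588 : act 3 n663 = n1588 := rfl
def n1589 : Q := act 4 n663
theorem D1589 : act 4 n663 = n1589 := rfl
theorem F890 : act 0 n1589 = n664 := d3_1 D1589 (iv D664) D663
def n1590 : Q := act 2 n664
theorem D1590 : act 2 n664 = n1590 := rfl
def n1591 : Q := act 3 n664
theorem D1591 : act 3 n664 = n1591 := rfl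
theorem F891 : act 1 n1591 = n667 := d5_1 D1591 (iv D667) (iv F324)
def n1592 : Q := act 3 n665
theorem D1592 : act 3 n665 = n1592 := rfl
theorem F892 : act 2 n1592 = n666 := d7_1 D1592 (iv D666) D665
def n1593 : Q := act 4 n665
theorem D1593 : act 4 n665 = n1593 := rfl
def n1594 : Q := act 0 n666
theorem D1594 : act 0 n666 = n1594 := rfl
def n1595 : Q := act 4 n666
theorem D1595 : act 4 n666 = n1595 := rfl
theorem F893 : act 1 n1595 = n668 := d6_1 D1595 (iv D668) (iv F325)
def n1596 : Q := act 4 n667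
theorem D1596 : act 4 n667 = n1596 := rfl
theorem F894 : act 0 n1596 = n1596 := d3_1 D1596 (iv D1596) F327
theorem F895 : act 3 n1596 = n668 := d9_1 D1596 (iv D668) (iv D259) (iv D94) D93 D258 D667
theorem F896 : act 2 n1596 = n894 := d11_2 (iv F326) D1596 (iv D894) (iv D357) (iv D134) (iv F56) D354
def n1597 : Q := act 0 n669
theorem D1597 : act 0 n669 = n1597 := rfl
def n1598 : Q := act 2 n669
theorem D1598 : act 2 n669 = n1598 := rfl
def n1599 : Q := act 3 n669
theorem D1599 : act 3 n669 = n1599 := rfl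
theorem F897 : act 1 n1599 = n670 := d5_1 D1599 (iv D670) D669
def n1600 : Q := act 4 n669
theorem D1600 : act 4 n669 = n1600 := rfl
theorem F898 : act 1 n1600 = n671 := d6_1 D1600 (iv D671) D669
def n1601 : Q := act 4 n670
theorem D1601 : act 4 n670 = n1601 := rfl
theorem F899 : act 0 n1601 = n1601 := d3_1 D1601 (iv D1601) F329
def n1602 : Q := act 3 n671
theorem D1602 : act 3 n671 = n1602 := rfl
theorem F900 : act 2 n1602 = n892 := d7_1 D1602 F471 F456
def n1603 : Q := act 2 n672
theorem D1603 : act 2 n672 = n1603 := rfl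
theorem F903 : act 3 n1603 = n681 := d7_2 (iv F331) D1603 (iv D681)
def n1604 : Q := act 1 n673
theorem D1604 : act 1 n673 = n1604 := rfl
theorem F904 : act 0 n1604 = n1604 := d0_1 D1604 (iv D1604) (iv D673) (iv D262) F38 D262 D673
theorem F905 : act 2 n1604 = n1025 := d15_6 (iv D39) (iv F12) D96 D262 D673 D1604 F549 (iv F420) (iv D792) (iv D313) (iv D115) F15
theorem F906 : act 4 n988 = n1604 := d8_0 F905 (iv D1025) (iv F521) (iv D986) (iv D393) D395 D988
def n1605 : Q := act 2 n673
theorem D1605 : act 2 n673 = n1605 := rfl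
def n1606 : Q := act 3 n673
theorem D1606 : act 3 n673 = n1606 := rfl
def n1607 : Q := act 4 n673
theorem D1607 : act 4 n673 = n1607 := rfl
theorem F907 : act 0 n1607 = n676 := d3_1 D1607 (iv D676) D673
theorem F908 : act 1 n1607 = n988 := d6_1 D1607 F906 (iv D1604)
def n1608 : Q := act 0 n674
theorem D1608 : act 0 n674 = n1608 := rfl
def n1609 : Q := act 3 n674
theorem D1609 : act 3 n674 = n1609 := rfl
theorem F909 : act 2 n1609 = n675 := d7_1 D1609 (iv D675) D674
def n1610 : Q := act 4 n674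
theorem D1610 : act 4 n674 = n1610 := rfl
def n1611 : Q := act 0 n675
theorem D1611 : act 0 n675 = n1611 := rfl
def n1612 : Q := act 4 n675
theorem D1612 : act 4 n675 = n1612 := rfl
theorem F910 : act 1 n1612 = n677 := d6_1 D1612 (iv D677) (iv F332)
def n1613 : Q := act 2 n676
theorem D1613 : act 2 n676 = n1613 := rfl
def n1614 : Q := act 3 n676
theorem D1614 : act 3 n676 = n1614 := rfl
theorem F911 : act 1 n1614 = n678 := d5_1 D1614 (iv D678) (iv F333)
def n1616 : Q := act 3 n677
theorem D1616 : act 3 n677 = n1616 := rfl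
def n1618 : Q := act 0 n679
theorem D1618 : act 0 n679 = n1618 := rfl
def n1619 : Q := act 2 n679
theorem D1619 : act 2 n679 = n1619 := rfl
def n1620 : Q := act 4 n679
theorem D1620 : act 4 n679 = n1620 := rfl
theorem F913 : act 1 n1620 = n680 := d6_1 D1620 (iv D680) D679
def n1623 : Q := act 0 n682
theorem D1623 : act 0 n682 = n1623 := rfl
theorem F914 : act 2 n1623 = n684 := d10_2 D682 D1623 (iv D684) (iv D268) (iv F105) D623 F301
theorem E8 : n1363 = n560 := (c15_9 F914 (iv D684) (iv F336) (iv F524) (iv F762) F763 F274 D562 D1363 (iv F763) F762 F524 D1623)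
theorem E9 : n562 = n215 := (((F274).symm.trans (sb E8 (iv D1363)))).symm
theorem F915 : act 0 n215 = n215 := (sb E9 (iv D562))
theorem E12 : n1365 = n563 := (((D563).symm.trans (sb E9 D1365))).symm
theorem F916 : act 0 n563 = n563 := (sb E12 F765)
theorem E13 : n1111 = n449 := (c15_8 (iv F914) (iv D1623) F336 F118 D274 D700 F357 D1111 (iv F357) (iv D700) (iv D274) (iv F118) D684)
theorem F917 : act 0 n449 = n449 := (sb E13 (iv D1111))
theorem F918 : act 0 n1107 = n1107 := d2_5 D449 F917 (iv D449) D447 D1107 (iv D1107) (iv D447)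
theorem F919 : act 0 n1112 = n1112 := d3_3 (iv D1112) F917 D1112
theorem F920 : act 0 n1114 = n1114 := d12_7 (iv D1114) (iv D450) D449 F917 (iv D449) D450 D1114
theorem E14 : n1371 = n565 := (c0_6 (iv F612) F920 F612 F219 (iv F277) D1371 F277 (iv F219))
theorem F921 : act 0 n565 = n565 := (sb E14 (iv D1371))
theorem F922 : act 0 n1349 = n1349 := d2_5 D565 F921 (iv D565) (iv F272) D1349 (iv D1349) F272
theorem F923 : act 0 n1372 = n1372 := d3_3 (iv D1372) F921 D1372
theorem E15 : n1346 = n556 := (c12_8 (iv D556) D557 D1349 F922 (iv D1349) (iv D557) D556 D1346)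
theorem F924 : act 0 n556 = n556 := (sb E15 (iv D1346))
theorem F925 : act 0 n1347 = n1347 := d3_3 (iv D1347) F924 D1347
theorem F926 : act 0 n1344 = n1352 := d10_3 D556 F924 (iv F753) (iv D1352) (iv D558) (iv D214) D213
theorem F927 : act 0 n820 = n1375 := d16_6 D556 F924 (iv D556) F92 D324 D820 (iv D1375) (iv D566) (iv D217) (iv D77) D76 D213
theorem F928 : act 3 n1358 = n1342 := d2_6 D1344 F926 (iv D1352) (iv D558) D560 D1358 (iv D1342)
def n1624 : Q := act 4 n682
theorem D1624 : act 4 n682 = n1624 := rfl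
def n1625 : Q := act 3 n683
theorem D1625 : act 3 n683 = n1625 := rfl
def n1626 : Q := act 1 n684
theorem D1626 : act 1 n684 = n1626 := rfl
def n1627 : Q := act 3 n684
theorem D1627 : act 3 n684 = n1627 := rfl
def n1628 : Q := act 4 n684
theorem D1628 : act 4 n684 = n1628 := rfl
theorem F929 : act 0 n1628 = n685 := d3_1 D1628 (iv D685) D684
def n1629 : Q := act 2 n685
theorem D1629 : act 2 n685 = n1629 := rfl
def n1630 : Q := act 3 n685
theorem D1630 : act 3 n685 = n1630 := rfl
theorem F930 : act 1 n1630 = n705 := d5_1 D1630 (iv D705) (iv F337)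
def n1631 : Q := act 1 n686
theorem D1631 : act 1 n686 = n1631 := rfl
theorem F931 : act 4 n1631 = n1026 := d6_2 F482 D1631 F550
theorem F932 : act 0 n1631 = n1029 := d14_3 (iv F119) D686 D1631 F553 (iv F420) (iv D792) (iv D313) (iv D115) (iv D39) (iv F14) (iv F39)
def n1632 : Q := act 3 n686
theorem D1632 : act 3 n686 = n1632 := rfl
theorem F933 : act 2 n1632 = n687 := d7_1 D1632 (iv D687) D686
def n1633 : Q := act 0 n687
theorem D1633 : act 0 n687 = n1633 := rfl
def n1634 : Q := act 4 n687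
theorem D1634 : act 4 n687 = n1634 := rfl
theorem F934 : act 1 n1634 = n711 := d6_1 D1634 (iv D711) (iv F338)
def n1635 : Q := act 3 n688
theorem D1635 : act 3 n688 = n1635 := rfl
theorem F935 : act 1 n1635 = n690 := d5_1 D1635 (iv D690) D688
theorem F936 : act 2 n1635 = n1042 := d7_1 D1635 (iv D1042) (iv F342)
theorem F937 : act 0 n1635 = n1587 := d10_1 D1635 (iv D1587) (iv D663) (iv D256) D254 D657 (iv F339)
theorem F938 : act 0 n1299 = n772 := d15_7 D1587 (iv F937) F936 F559 F196 D534 D1299 (iv D772) (iv D302) F43 (iv F111) D663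
def n1636 : Q := act 4 n688
theorem D1636 : act 4 n688 = n1636 := rfl
theorem F939 : act 0 n1636 = n1578 := d3_1 D1636 (iv D1578) (iv F339)
theorem F940 : act 1 n1636 = n691 := d6_1 D1636 (iv D691) D688
def n1637 : Q := act 3 n689
theorem D1637 : act 3 n689 = n1637 := rfl
theorem F941 : act 1 n1637 = n1037 := d5_1 D1637 (iv D1037) (iv F341)
theorem F942 : act 2 n1637 = n690 := d7_1 D1637 (iv D690) D689
theorem F943 : act 0 n1637 = n721 := d10_1 D1637 (iv D721) (iv D282) (iv D103) D102 D279 (iv F340)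
def n1638 : Q := act 4 n689
theorem D1638 : act 4 n689 = n1638 := rfl
theorem F944 : act 0 n1638 = n716 := d3_1 D1638 (iv D716) (iv F340)
theorem F945 : act 1 n1638 = n1038 := d6_1 D1638 (iv D1038) (iv F341)
theorem F946 : act 2 n1638 = n706 := d11_2 D689 D1638 (iv D706) (iv D276) (iv D101) D99 D270
theorem F947 : act 2 n1566 = n749 := d13_8 (iv F372) (iv F944) F945 (iv F854) F856 (iv D651) D652 D1566 (iv D749) (iv D293) D292
def n1639 : Q := act 4 n690
theorem D1639 : act 4 n690 = n1639 := rfl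
theorem F948 : act 0 n1639 = n737 := d3_1 D1639 (iv D737) (iv F349)
def n1640 : Q := act 2 n691
theorem D1640 : act 2 n691 = n1640 := rfl
theorem F949 : act 0 n1640 = n718 := d1_1 D1640 (iv D718) F121 D284 (iv F356) (iv D698) (iv F350)
def n1641 : Q := act 3 n691
theorem D1641 : act 3 n691 = n1641 := rfl
def n1642 : Q := act 3 n692
theorem D1642 : act 3 n692 = n1642 := rfl
theorem F950 : act 1 n1642 = n1056 := d5_1 D1642 (iv D1056) (iv F352)
theorem F951 : act 2 n1642 = n1642 := d7_1 D1642 (iv D1642) F351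
def n1643 : Q := act 4 n692
theorem D1643 : act 4 n692 = n1643 := rfl
theorem F952 : act 0 n1643 = n695 := d3_1 D1643 (iv D695) D692
theorem F953 : act 1 n1643 = n1057 := d6_1 D1643 (iv D1057) (iv F352)
def n1644 : Q := act 3 n693
theorem D1644 : act 3 n693 = n1644 := rfl
theorem F954 : act 2 n1644 = n694 := d7_1 D1644 (iv D694) D693
def n1645 : Q := act 4 n693
theorem D1645 : act 4 n693 = n1645 := rfl
theorem F955 : act 0 n1645 = n1228 := d3_1 D1645 (iv D1228) (iv F353)
def n1646 : Q := act 0 n694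
theorem D1646 : act 0 n694 = n1646 := rfl
theorem F956 : act 2 n1646 = n1646 := d10_2 D694 D1646 (iv D1646) (iv D694) D692 F351 (iv D692)
def n1647 : Q := act 4 n694
theorem D1647 : act 4 n694 = n1647 := rfl
theorem F957 : act 1 n1647 = n697 := d6_1 D1647 (iv D697) (iv F354)
def n1648 : Q := act 2 n695
theorem D1648 : act 2 n695 = n1648 := rfl
def n1649 : Q := act 3 n695
theorem D1649 : act 3 n695 = n1649 := rfl
theorem F958 : act 1 n1649 = n699 := d5_1 D1649 (iv D699) (iv F355)
def n1650 : Q := act 1 n696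
theorem D1650 : act 1 n696 = n1650 := rfl
def n1651 : Q := act 2 n696
theorem D1651 : act 2 n696 = n1651 := rfl
theorem F959 : act 0 n1651 = n715 := d1_1 D1651 F370 (iv F359) (iv D701) (iv D274) (iv F120) D696
def n1652 : Q := act 3 n696
theorem D1652 : act 3 n696 = n1652 := rfl
theorem F960 : act 0 n1652 = n736 := d2_1 D1652 (iv D736) (iv F349) (iv D690) (iv D270) D272 D696
def n1653 : Q := act 4 n696
theorem D1653 : act 4 n696 = n1653 := rfl
theorem F961 : act 0 n1653 = n697 := d3_1 D1653 (iv D697) D696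
def n1654 : Q := act 2 n697
theorem D1654 : act 2 n697 = n1654 := rfl
def n1655 : Q := act 3 n697
theorem D1655 : act 3 n697 = n1655 := rfl
def n1656 : Q := act 1 n698
theorem D1656 : act 1 n698 = n1656 := rfl
def n1657 : Q := act 3 n698
theorem D1657 : act 3 n698 = n1657 := rfl
theorem F962 : act 2 n1657 = n699 := d7_1 D1657 (iv D699) D698
def n1658 : Q := act 4 n698
theorem D1658 : act 4 n698 = n1658 := rfl
theorem F963 : act 0 n1658 = n728 := d3_1 D1658 (iv D728) (iv F356)
theorem F964 : act 2 n1658 = n709 := d8_1 D1658 (iv D709) (iv D276) (iv D101) D99 D273 D698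
def n1659 : Q := act 0 n699
theorem D1659 : act 0 n699 = n1659 := rfl
def n1660 : Q := act 4 n699
theorem D1660 : act 4 n699 = n1660 := rfl
def n1661 : Q := act 0 n700
theorem D1661 : act 0 n700 = n1661 := rfl
def n1662 : Q := act 4 n700
theorem D1662 : act 4 n700 = n1662 := rfl
theorem F965 : act 1 n1662 = n703 := d6_1 D1662 (iv D703) D700
def n1663 : Q := act 1 n701
theorem D1663 : act 1 n701 = n1663 := rfl
theorem F966 : act 2 n1663 = n1117 := d4_2 D701 D1663 F613 F215 (iv F212) (iv F357) (iv D700)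
theorem F967 : act 3 n1116 = n1663 := d7_0 F966 (iv D1117) D1116
def n1664 : Q := act 3 n701
theorem D1664 : act 3 n701 = n1664 := rfl
theorem F968 : act 0 n1664 = n722 := d2_1 D1664 (iv D722) (iv D282) (iv D103) D102 D280 (iv F359)
theorem F969 : act 1 n1664 = n1116 := d5_1 D1664 F967 (iv D1663)
theorem F970 : act 2 n1664 = n702 := d7_1 D1664 (iv D702) D701
def n1665 : Q := act 4 n701
theorem D1665 : act 4 n701 = n1665 := rfl
theorem F971 : act 0 n1665 = n717 := d3_1 D1665 (iv D717) (iv F359)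
def n1666 : Q := act 4 n702
theorem D1666 : act 4 n702 = n1666 := rfl
theorem F972 : act 0 n1666 = n738 := d3_1 D1666 (iv D738) (iv F360)
theorem F973 : act 1 n1666 = n1110 := d6_1 D1666 (iv D1110) (iv F361)
theorem F974 : act 3 n1666 = n710 := d12_2 D702 D1666 (iv D710) (iv D277) (iv D101) D100 D274
def n1667 : Q := act 2 n703
theorem D1667 : act 2 n703 = n1667 := rfl
def n1668 : Q := act 3 n703
theorem D1668 : act 3 n703 = n1668 := rfl
theorem F975 : act 0 n1668 = n740 := d2_1 D1668 (iv D740) F122 D291 (iv F363) (iv D705) (iv F362)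
def n1669 : Q := act 0 n704
theorem D1669 : act 0 n704 = n1669 := rfl
def n1670 : Q := act 1 n704
theorem D1670 : act 1 n704 = n1670 := rfl
def n1671 : Q := act 3 n704
theorem D1671 : act 3 n704 = n1671 := rfl
theorem F976 : act 2 n1671 = n705 := d7_1 D1671 (iv D705) D704
def n1672 : Q := act 4 n704
theorem D1672 : act 4 n704 = n1672 := rfl
def n1673 : Q := act 4 n705
theorem D1673 : act 4 n705 = n1673 := rfl
theorem F977 : act 0 n1673 = n745 := d3_1 D1673 (iv D745) (iv F363)
theorem F978 : act 3 n1673 = n711 := d9_1 D1673 (iv D711) (iv D277) (iv D101) D100 D275 D705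
def n1674 : Q := act 1 n706
theorem D1674 : act 1 n706 = n1674 := rfl
theorem F979 : act 0 n1674 = n1605 := d13_3 D276 D706 D1674 (iv D1605) (iv D673) (iv D262) F38 (iv D96) F12 (iv F14) (iv F39)
def n1675 : Q := act 3 n706
theorem D1675 : act 3 n706 = n1675 := rfl
theorem F980 : act 0 n1675 = n757 := d10_1 D1675 (iv D757) (iv D296) (iv D108) (iv F39) D276 D706
def n1676 : Q := act 4 n706
theorem D1676 : act 4 n706 = n1676 := rfl
theorem F981 : act 0 n1676 = n709 := d3_1 D1676 (iv D709) D706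
def n1677 : Q := act 0 n707
theorem D1677 : act 0 n707 = n1677 := rfl
theorem F982 : act 2 n1677 = n1677 := d13_4 F946 (iv D706) D707 D1677 (iv D1677) (iv D707) D706 (iv F946) F944 F371 (iv F944)
def n1678 : Q := act 2 n707
theorem D1678 : act 2 n707 = n1678 := rfl
def n1679 : Q := act 3 n707
theorem D1679 : act 3 n707 = n1679 := rfl
theorem F983 : act 1 n1679 = n708 := d5_1 D1679 (iv D708) D707
def n1680 : Q := act 4 n707
theorem D1680 : act 4 n707 = n1680 := rfl
theorem F984 : act 1 n1680 = n709 := d6_1 D1680 (iv D709) D707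
def n1681 : Q := act 0 n708
theorem D1681 : act 0 n708 = n1681 := rfl
def n1682 : Q := act 4 n708
theorem D1682 : act 4 n708 = n1682 := rfl
def n1683 : Q := act 3 n709
theorem D1683 : act 3 n709 = n1683 := rfl
def n1684 : Q := act 1 n710
theorem D1684 : act 1 n710 = n1684 := rfl
theorem F985 : act 3 n1684 = n1110 := d5_2 F974 D1684 (iv F973)
def n1685 : Q := act 2 n710
theorem D1685 : act 2 n710 = n1685 := rfl
theorem F986 : act 0 n1685 = n747 := d10_3 D277 D710 D1685 (iv D747) (iv D292) (iv D107) (iv F39)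
def n1686 : Q := act 4 n710
theorem D1686 : act 4 n710 = n1686 := rfl
theorem F987 : act 0 n1686 = n711 := d3_1 D1686 (iv D711) D710
def n1687 : Q := act 2 n711
theorem D1687 : act 2 n711 = n1687 := rfl
def n1688 : Q := act 3 n712
theorem D1688 : act 3 n712 = n1688 := rfl
theorem F988 : act 1 n1688 = n1688 := d5_1 D1688 (iv D1688) F365
theorem F989 : act 2 n1688 = n713 := d7_1 D1688 (iv D713) D712
def n1689 : Q := act 4 n712
theorem D1689 : act 4 n712 = n1689 := rfl
theorem F990 : act 0 n1689 = n1183 := d3_1 D1689 (iv D1183) (iv F366)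
theorem F991 : act 1 n1689 = n1689 := d6_1 D1689 (iv D1689) F365
def n1690 : Q := act 0 n713
theorem D1690 : act 0 n713 = n1690 := rfl
theorem F992 : act 2 n1690 = n1356 := d10_2 D713 D1690 F762 (iv D991) (iv D396) D397 (iv F302)
theorem F993 : act 3 n1690 = n1355 := d16_2 D713 D1690 F761 (iv D567) (iv D217) (iv F68) (iv D159) (iv D56) D57 D162 (iv F181) (iv F302)
theorem F994 : act 1 n1690 = n1378 := d16_9 (iv D438) (iv D165) (iv D58) D57 D162 (iv F181) (iv F302) D713 D1690 F771 F278 (iv F207)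
def n1691 : Q := act 4 n713
theorem D1691 : act 4 n713 = n1691 := rfl
theorem F995 : act 1 n1691 = n717 := d6_1 D1691 (iv D717) (iv F367)
def n1692 : Q := act 2 n714
theorem D1692 : act 2 n714 = n1692 := rfl
def n1693 : Q := act 3 n714
theorem D1693 : act 3 n714 = n1693 := rfl
theorem F996 : act 1 n1693 = n719 := d5_1 D1693 (iv D719) (iv F368)
def n1694 : Q := act 4 n715
theorem D1694 : act 4 n715 = n1694 := rfl
theorem F997 : act 1 n1694 = n1694 := d6_1 D1694 (iv D1694) F369
def n1695 : Q := act 3 n716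
theorem D1695 : act 3 n716 = n1695 := rfl
theorem F998 : act 1 n1695 = n1695 := d5_1 D1695 (iv D1695) F371
theorem F999 : act 2 n1695 = n747 := d7_1 D1695 (iv D747) (iv F372)
def n1696 : Q := act 2 n717
theorem D1696 : act 2 n717 = n1696 := rfl
def n1697 : Q := act 3 n717
theorem D1697 : act 3 n717 = n1697 := rfl
theorem F1000 : act 0 n1697 = n725 := d12_3 D280 D717 D1697 (iv D725) (iv D283) (iv D103) D102
def n1698 : Q := act 1 n718
theorem D1698 : act 1 n718 = n1698 := rfl
def n1699 : Q := act 3 n718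
theorem D1699 : act 3 n718 = n1699 := rfl
theorem F1001 : act 2 n1699 = n719 := d7_1 D1699 (iv D719) D718
def n1700 : Q := act 4 n718
theorem D1700 : act 4 n718 = n1700 := rfl
theorem F1002 : act 2 n1700 = n748 := d8_1 D1700 (iv D748) (iv F372) (iv D716) (iv D279) D281 D718
def n1701 : Q := act 0 n719
theorem D1701 : act 0 n719 = n1701 := rfl
def n1702 : Q := act 4 n719
theorem D1702 : act 4 n719 = n1702 := rfl
def n1703 : Q := act 0 n720
theorem D1703 : act 0 n720 = n1703 := rfl
def n1704 : Q := act 2 n720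
theorem D1704 : act 2 n720 = n1704 := rfl
def n1705 : Q := act 3 n720
theorem D1705 : act 3 n720 = n1705 := rfl
theorem F1003 : act 1 n1705 = n722 := d5_1 D1705 (iv D722) D720
def n1706 : Q := act 4 n720
theorem D1706 : act 4 n720 = n1706 := rfl
theorem F1004 : act 1 n1706 = n723 := d6_1 D1706 (iv D723) D720
def n1707 : Q := act 1 n721
theorem D1707 : act 1 n721 = n1707 := rfl
theorem F1005 : act 2 n1707 = n852 := d15_6 D646 F317 (iv F556) (iv F941) F943 D1707 (iv D852) (iv D336) (iv D124) F16 (iv F33) D250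
def n1708 : Q := act 3 n721
theorem D1708 : act 3 n721 = n1708 := rfl
theorem F1006 : act 2 n1708 = n722 := d7_1 D1708 (iv D722) D721
def n1709 : Q := act 4 n721
theorem D1709 : act 4 n721 = n1709 := rfl
theorem F1007 : act 2 n1709 = n741 := d11_2 D721 D1709 (iv D741) (iv D290) (iv D106) (iv F40) D282
def n1710 : Q := act 4 n722
theorem D1710 : act 4 n722 = n1710 := rfl
theorem F1008 : act 3 n1710 = n729 := d12_2 D722 D1710 (iv D729) (iv D285) (iv D104) D103 D282
def n1711 : Q := act 2 n723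
theorem D1711 : act 2 n723 = n1711 := rfl
def n1712 : Q := act 3 n723
theorem D1712 : act 3 n723 = n1712 := rfl
def n1713 : Q := act 0 n724
theorem D1713 : act 0 n724 = n1713 := rfl
theorem F1009 : act 2 n1713 = n737 := d11_4 (iv F40) D283 D724 D1713 (iv D737) (iv D287) (iv D105)
def n1714 : Q := act 1 n724
theorem D1714 : act 1 n724 = n1714 := rfl
def n1715 : Q := act 3 n724
theorem D1715 : act 3 n724 = n1715 := rfl
theorem F1010 : act 2 n1715 = n725 := d7_1 D1715 (iv D725) D724
def n1716 : Q := act 4 n724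
theorem D1716 : act 4 n724 = n1716 := rfl
theorem F1011 : act 2 n1716 = n744 := d8_1 D1716 (iv D744) (iv D290) (iv D106) (iv F40) D283 D724
def n1717 : Q := act 4 n725
theorem D1717 : act 4 n725 = n1717 := rfl
theorem F1012 : act 3 n1717 = n730 := d9_1 D1717 (iv D730) (iv D285) (iv D104) D103 D283 D725
def n1718 : Q := act 0 n726
theorem D1718 : act 0 n726 = n1718 := rfl
theorem F1013 : act 4 n1718 = n1544 := d3_2 F865 D1718 F863
theorem F1014 : act 1 n1718 = n1546 := d17_7 (iv D12) D10 D34 D104 D284 D726 D1718 F873 (iv D654) (iv D252) F34 F12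
def n1719 : Q := act 2 n726
theorem D1719 : act 2 n726 = n1719 := rfl
def n1720 : Q := act 3 n726
theorem D1720 : act 3 n726 = n1720 := rfl
theorem F1015 : act 1 n1720 = n727 := d5_1 D1720 (iv D727) D726
def n1721 : Q := act 0 n727
theorem D1721 : act 0 n727 = n1721 := rfl
def n1722 : Q := act 4 n727
theorem D1722 : act 4 n727 = n1722 := rfl
def n1723 : Q := act 3 n728
theorem D1723 : act 3 n728 = n1723 := rfl
theorem F1016 : act 2 n1723 = n755 := d7_1 D1723 (iv D755) (iv F375)
def n1724 : Q := act 1 n729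
theorem D1724 : act 1 n729 = n1724 := rfl
def n1725 : Q := act 2 n729
theorem D1725 : act 2 n729 = n1725 := rfl
def n1726 : Q := act 4 n729
theorem D1726 : act 4 n729 = n1726 := rfl
theorem F1017 : act 0 n1726 = n730 := d3_1 D1726 (iv D730) D729
def n1727 : Q := act 2 n730
theorem D1727 : act 2 n730 = n1727 := rfl
def n1728 : Q := act 2 n731
theorem D1728 : act 2 n731 = n1728 := rfl
def n1729 : Q := act 3 n731
theorem D1729 : act 3 n731 = n1729 := rfl
theorem F1018 : act 1 n1729 = n761 := d5_1 D1729 (iv D761) (iv F376)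
def n1730 : Q := act 4 n731
theorem D1730 : act 4 n731 = n1730 := rfl
theorem F1019 : act 0 n1730 = n734 := d3_1 D1730 (iv D734) D731
theorem F1020 : act 1 n1730 = n762 := d6_1 D1730 (iv D762) (iv F376)
def n1731 : Q := act 3 n732
theorem D1731 : act 3 n732 = n1731 := rfl
theorem F1021 : act 1 n1731 = n995 := d5_1 D1731 (iv F760) F759
theorem F1022 : act 2 n1731 = n733 := d7_1 D1731 (iv D733) D732
def n1732 : Q := act 4 n732
theorem D1732 : act 4 n732 = n1732 := rfl
def n1733 : Q := act 0 n733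
theorem D1733 : act 0 n733 = n1733 := rfl
def n1734 : Q := act 4 n733
theorem D1734 : act 4 n733 = n1734 := rfl
theorem F1023 : act 1 n1734 = n738 := d6_1 D1734 (iv D738) (iv F377)
theorem F1024 : act 3 n756 = n1734 := d5_0 F1023 F380 D756
def n1735 : Q := act 2 n734
theorem D1735 : act 2 n734 = n1735 := rfl
def n1736 : Q := act 3 n734
theorem D1736 : act 3 n734 = n1736 := rfl
theorem F1025 : act 1 n1736 = n740 := d5_1 D1736 (iv D740) (iv F378)
def n1737 : Q := act 0 n735
theorem D1737 : act 0 n735 = n1737 := rfl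
def n1738 : Q := act 2 n735
theorem D1738 : act 2 n735 = n1738 := rfl
def n1739 : Q := act 3 n735
theorem D1739 : act 3 n735 = n1739 := rfl
theorem F1026 : act 1 n1739 = n736 := d5_1 D1739 (iv D736) D735
def n1740 : Q := act 4 n735
theorem D1740 : act 4 n735 = n1740 := rfl
theorem F1027 : act 1 n1740 = n737 := d6_1 D1740 (iv D737) D735
def n1741 : Q := act 4 n736
theorem D1741 : act 4 n736 = n1741 := rfl
def n1742 : Q := act 3 n737
theorem D1742 : act 3 n737 = n1742 := rfl
def n1743 : Q := act 2 n738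
theorem D1743 : act 2 n738 = n1743 := rfl
theorem F1028 : act 3 n1743 = n757 := d7_2 (iv F380) D1743 (iv D757)
def n1744 : Q := act 0 n739
theorem D1744 : act 0 n739 = n1744 := rfl
def n1745 : Q := act 1 n739
theorem D1745 : act 1 n739 = n1745 := rfl
def n1746 : Q := act 3 n739
theorem D1746 : act 3 n739 = n1746 := rfl
theorem F1029 : act 2 n1746 = n740 := d7_1 D1746 (iv D740) D739
def n1747 : Q := act 4 n739
theorem D1747 : act 4 n739 = n1747 := rfl
def n1748 : Q := act 4 n740
theorem D1748 : act 4 n740 = n1748 := rfl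
theorem F1030 : act 3 n1748 = n758 := d9_1 D1748 (iv D758) (iv F380) (iv D738) (iv D288) D289 D740
def n1749 : Q := act 1 n741
theorem D1749 : act 1 n741 = n1749 := rfl
def n1750 : Q := act 3 n741
theorem D1750 : act 3 n741 = n1750 := rfl
def n1751 : Q := act 4 n741
theorem D1751 : act 4 n741 = n1751 := rfl
theorem F1031 : act 0 n1751 = n744 := d3_1 D1751 (iv D744) D741
def n1752 : Q := act 0 n742
theorem D1752 : act 0 n742 = n1752 := rfl
def n1753 : Q := act 2 n742
theorem D1753 : act 2 n742 = n1753 := rfl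
theorem F1032 : act 1 n1753 = n786 := d4_1 D1753 (iv D786) (iv D309) (iv D113) (iv F41) D290 D742
def n1754 : Q := act 3 n742
theorem D1754 : act 3 n742 = n1754 := rfl
theorem F1033 : act 1 n1754 = n743 := d5_1 D1754 (iv D743) D742
def n1755 : Q := act 4 n742
theorem D1755 : act 4 n742 = n1755 := rfl
theorem F1034 : act 1 n1755 = n744 := d6_1 D1755 (iv D744) D742
def n1756 : Q := act 0 n743
theorem D1756 : act 0 n743 = n1756 := rfl
def n1757 : Q := act 4 n743
theorem D1757 : act 4 n743 = n1757 := rfl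
def n1758 : Q := act 3 n744
theorem D1758 : act 3 n744 = n1758 := rfl
def n1759 : Q := act 2 n745
theorem D1759 : act 2 n745 = n1759 := rfl
theorem F1035 : act 3 n1759 = n759 := d7_2 (iv F383) D1759 (iv D759)
def n1760 : Q := act 0 n746
theorem D1760 : act 0 n746 = n1760 := rfl
theorem F1036 : act 2 n1760 = n1029 := d13_4 D107 D292 D746 D1760 (iv F932) (iv D1631) (iv F835) (iv D1509) F305 F119 F39
theorem F1037 : act 4 n1760 = n1076 := d17_0 (iv D1076) (iv D434) (iv D164) D162 (iv F181) (iv F302) (iv D278) D279 D716 F372 D746 D1760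
theorem F1038 : act 1 n1078 = n1760 := d6_3 F1037 (iv D1076) D1078
def n1761 : Q := act 2 n746
theorem D1761 : act 2 n746 = n1761 := rfl
theorem F1039 : act 1 n1761 = n1761 := d4_1 D1761 (iv D1761) (iv D746) (iv F372) F371 F372 D746
def n1762 : Q := act 3 n746
theorem D1762 : act 3 n746 = n1762 := rfl
theorem F1040 : act 1 n1762 = n747 := d5_1 D1762 (iv D747) D746
def n1763 : Q := act 4 n746
theorem D1763 : act 4 n746 = n1763 := rfl
theorem F1041 : act 0 n1763 = n1076 := d3_1 D1763 (iv F1037) (iv D1760)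
theorem F1042 : act 1 n1763 = n748 := d6_1 D1763 (iv D748) D746
theorem F1043 : act 1 n1461 = n1075 := d0_4 F1042 F384 F866 D1461 (iv D1075) D1076 (iv F1041)
def n1764 : Q := act 4 n747
theorem D1764 : act 4 n747 = n1764 := rfl
def n1765 : Q := act 3 n748
theorem D1765 : act 3 n748 = n1765 := rfl
def n1766 : Q := act 1 n749
theorem D1766 : act 1 n749 = n1766 := rfl
theorem F1044 : act 0 n1766 = n1078 := d0_1 D1766 F1038 (iv D1760) (iv D746) (iv D292) D293 D749
theorem F1045 : act 4 n1766 = n1075 := d6_2 F868 D1766 (iv F1043)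
def n1767 : Q := act 3 n749
theorem D1767 : act 3 n749 = n1767 := rfl
def n1768 : Q := act 0 n750
theorem D1768 : act 0 n750 = n1768 := rfl
def n1769 : Q := act 3 n750
theorem D1769 : act 3 n750 = n1769 := rfl
theorem F1046 : act 1 n1769 = n797 := d5_1 D1769 (iv D797) (iv F385)
theorem F1047 : act 2 n1769 = n751 := d7_1 D1769 (iv D751) D750
def n1770 : Q := act 0 n751
theorem D1770 : act 0 n751 = n1770 := rfl
def n1771 : Q := act 4 n751
theorem D1771 : act 4 n751 = n1771 := rfl
theorem F1048 : act 1 n1771 = n754 := d6_1 D1771 (iv D754) (iv F386)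
def n1772 : Q := act 1 n753
theorem D1772 : act 1 n753 = n1772 := rfl
def n1773 : Q := act 2 n753
theorem D1773 : act 2 n753 = n1773 := rfl
def n1774 : Q := act 3 n753
theorem D1774 : act 3 n753 = n1774 := rfl
def n1775 : Q := act 4 n753
theorem D1775 : act 4 n753 = n1775 := rfl
theorem F1049 : act 0 n1775 = n754 := d3_1 D1775 (iv D754) D753
def n1776 : Q := act 2 n754
theorem D1776 : act 2 n754 = n1776 := rfl
def n1777 : Q := act 3 n754
theorem D1777 : act 3 n754 = n1777 := rfl
def n1778 : Q := act 0 n755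
theorem D1778 : act 0 n755 = n1778 := rfl
def n1779 : Q := act 4 n755
theorem D1779 : act 4 n755 = n1779 := rfl
def n1780 : Q := act 0 n756
theorem D1780 : act 0 n756 = n1780 := rfl
theorem F1050 : act 1 n1780 = n810 := d0_2 D756 D1780 (iv D810) (iv D320) (iv D118) (iv F42) D296
def n1781 : Q := act 2 n756
theorem D1781 : act 2 n756 = n1781 := rfl
def n1782 : Q := act 4 n756
theorem D1782 : act 4 n756 = n1782 := rfl
theorem F1051 : act 1 n1782 = n758 := d6_1 D1782 (iv D758) D756
def n1783 : Q := act 1 n757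
theorem D1783 : act 1 n757 = n1783 := rfl
def n1784 : Q := act 4 n757
theorem D1784 : act 4 n757 = n1784 := rfl
def n1785 : Q := act 2 n758
theorem D1785 : act 2 n758 = n1785 := rfl
def n1786 : Q := act 0 n759
theorem D1786 : act 0 n759 = n1786 := rfl
def n1788 : Q := act 4 n759
theorem D1788 : act 4 n759 = n1788 := rfl
def n1789 : Q := act 0 n760
theorem D1789 : act 0 n760 = n1789 := rfl
theorem F1052 : act 1 n1789 = n819 := d13_2 D760 D1789 (iv D819) (iv D324) (iv D120) (iv D41) (iv D13) (iv F5) D37 D109 D298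
def n1790 : Q := act 1 n760
theorem D1790 : act 1 n760 = n1790 := rfl
theorem F1053 : act 2 n1259 = n1790 := d15_8 (iv D324) (iv D120) D121 D328 (iv F252) (iv F712) (iv D1260) D1259 (iv D1790) D1789 F1052 (iv D819)
theorem F1054 : act 1 n1728 = n1287 := d4_5 F1053 (iv D1790) (iv D760) (iv F376) D1728 (iv D1287) (iv F711)
def n1791 : Q := act 3 n760
theorem D1791 : act 3 n760 = n1791 := rfl
theorem F1055 : act 2 n1791 = n761 := d7_1 D1791 (iv D761) D760
def n1792 : Q := act 4 n760
theorem D1792 : act 4 n760 = n1792 := rfl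
def n1793 : Q := act 0 n761
theorem D1793 : act 0 n761 = n1793 := rfl
def n1794 : Q := act 4 n761
theorem D1794 : act 4 n761 = n1794 := rfl
theorem F1056 : act 3 n1794 = n810 := d12_2 D761 D1794 (iv D810) F392 (iv D768) (iv D300) D298
def n1795 : Q := act 2 n762
theorem D1795 : act 2 n762 = n1795 := rfl
def n1796 : Q := act 3 n762
theorem D1796 : act 3 n762 = n1796 := rfl
def n1797 : Q := act 1 n763
theorem D1797 : act 1 n763 = n1797 := rfl
def n1798 : Q := act 2 n763
theorem D1798 : act 2 n763 = n1798 := rfl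
theorem F1057 : act 1 n1798 = n1539 := d15_3 D299 D763 D1798 F861 (iv F941) F942 F349 (iv D287) D286 D731 F376 (iv D298)
def n1799 : Q := act 3 n763
theorem D1799 : act 3 n763 = n1799 := rfl
def n1800 : Q := act 4 n763
theorem D1800 : act 4 n763 = n1800 := rfl
theorem F1058 : act 0 n1800 = n766 := d3_1 D1800 (iv D766) D763
def n1801 : Q := act 0 n764
theorem D1801 : act 0 n764 = n1801 := rfl
theorem F1059 : act 3 n1801 = n1249 := d16_7 D125 F50 (iv D111) D109 D299 D764 D1801 F704 F315 F108 F33 (iv F16)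
theorem F1060 : act 2 n1250 = n1801 := d7_3 F1059 (iv D1249) D1250
def n1802 : Q := act 2 n764
theorem D1802 : act 2 n764 = n1802 := rfl
theorem F1061 : act 0 n1802 = n1263 := d1_1 D1802 F715 F252 D831 (iv F705) F1060 (iv D1801)
theorem F1062 : act 1 n1802 = n772 := d4_1 D1802 (iv D772) (iv D302) (iv D110) D109 D299 D764
theorem F1063 : act 3 n1229 = n1802 := d16_2 D504 D1229 F1062 (iv D772) (iv D302) F43 (iv D93) F11 D92 D255 (iv F345) (iv D502)
def n1803 : Q := act 3 n764
theorem D1803 : act 3 n764 = n1803 := rfl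
theorem F1064 : act 0 n1803 = n1243 := d2_1 D1803 (iv D1243) F347 D639 (iv F704) (iv F1059) (iv D1801)
theorem F1065 : act 1 n1803 = n765 := d5_1 D1803 (iv D765) D764
theorem F1066 : act 2 n1803 = n1229 := d7_1 D1803 F1063 (iv D1802)
def n1804 : Q := act 4 n764
theorem D1804 : act 4 n764 = n1804 := rfl
theorem F1067 : act 1 n1804 = n766 := d6_1 D1804 (iv D766) D764
def n1805 : Q := act 0 n765
theorem D1805 : act 0 n765 = n1805 := rfl
def n1806 : Q := act 4 n765
theorem D1806 : act 4 n765 = n1806 := rfl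
def n1807 : Q := act 2 n766
theorem D1807 : act 2 n766 = n1807 := rfl
def n1808 : Q := act 3 n766
theorem D1808 : act 3 n766 = n1808 := rfl
def n1809 : Q := act 1 n767
theorem D1809 : act 1 n767 = n1809 := rfl
def n1810 : Q := act 2 n767
theorem D1810 : act 2 n767 = n1810 := rfl
def n1811 : Q := act 3 n767
theorem D1811 : act 3 n767 = n1811 := rfl
def n1812 : Q := act 4 n767
theorem D1812 : act 4 n767 = n1812 := rfl
theorem F1068 : act 0 n1812 = n768 := d3_1 D1812 (iv D768) D767
def n1813 : Q := act 2 n768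
theorem D1813 : act 2 n768 = n1813 := rfl
theorem F1069 : act 3 n1813 = n811 := d7_2 F392 D1813 (iv D811)
def n1814 : Q := act 0 n769
theorem D1814 : act 0 n769 = n1814 := rfl
def n1815 : Q := act 1 n769
theorem D1815 : act 1 n769 = n1815 := rfl
def n1816 : Q := act 3 n769
theorem D1816 : act 3 n769 = n1816 := rfl
theorem F1070 : act 2 n1816 = n770 := d7_1 D1816 (iv D770) D769
def n1817 : Q := act 4 n769
theorem D1817 : act 4 n769 = n1817 := rfl
def n1818 : Q := act 0 n770
theorem D1818 : act 0 n770 = n1818 := rfl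
def n1819 : Q := act 4 n770
theorem D1819 : act 4 n770 = n1819 := rfl
theorem F1071 : act 1 n1819 = n781 := d6_1 D1819 (iv D781) (iv F393)
theorem F1072 : act 3 n1819 = n812 := d9_1 D1819 (iv D812) F392 (iv D768) (iv D300) D301 D770
def n1820 : Q := act 1 n771
theorem D1820 : act 1 n771 = n1820 := rfl
theorem F1073 : act 0 n1820 = n1351 := d0_1 D1820 F757 (iv D663) F111 (iv F43) D302 D771
theorem F1074 : act 2 n1820 = n1342 := d15_6 (iv F5) D37 D110 D302 D771 D1820 (iv D1342) (iv D555) F92 (iv D120) (iv D41) (iv D13)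
def n1821 : Q := act 2 n771
theorem D1821 : act 2 n771 = n1821 := rfl
def n1822 : Q := act 3 n771
theorem D1822 : act 3 n771 = n1822 := rfl
def n1823 : Q := act 4 n771
theorem D1823 : act 4 n771 = n1823 := rfl
theorem F1075 : act 0 n1823 = n774 := d3_1 D1823 (iv D774) D771
def n1824 : Q := act 3 n772
theorem D1824 : act 3 n772 = n1824 := rfl
theorem F1076 : act 1 n1824 = n1229 := d5_1 D1824 F1063 F1062
theorem F1077 : act 2 n1824 = n773 := d7_1 D1824 (iv D773) D772
def n1825 : Q := act 4 n772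
theorem D1825 : act 4 n772 = n1825 := rfl
def n1826 : Q := act 0 n773
theorem D1826 : act 0 n773 = n1826 := rfl
def n1827 : Q := act 4 n773
theorem D1827 : act 4 n773 = n1827 := rfl
theorem F1078 : act 1 n1827 = n775 := d6_1 D1827 (iv D775) (iv F394)
theorem F1079 : act 3 n948 = n1827 := d5_0 F1078 F398 D948
def n1828 : Q := act 2 n774
theorem D1828 : act 2 n774 = n1828 := rfl
def n1829 : Q := act 3 n774
theorem D1829 : act 3 n774 = n1829 := rfl
theorem F1080 : act 1 n1829 = n776 := d5_1 D1829 (iv D776) (iv F395)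
def n1830 : Q := act 4 n776
theorem D1830 : act 4 n776 = n1830 := rfl
theorem F1081 : act 0 n1830 = n1830 := d3_1 D1830 (iv D1830) F399
theorem F1082 : act 3 n1830 = n949 := d9_1 D1830 (iv D949) (iv F398) (iv D775) (iv D303) D304 D776
theorem F1083 : act 2 n1830 = n976 := d11_2 (iv F400) D1830 F511 (iv D870) (iv D346) (iv F157) (iv F160)
def n1831 : Q := act 1 n777
theorem D1831 : act 1 n777 = n1831 := rfl
theorem F1084 : act 3 n1831 = n813 := d5_2 (iv F401) D1831 (iv D813)
def n1832 : Q := act 4 n777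
theorem D1832 : act 4 n777 = n1832 := rfl
theorem F1085 : act 0 n1832 = n1832 := d3_1 D1832 (iv D1832) F402
theorem F1087 : act 3 n1832 = n959 := d12_2 (iv F401) D1832 F504 (iv D678) (iv D264) D263 (iv F143)
def n1833 : Q := act 0 n778
theorem D1833 : act 0 n778 = n1833 := rfl
def n1834 : Q := act 2 n778
theorem D1834 : act 2 n778 = n1834 := rfl
def n1835 : Q := act 3 n778
theorem D1835 : act 3 n778 = n1835 := rfl
theorem F1088 : act 1 n1835 = n779 := d5_1 D1835 (iv D779) D778
def n1836 : Q := act 4 n778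
theorem D1836 : act 4 n778 = n1836 := rfl
theorem F1089 : act 1 n1836 = n780 := d6_1 D1836 (iv D780) D778
def n1837 : Q := act 4 n779
theorem D1837 : act 4 n779 = n1837 := rfl
theorem F1090 : act 0 n1837 = n1837 := d3_1 D1837 (iv D1837) F403
def n1838 : Q := act 3 n780
theorem D1838 : act 3 n780 = n1838 := rfl
theorem F1092 : act 2 n1838 = n876 := d7_1 D1838 (iv D876) (iv F406)
def n1839 : Q := act 2 n781
theorem D1839 : act 2 n781 = n1839 := rfl
theorem F1093 : act 3 n1839 = n815 := d7_2 (iv F407) D1839 (iv D815)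
def n1840 : Q := act 0 n782
theorem D1840 : act 0 n782 = n1840 := rfl
def n1841 : Q := act 2 n782
theorem D1841 : act 2 n782 = n1841 := rfl
def n1842 : Q := act 3 n782
theorem D1842 : act 3 n782 = n1842 := rfl
theorem F1095 : act 1 n1842 = n783 := d5_1 D1842 (iv D783) D782
def n1843 : Q := act 4 n782
theorem D1843 : act 4 n782 = n1843 := rfl
theorem F1096 : act 1 n1843 = n784 := d6_1 D1843 (iv D784) D782
def n1844 : Q := act 4 n783
theorem D1844 : act 4 n783 = n1844 := rfl
theorem F1097 : act 0 n1844 = n1844 := d3_1 D1844 (iv D1844) F408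
def n1845 : Q := act 3 n784
theorem D1845 : act 3 n784 = n1845 := rfl
theorem F1098 : act 0 n1845 = n1845 := d2_1 D1845 (iv D1845) F410 D790 F416 (iv D790) (iv F410)
theorem F1099 : act 2 n1845 = n869 := d7_1 D1845 (iv D869) (iv F411)
def n1846 : Q := act 1 n785
theorem D1846 : act 1 n785 = n1846 := rfl
theorem F1100 : act 2 n1846 = n1370 := d17_8 (iv D26) F3 (iv F5) D38 D113 D309 D785 D1846 (iv D1370) (iv D564) F94 F29
theorem F1101 : act 4 n1360 = n1846 := d8_0 F1100 (iv D1370) (iv D564) (iv D216) D214 D561 D1360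
def n1847 : Q := act 2 n785
theorem D1847 : act 2 n785 = n1847 := rfl
def n1848 : Q := act 3 n785
theorem D1848 : act 3 n785 = n1848 := rfl
def n1849 : Q := act 4 n785
theorem D1849 : act 4 n785 = n1849 := rfl
theorem F1102 : act 0 n1849 = n788 := d3_1 D1849 (iv D788) D785
theorem F1103 : act 1 n1849 = n1360 := d6_1 D1849 F1101 (iv D1846)
def n1850 : Q := act 0 n786
theorem D1850 : act 0 n786 = n1850 := rfl
def n1851 : Q := act 3 n786
theorem D1851 : act 3 n786 = n1851 := rfl
theorem F1104 : act 2 n1851 = n787 := d7_1 D1851 (iv D787) D786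
def n1852 : Q := act 4 n786
theorem D1852 : act 4 n786 = n1852 := rfl
def n1853 : Q := act 0 n787
theorem D1853 : act 0 n787 = n1853 := rfl
def n1854 : Q := act 4 n787
theorem D1854 : act 4 n787 = n1854 := rfl
theorem F1105 : act 1 n1854 = n789 := d6_1 D1854 (iv D789) (iv F412)
def n1855 : Q := act 2 n788
theorem D1855 : act 2 n788 = n1855 := rfl
def n1856 : Q := act 3 n788
theorem D1856 : act 3 n788 = n1856 := rfl
def n1858 : Q := act 3 n789
theorem D1858 : act 3 n789 = n1858 := rfl
def n1860 : Q := act 1 n791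
theorem D1860 : act 1 n791 = n1860 := rfl
def n1862 : Q := act 3 n792
theorem D1862 : act 3 n792 = n1862 := rfl
theorem F1110 : act 1 n1862 = n794 := d5_1 D1862 (iv D794) D792
theorem F1111 : act 2 n1862 = n1032 := d7_1 D1862 (iv D1032) (iv F420)
def n1863 : Q := act 0 n793
theorem D1863 : act 0 n793 = n1863 := rfl
theorem F1112 : act 1 n1863 = n1523 := d13_2 D793 D1863 (iv D1523) (iv D631) F107 F34 F12 D39 F15 D115 D313
def n1864 : Q := act 1 n793
theorem D1864 : act 1 n793 = n1864 := rfl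
theorem F1113 : act 2 n1864 = n1078 := d4_2 D793 D1864 F1038 F1036 F553 (iv F420) (iv D792)
theorem F1114 : act 4 n1067 = n1864 := d8_0 F1113 (iv D1078) (iv D434) (iv D164) D162 D431 D1067
def n1865 : Q := act 3 n793
theorem D1865 : act 3 n793 = n1865 := rfl
theorem F1115 : act 2 n1865 = n794 := d7_1 D1865 (iv D794) D793
def n1866 : Q := act 4 n793
theorem D1866 : act 4 n793 = n1866 := rfl
theorem F1116 : act 1 n1866 = n1067 := d6_1 D1866 F1114 (iv D1864)
def n1867 : Q := act 0 n794
theorem D1867 : act 0 n794 = n1867 := rfl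
def n1868 : Q := act 4 n794
theorem D1868 : act 4 n794 = n1868 := rfl
def n1869 : Q := act 2 n795
theorem D1869 : act 2 n795 = n1869 := rfl
def n1870 : Q := act 3 n795
theorem D1870 : act 3 n795 = n1870 := rfl
theorem F1117 : act 1 n1870 = n1005 := d5_1 D1870 (iv D1005) (iv F423)
def n1871 : Q := act 1 n796
theorem D1871 : act 1 n796 = n1871 := rfl
theorem F1118 : act 2 n1871 = n1429 := d17_8 D85 (iv F103) D604 (iv F867) D750 F385 D796 D1871 (iv D1429) (iv D590) (iv D228) (iv D82)
def n1872 : Q := act 2 n796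
theorem D1872 : act 2 n796 = n1872 := rfl
def n1873 : Q := act 3 n796
theorem D1873 : act 3 n796 = n1873 := rfl
def n1874 : Q := act 4 n796
theorem D1874 : act 4 n796 = n1874 := rfl
theorem F1119 : act 0 n1874 = n798 := d3_1 D1874 (iv D798) D796
def n1875 : Q := act 0 n797
theorem D1875 : act 0 n797 = n1875 := rfl
def n1876 : Q := act 4 n797
theorem D1876 : act 4 n797 = n1876 := rfl
def n1877 : Q := act 2 n798
theorem D1877 : act 2 n798 = n1877 := rfl
def n1878 : Q := act 3 n798
theorem D1878 : act 3 n798 = n1878 := rfl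
def n1879 : Q := act 1 n799
theorem D1879 : act 1 n799 = n1879 := rfl
def n1880 : Q := act 2 n799
theorem D1880 : act 2 n799 = n1880 := rfl
def n1881 : Q := act 3 n799
theorem D1881 : act 3 n799 = n1881 := rfl
def n1882 : Q := act 4 n799
theorem D1882 : act 4 n799 = n1882 := rfl
theorem F1120 : act 0 n1882 = n800 := d3_1 D1882 (iv D800) D799
def n1883 : Q := act 2 n800
theorem D1883 : act 2 n800 = n1883 := rfl
def n1884 : Q := act 3 n800
theorem D1884 : act 3 n800 = n1884 := rfl
theorem F1121 : act 1 n1884 = n807 := d5_1 D1884 (iv D807) (iv F425)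
def n1885 : Q := act 0 n801
theorem D1885 : act 0 n801 = n1885 := rfl
def n1886 : Q := act 1 n801
theorem D1886 : act 1 n801 = n1886 := rfl
theorem F1122 : act 2 n1886 = n939 := d4_2 D801 D1886 (iv D939) (iv D373) F61 (iv F47) (iv F140)
def n1887 : Q := act 3 n801
theorem D1887 : act 3 n801 = n1887 := rfl
theorem F1123 : act 2 n1887 = n802 := d7_1 D1887 (iv D802) D801
def n1888 : Q := act 4 n801
theorem D1888 : act 4 n801 = n1888 := rfl
def n1889 : Q := act 0 n802
theorem D1889 : act 0 n802 = n1889 := rfl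
def n1891 : Q := act 0 n803
theorem D1891 : act 0 n803 = n1891 := rfl
def n1892 : Q := act 2 n803
theorem D1892 : act 2 n803 = n1892 := rfl
def n1893 : Q := act 3 n803
theorem D1893 : act 3 n803 = n1893 := rfl
theorem F1125 : act 1 n1893 = n804 := d5_1 D1893 (iv D804) D803
def n1894 : Q := act 4 n803
theorem D1894 : act 4 n803 = n1894 := rfl
theorem F1126 : act 1 n1894 = n805 := d6_1 D1894 (iv D805) D803
def n1895 : Q := act 4 n804
theorem D1895 : act 4 n804 = n1895 := rfl
theorem F1129 : act 3 n1895 = n808 := d12_2 D804 D1895 (iv D808) (iv D319) (iv D117) D116 D317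
def n1897 : Q := act 3 n805
theorem D1897 : act 3 n805 = n1897 := rfl
def n1902 : Q := act 4 n807
theorem D1902 : act 4 n807 = n1902 := rfl
theorem F1136 : act 3 n1902 = n809 := d9_1 D1902 (iv D809) (iv D319) (iv D117) D116 D318 D807
def n1906 : Q := act 2 n810
theorem D1906 : act 2 n810 = n1906 := rfl
def n1907 : Q := act 4 n810
theorem D1907 : act 4 n810 = n1907 := rfl
theorem F1138 : act 0 n1907 = n812 := d3_1 D1907 (iv D812) D810
def n1908 : Q := act 0 n811
theorem D1908 : act 0 n811 = n1908 := rfl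
def n1909 : Q := act 1 n811
theorem D1909 : act 1 n811 = n1909 := rfl
def n1910 : Q := act 4 n811
theorem D1910 : act 4 n811 = n1910 := rfl
def n1911 : Q := act 2 n812
theorem D1911 : act 2 n812 = n1911 := rfl
def n1912 : Q := act 0 n813
theorem D1912 : act 0 n813 = n1912 := rfl
def n1913 : Q := act 2 n813
theorem D1913 : act 2 n813 = n1913 := rfl
def n1914 : Q := act 4 n813
theorem D1914 : act 4 n813 = n1914 := rfl
theorem F1139 : act 1 n1914 = n814 := d6_1 D1914 (iv D814) D813
def n1915 : Q := act 3 n814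
theorem D1915 : act 3 n814 = n1915 := rfl
def n1916 : Q := act 1 n815
theorem D1916 : act 1 n815 = n1916 := rfl
def n1917 : Q := act 4 n815
theorem D1917 : act 4 n815 = n1917 := rfl
def n1925 : Q := act 2 n819
theorem D1925 : act 2 n819 = n1925 := rfl
theorem F1147 : act 0 n1925 = n828 := d1_1 D1925 (iv D828) (iv D327) (iv D121) D120 D324 D819
theorem F1148 : act 1 n1925 = n1298 := d14_2 F1052 D1925 (iv D1298) (iv D534) (iv D203) D202 D530 (iv F711) F1053 (iv D1790) D1789
def n1926 : Q := act 3 n819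
theorem D1926 : act 3 n819 = n1926 := rfl
theorem F1149 : act 0 n1926 = n838 := d10_1 D1926 (iv D838) (iv D331) (iv D122) D120 D324 D819
def n1927 : Q := act 4 n819
theorem D1927 : act 4 n819 = n1927 := rfl
theorem F1150 : act 0 n1927 = n822 := d3_1 D1927 (iv D822) D819
def n1928 : Q := act 2 n820
theorem D1928 : act 2 n820 = n1928 := rfl
def n1929 : Q := act 3 n820
theorem D1929 : act 3 n820 = n1929 := rfl
theorem F1151 : act 1 n1929 = n821 := d5_1 D1929 (iv D821) D820
def n1930 : Q := act 4 n820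
theorem D1930 : act 4 n820 = n1930 := rfl
theorem F1152 : act 1 n1930 = n822 := d6_1 D1930 (iv D822) D820
def n1931 : Q := act 0 n821
theorem D1931 : act 0 n821 = n1931 := rfl
def n1932 : Q := act 4 n821
theorem D1932 : act 4 n821 = n1932 := rfl
def n1933 : Q := act 2 n822
theorem D1933 : act 2 n822 = n1933 := rfl
theorem F1153 : act 0 n1933 = n835 := d11_3 D324 D822 D1933 (iv D835) (iv D330) (iv D121) D120
def n1934 : Q := act 3 n822
theorem D1934 : act 3 n822 = n1934 := rfl
def n1935 : Q := act 1 n823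
theorem D1935 : act 1 n823 = n1935 := rfl
def n1936 : Q := act 2 n823
theorem D1936 : act 2 n823 = n1936 := rfl
theorem F1155 : act 0 n1936 = n829 := d10_3 D325 D823 D1936 (iv D829) (iv D327) (iv D121) D120
def n1937 : Q := act 3 n823
theorem D1937 : act 3 n823 = n1937 := rfl
theorem F1156 : act 0 n1937 = n839 := d2_1 D1937 (iv D839) (iv D331) (iv D122) D120 D325 D823
def n1938 : Q := act 4 n823
theorem D1938 : act 4 n823 = n1938 := rfl
theorem F1157 : act 0 n1938 = n824 := d3_1 D1938 (iv D824) D823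
def n1939 : Q := act 2 n824
theorem D1939 : act 2 n824 = n1939 := rfl
theorem F1158 : act 3 n1939 = n962 := d7_2 (iv F436) D1939 (iv D962)
def n1940 : Q := act 0 n825
theorem D1940 : act 0 n825 = n1940 := rfl
def n1941 : Q := act 1 n825
theorem D1941 : act 1 n825 = n1941 := rfl
def n1942 : Q := act 3 n825
theorem D1942 : act 3 n825 = n1942 := rfl
theorem F1159 : act 2 n1942 = n826 := d7_1 D1942 (iv D826) D825
def n1943 : Q := act 4 n825
theorem D1943 : act 4 n825 = n1943 := rfl
def n1944 : Q := act 0 n826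
theorem D1944 : act 0 n826 = n1944 := rfl
def n1945 : Q := act 4 n826
theorem D1945 : act 4 n826 = n1945 := rfl
theorem F1160 : act 3 n1945 = n963 := d9_1 D1945 (iv D963) (iv F436) (iv D824) (iv D325) D326 D826
def n1946 : Q := act 0 n827
theorem D1946 : act 0 n827 = n1946 := rfl
def n1947 : Q := act 2 n827
theorem D1947 : act 2 n827 = n1947 := rfl
def n1948 : Q := act 3 n827
theorem D1948 : act 3 n827 = n1948 := rfl
theorem F1161 : act 1 n1948 = n829 := d5_1 D1948 (iv D829) D827
def n1949 : Q := act 4 n827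
theorem D1949 : act 4 n827 = n1949 := rfl
theorem F1162 : act 1 n1949 = n830 := d6_1 D1949 (iv D830) D827
def n1950 : Q := act 1 n828
theorem D1950 : act 1 n828 = n1950 := rfl
theorem F1163 : act 0 n1950 = n1042 := d0_1 D1950 F559 F196 D534 D1298 (iv F1148) F1147
theorem E16 : n1948 = n1175 := ((c16_2 D478 D1175 (iv D1948) (iv D827) D828 D1950 F1163 (iv D1042) F194 (iv D185) (iv D65) D64 D181)).symm
theorem F1164 : act 1 n1175 = n829 := (sb E16 F1161)
theorem F1165 : act 3 n1175 = n827 := (sb E16 (iv D1948))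
theorem E17 : n1946 = n1190 := ((c16_8 (iv D1042) F194 D489 F236 F80 (iv F78) D484 D1190 (iv D1946) (iv D827) D828 D1950 F1163)).symm
theorem F1166 : act 0 n1190 = n827 := (sb E17 (iv D1946))
theorem F1167 : act 2 n1583 = n1950 := d15_8 D1299 F938 (iv D772) (iv D302) F43 (iv F111) (iv F323) D1583 (iv D1950) (iv F1147) F1148 (iv D1298)
def n1951 : Q := act 3 n828
theorem D1951 : act 3 n828 = n1951 := rfl
theorem F1168 : act 2 n1951 = n829 := d7_1 D1951 (iv D829) D828
def n1952 : Q := act 4 n828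
theorem D1952 : act 4 n828 = n1952 := rfl
theorem F1169 : act 2 n1952 = n842 := d11_2 D828 D1952 (iv D842) (iv D333) (iv D123) D121 D327
def n1953 : Q := act 4 n829
theorem D1953 : act 4 n829 = n1953 := rfl
def n1954 : Q := act 2 n830
theorem D1954 : act 2 n830 = n1954 := rfl
def n1955 : Q := act 3 n830
theorem D1955 : act 3 n830 = n1955 := rfl
def n1956 : Q := act 4 n831
theorem D1956 : act 4 n831 = n1956 := rfl
theorem F1170 : act 1 n1956 = n854 := d6_1 D1956 (iv D854) (iv F438)
def n1957 : Q := act 2 n832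
theorem D1957 : act 2 n832 = n1957 := rfl
def n1958 : Q := act 1 n833
theorem D1958 : act 1 n833 = n1958 := rfl
def n1959 : Q := act 2 n833
theorem D1959 : act 2 n833 = n1959 := rfl
def n1960 : Q := act 3 n833
theorem D1960 : act 3 n833 = n1960 := rfl
def n1961 : Q := act 4 n833
theorem D1961 : act 4 n833 = n1961 := rfl
theorem F1171 : act 0 n1961 = n834 := d3_1 D1961 (iv D834) D833
def n1962 : Q := act 2 n834
theorem D1962 : act 2 n834 = n1962 := rfl
def n1963 : Q := act 3 n834
theorem D1963 : act 3 n834 = n1963 := rfl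
def n1964 : Q := act 1 n835
theorem D1964 : act 1 n835 = n1964 := rfl
theorem F1172 : act 0 n1964 = n1320 := d16_6 D509 D1241 F699 F439 D835 D1964 (iv D1320) (iv D545) (iv D208) (iv D74) (iv F28) (iv F83)
theorem E18 : n1484 = n26 := (c17_11 (iv D44) D41 D121 D330 D835 D1964 F1172 F747 F269 D613 D1484 F9 (iv F18))
theorem E19 : n613 = n80 := (((D80).symm.trans (sb E18 (iv D1484)))).symm
theorem E20 : n1483 = n223 := (((D223).symm.trans (sb E19 (iv F823)))).symm
theorem E21 : n1466 = n224 := (((D224).symm.trans (sb E19 (iv F814)))).symm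
theorem E22 : n1480 = n225 := (((D225).symm.trans (sb E19 (iv F822)))).symm
theorem E23 : n237 = n226 := (((D226).symm.trans (sb E19 (iv D613)))).symm
theorem E24 : n612 = n580 := (((D580).symm.trans (sb E20 (iv D1483)))).symm
theorem E25 : n605 = n584 := (((D584).symm.trans (sb E21 (iv D1466)))).symm
theorem E26 : n611 = n586 := (((D586).symm.trans (sb E22 (iv D1480)))).symm
theorem E27 : n550 = n543 := ((((iv F264)).symm.trans (sb E23 (iv F269)))).symm
theorem E28 : n587 = n85 := ((D587).symm.trans (sb E23 (iv D237)))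
theorem E31 : n1473 = n1401 := (((D1401).symm.trans (sb E24 (iv F818)))).symm
theorem E33 : n1463 = n1411 := (((D1411).symm.trans (sb E25 (iv F813)))).symm
theorem E34 : n1412 = n234 := ((D1412).symm.trans (sb E25 (iv D605)))
theorem E35 : n1435 = n1414 := ((((iv F788)).symm.trans (sb E26 (iv F797)))).symm
theorem E36 : n1460 = n1410 := ((((iv F786)).symm.trans (sb E26 (iv F812)))).symm
theorem E37 : n1478 = n1415 := (((D1415).symm.trans (sb E26 (iv F820)))).symm
theorem E38 : n1416 = n236 := ((D1416).symm.trans (sb E26 (iv D611)))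
theorem E40 : n1320 = n1315 := ((((iv F744)).symm.trans (sb E27 (iv F747)))).symm
theorem E41 : n1317 = n210 := ((D1317).symm.trans (sb E27 (iv D550)))
theorem F1173 : act 3 n85 = n226 := (sb E28 (iv D587))
theorem F1174 : act 4 n1401 = n608 := (sb E31 (iv D1473))
theorem F1175 : act 1 n1411 = n755 := (sb E33 F871)
theorem F1176 : act 3 n1411 = n604 := (sb E33 (iv D1463))
theorem F1177 : act 3 n234 = n584 := (sb E34 (iv D1412))
theorem F1178 : act 3 n1414 = n593 := (sb E35 (iv D1435))
theorem F1179 : act 3 n1410 = n603 := (sb E36 (iv D1460))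
theorem F1180 : act 3 n1415 = n610 := (sb E37 (iv D1478))
theorem F1181 : act 3 n236 = n586 := (sb E38 (iv D1416))
theorem F1182 : act 0 n1315 = n1964 := (sb E40 (iv F1172))
theorem F1183 : act 3 n1315 = n545 := (sb E40 (iv D1320))
theorem F1184 : act 3 n210 = n543 := (sb E41 (iv D1317))
theorem F1185 : act 4 n1312 = n1964 := d17_0 (iv D1964) (iv D835) (iv D330) (iv D121) (iv D41) (iv D13) (iv F3) (iv F8) D73 D206 D541 D1312
theorem E45 : n1330 = n1316 := ((c9_5 D210 F1184 (iv D543) D542 D1316 (iv D1330) (iv D549) (iv D209))).symm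
theorem F1186 : act 3 n1316 = n549 := (sb E45 (iv D1330))
theorem E46 : n1388 = n1142 := (c10_4 F1184 (iv F741) F742 (iv F775) (iv D1142) F224 (iv F211) F210)
theorem F1187 : act 0 n1142 = n576 := (sb E46 F775)
theorem F1188 : act 4 n1142 = n573 := (sb E46 (iv D1388))
theorem E47 : n1101 = n1094 := ((c12_6 F1184 (iv D543) D542 (iv F599) (iv D1093) D1094 (iv D1101) F210)).symm
theorem E48 : n471 = n460 := (((F600).symm.trans (sb E47 F606))).symm
theorem F1189 : act 3 n1094 = n444 := (sb E47 (iv D1101))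
theorem E50 : n1153 = n1133 := ((((iv F629)).symm.trans (sb E48 (iv F639)))).symm
theorem E51 : n1136 = n178 := ((D1136).symm.trans (sb E48 (iv D471)))
theorem F1190 : act 3 n1133 = n468 := (sb E50 (iv D1153))
theorem F1191 : act 3 n178 = n460 := (sb E51 (iv D1136))
theorem E53 : n1159 = n1135 := ((c9_5 D178 F1191 (iv D460) D459 D1135 (iv D1159) (iv D470) (iv D177))).symm
theorem F1192 : act 3 n1135 = n470 := (sb E53 (iv D1159))
theorem E54 : n1394 = n1386 := (c12_5 (iv D463) D464 D1142 F1187 D1394 (iv D1386) F280 (iv F223))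
theorem F1193 : act 3 n1386 = n576 := (sb E54 (iv D1394))
theorem E55 : n1494 = n1393 := ((c9_5 D1386 F1193 (iv D576) D575 D1393 (iv D1494) (iv D618) (iv F280))).symm
theorem F1194 : act 3 n1393 = n618 := (sb E55 (iv D1494))
theorem E56 : n1475 = n1400 := ((c12_6 F1181 (iv D586) (iv D225) D223 D579 D1400 (iv D1475) F297)).symm
theorem F1195 : act 3 n1400 = n609 := (sb E56 (iv D1475))
theorem E57 : n1437 = n1122 := (c9_7 D1414 F1178 (iv D593) (iv D229) D230 D594 D1437 F621)
theorem F1196 : act 4 n1122 = n594 := (sb E57 (iv D1437))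
theorem E58 : n1436 = n1125 := (c3_2 F1196 D1436 (iv D1125) D1122)
theorem F1197 : act 0 n1125 = n594 := (sb E58 (iv D1436))
theorem E59 : n1217 = n1210 := (c8_2 F1196 (iv F676) (iv D1210) (iv D493) (iv D188) (iv F80) D491 (iv F620))
theorem F1198 : act 2 n1210 = n594 := (sb E59 F676)
theorem F1199 : act 3 n1210 = n497 := (sb E59 (iv D1217))
def n1965 : Q := act 3 n835
theorem D1965 : act 3 n835 = n1965 := rfl
theorem F1200 : act 2 n1965 = n836 := d7_1 D1965 (iv D836) D835
def n1966 : Q := act 4 n835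
theorem D1966 : act 4 n835 = n1966 := rfl
theorem F1201 : act 1 n1966 = n1312 := d6_1 D1966 F1185 (iv D1964)
theorem F1202 : act 2 n1966 = n845 := d8_1 D1966 (iv D845) (iv D333) (iv D123) D121 D330 D835
def n1967 : Q := act 0 n836
theorem D1967 : act 0 n836 = n1967 := rfl
def n1968 : Q := act 4 n836
theorem D1968 : act 4 n836 = n1968 := rfl
def n1971 : Q := act 4 n837
theorem D1971 : act 4 n837 = n1971 := rfl
theorem F1205 : act 1 n1971 = n840 := d6_1 D1971 (iv D840) D837
def n1972 : Q := act 1 n838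
theorem D1972 : act 1 n838 = n1972 := rfl
def n1973 : Q := act 3 n838
theorem D1973 : act 3 n838 = n1973 := rfl
def n1974 : Q := act 4 n838
theorem D1974 : act 4 n838 = n1974 := rfl
def n1975 : Q := act 4 n839
theorem D1975 : act 4 n839 = n1975 := rfl
theorem F1207 : act 3 n1975 = n846 := d12_2 D839 D1975 (iv D846) (iv D334) (iv D123) D122 D331
def n1976 : Q := act 2 n840
theorem D1976 : act 2 n840 = n1976 := rfl
def n1977 : Q := act 3 n840
theorem D1977 : act 3 n840 = n1977 := rfl
def n1978 : Q := act 0 n841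
theorem D1978 : act 0 n841 = n1978 := rfl
def n1979 : Q := act 4 n841
theorem D1979 : act 4 n841 = n1979 := rfl
def n1980 : Q := act 1 n842
theorem D1980 : act 1 n842 = n1980 := rfl
def n1981 : Q := act 3 n842
theorem D1981 : act 3 n842 = n1981 := rfl
def n1982 : Q := act 4 n842
theorem D1982 : act 4 n842 = n1982 := rfl
theorem F1208 : act 0 n1982 = n845 := d3_1 D1982 (iv D845) D842
def n1983 : Q := act 2 n843
theorem D1983 : act 2 n843 = n1983 := rfl
theorem F1209 : act 1 n1983 = n865 := d4_1 D1983 (iv D865) (iv D343) (iv D128) (iv F49) D333 D843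
def n1984 : Q := act 3 n843
theorem D1984 : act 3 n843 = n1984 := rfl
theorem F1210 : act 1 n1984 = n844 := d5_1 D1984 (iv D844) D843
def n1985 : Q := act 4 n843
theorem D1985 : act 4 n843 = n1985 := rfl
theorem F1211 : act 1 n1985 = n845 := d6_1 D1985 (iv D845) D843
def n1986 : Q := act 0 n844
theorem D1986 : act 0 n844 = n1986 := rfl
def n1987 : Q := act 4 n844
theorem D1987 : act 4 n844 = n1987 := rfl
def n1988 : Q := act 3 n845
theorem D1988 : act 3 n845 = n1988 := rfl
def n1989 : Q := act 1 n846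
theorem D1989 : act 1 n846 = n1989 := rfl
def n1990 : Q := act 2 n846
theorem D1990 : act 2 n846 = n1990 := rfl
def n1991 : Q := act 4 n846
theorem D1991 : act 4 n846 = n1991 := rfl
theorem F1213 : act 0 n1991 = n847 := d3_1 D1991 (iv D847) D846
def n1992 : Q := act 2 n847
theorem D1992 : act 2 n847 = n1992 := rfl
theorem F1214 : act 3 n1992 = n967 := d7_2 (iv F445) D1992 (iv D967)
def n1993 : Q := act 2 n848
theorem D1993 : act 2 n848 = n1993 := rfl
theorem F1215 : act 0 n1993 = n1728 := d1_1 D1993 (iv D1728) (iv D731) D732 (iv F874) (iv D1549) (iv F446)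
def n1994 : Q := act 3 n848
theorem D1994 : act 3 n848 = n1994 := rfl
theorem F1216 : act 1 n1994 = n850 := d5_1 D1994 (iv D850) D848
def n1995 : Q := act 4 n848
theorem D1995 : act 4 n848 = n1995 := rfl
theorem F1217 : act 0 n1995 = n1551 := d3_1 D1995 (iv D1551) (iv F446)
theorem F1218 : act 1 n1995 = n851 := d6_1 D1995 (iv D851) D848
def n1996 : Q := act 0 n849
theorem D1996 : act 0 n849 = n1996 := rfl
def n1997 : Q := act 1 n849
theorem D1997 : act 1 n849 = n1997 := rfl
def n1998 : Q := act 3 n849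
theorem D1998 : act 3 n849 = n1998 := rfl
theorem F1219 : act 2 n1998 = n850 := d7_1 D1998 (iv D850) D849
def n1999 : Q := act 4 n849
theorem D1999 : act 4 n849 = n1999 := rfl
def n2000 : Q := act 0 n850
theorem D2000 : act 0 n850 = n2000 := rfl
def n2001 : Q := act 4 n850
theorem D2001 : act 4 n850 = n2001 := rfl
theorem F1220 : act 3 n2001 = n1618 := d12_2 D850 D2001 (iv D1618) F450 (iv D856) (iv D337) D335
def n2002 : Q := act 2 n851
theorem D2002 : act 2 n851 = n2002 := rfl
def n2003 : Q := act 3 n851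
theorem D2003 : act 3 n851 = n2003 := rfl
def n2004 : Q := act 1 n852
theorem D2004 : act 1 n852 = n2004 := rfl
theorem F1221 : act 0 n2004 = n1355 := d13_3 D336 D852 D2004 (iv D1355) D1354 F759 (iv F874) (iv D1549) (iv F446) (iv D848) (iv D335)
theorem F1222 : act 1 n1250 = n1377 := d0_4 (iv D2004) (iv D852) (iv F438) (iv F705) (iv D1377) (iv F761) (iv F1221)
theorem F1223 : act 3 n1377 = n1248 := d5_2 D1250 F1222 (iv D1248)
theorem F1224 : act 0 n1248 = n1928 := d10_1 F1223 (iv D1928) F927 (iv D1375) (iv D566) D567 D1377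
theorem F1225 : act 1 n1928 = n1703 := d0_2 D1248 F1224 (iv D1703) (iv D720) (iv D282) (iv F84) D514
theorem F1226 : act 2 n1703 = n1343 := d16_10 (iv F928) (iv D1358) (iv D560) D559 D1355 F761 D1377 F1223 F1224 F1225 (iv D1343) D1342
def n2005 : Q := act 3 n852
theorem D2005 : act 3 n852 = n2005 := rfl
def n2006 : Q := act 4 n852
theorem D2006 : act 4 n852 = n2006 := rfl
theorem F1227 : act 0 n2006 = n854 := d3_1 D2006 (iv D854) D852
def n2007 : Q := act 0 n853
theorem D2007 : act 0 n853 = n2007 := rfl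
def n2008 : Q := act 4 n853
theorem D2008 : act 4 n853 = n2008 := rfl
def n2009 : Q := act 2 n854
theorem D2009 : act 2 n854 = n2009 := rfl
def n2010 : Q := act 3 n854
theorem D2010 : act 3 n854 = n2010 := rfl
def n2011 : Q := act 1 n855
theorem D2011 : act 1 n855 = n2011 := rfl
theorem F1228 : act 0 n2011 = n1809 := d0_1 D2011 (iv D1809) (iv D767) F126 (iv F50) (iv F150) D855
def n2012 : Q := act 2 n855
theorem D2012 : act 2 n855 = n2012 := rfl
def n2013 : Q := act 3 n855
theorem D2013 : act 3 n855 = n2013 := rfl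
def n2014 : Q := act 4 n855
theorem D2014 : act 4 n855 = n2014 := rfl
theorem F1229 : act 0 n2014 = n856 := d3_1 D2014 (iv D856) D855
def n2015 : Q := act 2 n856
theorem D2015 : act 2 n856 = n2015 := rfl
theorem F1230 : act 3 n2015 = n1619 := d7_2 F450 D2015 (iv D1619)
def n2016 : Q := act 0 n857
theorem D2016 : act 0 n857 = n2016 := rfl
def n2017 : Q := act 1 n857
theorem D2017 : act 1 n857 = n2017 := rfl
def n2018 : Q := act 3 n857
theorem D2018 : act 3 n857 = n2018 := rfl
theorem F1231 : act 2 n2018 = n858 := d7_1 D2018 (iv D858) D857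
def n2019 : Q := act 4 n857
theorem D2019 : act 4 n857 = n2019 := rfl
def n2020 : Q := act 0 n858
theorem D2020 : act 0 n858 = n2020 := rfl
def n2021 : Q := act 4 n858
theorem D2021 : act 4 n858 = n2021 := rfl
theorem F1232 : act 1 n2021 = n859 := d6_1 D2021 (iv D859) (iv F451)
theorem F1233 : act 3 n2021 = n1620 := d9_1 D2021 (iv D1620) F450 (iv D856) (iv D337) D338 D858
def n2022 : Q := act 0 n860
theorem D2022 : act 0 n860 = n2022 := rfl
def n2023 : Q := act 2 n860
theorem D2023 : act 2 n860 = n2023 := rfl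
theorem F1234 : act 3 n2023 = n969 := d7_2 (iv F454) D2023 (iv D969)
def n2024 : Q := act 4 n860
theorem D2024 : act 4 n860 = n2024 := rfl
theorem F1235 : act 1 n2024 = n861 := d6_1 D2024 (iv D861) D860
def n2025 : Q := act 0 n862
theorem D2025 : act 0 n862 = n2025 := rfl
def n2026 : Q := act 2 n862
theorem D2026 : act 2 n862 = n2026 := rfl
def n2027 : Q := act 4 n862
theorem D2027 : act 4 n862 = n2027 := rfl
theorem F1236 : act 1 n2027 = n863 := d6_1 D2027 (iv D863) D862
def n2028 : Q := act 1 n864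
theorem D2028 : act 1 n864 = n2028 := rfl
def n2029 : Q := act 2 n864
theorem D2029 : act 2 n864 = n2029 := rfl
def n2030 : Q := act 3 n864
theorem D2030 : act 3 n864 = n2030 := rfl
def n2031 : Q := act 4 n864
theorem D2031 : act 4 n864 = n2031 := rfl
theorem F1237 : act 0 n2031 = n867 := d3_1 D2031 (iv D867) D864
def n2032 : Q := act 0 n865
theorem D2032 : act 0 n865 = n2032 := rfl
def n2033 : Q := act 3 n865
theorem D2033 : act 3 n865 = n2033 := rfl
theorem F1238 : act 2 n2033 = n866 := d7_1 D2033 (iv D866) D865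
def n2034 : Q := act 4 n865
theorem D2034 : act 4 n865 = n2034 := rfl
def n2035 : Q := act 0 n866
theorem D2035 : act 0 n866 = n2035 := rfl
def n2036 : Q := act 4 n866
theorem D2036 : act 4 n866 = n2036 := rfl
theorem F1239 : act 1 n2036 = n868 := d6_1 D2036 (iv D868) (iv F457)
def n2037 : Q := act 2 n867
theorem D2037 : act 2 n867 = n2037 := rfl
def n2038 : Q := act 3 n867
theorem D2038 : act 3 n867 = n2038 := rfl
def n2039 : Q := act 2 n868
theorem D2039 : act 2 n868 = n2039 := rfl
def n2040 : Q := act 3 n868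
theorem D2040 : act 3 n868 = n2040 := rfl
def n2042 : Q := act 1 n870
theorem D2042 : act 1 n870 = n2042 := rfl
theorem F1242 : act 3 n2042 = n973 := d5_2 (iv F459) D2042 (iv D973)
def n2044 : Q := act 1 n871
theorem D2044 : act 1 n871 = n2044 := rfl
theorem F1243 : act 0 n2044 = n877 := d0_1 D2044 (iv D877) (iv D350) (iv D131) D130 D347 D871
def n2045 : Q := act 2 n871
theorem D2045 : act 2 n871 = n2045 := rfl
def n2046 : Q := act 3 n871
theorem D2046 : act 3 n871 = n2046 := rfl
def n2047 : Q := act 4 n871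
theorem D2047 : act 4 n871 = n2047 := rfl
theorem F1244 : act 0 n2047 = n874 := d3_1 D2047 (iv D874) D871
def n2048 : Q := act 0 n872
theorem D2048 : act 0 n872 = n2048 := rfl
def n2049 : Q := act 1 n872
theorem D2049 : act 1 n872 = n2049 := rfl
def n2050 : Q := act 3 n872
theorem D2050 : act 3 n872 = n2050 := rfl
theorem F1245 : act 2 n2050 = n873 := d7_1 D2050 (iv D873) D872
def n2051 : Q := act 4 n872
theorem D2051 : act 4 n872 = n2051 := rfl
def n2052 : Q := act 0 n873
theorem D2052 : act 0 n873 = n2052 := rfl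
def n2053 : Q := act 4 n873
theorem D2053 : act 4 n873 = n2053 := rfl
theorem F1246 : act 1 n2053 = n875 := d6_1 D2053 (iv D875) (iv F460)
def n2054 : Q := act 2 n874
theorem D2054 : act 2 n874 = n2054 := rfl
def n2055 : Q := act 3 n874
theorem D2055 : act 3 n874 = n2055 := rfl
theorem F1247 : act 1 n2055 = n876 := d5_1 D2055 (iv D876) (iv F461)
def n2056 : Q := act 2 n875
theorem D2056 : act 2 n875 = n2056 := rfl
def n2057 : Q := act 3 n875
theorem D2057 : act 3 n875 = n2057 := rfl
def n2058 : Q := act 4 n876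
theorem D2058 : act 4 n876 = n2058 := rfl
def n2059 : Q := act 2 n877
theorem D2059 : act 2 n877 = n2059 := rfl
theorem F1251 : act 4 n2059 = n1735 := d17_3 (iv D880) D877 D2059 (iv D1735) F378 F122 F41 D113 D311 F137 (iv F163) (iv F464)
def n2060 : Q := act 3 n877
theorem D2060 : act 3 n877 = n2060 := rfl
theorem F1252 : act 1 n2060 = n879 := d5_1 D2060 (iv D879) D877
def n2061 : Q := act 4 n877
theorem D2061 : act 4 n877 = n2061 := rfl
theorem F1253 : act 1 n2061 = n880 := d6_1 D2061 (iv D880) D877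
theorem F1254 : act 2 n2061 = n1732 := d8_1 D2061 (iv D1732) (iv D732) D734 D1735 (iv F1251) (iv D2059)
def n2062 : Q := act 0 n878
theorem D2062 : act 0 n878 = n2062 := rfl
def n2063 : Q := act 1 n878
theorem D2063 : act 1 n878 = n2063 := rfl
def n2064 : Q := act 3 n878
theorem D2064 : act 3 n878 = n2064 := rfl
theorem F1255 : act 2 n2064 = n879 := d7_1 D2064 (iv D879) D878
def n2065 : Q := act 4 n878
theorem D2065 : act 4 n878 = n2065 := rfl
def n2066 : Q := act 0 n879
theorem D2066 : act 0 n879 = n2066 := rfl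
theorem F1256 : act 1 n2066 = n1113 := d16_9 D174 F76 (iv D81) F9 D45 D131 D350 D879 D2066 (iv D1113) F213 F75
def n2067 : Q := act 4 n879
theorem D2067 : act 4 n879 = n2067 := rfl
def n2068 : Q := act 2 n880
theorem D2068 : act 2 n880 = n2068 := rfl
def n2069 : Q := act 3 n880
theorem D2069 : act 3 n880 = n2069 := rfl
def n2070 : Q := act 1 n881
theorem D2070 : act 1 n881 = n2070 := rfl
def n2071 : Q := act 2 n881
theorem D2071 : act 2 n881 = n2071 := rfl
def n2072 : Q := act 3 n881
theorem D2072 : act 3 n881 = n2072 := rfl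
def n2073 : Q := act 4 n881
theorem D2073 : act 4 n881 = n2073 := rfl
theorem F1257 : act 0 n2073 = n883 := d3_1 D2073 (iv D883) D881
def n2074 : Q := act 0 n882
theorem D2074 : act 0 n882 = n2074 := rfl
def n2075 : Q := act 4 n882
theorem D2075 : act 4 n882 = n2075 := rfl
def n2076 : Q := act 2 n883
theorem D2076 : act 2 n883 = n2076 := rfl
def n2077 : Q := act 3 n883
theorem D2077 : act 3 n883 = n2077 := rfl
def n2078 : Q := act 1 n884
theorem D2078 : act 1 n884 = n2078 := rfl
def n2079 : Q := act 2 n884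
theorem D2079 : act 2 n884 = n2079 := rfl
def n2080 : Q := act 3 n884
theorem D2080 : act 3 n884 = n2080 := rfl
def n2081 : Q := act 4 n884
theorem D2081 : act 4 n884 = n2081 := rfl
theorem F1258 : act 0 n2081 = n885 := d3_1 D2081 (iv D885) D884
def n2082 : Q := act 2 n885
theorem D2082 : act 2 n885 = n2082 := rfl
def n2083 : Q := act 3 n885
theorem D2083 : act 3 n885 = n2083 := rfl
def n2084 : Q := act 0 n886
theorem D2084 : act 0 n886 = n2084 := rfl
def n2086 : Q := act 3 n886
theorem D2086 : act 3 n886 = n2086 := rfl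
def n2087 : Q := act 4 n886
theorem D2087 : act 4 n886 = n2087 := rfl
def n2090 : Q := act 0 n888
theorem D2090 : act 0 n888 = n2090 := rfl
def n2091 : Q := act 2 n888
theorem D2091 : act 2 n888 = n2091 := rfl
theorem F1262 : act 3 n2091 = n2026 := d7_2 (iv F468) D2091 (iv D2026)
def n2092 : Q := act 4 n888
theorem D2092 : act 4 n888 = n2092 := rfl
theorem F1263 : act 1 n2092 = n889 := d6_1 D2092 (iv D889) D888
def n2093 : Q := act 2 n889
theorem D2093 : act 2 n889 = n2093 := rfl
def n2094 : Q := act 3 n889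
theorem D2094 : act 3 n889 = n2094 := rfl
def n2097 : Q := act 4 n890
theorem D2097 : act 4 n890 = n2097 := rfl
theorem F1268 : act 2 n2097 = n896 := d8_1 D2097 (iv D896) (iv D357) (iv D134) (iv F56) D355 D890
def n2098 : Q := act 4 n891
theorem D2098 : act 4 n891 = n2098 := rfl
theorem F1269 : act 3 n2098 = n893 := d9_1 D2098 (iv D893) (iv D356) (iv D133) D132 D355 D891
def n2103 : Q := act 4 n894
theorem D2103 : act 4 n894 = n2103 := rfl
def n2105 : Q := act 2 n895
theorem D2105 : act 2 n895 = n2105 := rfl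
theorem F1274 : act 3 n2105 = n979 := d7_2 (iv F472) D2105 (iv D979)
def n2108 : Q := act 2 n897
theorem D2108 : act 2 n897 = n2108 := rfl
theorem F1276 : act 4 n2108 = n1509 := d11_1 D2108 (iv D1509) F305 D686 (iv F482) (iv D913) (iv F473)
theorem F1277 : act 1 n2108 = n1423 := d14_2 D897 D2108 F791 (iv D1023) (iv F521) F520 F322 F112 F37 D135 D358
theorem F1278 : act 0 n2108 = n913 := d15_1 D2108 (iv D913) (iv D364) (iv D138) (iv D48) (iv D15) F2 D15 D48 D138 D364 (iv F473)
theorem F1279 : act 0 n924 = n1027 := d13_7 (iv D2108) F473 (iv D364) (iv D138) D139 D368 D924 (iv D1027) D1026 F550 (iv F1278)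
theorem E60 : n1447 = n1147 := ((c0_4 D924 F1279 F551 D1147 (iv D1447) (iv D599) F101 D368)).symm
theorem F1280 : act 1 n1147 = n599 := (sb E60 (iv D1447))
def n2109 : Q := act 3 n897
theorem D2109 : act 3 n897 = n2109 := rfl
theorem F1281 : act 1 n2109 = n899 := d5_1 D2109 (iv D899) D897
def n2110 : Q := act 4 n897
theorem D2110 : act 4 n897 = n2110 := rfl
theorem F1282 : act 0 n2110 = n915 := d3_1 D2110 (iv D915) (iv F473)
theorem F1283 : act 1 n2110 = n900 := d6_1 D2110 (iv D900) D897
theorem F1284 : act 2 n2110 = n1506 := d8_1 D2110 (iv D1506) (iv D623) D625 D1509 (iv F1276) (iv D2108)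
def n2111 : Q := act 1 n898
theorem D2111 : act 1 n898 = n2111 := rfl
theorem F1285 : act 0 n2111 = n1143 := d0_1 D2111 (iv D1143) (iv D465) (iv D176) D175 D462 (iv F474)
theorem F1286 : act 2 n2111 = n1422 := d4_2 D898 D2111 (iv D1422) D1423 (iv F1277) (iv D2108) (iv D897)
def n2112 : Q := act 3 n898
theorem D2112 : act 3 n898 = n2112 := rfl
theorem F1287 : act 2 n2112 = n899 := d7_1 D2112 (iv D899) D898
def n2113 : Q := act 4 n898
theorem D2113 : act 4 n898 = n2113 := rfl
theorem F1288 : act 0 n2113 = n1140 := d3_1 D2113 (iv D1140) (iv F474)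
def n2114 : Q := act 0 n899
theorem D2114 : act 0 n899 = n2114 := rfl
def n2115 : Q := act 4 n899
theorem D2115 : act 4 n899 = n2115 := rfl
def n2116 : Q := act 2 n900
theorem D2116 : act 2 n900 = n2116 := rfl
def n2117 : Q := act 3 n900
theorem D2117 : act 3 n900 = n2117 := rfl
def n2118 : Q := act 1 n901
theorem D2118 : act 1 n901 = n2118 := rfl
theorem F1289 : act 2 n2118 = n1426 := d15_6 D596 D1439 (iv F801) (iv D902) D901 D2118 (iv D1426) (iv D590) (iv D228) (iv D82) D83 D231
def n2119 : Q := act 2 n901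
theorem D2119 : act 2 n901 = n2119 := rfl
theorem F1290 : act 0 n2119 = n1138 := d1_1 D2119 (iv D1138) (iv F474) (iv D898) (iv D358) D359 D901
theorem F1291 : act 1 n2119 = n2119 := d4_1 D2119 (iv D2119) D2118 F1289 F793 (iv F1289) (iv D2118)
def n2120 : Q := act 3 n901
theorem D2120 : act 3 n901 = n2120 := rfl
def n2121 : Q := act 4 n901
theorem D2121 : act 4 n901 = n2121 := rfl
theorem F1292 : act 0 n2121 = n904 := d3_1 D2121 (iv D904) D901
def n2122 : Q := act 3 n902
theorem D2122 : act 3 n902 = n2122 := rfl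
theorem F1293 : act 1 n2122 = n903 := d5_1 D2122 (iv D903) D902
def n2123 : Q := act 4 n902
theorem D2123 : act 4 n902 = n2123 := rfl
theorem F1294 : act 1 n2123 = n904 := d6_1 D2123 (iv D904) D902
def n2124 : Q := act 0 n903
theorem D2124 : act 0 n903 = n2124 := rfl
def n2125 : Q := act 4 n903
theorem D2125 : act 4 n903 = n2125 := rfl
def n2126 : Q := act 2 n904
theorem D2126 : act 2 n904 = n2126 := rfl
def n2127 : Q := act 3 n904
theorem D2127 : act 3 n904 = n2127 := rfl
def n2128 : Q := act 1 n905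
theorem D2128 : act 1 n905 = n2128 := rfl
def n2129 : Q := act 2 n905
theorem D2129 : act 2 n905 = n2129 := rfl
theorem F1295 : act 0 n2129 = n1139 := d10_3 D360 D905 D2129 (iv D1139) (iv F474) (iv D898) (iv D358)
def n2130 : Q := act 3 n905
theorem D2130 : act 3 n905 = n2130 := rfl
def n2131 : Q := act 4 n905
theorem D2131 : act 4 n905 = n2131 := rfl
theorem F1296 : act 0 n2131 = n906 := d3_1 D2131 (iv D906) D905
def n2132 : Q := act 2 n906
theorem D2132 : act 2 n906 = n2132 := rfl
def n2133 : Q := act 3 n906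
theorem D2133 : act 3 n906 = n2133 := rfl
theorem F1297 : act 1 n2133 = n910 := d5_1 D2133 (iv D910) (iv F477)
def n2134 : Q := act 0 n907
theorem D2134 : act 0 n907 = n2134 := rfl
def n2135 : Q := act 1 n907
theorem D2135 : act 1 n907 = n2135 := rfl
def n2136 : Q := act 3 n907
theorem D2136 : act 3 n907 = n2136 := rfl
theorem F1298 : act 2 n2136 = n908 := d7_1 D2136 (iv D908) D907
def n2137 : Q := act 4 n907
theorem D2137 : act 4 n907 = n2137 := rfl
def n2138 : Q := act 0 n908
theorem D2138 : act 0 n908 = n2138 := rfl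
def n2139 : Q := act 4 n908
theorem D2139 : act 4 n908 = n2139 := rfl
def n2142 : Q := act 4 n909
theorem D2142 : act 4 n909 = n2142 := rfl
def n2143 : Q := act 4 n910
theorem D2143 : act 4 n910 = n2143 := rfl
theorem F1302 : act 0 n2143 = n957 := d3_1 D2143 (iv D957) (iv F479)
def n2144 : Q := act 1 n911
theorem D2144 : act 1 n911 = n2144 := rfl
theorem F1304 : act 3 n2144 = n2024 := d5_2 (iv F481) D2144 F1235
def n2145 : Q := act 4 n911
theorem D2145 : act 4 n911 = n2145 := rfl
def n2147 : Q := act 3 n913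
theorem D2147 : act 3 n913 = n2147 := rfl
theorem F1306 : act 2 n2147 = n914 := d7_1 D2147 (iv D914) D913
def n2148 : Q := act 0 n914
theorem D2148 : act 0 n914 = n2148 := rfl
def n2149 : Q := act 4 n914
theorem D2149 : act 4 n914 = n2149 := rfl
theorem F1307 : act 1 n2149 = n921 := d6_1 D2149 (iv D921) (iv F483)
def n2150 : Q := act 3 n915
theorem D2150 : act 3 n915 = n2150 := rfl
theorem F1308 : act 1 n2150 = n923 := d5_1 D2150 (iv D923) (iv F484)
theorem F1309 : act 2 n2150 = n1625 := d7_1 D2150 (iv D1625) (iv F485)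
def n2151 : Q := act 1 n916
theorem D2151 : act 1 n916 = n2151 := rfl
theorem F1310 : act 0 n2151 = n1581 := d13_3 D365 D916 D2151 (iv D1581) F322 F112 F36 F37 (iv D47) D48 D138
theorem F1311 : act 2 n1043 = n2151 := d1_0 F1310 (iv D1581) F322 D665 (iv F665) (iv D1204) (iv F560)
def n2152 : Q := act 2 n916
theorem D2152 : act 2 n916 = n2152 := rfl
theorem F1312 : act 0 n2152 = n925 := d1_1 D2152 (iv D925) (iv D368) (iv D139) D138 D365 D916
theorem F1313 : act 1 n2152 = n1138 := d4_1 D2152 (iv D1138) (iv D462) (iv F198) (iv F561) F1311 (iv D2151)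
theorem F1314 : act 1 n925 = n925 := d15_11 (iv D2152) (iv D916) (iv D365) D364 (iv F473) (iv D897) D898 F474 D1138 (iv F1313) F1312 (iv F1312)
def n2153 : Q := act 3 n916
theorem D2153 : act 3 n916 = n2153 := rfl
theorem F1315 : act 0 n2153 = n933 := d10_1 D2153 (iv D933) (iv D371) (iv D140) D138 D365 D916
def n2154 : Q := act 4 n916
theorem D2154 : act 4 n916 = n2154 := rfl
theorem F1316 : act 0 n2154 = n919 := d3_1 D2154 (iv D919) D916
def n2155 : Q := act 0 n917
theorem D2155 : act 0 n917 = n2155 := rfl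
theorem F1317 : act 2 n2155 = n2155 := d13_4 (iv D2152) (iv D916) D917 D2155 (iv D2155) (iv D917) D916 D2152 F1312 F1314 (iv F1312)
theorem F1318 : act 1 n2155 = n1144 := d14_4 (iv D364) D365 D917 D2155 (iv D1144) D1143 (iv F1285) (iv D2111) (iv D898) D897 F473
def n2156 : Q := act 2 n917
theorem D2156 : act 2 n917 = n2156 := rfl
theorem F1319 : act 0 n2156 = n1440 := d15_7 (iv D1204) (iv F560) F1311 (iv D2151) (iv D916) D917 D2156 F802 (iv D1440) D1439 F800 (iv F665)
theorem F1320 : act 4 n2156 = n1648 := d17_9 (iv D691) D688 F342 D1043 F1311 (iv D2151) (iv D916) D917 D2156 (iv D1648) F355 (iv F350)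
def n2157 : Q := act 3 n917
theorem D2157 : act 3 n917 = n2157 := rfl
theorem F1321 : act 1 n2157 = n918 := d5_1 D2157 (iv D918) D917
def n2158 : Q := act 4 n917
theorem D2158 : act 4 n917 = n2158 := rfl
theorem F1322 : act 1 n2158 = n919 := d6_1 D2158 (iv D919) D917
theorem F1323 : act 2 n2158 = n1645 := d8_1 D2158 (iv D1645) (iv D693) D695 D1648 (iv F1320) (iv D2156)
def n2159 : Q := act 0 n918
theorem D2159 : act 0 n918 = n2159 := rfl
def n2160 : Q := act 4 n918
theorem D2160 : act 4 n918 = n2160 := rfl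
def n2161 : Q := act 2 n919
theorem D2161 : act 2 n919 = n2161 := rfl
theorem F1324 : act 0 n2161 = n930 := d11_3 D365 D919 D2161 (iv D930) (iv D370) (iv D139) D138
def n2162 : Q := act 3 n919
theorem D2162 : act 3 n919 = n2162 := rfl
def n2163 : Q := act 1 n920
theorem D2163 : act 1 n920 = n2163 := rfl
theorem F1325 : act 2 n2163 = n1112 := d16_10 F96 (iv D86) (iv D28) F4 D15 D48 D138 D366 D920 D2163 F610 F217
theorem F1326 : act 4 n1629 = n2147 := d17_3 D275 (iv F337) D1629 F1306 F483 D920 D2163 F1325 (iv D1112) (iv F357) (iv D700) (iv D274)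
theorem F1327 : act 2 n2149 = n1624 := d17_2 D921 (iv F1307) (iv D1624) F336 F118 D274 D700 F357 D1112 (iv F1325) (iv D2163) (iv D920)
theorem F1328 : act 3 n1163 = n2163 := d7_0 F1325 (iv F611) D1163
def n2164 : Q := act 2 n920
theorem D2164 : act 2 n920 = n2164 := rfl
theorem F1329 : act 0 n2164 = n926 := d10_3 D366 D920 D2164 (iv D926) (iv D368) (iv D139) D138
def n2165 : Q := act 3 n920
theorem D2165 : act 3 n920 = n2165 := rfl
theorem F1330 : act 0 n2165 = n934 := d2_1 D2165 (iv D934) (iv D371) (iv D140) D138 D366 D920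
theorem F1331 : act 1 n2165 = n1163 := d5_1 D2165 F1328 (iv D2163)
def n2166 : Q := act 4 n920
theorem D2166 : act 4 n920 = n2166 := rfl
theorem F1332 : act 0 n2166 = n921 := d3_1 D2166 (iv D921) D920
def n2167 : Q := act 2 n921
theorem D2167 : act 2 n921 = n2167 := rfl
def n2168 : Q := act 3 n921
theorem D2168 : act 3 n921 = n2168 := rfl
theorem F1333 : act 0 n2168 = n937 := d12_3 D366 D921 D2168 (iv D937) (iv D372) (iv D140) D138
def n2169 : Q := act 0 n922
theorem D2169 : act 0 n922 = n2169 := rfl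
def n2170 : Q := act 1 n922
theorem D2170 : act 1 n922 = n2170 := rfl
def n2171 : Q := act 3 n922
theorem D2171 : act 3 n922 = n2171 := rfl
theorem F1334 : act 2 n2171 = n923 := d7_1 D2171 (iv D923) D922
def n2172 : Q := act 4 n922
theorem D2172 : act 4 n922 = n2172 := rfl
def n2173 : Q := act 0 n923
theorem D2173 : act 0 n923 = n2173 := rfl
def n2174 : Q := act 4 n923
theorem D2174 : act 4 n923 = n2174 := rfl
def n2175 : Q := act 2 n924
theorem D2175 : act 2 n924 = n2175 := rfl
theorem F1335 : act 1 n2175 = n2175 := d4_1 D2175 (iv D2175) (iv D924) D925 F1314 (iv D925) D924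
theorem F1336 : act 4 n2175 = n1761 := d11_1 D2175 (iv D1761) D1760 F1036 (iv D1029) D1027 (iv F1279)
theorem F1337 : act 0 n2175 = n1427 := d14_3 D924 D2175 F1335 (iv D1427) (iv D590) (iv D228) (iv D82) D83 D232 F101 D368
def n2176 : Q := act 3 n924
theorem D2176 : act 3 n924 = n2176 := rfl
theorem F1338 : act 1 n2176 = n926 := d5_1 D2176 (iv D926) D924
def n2177 : Q := act 4 n924
theorem D2177 : act 4 n924 = n2177 := rfl
theorem F1339 : act 1 n2177 = n927 := d6_1 D2177 (iv D927) D924
def n2178 : Q := act 3 n925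
theorem D2178 : act 3 n925 = n2178 := rfl
theorem F1340 : act 1 n2178 = n2178 := d5_1 D2178 (iv D2178) F1314
theorem F1341 : act 2 n2178 = n926 := d7_1 D2178 (iv D926) D925
def n2179 : Q := act 4 n925
theorem D2179 : act 4 n925 = n2179 := rfl
theorem F1342 : act 1 n2179 = n2179 := d6_1 D2179 (iv D2179) F1314
theorem F1343 : act 2 n2179 = n938 := d11_2 D925 D2179 (iv D938) (iv D373) (iv D141) D139 D368
def n2180 : Q := act 4 n926
theorem D2180 : act 4 n926 = n2180 := rfl
def n2181 : Q := act 2 n927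
theorem D2181 : act 2 n927 = n2181 := rfl
def n2182 : Q := act 3 n927
theorem D2182 : act 3 n927 = n2182 := rfl
def n2183 : Q := act 1 n928
theorem D2183 : act 1 n928 = n2183 := rfl
def n2184 : Q := act 2 n928
theorem D2184 : act 2 n928 = n2184 := rfl
def n2185 : Q := act 3 n928
theorem D2185 : act 3 n928 = n2185 := rfl
def n2186 : Q := act 4 n928
theorem D2186 : act 4 n928 = n2186 := rfl
theorem F1344 : act 0 n2186 = n929 := d3_1 D2186 (iv D929) D928
def n2187 : Q := act 2 n929
theorem D2187 : act 2 n929 = n2187 := rfl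
def n2188 : Q := act 3 n929
theorem D2188 : act 3 n929 = n2188 := rfl
def n2189 : Q := act 1 n930
theorem D2189 : act 1 n930 = n2189 := rfl
def n2190 : Q := act 3 n930
theorem D2190 : act 3 n930 = n2190 := rfl
theorem F1345 : act 2 n2190 = n931 := d7_1 D2190 (iv D931) D930
def n2191 : Q := act 4 n930
theorem D2191 : act 4 n930 = n2191 := rfl
theorem F1346 : act 2 n2191 = n941 := d8_1 D2191 (iv D941) (iv D373) (iv D141) D139 D370 D930
def n2192 : Q := act 0 n931
theorem D2192 : act 0 n931 = n2192 := rfl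
def n2193 : Q := act 4 n931
theorem D2193 : act 4 n931 = n2193 := rfl
def n2194 : Q := act 0 n932
theorem D2194 : act 0 n932 = n2194 := rfl
theorem F1347 : act 1 n2194 = n944 := d0_2 D932 D2194 (iv D944) (iv D375) (iv D142) (iv F60) D371
def n2195 : Q := act 2 n932
theorem D2195 : act 2 n932 = n2195 := rfl
def n2196 : Q := act 3 n932
theorem D2196 : act 3 n932 = n2196 := rfl
theorem F1348 : act 1 n2196 = n934 := d5_1 D2196 (iv D934) D932
def n2197 : Q := act 4 n932
theorem D2197 : act 4 n932 = n2197 := rfl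
theorem F1349 : act 1 n2197 = n935 := d6_1 D2197 (iv D935) D932
def n2198 : Q := act 1 n933
theorem D2198 : act 1 n933 = n2198 := rfl
def n2199 : Q := act 3 n933
theorem D2199 : act 3 n933 = n2199 := rfl
theorem F1350 : act 2 n2199 = n934 := d7_1 D2199 (iv D934) D933
def n2200 : Q := act 4 n933
theorem D2200 : act 4 n933 = n2200 := rfl
def n2201 : Q := act 4 n934
theorem D2201 : act 4 n934 = n2201 := rfl
theorem F1351 : act 3 n2201 = n942 := d12_2 D934 D2201 (iv D942) (iv D374) (iv D141) D140 D371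
def n2202 : Q := act 2 n935
theorem D2202 : act 2 n935 = n2202 := rfl
def n2203 : Q := act 3 n935
theorem D2203 : act 3 n935 = n2203 := rfl
def n2204 : Q := act 0 n936
theorem D2204 : act 0 n936 = n2204 := rfl
def n2205 : Q := act 1 n936
theorem D2205 : act 1 n936 = n2205 := rfl
def n2206 : Q := act 3 n936
theorem D2206 : act 3 n936 = n2206 := rfl
theorem F1352 : act 2 n2206 = n937 := d7_1 D2206 (iv D937) D936
def n2207 : Q := act 4 n936
theorem D2207 : act 4 n936 = n2207 := rfl
def n2208 : Q := act 4 n937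
theorem D2208 : act 4 n937 = n2208 := rfl
theorem F1354 : act 3 n2208 = n943 := d9_1 D2208 (iv D943) (iv D374) (iv D141) D140 D372 D937
def n2209 : Q := act 1 n938
theorem D2209 : act 1 n938 = n2209 := rfl
theorem F1355 : act 0 n2209 = n997 := d13_3 D373 D938 D2209 (iv D997) (iv F525) F526 (iv F832) (iv F1284) F1282 F484 F168
theorem F1356 : act 2 n1689 = n2209 := d11_2 D712 D1689 F1355 (iv D997) (iv D399) D397 (iv F302)
theorem F1357 : act 1 n1885 = n1186 := d14_8 F991 F1356 (iv D2209) (iv D938) D939 (iv F1122) (iv D1886) D1885 (iv D1186) (iv F656) (iv F990)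
theorem E61 : n1886 = n1256 := (c17_9 (iv D281) D278 D712 D1689 F1356 (iv D2209) (iv D938) D939 (iv F1122) (iv D1256) (iv D516) F86 (iv F121))
theorem F1358 : act 1 n1256 = n801 := (sb E61 (iv D1886))
theorem E62 : n939 = n527 := (((F709).symm.trans (sb E61 F1122))).symm
theorem E63 : n1279 = n373 := (((iv F724)).symm.trans (sb E62 (iv D939)))
theorem F1359 : act 1 n373 = n527 := (sb E63 F724)
theorem E64 : n941 = n525 := ((D941).symm.trans (sb E63 (iv D1279)))
theorem E65 : n2191 = n1277 := (((D1277).symm.trans (sb E64 (iv F1346)))).symm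
theorem F1360 : act 4 n525 = n373 := (sb E64 (iv D941))
theorem F1361 : act 4 n1277 = n930 := (sb E65 (iv D2191))
theorem F1362 : act 4 n1276 = n938 := d17_0 D2209 (iv F1356) (iv D1689) (iv D712) (iv D278) (iv D102) (iv F26) (iv D69) D71 D200 D525 D1276
theorem E66 : n2189 = n1323 := (c6_2 F1361 D2189 (iv D1323) (iv F722))
theorem F1363 : act 1 n1323 = n930 := (sb E66 (iv D2189))
theorem F1364 : act 1 n2126 = n1321 := d17_11 D1323 F1363 (iv D930) (iv D370) (iv D139) (iv D48) D47 D135 D359 D904 D2126 (iv D1321)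
theorem F1365 : act 1 n1282 = n940 := d5_3 (iv D940) F1359 D1282
theorem E67 : n1888 = n1254 := (c6_3 D1256 F1358 D1888 (iv D1254))
theorem F1366 : act 4 n1254 = n801 := (sb E67 (iv D1888))
def n2210 : Q := act 3 n938
theorem D2210 : act 3 n938 = n2210 := rfl
def n2212 : Q := act 4 n940
theorem D2212 : act 4 n940 = n2212 := rfl
def n2217 : Q := act 2 n944
theorem D2217 : act 2 n944 = n2217 := rfl
def n2218 : Q := act 3 n944
theorem D2218 : act 3 n944 = n2218 := rfl
def n2219 : Q := act 4 n944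
theorem D2219 : act 4 n944 = n2219 := rfl
theorem F1368 : act 0 n2219 = n947 := d3_1 D2219 (iv D947) D944
def n2220 : Q := act 0 n945
theorem D2220 : act 0 n945 = n2220 := rfl
def n2221 : Q := act 1 n945
theorem D2221 : act 1 n945 = n2221 := rfl
def n2222 : Q := act 3 n945
theorem D2222 : act 3 n945 = n2222 := rfl
theorem F1369 : act 2 n2222 = n946 := d7_1 D2222 (iv D946) D945
def n2223 : Q := act 4 n945
theorem D2223 : act 4 n945 = n2223 := rfl
def n2224 : Q := act 0 n946
theorem D2224 : act 0 n946 = n2224 := rfl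
def n2225 : Q := act 4 n946
theorem D2225 : act 4 n946 = n2225 := rfl
theorem F1370 : act 1 n2225 = n950 := d6_1 D2225 (iv D950) (iv F492)
theorem F1371 : act 3 n958 = n2225 := d5_0 F1370 F497 D958
def n2226 : Q := act 2 n947
theorem D2226 : act 2 n947 = n2226 := rfl
def n2227 : Q := act 3 n947
theorem D2227 : act 3 n947 = n2227 := rfl
theorem F1372 : act 1 n2227 = n952 := d5_1 D2227 (iv D952) (iv F493)
def n2228 : Q := act 0 n948
theorem D2228 : act 0 n948 = n2228 := rfl
def n2229 : Q := act 2 n948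
theorem D2229 : act 2 n948 = n2229 := rfl
def n2230 : Q := act 4 n948
theorem D2230 : act 4 n948 = n2230 := rfl
theorem F1373 : act 1 n2230 = n949 := d6_1 D2230 (iv D949) D948
def n2233 : Q := act 4 n951
theorem D2233 : act 4 n951 = n2233 := rfl
theorem F1377 : act 2 n2233 = n977 := d8_1 D2233 (iv D977) (iv F495) (iv D949) (iv D376) D378 D951
def n2234 : Q := act 4 n952
theorem D2234 : act 4 n952 = n2234 := rfl
theorem F1378 : act 3 n2234 = n960 := d9_1 D2234 (iv D960) (iv F497) (iv D950) (iv D377) D378 D952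
def n2236 : Q := act 3 n953
theorem D2236 : act 3 n953 = n2236 := rfl
theorem F1380 : act 2 n2236 = n971 := d7_1 D2236 (iv D971) (iv F499)
def n2237 : Q := act 4 n953
theorem D2237 : act 4 n953 = n2237 := rfl
theorem F1381 : act 0 n2237 = n956 := d3_1 D2237 (iv D956) D953
def n2254 : Q := act 0 n962
theorem D2254 : act 0 n962 = n2254 := rfl
def n2255 : Q := act 1 n962
theorem D2255 : act 1 n962 = n2255 := rfl
def n2256 : Q := act 4 n962
theorem D2256 : act 4 n962 = n2256 := rfl
def n2257 : Q := act 2 n963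
theorem D2257 : act 2 n963 = n2257 := rfl
def n2258 : Q := act 1 n964
theorem D2258 : act 1 n964 = n2258 := rfl
def n2259 : Q := act 2 n964
theorem D2259 : act 2 n964 = n2259 := rfl
def n2260 : Q := act 3 n964
theorem D2260 : act 3 n964 = n2260 := rfl
def n2261 : Q := act 4 n964
theorem D2261 : act 4 n964 = n2261 := rfl
theorem F1394 : act 0 n2261 = n966 := d3_1 D2261 (iv D966) D964
def n2262 : Q := act 2 n965
theorem D2262 : act 2 n965 = n2262 := rfl
theorem F1395 : act 1 n2262 = n969 := d4_1 D2262 (iv D969) (iv D386) (iv D146) D145 D384 D965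
def n2263 : Q := act 4 n965
theorem D2263 : act 4 n965 = n2263 := rfl
theorem F1396 : act 1 n2263 = n966 := d6_1 D2263 (iv D966) D965
def n2264 : Q := act 2 n966
theorem D2264 : act 2 n966 = n2264 := rfl
def n2265 : Q := act 3 n966
theorem D2265 : act 3 n966 = n2265 := rfl
def n2266 : Q := act 0 n967
theorem D2266 : act 0 n967 = n2266 := rfl
def n2267 : Q := act 1 n967
theorem D2267 : act 1 n967 = n2267 := rfl
def n2268 : Q := act 4 n967
theorem D2268 : act 4 n967 = n2268 := rfl
def n2269 : Q := act 1 n968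
theorem D2269 : act 1 n968 = n2269 := rfl
theorem F1397 : act 0 n2269 = n2128 := d0_1 D2269 (iv D2128) (iv D905) F166 (iv F62) D386 D968
def n2270 : Q := act 2 n968
theorem D2270 : act 2 n968 = n2270 := rfl
def n2271 : Q := act 3 n968
theorem D2271 : act 3 n968 = n2271 := rfl
def n2272 : Q := act 4 n968
theorem D2272 : act 4 n968 = n2272 := rfl
theorem F1398 : act 0 n2272 = n970 := d3_1 D2272 (iv D970) D968
def n2273 : Q := act 0 n969
theorem D2273 : act 0 n969 = n2273 := rfl
def n2274 : Q := act 4 n969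
theorem D2274 : act 4 n969 = n2274 := rfl
def n2275 : Q := act 2 n970
theorem D2275 : act 2 n970 = n2275 := rfl
def n2276 : Q := act 3 n970
theorem D2276 : act 3 n970 = n2276 := rfl
theorem F1399 : act 1 n2276 = n971 := d5_1 D2276 (iv D971) (iv F507)
def n2277 : Q := act 4 n971
theorem D2277 : act 4 n971 = n2277 := rfl
theorem F1401 : act 3 n2277 = n2145 := d9_1 D2277 (iv D2145) F481 (iv D861) F155 D387 D971
def n2279 : Q := act 4 n972
theorem D2279 : act 4 n972 = n2279 := rfl
theorem F1404 : act 2 n2279 = n2142 := d8_1 D2279 (iv D2142) (iv D909) (iv D362) (iv F113) D668 (iv F509)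
def n2280 : Q := act 0 n973
theorem D2280 : act 0 n973 = n2280 := rfl
def n2281 : Q := act 2 n973
theorem D2281 : act 2 n973 = n2281 := rfl
def n2282 : Q := act 4 n973
theorem D2282 : act 4 n973 = n2282 := rfl
def n2288 : Q := act 4 n976
theorem D2288 : act 4 n976 = n2288 := rfl
def n2295 : Q := act 4 n979
theorem D2295 : act 4 n979 = n2295 := rfl
def n2300 : Q := act 1 n982
theorem D2300 : act 1 n982 = n2300 := rfl
theorem F1413 : act 0 n2300 = n1062 := d0_1 D2300 F579 F347 (iv D247) D246 D633 (iv F514)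
theorem F1414 : act 2 n2300 = n1055 := d4_2 D982 D2300 F577 (iv D657) (iv F178) (iv D393) D392
def n2301 : Q := act 3 n982
theorem D2301 : act 3 n982 = n2301 := rfl
theorem F1415 : act 2 n2301 = n983 := d7_1 D2301 (iv D983) D982
def n2302 : Q := act 4 n982
theorem D2302 : act 4 n982 = n2302 := rfl
theorem F1416 : act 0 n2302 = n1530 := d3_1 D2302 (iv D1530) (iv F514)
def n2303 : Q := act 4 n983
theorem D2303 : act 4 n983 = n2303 := rfl
theorem F1417 : act 1 n2303 = n987 := d6_1 D2303 (iv D987) (iv F515)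
def n2304 : Q := act 2 n984
theorem D2304 : act 2 n984 = n2304 := rfl
def n2305 : Q := act 3 n984
theorem D2305 : act 3 n984 = n2305 := rfl
theorem F1418 : act 1 n2305 = n989 := d5_1 D2305 (iv D989) (iv F516)
def n2306 : Q := act 4 n985
theorem D2306 : act 4 n985 = n2306 := rfl
theorem F1419 : act 1 n2306 = n1580 := d6_1 D2306 (iv D1580) (iv F517)
def n2307 : Q := act 3 n986
theorem D2307 : act 3 n986 = n2307 := rfl
theorem F1420 : act 1 n2307 = n1582 := d5_1 D2307 (iv D1582) (iv F520)
theorem F1421 : act 2 n2307 = n1024 := d7_1 D2307 (iv D1024) (iv F521)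
def n2308 : Q := act 2 n987
theorem D2308 : act 2 n987 = n2308 := rfl
def n2309 : Q := act 3 n987
theorem D2309 : act 3 n987 = n2309 := rfl
theorem F1422 : act 0 n2309 = n1004 := d12_3 D394 D987 D2309 (iv D1004) (iv D401) (iv D151) D149
def n2310 : Q := act 3 n988
theorem D2310 : act 3 n988 = n2310 := rfl
theorem F1423 : act 2 n2310 = n989 := d7_1 D2310 (iv D989) D988
def n2311 : Q := act 0 n989
theorem D2311 : act 0 n989 = n2311 := rfl
def n2312 : Q := act 4 n989
theorem D2312 : act 4 n989 = n2312 := rfl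
def n2313 : Q := act 3 n990
theorem D2313 : act 3 n990 = n2313 := rfl
theorem F1424 : act 1 n2313 = n1644 := d5_1 D2313 (iv D1644) (iv F523)
theorem F1425 : act 2 n2313 = n991 := d7_1 D2313 (iv D991) D990
def n2314 : Q := act 4 n990
theorem D2314 : act 4 n990 = n2314 := rfl
theorem F1426 : act 1 n2314 = n1645 := d6_1 D2314 (iv D1645) (iv F523)
def n2315 : Q := act 4 n991
theorem D2315 : act 4 n991 = n2315 := rfl
theorem F1427 : act 1 n2315 = n1624 := d6_1 D2315 (iv D1624) (iv F524)
def n2316 : Q := act 2 n992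
theorem D2316 : act 2 n992 = n2316 := rfl
def n2317 : Q := act 3 n992
theorem D2317 : act 3 n992 = n2317 := rfl
theorem F1428 : act 1 n2317 = n1625 := d5_1 D2317 (iv D1625) (iv F526)
def n2318 : Q := act 0 n993
theorem D2318 : act 0 n993 = n2318 := rfl
theorem F1429 : act 3 n2318 = n2004 := d2_2 D993 D2318 F1221 (iv F993) (iv D1690) (iv D713) F302
theorem F1430 : act 1 n2005 = n2318 := d5_3 F1429 (iv D2004) D2005
def n2319 : Q := act 4 n993
theorem D2319 : act 4 n993 = n2319 := rfl
theorem F1431 : act 1 n2319 = n1066 := d6_1 D2319 (iv D1066) (iv F527)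
def n2320 : Q := act 2 n994
theorem D2320 : act 2 n994 = n2320 := rfl
def n2321 : Q := act 3 n994
theorem D2321 : act 3 n994 = n2321 := rfl
theorem F1432 : act 1 n2321 = n1068 := d5_1 D2321 (iv D1068) (iv F530)
def n2322 : Q := act 2 n995
theorem D2322 : act 2 n995 = n2322 := rfl
def n2323 : Q := act 4 n995
theorem D2323 : act 4 n995 = n2323 := rfl
theorem F1433 : act 0 n2323 = n996 := d3_1 D2323 (iv D996) D995
def n2324 : Q := act 2 n996
theorem D2324 : act 2 n996 = n2324 := rfl
def n2325 : Q := act 3 n996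
theorem D2325 : act 3 n996 = n2325 := rfl
theorem F1434 : act 1 n2325 = n1004 := d5_1 D2325 (iv D1004) (iv F531)
def n2326 : Q := act 1 n997
theorem D2326 : act 1 n997 = n2326 := rfl
def n2327 : Q := act 3 n997
theorem D2327 : act 3 n997 = n2327 := rfl
theorem F1435 : act 2 n2327 = n998 := d7_1 D2327 (iv D998) D997
def n2328 : Q := act 4 n997
theorem D2328 : act 4 n997 = n2328 := rfl
theorem F1436 : act 1 n2328 = n1152 := d17_1 D2328 (iv D1152) (iv D468) D466 (iv F551) (iv F1279) (iv D924) D925 D2179 F1343 D2209 F1355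
theorem F1437 : act 4 n2326 = n1152 := d6_2 (iv D2328) D2326 (iv F1436)
theorem F1438 : act 0 n1273 = n1152 := d17_12 (iv F1437) (iv D2326) (iv D997) (iv D399) D397 F181 D429 F303 D511 D1244 F703 D1273
def n2329 : Q := act 0 n998
theorem D2329 : act 0 n998 = n2329 := rfl
def n2330 : Q := act 4 n998
theorem D2330 : act 4 n998 = n2330 := rfl
theorem F1439 : act 1 n2330 = n1007 := d6_1 D2330 (iv D1007) (iv F532)
def n2331 : Q := act 0 n999
theorem D2331 : act 0 n999 = n2331 := rfl
def n2332 : Q := act 2 n999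
theorem D2332 : act 2 n999 = n2332 := rfl
def n2333 : Q := act 3 n999
theorem D2333 : act 3 n999 = n2333 := rfl
theorem F1440 : act 1 n2333 = n1001 := d5_1 D2333 (iv D1001) D999
def n2334 : Q := act 4 n999
theorem D2334 : act 4 n999 = n2334 := rfl
theorem F1441 : act 1 n2334 = n1002 := d6_1 D2334 (iv D1002) D999
def n2335 : Q := act 1 n1000
theorem D2335 : act 1 n1000 = n2335 := rfl
def n2336 : Q := act 3 n1000
theorem D2336 : act 3 n1000 = n2336 := rfl
theorem F1442 : act 0 n2336 = n2336 := d2_1 D2336 (iv D2336) F533 (iv D985) F177 D985 (iv F533)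
theorem F1443 : act 2 n2336 = n1001 := d7_1 D2336 (iv D1001) D1000
def n2337 : Q := act 4 n1000
theorem D2337 : act 4 n1000 = n2337 := rfl
theorem F1444 : act 0 n2337 = n2306 := d3_1 D2337 (iv D2306) (iv F533)
theorem F1445 : act 2 n2337 = n1018 := d11_2 D1000 D2337 (iv D1018) (iv D408) (iv D154) (iv F64) D400
def n2338 : Q := act 4 n1001
theorem D2338 : act 4 n1001 = n2338 := rfl
theorem F1446 : act 3 n2338 = n1006 := d12_2 D1001 D2338 (iv D1006) (iv D403) (iv D152) D151 D400
def n2339 : Q := act 2 n1002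
theorem D2339 : act 2 n1002 = n2339 := rfl
theorem F1447 : act 0 n2339 = n2308 := d11_3 (iv D1000) D1002 D2339 (iv D2308) (iv D987) (iv F518) (iv F533)
def n2340 : Q := act 3 n1002
theorem D2340 : act 3 n1002 = n2340 := rfl
def n2341 : Q := act 0 n1003
theorem D2341 : act 0 n1003 = n2341 := rfl
theorem F1448 : act 2 n2341 = n1014 := d1_2 D1003 D2341 F541 D2308 (iv F1447) (iv D2339) F534
def n2342 : Q := act 1 n1003
theorem D2342 : act 1 n1003 = n2342 := rfl
def n2343 : Q := act 3 n1003
theorem D2343 : act 3 n1003 = n2343 := rfl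
theorem F1449 : act 2 n2343 = n1004 := d7_1 D2343 (iv D1004) D1003
theorem F1450 : act 0 n2343 = n2343 := d10_1 D2343 F1449 (iv F1422) (iv D2309) (iv F541) (iv F1448) (iv D2341)
def n2344 : Q := act 4 n1003
theorem D2344 : act 4 n1003 = n2344 := rfl
theorem F1451 : act 2 n2344 = n1021 := d8_1 D2344 (iv D1021) (iv D408) (iv D154) (iv F64) D401 D1003
def n2345 : Q := act 4 n1004
theorem D2345 : act 4 n1004 = n2345 := rfl
theorem F1452 : act 3 n2345 = n1007 := d9_1 D2345 (iv D1007) (iv D403) (iv D152) D151 D401 D1004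
def n2346 : Q := act 0 n1005
theorem D2346 : act 0 n1005 = n2346 := rfl
theorem F1453 : act 2 n2346 = n2311 := d10_2 D1005 D2346 (iv D2311) (iv D989) F179 D402 F184
def n2347 : Q := act 4 n1005
theorem D2347 : act 4 n1005 = n2347 := rfl
def n2348 : Q := act 1 n1006
theorem D2348 : act 1 n1006 = n2348 := rfl
def n2349 : Q := act 2 n1006
theorem D2349 : act 2 n1006 = n2349 := rfl
theorem F1454 : act 0 n2349 = n2310 := d1_1 D2349 F1423 D2311 (iv F1453) (iv D2346) F535 D1006
def n2350 : Q := act 4 n1006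
theorem D2350 : act 4 n1006 = n2350 := rfl
theorem F1455 : act 0 n2350 = n1007 := d3_1 D2350 (iv D1007) D1006
def n2351 : Q := act 2 n1007
theorem D2351 : act 2 n1007 = n2351 := rfl
def n2352 : Q := act 2 n1008
theorem D2352 : act 2 n1008 = n2352 := rfl
def n2353 : Q := act 3 n1008
theorem D2353 : act 3 n1008 = n2353 := rfl
theorem F1456 : act 1 n2353 = n1107 := d5_1 D2353 (iv D1107) (iv F536)
def n2354 : Q := act 4 n1008
theorem D2354 : act 4 n1008 = n2354 := rfl
theorem F1457 : act 0 n2354 = n1011 := d3_1 D2354 (iv D1011) D1008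
theorem F1458 : act 1 n2354 = n1108 := d6_1 D2354 (iv D1108) (iv F536)
def n2355 : Q := act 0 n1009
theorem D2355 : act 0 n1009 = n2355 := rfl
def n2356 : Q := act 1 n1009
theorem D2356 : act 1 n1009 = n2356 := rfl
theorem F1459 : act 0 n2356 = n1071 := d16_6 D406 F186 (iv D406) D404 D1009 D2356 (iv D1071) (iv D432) F70 F24 (iv F21) D153
theorem F1460 : act 3 n1058 = n2356 := d16_2 D427 D1058 (iv D2356) (iv D1009) (iv D404) (iv D153) (iv D54) F6 (iv D17) D18 D57 D161
def n2357 : Q := act 3 n1009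
theorem D2357 : act 3 n1009 = n2357 := rfl
theorem F1461 : act 1 n2357 = n1058 := d5_1 D2357 F1460 (iv D2356)
theorem F1462 : act 2 n2357 = n1010 := d7_1 D2357 (iv D1010) D1009
def n2358 : Q := act 4 n1009
theorem D2358 : act 4 n1009 = n2358 := rfl
def n2360 : Q := act 4 n1010
theorem D2360 : act 4 n1010 = n2360 := rfl
theorem F1463 : act 1 n2360 = n1015 := d6_1 D2360 (iv D1015) (iv F537)
theorem F1464 : act 3 n1033 = n2360 := d5_0 F1463 F543 D1033
def n2361 : Q := act 2 n1011
theorem D2361 : act 2 n1011 = n2361 := rfl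
def n2362 : Q := act 3 n1011
theorem D2362 : act 3 n1011 = n2362 := rfl
theorem F1465 : act 1 n2362 = n1017 := d5_1 D2362 (iv D1017) (iv F538)
def n2363 : Q := act 0 n1012
theorem D2363 : act 0 n1012 = n2363 := rfl
def n2364 : Q := act 2 n1012
theorem D2364 : act 2 n1012 = n2364 := rfl
def n2365 : Q := act 3 n1012
theorem D2365 : act 3 n1012 = n2365 := rfl
theorem F1466 : act 1 n2365 = n1013 := d5_1 D2365 (iv D1013) D1012
def n2366 : Q := act 4 n1012
theorem D2366 : act 4 n1012 = n2366 := rfl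
theorem F1467 : act 1 n2366 = n1014 := d6_1 D2366 (iv D1014) D1012
def n2367 : Q := act 4 n1013
theorem D2367 : act 4 n1013 = n2367 := rfl
theorem F1468 : act 0 n2367 = n2338 := d3_1 D2367 (iv D2338) (iv F539)
theorem F1469 : act 3 n2367 = n2311 := d12_2 D1013 D2367 (iv D2311) (iv D989) (iv D395) D394 (iv F185)
def n2368 : Q := act 3 n1014
theorem D2368 : act 3 n1014 = n2368 := rfl
theorem F1470 : act 0 n2368 = n2340 := d2_1 D2368 (iv D2340) F534 D1004 (iv F1422) (iv D2309) (iv F541)
def n2369 : Q := act 2 n1015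
theorem D2369 : act 2 n1015 = n2369 := rfl
theorem F1471 : act 3 n2369 = n1034 := d7_2 (iv F543) D2369 (iv D1034)
def n2370 : Q := act 0 n1016
theorem D2370 : act 0 n1016 = n2370 := rfl
theorem F1472 : act 2 n2370 = n2306 := d1_2 D1016 D2370 (iv F1444) F1445 (iv D1018) (iv D408) (iv F187)
def n2371 : Q := act 1 n1016
theorem D2371 : act 1 n1016 = n2371 := rfl
def n2372 : Q := act 3 n1016
theorem D2372 : act 3 n1016 = n2372 := rfl
theorem F1473 : act 2 n2372 = n1017 := d7_1 D2372 (iv D1017) D1016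
def n2373 : Q := act 4 n1016
theorem D2373 : act 4 n1016 = n2373 := rfl
def n2374 : Q := act 4 n1017
theorem D2374 : act 4 n1017 = n2374 := rfl
theorem F1474 : act 0 n2374 = n2374 := d3_1 D2374 (iv D2374) F544
theorem F1475 : act 3 n2374 = n1035 := d9_1 D2374 (iv D1035) (iv F543) (iv D1015) (iv D406) D407 D1017
def n2375 : Q := act 1 n1018
theorem D2375 : act 1 n1018 = n2375 := rfl
def n2376 : Q := act 3 n1018
theorem D2376 : act 3 n1018 = n2376 := rfl
theorem F1476 : act 0 n2376 = n2372 := d10_1 D2376 F1473 F544 (iv D1017) F187 D408 D1018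
def n2377 : Q := act 4 n1018
theorem D2377 : act 4 n1018 = n2377 := rfl
theorem F1477 : act 0 n2377 = n1021 := d3_1 D2377 (iv D1021) D1018
def n2378 : Q := act 0 n1019
theorem D2378 : act 0 n1019 = n2378 := rfl
def n2379 : Q := act 2 n1019
theorem D2379 : act 2 n1019 = n2379 := rfl
theorem F1478 : act 1 n2379 = n1131 := d4_1 D2379 (iv D1131) (iv D458) (iv D173) (iv F65) D408 D1019
def n2380 : Q := act 3 n1019
theorem D2380 : act 3 n1019 = n2380 := rfl
theorem F1479 : act 1 n2380 = n1020 := d5_1 D2380 (iv D1020) D1019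
def n2381 : Q := act 4 n1019
theorem D2381 : act 4 n1019 = n2381 := rfl
theorem F1480 : act 1 n2381 = n1021 := d6_1 D2381 (iv D1021) D1019
def n2382 : Q := act 0 n1020
theorem D2382 : act 0 n1020 = n2382 := rfl
theorem F1481 : act 3 n2382 = n2370 := d2_2 D1020 D2382 (iv D2370) D2372 (iv F1476) (iv D2376) (iv D1018)
def n2383 : Q := act 4 n1020
theorem D2383 : act 4 n1020 = n2383 := rfl
def n2384 : Q := act 3 n1021
theorem D2384 : act 3 n1021 = n2384 := rfl
def n2385 : Q := act 2 n1022
theorem D2385 : act 2 n1022 = n2385 := rfl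
theorem F1482 : act 3 n2385 = n1036 := d7_2 (iv F548) D2385 (iv D1036)
def n2386 : Q := act 2 n1023
theorem D2386 : act 2 n1023 = n2386 := rfl
theorem F1483 : act 0 n2386 = n2118 := d1_1 D2386 F1289 (iv D1426) (iv D590) D589 D1423 F791
def n2387 : Q := act 3 n1023
theorem D2387 : act 3 n1023 = n2387 := rfl
theorem F1484 : act 1 n2387 = n1024 := d5_1 D2387 (iv D1024) D1023
def n2388 : Q := act 4 n1023
theorem D2388 : act 4 n1023 = n2388 := rfl
theorem F1485 : act 1 n2388 = n1025 := d6_1 D2388 (iv D1025) D1023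
def n2389 : Q := act 4 n1024
theorem D2389 : act 4 n1024 = n2389 := rfl
def n2390 : Q := act 3 n1025
theorem D2390 : act 3 n1025 = n2390 := rfl
def n2391 : Q := act 2 n1026
theorem D2391 : act 2 n1026 = n2391 := rfl
theorem F1486 : act 1 n2391 = n2156 := d4_1 D2391 (iv D2156) (iv D917) (iv D365) D364 D913 (iv F550)
def n2392 : Q := act 3 n1026
theorem D2392 : act 3 n1026 = n2392 := rfl
theorem F1487 : act 1 n2392 = n2147 := d5_1 D2392 (iv D2147) (iv F550)
def n2393 : Q := act 3 n1027
theorem D2393 : act 3 n1027 = n2393 := rfl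
theorem F1488 : act 1 n2393 = n1148 := d5_1 D2393 (iv D1148) (iv F551)
theorem F1489 : act 2 n2393 = n1028 := d7_1 D2393 (iv D1028) D1027
def n2394 : Q := act 4 n1027
theorem D2394 : act 4 n1027 = n2394 := rfl
theorem F1490 : act 0 n2394 = n2177 := d3_1 D2394 (iv D2177) F1279
theorem F1491 : act 1 n2394 = n1149 := d6_1 D2394 (iv D1149) (iv F551)
def n2395 : Q := act 0 n1028
theorem D2395 : act 0 n1028 = n2395 := rfl
def n2396 : Q := act 4 n1028
theorem D2396 : act 4 n1028 = n2396 := rfl
theorem F1492 : act 1 n2396 = n1031 := d6_1 D2396 (iv D1031) (iv F552)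
def n2397 : Q := act 3 n1029
theorem D2397 : act 3 n1029 = n2397 := rfl
theorem F1493 : act 1 n2397 = n1032 := d5_1 D2397 (iv D1032) (iv F553)
def n2398 : Q := act 1 n1030
theorem D2398 : act 1 n1030 = n2398 := rfl
def n2399 : Q := act 2 n1030
theorem D2399 : act 2 n1030 = n2399 := rfl
theorem F1494 : act 0 n2399 = n2307 := d1_1 D2399 F1421 (iv F554) (iv D1034) (iv D414) (iv F190) D1030
def n2400 : Q := act 3 n1030
theorem D2400 : act 3 n1030 = n2400 := rfl
theorem F1495 : act 0 n2400 = n2369 := d2_1 D2400 F1471 F554 (iv D1024) (iv D410) D412 D1030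
def n2401 : Q := act 4 n1030
theorem D2401 : act 4 n1030 = n2401 := rfl
theorem F1496 : act 0 n2401 = n1031 := d3_1 D2401 (iv D1031) D1030
def n2402 : Q := act 2 n1031
theorem D2402 : act 2 n1031 = n2402 := rfl
def n2403 : Q := act 3 n1031
theorem D2403 : act 3 n1031 = n2403 := rfl
def n2405 : Q := act 4 n1032
theorem D2405 : act 4 n1032 = n2405 := rfl
def n2406 : Q := act 0 n1033
theorem D2406 : act 0 n1033 = n2406 := rfl
theorem F1497 : act 1 n2406 = n1162 := d0_2 D1033 D2406 (iv D1162) (iv D472) (iv D179) (iv F66) D414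
def n2407 : Q := act 2 n1033
theorem D2407 : act 2 n1033 = n2407 := rfl
def n2408 : Q := act 4 n1033
theorem D2408 : act 4 n1033 = n2408 := rfl
theorem F1498 : act 1 n2408 = n1035 := d6_1 D2408 (iv D1035) D1033
def n2409 : Q := act 1 n1034
theorem D2409 : act 1 n1034 = n2409 := rfl
def n2410 : Q := act 4 n1034
theorem D2410 : act 4 n1034 = n2410 := rfl
theorem F1499 : act 0 n2410 = n2389 := d3_1 D2410 (iv D2389) (iv F554)
def n2411 : Q := act 2 n1035
theorem D2411 : act 2 n1035 = n2411 := rfl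
def n2415 : Q := act 4 n1037
theorem D2415 : act 4 n1037 = n2415 := rfl
def n2416 : Q := act 3 n1038
theorem D2416 : act 3 n1038 = n2416 := rfl
def n2417 : Q := act 2 n1039
theorem D2417 : act 2 n1039 = n2417 := rfl
def n2418 : Q := act 3 n1039
theorem D2418 : act 3 n1039 = n2418 := rfl
theorem F1500 : act 1 n2418 = n1047 := d5_1 D2418 (iv D1047) (iv F557)
def n2419 : Q := act 1 n1040
theorem D2419 : act 1 n1040 = n2419 := rfl
def n2420 : Q := act 3 n1040
theorem D2420 : act 3 n1040 = n2420 := rfl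
theorem F1501 : act 2 n2420 = n1041 := d7_1 D2420 (iv D1041) D1040
def n2421 : Q := act 4 n1040
theorem D2421 : act 4 n1040 = n2421 := rfl
def n2422 : Q := act 0 n1041
theorem D2422 : act 0 n1041 = n2422 := rfl
def n2423 : Q := act 4 n1041
theorem D2423 : act 4 n1041 = n2423 := rfl
theorem F1502 : act 1 n2423 = n1052 := d6_1 D2423 (iv D1052) (iv F558)
def n2424 : Q := act 4 n1042
theorem D2424 : act 4 n1042 = n2424 := rfl
theorem F1503 : act 1 n2424 = n1044 := d6_1 D2424 (iv D1044) (iv F559)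
def n2425 : Q := act 3 n1043
theorem D2425 : act 3 n1043 = n2425 := rfl
theorem F1504 : act 1 n2425 = n1045 := d5_1 D2425 (iv D1045) (iv F561)
def n2426 : Q := act 3 n1044
theorem D2426 : act 3 n1044 = n2426 := rfl
theorem F1505 : act 2 n2426 = n1134 := d7_1 D2426 F630 (iv F563)
theorem F1506 : act 0 n2426 = n1206 := d10_1 D2426 F667 (iv D585) (iv D225) D223 (iv F260) (iv F562)
def n2427 : Q := act 4 n1045
theorem D2427 : act 4 n1045 = n2427 := rfl
theorem F1507 : act 0 n2427 = n1472 := d3_1 D2427 (iv D1472) (iv F565)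
theorem F1508 : act 2 n2427 = n1495 := d11_2 (iv F564) D2427 (iv D1495) (iv D619) (iv D240) D239 (iv F223)
def n2428 : Q := act 1 n1046
theorem D2428 : act 1 n1046 = n2428 := rfl
def n2429 : Q := act 3 n1046
theorem D2429 : act 3 n1046 = n2429 := rfl
theorem F1509 : act 2 n2429 = n1047 := d7_1 D2429 (iv D1047) D1046
theorem F1510 : act 0 n2429 = n1209 := d10_1 D2429 F668 F239 (iv D207) (iv F89) D538 (iv F566)
def n2430 : Q := act 4 n1046
theorem D2430 : act 4 n1046 = n2430 := rfl
theorem F1511 : act 0 n2430 = n1307 := d3_1 D2430 (iv D1307) (iv F566)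
theorem F1512 : act 2 n2430 = n1142 := d8_1 D2430 F1188 (iv F563) (iv D1044) F195 D422 D1046
theorem F1513 : act 3 n2430 = n1050 := d12_2 (iv D2429) D2430 F570 (iv F1199) (iv D1210) D1209 (iv F1510)
def n2431 : Q := act 4 n1047
theorem D2431 : act 4 n1047 = n2431 := rfl
theorem F1514 : act 0 n2431 = n1095 := d3_1 D2431 (iv D1095) (iv F567)
theorem F1515 : act 3 n2431 = n1052 := d9_1 D2431 (iv D1052) (iv D424) (iv D160) D159 D422 D1047
def n2432 : Q := act 2 n1048
theorem D2432 : act 2 n1048 = n2432 := rfl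
def n2433 : Q := act 3 n1048
theorem D2433 : act 3 n1048 = n2433 := rfl
theorem F1516 : act 1 n2433 = n1049 := d5_1 D2433 (iv D1049) D1048
def n2434 : Q := act 4 n1049
theorem D2434 : act 4 n1049 = n2434 := rfl
theorem F1517 : act 0 n2434 = n1337 := d3_1 D2434 (iv D1337) (iv F569)
def n2435 : Q := act 1 n1051
theorem D2435 : act 1 n1051 = n2435 := rfl
theorem F1518 : act 3 n2435 = n1381 := d5_2 (iv F573) D2435 F772
def n2436 : Q := act 4 n1051
theorem D2436 : act 4 n1051 = n2436 := rfl
theorem F1519 : act 0 n2436 = n1052 := d3_1 D2436 (iv D1052) D1051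
theorem F1521 : act 2 n2436 = n1339 := d11_2 (iv F572) D2436 (iv D1339) (iv D554) (iv D212) (iv F90) D548
def n2437 : Q := act 2 n1052
theorem D2437 : act 2 n1052 = n2437 := rfl
theorem F1522 : act 0 n2437 = n1338 := d1_1 D2437 (iv D1338) F270 D554 D1339 (iv F1521) F1519
def n2438 : Q := act 0 n1053
theorem D2438 : act 0 n1053 = n2438 := rfl
theorem F1523 : act 2 n2438 = n1221 := d10_2 D1053 D2438 (iv D1221) (iv D500) (iv F229) (iv F308) F307
theorem E68 : n1972 = n1058 := (c15_10 F1523 (iv D1221) F243 F242 D506 F248 F146 D331 D838 D1972 (iv D1058) (iv F574) D2438)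
theorem E69 : n2357 = n838 := (((iv F1461)).symm.trans (sb E68 (iv D1972)))
theorem F1524 : act 1 n838 = n1058 := (sb E69 F1461)
theorem E70 : n1010 = n331 := ((((iv D838)).symm.trans (sb E69 F1462))).symm
theorem E71 : n1973 = n1009 := ((D1973).symm.trans (sb E69 (iv D2357)))
theorem E73 : n837 = n406 := ((D837).symm.trans (sb E70 F537))
theorem E74 : n839 = n404 := ((D839).symm.trans (sb E70 (iv D1010)))
theorem E75 : n2360 = n840 := (((D840).symm.trans (sb E70 D2360))).symm
theorem F1525 : act 3 n1009 = n838 := (sb E71 (iv D1973))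
theorem F1526 : act 1 n406 = n331 := (sb E73 (iv D837))
theorem E78 : n1971 = n1015 := (((D1015).symm.trans (sb E73 D1971))).symm
theorem E79 : n1937 = n1008 := (((D1008).symm.trans (sb E74 (iv F1156)))).symm
theorem F1527 : act 3 n404 = n331 := (sb E74 (iv D839))
theorem E80 : n1975 = n1011 := (((D1011).symm.trans (sb E74 D1975))).symm
theorem E81 : n1977 = n1033 := ((D1977).symm.trans (sb E75 (iv F1464)))
theorem F1528 : act 1 n1015 = n840 := (sb E78 F1205)
theorem E82 : n2353 = n823 := ((D2353).symm.trans (sb E79 (iv D1937)))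
theorem E83 : n2362 = n846 := ((D2362).symm.trans (sb E80 F1207))
theorem F1529 : act 3 n1033 = n840 := (sb E81 (iv D1977))
theorem E84 : n1935 = n1107 := ((D1935).symm.trans (sb E82 F1456))
theorem F1530 : act 3 n823 = n1008 := (sb E82 (iv D2353))
theorem E85 : n1989 = n1017 := ((D1989).symm.trans (sb E83 F1465))
theorem F1531 : act 3 n846 = n1011 := (sb E83 (iv D2362))
theorem F1532 : act 1 n1107 = n823 := (sb E84 (iv D1935))
theorem F1533 : act 1 n1017 = n846 := (sb E85 (iv D1989))
theorem F1534 : act 1 n1991 = n2374 := d6_3 (iv D2374) F1533 D1991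
theorem F1535 : act 3 n2408 = n1991 := d5_0 F1534 F1475 (iv F1498)
theorem F1536 : act 3 n2354 = n1944 := d2_2 F1531 (iv F1457) (iv D1944) (iv D826) F145 D334 D846
theorem F1537 : act 3 n2361 = n1990 := d7_2 F1531 D2361 (iv D1990)
theorem F1538 : act 3 n2352 = n1936 := d7_2 F1530 D2352 (iv D1936)
theorem F1539 : act 3 n2355 = n1931 := d10_4 F1530 (iv D1008) D1009 D2355 (iv D1931) F435 D823
theorem F1540 : act 3 n2406 = n1938 := d12_0 (iv D1938) F1530 (iv D1008) F1527 D840 (iv F1529) D2406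
theorem F1541 : act 1 n1106 = n2000 := d16_5 D325 D823 F1530 F536 D1106 (iv D2000) (iv D850) (iv D335) (iv D124) (iv D42) D41 D120
theorem F1542 : act 0 n1960 = n2352 := d2_7 F1538 F1155 (iv D829) (iv D327) D329 D833 D1960
theorem F1543 : act 3 n1976 = n2407 := d7_2 F1529 D1976 (iv D2407)
theorem F1544 : act 1 n1826 = n2336 := d15_11 F1443 (iv F539) F540 F1526 (iv D331) F48 (iv F51) F50 (iv F129) (iv F394) D1826 F1442
theorem F1545 : act 3 n2335 = n1826 := d5_0 F1544 (iv D2336) D2335
def n2439 : Q := act 4 n1053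
theorem D2439 : act 4 n1053 = n2439 := rfl
theorem F1546 : act 1 n2439 = n1059 := d6_1 D2439 (iv D1059) (iv F574)
def n2440 : Q := act 2 n1054
theorem D2440 : act 2 n1054 = n2440 := rfl
theorem F1547 : act 1 n2440 = n1146 := d14_2 (iv F576) D2440 F636 F226 (iv F211) (iv F602) (iv D1096) (iv D442) (iv D167) (iv F71) (iv F202)
theorem F1548 : act 4 n2440 = n1143 := d17_3 D428 (iv F576) D2440 F635 (iv D1143) (iv D465) (iv D176) (iv D62) (iv D20) D18 D57 D161
def n2441 : Q := act 3 n1054
theorem D2441 : act 3 n1054 = n2441 := rfl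
theorem F1549 : act 1 n2441 = n1061 := d5_1 D2441 (iv D1061) (iv F576)
def n2442 : Q := act 3 n1055
theorem D2442 : act 3 n1055 = n2442 := rfl
theorem F1550 : act 1 n2442 = n1577 := d5_1 D2442 (iv D1577) (iv F577)
theorem F1551 : act 0 n2442 = n1070 := d10_1 D2442 (iv D1070) (iv D432) (iv D163) D161 D426 D1055
def n2443 : Q := act 4 n1055
theorem D2443 : act 4 n1055 = n2443 := rfl
theorem F1552 : act 0 n2443 = n1057 := d3_1 D2443 (iv D1057) D1055
theorem F1553 : act 1 n2443 = n1578 := d6_1 D2443 (iv D1578) (iv F577)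
def n2444 : Q := act 0 n1056
theorem D2444 : act 0 n1056 = n2444 := rfl
def n2445 : Q := act 4 n1056
theorem D2445 : act 4 n1056 = n2445 := rfl
def n2446 : Q := act 2 n1057
theorem D2446 : act 2 n1057 = n2446 := rfl
theorem F1554 : act 0 n2446 = n1067 := d11_3 D426 D1057 D2446 (iv D1067) (iv D431) (iv D162) D161
def n2447 : Q := act 3 n1057
theorem D2447 : act 3 n1057 = n2447 := rfl
def n2448 : Q := act 2 n1058
theorem D2448 : act 2 n1058 = n2448 := rfl
theorem F1555 : act 0 n2448 = n1063 := d10_3 D427 D1058 D2448 (iv D1063) (iv D429) (iv D162) D161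
def n2449 : Q := act 4 n1058
theorem D2449 : act 4 n1058 = n2449 := rfl
theorem F1556 : act 0 n2449 = n1059 := d3_1 D2449 (iv D1059) D1058
theorem F1557 : act 1 n2449 = n1974 := d6_1 D2449 (iv D1974) F1524
def n2450 : Q := act 2 n1059
theorem D2450 : act 2 n1059 = n2450 := rfl
def n2451 : Q := act 3 n1059
theorem D2451 : act 3 n1059 = n2451 := rfl
theorem F1558 : act 0 n2451 = n1074 := d12_3 D427 D1059 D2451 (iv D1074) (iv D433) (iv D163) D161
def n2452 : Q := act 0 n1060
theorem D2452 : act 0 n1060 = n2452 := rfl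
def n2453 : Q := act 1 n1060
theorem D2453 : act 1 n1060 = n2453 := rfl
theorem F1559 : act 0 n2453 = n1680 := d15_4 (iv D434) (iv F202) D1060 D2453 F984 (iv F964) F963 F375 F866 D1461 F1043 (iv D1075)
theorem F1560 : act 4 n1677 = n2453 := d17_0 (iv D2453) (iv D1060) (iv D428) D426 (iv F352) (iv D692) (iv D271) (iv D99) D101 D276 D707 D1677
def n2454 : Q := act 3 n1060
theorem D2454 : act 3 n1060 = n2454 := rfl
theorem F1561 : act 2 n2454 = n1061 := d7_1 D2454 (iv D1061) D1060
def n2455 : Q := act 4 n1060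
theorem D2455 : act 4 n1060 = n2455 := rfl
theorem F1562 : act 1 n2455 = n1677 := d6_1 D2455 F1560 (iv D2453)
def n2456 : Q := act 0 n1061
theorem D2456 : act 0 n1061 = n2456 := rfl
def n2457 : Q := act 4 n1061
theorem D2457 : act 4 n1061 = n2457 := rfl
def n2458 : Q := act 3 n1062
theorem D2458 : act 3 n1062 = n2458 := rfl
theorem F1563 : act 1 n2458 = n1243 := d5_1 D2458 (iv D1243) (iv F579)
theorem F1564 : act 2 n2458 = n1063 := d7_1 D2458 (iv D1063) D1062
theorem F1565 : act 1 n1810 = n2438 := d15_9 D2448 F1555 (iv F1564) F1563 (iv F1064) F1065 F390 D767 D1810 (iv D2438) F574 D1058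
theorem E86 : n1809 = n1627 := ((c16_3 D268 D684 D1627 (iv D1809) D1810 F1565 (iv D2438) (iv D1053) (iv F307) (iv D626) (iv D243) D242 F105)).symm
theorem F1566 : act 0 n1627 = n2011 := (sb E86 (iv F1228))
theorem F1567 : act 1 n1627 = n767 := (sb E86 (iv D1809))
theorem F1568 : act 3 n1507 = n2011 := d16_7 (iv D1053) (iv F307) D1511 F837 F309 (iv F304) D1507 (iv F1566) F1567 D1810 F1565 (iv D2438)
theorem F1569 : act 1 n2013 = n1507 := d5_3 F1568 (iv D2011) D2013
theorem E87 : n1811 = n1626 := (c5_3 D1627 F1567 D1811 (iv D1626))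
theorem F1570 : act 3 n1626 = n767 := (sb E87 (iv D1811))
def n2459 : Q := act 4 n1062
theorem D2459 : act 4 n1062 = n2459 := rfl
theorem F1571 : act 1 n2459 = n1244 := d6_1 D2459 (iv D1244) (iv F579)
theorem F1572 : act 2 n2459 = n1075 := d11_2 D1062 D2459 (iv D1075) (iv D434) (iv D164) D162 D429
def n2460 : Q := act 4 n1063
theorem D2460 : act 4 n1063 = n2460 := rfl
theorem F1573 : act 1 n2460 = n1245 := d6_1 D2460 (iv D1245) (iv F580)
def n2461 : Q := act 2 n1064
theorem D2461 : act 2 n1064 = n2461 := rfl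
def n2462 : Q := act 3 n1064
theorem D2462 : act 3 n1064 = n2462 := rfl
theorem F1574 : act 1 n2462 = n1247 := d5_1 D2462 (iv D1247) (iv F582)
def n2463 : Q := act 1 n1065
theorem D2463 : act 1 n1065 = n2463 := rfl
def n2464 : Q := act 2 n1065
theorem D2464 : act 2 n1065 = n2464 := rfl
def n2465 : Q := act 3 n1065
theorem D2465 : act 3 n1065 = n2465 := rfl
def n2466 : Q := act 4 n1065
theorem D2466 : act 4 n1065 = n2466 := rfl
theorem F1575 : act 0 n2466 = n1066 := d3_1 D2466 (iv D1066) D1065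
def n2467 : Q := act 2 n1066
theorem D2467 : act 2 n1066 = n2467 := rfl
def n2468 : Q := act 3 n1066
theorem D2468 : act 3 n1066 = n2468 := rfl
def n2469 : Q := act 3 n1067
theorem D2469 : act 3 n1067 = n2469 := rfl
theorem F1576 : act 2 n2469 = n1068 := d7_1 D2469 (iv D1068) D1067
def n2470 : Q := act 0 n1068
theorem D2470 : act 0 n1068 = n2470 := rfl
def n2471 : Q := act 4 n1068
theorem D2471 : act 4 n1068 = n2471 := rfl
def n2472 : Q := act 0 n1069
theorem D2472 : act 0 n1069 = n2472 := rfl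
theorem F1577 : act 1 n2472 = n1081 := d0_2 D1069 D2472 (iv D1081) (iv D436) (iv D165) (iv F70) D432
def n2473 : Q := act 2 n1069
theorem D2473 : act 2 n1069 = n2473 := rfl
theorem F1578 : act 1 n2473 = n1071 := d14_2 D1069 D2473 (iv F1459) (iv D2356) (iv D1009) (iv D404) (iv D153) F21 (iv F24) (iv F70) D432
theorem F1579 : act 3 n1069 = n2473 := d5_0 F1578 (iv D1071) D1069
def n2474 : Q := act 4 n1069
theorem D2474 : act 4 n1069 = n2474 := rfl
theorem F1580 : act 1 n2474 = n1072 := d6_1 D2474 (iv D1072) D1069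
def n2475 : Q := act 1 n1070
theorem D2475 : act 1 n1070 = n2475 := rfl
def n2476 : Q := act 3 n1070
theorem D2476 : act 3 n1070 = n2476 := rfl
theorem F1581 : act 2 n2476 = n1071 := d7_1 D2476 (iv D1071) D1070
def n2477 : Q := act 4 n1070
theorem D2477 : act 4 n1070 = n2477 := rfl
def n2478 : Q := act 4 n1071
theorem D2478 : act 4 n1071 = n2478 := rfl
theorem F1582 : act 3 n2478 = n1079 := d12_2 D1071 D2478 (iv D1079) (iv D435) (iv D164) D163 D432
def n2479 : Q := act 2 n1072
theorem D2479 : act 2 n1072 = n2479 := rfl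
def n2480 : Q := act 3 n1072
theorem D2480 : act 3 n1072 = n2480 := rfl
def n2481 : Q := act 0 n1073
theorem D2481 : act 0 n1073 = n2481 := rfl
def n2482 : Q := act 1 n1073
theorem D2482 : act 1 n1073 = n2482 := rfl
def n2483 : Q := act 3 n1073
theorem D2483 : act 3 n1073 = n2483 := rfl
theorem F1583 : act 2 n2483 = n1074 := d7_1 D2483 (iv D1074) D1073
def n2484 : Q := act 4 n1073
theorem D2484 : act 4 n1073 = n2484 := rfl
def n2485 : Q := act 4 n1074
theorem D2485 : act 4 n1074 = n2485 := rfl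
theorem F1584 : act 1 n2485 = n1095 := d6_1 D2485 (iv D1095) (iv F584)
theorem F1585 : act 3 n2485 = n1080 := d9_1 D2485 (iv D1080) (iv D435) (iv D164) D163 D433 D1074
def n2486 : Q := act 3 n1075
theorem D2486 : act 3 n1075 = n2486 := rfl
def n2487 : Q := act 2 n1076
theorem D2487 : act 2 n1076 = n2487 := rfl
theorem F1586 : act 1 n2487 = n1097 := d4_1 D2487 (iv D1097) (iv D442) (iv D167) (iv F71) D434 D1076
def n2488 : Q := act 3 n1076
theorem D2488 : act 3 n1076 = n2488 := rfl
theorem F1587 : act 1 n2488 = n1077 := d5_1 D2488 (iv D1077) D1076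
def n2489 : Q := act 0 n1077
theorem D2489 : act 0 n1077 = n2489 := rfl
def n2490 : Q := act 4 n1077
theorem D2490 : act 4 n1077 = n2490 := rfl
def n2491 : Q := act 3 n1078
theorem D2491 : act 3 n1078 = n2491 := rfl
def n2492 : Q := act 1 n1079
theorem D2492 : act 1 n1079 = n2492 := rfl
def n2493 : Q := act 2 n1079
theorem D2493 : act 2 n1079 = n2493 := rfl
def n2494 : Q := act 4 n1079
theorem D2494 : act 4 n1079 = n2494 := rfl
theorem F1588 : act 0 n2494 = n1080 := d3_1 D2494 (iv D1080) D1079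
def n2495 : Q := act 2 n1080
theorem D2495 : act 2 n1080 = n2495 := rfl
def n2496 : Q := act 2 n1081
theorem D2496 : act 2 n1081 = n2496 := rfl
def n2497 : Q := act 3 n1081
theorem D2497 : act 3 n1081 = n2497 := rfl
def n2498 : Q := act 4 n1081
theorem D2498 : act 4 n1081 = n2498 := rfl
theorem F1589 : act 0 n2498 = n1084 := d3_1 D2498 (iv D1084) D1081
def n2499 : Q := act 0 n1082
theorem D2499 : act 0 n1082 = n2499 := rfl
def n2500 : Q := act 1 n1082
theorem D2500 : act 1 n1082 = n2500 := rfl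
theorem F1590 : act 0 n2500 = n1708 := d16_6 D218 (iv F207) (iv D438) D436 D1082 D2500 (iv D1708) (iv F943) F941 F556 F192 F68
theorem F1591 : act 3 n1651 = n2500 := d16_2 D715 (iv F959) (iv D2500) (iv D1082) (iv D436) (iv D165) (iv D58) D56 D157 D416 (iv F341) F340
theorem F1592 : act 2 n2500 = n1652 := d7_1 F1591 (iv D1652) D1651
def n2501 : Q := act 3 n1082
theorem D2501 : act 3 n1082 = n2501 := rfl
theorem F1593 : act 1 n2501 = n1651 := d5_1 D2501 F1591 (iv D2500)
theorem F1594 : act 2 n2501 = n1083 := d7_1 D2501 (iv D1083) D1082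
def n2502 : Q := act 4 n1082
theorem D2502 : act 4 n1082 = n2502 := rfl
def n2503 : Q := act 0 n1083
theorem D2503 : act 0 n1083 = n2503 := rfl
theorem F1595 : act 2 n2503 = n1626 := d15_8 D701 F359 (iv F370) F369 (iv F959) (iv F1593) F1594 D2503 (iv D1626) (iv D684) F118 D274
theorem F1596 : act 3 n1810 = n2503 := d7_0 F1595 F1570 D1810
def n2504 : Q := act 4 n1083
theorem D2504 : act 4 n1083 = n2504 := rfl
theorem F1597 : act 1 n2504 = n1088 := d6_1 D2504 (iv D1088) (iv F587)
theorem F1598 : act 3 n1102 = n2504 := d5_0 F1597 F594 D1102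
def n2505 : Q := act 2 n1084
theorem D2505 : act 2 n1084 = n2505 := rfl
def n2506 : Q := act 3 n1084
theorem D2506 : act 3 n1084 = n2506 := rfl
theorem F1599 : act 1 n2506 = n1090 := d5_1 D2506 (iv D1090) (iv F588)
def n2507 : Q := act 0 n1085
theorem D2507 : act 0 n1085 = n2507 := rfl
def n2508 : Q := act 2 n1085
theorem D2508 : act 2 n1085 = n2508 := rfl
theorem F1600 : act 1 n2508 = n1652 := d4_1 D2508 (iv F1592) (iv D2500) (iv D1082) (iv D436) D437 D1085
theorem F1601 : act 3 n1650 = n2508 := d5_0 F1600 (iv D1652) D1650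
def n2509 : Q := act 3 n1085
theorem D2509 : act 3 n1085 = n2509 := rfl
theorem F1602 : act 1 n2509 = n1086 := d5_1 D2509 (iv D1086) D1085
theorem F1603 : act 2 n2509 = n1650 := d7_1 D2509 F1601 (iv D2508)
theorem F1604 : act 0 n1300 = n2509 := d15_4 (iv F215) F214 (iv F259) (iv F731) F1602 F590 F207 F95 (iv F93) F915 F93 (iv F74)
theorem E88 : n1791 = n1081 := (c16_1 D1791 (iv D1081) D1083 F587 (iv F590) (iv F1602) (iv F1604) (iv D1300) D1298 (iv F1148) (iv D1925) (iv F1052) (iv D1789))
theorem E89 : n2496 = n761 := ((D2496).symm.trans (sb E88 F1055))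
theorem E90 : n2497 = n760 := ((D2497).symm.trans (sb E88 (iv D1791)))
theorem F1605 : act 2 n761 = n1081 := (sb E89 (iv D2496))
theorem F1606 : act 3 n760 = n1081 := (sb E90 (iv D2497))
theorem F1607 : act 3 n2472 = n1790 := d5_2 F1606 (iv F1577) (iv D1790)
def n2510 : Q := act 4 n1085
theorem D2510 : act 4 n1085 = n2510 := rfl
theorem F1608 : act 1 n2510 = n1087 := d6_1 D2510 (iv D1087) D1085
def n2511 : Q := act 4 n1086
theorem D2511 : act 4 n1086 = n2511 := rfl
theorem F1609 : act 0 n2511 = n1302 := d3_1 D2511 (iv D1302) (iv F589)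
theorem F1610 : act 2 n2511 = n1156 := d11_2 (iv F590) D2511 F641 (iv D572) (iv D220) (iv F95) (iv F207)
theorem F1611 : act 3 n2511 = n1155 := d12_2 D1086 D2511 F640 (iv D492) (iv D187) D186 (iv F206)
def n2512 : Q := act 3 n1087
theorem D2512 : act 3 n1087 = n2512 := rfl
theorem F1612 : act 0 n2512 = n1303 := d2_1 D2512 (iv D1303) (iv F562) D2426 F1506 (iv D1206) (iv F591)
theorem F1613 : act 2 n2512 = n1128 := d7_1 D2512 (iv D1128) (iv F592)
def n2513 : Q := act 2 n1088
theorem D2513 : act 2 n1088 = n2513 := rfl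
theorem F1614 : act 3 n2513 = n1103 := d7_2 (iv F594) D2513 (iv D1103)
theorem F1615 : act 0 n2513 = n1304 := d10_3 F573 (iv F593) D2513 F736 (iv F569) F568 D1051
def n2514 : Q := act 1 n1089
theorem D2514 : act 1 n1089 = n2514 := rfl
def n2515 : Q := act 3 n1089
theorem D2515 : act 3 n1089 = n2515 := rfl
theorem F1616 : act 0 n2515 = n1306 := d2_1 D2515 (iv D1306) (iv F566) D2429 F1510 (iv D1209) (iv F595)
theorem F1617 : act 2 n2515 = n1090 := d7_1 D2515 (iv D1090) D1089
def n2516 : Q := act 4 n1089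
theorem D2516 : act 4 n1089 = n2516 := rfl
theorem F1618 : act 0 n2516 = n1210 := d3_1 D2516 (iv D1210) (iv F595)
theorem F1619 : act 2 n2516 = n1129 := d8_1 D2516 (iv D1129) (iv F592) (iv D1087) (iv D437) D439 D1089
def n2517 : Q := act 4 n1090
theorem D2517 : act 4 n1090 = n2517 := rfl
theorem F1620 : act 0 n2517 = n1384 := d3_1 D2517 (iv D1384) (iv F596)
theorem F1621 : act 3 n2517 = n1104 := d9_1 D2517 (iv D1104) (iv F594) (iv D1088) (iv D438) D439 D1090
def n2518 : Q := act 1 n1091
theorem D2518 : act 1 n1091 = n2518 := rfl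
def n2519 : Q := act 3 n1091
theorem D2519 : act 3 n1091 = n2519 := rfl
theorem F1622 : act 0 n2519 = n1310 := d2_1 D2519 (iv D1310) (iv D540) D542 (iv F599) (iv D1093) D1091
theorem F1623 : act 2 n2519 = n1120 := d7_1 D2519 (iv D1120) (iv F597)
def n2520 : Q := act 4 n1091
theorem D2520 : act 4 n1091 = n2520 := rfl
theorem F1624 : act 0 n2520 = n1094 := d3_1 D2520 (iv D1094) D1091
theorem F1625 : act 2 n2520 = n1125 := d8_1 D2520 (iv D1125) (iv D455) (iv D172) D170 D453 (iv F597)
def n2521 : Q := act 0 n1092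
theorem D2521 : act 0 n1092 = n2521 := rfl
def n2522 : Q := act 2 n1092
theorem D2522 : act 2 n1092 = n2522 := rfl
def n2523 : Q := act 3 n1092
theorem D2523 : act 3 n1092 = n2523 := rfl
theorem F1626 : act 1 n2523 = n1093 := d5_1 D2523 (iv D1093) D1092
def n2524 : Q := act 4 n1092
theorem D2524 : act 4 n1092 = n2524 := rfl
theorem F1627 : act 1 n2524 = n1094 := d6_1 D2524 (iv D1094) D1092
theorem F1628 : act 3 n1096 = n2524 := d5_0 F1627 F1189 (iv F602)
def n2525 : Q := act 4 n1093
theorem D2525 : act 4 n1093 = n2525 := rfl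
theorem F1629 : act 0 n2525 = n1316 := d3_1 D2525 (iv D1316) (iv F599)
theorem F1630 : act 3 n2525 = n1100 := d9_1 D2525 (iv D1100) (iv D443) D444 (iv F1189) (iv D1094) D1093
def n2526 : Q := act 2 n1095
theorem D2526 : act 2 n1095 = n2526 := rfl
theorem F1631 : act 3 n2526 = n1105 := d7_2 (iv F601) D2526 (iv D1105)
def n2527 : Q := act 2 n1096
theorem D2527 : act 2 n1096 = n2527 := rfl
def n2528 : Q := act 0 n1097
theorem D2528 : act 0 n1097 = n2528 := rfl
def n2529 : Q := act 3 n1097
theorem D2529 : act 3 n1097 = n2529 := rfl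
theorem F1633 : act 2 n2529 = n1098 := d7_1 D2529 (iv D1098) D1097
def n2530 : Q := act 4 n1097
theorem D2530 : act 4 n1097 = n2530 := rfl
def n2531 : Q := act 0 n1098
theorem D2531 : act 0 n1098 = n2531 := rfl
def n2532 : Q := act 4 n1098
theorem D2532 : act 4 n1098 = n2532 := rfl
theorem F1634 : act 1 n2532 = n1100 := d6_1 D2532 (iv D1100) (iv F604)
def n2533 : Q := act 1 n1099
theorem D2533 : act 1 n1099 = n2533 := rfl
def n2534 : Q := act 3 n1099
theorem D2534 : act 3 n1099 = n2534 := rfl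
theorem F1635 : act 0 n2534 = n1327 := d2_1 D2534 (iv D1327) (iv D548) (iv D209) (iv F72) D443 D1099
theorem F1636 : act 2 n2534 = n1119 := d7_1 D2534 F616 (iv F605)
def n2535 : Q := act 4 n1099
theorem D2535 : act 4 n1099 = n2535 := rfl
theorem F1637 : act 0 n2535 = n1100 := d3_1 D2535 (iv D1100) D1099
def n2536 : Q := act 2 n1100
theorem D2536 : act 2 n1100 = n2536 := rfl
def n2537 : Q := act 0 n1102
theorem D2537 : act 0 n1102 = n2537 := rfl
theorem F1638 : act 3 n2537 = n1792 := d12_4 D1083 D2504 (iv F1598) D2537 (iv D1792) F1606 (iv D1081)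
def n2538 : Q := act 2 n1102
theorem D2538 : act 2 n1102 = n2538 := rfl
def n2539 : Q := act 4 n1102
theorem D2539 : act 4 n1102 = n2539 := rfl
theorem F1639 : act 1 n2539 = n1104 := d6_1 D2539 (iv D1104) D1102
def n2540 : Q := act 1 n1103
theorem D2540 : act 1 n1103 = n2540 := rfl
def n2541 : Q := act 4 n1103
theorem D2541 : act 4 n1103 = n2541 := rfl
theorem F1640 : act 0 n2541 = n1216 := d3_1 D2541 (iv D1216) (iv F607)
def n2542 : Q := act 2 n1104
theorem D2542 : act 2 n1104 = n2542 := rfl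
theorem F1641 : act 0 n2542 = n1220 := d11_3 (iv D1103) D1104 D2542 (iv D1220) (iv D499) (iv F240) (iv F607)
def n2543 : Q := act 0 n1105
theorem D2543 : act 0 n1105 = n2543 := rfl
theorem F1642 : act 2 n2543 = n1219 := d1_2 D1105 D2543 F677 D1220 (iv F1641) (iv D2542) F608
def n2546 : Q := act 0 n1106
theorem D2546 : act 0 n1106 = n2546 := rfl
theorem F1643 : act 3 n2546 = n1661 := d10_4 (iv D449) D447 D1106 D2546 (iv D1661) F357 F917
theorem F1644 : act 1 n2546 = n1793 := d13_2 D1106 D2546 (iv D1793) F1605 (iv D1081) (iv D436) (iv D165) F24 D60 D169 D447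
theorem F1645 : act 0 n1994 = n1729 := d0_5 (iv F1644) (iv D2546) F1541 (iv D2000) (iv F1216) F1018 D1793
theorem E91 : n1733 = n1550 := (c2_6 D1994 F1645 (iv D1729) (iv D731) D733 D1733 (iv D1550) (iv F446))
theorem F1646 : act 0 n1550 = n733 := (sb E91 (iv D1733))
theorem F1647 : act 1 n1109 = n1519 := d0_6 (iv F875) F1646 F377 (iv F360) F361 D1109 F843
theorem F1648 : act 3 n1517 = n1109 := d5_0 F1647 (iv D1519) D1517
def n2547 : Q := act 3 n1106
theorem D2547 : act 3 n1106 = n2547 := rfl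
theorem F1649 : act 0 n2547 = n1517 := d2_1 D2547 F1648 (iv D1109) F358 D1661 (iv F1643) (iv D2546)
theorem F1650 : act 2 n2547 = n1107 := d7_1 D2547 (iv D1107) D1106
theorem F1651 : act 1 n1931 = n1513 := d13_6 F1650 F918 F1532 (iv D823) (iv F435) D1931 (iv D1513) F309 D629 D1517 (iv F1649)
def n2548 : Q := act 4 n1106
theorem D2548 : act 4 n1106 = n2548 := rfl
def n2549 : Q := act 4 n1107
theorem D2549 : act 4 n1107 = n2549 := rfl
theorem F1652 : act 0 n2549 = n2549 := d3_1 D2549 (iv D2549) F918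
theorem F1653 : act 1 n2549 = n1938 := d6_1 D2549 (iv D1938) (iv F1532)
theorem F1654 : act 3 n2549 = n1162 := d12_2 D1107 D2549 (iv D1162) F611 (iv D1112) (iv D449) D447
def n2550 : Q := act 2 n1108
theorem D2550 : act 2 n1108 = n2550 := rfl
def n2551 : Q := act 3 n1108
theorem D2551 : act 3 n1108 = n2551 := rfl
theorem F1655 : act 0 n2551 = n2551 := d2_1 D2551 (iv D2551) F609 D1114 F920 (iv D1114) (iv F609)
theorem F1656 : act 1 n2551 = n1944 := d5_1 D2551 (iv F1536) F1458
def n2552 : Q := act 2 n1109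
theorem D2552 : act 2 n1109 = n2552 := rfl
theorem F1657 : act 1 n2552 = n1579 := d15_3 D448 D1109 D2552 (iv D1579) (iv F517) F518 (iv F185) (iv D405) D404 D1008 F536 (iv D447)
def n2553 : Q := act 4 n1109
theorem D2553 : act 4 n1109 = n2553 := rfl
theorem F1658 : act 0 n2553 = n1110 := d3_1 D2553 (iv D1110) D1109
def n2554 : Q := act 2 n1110
theorem D2554 : act 2 n1110 = n2554 := rfl
theorem F1659 : act 1 n2554 = n1867 := d16_5 D277 D710 (iv F974) F973 D2554 (iv D1867) (iv D794) (iv D313) (iv D115) (iv D39) (iv F14) (iv F39)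
theorem E92 : n2405 = n408 := (c17_10 (iv D172) D169 D448 D1110 D2554 F1659 (iv D1867) (iv F1110) F1111 D2405 (iv D408) F65 (iv F75))
theorem E93 : n1032 = n1021 := (((D1021).symm.trans (sb E92 (iv D2405)))).symm
theorem E95 : n2397 = n2381 := ((((iv F1480)).symm.trans (sb E93 (iv F1493)))).symm
theorem E96 : n2344 = n1862 := (((iv F1451)).symm.trans (sb E93 (iv F1111)))
theorem E97 : n2384 = n413 := ((D2384).symm.trans (sb E93 (iv D1032)))
theorem F1660 : act 3 n2381 = n1029 := (sb E95 (iv D2397))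
theorem F1661 : act 2 n1862 = n1021 := (sb E96 F1451)
theorem F1662 : act 4 n1862 = n1003 := (sb E96 (iv D2344))
theorem F1663 : act 3 n413 = n1021 := (sb E97 (iv D2384))
theorem E98 : n2342 = n1868 := ((c17_1 D1868 (iv D2342) (iv D1003) (iv D401) F64 F21 D60 D169 D448 D1110 D2554 F1659 (iv D1867))).symm
theorem F1664 : act 1 n1868 = n1003 := (sb E98 (iv D2342))
theorem E99 : n2403 = n2383 := ((c9_5 D413 F1663 (iv D1021) D1020 D2383 (iv D2403) (iv D1031) (iv D412))).symm
theorem F1665 : act 3 n2383 = n1031 := (sb E99 (iv D2403))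
theorem F1666 : act 4 n2370 = n2390 := d12_5 F1663 (iv D1021) D1020 D2382 F1481 (iv D2390) F549
theorem F1667 : act 0 n2390 = n2373 := d3_1 F1666 (iv D2373) D2370
def n2555 : Q := act 0 n1113
theorem D2555 : act 0 n1113 = n2555 := rfl
def n2556 : Q := act 3 n1113
theorem D2556 : act 3 n1113 = n2556 := rfl
theorem F1668 : act 2 n2556 = n1114 := d7_1 D2556 (iv D1114) D1113
def n2557 : Q := act 4 n1113
theorem D2557 : act 4 n1113 = n2557 := rfl
def n2558 : Q := act 4 n1114
theorem D2558 : act 4 n1114 = n2558 := rfl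
theorem F1669 : act 0 n2558 = n2558 := d3_1 D2558 (iv D2558) F920
theorem F1670 : act 1 n2558 = n1126 := d6_1 D2558 (iv D1126) (iv F612)
theorem F1671 : act 3 n2558 = n1164 := d9_1 D2558 (iv D1164) F611 (iv D1112) (iv D449) D450 D1114
def n2559 : Q := act 1 n1115
theorem D2559 : act 1 n1115 = n2559 := rfl
theorem F1672 : act 0 n2559 = n1188 := d0_1 D2559 (iv D1188) (iv D484) F78 (iv F73) D451 D1115
def n2560 : Q := act 2 n1115
theorem D2560 : act 2 n1115 = n2560 := rfl
def n2561 : Q := act 3 n1115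
theorem D2561 : act 3 n1115 = n2561 := rfl
def n2562 : Q := act 4 n1115
theorem D2562 : act 4 n1115 = n2562 := rfl
theorem F1673 : act 0 n2562 = n1118 := d3_1 D2562 (iv D1118) D1115
def n2563 : Q := act 0 n1116
theorem D2563 : act 0 n1116 = n2563 := rfl
def n2564 : Q := act 4 n1116
theorem D2564 : act 4 n1116 = n2564 := rfl
def n2565 : Q := act 0 n1117
theorem D2565 : act 0 n1117 = n2565 := rfl
def n2566 : Q := act 4 n1117
theorem D2566 : act 4 n1117 = n2566 := rfl
theorem F1674 : act 1 n2566 = n1119 := d6_1 D2566 (iv D1119) (iv F613)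
theorem F1675 : act 3 n1218 = n2566 := d5_0 F1674 F616 D1218
def n2567 : Q := act 2 n1118
theorem D2567 : act 2 n1118 = n2567 := rfl
def n2568 : Q := act 3 n1118
theorem D2568 : act 3 n1118 = n2568 := rfl
theorem F1676 : act 1 n2568 = n1120 := d5_1 D2568 (iv D1120) (iv F614)
def n2569 : Q := act 4 n1120
theorem D2569 : act 4 n1120 = n2569 := rfl
theorem F1677 : act 0 n2569 = n1308 := d3_1 D2569 (iv D1308) (iv F617)
theorem F1678 : act 3 n2569 = n1219 := d9_1 D2569 (iv D1219) (iv F616) (iv D1119) (iv D452) D453 D1120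
def n2570 : Q := act 1 n1121
theorem D2570 : act 1 n1121 = n2570 := rfl
theorem F1679 : act 3 n2570 = n1165 := d5_2 (iv F618) D2570 (iv D1165)
def n2571 : Q := act 4 n1121
theorem D2571 : act 4 n1121 = n2571 := rfl
theorem F1680 : act 0 n2571 = n1401 := d3_1 D2571 F1174 (iv F619)
theorem F1681 : act 3 n2571 = n1125 := d12_2 (iv F618) D2571 F1197 (iv D594) (iv D230) D229 (iv F227)
def n2572 : Q := act 1 n1122
theorem D2572 : act 1 n1122 = n2572 := rfl
theorem F1682 : act 3 n2572 = n1413 := d5_2 (iv F621) D2572 (iv D1413)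
theorem F1683 : act 4 n2572 = n1433 := d6_2 (iv F1196) D2572 F796
def n2573 : Q := act 0 n1123
theorem D2573 : act 0 n1123 = n2573 := rfl
def n2574 : Q := act 2 n1123
theorem D2574 : act 2 n1123 = n2574 := rfl
def n2575 : Q := act 3 n1123
theorem D2575 : act 3 n1123 = n2575 := rfl
theorem F1684 : act 1 n2575 = n1124 := d5_1 D2575 (iv D1124) D1123
def n2576 : Q := act 4 n1123
theorem D2576 : act 4 n1123 = n2576 := rfl
theorem F1685 : act 1 n2576 = n1125 := d6_1 D2576 (iv D1125) D1123
def n2577 : Q := act 4 n1124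
theorem D2577 : act 4 n1124 = n2577 := rfl
theorem F1686 : act 0 n2577 = n1400 := d3_1 D2577 (iv D1400) (iv F622)
theorem F1687 : act 3 n2577 = n1166 := d9_1 D2577 (iv D1166) (iv F618) D2571 F1681 (iv D1125) D1124
def n2578 : Q := act 2 n1126
theorem D2578 : act 2 n1126 = n2578 := rfl
theorem F1689 : act 0 n2578 = n1499 := d10_3 (iv F282) (iv F624) D2578 (iv D1499) (iv D620) (iv D241) (iv F104)
def n2579 : Q := act 0 n1127
theorem D2579 : act 0 n1127 = n2579 := rfl
def n2580 : Q := act 2 n1127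
theorem D2580 : act 2 n1127 = n2580 := rfl
def n2581 : Q := act 3 n1127
theorem D2581 : act 3 n1127 = n2581 := rfl
theorem F1690 : act 1 n2581 = n1128 := d5_1 D2581 (iv D1128) D1127
def n2582 : Q := act 4 n1127
theorem D2582 : act 4 n1127 = n2582 := rfl
theorem F1691 : act 1 n2582 = n1129 := d6_1 D2582 (iv D1129) D1127
def n2583 : Q := act 4 n1128
theorem D2583 : act 4 n1128 = n2583 := rfl
theorem F1692 : act 0 n2583 = n1393 := d3_1 D2583 (iv D1393) (iv F626)
theorem F1693 : act 3 n2583 = n1157 := d12_2 D1128 D2583 F642 (iv F1192) (iv D1135) (iv D459) D457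
def n2584 : Q := act 3 n1129
theorem D2584 : act 3 n1129 = n2584 := rfl
theorem F1694 : act 0 n2584 = n1386 := d2_1 D2584 F1193 (iv F1187) (iv D1142) F224 F1191 (iv F627)
theorem F1695 : act 4 n2584 = n1156 := d9_2 D1129 D2584 (iv D1156) D1157 (iv F1693) (iv D2583) (iv D1128)
def n2585 : Q := act 1 n1130
theorem D2585 : act 1 n1130 = n2585 := rfl
def n2586 : Q := act 2 n1130
theorem D2586 : act 2 n1130 = n2586 := rfl
def n2587 : Q := act 3 n1130
theorem D2587 : act 3 n1130 = n2587 := rfl
def n2588 : Q := act 4 n1130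
theorem D2588 : act 4 n1130 = n2588 := rfl
theorem F1696 : act 0 n2588 = n1133 := d3_1 D2588 (iv D1133) D1130
def n2589 : Q := act 0 n1131
theorem D2589 : act 0 n1131 = n2589 := rfl
def n2590 : Q := act 3 n1131
theorem D2590 : act 3 n1131 = n2590 := rfl
theorem F1697 : act 2 n2590 = n1132 := d7_1 D2590 (iv D1132) D1131
def n2591 : Q := act 4 n1131
theorem D2591 : act 4 n1131 = n2591 := rfl
def n2592 : Q := act 0 n1132
theorem D2592 : act 0 n1132 = n2592 := rfl
def n2593 : Q := act 4 n1132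
theorem D2593 : act 4 n1132 = n2593 := rfl
theorem F1698 : act 1 n2593 = n1135 := d6_1 D2593 (iv D1135) (iv F628)
theorem F1699 : act 3 n2593 = n1151 := d9_1 D2593 (iv D1151) (iv D467) D468 (iv F1190) (iv D1133) D1132
def n2594 : Q := act 2 n1133
theorem D2594 : act 2 n1133 = n2594 := rfl
theorem F1700 : act 3 n2594 = n1152 := d7_2 (iv F1190) D2594 (iv D1152)
def n2595 : Q := act 1 n1134
theorem D2595 : act 1 n1134 = n2595 := rfl
theorem F1701 : act 3 n2595 = n1387 := d5_2 (iv F630) D2595 (iv D1387)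
def n2596 : Q := act 4 n1134
theorem D2596 : act 4 n1134 = n2596 := rfl
theorem F1702 : act 0 n2596 = n1135 := d3_1 D2596 (iv D1135) D1134
theorem F1703 : act 3 n2596 = n1141 := d9_1 D2596 (iv D1141) (iv D463) D464 D1142 F1188 (iv F630)
def n2597 : Q := act 2 n1135
theorem D2597 : act 2 n1135 = n2597 := rfl
theorem F1704 : act 3 n2597 = n1158 := d7_2 (iv F1192) D2597 (iv D1158)
theorem F1705 : act 0 n2597 = n1415 := d10_3 (iv F1703) F1702 D2597 F1180 D1476 F819 (iv F634)
def n2598 : Q := act 0 n1137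
theorem D2598 : act 0 n1137 = n2598 := rfl
theorem F1706 : act 3 n2598 = n1495 := d10_4 (iv F99) (iv F221) D1137 D2598 (iv D1495) (iv D619) F104
def n2601 : Q := act 3 n1138
theorem D2601 : act 3 n1138 = n2601 := rfl
theorem F1708 : act 2 n2601 = n1139 := d7_1 D2601 (iv D1139) D1138
def n2602 : Q := act 4 n1138
theorem D2602 : act 4 n1138 = n2602 := rfl
def n2603 : Q := act 4 n1139
theorem D2603 : act 4 n1139 = n2603 := rfl
theorem F1709 : act 1 n2603 = n1141 := d6_1 D2603 (iv D1141) (iv F632)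
def n2604 : Q := act 2 n1140
theorem D2604 : act 2 n1140 = n2604 := rfl
def n2605 : Q := act 3 n1140
theorem D2605 : act 3 n1140 = n2605 := rfl
theorem F1710 : act 1 n2605 = n1142 := d5_1 D2605 (iv D1142) (iv F633)
theorem F1711 : act 4 n1387 = n2605 := d6_0 F1710 F1188 D1387
def n2606 : Q := act 2 n1141
theorem D2606 : act 2 n1141 = n2606 := rfl
theorem F1712 : act 0 n2606 = n1474 := d1_1 D2606 (iv D1474) F297 D610 D1476 F819 (iv F634)
def n2607 : Q := act 3 n1143
theorem D2607 : act 3 n1143 = n2607 := rfl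
theorem F1713 : act 1 n2607 = n1145 := d5_1 D2607 (iv D1145) D1143
theorem F1714 : act 2 n2607 = n2607 := d7_1 D2607 (iv D2607) F635
def n2608 : Q := act 0 n1144
theorem D2608 : act 0 n1144 = n2608 := rfl
theorem F1715 : act 1 n2608 = n1581 := d0_2 F1318 D2608 (iv F1310) (iv D2151) (iv D916) D917 D2155
def n2609 : Q := act 3 n1144
theorem D2609 : act 3 n1144 = n2609 := rfl
theorem F1716 : act 2 n2609 = n1145 := d7_1 D2609 (iv D1145) D1144
def n2610 : Q := act 4 n1144
theorem D2610 : act 4 n1144 = n2610 := rfl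
def n2611 : Q := act 0 n1145
theorem D2611 : act 0 n1145 = n2611 := rfl
theorem F1717 : act 1 n2611 = n1976 := d16_9 F543 (iv D414) (iv D156) F23 D62 D176 D465 D1145 D2611 (iv D1976) (iv F1528) F542
def n2612 : Q := act 4 n1145
theorem D2612 : act 4 n1145 = n2612 := rfl
def n2613 : Q := act 2 n1146
theorem D2613 : act 2 n1146 = n2613 := rfl
def n2614 : Q := act 3 n1146
theorem D2614 : act 3 n1146 = n2614 := rfl
def n2615 : Q := act 2 n1147
theorem D2615 : act 2 n1147 = n2615 := rfl
theorem F1718 : act 1 n2615 = n1448 := d14_2 (iv F1280) D2615 F806 (iv D902) (iv D359) (iv D135) (iv D47) D48 D139 (iv F101) D599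
def n2616 : Q := act 3 n1147
theorem D2616 : act 3 n1147 = n2616 := rfl
theorem F1719 : act 1 n2616 = n1449 := d5_1 D2616 (iv D1449) (iv F1280)
def n2617 : Q := act 4 n1147
theorem D2617 : act 4 n1147 = n2617 := rfl
theorem F1720 : act 0 n2617 = n1149 := d3_1 D2617 (iv D1149) D1147
theorem F1721 : act 1 n2617 = n1450 := d6_1 D2617 (iv D1450) (iv F1280)
def n2618 : Q := act 0 n1148
theorem D2618 : act 0 n1148 = n2618 := rfl
def n2619 : Q := act 4 n1148
theorem D2619 : act 4 n1148 = n2619 := rfl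
def n2620 : Q := act 2 n1149
theorem D2620 : act 2 n1149 = n2620 := rfl
def n2621 : Q := act 3 n1149
theorem D2621 : act 3 n1149 = n2621 := rfl
def n2622 : Q := act 1 n1150
theorem D2622 : act 1 n1150 = n2622 := rfl
def n2623 : Q := act 2 n1150
theorem D2623 : act 2 n1150 = n2623 := rfl
def n2624 : Q := act 3 n1150
theorem D2624 : act 3 n1150 = n2624 := rfl
def n2625 : Q := act 4 n1150
theorem D2625 : act 4 n1150 = n2625 := rfl
theorem F1722 : act 0 n2625 = n1151 := d3_1 D2625 (iv D1151) D1150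
def n2626 : Q := act 2 n1151
theorem D2626 : act 2 n1151 = n2626 := rfl
def n2627 : Q := act 0 n1154
theorem D2627 : act 0 n1154 = n2627 := rfl
def n2628 : Q := act 2 n1154
theorem D2628 : act 2 n1154 = n2628 := rfl
def n2629 : Q := act 3 n1154
theorem D2629 : act 3 n1154 = n2629 := rfl
theorem F1723 : act 1 n2629 = n1156 := d5_1 D2629 (iv D1156) D1154
def n2630 : Q := act 4 n1154
theorem D2630 : act 4 n1154 = n2630 := rfl
theorem F1724 : act 1 n2630 = n1157 := d6_1 D2630 (iv D1157) D1154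
def n2631 : Q := act 1 n1155
theorem D2631 : act 1 n1155 = n2631 := rfl
def n2632 : Q := act 4 n1155
theorem D2632 : act 4 n1155 = n2632 := rfl
theorem F1725 : act 0 n2632 = n1207 := d3_1 D2632 (iv D1207) (iv F640)
theorem F1726 : act 2 n2632 = n1168 := d11_2 D1155 D2632 (iv D1168) (iv D475) (iv D180) (iv F77) D469
def n2633 : Q := act 2 n1157
theorem D2633 : act 2 n1157 = n2633 := rfl
theorem F1727 : act 0 n2633 = n1434 := d11_3 (iv D1155) D1157 D2633 (iv D1434) (iv D593) (iv F238) (iv F640)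
def n2634 : Q := act 0 n1158
theorem D2634 : act 0 n1158 = n2634 := rfl
theorem F1728 : act 2 n2634 = n1166 := d1_2 D1158 D2634 F644 D1434 (iv F1727) (iv D2633) F642
def n2636 : Q := act 4 n1158
theorem D2636 : act 4 n1158 = n2636 := rfl
theorem F1729 : act 2 n2636 = n1170 := d8_1 D2636 (iv D1170) (iv D475) (iv D180) (iv F77) D470 D1158
def n2637 : Q := act 2 n1162
theorem D2637 : act 2 n1162 = n2637 := rfl
def n2638 : Q := act 4 n1162
theorem D2638 : act 4 n1162 = n2638 := rfl
theorem F1730 : act 0 n2638 = n1164 := d3_1 D2638 (iv D1164) D1162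
def n2639 : Q := act 0 n1163
theorem D2639 : act 0 n1163 = n2639 := rfl
def n2640 : Q := act 4 n1163
theorem D2640 : act 4 n1163 = n2640 := rfl
def n2641 : Q := act 2 n1164
theorem D2641 : act 2 n1164 = n2641 := rfl
def n2642 : Q := act 0 n1165
theorem D2642 : act 0 n1165 = n2642 := rfl
def n2643 : Q := act 2 n1165
theorem D2643 : act 2 n1165 = n2643 := rfl
def n2644 : Q := act 4 n1165
theorem D2644 : act 4 n1165 = n2644 := rfl
theorem F1731 : act 1 n2644 = n1166 := d6_1 D2644 (iv D1166) D1165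
def n2646 : Q := act 1 n1167
theorem D2646 : act 1 n1167 = n2646 := rfl
def n2647 : Q := act 4 n1167
theorem D2647 : act 4 n1167 = n2647 := rfl
def n2649 : Q := act 3 n1168
theorem D2649 : act 3 n1168 = n2649 := rfl
theorem F1734 : act 0 n2649 = n1395 := d2_1 D2649 F778 D1495 (iv F1706) (iv D2598) F631 D1168
def n2650 : Q := act 4 n1168
theorem D2650 : act 4 n1168 = n2650 := rfl
theorem F1735 : act 0 n2650 = n1170 := d3_1 D2650 (iv D1170) D1168
def n2655 : Q := act 0 n1171
theorem D2655 : act 0 n1171 = n2655 := rfl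
theorem F1737 : act 2 n2655 = n2655 := d10_2 D1171 D2655 (iv D2655) (iv D1171) F229 F82 (iv F229)
def n2656 : Q := act 4 n1171
theorem D2656 : act 4 n1171 = n2656 := rfl
theorem F1738 : act 1 n2656 = n1176 := d6_1 D2656 (iv D1176) (iv F645)
def n2657 : Q := act 2 n1172
theorem D2657 : act 2 n1172 = n2657 := rfl
theorem F1739 : act 4 n2657 = n2111 := d11_1 D2657 F1286 F790 F290 (iv F680) (iv D1223) (iv F646)
theorem F1740 : act 0 n2657 = n2440 := d11_3 F308 D1172 D2657 (iv D2440) (iv D1054) F201 (iv F307)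
theorem F1741 : act 1 n2657 = n2113 := d14_2 (iv F647) D2657 F1288 F633 (iv F571) (iv F671) (iv D1212) (iv D495) (iv D189) (iv F79) (iv F231)
def n2658 : Q := act 3 n1172
theorem D2658 : act 3 n1172 = n2658 := rfl
theorem F1742 : act 1 n2658 = n1178 := d5_1 D2658 (iv D1178) (iv F647)
def n2659 : Q := act 0 n1173
theorem D2659 : act 0 n1173 = n2659 := rfl
theorem F1743 : act 1 n2659 = n1352 := d13_2 (iv F648) D2659 (iv F926) F753 F924 F271 D823 D1936 F1155 (iv F1164) (iv D1175)
theorem F1744 : act 3 n2659 = n1350 := d16_2 D1173 D2659 (iv D1350) D1351 F757 (iv D663) (iv D256) D254 (iv F178) (iv D393) D392 (iv F230)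
def n2660 : Q := act 4 n1173
theorem D2660 : act 4 n1173 = n2660 := rfl
def n2661 : Q := act 2 n1174
theorem D2661 : act 2 n1174 = n2661 := rfl
theorem F1745 : act 0 n2661 = n1186 := d11_3 D477 D1174 D2661 (iv D1186) (iv D483) (iv D182) D181
def n2662 : Q := act 3 n1174
theorem D2662 : act 3 n1174 = n2662 := rfl
def n2663 : Q := act 2 n1175
theorem D2663 : act 2 n1175 = n2663 := rfl
theorem F1746 : act 3 n2663 = n1947 := d7_2 (iv F1165) D2663 (iv D1947)
theorem F1747 : act 0 n2663 = n1179 := d10_3 D478 D1175 D2663 (iv D1179) (iv D480) (iv D182) D181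
def n2664 : Q := act 4 n1175
theorem D2664 : act 4 n1175 = n2664 := rfl
theorem F1748 : act 0 n2664 = n1176 := d3_1 D2664 (iv D1176) D1175
theorem F1749 : act 1 n2664 = n1953 := d6_1 D2664 (iv D1953) (iv F1164)
def n2665 : Q := act 2 n1176
theorem D2665 : act 2 n1176 = n2665 := rfl
def n2666 : Q := act 3 n1176
theorem D2666 : act 3 n1176 = n2666 := rfl
theorem F1750 : act 0 n2666 = n1193 := d12_3 D478 D1176 D2666 (iv D1193) (iv D485) (iv D183) D181
def n2667 : Q := act 0 n1177
theorem D2667 : act 0 n1177 = n2667 := rfl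
theorem F1751 : act 2 n2667 = n2302 := d1_2 D1177 D2667 F1416 F851 (iv D1194) (iv D486) (iv F231)
def n2668 : Q := act 1 n1177
theorem D2668 : act 1 n1177 = n2668 := rfl
def n2669 : Q := act 3 n1177
theorem D2669 : act 3 n1177 = n2669 := rfl
theorem F1752 : act 2 n2669 = n1178 := d7_1 D2669 (iv D1178) D1177
def n2670 : Q := act 4 n1177
theorem D2670 : act 4 n1177 = n2670 := rfl
def n2671 : Q := act 0 n1178
theorem D2671 : act 0 n1178 = n2671 := rfl
theorem F1753 : act 3 n2671 = n1949 := d12_4 (iv D478) D479 D1178 D2671 (iv D1949) (iv F1165) (iv D1175)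
theorem F1754 : act 1 n1955 = n2671 := d5_3 F1753 F1162 D1955
def n2672 : Q := act 4 n1178
theorem D2672 : act 4 n1178 = n2672 := rfl
def n2673 : Q := act 4 n1179
theorem D2673 : act 4 n1179 = n2673 := rfl
theorem F1755 : act 1 n2673 = n2673 := d6_1 D2673 (iv D2673) F650
def n2674 : Q := act 2 n1180
theorem D2674 : act 2 n1180 = n2674 := rfl
theorem F1756 : act 0 n2674 = n2304 := d1_1 D2674 (iv D2304) (iv F649) D2661 F1745 (iv D1186) (iv F651)
theorem F1757 : act 1 n2134 = n2674 := d13_2 D907 D2134 F1756 (iv D2304) (iv F649) (iv F833) F832 (iv F485) (iv F1282) F1283 F475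
def n2675 : Q := act 3 n1180
theorem D2675 : act 3 n1180 = n2675 := rfl
theorem F1758 : act 1 n2675 = n2675 := d5_1 D2675 (iv D2675) F652
def n2676 : Q := act 3 n1181
theorem D2676 : act 3 n1181 = n2676 := rfl
theorem F1759 : act 1 n2676 = n1200 := d5_1 D2676 (iv D1200) (iv F654)
theorem F1760 : act 2 n2676 = n1182 := d7_1 D2676 (iv D1182) D1181
theorem F1761 : act 0 n2676 = n2322 := d10_1 D2676 (iv D2322) (iv D995) (iv D398) D396 D990 (iv F653)
def n2677 : Q := act 4 n1181
theorem D2677 : act 4 n1181 = n2677 := rfl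
theorem F1762 : act 0 n2677 = n2314 := d3_1 D2677 (iv D2314) (iv F653)
theorem F1763 : act 1 n2677 = n1201 := d6_1 D2677 (iv D1201) (iv F654)
def n2678 : Q := act 0 n1182
theorem D2678 : act 0 n1182 = n2678 := rfl
theorem F1764 : act 2 n2678 = n2318 := d1_2 F1760 D2678 (iv D2318) F528 D995 D2322 (iv F1761)
def n2679 : Q := act 4 n1182
theorem D2679 : act 4 n1182 = n2679 := rfl
theorem F1765 : act 1 n2679 = n1185 := d6_1 D2679 (iv D1185) (iv F655)
def n2680 : Q := act 2 n1183
theorem D2680 : act 2 n1183 = n2680 := rfl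
theorem F1766 : act 0 n2680 = n2316 := d1_1 D2680 (iv D2316) F525 D997 (iv F1355) (iv F1356) F990
def n2681 : Q := act 3 n1183
theorem D2681 : act 3 n1183 = n2681 := rfl
theorem F1767 : act 1 n2681 = n1187 := d5_1 D2681 (iv D1187) (iv F656)
def n2682 : Q := act 1 n1184
theorem D2682 : act 1 n1184 = n2682 := rfl
def n2683 : Q := act 2 n1184
theorem D2683 : act 2 n1184 = n2683 := rfl
theorem F1768 : act 0 n2683 = n2301 := d1_1 D2683 F1415 (iv F657) (iv D1189) (iv D484) (iv F233) D1184
theorem F1769 : act 3 n2683 = n1797 := d16_2 D2301 (iv F1768) (iv D1797) D1798 F1057 F861 (iv D1037) (iv F311) F312 (iv D634) D633 (iv F514)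
theorem F1770 : act 1 n1799 = n2683 := d5_3 F1769 (iv D1797) D1799
def n2684 : Q := act 3 n1184
theorem D2684 : act 3 n1184 = n2684 := rfl
theorem F1771 : act 0 n2684 = n1947 := d2_1 D2684 (iv F1746) F1747 (iv D1179) (iv D480) D482 D1184
theorem F1772 : act 2 n2684 = n1797 := d7_1 D2684 (iv F1769) (iv D2683)
theorem F1773 : act 1 n2684 = n1290 := d16_3 D482 D1184 D2684 (iv F860) (iv D1538) (iv D641) (iv D248) D246 D633 F348 F232 (iv D480)
theorem F1774 : act 3 n2682 = n1290 := d5_2 (iv D2684) D2682 (iv F1773)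
def n2685 : Q := act 4 n1184
theorem D2685 : act 4 n1184 = n2685 := rfl
theorem F1775 : act 0 n2685 = n1185 := d3_1 D2685 (iv D1185) D1184
def n2686 : Q := act 2 n1185
theorem D2686 : act 2 n1185 = n2686 := rfl
def n2687 : Q := act 3 n1185
theorem D2687 : act 3 n1185 = n2687 := rfl
def n2688 : Q := act 3 n1186
theorem D2688 : act 3 n1186 = n2688 := rfl
theorem F1776 : act 2 n2688 = n1187 := d7_1 D2688 (iv D1187) D1186
def n2689 : Q := act 4 n1186
theorem D2689 : act 4 n1186 = n2689 := rfl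
theorem F1777 : act 2 n2689 = n1197 := d8_1 D2689 (iv D1197) (iv D486) (iv D184) D182 D483 D1186
def n2690 : Q := act 0 n1187
theorem D2690 : act 0 n1187 = n2690 := rfl
def n2691 : Q := act 4 n1187
theorem D2691 : act 4 n1187 = n2691 := rfl
def n2692 : Q := act 2 n1188
theorem D2692 : act 2 n1188 = n2692 := rfl
theorem F1778 : act 0 n2692 = n2473 := d15_1 D2692 (iv D2473) (iv D1069) (iv D432) F70 F24 D60 D170 D451 D1115 D2559 F1672
theorem F1779 : act 1 n1553 = n2692 := d16_3 D417 (iv F317) D1553 (iv D2692) (iv D1188) (iv D484) (iv D183) D181 D476 (iv F308) (iv D626) F106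
theorem F1780 : act 3 n2692 = n1552 := d5_2 D1553 F1779 (iv D1552)
def n2693 : Q := act 3 n1188
theorem D2693 : act 3 n1188 = n2693 := rfl
theorem F1781 : act 1 n2693 = n1190 := d5_1 D2693 (iv D1190) D1188
theorem F1782 : act 2 n2693 = n1552 := d7_1 D2693 (iv F1780) (iv D2692)
theorem F1783 : act 0 n1260 = n2693 := d13_11 F1782 F877 (iv D1373) (iv D566) D567 D1377 (iv F1222) F705 (iv D831) (iv F252) (iv F712)
def n2694 : Q := act 4 n1188
theorem D2694 : act 4 n1188 = n2694 := rfl
theorem F1784 : act 1 n2694 = n1191 := d6_1 D2694 (iv D1191) D1188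
def n2695 : Q := act 1 n1189
theorem D2695 : act 1 n1189 = n2695 := rfl
theorem F1785 : act 2 n2695 = n1550 := d4_2 D1189 D2695 F875 (iv F878) F1779 (iv D2692) (iv D1188)
theorem F1786 : act 3 n1549 = n2695 := d7_0 F1785 (iv D1550) D1549
def n2696 : Q := act 3 n1189
theorem D2696 : act 3 n1189 = n2696 := rfl
theorem F1787 : act 0 n2696 = n1350 := d2_1 D2696 (iv F1744) (iv D2659) (iv D1173) F230 D983 (iv F657)
theorem F1788 : act 1 n2696 = n1549 := d5_1 D2696 F1786 (iv D2695)
theorem F1789 : act 2 n2696 = n1190 := d7_1 D2696 (iv D1190) D1189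
def n2697 : Q := act 4 n1189
theorem D2697 : act 4 n1189 = n2697 := rfl
theorem F1790 : act 0 n2697 = n2303 := d3_1 D2697 (iv D2303) (iv F657)
def n2698 : Q := act 4 n1190
theorem D2698 : act 4 n1190 = n2698 := rfl
theorem F1791 : act 0 n2698 = n1949 := d3_1 D2698 (iv D1949) (iv F1166)
theorem F1792 : act 3 n2698 = n1198 := d12_2 D1190 D2698 (iv D1198) (iv D487) (iv D184) D183 D484
def n2699 : Q := act 2 n1191
theorem D2699 : act 2 n1191 = n2699 := rfl
def n2700 : Q := act 3 n1191
theorem D2700 : act 3 n1191 = n2700 := rfl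
def n2701 : Q := act 0 n1192
theorem D2701 : act 0 n1192 = n2701 := rfl
def n2702 : Q := act 1 n1192
theorem D2702 : act 1 n1192 = n2702 := rfl
def n2703 : Q := act 3 n1192
theorem D2703 : act 3 n1192 = n2703 := rfl
theorem F1793 : act 2 n2703 = n1193 := d7_1 D2703 (iv D1193) D1192
def n2704 : Q := act 4 n1192
theorem D2704 : act 4 n1192 = n2704 := rfl
def n2705 : Q := act 4 n1193
theorem D2705 : act 4 n1193 = n2705 := rfl
theorem F1794 : act 1 n2705 = n1211 := d6_1 D2705 (iv D1211) (iv F659)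
theorem F1795 : act 3 n2705 = n1199 := d9_1 D2705 (iv D1199) (iv D487) (iv D184) D183 D485 D1193
def n2706 : Q := act 1 n1194
theorem D2706 : act 1 n1194 = n2706 := rfl
def n2707 : Q := act 3 n1194
theorem D2707 : act 3 n1194 = n2707 := rfl
def n2708 : Q := act 4 n1194
theorem D2708 : act 4 n1194 = n2708 := rfl
theorem F1796 : act 0 n2708 = n1197 := d3_1 D2708 (iv D1197) D1194
def n2709 : Q := act 0 n1195
theorem D2709 : act 0 n1195 = n2709 := rfl
def n2710 : Q := act 2 n1195
theorem D2710 : act 2 n1195 = n2710 := rfl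
theorem F1797 : act 1 n2710 = n1213 := d4_1 D2710 (iv D1213) (iv D495) (iv D189) (iv F79) D486 D1195
def n2711 : Q := act 3 n1195
theorem D2711 : act 3 n1195 = n2711 := rfl
theorem F1798 : act 1 n2711 = n1196 := d5_1 D2711 (iv D1196) D1195
def n2712 : Q := act 4 n1195
theorem D2712 : act 4 n1195 = n2712 := rfl
theorem F1799 : act 1 n2712 = n1197 := d6_1 D2712 (iv D1197) D1195
def n2713 : Q := act 0 n1196
theorem D2713 : act 0 n1196 = n2713 := rfl
def n2714 : Q := act 4 n1196
theorem D2714 : act 4 n1196 = n2714 := rfl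
def n2715 : Q := act 3 n1197
theorem D2715 : act 3 n1197 = n2715 := rfl
def n2716 : Q := act 1 n1198
theorem D2716 : act 1 n1198 = n2716 := rfl
def n2717 : Q := act 2 n1198
theorem D2717 : act 2 n1198 = n2717 := rfl
def n2718 : Q := act 4 n1198
theorem D2718 : act 4 n1198 = n2718 := rfl
theorem F1800 : act 0 n2718 = n1199 := d3_1 D2718 (iv D1199) D1198
def n2719 : Q := act 2 n1199
theorem D2719 : act 2 n1199 = n2719 := rfl
def n2720 : Q := act 0 n1200
theorem D2720 : act 0 n1200 = n2720 := rfl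
theorem F1801 : act 2 n2720 = n1579 := d10_2 D1200 D2720 (iv D1579) (iv D658) (iv D254) D255 (iv F344)
def n2721 : Q := act 4 n1200
theorem D2721 : act 4 n1200 = n2721 := rfl
def n2722 : Q := act 2 n1201
theorem D2722 : act 2 n1201 = n2722 := rfl
def n2723 : Q := act 3 n1201
theorem D2723 : act 3 n1201 = n2723 := rfl
def n2724 : Q := act 1 n1202
theorem D2724 : act 1 n1202 = n2724 := rfl
theorem F1802 : act 2 n2724 = n2355 := d15_6 D170 F73 (iv F80) (iv F236) D1202 D2724 (iv D2355) (iv D1009) (iv D404) (iv D153) F21 D60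
def n2725 : Q := act 2 n1202
theorem D2725 : act 2 n1202 = n2725 := rfl
theorem F1803 : act 0 n2725 = n1577 := d1_1 D2725 F889 D1579 (iv F1801) (iv D2720) F662 D1202
def n2726 : Q := act 3 n1202
theorem D2726 : act 3 n1202 = n2726 := rfl
def n2727 : Q := act 4 n1202
theorem D2727 : act 4 n1202 = n2727 := rfl
theorem F1804 : act 0 n2727 = n1203 := d3_1 D2727 (iv D1203) D1202
def n2728 : Q := act 2 n1203
theorem D2728 : act 2 n1203 = n2728 := rfl
def n2729 : Q := act 3 n1203
theorem D2729 : act 3 n1203 = n2729 := rfl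
theorem F1805 : act 1 n2729 = n1206 := d5_1 D2729 (iv D1206) (iv F664)
def n2730 : Q := act 1 n1204
theorem D2730 : act 1 n1204 = n2730 := rfl
theorem F1806 : act 0 n2730 = n2391 := d0_1 D2730 F1486 F1319 (iv D1440) D1439 F800 (iv F665)
theorem F1807 : act 2 n2730 = n1427 := d4_2 D1204 D2730 (iv D1427) (iv D590) (iv D228) (iv F81) (iv F237)
def n2731 : Q := act 3 n1204
theorem D2731 : act 3 n1204 = n2731 := rfl
theorem F1808 : act 2 n2731 = n1205 := d7_1 D2731 (iv D1205) D1204
def n2732 : Q := act 4 n1204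
theorem D2732 : act 4 n1204 = n2732 := rfl
theorem F1809 : act 0 n2732 = n1593 := d3_1 D2732 (iv D1593) (iv F665)
def n2733 : Q := act 0 n1205
theorem D2733 : act 0 n1205 = n2733 := rfl
def n2734 : Q := act 4 n1205
theorem D2734 : act 4 n1205 = n2734 := rfl
theorem F1810 : act 1 n2734 = n1207 := d6_1 D2734 (iv D1207) (iv F666)
def n2735 : Q := act 4 n1206
theorem D2735 : act 4 n1206 = n2735 := rfl
theorem F1811 : act 3 n2735 = n1207 := d9_1 D2735 (iv D1207) (iv D492) (iv D187) D186 D491 D1206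
theorem F1812 : act 2 n2735 = n1419 := d11_2 (iv F667) D2735 (iv D1419) (iv D588) (iv D227) (iv F97) D585
def n2736 : Q := act 0 n1208
theorem D2736 : act 0 n1208 = n2736 := rfl
def n2737 : Q := act 2 n1208
theorem D2737 : act 2 n1208 = n2737 := rfl
def n2738 : Q := act 3 n1208
theorem D2738 : act 3 n1208 = n2738 := rfl
theorem F1813 : act 1 n2738 = n1209 := d5_1 D2738 (iv D1209) D1208
def n2739 : Q := act 4 n1208
theorem D2739 : act 4 n1208 = n2739 := rfl
theorem F1814 : act 1 n2739 = n1210 := d6_1 D2739 (iv D1210) D1208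
theorem F1815 : act 3 n1215 = n2739 := d5_0 F1814 F1199 (iv F675)
def n2740 : Q := act 4 n1209
theorem D2740 : act 4 n1209 = n2740 := rfl
theorem F1816 : act 3 n2740 = n1216 := d9_1 D2740 (iv D1216) (iv D496) D497 (iv F1199) (iv D1210) D1209
def n2741 : Q := act 2 n1211
theorem D2741 : act 2 n1211 = n2741 := rfl
def n2742 : Q := act 2 n1212
theorem D2742 : act 2 n1212 = n2742 := rfl
def n2743 : Q := act 3 n1212
theorem D2743 : act 3 n1212 = n2743 := rfl
theorem F1818 : act 1 n2743 = n2430 := d5_1 D2743 F1513 (iv F671)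
theorem F1819 : act 4 n2428 = n2743 := d6_0 F1818 (iv D2430) D2428
def n2744 : Q := act 0 n1213
theorem D2744 : act 0 n1213 = n2744 := rfl
def n2745 : Q := act 3 n1213
theorem D2745 : act 3 n1213 = n2745 := rfl
theorem F1820 : act 2 n2745 = n1214 := d7_1 D2745 (iv D1214) D1213
def n2746 : Q := act 4 n1213
theorem D2746 : act 4 n1213 = n2746 := rfl
def n2747 : Q := act 0 n1214
theorem D2747 : act 0 n1214 = n2747 := rfl
def n2748 : Q := act 4 n1214
theorem D2748 : act 4 n1214 = n2748 := rfl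
theorem F1821 : act 1 n2748 = n1216 := d6_1 D2748 (iv D1216) (iv F673)
def n2749 : Q := act 2 n1215
theorem D2749 : act 2 n1215 = n2749 := rfl
def n2750 : Q := act 2 n1216
theorem D2750 : act 2 n1216 = n2750 := rfl
def n2751 : Q := act 0 n1218
theorem D2751 : act 0 n1218 = n2751 := rfl
def n2752 : Q := act 2 n1218
theorem D2752 : act 2 n1218 = n2752 := rfl
def n2753 : Q := act 4 n1218
theorem D2753 : act 4 n1218 = n2753 := rfl
theorem F1822 : act 1 n2753 = n1219 := d6_1 D2753 (iv D1219) D1218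
def n2756 : Q := act 1 n1221
theorem D2756 : act 1 n1221 = n2756 := rfl
theorem F1823 : act 0 n2756 = n1958 := d0_1 D2756 (iv D1958) (iv D833) (iv F248) (iv D506) (iv F242) D1221
def n2757 : Q := act 3 n1221
theorem D2757 : act 3 n1221 = n2757 := rfl
def n2758 : Q := act 4 n1221
theorem D2758 : act 4 n1221 = n2758 := rfl
theorem F1824 : act 0 n2758 = n1222 := d3_1 D2758 (iv D1222) D1221
def n2759 : Q := act 2 n1222
theorem D2759 : act 2 n1222 = n2759 := rfl
theorem F1825 : act 4 n2759 = n1438 := d17_3 D507 (iv F678) D2759 F799 F798 D1443 F805 (iv D841) (iv D332) (iv F146) (iv F248) (iv D506)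
theorem F1826 : act 1 n1444 = n2759 := d17_1 D1444 (iv D2759) (iv D1222) F243 F242 D506 F248 F146 D332 D841 (iv F805) (iv D1443)
def n2760 : Q := act 3 n1222
theorem D2760 : act 3 n1222 = n2760 := rfl
theorem F1827 : act 1 n2760 = n1236 := d5_1 D2760 (iv D1236) (iv F678)
def n2761 : Q := act 0 n1223
theorem D2761 : act 0 n1223 = n2761 := rfl
theorem F1828 : act 1 n2761 = n1425 := d0_2 (iv F679) D2761 F792 F289 F100 (iv F103) (iv F291)
theorem F1829 : act 2 n2761 = n1512 := d1_2 D1223 D2761 F839 D2440 (iv F1740) (iv D2657) F646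
theorem F1830 : act 4 n2761 = n1422 := d3_2 (iv F680) D2761 F790
theorem F1831 : act 0 n1432 = n2706 := d13_5 D1223 D2761 F1828 F792 D1432 (iv D2706) (iv D1194) (iv D486) (iv F231) (iv F647) F646
def n2762 : Q := act 3 n1223
theorem D2762 : act 3 n1223 = n2762 := rfl
theorem F1832 : act 1 n2762 = n1446 := d5_1 D2762 (iv D1446) (iv F679)
theorem F1833 : act 2 n2762 = n1224 := d7_1 D2762 (iv D1224) D1223
def n2763 : Q := act 0 n1224
theorem D2763 : act 0 n1224 = n2763 := rfl
def n2764 : Q := act 4 n1224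
theorem D2764 : act 4 n1224 = n2764 := rfl
theorem F1834 : act 1 n2764 = n1242 := d6_1 D2764 (iv D1242) (iv F681)
def n2765 : Q := act 4 n1225
theorem D2765 : act 4 n1225 = n2765 := rfl
theorem F1835 : act 0 n2765 = n1264 := d3_1 D2765 (iv D1264) (iv F684)
theorem F1836 : act 1 n2765 = n1584 := d6_1 D2765 (iv D1584) (iv F682)
def n2766 : Q := act 2 n1226
theorem D2766 : act 2 n1226 = n2766 := rfl
theorem F1837 : act 0 n2766 = n1246 := d1_1 D2766 (iv D1246) F249 D516 (iv F690) (iv D1231) (iv F685)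
theorem F1838 : act 1 n2137 = n2766 := d17_1 D2137 (iv D2766) (iv D1226) F346 (iv D247) D246 D633 F348 D1180 D2674 (iv F1757) (iv D2134)
theorem F1839 : act 4 n2766 = n2135 := d6_2 D2137 F1838 (iv D2135)
def n2767 : Q := act 3 n1226
theorem D2767 : act 3 n1226 = n2767 := rfl
theorem F1840 : act 1 n2767 = n1586 := d5_1 D2767 (iv D1586) (iv F686)
def n2768 : Q := act 0 n1227
theorem D2768 : act 0 n1227 = n2768 := rfl
def n2769 : Q := act 4 n1227
theorem D2769 : act 4 n1227 = n2769 := rfl
theorem F1841 : act 1 n2769 = n1230 := d6_1 D2769 (iv D1230) (iv F687)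
def n2770 : Q := act 2 n1228
theorem D2770 : act 2 n1228 = n2770 := rfl
theorem F1842 : act 4 n2770 = n1440 := d11_1 D2770 F802 (iv F1319) (iv D2156) D2158 F1323 F955
theorem F1843 : act 0 n2770 = n1648 := d11_3 F245 D1228 D2770 (iv D1648) (iv D695) D693 F353
theorem F1844 : act 1 n1442 = n2770 := d17_1 D1442 (iv D2770) (iv D1228) F245 (iv D503) D502 F345 (iv D255) D257 D665 (iv F800) (iv D1439)
def n2771 : Q := act 3 n1228
theorem D2771 : act 3 n1228 = n2771 := rfl
theorem F1845 : act 1 n2771 = n1232 := d5_1 D2771 (iv D1232) (iv F689)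
def n2772 : Q := act 4 n1229
theorem D2772 : act 4 n1229 = n2772 := rfl
theorem F1846 : act 0 n2772 = n1230 := d3_1 D2772 (iv D1230) D1229
def n2773 : Q := act 2 n1230
theorem D2773 : act 2 n1230 = n2773 := rfl
def n2774 : Q := act 3 n1230
theorem D2774 : act 3 n1230 = n2774 := rfl
def n2775 : Q := act 1 n1231
theorem D2775 : act 1 n1231 = n2775 := rfl
def n2776 : Q := act 3 n1231
theorem D2776 : act 3 n1231 = n2776 := rfl
theorem F1847 : act 2 n2776 = n1232 := d7_1 D2776 (iv D1232) D1231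
def n2777 : Q := act 4 n1231
theorem D2777 : act 4 n1231 = n2777 := rfl
theorem F1848 : act 0 n2777 = n1256 := d3_1 D2777 (iv D1256) (iv F690)
theorem F1849 : act 2 n2777 = n1240 := d8_1 D2777 (iv D1240) (iv D508) (iv D194) D192 D505 D1231
def n2778 : Q := act 0 n1232
theorem D2778 : act 0 n1232 = n2778 := rfl
def n2779 : Q := act 4 n1232
theorem D2779 : act 4 n1232 = n2779 := rfl
def n2780 : Q := act 4 n1233
theorem D2780 : act 4 n1233 = n2780 := rfl
theorem F1850 : act 0 n2780 = n1245 := d3_1 D2780 (iv D1245) (iv F693)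
theorem F1851 : act 1 n2780 = n2008 := d6_1 D2780 (iv D2008) (iv F691)
def n2781 : Q := act 2 n1234
theorem D2781 : act 2 n1234 = n2781 := rfl
def n2782 : Q := act 3 n1234
theorem D2782 : act 3 n1234 = n2782 := rfl
theorem F1852 : act 0 n2782 = n1267 := d2_1 D2782 (iv D1267) F253 D523 (iv F696) (iv D1236) (iv F694)
theorem F1853 : act 1 n2782 = n1963 := d5_1 D2782 (iv D1963) (iv F695)
def n2783 : Q := act 0 n1235
theorem D2783 : act 0 n1235 = n2783 := rfl
def n2784 : Q := act 1 n1235
theorem D2784 : act 1 n1235 = n2784 := rfl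
def n2785 : Q := act 3 n1235
theorem D2785 : act 3 n1235 = n2785 := rfl
theorem F1854 : act 2 n2785 = n1236 := d7_1 D2785 (iv D1236) D1235
def n2786 : Q := act 4 n1235
theorem D2786 : act 4 n1235 = n2786 := rfl
def n2787 : Q := act 4 n1236
theorem D2787 : act 4 n1236 = n2787 := rfl
theorem F1855 : act 0 n2787 = n1272 := d3_1 D2787 (iv D1272) (iv F696)
theorem F1856 : act 3 n2787 = n1242 := d9_1 D2787 (iv D1242) (iv D509) (iv D194) D193 D507 D1236
def n2788 : Q := act 1 n1237
theorem D2788 : act 1 n1237 = n2788 := rfl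
theorem F1857 : act 0 n2788 = n2749 := d13_3 D508 D1237 D2788 (iv D2749) F674 (iv D1048) F200 (iv D189) F25 (iv F28) (iv F83)
def n2789 : Q := act 3 n1237
theorem D2789 : act 3 n1237 = n2789 := rfl
theorem F1858 : act 2 n2789 = n1537 := d7_1 D2789 (iv D1537) (iv F697)
theorem F1859 : act 0 n2789 = n1284 := d10_1 D2789 (iv D1284) (iv D528) (iv D201) (iv F83) D508 D1237
def n2790 : Q := act 4 n1237
theorem D2790 : act 4 n1237 = n2790 := rfl
theorem F1860 : act 0 n2790 = n1240 := d3_1 D2790 (iv D1240) D1237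
theorem F1861 : act 2 n2790 = n2135 := d8_1 D2790 (iv F1839) (iv D2766) (iv D1226) F346 D640 (iv F697)
theorem F1862 : act 1 n1613 = n2790 := d4_7 F1861 (iv D2135) (iv D907) F167 (iv F117) (iv F333) D1613
theorem F1863 : act 4 n2788 = n1613 := d6_0 F1862 (iv D2790) D2788
def n2791 : Q := act 0 n1238
theorem D2791 : act 0 n1238 = n2791 := rfl
def n2792 : Q := act 2 n1238
theorem D2792 : act 2 n1238 = n2792 := rfl
theorem F1864 : act 1 n2792 = n1445 := d4_1 D2792 (iv D1445) (iv F679) (iv D1223) F244 D508 D1238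
def n2793 : Q := act 3 n1238
theorem D2793 : act 3 n1238 = n2793 := rfl
theorem F1865 : act 1 n2793 = n1239 := d5_1 D2793 (iv D1239) D1238
def n2794 : Q := act 4 n1238
theorem D2794 : act 4 n1238 = n2794 := rfl
theorem F1866 : act 1 n2794 = n1240 := d6_1 D2794 (iv D1240) D1238
theorem F1867 : act 2 n2794 = n2794 := d14_1 (iv F1866) F1866 (iv F1860) (iv F1862) (iv D1613) F333 F116 (iv F333) D1613 F1862 F1860
def n2795 : Q := act 0 n1239
theorem D2795 : act 0 n1239 = n2795 := rfl
def n2796 : Q := act 4 n1239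
theorem D2796 : act 4 n1239 = n2796 := rfl
def n2797 : Q := act 3 n1240
theorem D2797 : act 3 n1240 = n2797 := rfl
def n2798 : Q := act 2 n1241
theorem D2798 : act 2 n1241 = n2798 := rfl
theorem F1868 : act 3 n2798 = n1957 := d7_2 (iv F699) D2798 (iv D1957)
theorem F1869 : act 0 n2798 = n1274 := d10_3 D509 D1241 D2798 (iv D1274) (iv D524) (iv D200) (iv F83)
def n2799 : Q := act 4 n1241
theorem D2799 : act 4 n1241 = n2799 := rfl
theorem F1870 : act 0 n2799 = n1242 := d3_1 D2799 (iv D1242) D1241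
theorem F1871 : act 1 n2799 = n1968 := d6_1 D2799 (iv D1968) F700
def n2800 : Q := act 2 n1242
theorem D2800 : act 2 n1242 = n2800 := rfl
def n2801 : Q := act 4 n1243
theorem D2801 : act 4 n1243 = n2801 := rfl
def n2802 : Q := act 3 n1244
theorem D2802 : act 3 n1244 = n2802 := rfl
theorem F1872 : act 2 n2802 = n1274 := d7_1 D2802 (iv D1274) (iv F703)
def n2803 : Q := act 2 n1245
theorem D2803 : act 2 n1245 = n2803 := rfl
def n2804 : Q := act 3 n1245
theorem D2804 : act 3 n1245 = n2804 := rfl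
theorem F1873 : act 0 n2804 = n1253 := d12_3 D512 D1245 D2804 (iv D1253) (iv D515) (iv D196) D195
def n2805 : Q := act 1 n1246
theorem D2805 : act 1 n1246 = n2805 := rfl
theorem F1874 : act 2 n2617 = n2805 := d17_10 F1839 (iv D2135) (iv D907) (iv D361) D359 D902 (iv F806) (iv F1718) (iv D2615) D2617 (iv D2805) (iv F1837)
def n2806 : Q := act 3 n1246
theorem D2806 : act 3 n1246 = n2806 := rfl
theorem F1875 : act 2 n2806 = n1247 := d7_1 D2806 (iv D1247) D1246
def n2807 : Q := act 4 n1246
theorem D2807 : act 4 n1246 = n2807 := rfl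
theorem F1876 : act 0 n2807 = n2135 := d3_1 D2807 (iv F1839) F1837
theorem F1877 : act 2 n2807 = n1275 := d8_1 D2807 (iv D1275) (iv F703) (iv D1244) (iv D511) D513 D1246
def n2808 : Q := act 0 n1247
theorem D2808 : act 0 n1247 = n2808 := rfl
theorem F1878 : act 3 n2808 = n1956 := d12_4 (iv D512) D513 D1247 D2808 (iv D1956) (iv F692) F693
theorem F1879 : act 1 n2010 = n2808 := d5_3 F1878 F1170 D2010
def n2809 : Q := act 4 n1247
theorem D2809 : act 4 n1247 = n2809 := rfl
def n2810 : Q := act 2 n1248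
theorem D2810 : act 2 n1248 = n2810 := rfl
theorem F1880 : act 1 n2810 = n1801 := d14_2 D1248 D2810 (iv D1801) (iv D764) (iv D299) (iv D109) (iv D37) (iv F13) (iv F40) (iv F84) D514
def n2811 : Q := act 4 n1248
theorem D2811 : act 4 n1248 = n2811 := rfl
theorem F1881 : act 1 n2811 = n1251 := d6_1 D2811 (iv D1251) D1248
def n2812 : Q := act 1 n1249
theorem D2812 : act 1 n1249 = n2812 := rfl
theorem F1882 : act 2 n2812 = n1377 := d4_2 D1249 D2812 (iv F1222) F1060 (iv F1880) (iv D2810) (iv D1248)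
theorem F1883 : act 3 n2812 = n2810 := d5_2 F1059 D2812 F1880
def n2813 : Q := act 4 n1249
theorem D2813 : act 4 n1249 = n2813 := rfl
theorem F1884 : act 0 n2813 = n1536 := d3_1 D2813 (iv D1536) (iv F704)
theorem F1885 : act 2 n2813 = n1268 := d11_2 D1249 D2813 (iv D1268) (iv D522) (iv D199) (iv F85) D514
def n2814 : Q := act 4 n1250
theorem D2814 : act 4 n1250 = n2814 := rfl
theorem F1886 : act 0 n2814 = n1956 := d3_1 D2814 (iv D1956) (iv F705)
theorem F1887 : act 3 n2814 = n1257 := d12_2 D1250 D2814 (iv D1257) (iv D517) (iv D197) D196 D514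
def n2815 : Q := act 2 n1251
theorem D2815 : act 2 n1251 = n2815 := rfl
def n2816 : Q := act 3 n1251
theorem D2816 : act 3 n1251 = n2816 := rfl
def n2817 : Q := act 0 n1252
theorem D2817 : act 0 n1252 = n2817 := rfl
theorem F1888 : act 2 n2817 = n1264 := d11_4 (iv F85) D515 D1252 D2817 (iv D1264) (iv D519) (iv D198)
def n2818 : Q := act 1 n1252
theorem D2818 : act 1 n1252 = n2818 := rfl
def n2819 : Q := act 3 n1252
theorem D2819 : act 3 n1252 = n2819 := rfl
theorem F1889 : act 2 n2819 = n1253 := d7_1 D2819 (iv D1253) D1252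
def n2820 : Q := act 4 n1252
theorem D2820 : act 4 n1252 = n2820 := rfl
theorem F1890 : act 2 n2820 = n1271 := d8_1 D2820 (iv D1271) (iv D522) (iv D199) (iv F85) D515 D1252
def n2821 : Q := act 4 n1253
theorem D2821 : act 4 n1253 = n2821 := rfl
theorem F1891 : act 1 n2821 = n1717 := d6_1 D2821 (iv D1717) (iv F707)
theorem F1892 : act 3 n2821 = n1258 := d9_1 D2821 (iv D1258) (iv D517) (iv D197) D196 D515 D1253
def n2822 : Q := act 0 n1254
theorem D2822 : act 0 n1254 = n2822 := rfl
theorem F1893 : act 4 n2822 = n1885 := d3_2 (iv F1366) D2822 (iv D1885)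
theorem F1894 : act 1 n2822 = n2689 := d17_7 (iv D24) D22 D69 D197 D516 D1254 D2822 F1777 (iv D1197) (iv D486) F79 F25
def n2823 : Q := act 2 n1254
theorem D2823 : act 2 n1254 = n2823 := rfl
theorem F1895 : act 1 n2823 = n1719 := d4_1 D2823 (iv D1719) (iv D726) (iv D284) (iv F86) D516 D1254
theorem F1896 : act 4 n2823 = n1877 := d8_2 (iv F1366) D2823 (iv D1877) (iv D798) (iv D314) D316 D801
def n2824 : Q := act 3 n1254
theorem D2824 : act 3 n1254 = n2824 := rfl
theorem F1897 : act 1 n2824 = n1255 := d5_1 D2824 (iv D1255) D1254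
def n2825 : Q := act 0 n1255
theorem D2825 : act 0 n1255 = n2825 := rfl
def n2826 : Q := act 4 n1255
theorem D2826 : act 4 n1255 = n2826 := rfl
def n2827 : Q := act 3 n1256
theorem D2827 : act 3 n1256 = n2827 := rfl
theorem F1898 : act 1 n2827 = n1887 := d5_1 D2827 (iv D1887) (iv F1358)
theorem F1899 : act 2 n2827 = n1282 := d7_1 D2827 (iv D1282) (iv F709)
def n2828 : Q := act 1 n1257
theorem D2828 : act 1 n1257 = n2828 := rfl
def n2829 : Q := act 2 n1257
theorem D2829 : act 2 n1257 = n2829 := rfl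
def n2830 : Q := act 4 n1257
theorem D2830 : act 4 n1257 = n2830 := rfl
theorem F1900 : act 0 n2830 = n1258 := d3_1 D2830 (iv D1258) D1257
def n2831 : Q := act 2 n1258
theorem D2831 : act 2 n1258 = n2831 := rfl
def n2832 : Q := act 3 n1259
theorem D2832 : act 3 n1259 = n2832 := rfl
theorem F1901 : act 1 n2832 = n1288 := d5_1 D2832 (iv D1288) (iv F711)
theorem F1902 : act 2 n2832 = n2472 := d7_1 D2832 F1607 (iv F1053)
def n2833 : Q := act 4 n1259
theorem D2833 : act 4 n1259 = n2833 := rfl
theorem F1903 : act 0 n2833 = n1261 := d3_1 D2833 (iv D1261) D1259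
theorem F1904 : act 1 n2833 = n1289 := d6_1 D2833 (iv D1289) (iv F711)
def n2834 : Q := act 4 n1260
theorem D2834 : act 4 n1260 = n2834 := rfl
theorem F1905 : act 1 n2834 = n1265 := d6_1 D2834 (iv D1265) (iv F712)
theorem F1906 : act 3 n1283 = n2834 := d5_0 F1905 F717 D1283
def n2835 : Q := act 2 n1261
theorem D2835 : act 2 n1261 = n2835 := rfl
def n2836 : Q := act 3 n1261
theorem D2836 : act 3 n1261 = n2836 := rfl
theorem F1907 : act 1 n2836 = n1267 := d5_1 D2836 (iv D1267) (iv F714)
def n2837 : Q := act 0 n1262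
theorem D2837 : act 0 n1262 = n2837 := rfl
def n2838 : Q := act 2 n1262
theorem D2838 : act 2 n1262 = n2838 := rfl
theorem F1908 : act 1 n2838 = n1263 := d4_1 D2838 F715 (iv F712) (iv D1260) (iv D518) D519 D1262
theorem F1909 : act 0 n2838 = n1738 := d15_7 (iv D1587) (iv D663) (iv F323) (iv F682) F684 D1262 D2838 (iv D1738) (iv D735) (iv F349) (iv F935) F937
theorem F1910 : act 3 n1262 = n2838 := d5_0 F1908 (iv D1263) D1262
def n2839 : Q := act 4 n1262
theorem D2839 : act 4 n1262 = n2839 := rfl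
theorem F1911 : act 1 n2839 = n1264 := d6_1 D2839 (iv D1264) D1262
def n2840 : Q := act 4 n1263
theorem D2840 : act 4 n1263 = n2840 := rfl
def n2841 : Q := act 3 n1264
theorem D2841 : act 3 n1264 = n2841 := rfl
def n2842 : Q := act 2 n1265
theorem D2842 : act 2 n1265 = n2842 := rfl
theorem F1912 : act 3 n2842 = n1284 := d7_2 (iv F717) D2842 (iv D1284)
def n2843 : Q := act 0 n1266
theorem D2843 : act 0 n1266 = n2843 := rfl
theorem F1913 : act 2 n2843 = n1536 := d1_2 D1266 D2843 (iv F1884) F1885 (iv D1268) (iv D522) (iv F253)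
def n2844 : Q := act 1 n1266
theorem D2844 : act 1 n1266 = n2844 := rfl
def n2845 : Q := act 3 n1266
theorem D2845 : act 3 n1266 = n2845 := rfl
theorem F1914 : act 2 n2845 = n1267 := d7_1 D2845 (iv D1267) D1266
def n2846 : Q := act 4 n1266
theorem D2846 : act 4 n1266 = n2846 := rfl
def n2847 : Q := act 4 n1267
theorem D2847 : act 4 n1267 = n2847 := rfl
theorem F1915 : act 3 n2847 = n1285 := d9_1 D2847 (iv D1285) (iv F717) (iv D1265) (iv D520) D521 D1267
def n2848 : Q := act 1 n1268
theorem D2848 : act 1 n1268 = n2848 := rfl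
def n2849 : Q := act 3 n1268
theorem D2849 : act 3 n1268 = n2849 := rfl
def n2850 : Q := act 4 n1268
theorem D2850 : act 4 n1268 = n2850 := rfl
theorem F1916 : act 0 n2850 = n1271 := d3_1 D2850 (iv D1271) D1268
def n2851 : Q := act 0 n1269
theorem D2851 : act 0 n1269 = n2851 := rfl
def n2852 : Q := act 2 n1269
theorem D2852 : act 2 n1269 = n2852 := rfl
theorem F1917 : act 1 n2852 = n1313 := d4_1 D2852 (iv D1313) (iv D541) (iv D206) (iv F87) D522 D1269
def n2853 : Q := act 3 n1269
theorem D2853 : act 3 n1269 = n2853 := rfl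
theorem F1918 : act 1 n2853 = n1270 := d5_1 D2853 (iv D1270) D1269
def n2854 : Q := act 4 n1269
theorem D2854 : act 4 n1269 = n2854 := rfl
theorem F1919 : act 1 n2854 = n1271 := d6_1 D2854 (iv D1271) D1269
def n2855 : Q := act 0 n1270
theorem D2855 : act 0 n1270 = n2855 := rfl
def n2856 : Q := act 4 n1270
theorem D2856 : act 4 n1270 = n2856 := rfl
def n2857 : Q := act 3 n1271
theorem D2857 : act 3 n1271 = n2857 := rfl
def n2859 : Q := act 2 n1273
theorem D2859 : act 2 n1273 = n2859 := rfl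
theorem F1921 : act 4 n2859 = n2615 := d11_1 D2859 (iv D2615) (iv D1147) (iv D466) D468 D1152 (iv F1438)
def n2860 : Q := act 3 n1273
theorem D2860 : act 3 n1273 = n2860 := rfl
theorem F1922 : act 1 n2860 = n1274 := d5_1 D2860 (iv D1274) D1273
def n2861 : Q := act 4 n1273
theorem D2861 : act 4 n1273 = n2861 := rfl
theorem F1923 : act 0 n2861 = n2326 := d3_1 D2861 F1437 (iv F1438)
theorem F1924 : act 1 n2861 = n1275 := d6_1 D2861 (iv D1275) D1273
def n2862 : Q := act 4 n1274
theorem D2862 : act 4 n1274 = n2862 := rfl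
def n2863 : Q := act 3 n1275
theorem D2863 : act 3 n1275 = n2863 := rfl
def n2864 : Q := act 1 n1276
theorem D2864 : act 1 n1276 = n2864 := rfl
theorem F1925 : act 0 n2864 = n2328 := d0_1 D2864 F1436 (iv F1438) (iv D1273) (iv D524) D525 D1276
theorem F1926 : act 4 n2864 = n2209 := d6_2 (iv F1362) D2864 (iv D2209)
def n2865 : Q := act 2 n1276
theorem D2865 : act 2 n1276 = n2865 := rfl
theorem F1927 : act 4 n2865 = n2181 := d8_2 (iv F1362) D2865 (iv D2181) (iv D927) D925 D2179 F1343
theorem F1928 : act 0 n2865 = n2419 := d13_1 D2865 (iv D2419) (iv F857) (iv D1534) F313 (iv F316) (iv F702) F703 (iv D524) D525 D1276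
theorem F1929 : act 1 n1700 = n2865 := d14_2 F1042 (iv F1002) F1928 (iv D2419) (iv D1040) F193 F69 (iv F71) D434 D1076 (iv F1041)
theorem E100 : n2181 = n1698 := (c17_1 F1927 (iv D1698) (iv D718) (iv D281) D279 F343 (iv F340) F341 (iv D416) D418 D1040 D2419 (iv F1928))
theorem F1930 : act 2 n1698 = n927 := (sb E100 (iv D2181))
theorem F1931 : act 4 n1698 = n2865 := (sb E100 (iv F1927))
def n2866 : Q := act 3 n1276
theorem D2866 : act 3 n1276 = n2866 := rfl
def n2867 : Q := act 0 n1277
theorem D2867 : act 0 n1277 = n2867 := rfl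
theorem F1932 : act 4 n2867 = n2161 := d3_2 (iv F1361) D2867 F1324
theorem F1933 : act 2 n2867 = n2172 := d11_4 D373 (iv F1360) D1277 D2867 (iv D2172) (iv D922) F168
def n2868 : Q := act 3 n1277
theorem D2868 : act 3 n1277 = n2868 := rfl
theorem F1934 : act 1 n2868 = n1322 := d5_1 D2868 (iv D1322) (iv F722)
theorem F1935 : act 2 n2868 = n1278 := d7_1 D2868 (iv D1278) D1277
def n2869 : Q := act 0 n1278
theorem D2869 : act 0 n1278 = n2869 := rfl
def n2870 : Q := act 4 n1278
theorem D2870 : act 4 n1278 = n2870 := rfl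
def n2871 : Q := act 1 n1280
theorem D2871 : act 1 n1280 = n2871 := rfl
def n2872 : Q := act 2 n1280
theorem D2872 : act 2 n1280 = n2872 := rfl
theorem F1937 : act 0 n2872 = n1537 := d1_1 D2872 (iv F1858) F1859 (iv D1284) (iv D528) (iv F255) D1280
def n2873 : Q := act 3 n1280
theorem D2873 : act 3 n1280 = n2873 := rfl
theorem F1938 : act 0 n2873 = n1957 := d2_1 D2873 (iv F1868) F1869 (iv D1274) (iv D524) D526 D1280
def n2874 : Q := act 4 n1280
theorem D2874 : act 4 n1280 = n2874 := rfl
theorem F1939 : act 0 n2874 = n1281 := d3_1 D2874 (iv D1281) D1280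
def n2875 : Q := act 2 n1281
theorem D2875 : act 2 n1281 = n2875 := rfl
def n2876 : Q := act 3 n1281
theorem D2876 : act 3 n1281 = n2876 := rfl
def n2877 : Q := act 0 n1282
theorem D2877 : act 0 n1282 = n2877 := rfl
def n2878 : Q := act 4 n1282
theorem D2878 : act 4 n1282 = n2878 := rfl
theorem F1940 : act 1 n2878 = n2212 := d6_1 D2878 (iv D2212) (iv F1365)
def n2879 : Q := act 0 n1283
theorem D2879 : act 0 n1283 = n2879 := rfl
theorem F1941 : act 1 n2879 = n1333 := d0_2 D1283 D2879 (iv D1333) (iv D551) (iv D211) (iv F88) D528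
def n2880 : Q := act 2 n1283
theorem D2880 : act 2 n1283 = n2880 := rfl
def n2881 : Q := act 4 n1283
theorem D2881 : act 4 n1283 = n2881 := rfl
theorem F1942 : act 1 n2881 = n1285 := d6_1 D2881 (iv D1285) D1283
def n2882 : Q := act 1 n1284
theorem D2882 : act 1 n1284 = n2882 := rfl
def n2883 : Q := act 4 n1284
theorem D2883 : act 4 n1284 = n2883 := rfl
def n2884 : Q := act 2 n1285
theorem D2884 : act 2 n1285 = n2884 := rfl
def n2885 : Q := act 0 n1286
theorem D2885 : act 0 n1286 = n2885 := rfl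
def n2886 : Q := act 1 n1286
theorem D2886 : act 1 n1286 = n2886 := rfl
def n2887 : Q := act 4 n1286
theorem D2887 : act 4 n1286 = n2887 := rfl
def n2888 : Q := act 0 n1287
theorem D2888 : act 0 n1287 = n2888 := rfl
theorem F1943 : act 1 n2888 = n1342 := d13_2 D1287 D2888 (iv D1342) (iv D555) (iv D213) (iv D76) (iv D25) (iv F8) D72 D202 D530
theorem F1944 : act 3 n2331 = n1287 := d16_7 D773 D1826 (iv F1545) (iv D2335) (iv D1000) D999 D2331 D2888 F1943 (iv F1074) (iv D1820) (iv D771)
theorem F1945 : act 2 n1288 = n2331 := d7_3 F1944 (iv D1287) D1288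
def n2889 : Q := act 4 n1287
theorem D2889 : act 4 n1287 = n2889 := rfl
def n2890 : Q := act 0 n1288
theorem D2890 : act 0 n1288 = n2890 := rfl
theorem F1946 : act 1 n2890 = n1960 := d13_2 (iv F1945) D2890 F1542 (iv D2352) (iv D1008) (iv D404) (iv D153) (iv F64) D400 D999 D2331
theorem F1947 : act 3 n1958 = n2890 := d16_7 D1083 D2503 (iv F1596) F1565 F1523 D2756 F1823 (iv D2890) (iv F1901) F1902 F1577 (iv D1081)
theorem F1948 : act 3 n1294 = n2756 := d2_6 F1947 (iv D2890) (iv D1288) (iv D530) D532 D1294 F1823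
theorem F1949 : act 1 n2757 = n1294 := d5_3 F1948 (iv D2756) D2757
def n2891 : Q := act 4 n1288
theorem D2891 : act 4 n1288 = n2891 := rfl
theorem F1950 : act 3 n2891 = n1333 := d12_2 D1288 D2891 (iv D1333) F729 (iv D1295) (iv D532) D530
def n2892 : Q := act 2 n1289
theorem D2892 : act 2 n1289 = n2892 := rfl
def n2893 : Q := act 3 n1289
theorem D2893 : act 3 n1289 = n2893 := rfl
def n2894 : Q := act 4 n1290
theorem D2894 : act 4 n1290 = n2894 := rfl
theorem F1951 : act 0 n2894 = n1293 := d3_1 D2894 (iv D1293) D1290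
def n2895 : Q := act 0 n1291
theorem D2895 : act 0 n1291 = n2895 := rfl
theorem F1952 : act 1 n2895 = n1704 := d14_4 D202 D531 D1291 D2895 (iv D1704) (iv D720) (iv D282) (iv F84) F85 F27 D72
theorem F1953 : act 3 n2895 = n2678 := d16_7 D452 F214 (iv D204) D202 D531 D1291 D2895 (iv D2678) F655 F233 F78 (iv F73)
theorem F1954 : act 2 n2004 = n2895 := d7_3 F1953 F1764 F1429
def n2896 : Q := act 2 n1291
theorem D2896 : act 2 n1291 = n2896 := rfl
theorem F1955 : act 1 n2896 = n1299 := d4_1 D2896 (iv D1299) (iv D534) (iv D203) D202 D531 D1291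
def n2897 : Q := act 3 n1291
theorem D2897 : act 3 n1291 = n2897 := rfl
theorem F1956 : act 0 n2897 = n1688 := d2_1 D2897 (iv D1688) F366 D1182 D2678 (iv F1953) (iv D2895)
theorem F1957 : act 1 n2897 = n1292 := d5_1 D2897 (iv D1292) D1291
def n2898 : Q := act 4 n1291
theorem D2898 : act 4 n1291 = n2898 := rfl
theorem F1958 : act 1 n2898 = n1293 := d6_1 D2898 (iv D1293) D1291
def n2899 : Q := act 0 n1292
theorem D2899 : act 0 n1292 = n2899 := rfl
theorem F1959 : act 1 n2899 = n2899 := d0_2 F1957 D2899 (iv D2899) (iv F1957) F1956 F988 (iv F1956)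
def n2900 : Q := act 4 n1292
theorem D2900 : act 4 n1292 = n2900 := rfl
def n2901 : Q := act 2 n1293
theorem D2901 : act 2 n1293 = n2901 := rfl
def n2902 : Q := act 3 n1293
theorem D2902 : act 3 n1293 = n2902 := rfl
def n2903 : Q := act 2 n1294
theorem D2903 : act 2 n1294 = n2903 := rfl
theorem F1960 : act 1 n2903 = n1623 := d15_9 (iv F992) (iv D1690) (iv F989) F988 (iv F1956) F1957 F727 D1294 D2903 (iv D1623) (iv F524) (iv F762)
def n2904 : Q := act 4 n1294
theorem D2904 : act 4 n1294 = n2904 := rfl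
theorem F1961 : act 0 n2904 = n1295 := d3_1 D2904 (iv D1295) D1294
def n2905 : Q := act 2 n1295
theorem D2905 : act 2 n1295 = n2905 := rfl
theorem F1962 : act 3 n2905 = n1334 := d7_2 F729 D2905 (iv D1334)
def n2906 : Q := act 0 n1296
theorem D2906 : act 0 n1296 = n2906 := rfl
def n2907 : Q := act 1 n1296
theorem D2907 : act 1 n1296 = n2907 := rfl
def n2908 : Q := act 3 n1296
theorem D2908 : act 3 n1296 = n2908 := rfl
theorem F1963 : act 2 n2908 = n1297 := d7_1 D2908 (iv D1297) D1296
def n2909 : Q := act 4 n1296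
theorem D2909 : act 4 n1296 = n2909 := rfl
def n2910 : Q := act 0 n1297
theorem D2910 : act 0 n1297 = n2910 := rfl
def n2911 : Q := act 4 n1297
theorem D2911 : act 4 n1297 = n2911 := rfl
theorem F1964 : act 1 n2911 = n1308 := d6_1 D2911 (iv D1308) (iv F730)
theorem F1965 : act 3 n2911 = n1335 := d9_1 D2911 (iv D1335) F729 (iv D1295) (iv D532) D533 D1297
def n2912 : Q := act 2 n1298
theorem D2912 : act 2 n1298 = n2912 := rfl
theorem F1966 : act 0 n2912 = n1821 := d1_1 D2912 (iv D1821) (iv D771) D772 (iv F938) (iv D1299) D1298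
theorem F1967 : act 1 n1996 = n2912 := d13_2 D849 D1996 F1966 (iv D1821) (iv D771) (iv D302) F43 F35 (iv F16) D124 D335
theorem F1968 : act 2 n2837 = n1997 := d15_8 (iv D1821) (iv D771) D772 (iv F1062) F1061 (iv F1908) (iv D2838) D2837 (iv D1997) D1996 F1967 F1966
def n2913 : Q := act 3 n1298
theorem D2913 : act 3 n1298 = n2913 := rfl
def n2914 : Q := act 4 n1298
theorem D2914 : act 4 n1298 = n2914 := rfl
theorem F1969 : act 0 n2914 = n1301 := d3_1 D2914 (iv D1301) D1298
def n2915 : Q := act 3 n1299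
theorem D2915 : act 3 n1299 = n2915 := rfl
theorem F1970 : act 2 n2915 = n1300 := d7_1 D2915 (iv D1300) D1299
def n2916 : Q := act 4 n1299
theorem D2916 : act 4 n1299 = n2916 := rfl
theorem F1971 : act 0 n2916 = n1825 := d3_1 D2916 (iv D1825) (iv F938)
def n2917 : Q := act 4 n1300
theorem D2917 : act 4 n1300 = n2917 := rfl
theorem F1972 : act 1 n2917 = n1302 := d6_1 D2917 (iv D1302) (iv F731)
theorem F1973 : act 3 n1471 = n2917 := d5_0 F1972 F734 D1471
def n2918 : Q := act 2 n1301
theorem D2918 : act 2 n1301 = n2918 := rfl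
theorem F1974 : act 0 n2918 = n1828 := d11_3 (iv D1299) D1301 D2918 (iv D1828) (iv D774) D772 (iv F938)
def n2919 : Q := act 3 n1301
theorem D2919 : act 3 n1301 = n2919 := rfl
theorem F1975 : act 1 n2919 = n1303 := d5_1 D2919 (iv D1303) (iv F732)
def n2920 : Q := act 4 n1303
theorem D2920 : act 4 n1303 = n2920 := rfl
theorem F1976 : act 3 n2920 = n1472 := d9_1 D2920 (iv D1472) (iv F734) (iv D1302) (iv D535) D536 D1303
def n2921 : Q := act 1 n1304
theorem D2921 : act 1 n1304 = n2921 := rfl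
theorem F1978 : act 3 n2921 = n1336 := d5_2 (iv F736) D2921 (iv D1336)
def n2922 : Q := act 4 n1304
theorem D2922 : act 4 n1304 = n2922 := rfl
theorem F1979 : act 2 n2922 = n1401 := d8_1 D2922 F1174 (iv F733) (iv D1302) F259 D537 D1304
theorem F1980 : act 3 n2922 = n1307 := d12_2 (iv F736) D2922 (iv F1511) F1513 (iv D1050) D1049 F569
def n2923 : Q := act 0 n1305
theorem D2923 : act 0 n1305 = n2923 := rfl
def n2924 : Q := act 2 n1305
theorem D2924 : act 2 n1305 = n2924 := rfl
def n2925 : Q := act 3 n1305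
theorem D2925 : act 3 n1305 = n2925 := rfl
theorem F1981 : act 1 n2925 = n1306 := d5_1 D2925 (iv D1306) D1305
def n2926 : Q := act 4 n1305
theorem D2926 : act 4 n1305 = n2926 := rfl
theorem F1982 : act 1 n2926 = n1307 := d6_1 D2926 (iv D1307) D1305
def n2927 : Q := act 4 n1306
theorem D2927 : act 4 n1306 = n2927 := rfl
theorem F1983 : act 3 n2927 = n1337 := d9_1 D2927 (iv D1337) (iv F736) D2922 F1980 (iv D1307) D1306
def n2928 : Q := act 2 n1308
theorem D2928 : act 2 n1308 = n2928 := rfl
theorem F1984 : act 3 n2928 = n1338 := d7_2 (iv F739) D2928 (iv D1338)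
def n2929 : Q := act 0 n1309
theorem D2929 : act 0 n1309 = n2929 := rfl
def n2930 : Q := act 2 n1309
theorem D2930 : act 2 n1309 = n2930 := rfl
def n2931 : Q := act 3 n1309
theorem D2931 : act 3 n1309 = n2931 := rfl
theorem F1985 : act 1 n2931 = n1310 := d5_1 D2931 (iv D1310) D1309
def n2932 : Q := act 4 n1309
theorem D2932 : act 4 n1309 = n2932 := rfl
theorem F1986 : act 1 n2932 = n1311 := d6_1 D2932 (iv D1311) D1309
def n2933 : Q := act 4 n1310
theorem D2933 : act 4 n1310 = n2933 := rfl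
theorem F1987 : act 3 n2933 = n1328 := d12_2 D1310 D2933 F751 (iv F1186) (iv D1316) (iv D542) D540
def n2934 : Q := act 3 n1311
theorem D2934 : act 3 n1311 = n2934 := rfl
theorem F1988 : act 2 n2934 = n1386 := d7_1 D2934 F1193 (iv F742)
theorem F1989 : act 4 n2934 = n1327 := d9_2 D1311 D2934 (iv D1327) D1328 (iv F1987) (iv D2933) (iv D1310)
def n2935 : Q := act 2 n1312
theorem D2935 : act 2 n1312 = n2935 := rfl
def n2936 : Q := act 3 n1312
theorem D2936 : act 3 n1312 = n2936 := rfl
def n2937 : Q := act 0 n1313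
theorem D2937 : act 0 n1313 = n2937 := rfl
def n2938 : Q := act 3 n1313
theorem D2938 : act 3 n1313 = n2938 := rfl
theorem F1990 : act 2 n2938 = n1314 := d7_1 D2938 (iv D1314) D1313
def n2939 : Q := act 4 n1313
theorem D2939 : act 4 n1313 = n2939 := rfl
def n2940 : Q := act 0 n1314
theorem D2940 : act 0 n1314 = n2940 := rfl
theorem F1991 : act 3 n2940 = n1325 := d12_4 (iv F1183) (iv D1315) D1314 D2940 (iv D1325) (iv D547) D545
theorem F1992 : act 1 n1316 = n2940 := d5_3 F1991 F749 (iv F1186)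
theorem F1993 : act 4 n1314 = n2940 := d9_0 F1991 (iv D1325) (iv D547) (iv F267) (iv F1183) (iv D1315) D1314
def n2941 : Q := act 2 n1315
theorem D2941 : act 2 n1315 = n2941 := rfl
theorem F1994 : act 1 n2941 = n1723 := d4_1 D2941 F1016 (iv F1175) (iv D1411) F286 (iv F264) (iv F744)
theorem F1995 : act 3 n2941 = n1319 := d7_2 (iv F1183) D2941 (iv D1319)
def n2942 : Q := act 2 n1316
theorem D2942 : act 2 n1316 = n2942 := rfl
theorem F1996 : act 3 n2942 = n1329 := d7_2 (iv F1186) D2942 (iv D1329)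
def n2945 : Q := act 2 n1321
theorem D2945 : act 2 n1321 = n2945 := rfl
def n2946 : Q := act 3 n1321
theorem D2946 : act 3 n1321 = n2946 := rfl
def n2947 : Q := act 4 n1321
theorem D2947 : act 4 n1321 = n2947 := rfl
theorem F1999 : act 0 n2947 = n1323 := d3_1 D2947 (iv D1323) D1321
def n2948 : Q := act 0 n1322
theorem D2948 : act 0 n1322 = n2948 := rfl
def n2949 : Q := act 4 n1322
theorem D2949 : act 4 n1322 = n2949 := rfl
def n2950 : Q := act 2 n1323
theorem D2950 : act 2 n1323 = n2950 := rfl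
theorem F2000 : act 1 n2950 = n1877 := d4_1 D2950 (iv D1877) F870 (iv D1453) F294 D930 (iv F1363)
theorem F2001 : act 4 n2950 = n1719 := d8_2 D1323 D2950 (iv D1719) (iv F865) (iv D1319) F267 D546
theorem F2002 : act 0 n2950 = n1719 := d11_3 D546 D1323 D2950 (iv D1719) (iv F865) (iv D1319) (iv D545)
def n2951 : Q := act 3 n1323
theorem D2951 : act 3 n1323 = n2951 := rfl
theorem F2003 : act 1 n2951 = n2190 := d5_1 D2951 (iv D2190) (iv F1363)
def n2952 : Q := act 1 n1324
theorem D2952 : act 1 n1324 = n2952 := rfl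
def n2953 : Q := act 2 n1324
theorem D2953 : act 2 n1324 = n2953 := rfl
def n2954 : Q := act 3 n1324
theorem D2954 : act 3 n1324 = n2954 := rfl
def n2955 : Q := act 4 n1324
theorem D2955 : act 4 n1324 = n2955 := rfl
theorem F2004 : act 0 n2955 = n1325 := d3_1 D2955 (iv D1325) D1324
def n2956 : Q := act 2 n1325
theorem D2956 : act 2 n1325 = n2956 := rfl
def n2957 : Q := act 0 n1326
theorem D2957 : act 0 n1326 = n2957 := rfl
def n2958 : Q := act 2 n1326
theorem D2958 : act 2 n1326 = n2958 := rfl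
def n2959 : Q := act 3 n1326
theorem D2959 : act 3 n1326 = n2959 := rfl
theorem F2005 : act 1 n2959 = n1327 := d5_1 D2959 (iv D1327) D1326
def n2960 : Q := act 4 n1326
theorem D2960 : act 4 n1326 = n2960 := rfl
theorem F2006 : act 1 n2960 = n1328 := d6_1 D2960 (iv D1328) D1326
def n2961 : Q := act 2 n1328
theorem D2961 : act 2 n1328 = n2961 := rfl
def n2962 : Q := act 0 n1329
theorem D2962 : act 0 n1329 = n2962 := rfl
theorem F2007 : act 2 n2962 = n1337 := d11_4 (iv F90) D549 D1329 D2962 (iv D1337) (iv D552) (iv D211)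
def n2964 : Q := act 4 n1329
theorem D2964 : act 4 n1329 = n2964 := rfl
theorem F2008 : act 2 n2964 = n1341 := d8_1 D2964 (iv D1341) (iv D554) (iv D212) (iv F90) D549 D1329
def n2965 : Q := act 2 n1333
theorem D2965 : act 2 n1333 = n2965 := rfl
def n2966 : Q := act 4 n1333
theorem D2966 : act 4 n1333 = n2966 := rfl
theorem F2009 : act 0 n2966 = n1335 := d3_1 D2966 (iv D1335) D1333
def n2967 : Q := act 0 n1334
theorem D2967 : act 0 n1334 = n2967 := rfl
def n2968 : Q := act 1 n1334
theorem D2968 : act 1 n1334 = n2968 := rfl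
def n2969 : Q := act 4 n1334
theorem D2969 : act 4 n1334 = n2969 := rfl
def n2970 : Q := act 2 n1335
theorem D2970 : act 2 n1335 = n2970 := rfl
def n2971 : Q := act 0 n1336
theorem D2971 : act 0 n1336 = n2971 := rfl
def n2972 : Q := act 2 n1336
theorem D2972 : act 2 n1336 = n2972 := rfl
def n2973 : Q := act 4 n1336
theorem D2973 : act 4 n1336 = n2973 := rfl
theorem F2010 : act 1 n2973 = n1337 := d6_1 D2973 (iv D1337) D1336
def n2974 : Q := act 1 n1338
theorem D2974 : act 1 n1338 = n2974 := rfl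
def n2975 : Q := act 4 n1338
theorem D2975 : act 4 n1338 = n2975 := rfl
def n2978 : Q := act 4 n1339
theorem D2978 : act 4 n1339 = n2978 := rfl
theorem F2012 : act 0 n2978 = n1341 := d3_1 D2978 (iv D1341) D1339
def n2983 : Q := act 4 n1342
theorem D2983 : act 4 n1342 = n2983 := rfl
theorem F2014 : act 0 n2983 = n1345 := d3_1 D2983 (iv D1345) D1342
def n2984 : Q := act 0 n1343
theorem D2984 : act 0 n1343 = n2984 := rfl
theorem F2015 : act 1 n2984 = n1993 := d0_2 D1343 D2984 F1215 F1054 D2888 F1943 (iv D1342)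
theorem F2016 : act 3 n2984 = n2363 := d16_7 (iv F1530) (iv D823) (iv D325) (iv F92) D555 D1343 D2984 (iv D2363) (iv D1012) (iv D405) D404 D1008
theorem F2017 : act 0 n1705 = n2364 := d10_5 (iv F2016) (iv D2984) (iv F1226) (iv D1703) D1705 (iv D2364) D2363
def n2985 : Q := act 3 n1343
theorem D2985 : act 3 n1343 = n2985 := rfl
theorem F2018 : act 1 n2985 = n1344 := d5_1 D2985 (iv D1344) D1343
def n2986 : Q := act 4 n1343
theorem D2986 : act 4 n1343 = n2986 := rfl
theorem F2019 : act 1 n2986 = n1345 := d6_1 D2986 (iv D1345) D1343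
def n2987 : Q := act 4 n1344
theorem D2987 : act 4 n1344 = n2987 := rfl
def n2988 : Q := act 2 n1345
theorem D2988 : act 2 n1345 = n2988 := rfl
theorem F2020 : act 0 n2988 = n1360 := d11_3 D555 D1345 D2988 (iv D1360) (iv D561) (iv D214) D213
def n2989 : Q := act 3 n1345
theorem D2989 : act 3 n1345 = n2989 := rfl
def n2990 : Q := act 2 n1347
theorem D2990 : act 2 n1347 = n2990 := rfl
theorem F2021 : act 3 n2990 = n1485 := d7_2 (iv F755) D2990 (iv D1485)
def n2991 : Q := act 0 n1348
theorem D2991 : act 0 n1348 = n2991 := rfl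
def n2992 : Q := act 1 n1348
theorem D2992 : act 1 n1348 = n2992 := rfl
def n2993 : Q := act 3 n1348
theorem D2993 : act 3 n1348 = n2993 := rfl
theorem F2022 : act 2 n2993 = n1349 := d7_1 D2993 (iv D1349) D1348
def n2994 : Q := act 4 n1348
theorem D2994 : act 4 n1348 = n2994 := rfl
def n2995 : Q := act 4 n1349
theorem D2995 : act 4 n1349 = n2995 := rfl
theorem F2023 : act 0 n2995 = n2995 := d3_1 D2995 (iv D2995) F922
theorem F2024 : act 1 n2995 = n1945 := d6_1 D2995 (iv D1945) (iv F756)
theorem F2025 : act 3 n2995 = n1486 := d9_1 D2995 (iv D1486) (iv F755) (iv D1347) (iv D556) D557 D1349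
def n2996 : Q := act 2 n1350
theorem D2996 : act 2 n1350 = n2996 := rfl
theorem F2026 : act 0 n2996 = n1797 := d1_1 D2996 (iv F1772) F1771 (iv D1947) (iv F1166) (iv F1789) F1787
def n2997 : Q := act 4 n1350
theorem D2997 : act 4 n1350 = n2997 := rfl
theorem F2027 : act 1 n2997 = n1353 := d6_1 D2997 (iv D1353) D1350
def n2998 : Q := act 3 n1351
theorem D2998 : act 3 n1351 = n2998 := rfl
theorem F2028 : act 1 n2998 = n1588 := d5_1 D2998 (iv D1588) (iv F757)
theorem F2029 : act 2 n2998 = n1352 := d7_1 D2998 (iv D1352) D1351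
theorem F2030 : act 0 n2998 = n2998 := d10_1 D2998 F2029 (iv F926) (iv D1344) D1342 (iv F1074) F1073
def n2999 : Q := act 4 n1351
theorem D2999 : act 4 n1351 = n2999 := rfl
theorem F2031 : act 1 n2999 = n1589 := d6_1 D2999 (iv D1589) (iv F757)
theorem F2032 : act 2 n2999 = n1367 := d11_2 D1351 D2999 (iv D1367) (iv D564) (iv D216) D214 D558
def n3000 : Q := act 4 n1352
theorem D3000 : act 4 n1352 = n3000 := rfl
theorem F2033 : act 0 n3000 = n2987 := d3_1 D3000 (iv D2987) F926
def n3001 : Q := act 2 n1353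
theorem D3001 : act 2 n1353 = n3001 := rfl
def n3002 : Q := act 3 n1353
theorem D3002 : act 3 n1353 = n3002 := rfl
theorem F2034 : act 0 n3002 = n2989 := d12_3 (iv D1352) D1353 D3002 (iv D2989) (iv D1345) D1344 F926
def n3003 : Q := act 2 n1354
theorem D3003 : act 2 n1354 = n3003 := rfl
theorem F2035 : act 0 n3003 = n2896 := d1_1 D3003 (iv D2896) D2895 (iv F1954) F1221 (iv D1355) D1354
theorem F2036 : act 1 n3003 = n1738 := d4_1 D3003 (iv D1738) (iv D735) (iv D287) D286 D732 (iv F759)
theorem F2037 : act 3 n3003 = n2322 := d7_2 (iv F760) D3003 (iv D2322)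
def n3004 : Q := act 4 n1354
theorem D3004 : act 4 n1354 = n3004 := rfl
theorem F2038 : act 0 n3004 = n1357 := d3_1 D3004 (iv D1357) D1354
theorem F2039 : act 1 n3004 = n1732 := d6_1 D3004 (iv D1732) (iv F759)
theorem F2040 : act 3 n3004 = n2329 := d12_2 (iv F760) D3004 (iv D2329) (iv D998) (iv D399) D398 D995
theorem E101 : n1889 = n1849 := (c16_9 F2040 (iv D2329) (iv D998) F183 D402 (iv F423) F422 D802 D1889 F1103 (iv D1360) (iv F764) (iv F2038))
theorem E102 : n802 = n788 := (((F1102).symm.trans (sb E101 (iv D1889)))).symm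
theorem E103 : n319 = n311 := (((F413).symm.trans (sb E102 F426))).symm
theorem E104 : n1887 = n1855 := (((D1855).symm.trans (sb E102 (iv F1123)))).symm
theorem E105 : n1856 = n316 := ((D1856).symm.trans (sb E102 (iv D802)))
theorem E107 : n808 = n784 := ((((iv F410)).symm.trans (sb E103 D808))).symm
theorem E108 : n144 = n133 := (((F137).symm.trans (sb E103 F142))).symm
theorem E109 : n790 = n117 := ((D790).symm.trans (sb E103 (iv D319)))
theorem E110 : n809 = n113 := ((((iv D311)).symm.trans (sb E103 D809))).symm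
theorem F2041 : act 1 n1855 = n2827 := (sb E104 (iv F1898))
theorem F2042 : act 3 n1855 = n801 := (sb E104 (iv D1887))
theorem F2043 : act 3 n316 = n788 := (sb E105 (iv D1856))
theorem E112 : n911 = n345 := (((F411).symm.trans (sb E107 (iv F480)))).symm
theorem E113 : n1895 = n1845 := (((D1845).symm.trans (sb E107 (iv F1129)))).symm
theorem E115 : n381 = n349 := ((((iv F161)).symm.trans (sb E108 D381))).symm
theorem E116 : n374 = n353 := ((((iv F163)).symm.trans (sb E108 (iv F171)))).symm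
theorem E117 : n356 = n50 := ((D356).symm.trans (sb E108 (iv D144)))
theorem E118 : n382 = n45 := ((((iv D133)).symm.trans (sb E108 D382))).symm
theorem F2044 : act 3 n117 = n311 := (sb E109 (iv D790))
theorem E121 : n1902 = n310 := (((D310).symm.trans (sb E110 (iv F1136)))).symm
theorem E122 : n863 = n363 := (((iv F455)).symm.trans (sb E112 (iv D911)))
theorem E123 : n2144 = n867 := ((((iv F458)).symm.trans (sb E112 D2144))).symm
theorem E124 : n869 = n861 := ((D869).symm.trans (sb E112 F481))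
theorem E125 : n2145 = n128 := ((((iv D345)).symm.trans (sb E112 D2145))).symm
theorem F2045 : act 4 n1845 = n804 := (sb E113 (iv D1895))
theorem E126 : n958 = n874 := ((((iv F461)).symm.trans (sb E115 D958))).symm
theorem E127 : n959 = n780 := ((((iv F406)).symm.trans (sb E115 D959))).symm
theorem E128 : n950 = n876 := (((D876).symm.trans (sb E115 (iv F497)))).symm
theorem E129 : n960 = n130 := ((((iv D349)).symm.trans (sb E115 D960))).symm
theorem E130 : n942 = n880 := ((((iv F464)).symm.trans (sb E116 D942))).symm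
theorem E131 : n940 = n886 := (((D886).symm.trans (sb E116 (iv F490)))).symm
theorem E132 : n887 = n141 := ((D887).symm.trans (sb E116 (iv D374)))
theorem E133 : n943 = n131 := ((((iv D353)).symm.trans (sb E116 D943))).symm
theorem E134 : n892 = n137 := ((((iv F59)).symm.trans (sb E117 D892))).symm
theorem F2046 : act 3 n50 = n133 := (sb E117 (iv D356))
theorem E135 : n893 = n15 := ((((iv D50)).symm.trans (sb E117 D893))).symm
theorem E137 : n957 = n132 := (((D132).symm.trans (sb E118 (iv F503)))).symm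
theorem E138 : n807 = n789 := (((D789).symm.trans (sb E121 (iv D1902)))).symm
theorem F2047 : act 0 n363 = n345 := (sb E122 F455)
theorem E139 : n2027 = n908 := ((((iv F478)).symm.trans (sb E122 (iv F1236)))).symm
theorem E140 : n678 = n671 := (((iv F334)).symm.trans (sb E122 F456))
theorem E141 : n912 = n342 := ((D912).symm.trans (sb E122 (iv D863)))
theorem E142 : n2038 = n2024 := ((D2038).symm.trans (sb E123 F1304))
theorem F2048 : act 2 n861 = n1845 := (sb E124 (iv F1099))
theorem F2049 : act 3 n861 = n345 := (sb E124 (iv D869))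
theorem E145 : n2277 = n344 := (((D344).symm.trans (sb E125 (iv F1401)))).symm
theorem E148 : n2225 = n2055 := (((D2055).symm.trans (sb E126 F1371))).symm
theorem E151 : n1838 = n1832 := ((D1838).symm.trans (sb E127 (iv F1087)))
theorem F2050 : act 0 n876 = n861 := (sb E128 F496)
theorem E153 : n2058 = n377 := ((D2058).symm.trans (sb E128 (iv D950)))
theorem E155 : n2234 = n348 := (((D348).symm.trans (sb E129 (iv F1378)))).symm
theorem E158 : n2201 = n2069 := (((D2069).symm.trans (sb E130 (iv F1351)))).symm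
theorem E162 : n2086 = n373 := ((D2086).symm.trans (sb E131 (iv D940)))
theorem E163 : n2212 = n2087 := (((D2087).symm.trans (sb E131 D2212))).symm
theorem F2051 : act 3 n141 = n353 := (sb E132 (iv D887))
theorem E167 : n2208 = n352 := (((D352).symm.trans (sb E133 (iv F1354)))).symm
theorem E169 : n1602 = n264 := ((((iv F117)).symm.trans (sb E134 (iv F900)))).symm
theorem E172 : n2098 = n49 := (((D49).symm.trans (sb E135 (iv F1269)))).symm
theorem E176 : n2143 = n354 := (((D354).symm.trans (sb E137 (iv F1302)))).symm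
theorem E178 : n1884 = n1854 := ((((iv F1105)).symm.trans (sb E138 (iv F1121)))).symm
theorem E180 : n1858 = n318 := ((D1858).symm.trans (sb E138 (iv D807)))
theorem E181 : n2139 = n862 := ((D2139).symm.trans (sb E139 (iv D2027)))
theorem E182 : n1614 = n1600 := ((((iv F898)).symm.trans (sb E140 (iv F911)))).symm
theorem F2052 : act 2 n671 = n363 := (sb E140 F334)
theorem F2053 : act 4 n342 = n363 := (sb E141 (iv D912))
theorem F2054 : act 3 n2024 = n867 := (sb E142 (iv D2038))
theorem E185 : n971 = n868 := (((D868).symm.trans (sb E145 (iv D2277)))).symm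
theorem F2055 : act 4 n2055 = n946 := (sb E148 (iv D2225))
theorem F2056 : act 2 n1832 = n876 := (sb E151 F1092)
theorem F2057 : act 3 n1832 = n780 := (sb E151 (iv D1838))
theorem F2058 : act 4 n377 = n876 := (sb E153 (iv D2058))
theorem E186 : n952 = n875 := (((D875).symm.trans (sb E155 (iv D2234)))).symm
theorem F2059 : act 4 n2069 = n934 := (sb E158 (iv D2201))
theorem F2061 : act 3 n373 = n886 := (sb E162 (iv D2086))
theorem F2062 : act 1 n2087 = n2878 := (sb E163 (iv F1940))
theorem E187 : n937 = n885 := (((D885).symm.trans (sb E167 (iv D2208)))).symm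
theorem F2063 : act 3 n264 = n671 := (sb E169 (iv D1602))
theorem E188 : n891 = n143 := (((D143).symm.trans (sb E172 (iv D2098)))).symm
theorem E189 : n910 = n889 := (((D889).symm.trans (sb E176 (iv D2143)))).symm
theorem F2064 : act 3 n1854 = n800 := (sb E178 (iv D1884))
theorem F2066 : act 3 n318 = n789 := (sb E180 (iv D1858))
theorem F2067 : act 4 n862 = n908 := (sb E181 (iv D2139))
theorem F2068 : act 3 n1600 = n676 := (sb E182 (iv D1614))
theorem E191 : n2276 = n2036 := ((((iv F1239)).symm.trans (sb E185 (iv F1399)))).symm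
theorem E192 : n2236 = n2039 := (((D2039).symm.trans (sb E185 (iv F1380)))).symm
theorem E193 : n2040 = n387 := ((D2040).symm.trans (sb E185 (iv D971)))
theorem E194 : n2227 = n2053 := ((((iv F1246)).symm.trans (sb E186 (iv F1372)))).symm
theorem E196 : n2057 = n378 := ((D2057).symm.trans (sb E186 (iv D952)))
theorem E197 : n2168 = n2081 := ((((iv F1258)).symm.trans (sb E187 (iv F1333)))).symm
theorem E198 : n2206 = n2082 := (((D2082).symm.trans (sb E187 (iv F1352)))).symm
theorem E199 : n2083 = n372 := ((D2083).symm.trans (sb E187 (iv D937)))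
theorem F2069 : act 3 n143 = n355 := (sb E188 (iv D891))
theorem E201 : n2133 = n2092 := ((((iv F1263)).symm.trans (sb E189 (iv F1297)))).symm
theorem E203 : n2094 = n362 := ((D2094).symm.trans (sb E189 (iv D910)))
theorem F2070 : act 3 n2036 = n970 := (sb E191 (iv D2276))
theorem F2071 : act 3 n2039 = n953 := (sb E192 (iv D2236))
theorem F2072 : act 3 n387 = n868 := (sb E193 (iv D2040))
theorem F2073 : act 3 n2053 = n947 := (sb E194 (iv D2227))
theorem F2075 : act 3 n378 = n875 := (sb E196 (iv D2057))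
theorem F2076 : act 3 n2081 = n921 := (sb E197 (iv D2168))
theorem F2077 : act 3 n2082 = n936 := (sb E198 (iv D2206))
theorem F2078 : act 3 n372 = n885 := (sb E199 (iv D2083))
theorem F2080 : act 3 n2092 = n906 := (sb E201 (iv D2133))
theorem F2082 : act 3 n362 = n889 := (sb E203 (iv D2094))
theorem E206 : n2203 = n2067 := ((c12_6 F2078 (iv D885) (iv D352) D350 D879 D2067 (iv D2203) F488)).symm
theorem F2084 : act 3 n2067 = n935 := (sb E206 (iv D2203))
theorem E207 : n2174 = n2080 := (c9_7 D2081 F2076 (iv D921) (iv D366) D367 D923 D2174 (iv D2080))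
theorem F2085 : act 4 n2080 = n923 := (sb E207 (iv D2174))
theorem F2086 : act 4 n2138 = n2025 := d3_2 F2067 D2138 (iv D2025)
theorem E208 : n1897 = n1844 := ((c12_6 F2066 (iv D789) (iv D310) D308 D783 D1844 (iv D1897) F429)).symm
theorem F2087 : act 3 n1844 = n805 := (sb E208 (iv D1897))
theorem E209 : n1616 = n1601 := ((c9_5 D264 F2063 (iv D671) D670 D1601 (iv D1616) (iv D677) (iv D263))).symm
theorem F2088 : act 3 n1601 = n677 := (sb E209 (iv D1616))
theorem E210 : n1915 = n1837 := (c12_5 D670 D1601 F2088 (iv F432) D1915 (iv D1837) (iv D779) F133)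
theorem F2089 : act 3 n1837 = n814 := (sb E210 (iv D1915))
def n3005 : Q := act 4 n1355
theorem D3005 : act 4 n1355 = n3005 := rfl
theorem F2090 : act 1 n3005 = n1379 := d6_1 D3005 (iv D1379) (iv F761)
def n3006 : Q := act 4 n1356
theorem D3006 : act 4 n1356 = n3006 := rfl
theorem F2091 : act 0 n3006 = n2315 := d3_1 D3006 (iv D2315) (iv F762)
theorem F2092 : act 1 n3006 = n1359 := d6_1 D3006 (iv D1359) (iv F763)
def n3007 : Q := act 2 n1357
theorem D3007 : act 2 n1357 = n3007 := rfl
def n3008 : Q := act 3 n1357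
theorem D3008 : act 3 n1357 = n3008 := rfl
theorem F2093 : act 0 n3008 = n2317 := d2_1 D3008 (iv D2317) F525 D998 D2329 (iv F2040) F2038
theorem F2094 : act 1 n3008 = n1361 := d5_1 D3008 (iv D1361) (iv F764)
def n3009 : Q := act 1 n1358
theorem D3009 : act 1 n1358 = n3009 := rfl
theorem F2095 : act 0 n3009 = n2903 := d0_1 D3009 F1960 (iv D1623) (iv F524) (iv F762) F763 D1358
theorem F2096 : act 3 n3009 = n2888 := d5_2 (iv F928) D3009 F1943
def n3010 : Q := act 2 n1358
theorem D3010 : act 2 n1358 = n3010 := rfl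
theorem F2097 : act 0 n3010 = n3010 := d1_1 D3010 (iv D3010) (iv D1358) F274 F915 (iv F274) D1358
theorem F2098 : act 3 n3010 = n1820 := d7_2 (iv F928) D3010 F1074
theorem F2099 : act 1 n1822 = n3010 := d5_3 F2098 (iv D1820) D1822
def n3011 : Q := act 4 n1358
theorem D3011 : act 4 n1358 = n3011 := rfl
theorem F2100 : act 0 n3011 = n1359 := d3_1 D3011 (iv D1359) D1358
def n3012 : Q := act 2 n1359
theorem D3012 : act 2 n1359 = n3012 := rfl
theorem F2101 : act 0 n3012 = n3012 := d11_3 (iv F274) D1359 D3012 (iv D3012) (iv D1359) F274 F915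
def n3013 : Q := act 3 n1359
theorem D3013 : act 3 n1359 = n3013 := rfl
def n3014 : Q := act 3 n1360
theorem D3014 : act 3 n1360 = n3014 := rfl
theorem F2102 : act 2 n3014 = n1361 := d7_1 D3014 (iv D1361) D1360
def n3015 : Q := act 0 n1361
theorem D3015 : act 0 n1361 = n3015 := rfl
theorem F2103 : act 3 n3015 = n2983 := d2_2 D1361 D3015 F2014 D2989 (iv F2034) (iv D3002) F758
theorem F2104 : act 0 n3014 = n3014 := d10_1 D3014 F2102 D3015 F2103 F2014 D2988 F2020
def n3016 : Q := act 4 n1361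
theorem D3016 : act 4 n1361 = n3016 := rfl
def n3017 : Q := act 0 n1366
theorem D3017 : act 0 n1366 = n3017 := rfl
def n3018 : Q := act 1 n1366
theorem D3018 : act 1 n1366 = n3018 := rfl
theorem F2105 : act 3 n3018 = n1488 := d5_2 (iv F766) D3018 (iv D1488)
theorem F2106 : act 0 n3018 = n2392 := d14_3 (iv F275) D1366 D3018 F1487 F1306 F483 D920 D2163 F1325 F610 F217
def n3019 : Q := act 4 n1366
theorem D3019 : act 4 n1366 = n3019 := rfl
def n3020 : Q := act 1 n1367
theorem D3020 : act 1 n1367 = n3020 := rfl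
def n3021 : Q := act 3 n1367
theorem D3021 : act 3 n1367 = n3021 := rfl
theorem F2107 : act 0 n3021 = n2993 := d10_1 D3021 F2022 F922 (iv D1349) F272 D564 D1367
def n3022 : Q := act 4 n1367
theorem D3022 : act 4 n1367 = n3022 := rfl
theorem F2108 : act 0 n3022 = n1370 := d3_1 D3022 (iv D1370) D1367
def n3023 : Q := act 0 n1368
theorem D3023 : act 0 n1368 = n3023 := rfl
theorem F2109 : act 1 n3023 = n2059 := d14_4 (iv F94) D564 D1368 D3023 (iv D2059) (iv D877) (iv D350) (iv D131) (iv D45) (iv F9) (iv F29)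
theorem F2110 : act 3 n3023 = n2378 := d16_7 D456 F219 (iv D222) (iv F94) D564 D1368 D3023 (iv D2378) (iv D1019) (iv D408) F65 (iv F75)
def n3024 : Q := act 2 n1368
theorem D3024 : act 2 n1368 = n3024 := rfl
theorem F2111 : act 1 n3024 = n1390 := d4_1 D3024 (iv D1390) (iv D574) (iv D221) (iv F94) D564 D1368
def n3025 : Q := act 3 n1368
theorem D3025 : act 3 n1368 = n3025 := rfl
theorem F2112 : act 1 n3025 = n1369 := d5_1 D3025 (iv D1369) D1368
def n3026 : Q := act 4 n1368
theorem D3026 : act 4 n1368 = n3026 := rfl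
theorem F2113 : act 1 n3026 = n1370 := d6_1 D3026 (iv D1370) D1368
def n3027 : Q := act 0 n1369
theorem D3027 : act 0 n1369 = n3027 := rfl
theorem F2114 : act 3 n3027 = n2991 := d2_2 D1369 D3027 (iv D2991) D2993 (iv F2107) (iv D3021) (iv D1367)
def n3028 : Q := act 4 n1369
theorem D3028 : act 4 n1369 = n3028 := rfl
def n3029 : Q := act 3 n1370
theorem D3029 : act 3 n1370 = n3029 := rfl
def n3030 : Q := act 2 n1372
theorem D3030 : act 2 n1372 = n3030 := rfl
theorem F2115 : act 3 n3030 = n1490 := d7_2 (iv F769) D3030 (iv D1490)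
def n3031 : Q := act 2 n1373
theorem D3031 : act 2 n1373 = n3031 := rfl
theorem F2116 : act 0 n3031 = n1790 := d1_1 D3031 (iv F1053) (iv D1259) D1260 F1783 F1782 F877
theorem F2117 : act 1 n3031 = n1375 := d14_2 D1373 D3031 (iv F927) (iv D820) (iv D324) (iv F92) (iv D213) (iv D76) D77 D217 D566
theorem F2118 : act 3 n1373 = n3031 := d5_0 F2117 (iv D1375) D1373
def n3032 : Q := act 4 n1373
theorem D3032 : act 4 n1373 = n3032 := rfl
theorem F2119 : act 1 n3032 = n1376 := d6_1 D3032 (iv D1376) D1373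
def n3033 : Q := act 0 n1374
theorem D3033 : act 0 n1374 = n3033 := rfl
theorem F2120 : act 1 n3033 = n1821 := d13_2 D1374 D3033 (iv F1966) (iv D2912) (iv D1298) (iv D534) (iv F196) F195 F68 D217 D566
def n3034 : Q := act 1 n1374
theorem D3034 : act 1 n1374 = n3034 := rfl
theorem F2121 : act 0 n3034 = n1997 := d0_1 D3034 (iv D1997) D1996 F1967 F1966 (iv F2120) (iv D3033)
theorem F2122 : act 2 n3034 = n1737 := d15_6 (iv D772) D771 D1821 (iv F2120) (iv D3033) D3034 (iv D1737) D1738 (iv F2036) F2035 F1955 F938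
theorem F2123 : act 3 n1737 = n3034 := d10_0 F2121 (iv F1968) (iv D2837) F1910 F1909 (iv D1738) D1737
def n3035 : Q := act 3 n1374
theorem D3035 : act 3 n1374 = n3035 := rfl
theorem F2124 : act 1 n3035 = n1737 := d5_1 D3035 F2123 (iv D3034)
theorem F2125 : act 2 n3035 = n1375 := d7_1 D3035 (iv D1375) D1374
def n3036 : Q := act 4 n1374
theorem D3036 : act 4 n1374 = n3036 := rfl
def n3037 : Q := act 4 n1375
theorem D3037 : act 4 n1375 = n3037 := rfl
theorem F2126 : act 0 n3037 = n1930 := d3_1 D3037 (iv D1930) F927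
def n3038 : Q := act 2 n1376
theorem D3038 : act 2 n1376 = n3038 := rfl
def n3039 : Q := act 3 n1376
theorem D3039 : act 3 n1376 = n3039 := rfl
def n3040 : Q := act 4 n1377
theorem D3040 : act 4 n1377 = n3040 := rfl
theorem F2127 : act 0 n3040 = n1379 := d3_1 D3040 (iv D1379) D1377
theorem F2128 : act 1 n3040 = n2814 := d6_1 D3040 (iv D2814) F1222
theorem F2129 : act 3 n2828 = n3040 := d5_0 F2128 F1887 D2828
def n3041 : Q := act 0 n1378
theorem D3041 : act 0 n1378 = n3041 := rfl
def n3042 : Q := act 4 n1378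
theorem D3042 : act 4 n1378 = n3042 := rfl
def n3043 : Q := act 2 n1379
theorem D3043 : act 2 n1379 = n3043 := rfl
def n3044 : Q := act 3 n1379
theorem D3044 : act 3 n1379 = n3044 := rfl
def n3045 : Q := act 1 n1380
theorem D3045 : act 1 n1380 = n3045 := rfl
theorem F2130 : act 2 n3045 = n3045 := d14_1 D3045 (iv D3045) (iv D1380) F278 F95 (iv F93) F915 F93 (iv F95) (iv F278) D1380
def n3046 : Q := act 2 n1380
theorem D3046 : act 2 n1380 = n3046 := rfl
theorem F2131 : act 1 n3046 = n1646 := d15_9 D1651 F959 F370 (iv F367) D1690 F994 F771 D1380 D3046 (iv D1646) F354 D696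
def n3047 : Q := act 3 n1380
theorem D3047 : act 3 n1380 = n3047 := rfl
theorem F2132 : act 0 n3047 = n1929 := d2_1 D3047 (iv D1929) F927 (iv D1375) (iv D566) D568 D1380
def n3048 : Q := act 4 n1380
theorem D3048 : act 4 n1380 = n3048 := rfl
theorem F2133 : act 0 n3048 = n1381 := d3_1 D3048 (iv D1381) D1380
def n3049 : Q := act 2 n1381
theorem D3049 : act 2 n1381 = n3049 := rfl
def n3050 : Q := act 0 n1382
theorem D3050 : act 0 n1382 = n3050 := rfl
def n3051 : Q := act 1 n1382
theorem D3051 : act 1 n1382 = n3051 := rfl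
def n3052 : Q := act 3 n1382
theorem D3052 : act 3 n1382 = n3052 := rfl
theorem F2134 : act 2 n3052 = n1383 := d7_1 D3052 (iv D1383) D1382
def n3053 : Q := act 4 n1382
theorem D3053 : act 4 n1382 = n3053 := rfl
def n3054 : Q := act 0 n1383
theorem D3054 : act 0 n1383 = n3054 := rfl
def n3055 : Q := act 4 n1383
theorem D3055 : act 4 n1383 = n3055 := rfl
theorem F2135 : act 1 n3055 = n1384 := d6_1 D3055 (iv D1384) (iv F773)
def n3056 : Q := act 0 n1385
theorem D3056 : act 0 n1385 = n3056 := rfl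
def n3057 : Q := act 2 n1385
theorem D3057 : act 2 n1385 = n3057 := rfl
theorem F2136 : act 3 n3057 = n1492 := d7_2 (iv F774) D3057 (iv D1492)
def n3058 : Q := act 4 n1385
theorem D3058 : act 4 n1385 = n3058 := rfl
theorem F2137 : act 1 n3058 = n1386 := d6_1 D3058 (iv D1386) D1385
theorem F2138 : act 3 n1392 = n3058 := d5_0 F2137 F1193 (iv F777)
def n3059 : Q := act 0 n1387
theorem D3059 : act 0 n1387 = n3059 := rfl
theorem F2139 : act 2 n3059 = n2025 := d13_4 D221 D573 D1387 D3059 (iv D2025) (iv D862) (iv D342) (iv D128) F18 (iv F9) (iv F29)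
def n3060 : Q := act 2 n1387
theorem D3060 : act 2 n1387 = n3060 := rfl
def n3061 : Q := act 1 n1389
theorem D3061 : act 1 n1389 = n3061 := rfl
def n3062 : Q := act 2 n1389
theorem D3062 : act 2 n1389 = n3062 := rfl
def n3063 : Q := act 3 n1389
theorem D3063 : act 3 n1389 = n3063 := rfl
theorem F2140 : act 0 n3063 = n1941 := d16_8 D565 F921 (iv D565) F94 D221 D574 D1389 D3063 (iv D1941) (iv D825) (iv F273) F272
def n3064 : Q := act 4 n1389
theorem D3064 : act 4 n1389 = n3064 := rfl
theorem F2141 : act 0 n3064 = n1392 := d3_1 D3064 (iv D1392) D1389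
def n3065 : Q := act 0 n1390
theorem D3065 : act 0 n1390 = n3065 := rfl
def n3066 : Q := act 3 n1390
theorem D3066 : act 3 n1390 = n3066 := rfl
theorem F2142 : act 2 n3066 = n1391 := d7_1 D3066 (iv D1391) D1390
def n3067 : Q := act 4 n1390
theorem D3067 : act 4 n1390 = n3067 := rfl
def n3068 : Q := act 0 n1391
theorem D3068 : act 0 n1391 = n3068 := rfl
def n3069 : Q := act 4 n1391
theorem D3069 : act 4 n1391 = n3069 := rfl
theorem F2143 : act 1 n3069 = n1393 := d6_1 D3069 (iv D1393) (iv F776)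
theorem F2144 : act 3 n3069 = n1493 := d9_1 D3069 (iv D1493) (iv F774) D3058 (iv F2138) (iv D1392) D1391
def n3070 : Q := act 2 n1392
theorem D3070 : act 2 n1392 = n3070 := rfl
def n3071 : Q := act 2 n1393
theorem D3071 : act 2 n1393 = n3071 := rfl
theorem F2145 : act 3 n3071 = n1476 := d7_2 (iv F1194) D3071 F819
def n3072 : Q := act 1 n1395
theorem D3072 : act 1 n1395 = n3072 := rfl
theorem F2146 : act 3 n3072 = n1496 := d5_2 (iv F778) D3072 (iv D1496)
def n3074 : Q := act 1 n1396
theorem D3074 : act 1 n1396 = n3074 := rfl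
theorem F2147 : act 0 n3074 = n1402 := d0_1 D3074 (iv D1402) (iv D581) (iv D224) D223 D578 D1396
def n3075 : Q := act 2 n1396
theorem D3075 : act 2 n1396 = n3075 := rfl
def n3076 : Q := act 3 n1396
theorem D3076 : act 3 n1396 = n3076 := rfl
def n3077 : Q := act 4 n1396
theorem D3077 : act 4 n1396 = n3077 := rfl
theorem F2148 : act 0 n3077 = n1399 := d3_1 D3077 (iv D1399) D1396
def n3078 : Q := act 0 n1397
theorem D3078 : act 0 n1397 = n3078 := rfl
def n3079 : Q := act 1 n1397
theorem D3079 : act 1 n1397 = n3079 := rfl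
def n3080 : Q := act 3 n1397
theorem D3080 : act 3 n1397 = n3080 := rfl
theorem F2149 : act 2 n3080 = n1398 := d7_1 D3080 (iv D1398) D1397
def n3081 : Q := act 4 n1397
theorem D3081 : act 4 n1397 = n3081 := rfl
def n3082 : Q := act 0 n1398
theorem D3082 : act 0 n1398 = n3082 := rfl
def n3083 : Q := act 4 n1398
theorem D3083 : act 4 n1398 = n3083 := rfl
theorem F2150 : act 1 n3083 = n1400 := d6_1 D3083 (iv D1400) (iv F779)
theorem F2151 : act 3 n1470 = n3083 := d5_0 F2150 F1195 (iv F816)
def n3084 : Q := act 2 n1399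
theorem D3084 : act 2 n1399 = n3084 := rfl
def n3085 : Q := act 3 n1399
theorem D3085 : act 3 n1399 = n3085 := rfl
theorem F2152 : act 1 n3085 = n1401 := d5_1 D3085 (iv D1401) (iv F780)
theorem F2153 : act 4 n3085 = n1469 := d9_2 D1399 D3085 (iv D1469) D1470 F2151 (iv D3083) (iv D1398)
def n3086 : Q := act 2 n1400
theorem D3086 : act 2 n1400 = n3086 := rfl
theorem F2154 : act 3 n3086 = n1474 := d7_2 (iv F1195) D3086 (iv D1474)
def n3087 : Q := act 2 n1402
theorem D3087 : act 2 n1402 = n3087 := rfl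
theorem F2155 : act 1 n3087 = n1404 := d14_2 D1402 D3087 F781 (iv D843) (iv D333) F49 F18 (iv F9) D80 D224 D581
theorem F2156 : act 4 n3087 = n2835 := d17_3 (iv D1405) D1402 D3087 (iv D2835) F714 F253 F87 D206 D543 F264 (iv F286) (iv F782)
theorem F2157 : act 3 n1402 = n3087 := d5_0 F2155 (iv D1404) D1402
def n3088 : Q := act 4 n1402
theorem D3088 : act 4 n1402 = n3088 := rfl
theorem F2158 : act 1 n3088 = n1405 := d6_1 D3088 (iv D1405) D1402
theorem F2159 : act 2 n3088 = n2834 := d8_1 D3088 (iv D2834) (iv D1260) D1261 D2835 (iv F2156) (iv D3087)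
theorem F2160 : act 3 n2880 = n3088 := d7_0 F2159 (iv F1906) D2880
def n3089 : Q := act 0 n1403
theorem D3089 : act 0 n1403 = n3089 := rfl
def n3090 : Q := act 1 n1403
theorem D3090 : act 1 n1403 = n3090 := rfl
def n3091 : Q := act 3 n1403
theorem D3091 : act 3 n1403 = n3091 := rfl
theorem F2161 : act 2 n3091 = n1404 := d7_1 D3091 (iv D1404) D1403
def n3092 : Q := act 4 n1403
theorem D3092 : act 4 n1403 = n3092 := rfl
def n3093 : Q := act 4 n1404
theorem D3093 : act 4 n1404 = n3093 := rfl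
theorem F2162 : act 0 n3093 = n1985 := d3_1 D3093 (iv D1985) (iv F781)
theorem F2163 : act 1 n3093 = n2835 := d6_1 D3093 (iv F2156) F2155
theorem F2164 : act 3 n3093 = n1458 := d12_2 D1404 D3093 F811 (iv F1179) (iv D1410) (iv D583) D581
theorem E211 : n1415 = n1316 := (c16_5 F2164 F811 (iv F1179) F786 D1415 F1992 (iv D2940) (iv D1314) D1312 (iv F1201) F1202 (iv F1211) (iv F2162))
theorem E212 : n2597 = n2525 := ((((iv F1629)).symm.trans (sb E211 (iv F1705)))).symm
theorem E213 : n2942 = n586 := ((D2942).symm.trans (sb E211 (iv D1415)))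
theorem E214 : n610 = n549 := (((F1186).symm.trans (sb E211 F1180))).symm
theorem F2165 : act 2 n2525 = n1135 := (sb E212 (iv D2597))
theorem E215 : n1158 = n1100 := (((F1630).symm.trans (sb E212 F1704))).symm
theorem F2166 : act 2 n586 = n1316 := (sb E213 (iv D2942))
theorem E216 : n1329 = n236 := ((((iv F1181)).symm.trans (sb E213 F1996))).symm
theorem E217 : n1476 = n1328 := ((((iv F751)).symm.trans (sb E214 D1476))).symm
theorem E219 : n1479 = n209 := ((((iv D549)).symm.trans (sb E214 D1479))).symm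
theorem E220 : n2634 = n2535 := ((((iv F1637)).symm.trans (sb E215 D2634))).symm
theorem E222 : n2536 = n470 := ((D2536).symm.trans (sb E215 (iv D1158)))
theorem E223 : n2636 = n443 := ((((iv D1100)).symm.trans (sb E215 D2636))).symm
theorem E224 : n2962 = n609 := ((((iv F297)).symm.trans (sb E216 D2962))).symm
theorem F2167 : act 2 n236 = n549 := (sb E216 (iv D1329))
theorem E226 : n2964 = n84 := ((((iv D236)).symm.trans (sb E216 D2964))).symm
theorem E227 : n2961 = n618 := ((D2961).symm.trans (sb E217 F819))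
theorem E228 : n3071 = n2933 := ((((iv F1987)).symm.trans (sb E217 (iv F2145)))).symm
theorem E229 : n622 = n75 := (((F90).symm.trans (sb E219 F821))).symm
theorem F2168 : act 2 n2535 = n1166 := (sb E220 F1728)
theorem F2169 : act 2 n470 = n1100 := (sb E222 (iv D2536))
theorem E230 : n1170 = n168 := (((F209).symm.trans (sb E223 F1729))).symm
theorem E231 : n1474 = n1337 := ((D1474).symm.trans (sb E224 F2007))
theorem E232 : n1341 = n28 := (((F31).symm.trans (sb E226 F2008))).symm
theorem F2170 : act 2 n618 = n1328 := (sb E227 (iv D2961))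
theorem F2171 : act 2 n2933 = n1393 := (sb E228 (iv D3071))
theorem E233 : n1500 = n211 := (((D211).symm.trans (sb E229 (iv F827)))).symm
theorem E234 : n1503 = n201 := ((((iv F88)).symm.trans (sb E229 (iv F829)))).symm
theorem E236 : n241 = n212 := (((D212).symm.trans (sb E229 (iv D622)))).symm
theorem E237 : n2650 = n445 := (((D445).symm.trans (sb E230 (iv F1735)))).symm
theorem E240 : n475 = n446 := (((D446).symm.trans (sb E230 (iv D1170)))).symm
theorem E241 : n2606 = n2434 := ((((iv F1517)).symm.trans (sb E231 (iv F1712)))).symm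
theorem F2172 : act 2 n1337 = n609 := (sb E231 (iv D1474))
theorem E242 : n3086 = n2927 := ((((iv F1983)).symm.trans (sb E231 (iv F2154)))).symm
theorem E243 : n2978 = n86 := (((D86).symm.trans (sb E232 (iv F2012)))).symm
theorem E246 : n554 = n87 := (((D87).symm.trans (sb E232 (iv D1341)))).symm
theorem E247 : n620 = n553 := (((D553).symm.trans (sb E233 (iv D1500)))).symm
theorem E248 : n621 = n529 := (((D529).symm.trans (sb E234 (iv D1503)))).symm
theorem E249 : n588 = n544 := ((((iv F265)).symm.trans (sb E236 (iv F287)))).symm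
theorem E250 : n1168 = n1104 := (((D1104).symm.trans (sb E237 (iv D2650)))).symm
theorem E252 : n1105 = n180 := ((D1105).symm.trans (sb E240 (iv D475)))
theorem E253 : n1137 = n1095 := ((((iv F601)).symm.trans (sb E240 (iv F631)))).symm
theorem F2173 : act 2 n2434 = n1141 := (sb E241 (iv D2606))
theorem F2174 : act 2 n2927 = n1400 := (sb E242 (iv D3086))
theorem E254 : n1339 = n240 := (((D240).symm.trans (sb E243 (iv D2978)))).symm
theorem F2175 : act 2 n87 = n212 := (sb E246 (iv D554))
theorem E256 : n1318 = n227 := ((((iv F99)).symm.trans (sb E246 (iv F746)))).symm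
theorem E258 : n1472 = n1338 := (((D1338).symm.trans (sb E247 (iv F817)))).symm
theorem E259 : n1499 = n1308 := ((((iv F739)).symm.trans (sb E247 D1499))).symm
theorem E261 : n1502 = n1286 := (((D1286).symm.trans (sb E248 D1502))).symm
theorem E263 : n1419 = n1211 := ((((iv F669)).symm.trans (sb E249 D1419))).symm
theorem E266 : n2632 = n2542 := (((D2542).symm.trans (sb E250 (iv F1726)))).symm
theorem E267 : n2649 = n2517 := ((((iv F1621)).symm.trans (sb E250 D2649))).symm
theorem E271 : n2543 = n474 := ((((iv F228)).symm.trans (sb E252 D2543))).symm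
theorem F2176 : act 2 n180 = n446 := (sb E252 (iv D1105))
theorem E273 : n2526 = n461 := ((((iv F222)).symm.trans (sb E252 (iv F1631)))).symm
theorem E275 : n2598 = n2431 := ((((iv F1514)).symm.trans (sb E253 D2598))).symm
theorem E278 : n2436 = n619 := (((D619).symm.trans (sb E254 (iv F1521)))).symm
theorem F2177 : act 2 n227 = n544 := (sb E256 (iv D1318))
theorem E284 : n2437 = n2427 := (((iv F1522)).symm.trans (sb E258 (iv F1507)))
theorem E285 : n2928 = n2920 := (((iv F1984)).symm.trans (sb E258 (iv F1976)))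
theorem E286 : n2975 = n607 := ((D2975).symm.trans (sb E258 (iv D1472)))
theorem E287 : n2578 = n2569 := ((((iv F1677)).symm.trans (sb E259 (iv F1689)))).symm
theorem E288 : n2886 = n979 := ((D2886).symm.trans (sb E261 F828))
theorem E289 : n2741 = n2735 := ((D2741).symm.trans (sb E263 (iv F1812)))
theorem E291 : n1220 = n1207 := ((F1641).symm.trans (sb E266 F1725))
theorem F2178 : act 4 n2542 = n1155 := (sb E266 (iv D2632))
theorem E292 : n1395 = n1384 := (((F1620).symm.trans (sb E267 F1734))).symm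
theorem E293 : n1219 = n1167 := (((D1167).symm.trans (sb E271 F1642))).symm
theorem F2179 : act 2 n461 = n1095 := (sb E273 (iv D2526))
theorem E294 : n1495 = n1052 := (((F1515).symm.trans (sb E275 F1706))).symm
theorem E295 : n1497 = n1051 := ((D1497).symm.trans (sb E278 (iv D2436)))
theorem F2180 : act 0 n2427 = n1338 := (sb E284 F1522)
theorem F2181 : act 2 n2920 = n1308 := (sb E285 (iv D2928))
theorem F2182 : act 3 n2920 = n1338 := (sb E285 F1984)
theorem F2183 : act 4 n607 = n1338 := (sb E286 (iv D2975))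
theorem F2184 : act 2 n2569 = n1126 := (sb E287 (iv D2578))
theorem F2185 : act 1 n979 = n1286 := (sb E288 (iv D2886))
theorem F2186 : act 2 n2735 = n1211 := (sb E289 (iv D2741))
theorem F2187 : act 0 n1207 = n2542 := (sb E291 (iv F1641))
theorem F2188 : act 2 n1207 = n499 := (sb E291 (iv D1220))
theorem E298 : n3072 = n3055 := ((((iv F2135)).symm.trans (sb E292 D3072))).symm
theorem F2189 : act 2 n1384 = n577 := (sb E292 (iv D1395))
theorem F2190 : act 3 n1384 = n619 := (sb E292 F778)
theorem F2191 : act 0 n1167 = n499 := (sb E293 F677)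
theorem E300 : n2753 = n2646 := (((D2646).symm.trans (sb E293 (iv F1822)))).symm
theorem F2192 : act 3 n1167 = n2569 := (sb E293 (iv F1678))
theorem E301 : n2647 = n498 := ((D2647).symm.trans (sb E293 (iv D1219)))
theorem F2193 : act 0 n1052 = n619 := (sb E294 (iv D1495))
theorem F2194 : act 2 n1052 = n2427 := (sb E294 (iv F1508))
theorem F2195 : act 4 n1051 = n619 := (sb E295 (iv D1497))
theorem F2196 : act 3 n3055 = n1496 := (sb E298 F2146)
theorem F2197 : act 4 n2646 = n1218 := (sb E300 (iv D2753))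
theorem F2198 : act 4 n498 = n1167 := (sb E301 (iv D2647))
theorem F2199 : act 4 n1496 = n2435 := d9_2 D3055 F2196 F1518 (iv D1381) (iv D568) D569 D1383
theorem E302 : n2750 = n593 := (c8_6 D1207 F2188 (iv D499) (iv F240) D1216 D2750 (iv D593) (iv F238))
theorem E303 : n1434 = n1216 := ((D1434).symm.trans (sb E302 (iv D2750)))
theorem E304 : n2633 = n2541 := ((((iv F1640)).symm.trans (sb E303 (iv F1727)))).symm
theorem F2200 : act 2 n1216 = n593 := (sb E303 (iv D1434))
theorem F2201 : act 2 n2541 = n1157 := (sb E304 (iv D2633))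
theorem F2202 : act 2 n1414 = n2740 := d7_3 F1816 F2200 (iv F1178)
theorem F2204 : act 1 n2887 = n2295 := d6_3 (iv D2295) F2185 D2887
theorem F2205 : act 4 n2974 = n1471 := d6_2 F2183 D2974 (iv D1471)
theorem E305 : n1992 = n1968 := ((c16_10 F159 F63 (iv F58) (iv F98) F2177 (iv F719) (iv F1855) F1856 (iv F1870) F1871 (iv D1992) F444 F158)).symm
theorem F2206 : act 2 n1968 = n847 := (sb E305 (iv D1992))
theorem F2207 : act 3 n1968 = n967 := (sb E305 F1214)
theorem F2208 : act 3 n2799 = n2267 := d16_2 F1856 (iv F1870) (iv D2267) (iv D967) F175 F63 (iv F58) F57 (iv F98) F2177 (iv F719) (iv F1855)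
theorem F2209 : act 0 n2267 = n2847 := d16_12 F1915 F725 (iv F720) F719 (iv F2177) F98 F57 F58 (iv F63) (iv F175) D967 D2267
theorem F2210 : act 4 n2782 = n2267 := d3_0 F2209 (iv D2847) (iv F1852)
theorem E306 : n2268 = n1963 := (c6_3 F2210 (iv D2267) D2268 (iv F1853))
theorem F2211 : act 4 n1963 = n967 := (sb E306 (iv D2268))
theorem F2212 : act 2 n2764 = n2764 := d14_9 F1871 F2206 F444 F158 (iv F444) (iv F2206) (iv F1871) F1870 (iv F1834) F1834 (iv F1870)
theorem E307 : n2952 = n2264 := (c17_8 D52 (iv F32) F2175 (iv D212) (iv F90) (iv F268) D1324 D2952 (iv D2264) (iv D966) (iv D384) (iv D145) (iv D51))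
theorem F2213 : act 1 n2264 = n1324 := (sb E307 (iv D2952))
def n3094 : Q := act 2 n1405
theorem D3094 : act 2 n1405 = n3094 := rfl
def n3095 : Q := act 3 n1405
theorem D3095 : act 3 n1405 = n3095 := rfl
theorem F2214 : act 1 n3095 = n2880 := d5_1 D3095 F2160 F2158
theorem F2215 : act 4 n3095 = n1457 := d9_2 D1405 D3095 (iv D1457) D1458 (iv F2164) (iv D3093) (iv D1404)
theorem F2216 : act 0 n3095 = n2263 := d16_8 (iv D547) D545 (iv F1183) F744 F264 (iv F286) (iv F782) D3095 F1396 D2264 F2213 (iv D1324)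
def n3096 : Q := act 1 n1406
theorem D3096 : act 1 n1406 = n3096 := rfl
def n3097 : Q := act 2 n1406
theorem D3097 : act 2 n1406 = n3097 := rfl
def n3098 : Q := act 3 n1406
theorem D3098 : act 3 n1406 = n3098 := rfl
theorem F2217 : act 0 n3098 = n1983 := d10_1 D3098 (iv D1983) (iv F781) (iv D1404) (iv D581) D582 D1406
def n3099 : Q := act 4 n1406
theorem D3099 : act 4 n1406 = n3099 := rfl
theorem F2218 : act 0 n3099 = n1408 := d3_1 D3099 (iv D1408) D1406
def n3100 : Q := act 0 n1407
theorem D3100 : act 0 n1407 = n3100 := rfl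
def n3101 : Q := act 4 n1407
theorem D3101 : act 4 n1407 = n3101 := rfl
theorem F2219 : act 1 n3101 = n2075 := d6_1 D3101 (iv D2075) (iv F783)
def n3102 : Q := act 2 n1408
theorem D3102 : act 2 n1408 = n3102 := rfl
def n3103 : Q := act 3 n1408
theorem D3103 : act 3 n1408 = n3103 := rfl
def n3104 : Q := act 1 n1409
theorem D3104 : act 1 n1409 = n3104 := rfl
theorem F2221 : act 2 n3104 = n3104 := d14_1 D3104 (iv D3104) (iv D1409) F285 F97 F30 F19 (iv F30) (iv F97) (iv F285) D1409
def n3105 : Q := act 2 n1409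
theorem D3105 : act 2 n1409 = n3105 := rfl
def n3106 : Q := act 3 n1409
theorem D3106 : act 3 n1409 = n3106 := rfl
theorem F2222 : act 0 n3106 = n1984 := d2_1 D3106 (iv D1984) (iv F781) (iv D1404) (iv D581) D583 D1409
theorem F2223 : act 4 n3106 = n1446 := d12_1 D3106 (iv D1446) F291 F1177 (iv D584) D583 D1409
def n3107 : Q := act 4 n1409
theorem D3107 : act 4 n1409 = n3107 := rfl
theorem F2224 : act 0 n3107 = n1410 := d3_1 D3107 (iv D1410) D1409
theorem F2225 : act 3 n3107 = n1444 := d9_1 D3107 (iv D1444) (iv D597) D598 D1446 (iv F2223) (iv D3106)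
def n3108 : Q := act 2 n1410
theorem D3108 : act 2 n1410 = n3108 := rfl
theorem F2226 : act 3 n3108 = n1459 := d7_2 (iv F1179) D3108 (iv D1459)
def n3109 : Q := act 0 n1411
theorem D3109 : act 0 n1411 = n3109 := rfl
def n3110 : Q := act 4 n1411
theorem D3110 : act 4 n1411 = n3110 := rfl
theorem F2227 : act 1 n3110 = n1779 := d6_1 D3110 (iv D1779) (iv F1175)
def n3111 : Q := act 0 n1413
theorem D3111 : act 0 n1413 = n3111 := rfl
def n3112 : Q := act 2 n1413
theorem D3112 : act 2 n1413 = n3112 := rfl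
def n3113 : Q := act 4 n1413
theorem D3113 : act 4 n1413 = n3113 := rfl
theorem F2228 : act 1 n3113 = n1414 := d6_1 D3113 (iv D1414) D1413
theorem F2229 : act 3 n3113 = n1431 := d9_1 D3113 (iv D1431) (iv D591) D592 D1433 (iv F1683) F1682
def n3114 : Q := act 3 n1422
theorem D3114 : act 3 n1422 = n3114 := rfl
theorem F2230 : act 1 n3114 = n1424 := d5_1 D3114 (iv D1424) D1422
def n3115 : Q := act 3 n1423
theorem D3115 : act 3 n1423 = n3115 := rfl
theorem F2231 : act 2 n3115 = n1424 := d7_1 D3115 (iv D1424) D1423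
def n3116 : Q := act 4 n1423
theorem D3116 : act 4 n1423 = n3116 := rfl
theorem F2232 : act 0 n3116 = n2388 := d3_1 D3116 (iv D2388) (iv F791)
theorem F2233 : act 1 n3116 = n1509 := d6_1 D3116 (iv F1276) F1277
def n3117 : Q := act 0 n1424
theorem D3117 : act 0 n1424 = n3117 := rfl
def n3118 : Q := act 4 n1424
theorem D3118 : act 4 n1424 = n3118 := rfl
def n3119 : Q := act 2 n1425
theorem D3119 : act 2 n1425 = n3119 := rfl
def n3120 : Q := act 3 n1425
theorem D3120 : act 3 n1425 = n3120 := rfl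
def n3121 : Q := act 3 n1426
theorem D3121 : act 3 n1426 = n3121 := rfl
theorem F2234 : act 1 n3121 = n3121 := d5_1 D3121 (iv D3121) F793
def n3122 : Q := act 4 n1426
theorem D3122 : act 4 n1426 = n3122 := rfl
theorem F2235 : act 0 n3122 = n1429 := d3_1 D3122 (iv D1429) D1426
theorem F2236 : act 1 n3122 = n3122 := d6_1 D3122 (iv D3122) F793
theorem F2237 : act 2 n3122 = n1563 := d15_8 F947 (iv D749) D750 F385 D796 D1871 F1118 (iv F2235) (iv D1563) (iv D651) D652 D1566
def n3123 : Q := act 3 n1427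
theorem D3123 : act 3 n1427 = n3123 := rfl
theorem F2238 : act 1 n3123 = n1428 := d5_1 D3123 (iv D1428) D1427
def n3124 : Q := act 4 n1427
theorem D3124 : act 4 n1427 = n3124 := rfl
theorem F2239 : act 0 n3124 = n1761 := d3_1 D3124 (iv F1336) F1337
theorem F2240 : act 1 n3124 = n1429 := d6_1 D3124 (iv D1429) D1427
def n3125 : Q := act 0 n1428
theorem D3125 : act 0 n1428 = n3125 := rfl
def n3126 : Q := act 4 n1428
theorem D3126 : act 4 n1428 = n3126 := rfl
def n3127 : Q := act 3 n1429
theorem D3127 : act 3 n1429 = n3127 := rfl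
def n3128 : Q := act 1 n1430
theorem D3128 : act 1 n1430 = n3128 := rfl
def n3129 : Q := act 2 n1430
theorem D3129 : act 2 n1430 = n3129 := rfl
theorem F2241 : act 0 n3129 = n2387 := d10_3 D591 D1430 D3129 (iv D2387) (iv F791) (iv D1423) (iv D589)
def n3130 : Q := act 3 n1430
theorem D3130 : act 3 n1430 = n3130 := rfl
def n3131 : Q := act 4 n1430
theorem D3131 : act 4 n1430 = n3131 := rfl
theorem F2242 : act 0 n3131 = n1431 := d3_1 D3131 (iv D1431) D1430
def n3132 : Q := act 2 n1431
theorem D3132 : act 2 n1431 = n3132 := rfl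
def n3133 : Q := act 1 n1432
theorem D3133 : act 1 n1432 = n3133 := rfl
def n3134 : Q := act 3 n1432
theorem D3134 : act 3 n1432 = n3134 := rfl
theorem F2243 : act 2 n3134 = n1433 := d7_1 D3134 (iv D1433) D1432
def n3135 : Q := act 4 n1432
theorem D3135 : act 4 n1432 = n3135 := rfl
def n3136 : Q := act 0 n1433
theorem D3136 : act 0 n1433 = n3136 := rfl
def n3137 : Q := act 0 n1438
theorem D3137 : act 0 n1438 = n3137 := rfl
def n3138 : Q := act 3 n1439
theorem D3138 : act 3 n1439 = n3138 := rfl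
theorem F2244 : act 1 n3138 = n1592 := d5_1 D3138 (iv D1592) (iv F800)
theorem F2245 : act 2 n3138 = n2122 := d7_1 D3138 (iv D2122) F801
theorem F2246 : act 0 n3138 = n1456 := d10_1 D3138 (iv D1456) (iv D602) (iv D233) D231 D596 D1439
def n3139 : Q := act 4 n1439
theorem D3139 : act 4 n1439 = n3139 := rfl
theorem F2247 : act 0 n3139 = n1442 := d3_1 D3139 (iv D1442) D1439
theorem F2248 : act 1 n3139 = n1593 := d6_1 D3139 (iv D1593) (iv F800)
theorem F2249 : act 2 n3139 = n1569 := d17_10 (iv D1565) D1563 (iv F2237) (iv D3122) (iv F1289) (iv D2118) (iv D901) D902 F801 D3139 F887 (iv F884)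
def n3140 : Q := act 3 n1440
theorem D3140 : act 3 n1440 = n3140 := rfl
theorem F2250 : act 1 n3140 = n1441 := d5_1 D3140 (iv D1441) D1440
theorem F2251 : act 2 n3140 = n3140 := d7_1 D3140 (iv D3140) F802
def n3141 : Q := act 0 n1441
theorem D3141 : act 0 n1441 = n3141 := rfl
def n3142 : Q := act 4 n1441
theorem D3142 : act 4 n1441 = n3142 := rfl
def n3143 : Q := act 2 n1442
theorem D3143 : act 2 n1442 = n3143 := rfl
theorem F2252 : act 0 n3143 = n1453 := d11_3 D596 D1442 D3143 (iv D1453) (iv D601) (iv D232) D231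
theorem F2253 : act 4 n1768 = n3143 := d3_0 F2252 F869 D1768
def n3144 : Q := act 3 n1442
theorem D3144 : act 3 n1442 = n3144 := rfl
def n3145 : Q := act 2 n1443
theorem D3145 : act 2 n1443 = n3145 := rfl
theorem F2254 : act 1 n3145 = n2023 := d4_1 D3145 (iv D2023) (iv D860) (iv D341) (iv F147) D841 (iv F805)
theorem F2255 : act 3 n3145 = n2262 := d7_2 (iv F804) D3145 (iv D2262)
theorem F2256 : act 0 n3145 = n1449 := d10_3 D597 D1443 D3145 (iv D1449) (iv D599) (iv D232) D231
def n3146 : Q := act 4 n1443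
theorem D3146 : act 4 n1443 = n3146 := rfl
theorem F2257 : act 0 n3146 = n1444 := d3_1 D3146 (iv D1444) D1443
theorem F2258 : act 1 n3146 = n1979 := d6_1 D3146 (iv D1979) (iv F805)
theorem F2259 : act 3 n3146 = n1985 := d12_2 (iv F804) D3146 (iv F2162) F2164 (iv D1458) D1457 F810
theorem E308 : n1988 = n1979 := (c5_3 F2259 F1211 D1988 (iv F2258))
theorem F2260 : act 3 n1979 = n845 := (sb E308 (iv D1988))
theorem E309 : n2265 = n1987 := ((c9_5 D1979 F2260 (iv D845) D844 D1987 (iv D2265) (iv D966) (iv F442))).symm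
theorem F2261 : act 3 n1987 = n966 := (sb E309 (iv D2265))
def n3147 : Q := act 2 n1444
theorem D3147 : act 2 n1444 = n3147 := rfl
def n3148 : Q := act 0 n1445
theorem D3148 : act 0 n1445 = n3148 := rfl
theorem F2262 : act 2 n3148 = n2123 := d11_4 (iv D596) D598 D1445 D3148 (iv D2123) F801 (iv D1439)
theorem F2263 : act 1 n3148 = n2744 := d13_2 D1445 D3148 (iv D2744) (iv D1213) D1212 F671 F570 F241 F100 (iv F103) (iv F291)
theorem F2264 : act 4 n3148 = n1567 := d17_0 F885 (iv D674) D676 D1613 F1862 F1860 (iv F1866) F1867 (iv D2794) D2792 F1864 D3148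
theorem F2265 : act 2 n1763 = n2709 := d15_6 (iv D1445) F291 D604 (iv F866) (iv F384) (iv F1042) (iv D2709) D2710 F1797 D2744 (iv F2263) (iv D3148)
theorem E310 : n2744 = n1610 := ((c6_3 F2264 F885 D1610 (iv F2263))).symm
theorem F2266 : act 0 n1610 = n1213 := (sb E310 (iv D2744))
theorem F2267 : act 1 n1610 = n3148 := (sb E310 (iv F2263))
theorem E311 : n2746 = n1608 := (c3_3 D1610 F2266 D2746 (iv D1608))
theorem F2268 : act 4 n1608 = n1213 := (sb E311 (iv D2746))
def n3149 : Q := act 3 n1445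
theorem D3149 : act 3 n1445 = n3149 := rfl
theorem F2269 : act 2 n3149 = n1446 := d7_1 D3149 (iv D1446) D1445
def n3150 : Q := act 4 n1445
theorem D3150 : act 4 n1445 = n3150 := rfl
theorem F2270 : act 0 n3150 = n1567 := d3_1 D3150 (iv F2264) (iv D3148)
theorem F2271 : act 2 n3150 = n1768 := d8_1 D3150 F2253 (iv D3143) (iv D1442) (iv D596) D598 D1445
def n3151 : Q := act 0 n1446
theorem D3151 : act 0 n1446 = n3151 := rfl
theorem F2272 : act 3 n3151 = n2263 := d2_2 D1446 D3151 (iv F2216) (iv D3095) F782 (iv F1177) (iv F291)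
theorem F2273 : act 4 n3151 = n1984 := d3_2 F2223 D3151 (iv F2222)
theorem F2274 : act 1 n1987 = n3151 := d6_3 F2273 F1210 D1987
def n3152 : Q := act 3 n1448
theorem D3152 : act 3 n1448 = n3152 := rfl
theorem F2275 : act 2 n3152 = n1449 := d7_1 D3152 (iv D1449) D1448
def n3153 : Q := act 4 n1448
theorem D3153 : act 4 n1448 = n3153 := rfl
theorem F2276 : act 0 n3153 = n2123 := d3_1 D3153 (iv D2123) (iv F806)
theorem F2277 : act 1 n3153 = n2859 := d6_1 D3153 F1921 F1718
theorem F2278 : act 2 n3153 = n1461 := d11_2 D1448 D3153 (iv D1461) (iv D604) (iv D234) D232 D599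
def n3154 : Q := act 4 n1449
theorem D3154 : act 4 n1449 = n3154 := rfl
def n3155 : Q := act 2 n1450
theorem D3155 : act 2 n1450 = n3155 := rfl
theorem F2279 : act 0 n3155 = n1569 := d1_1 D3155 (iv F2249) F2247 D3143 F2252 (iv D1453) (iv F807)
theorem F2280 : act 1 n3155 = n2461 := d4_1 D3155 (iv D2461) F582 D1246 D2805 (iv F1874) F1721
theorem F2281 : act 4 n3155 = n1566 := d8_2 D1450 D3155 F947 (iv F868) (iv F2278) (iv D3153) (iv D1448)
def n3156 : Q := act 3 n1450
theorem D3156 : act 3 n1450 = n3156 := rfl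
def n3157 : Q := act 1 n1451
theorem D3157 : act 1 n1451 = n3157 := rfl
def n3158 : Q := act 2 n1451
theorem D3158 : act 2 n1451 = n3158 := rfl
theorem F2282 : act 0 n3158 = n2122 := d1_1 D3158 (iv F2245) F2246 (iv D1456) (iv D602) (iv F293) D1451
def n3159 : Q := act 3 n1451
theorem D3159 : act 3 n1451 = n3159 := rfl
theorem F2283 : act 0 n3159 = n2262 := d2_1 D3159 (iv F2255) F2256 (iv D1449) (iv D599) D600 D1451
def n3160 : Q := act 4 n1451
theorem D3160 : act 4 n1451 = n3160 := rfl
theorem F2284 : act 0 n3160 = n1452 := d3_1 D3160 (iv D1452) D1451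
def n3161 : Q := act 2 n1452
theorem D3161 : act 2 n1452 = n3161 := rfl
def n3162 : Q := act 3 n1452
theorem D3162 : act 3 n1452 = n3162 := rfl
theorem F2285 : act 1 n3162 = n2188 := d5_1 D3162 (iv D2188) (iv F808)
def n3163 : Q := act 3 n1453
theorem D3163 : act 3 n1453 = n3163 := rfl
theorem F2286 : act 1 n3163 = n1878 := d5_1 D3163 (iv D1878) F870
theorem F2287 : act 2 n3163 = n1454 := d7_1 D3163 (iv D1454) D1453
def n3165 : Q := act 4 n1454
theorem D3165 : act 4 n1454 = n3165 := rfl
theorem F2288 : act 1 n3165 = n2193 := d6_1 D3165 (iv D2193) (iv F809)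
def n3166 : Q := act 0 n1455
theorem D3166 : act 0 n1455 = n3166 := rfl
theorem F2289 : act 1 n3166 = n1467 := d0_2 D1455 D3166 (iv D1467) (iv D606) (iv D235) (iv F102) D602
def n3167 : Q := act 2 n1455
theorem D3167 : act 2 n1455 = n3167 := rfl
theorem F2290 : act 1 n3167 = n1457 := d14_2 D1455 D3167 F810 (iv D965) (iv D384) (iv D145) (iv D51) (iv F10) (iv F31) (iv F102) D602
theorem F2291 : act 4 n3167 = n2880 := d17_3 (iv D1458) D1455 D3167 (iv D2880) (iv D1283) (iv D528) F88 (iv F90) D549 (iv F2167) (iv F295) (iv F811)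
theorem F2292 : act 3 n1455 = n3167 := d5_0 F2290 (iv D1457) D1455
def n3168 : Q := act 4 n1455
theorem D3168 : act 4 n1455 = n3168 := rfl
theorem F2293 : act 1 n3168 = n1458 := d6_1 D3168 (iv D1458) D1455
theorem F2294 : act 3 n3168 = n2835 := d9_1 D3168 (iv F2156) (iv F2157) D3088 (iv F2160) (iv F2291) (iv F2292)
theorem F2295 : act 2 n3168 = n2836 := d17_10 F2210 (iv D2267) (iv D967) (iv D385) D384 D965 (iv F810) (iv F2290) (iv D3167) D3168 F1907 (iv F1852)
def n3169 : Q := act 1 n1456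
theorem D3169 : act 1 n1456 = n3169 := rfl
def n3170 : Q := act 3 n1456
theorem D3170 : act 3 n1456 = n3170 := rfl
theorem F2296 : act 2 n3170 = n1457 := d7_1 D3170 (iv D1457) D1456
def n3171 : Q := act 4 n1456
theorem D3171 : act 4 n1456 = n3171 := rfl
def n3172 : Q := act 2 n1458
theorem D3172 : act 2 n1458 = n3172 := rfl
def n3173 : Q := act 0 n1459
theorem D3173 : act 0 n1459 = n3173 := rfl
def n3174 : Q := act 1 n1459
theorem D3174 : act 1 n1459 = n3174 := rfl
def n3175 : Q := act 4 n1459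
theorem D3175 : act 4 n1459 = n3175 := rfl
def n3176 : Q := act 3 n1461
theorem D3176 : act 3 n1461 = n3176 := rfl
theorem F2297 : act 1 n3176 = n2486 := d5_1 D3176 (iv D2486) (iv F1043)
def n3177 : Q := act 2 n1467
theorem D3177 : act 2 n1467 = n3177 := rfl
def n3178 : Q := act 3 n1467
theorem D3178 : act 3 n1467 = n3178 := rfl
def n3179 : Q := act 4 n1467
theorem D3179 : act 4 n1467 = n3179 := rfl
theorem F2298 : act 0 n3179 = n1470 := d3_1 D3179 (iv D1470) D1467
def n3180 : Q := act 0 n1468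
theorem D3180 : act 0 n1468 = n3180 := rfl
def n3181 : Q := act 1 n1468
theorem D3181 : act 1 n1468 = n3181 := rfl
def n3182 : Q := act 3 n1468
theorem D3182 : act 3 n1468 = n3182 := rfl
theorem F2299 : act 2 n3182 = n1469 := d7_1 D3182 (iv D1469) D1468
def n3183 : Q := act 4 n1468
theorem D3183 : act 4 n1468 = n3183 := rfl
def n3184 : Q := act 0 n1469
theorem D3184 : act 0 n1469 = n3184 := rfl
def n3185 : Q := act 2 n1470
theorem D3185 : act 2 n1470 = n3185 := rfl
def n3186 : Q := act 0 n1471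
theorem D3186 : act 0 n1471 = n3186 := rfl
def n3187 : Q := act 2 n1471
theorem D3187 : act 2 n1471 = n3187 := rfl
def n3188 : Q := act 0 n1485
theorem D3188 : act 0 n1485 = n3188 := rfl
theorem F2300 : act 3 n3188 = n3017 := d10_4 (iv F276) D614 D1485 D3188 (iv D3017) (iv D1366) F916
def n3189 : Q := act 1 n1485
theorem D3189 : act 1 n1485 = n3189 := rfl
def n3190 : Q := act 4 n1485
theorem D3190 : act 4 n1485 = n3190 := rfl
def n3191 : Q := act 2 n1486
theorem D3191 : act 2 n1486 = n3191 := rfl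
def n3192 : Q := act 1 n1487
theorem D3192 : act 1 n1487 = n3192 := rfl
def n3193 : Q := act 2 n1487
theorem D3193 : act 2 n1487 = n3193 := rfl
theorem F2301 : act 1 n3193 = n1594 := d15_3 D615 D1487 D3193 (iv D1594) F325 F113 (iv F62) (iv D146) D145 D383 (iv F298) (iv D614)
def n3194 : Q := act 3 n1487
theorem D3194 : act 3 n1487 = n3194 := rfl
theorem F2302 : act 0 n3194 = n2990 := d2_1 D3194 F2021 D3188 F2300 (iv D3017) F766 D1487
def n3195 : Q := act 4 n1487
theorem D3195 : act 4 n1487 = n3195 := rfl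
theorem F2303 : act 0 n3195 = n1489 := d3_1 D3195 (iv D1489) D1487
def n3196 : Q := act 0 n1488
theorem D3196 : act 0 n1488 = n3196 := rfl
theorem F2304 : act 3 n3196 = n2395 := d2_2 F2105 D3196 (iv D2395) (iv D1028) D1026 D2392 (iv F2106)
theorem F2305 : act 1 n3196 = n2195 := d14_4 D238 D615 D1488 D3196 (iv D2195) (iv D932) (iv D371) F60 F20 (iv F10) D86
def n3197 : Q := act 2 n1488
theorem D3197 : act 2 n1488 = n3197 := rfl
theorem F2306 : act 1 n3197 = n1492 := d4_1 D3197 (iv D1492) (iv D617) (iv D239) D238 D615 D1488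
def n3198 : Q := act 4 n1488
theorem D3198 : act 4 n1488 = n3198 := rfl
theorem F2307 : act 1 n3198 = n1489 := d6_1 D3198 (iv D1489) D1488
def n3199 : Q := act 2 n1489
theorem D3199 : act 2 n1489 = n3199 := rfl
def n3200 : Q := act 3 n1489
theorem D3200 : act 3 n1489 = n3200 := rfl
def n3201 : Q := act 0 n1490
theorem D3201 : act 0 n1490 = n3201 := rfl
def n3202 : Q := act 1 n1490
theorem D3202 : act 1 n1490 = n3202 := rfl
def n3203 : Q := act 4 n1490
theorem D3203 : act 4 n1490 = n3203 := rfl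
def n3204 : Q := act 1 n1491
theorem D3204 : act 1 n1491 = n3204 := rfl
def n3205 : Q := act 2 n1491
theorem D3205 : act 2 n1491 = n3205 := rfl
def n3206 : Q := act 3 n1491
theorem D3206 : act 3 n1491 = n3206 := rfl
theorem F2308 : act 0 n3206 = n2255 := d16_8 F276 F916 (iv F276) (iv D238) D239 D617 D1491 D3206 (iv D2255) (iv D962) (iv F298) (iv D614)
def n3207 : Q := act 4 n1491
theorem D3207 : act 4 n1491 = n3207 := rfl
theorem F2309 : act 0 n3207 = n1493 := d3_1 D3207 (iv D1493) D1491
def n3208 : Q := act 0 n1492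
theorem D3208 : act 0 n1492 = n3208 := rfl
def n3209 : Q := act 4 n1492
theorem D3209 : act 4 n1492 = n3209 := rfl
def n3210 : Q := act 2 n1493
theorem D3210 : act 2 n1493 = n3210 := rfl
def n3211 : Q := act 0 n1496
theorem D3211 : act 0 n1496 = n3211 := rfl
def n3212 : Q := act 2 n1496
theorem D3212 : act 2 n1496 = n3212 := rfl
def n3213 : Q := act 0 n1505
theorem D3213 : act 0 n1505 = n3213 := rfl
theorem F2310 : act 2 n3213 = n1507 := d10_2 D1505 D3213 (iv D1507) (iv D624) F105 D267 (iv F301)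
def n3214 : Q := act 4 n1505
theorem D3214 : act 4 n1505 = n3214 := rfl
theorem F2311 : act 1 n3214 = n2660 := d6_1 D3214 (iv D2660) (iv F830)
def n3215 : Q := act 3 n1506
theorem D3215 : act 3 n1506 = n3215 := rfl
theorem F2312 : act 1 n3215 = n2662 := d5_1 D3215 (iv D2662) (iv F833)
def n3216 : Q := act 4 n1507
theorem D3216 : act 4 n1507 = n3216 := rfl
theorem F2313 : act 0 n3216 = n1508 := d3_1 D3216 (iv D1508) D1507
def n3217 : Q := act 2 n1508
theorem D3217 : act 2 n1508 = n3217 := rfl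
def n3218 : Q := act 3 n1508
theorem D3218 : act 3 n1508 = n3218 := rfl
theorem F2314 : act 1 n3218 = n1522 := d5_1 D3218 (iv D1522) (iv F834)
theorem F2315 : act 0 n3218 = n1630 := d12_3 D624 D1508 D3218 (iv D1630) (iv D685) (iv D268) (iv F105)
def n3219 : Q := act 3 n1509
theorem D3219 : act 3 n1509 = n3219 := rfl
theorem F2316 : act 2 n3219 = n1510 := d7_1 D3219 (iv D1510) D1509
def n3220 : Q := act 0 n1510
theorem D3220 : act 0 n1510 = n3220 := rfl
def n3221 : Q := act 4 n1510
theorem D3221 : act 4 n1510 = n3221 := rfl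
theorem F2317 : act 1 n3221 = n1528 := d6_1 D3221 (iv D1528) (iv F836)
def n3222 : Q := act 0 n1511
theorem D3222 : act 0 n1511 = n3222 := rfl
theorem F2318 : act 1 n3222 = n3047 := d0_2 (iv F837) D3222 F2132 F1151 D1931 F1651 (iv D1513)
theorem F2319 : act 2 n3222 = n3222 := d1_2 (iv F838) D3222 (iv D3222) F838 D2655 F1737 (iv D2655)
theorem F2320 : act 3 n3222 = n3045 := d16_2 D1511 D3222 (iv D3045) D3046 F2131 (iv D1646) (iv D694) D692 F352 (iv D426) D425 (iv F307)
def n3223 : Q := act 4 n1511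
theorem D3223 : act 4 n1511 = n3223 := rfl
theorem F2321 : act 1 n3223 = n1514 := d6_1 D3223 (iv D1514) (iv F837)
def n3224 : Q := act 3 n1512
theorem D3224 : act 3 n1512 = n3224 := rfl
theorem F2322 : act 1 n3224 = n1516 := d5_1 D3224 (iv D1516) (iv F840)
def n3225 : Q := act 2 n1513
theorem D3225 : act 2 n1513 = n3225 := rfl
theorem F2323 : act 0 n3225 = n1531 := d1_1 D3225 F853 (iv F842) (iv D1518) (iv D629) (iv F309) D1513
def n3226 : Q := act 3 n1513
theorem D3226 : act 3 n1513 = n3226 := rfl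
theorem F2324 : act 0 n3226 = n1553 := d2_1 D3226 (iv D1553) F317 (iv D417) (iv F106) D627 D1513
theorem F2325 : act 1 n3226 = n2355 := d5_1 D3226 F1539 F1651
def n3227 : Q := act 4 n1513
theorem D3227 : act 4 n1513 = n3227 := rfl
theorem F2326 : act 0 n3227 = n1514 := d3_1 D3227 (iv D1514) D1513
def n3228 : Q := act 2 n1514
theorem D3228 : act 2 n1514 = n3228 := rfl
def n3229 : Q := act 3 n1514
theorem D3229 : act 3 n1514 = n3229 := rfl
theorem F2327 : act 0 n3229 = n2418 := d12_3 D627 D1514 D3229 (iv D2418) (iv D1039) (iv D417) (iv F106)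
def n3230 : Q := act 1 n1515
theorem D3230 : act 1 n1515 = n3230 := rfl
def n3231 : Q := act 3 n1515
theorem D3231 : act 3 n1515 = n3231 := rfl
theorem F2328 : act 2 n3231 = n1516 := d7_1 D3231 (iv D1516) D1515
def n3232 : Q := act 4 n1515
theorem D3232 : act 4 n1515 = n3232 := rfl
theorem F2329 : act 0 n3232 = n1546 := d3_1 D3232 (iv D1546) (iv F841)
theorem F2330 : act 2 n3232 = n1526 := d8_1 D3232 (iv D1526) (iv D631) (iv D245) D243 D628 D1515
def n3233 : Q := act 0 n1516
theorem D3233 : act 0 n1516 = n3233 := rfl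
def n3234 : Q := act 4 n1516
theorem D3234 : act 4 n1516 = n3234 := rfl
def n3235 : Q := act 2 n1517
theorem D3235 : act 2 n1517 = n3235 := rfl
theorem F2331 : act 0 n3235 = n3235 := d1_1 D3235 (iv D3235) (iv F1649) F1650 F918 (iv F1650) F1649
theorem F2332 : act 3 n3235 = n2552 := d7_2 (iv F1648) D3235 (iv D2552)
def n3236 : Q := act 4 n1517
theorem D3236 : act 4 n1517 = n3236 := rfl
theorem F2333 : act 1 n3236 = n1520 := d6_1 D3236 (iv D1520) D1517
def n3237 : Q := act 1 n1518
theorem D3237 : act 1 n1518 = n3237 := rfl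
def n3238 : Q := act 3 n1518
theorem D3238 : act 3 n1518 = n3238 := rfl
theorem F2334 : act 0 n3238 = n1540 := d2_1 D3238 (iv D1540) (iv D641) (iv D248) D246 D635 (iv F842)
theorem F2335 : act 2 n3238 = n1519 := d7_1 D3238 (iv D1519) D1518
def n3239 : Q := act 4 n1518
theorem D3239 : act 4 n1518 = n3239 := rfl
theorem F2336 : act 0 n3239 = n1533 := d3_1 D3239 (iv D1533) (iv F842)
def n3240 : Q := act 4 n1519
theorem D3240 : act 4 n1519 = n3240 := rfl
theorem F2337 : act 0 n3240 = n1555 := d3_1 D3240 (iv D1555) (iv F843)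
theorem F2338 : act 1 n3240 = n2553 := d6_1 D3240 (iv D2553) F1647
theorem F2339 : act 3 n3240 = n1527 := d12_2 D1519 D3240 (iv D1527) (iv D632) (iv D245) D244 D629
def n3241 : Q := act 2 n1520
theorem D3241 : act 2 n1520 = n3241 := rfl
def n3242 : Q := act 3 n1520
theorem D3242 : act 3 n1520 = n3242 := rfl
theorem F2340 : act 0 n3242 = n1557 := d2_1 D3242 (iv D1557) F318 D650 (iv F845) (iv D1522) (iv F844)
def n3243 : Q := act 0 n1521
theorem D3243 : act 0 n1521 = n3243 := rfl
def n3244 : Q := act 1 n1521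
theorem D3244 : act 1 n1521 = n3244 := rfl
def n3245 : Q := act 3 n1521
theorem D3245 : act 3 n1521 = n3245 := rfl
theorem F2341 : act 2 n3245 = n1522 := d7_1 D3245 (iv D1522) D1521
def n3246 : Q := act 4 n1521
theorem D3246 : act 4 n1521 = n3246 := rfl
def n3247 : Q := act 4 n1522
theorem D3247 : act 4 n1522 = n3247 := rfl
theorem F2342 : act 0 n3247 = n1562 := d3_1 D3247 (iv D1562) (iv F845)
theorem F2343 : act 3 n3247 = n1528 := d9_1 D3247 (iv D1528) (iv D632) (iv D245) D244 D630 D1522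
def n3248 : Q := act 3 n1523
theorem D3248 : act 3 n1523 = n3248 := rfl
theorem F2344 : act 2 n3248 = n2416 := d7_1 D3248 (iv D2416) (iv F846)
theorem F2345 : act 0 n3248 = n1574 := d10_1 D3248 (iv D1574) (iv D655) (iv D253) (iv F107) D631 D1523
def n3249 : Q := act 4 n1523
theorem D3249 : act 4 n1523 = n3249 := rfl
theorem F2346 : act 0 n3249 = n1526 := d3_1 D3249 (iv D1526) D1523
theorem F2347 : act 2 n3249 = n2421 := d8_1 D3249 (iv D2421) (iv D1040) (iv D418) D416 D1038 (iv F846)
def n3250 : Q := act 0 n1524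
theorem D3250 : act 0 n1524 = n3250 := rfl
theorem F2348 : act 2 n3250 = n3250 := d13_4 (iv F846) (iv D1523) D1524 D3250 (iv D3250) (iv D1524) D1523 F846 (iv F854) F855 F854
def n3251 : Q := act 2 n1524
theorem D3251 : act 2 n1524 = n3251 := rfl
def n3252 : Q := act 3 n1524
theorem D3252 : act 3 n1524 = n3252 := rfl
theorem F2349 : act 1 n3252 = n1525 := d5_1 D3252 (iv D1525) D1524
def n3253 : Q := act 4 n1524
theorem D3253 : act 4 n1524 = n3253 := rfl
theorem F2350 : act 1 n3253 = n1526 := d6_1 D3253 (iv D1526) D1524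
def n3254 : Q := act 0 n1525
theorem D3254 : act 0 n1525 = n3254 := rfl
def n3255 : Q := act 4 n1525
theorem D3255 : act 4 n1525 = n3255 := rfl
def n3256 : Q := act 3 n1526
theorem D3256 : act 3 n1526 = n3256 := rfl
def n3257 : Q := act 1 n1527
theorem D3257 : act 1 n1527 = n3257 := rfl
theorem F2351 : act 3 n3257 = n2553 := d5_2 F2339 D3257 (iv F2338)
def n3258 : Q := act 2 n1527
theorem D3258 : act 2 n1527 = n3258 := rfl
theorem F2352 : act 0 n3258 = n1564 := d10_3 D632 D1527 D3258 (iv D1564) (iv D651) (iv D252) (iv F107)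
def n3259 : Q := act 4 n1527
theorem D3259 : act 4 n1527 = n3259 := rfl
theorem F2353 : act 0 n3259 = n1528 := d3_1 D3259 (iv D1528) D1527
def n3260 : Q := act 2 n1528
theorem D3260 : act 2 n1528 = n3260 := rfl
def n3261 : Q := act 0 n1529
theorem D3261 : act 0 n1529 = n3261 := rfl
theorem F2354 : act 2 n3261 = n2659 := d1_2 (iv F849) D3261 (iv D2659) F648 D1175 D2663 F1747
theorem F2355 : act 3 n3261 = n2996 := d2_2 D1529 D3261 F2026 (iv F1769) F1768 (iv D2301) F514
def n3262 : Q := act 4 n1529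
theorem D3262 : act 4 n1529 = n3262 := rfl
theorem F2356 : act 1 n3262 = n1533 := d6_1 D3262 (iv D1533) (iv F848)
def n3263 : Q := act 3 n1530
theorem D3263 : act 3 n1530 = n3263 := rfl
theorem F2357 : act 1 n3263 = n1535 := d5_1 D3263 (iv D1535) (iv F850)
theorem F2358 : act 2 n3263 = n2707 := d7_1 D3263 (iv D2707) (iv F851)
def n3264 : Q := act 4 n1531
theorem D3264 : act 4 n1531 = n3264 := rfl
theorem F2359 : act 1 n3264 = n3264 := d6_1 D3264 (iv D3264) F852
def n3265 : Q := act 3 n1532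
theorem D3265 : act 3 n1532 = n3265 := rfl
theorem F2360 : act 1 n3265 = n3265 := d5_1 D3265 (iv D3265) F855
theorem F2361 : act 2 n3265 = n1564 := d7_1 D3265 (iv D1564) (iv F856)
def n3266 : Q := act 2 n1533
theorem D3266 : act 2 n1533 = n3266 := rfl
def n3267 : Q := act 3 n1533
theorem D3267 : act 3 n1533 = n3267 := rfl
theorem F2362 : act 0 n3267 = n1543 := d12_3 D635 D1533 D3267 (iv D1543) (iv D642) (iv D248) D246
def n3268 : Q := act 1 n1534
theorem D3268 : act 1 n1534 = n3268 := rfl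
theorem F2363 : act 0 n3268 = n2604 := d13_3 D1040 (iv F857) D3268 (iv D2604) (iv F1288) (iv F1741) F1740 (iv D2440) (iv F839) F840 F310
theorem F2364 : act 2 n2121 = n3268 := d15_8 (iv D2865) (iv D1276) D1277 F722 D1321 (iv F1364) (iv D2126) (iv F1292) (iv D3268) F857 D2419 (iv F1928)
def n3269 : Q := act 3 n1534
theorem D3269 : act 3 n1534 = n3269 := rfl
theorem F2365 : act 2 n3269 = n1535 := d7_1 D3269 (iv D1535) D1534
def n3270 : Q := act 4 n1534
theorem D3270 : act 4 n1534 = n3270 := rfl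
theorem F2366 : act 0 n3270 = n2421 := d3_1 D3270 (iv D2421) (iv F857)
theorem F2367 : act 2 n3270 = n1565 := d8_1 D3270 (iv D1565) (iv F856) (iv D1532) (iv D634) D636 D1534
def n3271 : Q := act 0 n1535
theorem D3271 : act 0 n1535 = n3271 := rfl
def n3272 : Q := act 4 n1535
theorem D3272 : act 4 n1535 = n3272 := rfl
def n3273 : Q := act 3 n1536
theorem D3273 : act 3 n1536 = n3273 := rfl
theorem F2368 : act 1 n3273 = n1543 := d5_1 D3273 (iv D1543) (iv F858)
def n3274 : Q := act 4 n1537
theorem D3274 : act 4 n1537 = n3274 := rfl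
theorem F2369 : act 1 n3274 = n1548 := d6_1 D3274 (iv D1548) (iv F859)
def n3275 : Q := act 0 n1538
theorem D3275 : act 0 n1538 = n3275 := rfl
theorem F2370 : act 2 n3275 = n2888 := d1_2 (iv F860) D3275 (iv D2888) (iv D1287) (iv D530) D531 D1290
def n3276 : Q := act 3 n1538
theorem D3276 : act 3 n1538 = n3276 := rfl
theorem F2371 : act 1 n3276 = n1540 := d5_1 D3276 (iv D1540) D1538
theorem F2372 : act 2 n3276 = n2682 := d7_1 D3276 F1774 (iv F860)
theorem F2373 : act 0 n3276 = n2332 := d10_1 D3276 (iv D2332) D2331 F1944 D2888 (iv F2370) (iv D3275)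
def n3277 : Q := act 4 n1538
theorem D3277 : act 4 n1538 = n3277 := rfl
theorem F2374 : act 1 n3277 = n1541 := d6_1 D3277 (iv D1541) D1538
theorem F2375 : act 2 n3277 = n2906 := d11_2 (iv F860) D3277 (iv D2906) (iv D1296) (iv D533) D531 D1290
def n3278 : Q := act 3 n1539
theorem D3278 : act 3 n1539 = n3278 := rfl
theorem F2376 : act 2 n3278 = n1540 := d7_1 D3278 (iv D1540) D1539
theorem F2377 : act 1 n2499 = n3278 := d15_5 (iv F379) (iv F960) (iv F1592) (iv D2500) D2499 F2376 (iv F2334) F2335 (iv F1647) (iv D1109) (iv F361) F360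
theorem F2378 : act 2 n2499 = n1799 := d4_2 (iv F2376) (iv F2377) F1770 (iv D2683) D2682 (iv F2372) F2371
theorem F2379 : act 3 n1798 = n2499 := d7_0 F2378 (iv D1799) D1798
def n3279 : Q := act 4 n1539
theorem D3279 : act 4 n1539 = n3279 := rfl
theorem F2380 : act 0 n3279 = n2415 := d3_1 D3279 (iv D2415) (iv F861)
theorem F2381 : act 2 n3279 = n1558 := d11_2 D1539 D3279 (iv D1558) (iv D649) (iv D251) (iv F108) D641
def n3280 : Q := act 4 n1540
theorem D3280 : act 4 n1540 = n3280 := rfl
theorem F2382 : act 3 n3280 = n1547 := d12_2 D1540 D3280 (iv D1547) (iv D644) (iv D249) D248 D641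
def n3281 : Q := act 2 n1541
theorem D3281 : act 2 n1541 = n3281 := rfl
theorem F2383 : act 0 n3281 = n2417 := d11_3 (iv D1539) D1541 D3281 (iv D2417) (iv D1039) (iv F556) (iv F861)
def n3282 : Q := act 3 n1541
theorem D3282 : act 3 n1541 = n3282 := rfl
def n3283 : Q := act 0 n1542
theorem D3283 : act 0 n1542 = n3283 := rfl
theorem F2384 : act 2 n3283 = n1554 := d1_2 D1542 D3283 F879 D2417 (iv F2383) (iv D3281) F862
def n3284 : Q := act 1 n1542
theorem D3284 : act 1 n1542 = n3284 := rfl
theorem F2385 : act 0 n3284 = n2935 := d13_3 (iv F2384) (iv D3283) D3284 (iv D2935) (iv D1312) (iv D541) D540 F262 (iv F199) (iv F557) (iv F879)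
def n3285 : Q := act 3 n1542
theorem D3285 : act 3 n1542 = n3285 := rfl
theorem F2386 : act 2 n3285 = n1543 := d7_1 D3285 (iv D1543) D1542
def n3286 : Q := act 4 n1542
theorem D3286 : act 4 n1542 = n3286 := rfl
theorem F2387 : act 2 n3286 = n1561 := d8_1 D3286 (iv D1561) (iv D649) (iv D251) (iv F108) D642 D1542
def n3287 : Q := act 4 n1543
theorem D3287 : act 4 n1543 = n3287 := rfl
theorem F2388 : act 3 n3287 = n1548 := d9_1 D3287 (iv D1548) (iv D644) (iv D249) D248 D642 D1543
def n3288 : Q := act 2 n1544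
theorem D3288 : act 2 n1544 = n3288 := rfl
theorem F2389 : act 0 n3288 = n2945 := d1_1 D3288 (iv D2945) (iv D1321) (iv D546) D545 D1319 (iv F863)
theorem F2390 : act 4 n3288 = n2945 := d11_1 D3288 (iv D2945) (iv D1321) (iv D546) (iv F267) D1319 (iv F863)
def n3289 : Q := act 3 n1544
theorem D3289 : act 3 n1544 = n3289 := rfl
theorem F2391 : act 1 n3289 = n1545 := d5_1 D3289 (iv D1545) D1544
theorem F2392 : act 0 n3289 = n2953 := d10_1 D3289 (iv D2953) (iv D1324) (iv D547) D545 D1319 (iv F863)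
def n3290 : Q := act 0 n1545
theorem D3290 : act 0 n1545 = n3290 := rfl
theorem F2393 : act 2 n3290 = n2422 := d10_2 D1545 D3290 (iv D2422) (iv D1041) (iv F310) D1515 F841
def n3291 : Q := act 4 n1545
theorem D3291 : act 4 n1545 = n3291 := rfl
def n3292 : Q := act 3 n1546
theorem D3292 : act 3 n1546 = n3292 := rfl
theorem F2394 : act 2 n3292 = n1572 := d7_1 D3292 (iv D1572) (iv F873)
def n3293 : Q := act 1 n1547
theorem D3293 : act 1 n1547 = n3293 := rfl
theorem F2395 : act 2 n3293 = n2967 := d15_6 D1284 (iv F1859) F1858 F859 D1547 D3293 (iv D2967) (iv D1334) (iv D551) (iv D211) (iv F88) D528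
def n3294 : Q := act 2 n1547
theorem D3294 : act 2 n1547 = n3294 := rfl
theorem F2396 : act 0 n3294 = n2420 := d1_1 D3294 F1501 D2422 (iv F2393) (iv D3290) F872 D1547
def n3295 : Q := act 4 n1547
theorem D3295 : act 4 n1547 = n3295 := rfl
theorem F2397 : act 0 n3295 = n1548 := d3_1 D3295 (iv D1548) D1547
def n3296 : Q := act 2 n1548
theorem D3296 : act 2 n1548 = n3296 := rfl
def n3297 : Q := act 4 n1549
theorem D3297 : act 4 n1549 = n3297 := rfl
theorem F2398 : act 0 n3297 = n1732 := d3_1 D3297 (iv D1732) (iv F874)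
def n3298 : Q := act 4 n1550
theorem D3298 : act 4 n1550 = n3298 := rfl
theorem F2399 : act 0 n3298 = n1734 := d3_1 D3298 (iv D1734) (iv F1646)
theorem F2400 : act 1 n3298 = n1555 := d6_1 D3298 (iv D1555) (iv F875)
theorem F2401 : act 3 n1573 = n3298 := d5_0 F2400 F880 D1573
def n3299 : Q := act 2 n1551
theorem D3299 : act 2 n1551 = n3299 := rfl
theorem F2402 : act 0 n3299 = n1735 := d11_3 (iv D1549) D1551 D3299 (iv D1735) (iv D734) D732 (iv F874)
def n3300 : Q := act 3 n1551
theorem D3300 : act 3 n1551 = n3300 := rfl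
theorem F2403 : act 1 n3300 = n1557 := d5_1 D3300 (iv D1557) (iv F876)
theorem F2404 : act 0 n3300 = n1736 := d12_3 (iv D1550) D1551 D3300 (iv D1736) (iv D734) D733 (iv F1646)
def n3301 : Q := act 4 n1552
theorem D3301 : act 4 n1552 = n3301 := rfl
theorem F2405 : act 0 n3301 = n3032 := d3_1 D3301 (iv D3032) (iv F877)
theorem F2406 : act 1 n3301 = n1554 := d6_1 D3301 (iv D1554) D1552
def n3302 : Q := act 4 n1553
theorem D3302 : act 4 n1553 = n3302 := rfl
theorem F2407 : act 3 n3302 = n2422 := d12_2 D1553 D3302 (iv D2422) (iv D1041) (iv D418) D417 (iv F317)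
def n3303 : Q := act 3 n1554
theorem D3303 : act 3 n1554 = n3303 := rfl
def n3304 : Q := act 2 n1555
theorem D3304 : act 2 n1555 = n3304 := rfl
theorem F2408 : act 3 n3304 = n1574 := d7_2 (iv F880) D3304 (iv D1574)
def n3305 : Q := act 0 n1556
theorem D3305 : act 0 n1556 = n3305 := rfl
theorem F2409 : act 2 n3305 = n2415 := d1_2 D1556 D3305 (iv F2380) F2381 (iv D1558) (iv D649) (iv F318)
def n3306 : Q := act 1 n1556
theorem D3306 : act 1 n1556 = n3306 := rfl
def n3307 : Q := act 3 n1556
theorem D3307 : act 3 n1556 = n3307 := rfl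
theorem F2410 : act 2 n3307 = n1557 := d7_1 D3307 (iv D1557) D1556
def n3308 : Q := act 4 n1556
theorem D3308 : act 4 n1556 = n3308 := rfl
def n3309 : Q := act 4 n1557
theorem D3309 : act 4 n1557 = n3309 := rfl
theorem F2411 : act 3 n3309 = n1575 := d9_1 D3309 (iv D1575) (iv F880) (iv D1555) (iv D647) D648 D1557
def n3310 : Q := act 1 n1558
theorem D3310 : act 1 n1558 = n3310 := rfl
def n3311 : Q := act 3 n1558
theorem D3311 : act 3 n1558 = n3311 := rfl
def n3312 : Q := act 4 n1558
theorem D3312 : act 4 n1558 = n3312 := rfl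
theorem F2412 : act 0 n3312 = n1561 := d3_1 D3312 (iv D1561) D1558
def n3313 : Q := act 0 n1559
theorem D3313 : act 0 n1559 = n3313 := rfl
def n3314 : Q := act 2 n1559
theorem D3314 : act 2 n1559 = n3314 := rfl
theorem F2413 : act 1 n3314 = n1598 := d4_1 D3314 (iv D1598) (iv D669) (iv D260) (iv F109) D649 D1559
def n3315 : Q := act 3 n1559
theorem D3315 : act 3 n1559 = n3315 := rfl
theorem F2414 : act 1 n3315 = n1560 := d5_1 D3315 (iv D1560) D1559
def n3316 : Q := act 4 n1559
theorem D3316 : act 4 n1559 = n3316 := rfl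
theorem F2415 : act 1 n3316 = n1561 := d6_1 D3316 (iv D1561) D1559
def n3317 : Q := act 0 n1560
theorem D3317 : act 0 n1560 = n3317 := rfl
def n3318 : Q := act 4 n1560
theorem D3318 : act 4 n1560 = n3318 := rfl
def n3319 : Q := act 3 n1561
theorem D3319 : act 3 n1561 = n3319 := rfl
def n3320 : Q := act 2 n1562
theorem D3320 : act 2 n1562 = n3320 := rfl
theorem F2416 : act 3 n3320 = n1576 := d7_2 (iv F883) D3320 (iv D1576)
def n3321 : Q := act 0 n1563
theorem D3321 : act 0 n1563 = n3321 := rfl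
theorem F2417 : act 2 n3321 = n2388 := d11_4 F1289 D3122 F2237 D3321 (iv D2388) D2386 F1483
def n3322 : Q := act 3 n1563
theorem D3322 : act 3 n1563 = n3322 := rfl
theorem F2418 : act 1 n3322 = n1564 := d5_1 D3322 (iv D1564) D1563
def n3323 : Q := act 4 n1563
theorem D3323 : act 4 n1563 = n3323 := rfl
theorem F2419 : act 1 n3323 = n1565 := d6_1 D3323 (iv D1565) D1563
def n3324 : Q := act 4 n1564
theorem D3324 : act 4 n1564 = n3324 := rfl
def n3325 : Q := act 3 n1565
theorem D3325 : act 3 n1565 = n3325 := rfl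
def n3326 : Q := act 1 n1566
theorem D3326 : act 1 n1566 = n3326 := rfl
theorem F2420 : act 4 n3326 = n2461 := d6_2 F2281 D3326 (iv F2280)
theorem F2421 : act 2 n3326 = n1766 := d14_1 D3326 (iv D1766) (iv D749) (iv D293) (iv D107) F14 (iv F12) (iv F34) D252 D652 D1566
def n3327 : Q := act 3 n1566
theorem D3327 : act 3 n1566 = n3327 := rfl
theorem F2422 : act 2 n3327 = n1767 := d7_1 D3327 (iv D1767) (iv F947)
def n3328 : Q := act 3 n1567
theorem D3328 : act 3 n1567 = n3328 := rfl
theorem F2423 : act 1 n3328 = n1609 := d5_1 D3328 (iv D1609) (iv F885)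
theorem F2424 : act 2 n3328 = n1568 := d7_1 D3328 (iv D1568) D1567
def n3329 : Q := act 0 n1568
theorem D3329 : act 0 n1568 = n3329 := rfl
theorem F2425 : act 2 n3329 = n1770 := d10_2 D1568 D3329 (iv D1770) (iv D751) D749 (iv F947) (iv D1566)
def n3330 : Q := act 4 n1568
theorem D3330 : act 4 n1568 = n3330 := rfl
theorem F2426 : act 1 n3330 = n1571 := d6_1 D3330 (iv D1571) (iv F886)
def n3331 : Q := act 3 n1569
theorem D3331 : act 3 n1569 = n3331 := rfl
theorem F2427 : act 1 n3331 = n1572 := d5_1 D3331 (iv D1572) (iv F887)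
def n3332 : Q := act 1 n1570
theorem D3332 : act 1 n1570 = n3332 := rfl
def n3333 : Q := act 2 n1570
theorem D3333 : act 2 n1570 = n3333 := rfl
theorem F2428 : act 0 n3333 = n2416 := d1_1 D3333 (iv F2344) F2345 (iv D1574) (iv D655) (iv F320) D1570
def n3334 : Q := act 3 n1570
theorem D3334 : act 3 n1570 = n3334 := rfl
def n3335 : Q := act 4 n1570
theorem D3335 : act 4 n1570 = n3335 := rfl
theorem F2429 : act 0 n3335 = n1571 := d3_1 D3335 (iv D1571) D1570
def n3336 : Q := act 2 n1571
theorem D3336 : act 2 n1571 = n3336 := rfl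
def n3337 : Q := act 3 n1571
theorem D3337 : act 3 n1571 = n3337 := rfl
def n3339 : Q := act 4 n1572
theorem D3339 : act 4 n1572 = n3339 := rfl
def n3340 : Q := act 0 n1573
theorem D3340 : act 0 n1573 = n3340 := rfl
theorem F2430 : act 1 n3340 = n1618 := d0_2 D1573 D3340 (iv D1618) (iv D679) (iv D265) (iv F110) D655
def n3341 : Q := act 2 n1573
theorem D3341 : act 2 n1573 = n3341 := rfl
theorem F2431 : act 0 n3341 = n1781 := d15_1 D3341 (iv D1781) (iv D756) (iv D296) F42 (iv F45) D317 F141 D679 D1618 (iv F2430) (iv D3340)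
def n3342 : Q := act 4 n1573
theorem D3342 : act 4 n1573 = n3342 := rfl
theorem F2432 : act 1 n3342 = n1575 := d6_1 D3342 (iv D1575) D1573
def n3343 : Q := act 1 n1574
theorem D3343 : act 1 n1574 = n3343 := rfl
def n3344 : Q := act 4 n1574
theorem D3344 : act 4 n1574 = n3344 := rfl
def n3345 : Q := act 2 n1575
theorem D3345 : act 2 n1575 = n3345 := rfl
def n3348 : Q := act 4 n1576
theorem D3348 : act 4 n1576 = n3348 := rfl
def n3349 : Q := act 4 n1577
theorem D3349 : act 4 n1577 = n3349 := rfl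
def n3350 : Q := act 2 n1578
theorem D3350 : act 2 n1578 = n3350 := rfl
theorem F2433 : act 0 n3350 = n1585 := d11_3 D657 D1578 D3350 (iv D1585) (iv D662) (iv D255) D254
def n3351 : Q := act 3 n1578
theorem D3351 : act 3 n1578 = n3351 := rfl
def n3352 : Q := act 3 n1579
theorem D3352 : act 3 n1579 = n3352 := rfl
theorem F2434 : act 0 n3352 = n1588 := d2_1 D3352 (iv D1588) (iv D663) (iv D256) D254 D658 D1579
theorem F2435 : act 1 n3352 = n3235 := d5_1 D3352 F2332 F1657
def n3353 : Q := act 4 n1579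
theorem D3353 : act 4 n1579 = n3353 := rfl
theorem F2436 : act 0 n3353 = n1580 := d3_1 D3353 (iv D1580) D1579
def n3354 : Q := act 2 n1580
theorem D3354 : act 2 n1580 = n3354 := rfl
def n3355 : Q := act 3 n1580
theorem D3355 : act 3 n1580 = n3355 := rfl
theorem F2437 : act 0 n3355 = n1591 := d12_3 D658 D1580 D3355 (iv D1591) (iv D664) (iv D256) D254
def n3356 : Q := act 3 n1581
theorem D3356 : act 3 n1581 = n3356 := rfl
theorem F2438 : act 2 n3356 = n1582 := d7_1 D3356 (iv D1582) D1581
def n3357 : Q := act 4 n1581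
theorem D3357 : act 4 n1581 = n3357 := rfl
def n3358 : Q := act 0 n1582
theorem D3358 : act 0 n1582 = n3358 := rfl
def n3359 : Q := act 4 n1582
theorem D3359 : act 4 n1582 = n3359 := rfl
def n3360 : Q := act 1 n1583
theorem D3360 : act 1 n1583 = n3360 := rfl
def n3361 : Q := act 3 n1583
theorem D3361 : act 3 n1583 = n3361 := rfl
def n3362 : Q := act 4 n1583
theorem D3362 : act 4 n1583 = n3362 := rfl
theorem F2439 : act 0 n3362 = n1584 := d3_1 D3362 (iv D1584) D1583
def n3363 : Q := act 2 n1584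
theorem D3363 : act 2 n1584 = n3363 := rfl
def n3364 : Q := act 3 n1584
theorem D3364 : act 3 n1584 = n3364 := rfl
def n3365 : Q := act 1 n1585
theorem D3365 : act 1 n1585 = n3365 := rfl
def n3366 : Q := act 3 n1585
theorem D3366 : act 3 n1585 = n3366 := rfl
theorem F2440 : act 2 n3366 = n1586 := d7_1 D3366 (iv D1586) D1585
def n3367 : Q := act 4 n1585
theorem D3367 : act 4 n1585 = n3367 := rfl
theorem F2441 : act 2 n3367 = n1593 := d8_1 D3367 (iv D1593) (iv D665) (iv D257) D255 D662 D1585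
def n3368 : Q := act 0 n1586
theorem D3368 : act 0 n1586 = n3368 := rfl
def n3369 : Q := act 4 n1586
theorem D3369 : act 4 n1586 = n3369 := rfl
def n3370 : Q := act 1 n1587
theorem D3370 : act 1 n1587 = n3370 := rfl
theorem F2442 : act 0 n3370 = n3035 := d0_1 D3370 F2124 (iv D1737) (iv D735) (iv F349) (iv F935) F937
def n3371 : Q := act 3 n1587
theorem D3371 : act 3 n1587 = n3371 := rfl
theorem F2443 : act 2 n3371 = n1588 := d7_1 D3371 (iv D1588) D1587
def n3372 : Q := act 4 n1587
theorem D3372 : act 4 n1587 = n3372 := rfl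
def n3373 : Q := act 4 n1588
theorem D3373 : act 4 n1588 = n3373 := rfl
theorem F2444 : act 3 n3373 = n1594 := d12_2 D1588 D3373 (iv D1594) (iv D666) (iv D257) D256 D663
def n3374 : Q := act 2 n1589
theorem D3374 : act 2 n1589 = n3374 := rfl
def n3375 : Q := act 3 n1589
theorem D3375 : act 3 n1589 = n3375 := rfl
def n3376 : Q := act 0 n1590
theorem D3376 : act 0 n1590 = n3376 := rfl
def n3377 : Q := act 1 n1590
theorem D3377 : act 1 n1590 = n3377 := rfl
def n3378 : Q := act 3 n1590
theorem D3378 : act 3 n1590 = n3378 := rfl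
theorem F2445 : act 2 n3378 = n1591 := d7_1 D3378 (iv D1591) D1590
def n3379 : Q := act 4 n1590
theorem D3379 : act 4 n1590 = n3379 := rfl
def n3380 : Q := act 4 n1591
theorem D3380 : act 4 n1591 = n3380 := rfl
theorem F2446 : act 1 n3380 = n1596 := d6_1 D3380 (iv D1596) (iv F891)
theorem F2447 : act 3 n3380 = n1595 := d9_1 D3380 (iv D1595) (iv D666) (iv D257) D256 D664 D1591
def n3381 : Q := act 0 n1592
theorem D3381 : act 0 n1592 = n3381 := rfl
def n3382 : Q := act 4 n1592
theorem D3382 : act 4 n1592 = n3382 := rfl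
def n3383 : Q := act 3 n1593
theorem D3383 : act 3 n1593 = n3383 := rfl
def n3384 : Q := act 2 n1594
theorem D3384 : act 2 n1594 = n3384 := rfl
def n3385 : Q := act 4 n1594
theorem D3385 : act 4 n1594 = n3385 := rfl
theorem F2448 : act 0 n3385 = n1595 := d3_1 D3385 (iv D1595) D1594
def n3386 : Q := act 2 n1595
theorem D3386 : act 2 n1595 = n3386 := rfl
def n3387 : Q := act 1 n1597
theorem D3387 : act 1 n1597 = n3387 := rfl
theorem F2449 : act 2 n3387 = n3022 := d15_6 F134 F52 D260 D669 D1597 D3387 F2108 (iv F1100) (iv D1846) (iv D785) (iv D309) D308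
theorem F2450 : act 4 n3001 = n3387 := d8_0 F2449 (iv D3022) (iv F2032) (iv D2999) (iv D1351) D1353 D3001
def n3388 : Q := act 2 n1597
theorem D3388 : act 2 n1597 = n3388 := rfl
def n3389 : Q := act 3 n1597
theorem D3389 : act 3 n1597 = n3389 := rfl
def n3390 : Q := act 4 n1597
theorem D3390 : act 4 n1597 = n3390 := rfl
theorem F2451 : act 0 n3390 = n1600 := d3_1 D3390 (iv D1600) D1597
theorem F2452 : act 1 n3390 = n3001 := d6_1 D3390 F2450 (iv D3387)
def n3391 : Q := act 0 n1598
theorem D3391 : act 0 n1598 = n3391 := rfl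
def n3392 : Q := act 3 n1598
theorem D3392 : act 3 n1598 = n3392 := rfl
theorem F2453 : act 2 n3392 = n1599 := d7_1 D3392 (iv D1599) D1598
def n3393 : Q := act 4 n1598
theorem D3393 : act 4 n1598 = n3393 := rfl
def n3394 : Q := act 0 n1599
theorem D3394 : act 0 n1599 = n3394 := rfl
def n3395 : Q := act 4 n1599
theorem D3395 : act 4 n1599 = n3395 := rfl
theorem F2454 : act 1 n3395 = n1601 := d6_1 D3395 (iv D1601) (iv F897)
theorem F2455 : act 3 n3395 = n1612 := d9_1 D3395 (iv D1612) (iv D675) D676 (iv F2068) (iv D1600) D1599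
def n3396 : Q := act 2 n1600
theorem D3396 : act 2 n1600 = n3396 := rfl
theorem F2456 : act 3 n3396 = n1613 := d7_2 (iv F2068) D3396 (iv D1613)
def n3400 : Q := act 3 n1604
theorem D3400 : act 3 n1604 = n3400 := rfl
theorem F2461 : act 1 n3400 = n1606 := d5_1 D3400 (iv D1606) D1604
theorem F2462 : act 2 n3400 = n2390 := d7_1 D3400 (iv D2390) (iv F905)
theorem F2463 : act 4 n2308 = n3400 := d8_0 F2462 (iv F1666) F1472 (iv D2306) F518 D987 D2308
def n3401 : Q := act 1 n1605
theorem D3401 : act 1 n1605 = n3401 := rfl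
theorem F2464 : act 0 n3401 = n2455 := d0_1 D3401 F1562 (iv D1677) (iv D707) D706 D1674 F979
theorem F2465 : act 4 n2452 = n3401 := d3_0 F2464 (iv D2455) D2452
def n3402 : Q := act 3 n1605
theorem D3402 : act 3 n1605 = n3402 := rfl
theorem F2466 : act 2 n3402 = n1606 := d7_1 D3402 (iv D1606) D1605
def n3403 : Q := act 4 n1605
theorem D3403 : act 4 n1605 = n3403 := rfl
theorem F2467 : act 1 n3403 = n2452 := d6_1 D3403 F2465 (iv D3401)
theorem F2468 : act 0 n2742 = n3403 := d13_1 D2742 F2467 (iv D2452) (iv D1060) F202 F71 (iv F69) D423 F200 D495 D1212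
theorem F2469 : act 1 n2742 = n1676 := d0_2 (iv F2467) (iv F2468) F981 (iv F984) (iv F1559) (iv D2453) D2452
theorem F2470 : act 4 n1674 = n2742 := d6_0 F2469 (iv D1676) D1674
theorem F2471 : act 2 n1680 = n2791 := d15_6 (iv D1213) D1212 D2742 F2469 F981 (iv F984) (iv D2791) D2792 F1864 D3148 (iv F2267) F2266
def n3404 : Q := act 0 n1606
theorem D3404 : act 0 n1606 = n3404 := rfl
def n3405 : Q := act 4 n1606
theorem D3405 : act 4 n1606 = n3405 := rfl
theorem F2472 : act 1 n3405 = n2308 := d6_1 D3405 F2463 F2461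
def n3406 : Q := act 2 n1607
theorem D3406 : act 2 n1607 = n3406 := rfl
def n3407 : Q := act 3 n1607
theorem D3407 : act 3 n1607 = n3407 := rfl
theorem F2473 : act 1 n3407 = n2310 := d5_1 D3407 (iv D2310) (iv F908)
def n3408 : Q := act 1 n1608
theorem D3408 : act 1 n1608 = n3408 := rfl
theorem F2474 : act 4 n3408 = n2710 := d6_2 (iv F2268) D3408 F1797
theorem F2475 : act 2 n3408 = n3124 := d14_1 D3408 F2240 (iv F2235) F2236 F2237 (iv D1563) (iv D651) D652 D1567 F885 D1608
def n3409 : Q := act 2 n1608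
theorem D3409 : act 2 n1608 = n3409 := rfl
theorem F2476 : act 1 n3409 = n1872 := d4_1 D3409 (iv D1872) D1871 F1118 (iv F2240) (iv F2475) (iv D3408)
def n3410 : Q := act 3 n1608
theorem D3410 : act 3 n1608 = n3410 := rfl
def n3411 : Q := act 0 n1609
theorem D3411 : act 0 n1609 = n3411 := rfl
def n3412 : Q := act 4 n1609
theorem D3412 : act 4 n1609 = n3412 := rfl
def n3413 : Q := act 2 n1610
theorem D3413 : act 2 n1610 = n3413 := rfl
theorem F2477 : act 1 n3413 = n2945 := d4_1 D3413 (iv D2945) (iv F1364) (iv D2126) (iv F1294) (iv F2262) (iv F2267)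
def n3414 : Q := act 3 n1610
theorem D3414 : act 3 n1610 = n3414 := rfl
def n3415 : Q := act 1 n1611
theorem D3415 : act 1 n1611 = n3415 := rfl
def n3416 : Q := act 2 n1611
theorem D3416 : act 2 n1611 = n3416 := rfl
def n3417 : Q := act 3 n1611
theorem D3417 : act 3 n1611 = n3417 := rfl
def n3418 : Q := act 4 n1611
theorem D3418 : act 4 n1611 = n3418 := rfl
theorem F2478 : act 0 n3418 = n1612 := d3_1 D3418 (iv D1612) D1611
def n3419 : Q := act 2 n1612
theorem D3419 : act 2 n1612 = n3419 := rfl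
def n3420 : Q := act 0 n1613
theorem D3420 : act 0 n1613 = n3420 := rfl
theorem F2479 : act 4 n3420 = n2749 := d3_2 F1863 D3420 (iv F1857)
theorem F2480 : act 1 n3420 = n2680 := d13_2 D1613 D3420 F1766 (iv D2316) F525 F183 (iv F179) D988 F522 (iv F908) F907
def n3423 : Q := act 2 n1618
theorem D3423 : act 2 n1618 = n3423 := rfl
def n3424 : Q := act 4 n1618
theorem D3424 : act 4 n1618 = n3424 := rfl
theorem F2482 : act 0 n3424 = n1620 := d3_1 D3424 (iv D1620) D1618
def n3425 : Q := act 0 n1619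
theorem D3425 : act 0 n1619 = n3425 := rfl
def n3426 : Q := act 1 n1619
theorem D3426 : act 1 n1619 = n3426 := rfl
def n3427 : Q := act 4 n1619
theorem D3427 : act 4 n1619 = n3427 := rfl
def n3428 : Q := act 2 n1620
theorem D3428 : act 2 n1620 = n3428 := rfl
def n3433 : Q := act 3 n1623
theorem D3433 : act 3 n1623 = n3433 := rfl
theorem F2485 : act 2 n3433 = n1627 := d7_1 D3433 (iv D1627) (iv F914)
def n3434 : Q := act 4 n1623
theorem D3434 : act 4 n1623 = n3434 := rfl
theorem F2486 : act 0 n3434 = n1624 := d3_1 D3434 (iv D1624) D1623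
def n3435 : Q := act 3 n1624
theorem D3435 : act 3 n1624 = n3435 := rfl
def n3436 : Q := act 0 n1625
theorem D3436 : act 0 n1625 = n3436 := rfl
def n3437 : Q := act 4 n1625
theorem D3437 : act 4 n1625 = n3437 := rfl
def n3438 : Q := act 0 n1626
theorem D3438 : act 0 n1626 = n3438 := rfl
theorem F2487 : act 1 n3438 = n1661 := d0_2 D1626 D3438 (iv D1661) (iv D700) (iv D274) (iv F118) D684
theorem F2488 : act 3 n3438 = n1793 := d2_2 (iv F1570) D3438 (iv D1793) (iv D761) (iv D298) D300 D767
def n3439 : Q := act 4 n1626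
theorem D3439 : act 4 n1626 = n3439 := rfl
theorem F2489 : act 1 n3439 = n1628 := d6_1 D3439 (iv D1628) D1626
theorem F2490 : act 3 n3439 = n1818 := d12_2 (iv F1570) D3439 (iv D1818) (iv D770) (iv D301) D300 D767
def n3440 : Q := act 4 n1627
theorem D3440 : act 4 n1627 = n3440 := rfl
theorem F2491 : act 1 n3440 = n1812 := d6_1 D3440 (iv D1812) (iv F1567)
theorem F2492 : act 3 n3440 = n1633 := d12_2 D1627 D3440 (iv D1633) (iv D687) (iv D269) D268 D684
def n3441 : Q := act 2 n1628
theorem D3441 : act 2 n1628 = n3441 := rfl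
theorem F2493 : act 0 n3441 = n1629 := d11_3 F914 D1628 D3441 (iv D1629) (iv D685) (iv F336) D1623
def n3442 : Q := act 3 n1628
theorem D3442 : act 3 n1628 = n3442 := rfl
theorem F2494 : act 1 n3442 = n1818 := d5_1 D3442 (iv F2490) F2489
def n3443 : Q := act 1 n1629
theorem D3443 : act 1 n1629 = n3443 := rfl
theorem F2495 : act 4 n3443 = n2392 := d6_2 (iv F1326) D3443 F1487
def n3444 : Q := act 3 n1629
theorem D3444 : act 3 n1629 = n3444 := rfl
theorem F2496 : act 2 n3444 = n1630 := d7_1 D3444 (iv D1630) D1629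
def n3445 : Q := act 4 n1630
theorem D3445 : act 4 n1630 = n3445 := rfl
theorem F2497 : act 1 n3445 = n1673 := d6_1 D3445 (iv D1673) (iv F930)
theorem F2498 : act 3 n3445 = n1634 := d9_1 D3445 (iv D1634) (iv D687) (iv D269) D268 D685 D1630
def n3446 : Q := act 2 n1631
theorem D3446 : act 2 n1631 = n3446 := rfl
theorem F2499 : act 0 n3446 = n3408 := d1_1 D3446 F2475 F2239 (iv D1761) D1760 F1036 (iv F932)
theorem F2500 : act 1 n3446 = n1678 := d4_1 D3446 (iv D1678) (iv D707) (iv D276) (iv F119) D686 D1631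
def n3447 : Q := act 3 n1631
theorem D3447 : act 3 n1631 = n3447 := rfl
theorem F2501 : act 1 n3447 = n1632 := d5_1 D3447 (iv D1632) D1631
def n3448 : Q := act 0 n1632
theorem D3448 : act 0 n1632 = n3448 := rfl
theorem F2502 : act 2 n3448 = n1633 := d10_2 D1632 D3448 (iv D1633) (iv D687) (iv F305) D1509 F835
def n3449 : Q := act 4 n1632
theorem D3449 : act 4 n1632 = n3449 := rfl
def n3450 : Q := act 1 n1633
theorem D3450 : act 1 n1633 = n3450 := rfl
theorem F2503 : act 3 n3450 = n1812 := d5_2 F2492 D3450 (iv F2491)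
def n3451 : Q := act 4 n1633
theorem D3451 : act 4 n1633 = n3451 := rfl
theorem F2504 : act 0 n3451 = n1634 := d3_1 D3451 (iv D1634) D1633
def n3452 : Q := act 2 n1634
theorem D3452 : act 2 n1634 = n3452 := rfl
def n3453 : Q := act 4 n1635
theorem D3453 : act 4 n1635 = n3453 := rfl
theorem F2505 : act 0 n3453 = n3372 := d3_1 D3453 (iv D3372) (iv F937)
theorem F2506 : act 1 n3453 = n1639 := d6_1 D3453 (iv D1639) (iv F935)
def n3454 : Q := act 2 n1636
theorem D3454 : act 2 n1636 = n3454 := rfl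
theorem F2507 : act 0 n3454 = n2722 := d1_1 D3454 (iv D2722) F663 D1585 (iv F2433) (iv D3350) (iv F939)
def n3455 : Q := act 3 n1636
theorem D3455 : act 3 n1636 = n3455 := rfl
theorem F2508 : act 1 n3455 = n1641 := d5_1 D3455 (iv D1641) (iv F940)
def n3456 : Q := act 4 n1637
theorem D3456 : act 4 n1637 = n3456 := rfl
theorem F2509 : act 0 n3456 = n1709 := d3_1 D3456 (iv D1709) (iv F943)
theorem F2510 : act 1 n3456 = n2415 := d6_1 D3456 (iv D2415) (iv F941)
theorem F2511 : act 2 n3456 = n1744 := d11_2 (iv F942) D3456 (iv D1744) (iv D739) (iv D289) D287 (iv F349)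
theorem F2512 : act 2 n3313 = n1752 := d13_8 (iv F1007) (iv F2509) F2510 (iv F2380) F2381 (iv D1558) D1559 D3313 (iv D1752) (iv D742) D741
def n3457 : Q := act 3 n1638
theorem D3457 : act 3 n1638 = n3457 := rfl
theorem F2513 : act 1 n3457 = n2416 := d5_1 D3457 (iv D2416) (iv F945)
theorem F2514 : act 2 n3457 = n1675 := d7_1 D3457 (iv D1675) (iv F946)
theorem F2515 : act 0 n3457 = n1773 := d10_1 D3457 (iv D1773) (iv D753) (iv D294) D292 (iv F372) (iv F944)
def n3458 : Q := act 2 n1639
theorem D3458 : act 2 n1639 = n3458 := rfl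
theorem F2516 : act 0 n3458 = n1711 := d1_1 D3458 (iv D1711) F373 D724 D1713 F1009 (iv F948)
def n3459 : Q := act 3 n1639
theorem D3459 : act 3 n1639 = n3459 := rfl
theorem F2517 : act 0 n3459 = n1655 := d12_3 D690 D1639 D3459 (iv D1655) (iv D697) (iv D272) D270
def n3460 : Q := act 1 n1640
theorem D3460 : act 1 n1640 = n3460 := rfl
theorem F2518 : act 4 n2604 = n3460 := d17_0 (iv D3460) (iv D1640) (iv D691) D689 F341 (iv F311) F312 (iv D634) D636 D1534 D3268 F2363
def n3461 : Q := act 3 n1640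
theorem D3461 : act 3 n1640 = n3461 := rfl
theorem F2519 : act 2 n3461 = n1641 := d7_1 D3461 (iv D1641) D1640
theorem F2520 : act 0 n3461 = n1725 := d10_1 D3461 (iv D1725) (iv D729) (iv D285) (iv F121) D718 (iv F949)
def n3462 : Q := act 4 n1640
theorem D3462 : act 4 n1640 = n3462 := rfl
theorem F2521 : act 0 n3462 = n1700 := d3_1 D3462 (iv D1700) (iv F949)
theorem F2522 : act 1 n3462 = n2604 := d6_1 D3462 F2518 (iv D3460)
theorem F2523 : act 2 n3462 = n1676 := d8_1 D3462 (iv D1676) (iv F946) (iv D1638) (iv D689) D691 D1640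
def n3463 : Q := act 0 n1641
theorem D3463 : act 0 n1641 = n3463 := rfl
theorem F2524 : act 2 n3463 = n1721 := d1_2 F2519 D3463 (iv D1721) F374 D729 D1725 (iv F2520)
theorem F2525 : act 3 n3463 = n1741 := d12_4 (iv D690) D691 D1641 D3463 (iv D1741) (iv D736) (iv F349)
def n3464 : Q := act 4 n1641
theorem D3464 : act 4 n1641 = n3464 := rfl
def n3465 : Q := act 0 n1642
theorem D3465 : act 0 n1642 = n3465 := rfl
theorem F2526 : act 2 n3465 = n2768 := d10_2 D1642 D3465 (iv D2768) (iv D1227) (iv F353) (iv D693) D692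
theorem F2527 : act 1 n3465 = n2012 := d14_4 F574 (iv F578) (iv F950) D3465 (iv D2012) D2011 (iv F1566) F1567 D1810 F1565 (iv D2438)
def n3466 : Q := act 4 n1642
theorem D3466 : act 4 n1642 = n3466 := rfl
theorem F2528 : act 1 n3466 = n2445 := d6_1 D3466 (iv D2445) (iv F950)
def n3467 : Q := act 2 n1643
theorem D3467 : act 2 n1643 = n3467 := rfl
theorem F2529 : act 0 n3467 = n2158 := d1_1 D3467 F1323 F955 D2770 F1843 (iv D1648) (iv F952)
theorem F2530 : act 4 n3467 = n2155 := d11_1 D3467 F1317 (iv D2155) D2156 F1320 (iv D1648) (iv F952)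
theorem F2531 : act 1 n2610 = n3467 := d17_1 D2610 (iv D3467) (iv D1643) F351 F352 D1055 F577 (iv D657) D659 D1581 (iv F1715) (iv D2608)
def n3468 : Q := act 3 n1643
theorem D3468 : act 3 n1643 = n3468 := rfl
theorem F2532 : act 1 n3468 = n2447 := d5_1 D3468 (iv D2447) (iv F953)
def n3469 : Q := act 0 n1644
theorem D3469 : act 0 n1644 = n3469 := rfl
theorem F2533 : act 2 n3469 = n3469 := d1_2 (iv F954) D3469 (iv D3469) F954 D1646 F956 (iv D1646)
def n3470 : Q := act 4 n1644
theorem D3470 : act 4 n1644 = n3470 := rfl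
def n3471 : Q := act 3 n1645
theorem D3471 : act 3 n1645 = n3471 := rfl
def n3472 : Q := act 3 n1646
theorem D3472 : act 3 n1646 = n3472 := rfl
theorem F2534 : act 2 n3472 = n3472 := d7_1 D3472 (iv D3472) F956
def n3473 : Q := act 4 n1646
theorem D3473 : act 4 n1646 = n3473 := rfl
theorem F2535 : act 0 n3473 = n1647 := d3_1 D3473 (iv D1647) D1646
def n3474 : Q := act 2 n1647
theorem D3474 : act 2 n1647 = n3474 := rfl
def n3475 : Q := act 3 n1647
theorem D3475 : act 3 n1647 = n3475 := rfl
theorem F2536 : act 1 n3475 = n1655 := d5_1 D3475 (iv D1655) (iv F957)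
def n3476 : Q := act 1 n1648
theorem D3476 : act 1 n1648 = n3476 := rfl
theorem F2537 : act 4 n3476 = n2391 := d6_2 F1320 D3476 F1486
def n3477 : Q := act 3 n1648
theorem D3477 : act 3 n1648 = n3477 := rfl
theorem F2538 : act 2 n3477 = n1649 := d7_1 D3477 (iv D1649) D1648
def n3478 : Q := act 0 n1649
theorem D3478 : act 0 n1649 = n3478 := rfl
def n3479 : Q := act 4 n1649
theorem D3479 : act 4 n1649 = n3479 := rfl
theorem F2539 : act 1 n3479 = n1660 := d6_1 D3479 (iv D1660) (iv F958)
def n3480 : Q := act 0 n1650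
theorem D3480 : act 0 n1650 = n3480 := rfl
theorem F2540 : act 3 n3480 = n1821 := d10_4 D1300 F1604 F1603 D3480 (iv F1966) (iv D2912) (iv D1298)
theorem F2541 : act 2 n1822 = n3480 := d7_3 F2540 (iv D1821) D1822
def n3481 : Q := act 4 n1650
theorem D3481 : act 4 n1650 = n3481 := rfl
theorem F2542 : act 1 n3481 = n1653 := d6_1 D3481 (iv D1653) D1650
def n3482 : Q := act 4 n1651
theorem D3482 : act 4 n1651 = n3482 := rfl
theorem F2543 : act 0 n3482 = n1694 := d3_1 D3482 (iv D1694) (iv F959)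
theorem F2544 : act 2 n3482 = n1669 := d11_2 D1651 D3482 (iv D1669) (iv D704) (iv D275) (iv F120) D696
def n3483 : Q := act 4 n1652
theorem D3483 : act 4 n1652 = n3483 := rfl
theorem F2545 : act 0 n3483 = n1741 := d3_1 D3483 (iv D1741) (iv F960)
theorem F2546 : act 3 n3483 = n1659 := d12_2 D1652 D3483 (iv D1659) (iv D699) (iv D273) D272 D696
def n3484 : Q := act 2 n1653
theorem D3484 : act 2 n1653 = n3484 := rfl
theorem F2547 : act 0 n3484 = n1696 := d11_3 (iv D1651) D1653 D3484 (iv D1696) (iv D717) (iv F370) (iv F959)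
def n3485 : Q := act 3 n1653
theorem D3485 : act 3 n1653 = n3485 := rfl
theorem F2548 : act 0 n3485 = n1742 := d2_1 D3485 (iv D1742) (iv F948) D3459 F2517 (iv D1655) (iv F961)
def n3486 : Q := act 0 n1654
theorem D3486 : act 0 n1654 = n3486 := rfl
theorem F2549 : act 2 n3486 = n1665 := d1_2 D1654 D3486 F971 D1696 (iv F2547) (iv D3484) F961
def n3487 : Q := act 1 n1654
theorem D3487 : act 1 n1654 = n3487 := rfl
def n3488 : Q := act 3 n1654
theorem D3488 : act 3 n1654 = n3488 := rfl
theorem F2550 : act 2 n3488 = n1655 := d7_1 D3488 (iv D1655) D1654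
theorem F2551 : act 0 n3488 = n1715 := d10_1 D3488 F1010 (iv F1000) (iv D1697) (iv F971) (iv F2549) (iv D3486)
def n3489 : Q := act 4 n1654
theorem D3489 : act 4 n1654 = n3489 := rfl
theorem F2552 : act 2 n3489 = n1672 := d8_1 D3489 (iv D1672) (iv D704) (iv D275) (iv F120) D697 D1654
def n3490 : Q := act 4 n1655
theorem D3490 : act 4 n1655 = n3490 := rfl
theorem F2553 : act 3 n3490 = n1660 := d9_1 D3490 (iv D1660) (iv D699) (iv D273) D272 D697 D1655
def n3491 : Q := act 0 n1656
theorem D3491 : act 0 n1656 = n3491 := rfl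
theorem F2554 : act 1 n3491 = n3232 := d0_2 D1656 D3491 F2329 (iv F1014) (iv D1718) (iv D726) (iv F356)
theorem F2555 : act 4 n3491 = n3230 := d17_0 (iv D3230) (iv D1515) (iv D628) (iv D243) D242 F105 (iv D98) D99 D273 D698 D1656 D3491
def n3492 : Q := act 2 n1656
theorem D3492 : act 2 n1656 = n3492 := rfl
def n3493 : Q := act 3 n1656
theorem D3493 : act 3 n1656 = n3493 := rfl
theorem F2556 : act 1 n3493 = n1657 := d5_1 D3493 (iv D1657) D1656
def n3494 : Q := act 4 n1656
theorem D3494 : act 4 n1656 = n3494 := rfl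
theorem F2557 : act 0 n3494 = n3230 := d3_1 D3494 (iv F2555) (iv D3491)
theorem F2558 : act 1 n3494 = n1658 := d6_1 D3494 (iv D1658) D1656
def n3495 : Q := act 0 n1657
theorem D3495 : act 0 n1657 = n3495 := rfl
theorem F2559 : act 2 n3495 = n1701 := d10_2 D1657 D3495 (iv D1701) (iv D719) F121 D284 (iv F356)
def n3496 : Q := act 4 n1657
theorem D3496 : act 4 n1657 = n3496 := rfl
def n3497 : Q := act 3 n1658
theorem D3497 : act 3 n1658 = n3497 := rfl
theorem F2560 : act 2 n3497 = n1683 := d7_1 D3497 (iv D1683) (iv F964)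
def n3498 : Q := act 1 n1659
theorem D3498 : act 1 n1659 = n3498 := rfl
def n3499 : Q := act 2 n1659
theorem D3499 : act 2 n1659 = n3499 := rfl
theorem F2561 : act 0 n3499 = n1699 := d1_1 D3499 F1001 D1701 (iv F2559) (iv D3495) F962 D1659
def n3500 : Q := act 4 n1659
theorem D3500 : act 4 n1659 = n3500 := rfl
theorem F2562 : act 0 n3500 = n1660 := d3_1 D3500 (iv D1660) D1659
def n3501 : Q := act 2 n1660
theorem D3501 : act 2 n1660 = n3501 := rfl
def n3502 : Q := act 2 n1661
theorem D3502 : act 2 n1661 = n3502 := rfl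
theorem F2563 : act 0 n3502 = n3502 := d1_1 D3502 (iv D3502) (iv D1661) F357 F917 (iv F357) D1661
def n3503 : Q := act 4 n1661
theorem D3503 : act 4 n1661 = n3503 := rfl
theorem F2564 : act 0 n3503 = n1662 := d3_1 D3503 (iv D1662) D1661
def n3504 : Q := act 2 n1662
theorem D3504 : act 2 n1662 = n3504 := rfl
theorem F2565 : act 0 n3504 = n3504 := d11_3 (iv F357) D1662 D3504 (iv D3504) (iv D1662) F357 F917
def n3505 : Q := act 3 n1662
theorem D3505 : act 3 n1662 = n3505 := rfl
theorem F2566 : act 1 n3505 = n1668 := d5_1 D3505 (iv D1668) (iv F965)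
def n3506 : Q := act 0 n1663
theorem D3506 : act 0 n1663 = n3506 := rfl
theorem F2567 : act 1 n3506 = n3041 := d0_2 D1663 D3506 (iv D3041) (iv F994) (iv D1690) F367 (iv F359)
def n3507 : Q := act 4 n1663
theorem D3507 : act 4 n1663 = n3507 := rfl
theorem F2568 : act 1 n3507 = n1665 := d6_1 D3507 (iv D1665) D1663
def n3508 : Q := act 4 n1664
theorem D3508 : act 4 n1664 = n3508 := rfl
theorem F2569 : act 0 n3508 = n1710 := d3_1 D3508 (iv D1710) (iv F968)
theorem F2570 : act 1 n3508 = n2564 := d6_1 D3508 (iv D2564) (iv F969)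
theorem F2571 : act 3 n3508 = n1701 := d12_2 D1664 D3508 (iv D1701) (iv D719) (iv D281) D280 (iv F359)
def n3509 : Q := act 3 n1665
theorem D3509 : act 3 n1665 = n3509 := rfl
theorem F2572 : act 0 n3509 = n1712 := d2_1 D3509 (iv D1712) F373 D725 (iv F1000) (iv D1697) (iv F971)
def n3510 : Q := act 2 n1666
theorem D3510 : act 2 n1666 = n3510 := rfl
theorem F2573 : act 3 n3510 = n1685 := d7_2 (iv F974) D3510 (iv D1685)
theorem F2574 : act 0 n3510 = n1774 := d10_3 (iv F380) (iv F972) D3510 (iv D1774) (iv D753) F124 D296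
def n3511 : Q := act 0 n1667
theorem D3511 : act 0 n1667 = n3511 := rfl
theorem F2575 : act 2 n3511 = n1694 := d1_2 D1667 D3511 (iv F2543) F2544 (iv D1669) (iv D704) (iv F362)
theorem F2576 : act 3 n3511 = n1756 := d10_4 (iv D705) (iv F362) D1667 D3511 (iv D1756) F381 (iv F363)
def n3512 : Q := act 1 n1667
theorem D3512 : act 1 n1667 = n3512 := rfl
def n3513 : Q := act 3 n1667
theorem D3513 : act 3 n1667 = n3513 := rfl
theorem F2577 : act 0 n3513 = n1750 := d2_1 D3513 (iv D1750) (iv D741) D743 D1756 (iv F2576) (iv D3511)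
theorem F2578 : act 2 n3513 = n1668 := d7_1 D3513 (iv D1668) D1667
def n3514 : Q := act 4 n1667
theorem D3514 : act 4 n1667 = n3514 := rfl
def n3515 : Q := act 4 n1668
theorem D3515 : act 4 n1668 = n3515 := rfl
theorem F2579 : act 0 n3515 = n1748 := d3_1 D3515 (iv D1748) (iv F975)
theorem F2580 : act 3 n3515 = n1686 := d9_1 D3515 (iv D1686) (iv F974) (iv D1666) (iv D702) D703 D1668
def n3516 : Q := act 1 n1669
theorem D3516 : act 1 n1669 = n3516 := rfl
def n3517 : Q := act 3 n1669
theorem D3517 : act 3 n1669 = n3517 := rfl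
theorem F2581 : act 0 n3517 = n1746 := d10_1 D3517 F1029 (iv F975) (iv D1668) F362 D704 D1669
def n3518 : Q := act 4 n1669
theorem D3518 : act 4 n1669 = n3518 := rfl
theorem F2582 : act 0 n3518 = n1672 := d3_1 D3518 (iv D1672) D1669
def n3519 : Q := act 0 n1670
theorem D3519 : act 0 n1670 = n3519 := rfl
theorem F2583 : act 2 n3519 = n3519 := d13_4 F2544 (iv D1669) D1670 D3519 (iv D3519) (iv D1670) D1669 (iv F2544) F2543 F997 (iv F2543)
def n3520 : Q := act 2 n1670
theorem D3520 : act 2 n1670 = n3520 := rfl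
def n3521 : Q := act 3 n1670
theorem D3521 : act 3 n1670 = n3521 := rfl
theorem F2584 : act 1 n3521 = n1671 := d5_1 D3521 (iv D1671) D1670
def n3522 : Q := act 4 n1670
theorem D3522 : act 4 n1670 = n3522 := rfl
theorem F2585 : act 1 n3522 = n1672 := d6_1 D3522 (iv D1672) D1670
def n3523 : Q := act 0 n1671
theorem D3523 : act 0 n1671 = n3523 := rfl
theorem F2586 : act 3 n3523 = n1744 := d2_2 D1671 D3523 (iv D1744) D1746 (iv F2581) (iv D3517) (iv D1669)
def n3524 : Q := act 4 n1671
theorem D3524 : act 4 n1671 = n3524 := rfl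
def n3525 : Q := act 3 n1672
theorem D3525 : act 3 n1672 = n3525 := rfl
def n3526 : Q := act 2 n1673
theorem D3526 : act 2 n1673 = n3526 := rfl
theorem F2587 : act 3 n3526 = n1687 := d7_2 (iv F978) D3526 (iv D1687)
def n3527 : Q := act 2 n1674
theorem D3527 : act 2 n1674 = n3527 := rfl
theorem F2588 : act 0 n3527 = n3409 := d1_1 D3527 (iv D3409) (iv D1608) (iv D674) D673 D1605 (iv F979)
def n3528 : Q := act 3 n1674
theorem D3528 : act 3 n1674 = n3528 := rfl
theorem F2589 : act 1 n3528 = n1675 := d5_1 D3528 (iv D1675) D1674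
theorem F2590 : act 0 n3528 = n3416 := d10_1 D3528 (iv D3416) (iv D1611) (iv D675) D673 D1605 (iv F979)
def n3529 : Q := act 4 n1675
theorem D3529 : act 4 n1675 = n3529 := rfl
theorem F2591 : act 0 n3529 = n1784 := d3_1 D3529 (iv D1784) (iv F980)
def n3530 : Q := act 3 n1676
theorem D3530 : act 3 n1676 = n3530 := rfl
def n3531 : Q := act 3 n1677
theorem D3531 : act 3 n1677 = n3531 := rfl
theorem F2592 : act 2 n3531 = n3531 := d7_1 D3531 (iv D3531) F982
def n3532 : Q := act 0 n1678
theorem D3532 : act 0 n1678 = n3532 := rfl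
theorem F2593 : act 1 n3532 = n3150 := d0_2 F2500 D3532 F2270 F885 D1608 D3408 (iv F2499)
theorem F2594 : act 2 n3532 = n3532 := d1_2 D1678 D3532 (iv D3532) (iv D1678) D1677 F982 (iv D1677)
theorem F2595 : act 4 n3532 = n2792 := d11_5 (iv F2471) (iv D1680) D1678 D3532 F2594 (iv D2792) D2791
def n3533 : Q := act 3 n1678
theorem D3533 : act 3 n1678 = n3533 := rfl
theorem F2596 : act 2 n3533 = n1679 := d7_1 D3533 (iv D1679) D1678
def n3534 : Q := act 4 n1678
theorem D3534 : act 4 n1678 = n3534 := rfl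
theorem F2597 : act 0 n3534 = n2792 := d3_1 D3534 (iv F2595) (iv D3532)
def n3535 : Q := act 0 n1679
theorem D3535 : act 0 n1679 = n3535 := rfl
theorem F2598 : act 2 n3535 = n3535 := d10_2 D1679 D3535 (iv D3535) (iv D1679) D1677 F982 (iv D1677)
def n3536 : Q := act 4 n1679
theorem D3536 : act 4 n1679 = n3536 := rfl
theorem F2599 : act 1 n3536 = n1682 := d6_1 D3536 (iv D1682) (iv F983)
def n3537 : Q := act 3 n1680
theorem D3537 : act 3 n1680 = n3537 := rfl
theorem F2600 : act 1 n3537 = n1683 := d5_1 D3537 (iv D1683) (iv F984)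
def n3538 : Q := act 1 n1681
theorem D3538 : act 1 n1681 = n3538 := rfl
def n3539 : Q := act 2 n1681
theorem D3539 : act 2 n1681 = n3539 := rfl
theorem F2601 : act 0 n3539 = n1695 := d1_1 D3539 F999 (iv F986) (iv D1685) (iv D710) (iv F364) D1681
def n3540 : Q := act 3 n1681
theorem D3540 : act 3 n1681 = n3540 := rfl
theorem F2602 : act 0 n3540 = n1743 := d2_1 D3540 F1028 (iv F980) (iv D1675) (iv D706) D708 D1681
def n3541 : Q := act 4 n1681
theorem D3541 : act 4 n1681 = n3541 := rfl
theorem F2603 : act 0 n3541 = n1682 := d3_1 D3541 (iv D1682) D1681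
def n3542 : Q := act 2 n1682
theorem D3542 : act 2 n1682 = n3542 := rfl
def n3543 : Q := act 3 n1682
theorem D3543 : act 3 n1682 = n3543 := rfl
def n3546 : Q := act 0 n1684
theorem D3546 : act 0 n1684 = n3546 := rfl
def n3547 : Q := act 2 n1684
theorem D3547 : act 2 n1684 = n3547 := rfl
theorem F2604 : act 3 n3547 = n2554 := d7_2 (iv F985) D3547 (iv D2554)
theorem F2605 : act 0 n3547 = n3547 := d15_7 (iv F2502) (iv D3448) F933 F338 D710 D1684 D3547 (iv D3547) (iv D1684) (iv D710) (iv F338) D1633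
def n3548 : Q := act 4 n1684
theorem D3548 : act 4 n1684 = n3548 := rfl
theorem F2606 : act 1 n3548 = n1686 := d6_1 D3548 (iv D1686) D1684
def n3549 : Q := act 1 n1685
theorem D3549 : act 1 n1685 = n3549 := rfl
def n3550 : Q := act 4 n1685
theorem D3550 : act 4 n1685 = n3550 := rfl
theorem F2607 : act 0 n3550 = n1764 := d3_1 D3550 (iv D1764) (iv F986)
def n3551 : Q := act 2 n1686
theorem D3551 : act 2 n1686 = n3551 := rfl
def n3555 : Q := act 4 n1688
theorem D3555 : act 4 n1688 = n3555 := rfl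
theorem F2608 : act 1 n3555 = n3555 := d6_1 D3555 (iv D3555) F988
def n3556 : Q := act 3 n1689
theorem D3556 : act 3 n1689 = n3556 := rfl
theorem F2609 : act 1 n3556 = n3556 := d5_1 D3556 (iv D3556) F991
def n3557 : Q := act 4 n1690
theorem D3557 : act 4 n1690 = n3557 := rfl
theorem F2610 : act 0 n3557 = n1691 := d3_1 D3557 (iv D1691) D1690
theorem F2611 : act 1 n3557 = n3042 := d6_1 D3557 (iv D3042) (iv F994)
def n3558 : Q := act 2 n1691
theorem D3558 : act 2 n1691 = n3558 := rfl
def n3559 : Q := act 3 n1691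
theorem D3559 : act 3 n1691 = n3559 := rfl
theorem F2612 : act 1 n3559 = n1697 := d5_1 D3559 (iv D1697) (iv F995)
def n3560 : Q := act 0 n1692
theorem D3560 : act 0 n1692 = n3560 := rfl
theorem F2613 : act 2 n3560 = n2677 := d11_4 (iv D712) D714 D1692 D3560 (iv D2677) (iv D1181) (iv F366)
theorem F2614 : act 1 n3135 = n3560 := d17_1 D3135 F2613 (iv D2677) (iv D1181) (iv D481) D480 F232 (iv F348) D1530 F851 D2706 (iv F1831)
theorem F2615 : act 4 n3560 = n3133 := d6_2 D3135 F2614 (iv D3133)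
def n3561 : Q := act 1 n1692
theorem D3561 : act 1 n1692 = n3561 := rfl
theorem F2616 : act 2 n3561 = n2177 := d4_2 D1692 D3561 F1339 (iv F1930) (iv D1698) (iv D718) (iv F368)
theorem F2617 : act 0 n3561 = n2712 := d14_3 (iv F368) D1692 D3561 F1799 (iv F1777) (iv F1894) (iv D2822) (iv D1254) (iv D516) F86 (iv F121)
theorem F2618 : act 4 n2709 = n3561 := d17_0 (iv D3561) (iv D1692) (iv D714) D712 F365 F366 (iv D481) (iv D182) D184 D486 D1195 D2709
def n3562 : Q := act 3 n1692
theorem D3562 : act 3 n1692 = n3562 := rfl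
theorem F2619 : act 2 n3562 = n1693 := d7_1 D3562 (iv D1693) D1692
def n3563 : Q := act 4 n1692
theorem D3563 : act 4 n1692 = n3563 := rfl
theorem F2620 : act 0 n3563 = n3133 := d3_1 D3563 (iv F2615) (iv D3560)
theorem F2621 : act 1 n3563 = n2709 := d6_1 D3563 F2618 (iv D3561)
theorem F2622 : act 2 n3563 = n2864 := d8_1 D3563 F1926 (iv F1356) (iv D1689) (iv D712) D714 D1692
def n3564 : Q := act 0 n1693
theorem D3564 : act 0 n1693 = n3564 := rfl
theorem F2623 : act 3 n3564 = n3005 := d12_4 (iv D713) D714 D1693 D3564 (iv D3005) (iv F993) (iv D1690)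
theorem F2624 : act 1 n3044 = n3564 := d5_3 F2623 F2090 D3044
def n3565 : Q := act 4 n1693
theorem D3565 : act 4 n1693 = n3565 := rfl
theorem F2625 : act 1 n3565 = n1702 := d6_1 D3565 (iv D1702) (iv F996)
def n3566 : Q := act 3 n1694
theorem D3566 : act 3 n1694 = n3566 := rfl
theorem F2626 : act 1 n3566 = n3566 := d5_1 D3566 (iv D3566) F997
theorem F2627 : act 2 n3566 = n1756 := d7_1 D3566 (iv F2576) F2575
def n3567 : Q := act 4 n1695
theorem D3567 : act 4 n1695 = n3567 := rfl
theorem F2628 : act 1 n3567 = n3567 := d6_1 D3567 (iv D3567) F998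
def n3568 : Q := act 1 n1696
theorem D3568 : act 1 n1696 = n3568 := rfl
def n3569 : Q := act 3 n1696
theorem D3569 : act 3 n1696 = n3569 := rfl
theorem F2629 : act 2 n3569 = n1697 := d7_1 D3569 (iv D1697) D1696
def n3570 : Q := act 4 n1696
theorem D3570 : act 4 n1696 = n3570 := rfl
def n3571 : Q := act 4 n1697
theorem D3571 : act 4 n1697 = n3571 := rfl
theorem F2630 : act 0 n3571 = n1717 := d3_1 D3571 (iv D1717) (iv F1000)
theorem F2631 : act 3 n3571 = n1702 := d9_1 D3571 (iv D1702) (iv D719) (iv D281) D280 D717 D1697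
def n3572 : Q := act 0 n1698
theorem D3572 : act 0 n1698 = n3572 := rfl
theorem F2632 : act 2 n3572 = n2154 := d1_2 (iv F1930) D3572 F1316 D2161 F1324 (iv D930) (iv F487)
theorem F2633 : act 4 n3572 = n2419 := d3_2 (iv F1931) D3572 (iv F1928)
theorem F2634 : act 1 n3572 = n2421 := d13_2 (iv F1930) D3572 (iv F2366) F2367 F884 (iv F887) (iv F2279) (iv D3155) F807 F294 (iv F487)
def n3573 : Q := act 3 n1698
theorem D3573 : act 3 n1698 = n3573 := rfl
theorem F2635 : act 1 n3573 = n1699 := d5_1 D3573 (iv D1699) D1698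
theorem F2636 : act 2 n3573 = n2182 := d7_1 D3573 (iv D2182) (iv F1930)
def n3574 : Q := act 4 n1699
theorem D3574 : act 4 n1699 = n3574 := rfl
def n3575 : Q := act 3 n1700
theorem D3575 : act 3 n1700 = n3575 := rfl
theorem F2637 : act 2 n3575 = n1765 := d7_1 D3575 (iv D1765) (iv F1002)
def n3576 : Q := act 1 n1701
theorem D3576 : act 1 n1701 = n3576 := rfl
theorem F2638 : act 3 n3576 = n2564 := d5_2 F2571 D3576 (iv F2570)
def n3577 : Q := act 4 n1701
theorem D3577 : act 4 n1701 = n3577 := rfl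
theorem F2639 : act 0 n3577 = n1702 := d3_1 D3577 (iv D1702) D1701
def n3578 : Q := act 2 n1702
theorem D3578 : act 2 n1702 = n3578 := rfl
def n3579 : Q := act 3 n1703
theorem D3579 : act 3 n1703 = n3579 := rfl
theorem F2640 : act 2 n3579 = n2985 := d7_1 D3579 (iv D2985) (iv F1226)
def n3580 : Q := act 4 n1703
theorem D3580 : act 4 n1703 = n3580 := rfl
theorem F2641 : act 0 n3580 = n1706 := d3_1 D3580 (iv D1706) D1703
def n3581 : Q := act 0 n1704
theorem D3581 : act 0 n1704 = n3581 := rfl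
theorem F2642 : act 1 n3581 = n1947 := d0_2 F1952 D3581 (iv F1771) F1773 (iv D1290) D1291 D2895
theorem F2643 : act 2 n3581 = n3360 := d15_2 D1704 D3581 (iv D3360) (iv D1583) (iv F682) F683 (iv F704) (iv D1249) D1248 F1224 F1225 (iv D1703)
def n3582 : Q := act 3 n1704
theorem D3582 : act 3 n1704 = n3582 := rfl
theorem F2644 : act 1 n3582 = n2678 := d5_1 D3582 (iv F1953) F1952
theorem F2645 : act 2 n3582 = n1705 := d7_1 D3582 (iv D1705) D1704
def n3583 : Q := act 4 n1704
theorem D3583 : act 4 n1704 = n3583 := rfl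
def n3584 : Q := act 4 n1705
theorem D3584 : act 4 n1705 = n3584 := rfl
theorem F2646 : act 1 n3584 = n1710 := d6_1 D3584 (iv D1710) (iv F1003)
theorem F2647 : act 3 n1724 = n3584 := d5_0 F2646 F1008 D1724
def n3585 : Q := act 2 n1706
theorem D3585 : act 2 n1706 = n3585 := rfl
def n3586 : Q := act 3 n1706
theorem D3586 : act 3 n1706 = n3586 := rfl
theorem F2648 : act 1 n3586 = n1712 := d5_1 D3586 (iv D1712) (iv F1004)
def n3587 : Q := act 0 n1707
theorem D3587 : act 0 n1707 = n3587 := rfl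
theorem F2649 : act 2 n3587 = n1996 := d1_2 (iv F1005) D3587 (iv D1996) (iv D849) (iv D335) D336 D852
def n3588 : Q := act 3 n1707
theorem D3588 : act 3 n1707 = n3588 := rfl
theorem F2650 : act 1 n3588 = n1708 := d5_1 D3588 (iv D1708) D1707
theorem F2651 : act 2 n3588 = n2005 := d7_1 D3588 (iv D2005) (iv F1005)
def n3589 : Q := act 4 n1707
theorem D3589 : act 4 n1707 = n3589 := rfl
theorem F2652 : act 1 n3589 = n1709 := d6_1 D3589 (iv D1709) D1707
theorem F2653 : act 2 n3589 = n2016 := d11_2 (iv F1005) D3589 (iv D2016) (iv D857) (iv D338) D336 D852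
def n3590 : Q := act 4 n1708
theorem D3590 : act 4 n1708 = n3590 := rfl
theorem F2654 : act 2 n3590 = n1774 := d11_2 (iv F1006) D3590 (iv F2574) (iv D3510) (iv D1666) (iv F970) F968
theorem F2655 : act 3 n3590 = n1773 := d12_2 D1708 D3590 (iv F2515) (iv D3457) (iv D1638) D1637 F943
def n3591 : Q := act 3 n1709
theorem D3591 : act 3 n1709 = n3591 := rfl
theorem F2656 : act 2 n3591 = n1750 := d7_1 D3591 (iv D1750) (iv F1007)
def n3592 : Q := act 2 n1710
theorem D3592 : act 2 n1710 = n3592 := rfl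
theorem F2657 : act 3 n3592 = n1725 := d7_2 (iv F1008) D3592 (iv D1725)
def n3593 : Q := act 1 n1711
theorem D3593 : act 1 n1711 = n3593 := rfl
def n3594 : Q := act 3 n1711
theorem D3594 : act 3 n1711 = n3594 := rfl
theorem F2658 : act 2 n3594 = n1712 := d7_1 D3594 (iv D1712) D1711
def n3595 : Q := act 4 n1711
theorem D3595 : act 4 n1711 = n3595 := rfl
theorem F2659 : act 2 n3595 = n1751 := d8_1 D3595 (iv D1751) (iv F1007) (iv D1709) (iv D721) D723 D1711
def n3596 : Q := act 4 n1712
theorem D3596 : act 4 n1712 = n3596 := rfl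
theorem F2660 : act 3 n3596 = n1726 := d9_1 D3596 (iv D1726) (iv F1008) (iv D1710) (iv D722) D723 D1712
def n3597 : Q := act 1 n1713
theorem D3597 : act 1 n1713 = n3597 := rfl
def n3598 : Q := act 3 n1713
theorem D3598 : act 3 n1713 = n3598 := rfl
theorem F2661 : act 2 n3598 = n1742 := d7_1 D3598 (iv D1742) (iv F1009)
def n3599 : Q := act 4 n1713
theorem D3599 : act 4 n1713 = n3599 := rfl
theorem F2662 : act 0 n3599 = n1716 := d3_1 D3599 (iv D1716) D1713
theorem F2663 : act 2 n3599 = n1747 := d8_1 D3599 (iv D1747) (iv D739) (iv D289) D287 D737 (iv F1009)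
def n3600 : Q := act 0 n1714
theorem D3600 : act 0 n1714 = n3600 := rfl
def n3601 : Q := act 2 n1714
theorem D3601 : act 2 n1714 = n3601 := rfl
def n3602 : Q := act 3 n1714
theorem D3602 : act 3 n1714 = n3602 := rfl
theorem F2664 : act 1 n3602 = n1715 := d5_1 D3602 (iv D1715) D1714
def n3603 : Q := act 4 n1714
theorem D3603 : act 4 n1714 = n3603 := rfl
theorem F2665 : act 1 n3603 = n1716 := d6_1 D3603 (iv D1716) D1714
def n3604 : Q := act 4 n1715
theorem D3604 : act 4 n1715 = n3604 := rfl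
def n3605 : Q := act 3 n1716
theorem D3605 : act 3 n1716 = n3605 := rfl
def n3606 : Q := act 2 n1717
theorem D3606 : act 2 n1717 = n3606 := rfl
theorem F2667 : act 3 n3606 = n1727 := d7_2 (iv F1012) D3606 (iv D1727)
def n3607 : Q := act 2 n1718
theorem D3607 : act 2 n1718 = n3607 := rfl
theorem F2668 : act 1 n3607 = n3367 := d4_1 D3607 F2441 (iv F2248) F2249 F887 (iv F873) (iv F1014)
theorem F2669 : act 0 n3607 = n3365 := d13_1 D3607 (iv D3365) (iv F2433) (iv D3350) (iv F939) F940 F350 D698 F356 D726 D1718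
theorem F2670 : act 2 n2947 = n3365 := d1_6 (iv D3607) (iv D1718) D1719 (iv F2002) (iv D2950) (iv F1999) (iv F2669)
theorem F2671 : act 4 n3365 = n3607 := d8_0 (iv D3607) F1013 D3288 F2390 (iv D2945) D2947 F2670
def n3608 : Q := act 3 n1718
theorem D3608 : act 3 n1718 = n3608 := rfl
theorem F2672 : act 1 n3608 = n3292 := d5_1 D3608 (iv D3292) (iv F1014)
def n3609 : Q := act 3 n1719
theorem D3609 : act 3 n1719 = n3609 := rfl
theorem F2673 : act 2 n3609 = n1720 := d7_1 D3609 (iv D1720) D1719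
def n3610 : Q := act 0 n1720
theorem D3610 : act 0 n1720 = n3610 := rfl
def n3611 : Q := act 4 n1720
theorem D3611 : act 4 n1720 = n3611 := rfl
def n3612 : Q := act 1 n1721
theorem D3612 : act 1 n1721 = n3612 := rfl
def n3613 : Q := act 3 n1721
theorem D3613 : act 3 n1721 = n3613 := rfl
theorem F2675 : act 2 n3613 = n1741 := d7_1 D3613 (iv F2525) F2524
def n3614 : Q := act 4 n1721
theorem D3614 : act 4 n1721 = n3614 := rfl
theorem F2676 : act 0 n3614 = n1722 := d3_1 D3614 (iv D1722) D1721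
def n3615 : Q := act 2 n1722
theorem D3615 : act 2 n1722 = n3615 := rfl
def n3616 : Q := act 3 n1722
theorem D3616 : act 3 n1722 = n3616 := rfl
def n3619 : Q := act 0 n1724
theorem D3619 : act 0 n1724 = n3619 := rfl
def n3620 : Q := act 2 n1724
theorem D3620 : act 2 n1724 = n3620 := rfl
def n3621 : Q := act 4 n1724
theorem D3621 : act 4 n1724 = n3621 := rfl
theorem F2677 : act 1 n3621 = n1726 := d6_1 D3621 (iv D1726) D1724
def n3622 : Q := act 1 n1725
theorem D3622 : act 1 n1725 = n3622 := rfl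
def n3623 : Q := act 4 n1725
theorem D3623 : act 4 n1725 = n3623 := rfl
def n3624 : Q := act 2 n1726
theorem D3624 : act 2 n1726 = n3624 := rfl
def n3628 : Q := act 3 n1728
theorem D3628 : act 3 n1728 = n3628 := rfl
theorem F2678 : act 1 n3628 = n2331 := d5_1 D3628 F1944 (iv F1054)
theorem F2679 : act 2 n3628 = n1729 := d7_1 D3628 (iv D1729) D1728
theorem F2680 : act 0 n3628 = n1731 := d10_1 D3628 F1022 (iv F1646) (iv D1550) (iv F446) D1993 F1215
def n3629 : Q := act 4 n1728
theorem D3629 : act 4 n1728 = n3629 := rfl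
theorem F2681 : act 1 n3629 = n2889 := d6_1 D3629 (iv D2889) (iv F1054)
def n3630 : Q := act 4 n1729
theorem D3630 : act 4 n1729 = n3630 := rfl
theorem F2682 : act 1 n3630 = n1794 := d6_1 D3630 (iv D1794) (iv F1018)
theorem F2683 : act 3 n3630 = n1780 := d12_2 D1729 D3630 (iv D1780) F1024 (iv D1734) (iv D733) D731
def n3631 : Q := act 2 n1730
theorem D3631 : act 2 n1730 = n3631 := rfl
def n3632 : Q := act 3 n1730
theorem D3632 : act 3 n1730 = n3632 := rfl
theorem F2684 : act 1 n3632 = n1796 := d5_1 D3632 (iv D1796) (iv F1020)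
def n3633 : Q := act 4 n1731
theorem D3633 : act 4 n1731 = n3633 := rfl
theorem F2685 : act 1 n3633 = n2323 := d6_1 D3633 (iv D2323) (iv F1021)
def n3634 : Q := act 3 n1732
theorem D3634 : act 3 n1732 = n3634 := rfl
theorem F2686 : act 1 n3634 = n2329 := d5_1 D3634 (iv F2040) F2039
def n3635 : Q := act 2 n1734
theorem D3635 : act 2 n1734 = n3635 := rfl
theorem F2687 : act 3 n3635 = n1781 := d7_2 F1024 D3635 (iv D1781)
def n3636 : Q := act 1 n1735
theorem D3636 : act 1 n1735 = n3636 := rfl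
theorem F2688 : act 4 n3636 = n3023 := d6_2 F1251 D3636 F2109
theorem F2689 : act 0 n3636 = n3026 := d14_3 (iv F378) D1735 D3636 F2113 (iv F1100) (iv D1846) (iv D785) (iv D309) (iv D113) (iv F41) (iv F122)
def n3637 : Q := act 3 n1735
theorem D3637 : act 3 n1735 = n3637 := rfl
theorem F2690 : act 2 n3637 = n1736 := d7_1 D3637 (iv D1736) D1735
def n3638 : Q := act 4 n1736
theorem D3638 : act 4 n1736 = n3638 := rfl
theorem F2691 : act 1 n3638 = n1748 := d6_1 D3638 (iv D1748) (iv F1025)
theorem F2692 : act 3 n3638 = n1782 := d9_1 D3638 (iv D1782) F1024 (iv D1734) (iv D733) D734 D1736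
def n3639 : Q := act 4 n1737
theorem D3639 : act 4 n1737 = n3639 := rfl
theorem F2693 : act 0 n3639 = n1740 := d3_1 D3639 (iv D1740) D1737
def n3640 : Q := act 3 n1738
theorem D3640 : act 3 n1738 = n3640 := rfl
theorem F2694 : act 1 n3640 = n2322 := d5_1 D3640 (iv F2037) F2036
theorem F2695 : act 2 n3640 = n1739 := d7_1 D3640 (iv D1739) D1738
def n3641 : Q := act 4 n1738
theorem D3641 : act 4 n1738 = n3641 := rfl
def n3642 : Q := act 0 n1739
theorem D3642 : act 0 n1739 = n3642 := rfl
theorem F2696 : act 1 n3642 = n2476 := d14_4 F377 (iv F379) (iv F1026) D3642 F1581 (iv F1578) (iv F1778) (iv F1779) F878 (iv F875) F1646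
theorem F2697 : act 2 n3642 = n2475 := d15_8 (iv D2725) (iv D1202) (iv F662) (iv F1759) F1761 (iv F2694) F2695 D3642 (iv D2475) (iv F1551) F1550 (iv F1803)
theorem F2698 : act 3 n3642 = n2475 := d16_2 D1739 D3642 (iv D2475) (iv D1070) D1069 D2472 F1607 (iv F2116) F2117 (iv F2125) F2124 (iv D1737)
def n3643 : Q := act 4 n1739
theorem D3643 : act 4 n1739 = n3643 := rfl
theorem F2699 : act 1 n3643 = n1741 := d6_1 D3643 (iv D1741) (iv F1026)
def n3644 : Q := act 2 n1740
theorem D3644 : act 2 n1740 = n3644 := rfl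
def n3645 : Q := act 3 n1740
theorem D3645 : act 3 n1740 = n3645 := rfl
theorem F2700 : act 1 n3645 = n1742 := d5_1 D3645 (iv D1742) (iv F1027)
def n3646 : Q := act 4 n1742
theorem D3646 : act 4 n1742 = n3646 := rfl
def n3647 : Q := act 1 n1743
theorem D3647 : act 1 n1743 = n3647 := rfl
theorem F2701 : act 3 n3647 = n1783 := d5_2 (iv F1028) D3647 (iv D1783)
def n3648 : Q := act 4 n1743
theorem D3648 : act 4 n1743 = n3648 := rfl
def n3649 : Q := act 1 n1744
theorem D3649 : act 1 n1744 = n3649 := rfl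
theorem F2702 : act 0 n3649 = n3388 := d13_3 D739 D1744 D3649 (iv D3388) (iv D1597) (iv D669) (iv F133) (iv D306) F44 (iv F41) (iv F122)
def n3650 : Q := act 4 n1744
theorem D3650 : act 4 n1744 = n3650 := rfl
theorem F2703 : act 0 n3650 = n1747 := d3_1 D3650 (iv D1747) D1744
def n3651 : Q := act 0 n1745
theorem D3651 : act 0 n1745 = n3651 := rfl
def n3652 : Q := act 2 n1745
theorem D3652 : act 2 n1745 = n3652 := rfl
def n3653 : Q := act 3 n1745
theorem D3653 : act 3 n1745 = n3653 := rfl
theorem F2704 : act 1 n3653 = n1746 := d5_1 D3653 (iv D1746) D1745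
def n3654 : Q := act 4 n1745
theorem D3654 : act 4 n1745 = n3654 := rfl
theorem F2705 : act 1 n3654 = n1747 := d6_1 D3654 (iv D1747) D1745
def n3655 : Q := act 4 n1746
theorem D3655 : act 4 n1746 = n3655 := rfl
def n3656 : Q := act 3 n1747
theorem D3656 : act 3 n1747 = n3656 := rfl
def n3657 : Q := act 2 n1748
theorem D3657 : act 2 n1748 = n3657 := rfl
theorem F2706 : act 3 n3657 = n1785 := d7_2 (iv F1030) D3657 (iv D1785)
def n3658 : Q := act 0 n1749
theorem D3658 : act 0 n1749 = n3658 := rfl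
def n3659 : Q := act 2 n1749
theorem D3659 : act 2 n1749 = n3659 := rfl
def n3660 : Q := act 3 n1749
theorem D3660 : act 3 n1749 = n3660 := rfl
theorem F2707 : act 1 n3660 = n1750 := d5_1 D3660 (iv D1750) D1749
def n3661 : Q := act 4 n1749
theorem D3661 : act 4 n1749 = n3661 := rfl
theorem F2708 : act 1 n3661 = n1751 := d6_1 D3661 (iv D1751) D1749
def n3662 : Q := act 4 n1750
theorem D3662 : act 4 n1750 = n3662 := rfl
def n3663 : Q := act 3 n1751
theorem D3663 : act 3 n1751 = n3663 := rfl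
def n3664 : Q := act 1 n1752
theorem D3664 : act 1 n1752 = n3664 := rfl
def n3665 : Q := act 3 n1752
theorem D3665 : act 3 n1752 = n3665 := rfl
theorem F2709 : act 0 n3665 = n2017 := d16_8 D261 F114 (iv D114) (iv F41) D290 D742 D1752 D3665 (iv D2017) (iv D857) F151 F52
def n3666 : Q := act 4 n1752
theorem D3666 : act 4 n1752 = n3666 := rfl
theorem F2710 : act 0 n3666 = n1755 := d3_1 D3666 (iv D1755) D1752
def n3667 : Q := act 0 n1753
theorem D3667 : act 0 n1753 = n3667 := rfl
def n3668 : Q := act 3 n1753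
theorem D3668 : act 3 n1753 = n3668 := rfl
theorem F2711 : act 1 n3668 = n1851 := d5_1 D3668 (iv D1851) (iv F1032)
theorem F2712 : act 2 n3668 = n1754 := d7_1 D3668 (iv D1754) D1753
def n3669 : Q := act 4 n1753
theorem D3669 : act 4 n1753 = n3669 := rfl
theorem F2713 : act 1 n3669 = n1852 := d6_1 D3669 (iv D1852) (iv F1032)
def n3670 : Q := act 0 n1754
theorem D3670 : act 0 n1754 = n3670 := rfl
def n3671 : Q := act 4 n1754
theorem D3671 : act 4 n1754 = n3671 := rfl
theorem F2714 : act 1 n3671 = n1757 := d6_1 D3671 (iv D1757) (iv F1033)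
def n3674 : Q := act 1 n1756
theorem D3674 : act 1 n1756 = n3674 := rfl
def n3675 : Q := act 4 n1756
theorem D3675 : act 4 n1756 = n3675 := rfl
theorem F2716 : act 0 n3675 = n1757 := d3_1 D3675 (iv D1757) D1756
def n3676 : Q := act 2 n1757
theorem D3676 : act 2 n1757 = n3676 := rfl
def n3677 : Q := act 3 n1757
theorem D3677 : act 3 n1757 = n3677 := rfl
def n3683 : Q := act 3 n1760
theorem D3683 : act 3 n1760 = n3683 := rfl
theorem F2718 : act 1 n3683 = n2491 := d5_1 D3683 (iv D2491) F1038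
theorem F2719 : act 2 n3683 = n2381 := d7_1 D3683 F1660 (iv F1036)
def n3684 : Q := act 3 n1761
theorem D3684 : act 3 n1761 = n3684 := rfl
theorem F2720 : act 1 n3684 = n3684 := d5_1 D3684 (iv D3684) F1039
theorem F2721 : act 2 n3684 = n1762 := d7_1 D3684 (iv D1762) D1761
def n3685 : Q := act 0 n1762
theorem D3685 : act 0 n1762 = n3685 := rfl
def n3686 : Q := act 4 n1762
theorem D3686 : act 4 n1762 = n3686 := rfl
theorem F2722 : act 1 n3686 = n1764 := d6_1 D3686 (iv D1764) (iv F1040)
def n3687 : Q := act 3 n1763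
theorem D3687 : act 3 n1763 = n3687 := rfl
theorem F2723 : act 1 n3687 = n1765 := d5_1 D3687 (iv D1765) (iv F1042)
def n3688 : Q := act 2 n1764
theorem D3688 : act 2 n1764 = n3688 := rfl
def n3689 : Q := act 3 n1764
theorem D3689 : act 3 n1764 = n3689 := rfl
theorem F2724 : act 0 n3689 = n1777 := d12_3 D747 D1764 D3689 (iv D1777) (iv D754) (iv D294) D292
def n3690 : Q := act 0 n1765
theorem D3690 : act 0 n1765 = n3690 := rfl
def n3691 : Q := act 4 n1765
theorem D3691 : act 4 n1765 = n3691 := rfl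
def n3692 : Q := act 3 n1766
theorem D3692 : act 3 n1766 = n3692 := rfl
theorem F2725 : act 1 n3692 = n1767 := d5_1 D3692 (iv D1767) D1766
def n3693 : Q := act 0 n1767
theorem D3693 : act 0 n1767 = n3693 := rfl
theorem F2726 : act 3 n3693 = n3426 := d16_2 D1767 D3693 (iv D3426) (iv D1619) (iv D679) (iv D265) (iv D97) F12 (iv F14) D107 D293 D749
theorem F2727 : act 1 n3693 = n2015 := d16_9 F132 (iv D118) (iv D40) (iv F14) D107 D293 D749 D1767 D3693 (iv D2015) F449 F152
def n3694 : Q := act 4 n1767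
theorem D3694 : act 4 n1767 = n3694 := rfl
def n3695 : Q := act 1 n1768
theorem D3695 : act 1 n1768 = n3695 := rfl
theorem F2728 : act 2 n3695 = n3695 := d4_2 F2271 D3695 (iv D3695) (iv F2271) (iv F2593) F2594 F2593
theorem F2729 : act 0 n3695 = n3251 := d15_7 (iv D793) (iv D313) D314 (iv F385) D1768 D3695 F2728 (iv D3251) (iv D1524) D1523 (iv F1112) (iv D1863)
def n3696 : Q := act 3 n1768
theorem D3696 : act 3 n1768 = n3696 := rfl
def n3697 : Q := act 0 n1769
theorem D3697 : act 0 n1769 = n3697 := rfl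
def n3698 : Q := act 4 n1769
theorem D3698 : act 4 n1769 = n3698 := rfl
theorem F2730 : act 1 n3698 = n1876 := d6_1 D3698 (iv D1876) (iv F1046)
def n3699 : Q := act 1 n1770
theorem D3699 : act 1 n1770 = n3699 := rfl
def n3700 : Q := act 3 n1770
theorem D3700 : act 3 n1770 = n3700 := rfl
theorem F2731 : act 0 n3700 = n3426 := d2_1 D3700 (iv F2726) (iv D3693) (iv D1767) (iv D749) D751 D1770
def n3701 : Q := act 4 n1770
theorem D3701 : act 4 n1770 = n3701 := rfl
theorem F2732 : act 0 n3701 = n1771 := d3_1 D3701 (iv D1771) D1770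
def n3702 : Q := act 2 n1771
theorem D3702 : act 2 n1771 = n3702 := rfl
def n3703 : Q := act 3 n1771
theorem D3703 : act 3 n1771 = n3703 := rfl
theorem F2733 : act 1 n3703 = n1777 := d5_1 D3703 (iv D1777) (iv F1048)
def n3704 : Q := act 0 n1772
theorem D3704 : act 0 n1772 = n3704 := rfl
def n3705 : Q := act 2 n1772
theorem D3705 : act 2 n1772 = n3705 := rfl
def n3706 : Q := act 3 n1772
theorem D3706 : act 3 n1772 = n3706 := rfl
theorem F2734 : act 1 n3706 = n1774 := d5_1 D3706 (iv D1774) D1772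
def n3707 : Q := act 4 n1772
theorem D3707 : act 4 n1772 = n3707 := rfl
theorem F2735 : act 1 n3707 = n1775 := d6_1 D3707 (iv D1775) D1772
def n3708 : Q := act 1 n1773
theorem D3708 : act 1 n1773 = n3708 := rfl
theorem F2736 : act 2 n3708 = n3425 := d15_6 D1574 (iv F2345) F2344 (iv F2513) F2515 D3708 (iv D3425) (iv D1619) (iv D679) (iv D265) (iv F110) D655
def n3709 : Q := act 4 n1773
theorem D3709 : act 4 n1773 = n3709 := rfl
theorem F2737 : act 2 n3709 = n1786 := d11_2 D1773 D3709 (iv D1786) (iv D759) (iv D297) (iv F124) D753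
def n3710 : Q := act 4 n1774
theorem D3710 : act 4 n1774 = n3710 := rfl
theorem F2738 : act 3 n3710 = n1778 := d12_2 D1774 D3710 (iv D1778) (iv D755) (iv D295) D294 D753
def n3711 : Q := act 2 n1775
theorem D3711 : act 2 n1775 = n3711 := rfl
def n3712 : Q := act 3 n1775
theorem D3712 : act 3 n1775 = n3712 := rfl
def n3713 : Q := act 0 n1776
theorem D3713 : act 0 n1776 = n3713 := rfl
theorem F2739 : act 2 n3713 = n1784 := d11_4 (iv F124) D754 D1776 D3713 (iv D1784) (iv D757) (iv D296)
def n3714 : Q := act 1 n1776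
theorem D3714 : act 1 n1776 = n3714 := rfl
def n3715 : Q := act 3 n1776
theorem D3715 : act 3 n1776 = n3715 := rfl
theorem F2740 : act 2 n3715 = n1777 := d7_1 D3715 (iv D1777) D1776
def n3716 : Q := act 4 n1776
theorem D3716 : act 4 n1776 = n3716 := rfl
theorem F2741 : act 2 n3716 = n1788 := d8_1 D3716 (iv D1788) (iv D759) (iv D297) (iv F124) D754 D1776
def n3717 : Q := act 4 n1777
theorem D3717 : act 4 n1777 = n3717 := rfl
theorem F2742 : act 3 n3717 = n1779 := d9_1 D3717 (iv D1779) (iv D755) (iv D295) D294 D754 D1777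
def n3720 : Q := act 4 n1778
theorem D3720 : act 4 n1778 = n3720 := rfl
theorem F2743 : act 0 n3720 = n1779 := d3_1 D3720 (iv D1779) D1778
def n3721 : Q := act 2 n1779
theorem D3721 : act 2 n1779 = n3721 := rfl
def n3722 : Q := act 2 n1780
theorem D3722 : act 2 n1780 = n3722 := rfl
def n3723 : Q := act 4 n1780
theorem D3723 : act 4 n1780 = n3723 := rfl
theorem F2744 : act 0 n3723 = n1782 := d3_1 D3723 (iv D1782) D1780
theorem F2745 : act 1 n3723 = n1907 := d6_1 D3723 (iv D1907) (iv F1050)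
def n3724 : Q := act 1 n1781
theorem D3724 : act 1 n1781 = n3724 := rfl
def n3725 : Q := act 4 n1781
theorem D3725 : act 4 n1781 = n3725 := rfl
def n3726 : Q := act 2 n1782
theorem D3726 : act 2 n1782 = n3726 := rfl
def n3727 : Q := act 0 n1783
theorem D3727 : act 0 n1783 = n3727 := rfl
def n3728 : Q := act 2 n1783
theorem D3728 : act 2 n1783 = n3728 := rfl
def n3729 : Q := act 4 n1783
theorem D3729 : act 4 n1783 = n3729 := rfl
theorem F2746 : act 1 n3729 = n1784 := d6_1 D3729 (iv D1784) D1783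
def n3730 : Q := act 3 n1784
theorem D3730 : act 3 n1784 = n3730 := rfl
def n3731 : Q := act 0 n1785
theorem D3731 : act 0 n1785 = n3731 := rfl
def n3732 : Q := act 1 n1785
theorem D3732 : act 1 n1785 = n3732 := rfl
def n3733 : Q := act 4 n1785
theorem D3733 : act 4 n1785 = n3733 := rfl
def n3736 : Q := act 4 n1786
theorem D3736 : act 4 n1786 = n3736 := rfl
theorem F2747 : act 0 n3736 = n1788 := d3_1 D3736 (iv D1788) D1786
def n3741 : Q := act 2 n1789
theorem D3741 : act 2 n1789 = n3741 := rfl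
theorem F2750 : act 0 n3741 = n1798 := d1_1 D3741 (iv D1798) (iv D763) (iv D299) D298 D760 D1789
theorem F2751 : act 1 n3741 = n3587 := d4_1 D3741 F2649 F1967 (iv D2912) (iv F1148) (iv D1925) (iv F1052)
def n3742 : Q := act 3 n1789
theorem D3742 : act 3 n1789 = n3742 := rfl
theorem F2752 : act 0 n3742 = n1810 := d2_1 D3742 F1596 (iv D2503) (iv D1083) D1081 (iv F1606) D1789
theorem F2753 : act 1 n3742 = n1926 := d5_1 D3742 (iv D1926) (iv F1052)
def n3743 : Q := act 4 n1789
theorem D3743 : act 4 n1789 = n3743 := rfl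
theorem F2754 : act 0 n3743 = n1792 := d3_1 D3743 (iv D1792) D1789
theorem F2755 : act 1 n3743 = n1927 := d6_1 D3743 (iv D1927) (iv F1052)
def n3744 : Q := act 4 n1790
theorem D3744 : act 4 n1790 = n3744 := rfl
theorem F2756 : act 1 n3744 = n1792 := d6_1 D3744 (iv D1792) D1790
def n3745 : Q := act 2 n1792
theorem D3745 : act 2 n1792 = n3745 := rfl
theorem F2757 : act 0 n3745 = n1807 := d11_3 D760 D1792 D3745 (iv D1807) (iv D766) (iv D299) D298
def n3746 : Q := act 2 n1793
theorem D3746 : act 2 n1793 = n3746 := rfl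
theorem F2758 : act 0 n3746 = n1799 := d1_1 D3746 (iv F2378) (iv D2499) (iv D1082) D1081 (iv F1605) D1793
def n3747 : Q := act 4 n1793
theorem D3747 : act 4 n1793 = n3747 := rfl
theorem F2759 : act 0 n3747 = n1794 := d3_1 D3747 (iv D1794) D1793
def n3748 : Q := act 2 n1794
theorem D3748 : act 2 n1794 = n3748 := rfl
theorem F2760 : act 3 n3748 = n1906 := d7_2 (iv F1056) D3748 (iv D1906)
def n3749 : Q := act 0 n1795
theorem D3749 : act 0 n1795 = n3749 := rfl
def n3750 : Q := act 1 n1795
theorem D3750 : act 1 n1795 = n3750 := rfl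
def n3751 : Q := act 3 n1795
theorem D3751 : act 3 n1795 = n3751 := rfl
theorem F2761 : act 2 n3751 = n1796 := d7_1 D3751 (iv D1796) D1795
def n3752 : Q := act 4 n1795
theorem D3752 : act 4 n1795 = n3752 := rfl
def n3753 : Q := act 0 n1796
theorem D3753 : act 0 n1796 = n3753 := rfl
def n3754 : Q := act 4 n1796
theorem D3754 : act 4 n1796 = n3754 := rfl
theorem F2762 : act 3 n3754 = n1907 := d9_1 D3754 (iv D1907) (iv F1056) (iv D1794) (iv D761) D762 D1796
def n3755 : Q := act 4 n1797
theorem D3755 : act 4 n1797 = n3755 := rfl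
theorem F2763 : act 1 n3755 = n1800 := d6_1 D3755 (iv D1800) D1797
def n3756 : Q := act 4 n1798
theorem D3756 : act 4 n1798 = n3756 := rfl
theorem F2764 : act 1 n3756 = n3279 := d6_1 D3756 (iv D3279) (iv F1057)
theorem F2765 : act 2 n3756 = n1814 := d11_2 D1798 D3756 (iv D1814) (iv D769) (iv D301) D299 D763
def n3757 : Q := act 4 n1799
theorem D3757 : act 4 n1799 = n3757 := rfl
def n3758 : Q := act 2 n1800
theorem D3758 : act 2 n1800 = n3758 := rfl
def n3759 : Q := act 3 n1800
theorem D3759 : act 3 n1800 = n3759 := rfl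
def n3760 : Q := act 4 n1801
theorem D3760 : act 4 n1801 = n3760 := rfl
theorem F2766 : act 0 n3760 = n1804 := d3_1 D3760 (iv D1804) D1801
theorem F2767 : act 2 n3760 = n2873 := d11_2 F1060 D3760 F1938 (iv D1957) (iv D832) D831 (iv F705)
theorem F2768 : act 3 n3760 = n2872 := d12_2 (iv F1059) D3760 F1937 (iv D1537) (iv D640) D639 (iv F704)
def n3761 : Q := act 4 n1802
theorem D3761 : act 4 n1802 = n3761 := rfl
theorem F2769 : act 0 n3761 = n2840 := d3_1 D3761 (iv D2840) (iv F1061)
theorem F2770 : act 1 n3761 = n1825 := d6_1 D3761 (iv D1825) (iv F1062)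
theorem F2771 : act 3 n3761 = n2778 := d12_2 F1063 D3761 (iv D2778) (iv D1232) (iv D505) D504 D1229
def n3762 : Q := act 4 n1803
theorem D3762 : act 4 n1803 = n3762 := rfl
theorem F2772 : act 0 n3762 = n2801 := d3_1 D3762 (iv D2801) (iv F1064)
theorem F2773 : act 1 n3762 = n1806 := d6_1 D3762 (iv D1806) (iv F1065)
theorem F2774 : act 2 n3762 = n2783 := d11_2 (iv F1066) D3762 (iv D2783) (iv D1235) (iv D507) (iv F246) D1229
def n3763 : Q := act 2 n1804
theorem D3763 : act 2 n1804 = n3763 := rfl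
theorem F2775 : act 0 n3763 = n2842 := d1_1 D3763 (iv D2842) F716 D1957 (iv F1938) (iv F2767) F2766
theorem F2776 : act 3 n2795 = n3763 := d2_0 F2775 F1912 (iv F1859) (iv D2789) (iv D1237) D1239 D2795
def n3764 : Q := act 3 n1804
theorem D3764 : act 3 n1804 = n3764 := rfl
theorem F2777 : act 0 n3764 = n2802 := d2_1 D3764 (iv D2802) F702 D1537 (iv F1937) (iv F2768) F2766
theorem F2778 : act 1 n3764 = n1808 := d5_1 D3764 (iv D1808) (iv F1067)
theorem F2779 : act 2 n3764 = n2795 := d7_1 D3764 F2776 (iv D3763)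
def n3765 : Q := act 1 n1805
theorem D3765 : act 1 n1805 = n3765 := rfl
def n3766 : Q := act 2 n1805
theorem D3766 : act 2 n1805 = n3766 := rfl
def n3767 : Q := act 3 n1805
theorem D3767 : act 3 n1805 = n3767 := rfl
def n3768 : Q := act 4 n1805
theorem D3768 : act 4 n1805 = n3768 := rfl
theorem F2780 : act 0 n3768 = n1806 := d3_1 D3768 (iv D1806) D1805
def n3769 : Q := act 2 n1806
theorem D3769 : act 2 n1806 = n3769 := rfl
def n3770 : Q := act 3 n1806
theorem D3770 : act 3 n1806 = n3770 := rfl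
def n3771 : Q := act 1 n1807
theorem D3771 : act 1 n1807 = n3771 := rfl
theorem F2781 : act 0 n3771 = n2941 := d13_3 D3745 F2757 D3771 (iv D2941) F1182 (iv D1964) (iv F1153) (iv D1933) (iv F1150) (iv F2755) F2754
theorem E312 : n3721 = n106 := (c17_11 (iv D112) D109 D299 D766 D1807 D3771 F2781 F1994 F1016 D1779 D3721 F41 (iv F44))
theorem E313 : n1779 = n290 := (((D290).symm.trans (sb E312 (iv D3721)))).symm
theorem E314 : n3720 = n741 := (((D741).symm.trans (sb E313 (iv F2743)))).symm
theorem E315 : n3110 = n742 := (((D742).symm.trans (sb E313 (iv F2227)))).symm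
theorem E316 : n3717 = n743 := (((D743).symm.trans (sb E313 (iv F2742)))).symm
theorem E317 : n755 = n744 := (((D744).symm.trans (sb E313 (iv D1779)))).symm
theorem E318 : n1778 = n1751 := (((D1751).symm.trans (sb E314 (iv D3720)))).symm
theorem E319 : n1755 = n1411 := ((D1755).symm.trans (sb E315 (iv D3110)))
theorem E320 : n1777 = n1757 := (((D1757).symm.trans (sb E316 (iv D3717)))).symm
theorem E321 : n1723 = n1716 := ((((iv F1011)).symm.trans (sb E317 (iv F1016)))).symm
theorem E322 : n1758 = n295 := ((D1758).symm.trans (sb E317 (iv D755)))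
theorem E325 : n3710 = n3663 := (((D3663).symm.trans (sb E318 (iv F2738)))).symm
theorem E326 : n3666 = n3109 := (((D3109).symm.trans (sb E319 (iv F2710)))).symm
theorem F2782 : act 1 n1411 = n744 := (sb E319 F1034)
theorem F2783 : act 4 n1411 = n742 := (sb E319 (iv D1755))
theorem E329 : n3689 = n3675 := ((((iv F2716)).symm.trans (sb E320 (iv F2724)))).symm
theorem E330 : n3703 = n3671 := ((((iv F2714)).symm.trans (sb E320 (iv F2733)))).symm
theorem E331 : n3715 = n3676 := (((D3676).symm.trans (sb E320 (iv F2740)))).symm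
theorem E332 : n3677 = n754 := ((D3677).symm.trans (sb E320 (iv D1777)))
theorem E334 : n3603 = n2941 := (((iv F2665)).symm.trans (sb E321 (iv F1994)))
theorem E335 : n3605 = n728 := ((D3605).symm.trans (sb E321 (iv D1723)))
theorem F2784 : act 3 n295 = n744 := (sb E322 (iv D1758))
theorem F2785 : act 4 n3663 = n1774 := (sb E325 (iv D3710))
theorem F2786 : act 4 n3109 = n1752 := (sb E326 (iv D3666))
theorem F2787 : act 3 n3675 = n1764 := (sb E329 (iv D3689))
theorem F2788 : act 3 n3671 = n1771 := (sb E330 (iv D3703))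
theorem F2789 : act 3 n3676 = n1776 := (sb E331 (iv D3715))
theorem F2790 : act 3 n754 = n1757 := (sb E332 (iv D3677))
theorem F2791 : act 1 n2941 = n1716 := (sb E334 F2665)
theorem F2792 : act 4 n2941 = n1714 := (sb E334 (iv D3603))
theorem F2793 : act 3 n728 = n1716 := (sb E335 (iv D3605))
theorem F2794 : act 4 n3600 = n3771 := d17_0 (iv D3771) (iv D1807) (iv D766) (iv D299) (iv D109) (iv D37) (iv F13) (iv F40) D283 D724 D1714 D3600
theorem E339 : n3616 = n3604 := ((c9_5 D728 F2793 (iv D1716) D1715 D3604 (iv D3616) (iv D1722) (iv D727))).symm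
theorem F2795 : act 3 n3604 = n1722 := (sb E339 (iv D3616))
theorem E340 : n3650 = n3530 := (c10_4 F2793 (iv F2662) F2663 (iv F2703) (iv D3530) F981 (iv F964) F963)
theorem F2796 : act 0 n3530 = n1747 := (sb E340 F2703)
theorem F2797 : act 4 n3530 = n1744 := (sb E340 (iv D3650))
theorem E341 : n3497 = n3489 := ((c12_6 F2793 (iv D1716) D1715 (iv F2551) (iv D3488) D3489 (iv D3497) F963)).symm
theorem E342 : n1683 = n1672 := (((F2552).symm.trans (sb E341 F2560))).symm
theorem F2798 : act 3 n3489 = n1658 := (sb E341 (iv D3497))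
theorem E344 : n3537 = n3522 := ((((iv F2585)).symm.trans (sb E342 (iv F2600)))).symm
theorem E345 : n3525 = n709 := ((D3525).symm.trans (sb E342 (iv D1683)))
theorem F2799 : act 3 n3522 = n1680 := (sb E344 (iv D3537))
theorem F2800 : act 3 n709 = n1672 := (sb E345 (iv D3525))
theorem E347 : n3543 = n3524 := ((c9_5 D709 F2800 (iv D1672) D1671 D3524 (iv D3543) (iv D1682) (iv D708))).symm
theorem F2801 : act 3 n3524 = n1682 := (sb E347 (iv D3543))
theorem E348 : n3656 = n3648 := (c12_5 (iv D1675) D1676 D3530 F2796 D3656 (iv D3648) F1028 (iv F980))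
theorem F2802 : act 3 n3648 = n1747 := (sb E348 (iv D3656))
theorem E349 : n3730 = n3655 := ((c9_5 D3648 F2802 (iv D1747) D1746 D3655 (iv D3730) (iv D1784) (iv F1028))).symm
theorem F2803 : act 3 n3655 = n1784 := (sb E349 (iv D3730))
theorem E350 : n3712 = n3662 := ((c12_6 F2790 (iv D1757) (iv D743) D741 D1750 D3662 (iv D3712) F1049)).symm
theorem F2804 : act 3 n3662 = n1775 := (sb E350 (iv D3712))
theorem E351 : n3691 = n3511 := (c9_7 D3675 F2787 (iv D1764) (iv D747) D748 D1765 D3691 F2576)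
theorem F2805 : act 4 n3511 = n1765 := (sb E351 (iv D3691))
theorem E352 : n3690 = n3514 := (c3_2 F2805 D3690 (iv D3514) D3511)
theorem F2806 : act 0 n3514 = n1765 := (sb E352 (iv D3690))
theorem E353 : n3575 = n3570 := (c8_2 F2805 (iv F2637) (iv D3570) (iv D1696) (iv D717) (iv F370) D1694 (iv F2575))
theorem F2807 : act 2 n3570 = n1765 := (sb E353 F2637)
theorem F2808 : act 3 n3570 = n1700 := (sb E353 (iv D3575))
theorem E354 : n3669 = n3102 := (c8_3 F2783 D1753 D3669 (iv D3102) (iv D1408) (iv D582) D584 D1411)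
theorem F2809 : act 1 n3102 = n1852 := (sb E354 F2713)
theorem F2810 : act 4 n3102 = n1753 := (sb E354 (iv D3669))
def n3772 : Q := act 3 n1807
theorem D3772 : act 3 n1807 = n3772 := rfl
theorem F2811 : act 2 n3772 = n1808 := d7_1 D3772 (iv D1808) D1807
def n3773 : Q := act 4 n1807
theorem D3773 : act 4 n1807 = n3773 := rfl
theorem F2812 : act 1 n3773 = n3600 := d6_1 D3773 F2794 (iv D3771)
theorem F2813 : act 2 n3773 = n1817 := d8_1 D3773 (iv D1817) (iv D769) (iv D301) D299 D766 D1807
def n3774 : Q := act 0 n1808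
theorem D3774 : act 0 n1808 = n3774 := rfl
def n3775 : Q := act 4 n1808
theorem D3775 : act 4 n1808 = n3775 := rfl
def n3776 : Q := act 4 n1810
theorem D3776 : act 4 n1810 = n3776 := rfl
def n3777 : Q := act 2 n1812
theorem D3777 : act 2 n1812 = n3777 := rfl
def n3778 : Q := act 0 n1813
theorem D3778 : act 0 n1813 = n3778 := rfl
def n3779 : Q := act 1 n1813
theorem D3779 : act 1 n1813 = n3779 := rfl
theorem F2814 : act 3 n3779 = n1909 := d5_2 (iv F1069) D3779 (iv D1909)
theorem F2815 : act 0 n3779 = n3327 := d16_6 D40 D118 (iv F132) (iv F391) D1813 D3779 (iv D3327) (iv D1566) (iv D652) (iv D252) F34 F12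
def n3780 : Q := act 4 n1813
theorem D3780 : act 4 n1813 = n3780 := rfl
def n3781 : Q := act 1 n1814
theorem D3781 : act 1 n1814 = n3781 := rfl
def n3782 : Q := act 3 n1814
theorem D3782 : act 3 n1814 = n3782 := rfl
def n3783 : Q := act 4 n1814
theorem D3783 : act 4 n1814 = n3783 := rfl
theorem F2816 : act 0 n3783 = n1817 := d3_1 D3783 (iv D1817) D1814
def n3784 : Q := act 0 n1815
theorem D3784 : act 0 n1815 = n3784 := rfl
theorem F2817 : act 3 n3784 = n3313 := d16_7 D340 F154 (iv D307) (iv F127) D769 D1815 D3784 (iv D3313) (iv D1559) (iv D649) F109 (iv F52)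
theorem F2818 : act 2 n3665 = n3784 := d7_3 F2817 F2512 D3665
def n3785 : Q := act 2 n1815
theorem D3785 : act 2 n1815 = n3785 := rfl
theorem F2819 : act 1 n3785 = n1834 := d4_1 D3785 (iv D1834) (iv D778) (iv D306) (iv F127) D769 D1815
def n3786 : Q := act 3 n1815
theorem D3786 : act 3 n1815 = n3786 := rfl
theorem F2820 : act 1 n3786 = n1816 := d5_1 D3786 (iv D1816) D1815
def n3787 : Q := act 4 n1815
theorem D3787 : act 4 n1815 = n3787 := rfl
theorem F2821 : act 1 n3787 = n1817 := d6_1 D3787 (iv D1817) D1815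
def n3788 : Q := act 0 n1816
theorem D3788 : act 0 n1816 = n3788 := rfl
def n3789 : Q := act 4 n1816
theorem D3789 : act 4 n1816 = n3789 := rfl
def n3790 : Q := act 3 n1817
theorem D3790 : act 3 n1817 = n3790 := rfl
def n3791 : Q := act 2 n1818
theorem D3791 : act 2 n1818 = n3791 := rfl
def n3792 : Q := act 4 n1818
theorem D3792 : act 4 n1818 = n3792 := rfl
theorem F2822 : act 0 n3792 = n1819 := d3_1 D3792 (iv D1819) D1818
def n3793 : Q := act 2 n1819
theorem D3793 : act 2 n1819 = n3793 := rfl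
theorem F2823 : act 3 n3793 = n1911 := d7_2 (iv F1072) D3793 (iv D1911)
def n3794 : Q := act 4 n1820
theorem D3794 : act 4 n1820 = n3794 := rfl
theorem F2824 : act 0 n3794 = n2999 := d3_1 D3794 (iv D2999) (iv F1073)
theorem F2825 : act 1 n3794 = n1823 := d6_1 D3794 (iv D1823) D1820
theorem F2826 : act 2 n3794 = n2991 := d11_2 (iv F1074) D3794 (iv D2991) (iv D1348) (iv D557) D555 D1342
def n3795 : Q := act 4 n1821
theorem D3795 : act 4 n1821 = n3795 := rfl
def n3796 : Q := act 0 n1822
theorem D3796 : act 0 n1822 = n3796 := rfl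
theorem F2827 : act 1 n3796 = n3502 := d13_2 (iv F2541) D3796 F2563 (iv D3502) (iv D1661) (iv D700) (iv D274) (iv F120) D696 D1650 D3480
def n3797 : Q := act 4 n1822
theorem D3797 : act 4 n1822 = n3797 := rfl
theorem F2828 : act 3 n3797 = n2228 := d12_2 D1822 D3797 (iv D2228) F1079 (iv D1827) (iv D773) D771
def n3798 : Q := act 2 n1823
theorem D3798 : act 2 n1823 = n3798 := rfl
def n3799 : Q := act 3 n1823
theorem D3799 : act 3 n1823 = n3799 := rfl
def n3800 : Q := act 0 n1824
theorem D3800 : act 0 n1824 = n3800 := rfl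
def n3801 : Q := act 4 n1824
theorem D3801 : act 4 n1824 = n3801 := rfl
theorem F2829 : act 1 n3801 = n2772 := d6_1 D3801 (iv D2772) (iv F1076)
def n3802 : Q := act 2 n1825
theorem D3802 : act 2 n1825 = n3802 := rfl
def n3803 : Q := act 3 n1825
theorem D3803 : act 3 n1825 = n3803 := rfl
theorem F2830 : act 1 n3803 = n2778 := d5_1 D3803 (iv F2771) F2770
def n3804 : Q := act 2 n1826
theorem D3804 : act 2 n1826 = n3804 := rfl
theorem F2831 : act 1 n3804 = n2444 := d15_9 F2526 (iv D2768) F688 F687 D1229 (iv F1076) F1077 D1826 D3804 (iv D2444) (iv F950) D3465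
def n3805 : Q := act 4 n1826
theorem D3805 : act 4 n1826 = n3805 := rfl
theorem F2832 : act 0 n3805 = n1827 := d3_1 D3805 (iv D1827) D1826
def n3806 : Q := act 2 n1827
theorem D3806 : act 2 n1827 = n3806 := rfl
theorem F2833 : act 3 n3806 = n2229 := d7_2 F1079 D3806 (iv D2229)
theorem F2834 : act 1 n3806 = n3141 := d16_5 D259 (iv F172) (iv F398) (iv F1078) D3806 (iv D3141) (iv D1441) D1439 F800 (iv D665) F112 F36
def n3807 : Q := act 1 n1828
theorem D3807 : act 1 n1828 = n3807 := rfl
theorem F2835 : act 2 n3807 = n2049 := d4_2 D1828 D3807 (iv D2049) (iv D872) (iv D347) (iv F131) (iv F395)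
def n3808 : Q := act 3 n1828
theorem D3808 : act 3 n1828 = n3808 := rfl
theorem F2836 : act 2 n3808 = n1829 := d7_1 D3808 (iv D1829) D1828
def n3809 : Q := act 4 n1828
theorem D3809 : act 4 n1828 = n3809 := rfl
def n3810 : Q := act 0 n1829
theorem D3810 : act 0 n1829 = n3810 := rfl
def n3811 : Q := act 4 n1829
theorem D3811 : act 4 n1829 = n3811 := rfl
theorem F2837 : act 1 n3811 = n1830 := d6_1 D3811 (iv D1830) (iv F1080)
theorem F2838 : act 3 n3811 = n2230 := d9_1 D3811 (iv D2230) F1079 (iv D1827) (iv D773) D774 D1829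
def n3812 : Q := act 0 n1831
theorem D3812 : act 0 n1831 = n3812 := rfl
def n3813 : Q := act 2 n1831
theorem D3813 : act 2 n1831 = n3813 := rfl
theorem F2839 : act 3 n3813 = n1913 := d7_2 (iv F1084) D3813 (iv D1913)
def n3814 : Q := act 4 n1831
theorem D3814 : act 4 n1831 = n3814 := rfl
theorem F2840 : act 1 n3814 = n1832 := d6_1 D3814 (iv D1832) D1831
theorem F2841 : act 3 n1836 = n3814 := d5_0 F2840 F2057 (iv F1089)
def n3815 : Q := act 1 n1833
theorem D3815 : act 1 n1833 = n3815 := rfl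
theorem F2842 : act 0 n3815 = n3387 := d0_1 D3815 (iv D3387) (iv D1597) (iv D669) (iv F133) D778 D1833
def n3816 : Q := act 2 n1833
theorem D3816 : act 2 n1833 = n3816 := rfl
def n3817 : Q := act 3 n1833
theorem D3817 : act 3 n1833 = n3817 := rfl
def n3818 : Q := act 4 n1833
theorem D3818 : act 4 n1833 = n3818 := rfl
theorem F2843 : act 0 n3818 = n1836 := d3_1 D3818 (iv D1836) D1833
def n3819 : Q := act 0 n1834
theorem D3819 : act 0 n1834 = n3819 := rfl
def n3820 : Q := act 3 n1834
theorem D3820 : act 3 n1834 = n3820 := rfl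
theorem F2844 : act 2 n3820 = n1835 := d7_1 D3820 (iv D1835) D1834
def n3821 : Q := act 4 n1834
theorem D3821 : act 4 n1834 = n3821 := rfl
def n3822 : Q := act 0 n1835
theorem D3822 : act 0 n1835 = n3822 := rfl
def n3823 : Q := act 4 n1835
theorem D3823 : act 4 n1835 = n3823 := rfl
theorem F2845 : act 1 n3823 = n1837 := d6_1 D3823 (iv D1837) (iv F1088)
theorem F2846 : act 3 n3823 = n1914 := d9_1 D3823 (iv D1914) (iv F1084) D3814 (iv F2841) (iv D1836) D1835
def n3824 : Q := act 2 n1836
theorem D3824 : act 2 n1836 = n3824 := rfl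
def n3826 : Q := act 1 n1839
theorem D3826 : act 1 n1839 = n3826 := rfl
theorem F2848 : act 3 n3826 = n1916 := d5_2 (iv F1093) D3826 (iv D1916)
def n3828 : Q := act 1 n1840
theorem D3828 : act 1 n1840 = n3828 := rfl
theorem F2850 : act 0 n3828 = n1846 := d0_1 D3828 (iv D1846) (iv D785) (iv D309) D308 D782 D1840
theorem F2851 : act 2 n3828 = n2994 := d17_8 (iv D123) (iv D41) D42 D126 (iv F134) D782 D1840 D3828 (iv D2994) (iv D1348) F273 F145
theorem F2852 : act 4 n2988 = n3828 := d8_0 F2851 (iv D2994) (iv D1348) (iv D557) D555 D1345 D2988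
def n3829 : Q := act 2 n1840
theorem D3829 : act 2 n1840 = n3829 := rfl
def n3830 : Q := act 3 n1840
theorem D3830 : act 3 n1840 = n3830 := rfl
def n3831 : Q := act 4 n1840
theorem D3831 : act 4 n1840 = n3831 := rfl
theorem F2853 : act 0 n3831 = n1843 := d3_1 D3831 (iv D1843) D1840
theorem F2854 : act 1 n3831 = n2988 := d6_1 D3831 F2852 (iv D3828)
def n3832 : Q := act 0 n1841
theorem D3832 : act 0 n1841 = n3832 := rfl
def n3833 : Q := act 1 n1841
theorem D3833 : act 1 n1841 = n3833 := rfl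
theorem F2855 : act 2 n3833 = n2017 := d4_2 D1841 D3833 (iv D2017) (iv D857) F151 (iv F134) D782
def n3834 : Q := act 3 n1841
theorem D3834 : act 3 n1841 = n3834 := rfl
theorem F2856 : act 2 n3834 = n1842 := d7_1 D3834 (iv D1842) D1841
def n3835 : Q := act 4 n1841
theorem D3835 : act 4 n1841 = n3835 := rfl
def n3836 : Q := act 0 n1842
theorem D3836 : act 0 n1842 = n3836 := rfl
def n3837 : Q := act 4 n1842
theorem D3837 : act 4 n1842 = n3837 := rfl
theorem F2857 : act 1 n3837 = n1844 := d6_1 D3837 (iv D1844) (iv F1095)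
theorem F2858 : act 3 n1894 = n3837 := d5_0 F2857 F2087 (iv F1126)
def n3838 : Q := act 2 n1843
theorem D3838 : act 2 n1843 = n3838 := rfl
def n3839 : Q := act 3 n1843
theorem D3839 : act 3 n1843 = n3839 := rfl
theorem F2859 : act 1 n3839 = n1845 := d5_1 D3839 (iv D1845) (iv F1096)
theorem F2860 : act 4 n3839 = n1893 := d9_2 D1843 D3839 (iv D1893) D1894 F2858 (iv D3837) (iv D1842)
def n3841 : Q := act 3 n1846
theorem D3841 : act 3 n1846 = n3841 := rfl
theorem F2863 : act 1 n3841 = n1848 := d5_1 D3841 (iv D1848) D1846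
theorem F2864 : act 2 n3841 = n3029 := d7_1 D3841 (iv D3029) (iv F1100)
theorem F2865 : act 0 n3841 = n3841 := d12_3 (iv D3014) F1101 D3841 (iv D3841) (iv F1101) D3014 F2104
def n3842 : Q := act 0 n1847
theorem D3842 : act 0 n1847 = n3842 := rfl
theorem F2866 : act 1 n3842 = n3305 := d13_2 D1847 D3842 (iv D3305) (iv D1556) F318 F109 (iv F52) (iv F134) (iv D308) D309 D785
def n3843 : Q := act 1 n1847
theorem D3843 : act 1 n1847 = n3843 := rfl
theorem F2867 : act 2 n3843 = n3053 := d17_8 (iv D422) (iv F192) (iv F556) D2415 (iv F2409) (iv F2866) (iv D3842) D3843 (iv D3053) (iv D1382) F279 (iv F199)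
theorem F2868 : act 4 n3043 = n3843 := d8_0 F2867 (iv D3053) (iv D1382) (iv D569) D567 D1379 D3043
def n3844 : Q := act 3 n1847
theorem D3844 : act 3 n1847 = n3844 := rfl
theorem F2869 : act 2 n3844 = n1848 := d7_1 D3844 (iv D1848) D1847
def n3845 : Q := act 4 n1847
theorem D3845 : act 4 n1847 = n3845 := rfl
theorem F2870 : act 1 n3845 = n3043 := d6_1 D3845 F2868 (iv D3843)
def n3846 : Q := act 0 n1848
theorem D3846 : act 0 n1848 = n3846 := rfl
theorem F2871 : act 1 n3846 = n3504 := d16_9 D705 F363 (iv D291) F41 D113 D309 D785 D1848 D3846 (iv D3504) F965 F362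
theorem E355 : n3029 = n3019 := ((c17_4 D220 (iv F275) D1366 D3019 (iv F2864) F2863 D3846 F2871 (iv D3504) (iv D1662) F357 F212 F74)).symm
theorem F2872 : act 2 n3019 = n3841 := (sb E355 (iv F2864))
theorem F2873 : act 3 n3019 = n1370 := (sb E355 (iv D3029))
theorem E356 : n3200 = n3028 := ((c9_5 D3019 F2873 (iv D1370) D1369 D3028 (iv D3200) (iv D1489) (iv F766))).symm
theorem F2874 : act 3 n3028 = n1489 := (sb E356 (iv D3200))
theorem F2875 : act 4 n3841 = n3012 := d8_2 D3019 F2872 (iv D3012) (iv D1359) F274 D563 D1366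
def n3847 : Q := act 4 n1848
theorem D3847 : act 4 n1848 = n3847 := rfl
theorem F2876 : act 1 n3847 = n3012 := d6_1 D3847 (iv F2875) F2863
theorem F2877 : act 3 n3847 = n1882 := d12_2 D1848 D3847 F1120 (iv F2064) (iv D1854) (iv D787) D785
def n3848 : Q := act 2 n1849
theorem D3848 : act 2 n1849 = n3848 := rfl
def n3849 : Q := act 3 n1849
theorem D3849 : act 3 n1849 = n3849 := rfl
theorem F2878 : act 1 n3849 = n3014 := d5_1 D3849 (iv D3014) (iv F1103)
theorem F2879 : act 4 n3849 = n1881 := d9_2 D1849 D3849 (iv D1881) D1882 (iv F2877) (iv D3847) (iv D1848)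
def n3850 : Q := act 1 n1850
theorem D3850 : act 1 n1850 = n3850 := rfl
theorem F2880 : act 2 n3850 = n3081 := d17_8 D226 (iv F286) D1411 F2783 D1753 F1032 D1850 D3850 (iv D3081) (iv D1397) (iv D578) (iv D223)
def n3851 : Q := act 2 n1850
theorem D3851 : act 2 n1850 = n3851 := rfl
def n3852 : Q := act 3 n1850
theorem D3852 : act 3 n1850 = n3852 := rfl
def n3853 : Q := act 4 n1850
theorem D3853 : act 4 n1850 = n3853 := rfl
theorem F2881 : act 0 n3853 = n1852 := d3_1 D3853 (iv D1852) D1850
def n3854 : Q := act 0 n1851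
theorem D3854 : act 0 n1851 = n3854 := rfl
def n3855 : Q := act 4 n1851
theorem D3855 : act 4 n1851 = n3855 := rfl
def n3856 : Q := act 2 n1852
theorem D3856 : act 2 n1852 = n3856 := rfl
def n3857 : Q := act 3 n1852
theorem D3857 : act 3 n1852 = n3857 := rfl
def n3858 : Q := act 1 n1853
theorem D3858 : act 1 n1853 = n3858 := rfl
theorem F2882 : act 0 n3858 = n3858 := d0_1 D3858 (iv D3858) (iv D1853) F412 F136 (iv F412) D1853
def n3859 : Q := act 2 n1853
theorem D3859 : act 2 n1853 = n3859 := rfl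
def n3860 : Q := act 3 n1853
theorem D3860 : act 3 n1853 = n3860 := rfl
theorem F2883 : act 4 n3860 = n1870 := d12_1 D3860 (iv D1870) F422 F2043 (iv D788) D787 D1853
theorem F2884 : act 1 n2347 = n3860 := d6_3 F2883 F1117 D2347
theorem F2885 : act 3 n3858 = n2347 := d5_0 F2884 (iv D3860) D3858
theorem F2886 : act 4 n2343 = n3858 := d9_0 F2885 (iv D2347) (iv D1005) F421 D1862 F1662 D2343
def n3861 : Q := act 4 n1853
theorem D3861 : act 4 n1853 = n3861 := rfl
theorem F2887 : act 0 n3861 = n1854 := d3_1 D3861 (iv D1854) D1853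
theorem F2888 : act 1 n3861 = n2343 := d6_1 D3861 F2886 (iv D3858)
theorem F2889 : act 3 n3861 = n1868 := d9_1 D3861 (iv D1868) (iv D794) D795 D1870 (iv F2883) (iv D3860)
def n3862 : Q := act 2 n1854
theorem D3862 : act 2 n1854 = n3862 := rfl
theorem F2890 : act 3 n3862 = n1883 := d7_2 (iv F2064) D3862 (iv D1883)
def n3863 : Q := act 0 n1855
theorem D3863 : act 0 n1855 = n3863 := rfl
def n3864 : Q := act 4 n1855
theorem D3864 : act 4 n1855 = n3864 := rfl
def n3867 : Q := act 0 n1860
theorem D3867 : act 0 n1860 = n3867 := rfl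
def n3871 : Q := act 0 n1862
theorem D3871 : act 0 n1862 = n3871 := rfl
theorem F2895 : act 4 n3871 = n2341 := d3_2 (iv F1662) D3871 (iv D2341)
theorem F2896 : act 2 n3871 = n2373 := d10_2 D1862 D3871 (iv F1667) (iv D2390) F549 (iv F420) F419
def n3872 : Q := act 2 n1863
theorem D3872 : act 2 n1863 = n3872 := rfl
theorem F2897 : act 0 n3872 = n1872 := d1_1 D3872 (iv D1872) (iv D796) (iv D314) D313 D793 D1863
theorem F2898 : act 1 n3872 = n3527 := d4_1 D3872 (iv D3527) (iv D1674) (iv F946) F945 (iv F846) (iv F1112)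
def n3873 : Q := act 3 n1863
theorem D3873 : act 3 n1863 = n3873 := rfl
theorem F2899 : act 1 n3873 = n3248 := d5_1 D3873 (iv D3248) (iv F1112)
theorem F2900 : act 0 n3873 = n1880 := d10_1 D3873 (iv D1880) (iv D799) (iv D315) D313 D793 D1863
def n3874 : Q := act 4 n1863
theorem D3874 : act 4 n1863 = n3874 := rfl
theorem F2901 : act 0 n3874 = n1866 := d3_1 D3874 (iv D1866) D1863
theorem F2902 : act 1 n3874 = n3249 := d6_1 D3874 (iv D3249) (iv F1112)
def n3875 : Q := act 0 n1864
theorem D3875 : act 0 n1864 = n3875 := rfl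
theorem F2903 : act 1 n3875 = n3250 := d0_2 D1864 D3875 (iv D3250) (iv D1524) D1523 (iv F1112) (iv D1863)
theorem F2904 : act 4 n3875 = n2446 := d3_2 F1114 D3875 F1554
theorem F2905 : act 2 n3875 = n2455 := d11_4 D434 D1078 (iv F1113) D3875 (iv D2455) (iv D1060) F202
def n3876 : Q := act 3 n1864
theorem D3876 : act 3 n1864 = n3876 := rfl
theorem F2906 : act 1 n3876 = n1865 := d5_1 D3876 (iv D1865) D1864
theorem F2907 : act 2 n3876 = n2491 := d7_1 D3876 (iv D2491) (iv F1113)
def n3877 : Q := act 0 n1865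
theorem D3877 : act 0 n1865 = n3877 := rfl
def n3878 : Q := act 4 n1865
theorem D3878 : act 4 n1865 = n3878 := rfl
def n3879 : Q := act 2 n1866
theorem D3879 : act 2 n1866 = n3879 := rfl
theorem F2908 : act 0 n3879 = n1877 := d11_3 D793 D1866 D3879 (iv D1877) (iv D798) (iv D314) D313
def n3880 : Q := act 3 n1866
theorem D3880 : act 3 n1866 = n3880 := rfl
theorem F2909 : act 1 n3880 = n2469 := d5_1 D3880 (iv D2469) (iv F1116)
def n3881 : Q := act 2 n1867
theorem D3881 : act 2 n1867 = n3881 := rfl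
theorem F2910 : act 0 n3881 = n1873 := d10_3 D794 D1867 D3881 (iv D1873) (iv D796) (iv D314) D313
def n3882 : Q := act 3 n1867
theorem D3882 : act 3 n1867 = n3882 := rfl
theorem F2911 : act 0 n3882 = n1881 := d2_1 D3882 (iv D1881) (iv D799) (iv D315) D313 D794 D1867
theorem F2912 : act 1 n3882 = n3547 := d5_1 D3882 F2604 F1659
def n3883 : Q := act 4 n1867
theorem D3883 : act 4 n1867 = n3883 := rfl
theorem F2913 : act 0 n3883 = n1868 := d3_1 D3883 (iv D1868) D1867
def n3884 : Q := act 2 n1868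
theorem D3884 : act 2 n1868 = n3884 := rfl
def n3885 : Q := act 0 n1869
theorem D3885 : act 0 n1869 = n3885 := rfl
def n3886 : Q := act 1 n1869
theorem D3886 : act 1 n1869 = n3886 := rfl
theorem F2914 : act 2 n3886 = n2326 := d4_2 D1869 D3886 (iv D2326) (iv D997) F183 D402 (iv F423)
theorem F2915 : act 4 n2620 = n3886 := d8_0 F2914 F1437 (iv D1152) (iv D468) D466 D1149 D2620
def n3887 : Q := act 3 n1869
theorem D3887 : act 3 n1869 = n3887 := rfl
theorem F2916 : act 2 n3887 = n1870 := d7_1 D3887 (iv D1870) D1869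
def n3888 : Q := act 4 n1869
theorem D3888 : act 4 n1869 = n3888 := rfl
theorem F2917 : act 1 n3888 = n2620 := d6_1 D3888 F2915 (iv D3886)
def n3889 : Q := act 0 n1870
theorem D3889 : act 0 n1870 = n3889 := rfl
def n3890 : Q := act 0 n1871
theorem D3890 : act 0 n1871 = n3890 := rfl
theorem F2918 : act 1 n3890 = n3251 := d0_2 D1871 D3890 (iv F2729) (iv D3695) (iv D1768) F385 D796
theorem F2919 : act 2 n3890 = n3116 := d1_2 (iv F1118) D3890 F2232 (iv F2417) (iv D3321) (iv F2237) F2235
def n3891 : Q := act 3 n1871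
theorem D3891 : act 3 n1871 = n3891 := rfl
theorem F2920 : act 1 n3891 = n1873 := d5_1 D3891 (iv D1873) D1871
theorem F2921 : act 2 n3891 = n3127 := d7_1 D3891 (iv D3127) (iv F1118)
def n3892 : Q := act 4 n1871
theorem D3892 : act 4 n1871 = n3892 := rfl
theorem F2922 : act 1 n3892 = n1874 := d6_1 D3892 (iv D1874) D1871
theorem F2923 : act 2 n3892 = n3135 := d8_1 D3892 (iv D3135) (iv D1432) (iv D592) D590 D1429 (iv F1118)
def n3893 : Q := act 3 n1872
theorem D3893 : act 3 n1872 = n3893 := rfl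
theorem F2924 : act 2 n3893 = n1873 := d7_1 D3893 (iv D1873) D1872
def n3894 : Q := act 4 n1872
theorem D3894 : act 4 n1872 = n3894 := rfl
theorem F2925 : act 2 n3894 = n1885 := d11_2 D1872 D3894 (iv D1885) (iv D801) (iv D316) D314 D796
def n3895 : Q := act 4 n1873
theorem D3895 : act 4 n1873 = n3895 := rfl
def n3896 : Q := act 2 n1874
theorem D3896 : act 2 n1874 = n3896 := rfl
theorem F2926 : act 1 n3896 = n2722 := d4_1 D3896 (iv D2722) (iv F1763) (iv F2613) (iv F2614) (iv F2923) F2922
def n3897 : Q := act 3 n1874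
theorem D3897 : act 3 n1874 = n3897 := rfl
def n3898 : Q := act 1 n1875
theorem D3898 : act 1 n1875 = n3898 := rfl
def n3899 : Q := act 2 n1875
theorem D3899 : act 2 n1875 = n3899 := rfl
def n3900 : Q := act 3 n1875
theorem D3900 : act 3 n1875 = n3900 := rfl
def n3901 : Q := act 4 n1875
theorem D3901 : act 4 n1875 = n3901 := rfl
theorem F2927 : act 0 n3901 = n1876 := d3_1 D3901 (iv D1876) D1875
def n3902 : Q := act 2 n1876
theorem D3902 : act 2 n1876 = n3902 := rfl
def n3903 : Q := act 3 n1876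
theorem D3903 : act 3 n1876 = n3903 := rfl
def n3904 : Q := act 3 n1877
theorem D3904 : act 3 n1877 = n3904 := rfl
theorem F2928 : act 2 n3904 = n1878 := d7_1 D3904 (iv D1878) D1877
def n3907 : Q := act 0 n1879
theorem D3907 : act 0 n1879 = n3907 := rfl
theorem F2929 : act 1 n3907 = n1891 := d0_2 D1879 D3907 (iv D1891) (iv D803) (iv D317) (iv F139) D799
def n3908 : Q := act 2 n1879
theorem D3908 : act 2 n1879 = n3908 := rfl
def n3909 : Q := act 3 n1879
theorem D3909 : act 3 n1879 = n3909 := rfl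
theorem F2930 : act 1 n3909 = n1881 := d5_1 D3909 (iv D1881) D1879
theorem F2931 : act 0 n3909 = n3909 := d0_7 F2930 (iv F2911) F2912 F2605 (iv F2912) F2911 (iv F2930)
theorem F2932 : act 4 n3014 = n3909 := d6_0 F2930 (iv F2879) F2878
def n3910 : Q := act 4 n1879
theorem D3910 : act 4 n1879 = n3910 := rfl
theorem F2933 : act 1 n3910 = n1882 := d6_1 D3910 (iv D1882) D1879
theorem F2934 : act 3 n3910 = n3012 := d9_1 D3910 (iv F2875) (iv D3841) (iv F1101) D3014 F2932 (iv D3909)
theorem F2935 : act 2 n3013 = n3910 := d7_3 F2934 (iv D3012) D3013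
def n3911 : Q := act 1 n1880
theorem D3911 : act 1 n1880 = n3911 := rfl
def n3912 : Q := act 3 n1880
theorem D3912 : act 3 n1880 = n3912 := rfl
theorem F2936 : act 2 n3912 = n1881 := d7_1 D3912 (iv D1881) D1880
def n3913 : Q := act 4 n1880
theorem D3913 : act 4 n1880 = n3913 := rfl
def n3914 : Q := act 2 n1882
theorem D3914 : act 2 n1882 = n3914 := rfl
def n3915 : Q := act 0 n1883
theorem D3915 : act 0 n1883 = n3915 := rfl
def n3916 : Q := act 1 n1883
theorem D3916 : act 1 n1883 = n3916 := rfl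
def n3917 : Q := act 4 n1883
theorem D3917 : act 4 n1883 = n3917 := rfl
def n3918 : Q := act 3 n1885
theorem D3918 : act 3 n1885 = n3918 := rfl
theorem F2937 : act 1 n3918 = n2688 := d5_1 D3918 (iv D2688) (iv F1357)
def n3919 : Q := act 2 n1891
theorem D3919 : act 2 n1891 = n3919 := rfl
def n3920 : Q := act 3 n1891
theorem D3920 : act 3 n1891 = n3920 := rfl
def n3921 : Q := act 4 n1891
theorem D3921 : act 4 n1891 = n3921 := rfl
theorem F2938 : act 0 n3921 = n1894 := d3_1 D3921 (iv D1894) D1891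
def n3922 : Q := act 0 n1892
theorem D3922 : act 0 n1892 = n3922 := rfl
def n3923 : Q := act 1 n1892
theorem D3923 : act 1 n1892 = n3923 := rfl
theorem F2939 : act 2 n3923 = n3426 := d4_2 D1892 D3923 (iv D3426) (iv D1619) (iv D679) (iv F141) D803
def n3924 : Q := act 3 n1892
theorem D3924 : act 3 n1892 = n3924 := rfl
theorem F2940 : act 2 n3924 = n1893 := d7_1 D3924 (iv D1893) D1892
def n3925 : Q := act 4 n1892
theorem D3925 : act 4 n1892 = n3925 := rfl
def n3926 : Q := act 0 n1893
theorem D3926 : act 0 n1893 = n3926 := rfl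
def n3927 : Q := act 2 n1894
theorem D3927 : act 2 n1894 = n3927 := rfl
def n3936 : Q := act 0 n1906
theorem D3936 : act 0 n1906 = n3936 := rfl
def n3937 : Q := act 1 n1906
theorem D3937 : act 1 n1906 = n3937 := rfl
def n3938 : Q := act 4 n1906
theorem D3938 : act 4 n1906 = n3938 := rfl
def n3939 : Q := act 2 n1907
theorem D3939 : act 2 n1907 = n3939 := rfl
def n3940 : Q := act 1 n1908
theorem D3940 : act 1 n1908 = n3940 := rfl
def n3941 : Q := act 2 n1908
theorem D3941 : act 2 n1908 = n3941 := rfl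
theorem F2947 : act 1 n3941 = n3333 := d15_3 D811 D1908 D3941 F2428 (iv F2513) F2514 F980 (iv D757) D756 D1780 F1050 (iv D810)
def n3942 : Q := act 3 n1908
theorem D3942 : act 3 n1908 = n3942 := rfl
def n3943 : Q := act 4 n1908
theorem D3943 : act 4 n1908 = n3943 := rfl
theorem F2948 : act 0 n3943 = n1910 := d3_1 D3943 (iv D1910) D1908
def n3944 : Q := act 0 n1909
theorem D3944 : act 0 n1909 = n3944 := rfl
theorem F2949 : act 3 n3944 = n3329 := d2_2 F2814 D3944 (iv D3329) (iv D1568) D1566 D3327 (iv F2815)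
theorem F2950 : act 2 n3944 = n3700 := d10_2 F2814 D3944 F2731 (iv F2726) (iv D3693) (iv F2422) (iv F2815)
def n3945 : Q := act 2 n1909
theorem D3945 : act 2 n1909 = n3945 := rfl
theorem F2951 : act 1 n3945 = n1913 := d4_1 D3945 (iv D1913) (iv D813) (iv D321) D320 D811 D1909
def n3946 : Q := act 4 n1909
theorem D3946 : act 4 n1909 = n3946 := rfl
theorem F2952 : act 1 n3946 = n1910 := d6_1 D3946 (iv D1910) D1909
def n3947 : Q := act 2 n1910
theorem D3947 : act 2 n1910 = n3947 := rfl
def n3948 : Q := act 3 n1910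
theorem D3948 : act 3 n1910 = n3948 := rfl
def n3949 : Q := act 0 n1911
theorem D3949 : act 0 n1911 = n3949 := rfl
def n3950 : Q := act 1 n1911
theorem D3950 : act 1 n1911 = n3950 := rfl
def n3951 : Q := act 4 n1911
theorem D3951 : act 4 n1911 = n3951 := rfl
def n3952 : Q := act 1 n1912
theorem D3952 : act 1 n1912 = n3952 := rfl
theorem F2953 : act 0 n3952 = n3415 := d0_1 D3952 (iv D3415) (iv D1611) F332 (iv F143) D813 D1912
def n3953 : Q := act 2 n1912
theorem D3953 : act 2 n1912 = n3953 := rfl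
def n3954 : Q := act 3 n1912
theorem D3954 : act 3 n1912 = n3954 := rfl
def n3955 : Q := act 4 n1912
theorem D3955 : act 4 n1912 = n3955 := rfl
theorem F2954 : act 0 n3955 = n1914 := d3_1 D3955 (iv D1914) D1912
def n3956 : Q := act 0 n1913
theorem D3956 : act 0 n1913 = n3956 := rfl
def n3957 : Q := act 4 n1913
theorem D3957 : act 4 n1913 = n3957 := rfl
def n3958 : Q := act 2 n1914
theorem D3958 : act 2 n1914 = n3958 := rfl
def n3959 : Q := act 0 n1916
theorem D3959 : act 0 n1916 = n3959 := rfl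
def n3960 : Q := act 2 n1916
theorem D3960 : act 2 n1916 = n3960 := rfl
def n3961 : Q := act 4 n1916
theorem D3961 : act 4 n1916 = n3961 := rfl
def n3978 : Q := act 3 n1925
theorem D3978 : act 3 n1925 = n3978 := rfl
theorem F2964 : act 1 n3978 = n2913 := d5_1 D3978 (iv D2913) (iv F1148)
theorem F2965 : act 2 n3978 = n1926 := d7_1 D3978 (iv D1926) D1925
theorem F2966 : act 0 n3978 = n1959 := d10_1 D3978 (iv D1959) (iv D833) (iv D329) D327 D828 (iv F1147)
def n3979 : Q := act 4 n1925
theorem D3979 : act 4 n1925 = n3979 := rfl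
theorem F2967 : act 0 n3979 = n1952 := d3_1 D3979 (iv D1952) (iv F1147)
theorem F2968 : act 1 n3979 = n2914 := d6_1 D3979 (iv D2914) (iv F1148)
theorem F2969 : act 2 n3979 = n1940 := d11_2 D1925 D3979 (iv D1940) (iv D825) (iv D326) D324 D819
theorem F2970 : act 0 n3807 = n3091 := d13_7 (iv F1169) (iv F2967) F2968 F1969 D2918 F1974 D3807 F2161 F781 (iv D843) D842
theorem E357 : n3377 = n3089 := ((c16_9 D776 F399 (iv D776) (iv F395) D1828 D3807 F2970 (iv D3091) D3089 (iv D3377) (iv D1590) F324 (iv F130))).symm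
theorem F2971 : act 1 n3089 = n1590 := (sb E357 (iv D3377))
def n3980 : Q := act 4 n1926
theorem D3980 : act 4 n1926 = n3980 := rfl
theorem F2972 : act 0 n3980 = n1974 := d3_1 D3980 (iv D1974) (iv F1149)
def n3981 : Q := act 2 n1927
theorem D3981 : act 2 n1927 = n3981 := rfl
theorem F2973 : act 0 n3981 = n1954 := d1_1 D3981 (iv D1954) F437 D835 (iv F1153) (iv D1933) (iv F1150)
def n3982 : Q := act 3 n1927
theorem D3982 : act 3 n1927 = n3982 := rfl
def n3983 : Q := act 3 n1928
theorem D3983 : act 3 n1928 = n3983 := rfl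
theorem F2974 : act 1 n3983 = n3579 := d5_1 D3983 (iv D3579) (iv F1225)
theorem F2975 : act 2 n3983 = n1929 := d7_1 D3983 (iv D1929) D1928
def n3984 : Q := act 4 n1928
theorem D3984 : act 4 n1928 = n3984 := rfl
theorem F2976 : act 0 n3984 = n2811 := d3_1 D3984 (iv D2811) F1224
theorem F2977 : act 1 n3984 = n3580 := d6_1 D3984 (iv D3580) (iv F1225)
def n3985 : Q := act 4 n1929
theorem D3985 : act 4 n1929 = n3985 := rfl
theorem F2978 : act 1 n3985 = n1932 := d6_1 D3985 (iv D1932) (iv F1151)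
def n3986 : Q := act 2 n1930
theorem D3986 : act 2 n1930 = n3986 := rfl
def n3987 : Q := act 3 n1930
theorem D3987 : act 3 n1930 = n3987 := rfl
theorem F2979 : act 1 n3987 = n1934 := d5_1 D3987 (iv D1934) (iv F1152)
def n3988 : Q := act 2 n1931
theorem D3988 : act 2 n1931 = n3988 := rfl
theorem F2980 : act 0 n3988 = n1951 := d1_1 D3988 F1168 (iv F1155) (iv D1936) (iv D823) (iv F435) D1931
theorem F2981 : act 3 n3988 = n2724 := d7_2 F1539 D3988 F1802
theorem F2982 : act 1 n2726 = n3988 := d16_3 D489 D1202 D2726 (iv D3988) F1651 (iv D1513) (iv D627) F106 (iv D157) D158 D419 F194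
def n3989 : Q := act 4 n1931
theorem D3989 : act 4 n1931 = n3989 := rfl
theorem F2983 : act 0 n3989 = n1932 := d3_1 D3989 (iv D1932) D1931
theorem F2984 : act 1 n3989 = n3227 := d6_1 D3989 (iv D3227) (iv F1651)
def n3990 : Q := act 2 n1932
theorem D3990 : act 2 n1932 = n3990 := rfl
def n3991 : Q := act 3 n1932
theorem D3991 : act 3 n1932 = n3991 := rfl
def n3992 : Q := act 1 n1933
theorem D3992 : act 1 n1933 = n3992 := rfl
theorem F2985 : act 0 n3992 = n2932 := d0_1 D3992 F1986 F741 (iv F744) F1182 (iv D1964) (iv F1153)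
theorem F2986 : act 4 n2929 = n3992 := d17_0 (iv D3992) (iv D1933) (iv D822) (iv D324) (iv F92) (iv D213) (iv D76) D77 D219 (iv F262) D1309 D2929
def n3993 : Q := act 3 n1933
theorem D3993 : act 3 n1933 = n3993 := rfl
theorem F2987 : act 2 n3993 = n1934 := d7_1 D3993 (iv D1934) D1933
def n3994 : Q := act 4 n1933
theorem D3994 : act 4 n1933 = n3994 := rfl
theorem F2988 : act 0 n3994 = n1966 := d3_1 D3994 (iv D1966) (iv F1153)
theorem F2989 : act 1 n3994 = n2929 := d6_1 D3994 F2986 (iv D3992)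
theorem F2990 : act 2 n3994 = n1943 := d8_1 D3994 (iv D1943) (iv D825) (iv D326) D324 D822 D1933
def n3995 : Q := act 0 n1934
theorem D3995 : act 0 n1934 = n3995 := rfl
def n3996 : Q := act 4 n1934
theorem D3996 : act 4 n1934 = n3996 := rfl
def n3997 : Q := act 1 n1936
theorem D3997 : act 1 n1936 = n3997 := rfl
def n3998 : Q := act 4 n1936
theorem D3998 : act 4 n1936 = n3998 := rfl
theorem F2991 : act 0 n3998 = n1953 := d3_1 D3998 (iv D1953) (iv F1155)
def n3999 : Q := act 2 n1938
theorem D3999 : act 2 n1938 = n3999 := rfl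
theorem F2992 : act 0 n3999 = n2260 := d10_3 (iv F436) (iv F1157) D3999 (iv D2260) (iv D964) (iv D384) D383
def n4000 : Q := act 0 n1939
theorem D4000 : act 0 n1939 = n4000 := rfl
def n4001 : Q := act 1 n1939
theorem D4001 : act 1 n1939 = n4001 := rfl
theorem F2993 : act 3 n4001 = n2255 := d5_2 (iv F1158) D4001 (iv D2255)
def n4002 : Q := act 4 n1939
theorem D4002 : act 4 n1939 = n4002 := rfl
def n4003 : Q := act 1 n1940
theorem D4003 : act 1 n1940 = n4003 := rfl
theorem F2994 : act 0 n4003 = n2045 := d13_3 D825 D1940 D4003 (iv D2045) (iv D871) (iv D347) (iv D130) (iv D45) (iv F18) (iv F49) (iv F145)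
def n4004 : Q := act 3 n1940
theorem D4004 : act 3 n1940 = n4004 := rfl
theorem F2995 : act 0 n4004 = n1990 := d10_1 D4004 (iv D1990) (iv D846) (iv D334) (iv F145) D825 D1940
def n4005 : Q := act 4 n1940
theorem D4005 : act 4 n1940 = n4005 := rfl
theorem F2996 : act 0 n4005 = n1943 := d3_1 D4005 (iv D1943) D1940
def n4006 : Q := act 2 n1941
theorem D4006 : act 2 n1941 = n4006 := rfl
def n4007 : Q := act 3 n1941
theorem D4007 : act 3 n1941 = n4007 := rfl
theorem F2997 : act 1 n4007 = n1942 := d5_1 D4007 (iv D1942) D1941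
def n4008 : Q := act 4 n1941
theorem D4008 : act 4 n1941 = n4008 := rfl
theorem F2998 : act 1 n4008 = n1943 := d6_1 D4008 (iv D1943) D1941
def n4009 : Q := act 0 n1942
theorem D4009 : act 0 n1942 = n4009 := rfl
def n4010 : Q := act 4 n1942
theorem D4010 : act 4 n1942 = n4010 := rfl
def n4011 : Q := act 3 n1943
theorem D4011 : act 3 n1943 = n4011 := rfl
def n4012 : Q := act 2 n1944
theorem D4012 : act 2 n1944 = n4012 := rfl
theorem F2999 : act 0 n4012 = n1981 := d10_3 D826 D1944 D4012 (iv D1981) (iv D842) (iv D333) (iv F145)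
def n4013 : Q := act 4 n1944
theorem D4013 : act 4 n1944 = n4013 := rfl
theorem F3000 : act 0 n4013 = n1945 := d3_1 D4013 (iv D1945) D1944
def n4014 : Q := act 2 n1945
theorem D4014 : act 2 n1945 = n4014 := rfl
theorem F3001 : act 3 n4014 = n2257 := d7_2 (iv F1160) D4014 (iv D2257)
def n4015 : Q := act 4 n1947
theorem D4015 : act 4 n1947 = n4015 := rfl
def n4016 : Q := act 2 n1949
theorem D4016 : act 2 n1949 = n4016 := rfl
def n4017 : Q := act 3 n1950
theorem D4017 : act 3 n1950 = n4017 := rfl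
theorem F3002 : act 0 n4017 = n2726 := d2_1 D4017 (iv D2726) (iv D1202) (iv D489) (iv F194) D1042 (iv F1163)
theorem F3003 : act 1 n4017 = n1951 := d5_1 D4017 (iv D1951) D1950
theorem F3004 : act 2 n4017 = n3361 := d7_1 D4017 (iv D3361) F1167
def n4018 : Q := act 4 n1950
theorem D4018 : act 4 n1950 = n4018 := rfl
theorem F3005 : act 0 n4018 = n2424 := d3_1 D4018 (iv D2424) (iv F1163)
theorem F3006 : act 1 n4018 = n1952 := d6_1 D4018 (iv D1952) D1950
theorem F3007 : act 2 n4018 = n3376 := d11_2 F1167 D4018 (iv D3376) (iv D1590) (iv D664) (iv F323) D1583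
def n4019 : Q := act 4 n1951
theorem D4019 : act 4 n1951 = n4019 := rfl
theorem F3008 : act 2 n4019 = n2260 := d11_2 (iv F1168) D4019 (iv F2992) (iv D3999) (iv D1938) D1936 F1155
theorem F3009 : act 3 n2259 = n4019 := d7_0 F3008 (iv D2260) D2259
def n4020 : Q := act 3 n1952
theorem D4020 : act 3 n1952 = n4020 := rfl
theorem F3010 : act 2 n4020 = n1981 := d7_1 D4020 (iv D1981) (iv F1169)
def n4021 : Q := act 2 n1953
theorem D4021 : act 2 n1953 = n4021 := rfl
def n4022 : Q := act 3 n1953
theorem D4022 : act 3 n1953 = n4022 := rfl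
theorem F3011 : act 0 n4022 = n1963 := d12_3 D829 D1953 D4022 (iv D1963) (iv D834) (iv D329) D327
theorem F3012 : act 4 n2266 = n4022 := d3_0 F3011 F2211 D2266
def n4023 : Q := act 1 n1954
theorem D4023 : act 1 n1954 = n4023 := rfl
theorem F3013 : act 0 n4023 = n2743 := d15_4 (iv D835) (iv F437) D1954 D4023 F1818 F1512 F1187 (iv F742) (iv F1986) (iv F2985) (iv D3992) F1153
def n4024 : Q := act 3 n1954
theorem D4024 : act 3 n1954 = n4024 := rfl
theorem F3014 : act 2 n4024 = n1955 := d7_1 D4024 (iv D1955) D1954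
def n4025 : Q := act 4 n1954
theorem D4025 : act 4 n1954 = n4025 := rfl
theorem F3015 : act 2 n4025 = n1982 := d8_1 D4025 (iv D1982) (iv F1169) (iv D1952) (iv D828) D830 D1954
def n4026 : Q := act 0 n1955
theorem D4026 : act 0 n1955 = n4026 := rfl
def n4027 : Q := act 4 n1955
theorem D4027 : act 4 n1955 = n4027 := rfl
theorem F3016 : act 3 n4027 = n2266 := d9_1 D4027 F3012 (iv D4022) (iv D1953) (iv D829) D830 D1955
def n4028 : Q := act 2 n1956
theorem D4028 : act 2 n1956 = n4028 := rfl
def n4029 : Q := act 1 n1957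
theorem D4029 : act 1 n1957 = n4029 := rfl
def n4030 : Q := act 4 n1957
theorem D4030 : act 4 n1957 = n4030 := rfl
def n4031 : Q := act 2 n1958
theorem D4031 : act 2 n1958 = n4031 := rfl
def n4032 : Q := act 4 n1958
theorem D4032 : act 4 n1958 = n4032 := rfl
theorem F3017 : act 1 n4032 = n1961 := d6_1 D4032 (iv D1961) D1958
def n4033 : Q := act 1 n1959
theorem D4033 : act 1 n1959 = n4033 := rfl
theorem F3018 : act 0 n4033 = n2913 := d14_3 (iv D1958) D1959 D4033 (iv F2964) F2965 (iv F2753) F2752 F1565 F1523 D2756 F1823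
theorem F3019 : act 3 n2507 = n4033 := d16_2 (iv D2509) D2507 (iv D4033) (iv D1959) D1958 (iv F1823) (iv F1948) (iv D1294) F257 (iv F259) (iv F731) F1604
theorem F3020 : act 2 n3800 = n4033 := d10_2 D1824 D3800 F3018 (iv D2913) (iv D1298) D1299 F938
def n4034 : Q := act 3 n1959
theorem D4034 : act 3 n1959 = n4034 := rfl
theorem F3021 : act 0 n4034 = n2724 := d2_1 D4034 (iv F2981) F2980 (iv D1951) (iv F1147) D3978 F2966
theorem F3022 : act 1 n4034 = n2507 := d5_1 D4034 F3019 (iv D4033)
theorem F3023 : act 2 n4034 = n1960 := d7_1 D4034 (iv D1960) D1959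
def n4035 : Q := act 4 n1959
theorem D4035 : act 4 n1959 = n4035 := rfl
theorem F3024 : act 2 n4035 = n1978 := d11_2 D1959 D4035 (iv D1978) (iv D841) (iv D332) (iv F146) D833
def n4036 : Q := act 4 n1960
theorem D4036 : act 4 n1960 = n4036 := rfl
theorem F3025 : act 3 n4036 = n1967 := d12_2 D1960 D4036 (iv D1967) (iv D836) (iv D330) D329 D833
def n4037 : Q := act 2 n1961
theorem D4037 : act 2 n1961 = n4037 := rfl
def n4038 : Q := act 3 n1961
theorem D4038 : act 3 n1961 = n4038 := rfl
def n4039 : Q := act 0 n1962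
theorem D4039 : act 0 n1962 = n4039 := rfl
theorem F3026 : act 2 n4039 = n1974 := d11_4 (iv F146) D834 D1962 D4039 (iv D1974) (iv D838) (iv D331)
def n4040 : Q := act 1 n1962
theorem D4040 : act 1 n1962 = n4040 := rfl
theorem F3027 : act 0 n4040 = n2936 := d16_6 D1267 (iv F1852) (iv D2782) F695 D1962 D4040 (iv D2936) (iv D1312) (iv D541) (iv D206) (iv F87) (iv F253)
theorem F3028 : act 4 n2936 = n4040 := d17_0 (iv D4040) (iv D1962) (iv D834) F146 F48 F17 (iv F48) (iv F146) D834 D1962 D4040 F3027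
theorem F3029 : act 3 n2955 = n4040 := d16_2 F1991 (iv F2004) (iv D4040) (iv D1962) (iv F695) F694 D1236 F696 F254 (iv F263) (iv F743) D2940
def n4041 : Q := act 3 n1962
theorem D4041 : act 3 n1962 = n4041 := rfl
theorem F3030 : act 1 n4041 = n2955 := d5_1 D4041 F3029 (iv D4040)
theorem F3031 : act 2 n4041 = n1963 := d7_1 D4041 (iv D1963) D1962
theorem F3032 : act 4 n2264 = n4041 := d8_0 F3031 F2211 (iv D967) (iv D385) D384 D966 D2264
def n4042 : Q := act 4 n1962
theorem D4042 : act 4 n1962 = n4042 := rfl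
theorem F3033 : act 1 n4042 = n2936 := d6_1 D4042 F3028 (iv D4040)
theorem F3034 : act 2 n4042 = n1979 := d8_1 D4042 (iv D1979) (iv D841) (iv D332) (iv F146) D834 D1962
theorem F3035 : act 3 n1966 = n4042 := d7_0 F3034 F2260 (iv F1202)
def n4043 : Q := act 2 n1964
theorem D4043 : act 2 n1964 = n4043 := rfl
theorem F3036 : act 0 n4043 = n2946 := d10_3 (iv F1183) F1182 D4043 (iv D2946) (iv D1321) (iv D546) D545
def n4044 : Q := act 3 n1964
theorem D4044 : act 3 n1964 = n4044 := rfl
theorem F3037 : act 0 n4044 = n2954 := d2_1 D4044 (iv D2954) (iv D1324) (iv D547) D545 (iv F1183) F1182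
theorem F3038 : act 1 n4044 = n1965 := d5_1 D4044 (iv D1965) D1964
theorem F3039 : act 4 n4044 = n2954 := d9_2 F1185 D4044 (iv D2954) D2955 F3029 (iv F3028) (iv D2936)
def n4045 : Q := act 0 n1965
theorem D4045 : act 0 n1965 = n4045 := rfl
def n4046 : Q := act 4 n1965
theorem D4046 : act 4 n1965 = n4046 := rfl
theorem F3040 : act 1 n4046 = n2954 := d6_1 D4046 (iv F3039) F3038
theorem F3041 : act 2 n4046 = n1987 := d8_1 D4046 (iv D1987) F443 D847 (iv F2206) (iv D1968) (iv F1200)
theorem F3042 : act 3 n4046 = n2264 := d9_1 D4046 F3032 (iv D4041) D4042 (iv F3035) (iv D1966) D1965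
def n4047 : Q := act 1 n1967
theorem D4047 : act 1 n1967 = n4047 := rfl
def n4048 : Q := act 2 n1967
theorem D4048 : act 2 n1967 = n4048 := rfl
def n4049 : Q := act 4 n1967
theorem D4049 : act 4 n1967 = n4049 := rfl
theorem F3043 : act 0 n4049 = n1968 := d3_1 D4049 (iv D1968) D1967
def n4050 : Q := act 3 n1974
theorem D4050 : act 3 n1974 = n4050 := rfl
def n4051 : Q := act 0 n1976
theorem D4051 : act 0 n1976 = n4051 := rfl
theorem F3044 : act 3 n4051 = n2254 := d10_4 F148 (iv F441) D1976 D4051 (iv D2254) (iv D962) (iv D383)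
def n4052 : Q := act 4 n1976
theorem D4052 : act 4 n1976 = n4052 := rfl
def n4053 : Q := act 1 n1978
theorem D4053 : act 1 n1978 = n4053 := rfl
def n4054 : Q := act 3 n1978
theorem D4054 : act 3 n1978 = n4054 := rfl
def n4055 : Q := act 4 n1978
theorem D4055 : act 4 n1978 = n4055 := rfl
theorem F3045 : act 0 n4055 = n1979 := d3_1 D4055 (iv D1979) D1978
def n4056 : Q := act 0 n1980
theorem D4056 : act 0 n1980 = n4056 := rfl
def n4057 : Q := act 2 n1980
theorem D4057 : act 2 n1980 = n4057 := rfl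
def n4058 : Q := act 3 n1980
theorem D4058 : act 3 n1980 = n4058 := rfl
theorem F3046 : act 1 n4058 = n1981 := d5_1 D4058 (iv D1981) D1980
def n4059 : Q := act 4 n1980
theorem D4059 : act 4 n1980 = n4059 := rfl
theorem F3047 : act 1 n4059 = n1982 := d6_1 D4059 (iv D1982) D1980
def n4060 : Q := act 4 n1981
theorem D4060 : act 4 n1981 = n4060 := rfl
theorem F3048 : act 3 n4060 = n2261 := d12_2 D1981 D4060 F1394 (iv F2261) (iv D1987) (iv D844) D842
def n4061 : Q := act 3 n1982
theorem D4061 : act 3 n1982 = n4061 := rfl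
theorem F3049 : act 4 n4061 = n2260 := d9_2 D1982 D4061 (iv D2260) D2261 (iv F3048) (iv D4060) (iv D1981)
def n4062 : Q := act 3 n1983
theorem D4062 : act 3 n1983 = n4062 := rfl
theorem F3050 : act 1 n4062 = n2033 := d5_1 D4062 (iv D2033) (iv F1209)
theorem F3051 : act 2 n4062 = n1984 := d7_1 D4062 (iv D1984) D1983
def n4063 : Q := act 4 n1983
theorem D4063 : act 4 n1983 = n4063 := rfl
theorem F3052 : act 1 n4063 = n2034 := d6_1 D4063 (iv D2034) (iv F1209)
def n4064 : Q := act 2 n1985
theorem D4064 : act 2 n1985 = n4064 := rfl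
def n4065 : Q := act 1 n1986
theorem D4065 : act 1 n1986 = n4065 := rfl
def n4066 : Q := act 2 n1986
theorem D4066 : act 2 n1986 = n4066 := rfl
def n4067 : Q := act 3 n1986
theorem D4067 : act 3 n1986 = n4067 := rfl
def n4068 : Q := act 4 n1986
theorem D4068 : act 4 n1986 = n4068 := rfl
theorem F3053 : act 0 n4068 = n1987 := d3_1 D4068 (iv D1987) D1986
def n4069 : Q := act 1 n1990
theorem D4069 : act 1 n1990 = n4069 := rfl
def n4070 : Q := act 4 n1990
theorem D4070 : act 4 n1990 = n4070 := rfl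
def n4071 : Q := act 2 n1991
theorem D4071 : act 2 n1991 = n4071 := rfl
def n4072 : Q := act 3 n1993
theorem D4072 : act 3 n1993 = n4072 := rfl
theorem F3054 : act 0 n4072 = n2695 := d2_1 D4072 (iv F1786) F874 D1731 (iv F2680) (iv D3628) (iv F1215)
theorem F3055 : act 1 n4072 = n2363 := d5_1 D4072 (iv F2016) F2015
theorem F3056 : act 2 n4072 = n1994 := d7_1 D4072 (iv D1994) D1993
def n4073 : Q := act 4 n1993
theorem D4073 : act 4 n1993 = n4073 := rfl
theorem F3057 : act 0 n4073 = n3629 := d3_1 D4073 (iv D3629) (iv F1215)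
def n4074 : Q := act 4 n1994
theorem D4074 : act 4 n1994 = n4074 := rfl
theorem F3058 : act 0 n4074 = n3630 := d3_1 D4074 (iv D3630) (iv F1645)
theorem F3059 : act 1 n4074 = n2001 := d6_1 D4074 (iv D2001) (iv F1216)
theorem F3060 : act 3 n4074 = n3340 := d12_2 D1994 D4074 (iv D3340) F2401 (iv D3298) (iv D1550) (iv F446)
def n4075 : Q := act 2 n1995
theorem D4075 : act 2 n1995 = n4075 := rfl
theorem F3061 : act 0 n4075 = n3631 := d1_1 D4075 (iv D3631) F1019 D1735 (iv F2402) (iv D3299) (iv F1217)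
def n4076 : Q := act 3 n1995
theorem D4076 : act 3 n1995 = n4076 := rfl
theorem F3062 : act 0 n4076 = n3632 := d2_1 D4076 (iv D3632) F1019 D1736 (iv F2404) (iv D3300) (iv F1217)
theorem F3063 : act 1 n4076 = n2003 := d5_1 D4076 (iv D2003) (iv F1218)
def n4077 : Q := act 3 n1996
theorem D4077 : act 3 n1996 = n4077 := rfl
theorem F3064 : act 0 n4077 = n2012 := d10_1 D4077 (iv D2012) (iv D855) (iv D337) D335 D849 D1996
def n4078 : Q := act 4 n1996
theorem D4078 : act 4 n1996 = n4078 := rfl
theorem F3065 : act 0 n4078 = n1999 := d3_1 D4078 (iv D1999) D1996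
def n4079 : Q := act 3 n1997
theorem D4079 : act 3 n1997 = n4079 := rfl
theorem F3066 : act 0 n4079 = n2475 := d2_1 D4079 (iv F2698) (iv D3642) (iv D1739) D1737 F2123 F2121
theorem F3067 : act 1 n4079 = n1998 := d5_1 D4079 (iv D1998) D1997
def n4080 : Q := act 4 n1997
theorem D4080 : act 4 n1997 = n4080 := rfl
theorem F3068 : act 1 n4080 = n1999 := d6_1 D4080 (iv D1999) D1997
def n4081 : Q := act 0 n1998
theorem D4081 : act 0 n1998 = n4081 := rfl
theorem F3069 : act 1 n4081 = n2725 := d0_2 F3067 D4081 F1803 (iv F1550) F1551 D2475 (iv F3066)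
def n4082 : Q := act 4 n1998
theorem D4082 : act 4 n1998 = n4082 := rfl
def n4083 : Q := act 2 n1999
theorem D4083 : act 2 n1999 = n4083 := rfl
theorem F3070 : act 0 n4083 = n2009 := d11_3 D849 D1999 D4083 (iv D2009) (iv D854) (iv D336) D335
def n4084 : Q := act 3 n1999
theorem D4084 : act 3 n1999 = n4084 := rfl
def n4085 : Q := act 2 n2000
theorem D4085 : act 2 n2000 = n4085 := rfl
theorem F3071 : act 0 n4085 = n2005 := d10_3 D850 D2000 D4085 (iv D2005) (iv D852) (iv D336) D335
def n4086 : Q := act 3 n2000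
theorem D4086 : act 3 n2000 = n4086 := rfl
theorem F3072 : act 0 n4086 = n2013 := d2_1 D4086 (iv D2013) (iv D855) (iv D337) D335 D850 D2000
theorem F3073 : act 1 n4086 = n2547 := d5_1 D4086 (iv D2547) F1541
def n4087 : Q := act 4 n2000
theorem D4087 : act 4 n2000 = n4087 := rfl
theorem F3074 : act 0 n4087 = n2001 := d3_1 D4087 (iv D2001) D2000
theorem F3075 : act 1 n4087 = n2548 := d6_1 D4087 (iv D2548) F1541
def n4088 : Q := act 2 n2001
theorem D4088 : act 2 n2001 = n4088 := rfl
theorem F3076 : act 3 n4088 = n3423 := d7_2 (iv F1220) D4088 (iv D3423)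
def n4089 : Q := act 0 n2002
theorem D4089 : act 0 n2002 = n4089 := rfl
def n4090 : Q := act 1 n2002
theorem D4090 : act 1 n2002 = n4090 := rfl
def n4091 : Q := act 3 n2002
theorem D4091 : act 3 n2002 = n4091 := rfl
theorem F3077 : act 2 n4091 = n2003 := d7_1 D4091 (iv D2003) D2002
def n4092 : Q := act 4 n2002
theorem D4092 : act 4 n2002 = n4092 := rfl
def n4093 : Q := act 0 n2003
theorem D4093 : act 0 n2003 = n4093 := rfl
def n4094 : Q := act 4 n2003
theorem D4094 : act 4 n2003 = n4094 := rfl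
theorem F3078 : act 3 n4094 = n3424 := d9_1 D4094 (iv D3424) (iv F1220) (iv D2001) (iv D850) D851 D2003
def n4095 : Q := act 4 n2004
theorem D4095 : act 4 n2004 = n4095 := rfl
theorem F3079 : act 0 n4095 = n3005 := d3_1 D4095 (iv D3005) (iv F1221)
theorem F3080 : act 1 n4095 = n2006 := d6_1 D4095 (iv D2006) D2004
def n4096 : Q := act 4 n2005
theorem D4096 : act 4 n2005 = n4096 := rfl
def n4097 : Q := act 2 n2006
theorem D4097 : act 2 n2006 = n4097 := rfl
def n4098 : Q := act 3 n2006
theorem D4098 : act 3 n2006 = n4098 := rfl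
def n4099 : Q := act 1 n2007
theorem D4099 : act 1 n2007 = n4099 := rfl
def n4100 : Q := act 2 n2007
theorem D4100 : act 2 n2007 = n4100 := rfl
def n4101 : Q := act 3 n2007
theorem D4101 : act 3 n2007 = n4101 := rfl
def n4102 : Q := act 4 n2007
theorem D4102 : act 4 n2007 = n4102 := rfl
theorem F3081 : act 0 n4102 = n2008 := d3_1 D4102 (iv D2008) D2007
def n4103 : Q := act 2 n2008
theorem D4103 : act 2 n2008 = n4103 := rfl
def n4104 : Q := act 3 n2008
theorem D4104 : act 3 n2008 = n4104 := rfl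
def n4105 : Q := act 1 n2009
theorem D4105 : act 1 n2009 = n4105 := rfl
theorem F3082 : act 0 n4105 = n3608 := d16_6 D1247 D2808 F1878 F1170 D2009 D4105 (iv D3608) (iv D1718) (iv D726) (iv D284) (iv F86) (iv F249)
theorem E358 : n3339 = n649 := (c17_10 (iv D126) D124 D336 D854 D2009 D4105 F3082 F2672 F2394 D3339 (iv D649) F109 (iv F52))
theorem E359 : n1572 = n1561 := (((D1561).symm.trans (sb E358 (iv D3339)))).symm
theorem E361 : n3331 = n3316 := ((((iv F2415)).symm.trans (sb E359 (iv F2427)))).symm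
theorem E362 : n3292 = n3286 := ((((iv F2387)).symm.trans (sb E359 (iv F2394)))).symm
theorem E363 : n3319 = n654 := ((D3319).symm.trans (sb E359 (iv D1572)))
theorem F3083 : act 3 n3316 = n1569 := (sb E361 (iv D3331))
theorem F3084 : act 1 n3286 = n3608 := (sb E362 (iv F2672))
theorem F3085 : act 3 n3286 = n1546 := (sb E362 (iv D3292))
theorem F3086 : act 3 n654 = n1561 := (sb E363 (iv D3319))
theorem F3087 : act 4 n3608 = n3284 := d17_0 (iv D3284) (iv D1542) (iv D642) F108 F33 (iv F16) D124 D336 D854 D2009 D4105 F3082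
theorem F3088 : act 4 n2935 = n4105 := d17_0 (iv D4105) (iv D2009) (iv D854) (iv D336) (iv D124) F16 (iv F33) (iv F108) D642 D1542 D3284 F2385
theorem E364 : n3337 = n3318 := ((c9_5 D654 F3086 (iv D1561) D1560 D3318 (iv D3337) (iv D1571) (iv D653))).symm
theorem F3089 : act 3 n3318 = n1571 := (sb E364 (iv D3337))
def n4106 : Q := act 3 n2009
theorem D4106 : act 3 n2009 = n4106 := rfl
theorem F3090 : act 2 n4106 = n2010 := d7_1 D4106 (iv D2010) D2009
def n4107 : Q := act 4 n2009
theorem D4107 : act 4 n2009 = n4107 := rfl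
theorem F3091 : act 1 n4107 = n2935 := d6_1 D4107 F3088 (iv D4105)
theorem F3092 : act 2 n4107 = n2019 := d8_1 D4107 (iv D2019) (iv D857) (iv D338) D336 D854 D2009
theorem F3093 : act 1 n2019 = n4064 := d4_1 F3092 (iv D4064) F1211 (iv F1202) F1201 D2935 (iv F3091)
theorem F3094 : act 4 n4064 = n2017 := d6_2 D2019 F3093 (iv D2017)
def n4108 : Q := act 0 n2010
theorem D4108 : act 0 n2010 = n4108 := rfl
def n4109 : Q := act 4 n2010
theorem D4109 : act 4 n2010 = n4109 := rfl
def n4110 : Q := act 2 n2011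
theorem D4110 : act 2 n2011 = n4110 := rfl
theorem F3095 : act 3 n4110 = n3213 := d7_2 F1568 D4110 F2310
theorem F3096 : act 0 n4110 = n3433 := d10_3 D1627 F1566 D4110 (iv D3433) (iv D1623) F336 D684
def n4111 : Q := act 4 n2011
theorem D4111 : act 4 n2011 = n4111 := rfl
theorem F3097 : act 0 n4111 = n3440 := d3_1 D4111 (iv D3440) F1566
theorem F3098 : act 1 n4111 = n2014 := d6_1 D4111 (iv D2014) D2011
theorem F3099 : act 3 n4111 = n3220 := d12_2 F1568 D4111 (iv D3220) (iv D1510) (iv D625) D624 D1507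
def n4112 : Q := act 3 n2012
theorem D4112 : act 3 n2012 = n4112 := rfl
theorem F3100 : act 2 n4112 = n2013 := d7_1 D4112 (iv D2013) D2012
def n4113 : Q := act 4 n2012
theorem D4113 : act 4 n2012 = n4113 := rfl
def n4114 : Q := act 4 n2013
theorem D4114 : act 4 n2013 = n4114 := rfl
theorem F3101 : act 1 n4114 = n3216 := d6_1 D4114 (iv D3216) (iv F1569)
theorem F3102 : act 3 n4114 = n2020 := d12_2 D2013 D4114 (iv D2020) (iv D858) (iv D338) D337 D855
def n4115 : Q := act 2 n2014
theorem D4115 : act 2 n2014 = n4115 := rfl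
def n4116 : Q := act 3 n2014
theorem D4116 : act 3 n2014 = n4116 := rfl
theorem F3103 : act 1 n4116 = n3220 := d5_1 D4116 (iv F3099) F3098
def n4117 : Q := act 0 n2015
theorem D4117 : act 0 n2015 = n4117 := rfl
def n4118 : Q := act 4 n2015
theorem D4118 : act 4 n2015 = n4118 := rfl
def n4119 : Q := act 1 n2016
theorem D4119 : act 1 n2016 = n4119 := rfl
def n4120 : Q := act 3 n2016
theorem D4120 : act 3 n2016 = n4120 := rfl
def n4121 : Q := act 4 n2016
theorem D4121 : act 4 n2016 = n4121 := rfl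
theorem F3104 : act 0 n4121 = n2019 := d3_1 D4121 (iv D2019) D2016
def n4122 : Q := act 3 n2017
theorem D4122 : act 3 n2017 = n4122 := rfl
theorem F3105 : act 1 n4122 = n2018 := d5_1 D4122 (iv D2018) D2017
def n4123 : Q := act 0 n2018
theorem D4123 : act 0 n2018 = n4123 := rfl
def n4124 : Q := act 4 n2018
theorem D4124 : act 4 n2018 = n4124 := rfl
def n4125 : Q := act 3 n2019
theorem D4125 : act 3 n2019 = n4125 := rfl
def n4126 : Q := act 1 n2020
theorem D4126 : act 1 n2020 = n4126 := rfl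
theorem F3106 : act 0 n4126 = n3442 := d0_1 D4126 F2494 (iv D1818) F393 (iv F154) (iv F451) D2020
theorem F3107 : act 3 n4126 = n3216 := d5_2 F3102 D4126 (iv F3101)
def n4127 : Q := act 2 n2020
theorem D4127 : act 2 n2020 = n4127 := rfl
def n4128 : Q := act 4 n2020
theorem D4128 : act 4 n2020 = n4128 := rfl
theorem F3108 : act 0 n4128 = n2021 := d3_1 D4128 (iv D2021) D2020
def n4129 : Q := act 2 n2021
theorem D4129 : act 2 n2021 = n4129 := rfl
theorem F3109 : act 3 n4129 = n3428 := d7_2 (iv F1233) D4129 (iv D3428)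
def n4130 : Q := act 1 n2022
theorem D4130 : act 1 n2022 = n4130 := rfl
def n4131 : Q := act 2 n2022
theorem D4131 : act 2 n2022 = n4131 := rfl
def n4132 : Q := act 3 n2022
theorem D4132 : act 3 n2022 = n4132 := rfl
def n4133 : Q := act 4 n2022
theorem D4133 : act 4 n2022 = n4133 := rfl
theorem F3110 : act 0 n4133 = n2024 := d3_1 D4133 (iv D2024) D2022
def n4134 : Q := act 0 n2023
theorem D4134 : act 0 n2023 = n4134 := rfl
def n4135 : Q := act 4 n2023
theorem D4135 : act 4 n2023 = n4135 := rfl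
def n4136 : Q := act 2 n2024
theorem D4136 : act 2 n2024 = n4136 := rfl
theorem F3111 : act 3 n4136 = n2037 := d7_2 (iv F2054) D4136 (iv D2037)
def n4137 : Q := act 1 n2025
theorem D4137 : act 1 n2025 = n4137 := rfl
theorem F3112 : act 0 n4137 = n2028 := d0_1 D4137 (iv D2028) (iv D864) (iv D343) D342 D862 D2025
def n4138 : Q := act 3 n2025
theorem D4138 : act 3 n2025 = n4138 := rfl
def n4139 : Q := act 0 n2026
theorem D4139 : act 0 n2026 = n4139 := rfl
def n4140 : Q := act 1 n2026
theorem D4140 : act 1 n2026 = n4140 := rfl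
theorem F3113 : act 2 n4140 = n3089 := d4_2 D2026 D4140 F2971 (iv D1590) F324 (iv F156) D862
theorem F3114 : act 0 n3097 = n4140 := d1_7 F3113 (iv D3089) (iv D1403) (iv D581) D582 D1406 D3097
def n4141 : Q := act 4 n2026
theorem D4141 : act 4 n2026 = n4141 := rfl
def n4142 : Q := act 2 n2028
theorem D4142 : act 2 n2028 = n4142 := rfl
theorem F3115 : act 4 n4142 = n4075 := d17_3 (iv D2031) D2028 D4142 (iv D4075) F1218 F447 F151 (iv F134) D784 F411 (iv F458) (iv F1237)
def n4143 : Q := act 3 n2028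
theorem D4143 : act 3 n2028 = n4143 := rfl
theorem F3116 : act 1 n4143 = n2030 := d5_1 D4143 (iv D2030) D2028
def n4144 : Q := act 4 n2028
theorem D4144 : act 4 n2028 = n4144 := rfl
theorem F3117 : act 1 n4144 = n2031 := d6_1 D4144 (iv D2031) D2028
theorem F3118 : act 2 n4144 = n4073 := d8_1 D4144 (iv D4073) (iv D1993) D1995 D4075 (iv F3115) (iv D4142)
def n4145 : Q := act 0 n2029
theorem D4145 : act 0 n2029 = n4145 := rfl
def n4146 : Q := act 1 n2029
theorem D4146 : act 1 n2029 = n4146 := rfl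
def n4147 : Q := act 3 n2029
theorem D4147 : act 3 n2029 = n4147 := rfl
theorem F3119 : act 2 n4147 = n2030 := d7_1 D4147 (iv D2030) D2029
def n4148 : Q := act 4 n2029
theorem D4148 : act 4 n2029 = n4148 := rfl
def n4149 : Q := act 0 n2030
theorem D4149 : act 0 n2030 = n4149 := rfl
theorem F3120 : act 1 n4149 = n2550 := d16_9 (iv F1531) (iv D846) (iv D334) F49 D128 D343 D864 D2030 D4149 (iv D2550) (iv F1458) F1457
def n4150 : Q := act 4 n2030
theorem D4150 : act 4 n2030 = n4150 := rfl
theorem F3121 : act 3 n4150 = n2272 := d12_2 D2030 D4150 F1398 (iv F2070) (iv D2036) (iv D866) D864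
def n4151 : Q := act 2 n2031
theorem D4151 : act 2 n2031 = n4151 := rfl
def n4152 : Q := act 3 n2031
theorem D4152 : act 3 n2031 = n4152 := rfl
theorem F3122 : act 4 n4152 = n2271 := d9_2 D2031 D4152 (iv D2271) D2272 (iv F3121) (iv D4150) (iv D2030)
def n4153 : Q := act 1 n2032
theorem D4153 : act 1 n2032 = n4153 := rfl
def n4154 : Q := act 2 n2032
theorem D4154 : act 2 n2032 = n4154 := rfl
def n4155 : Q := act 3 n2032
theorem D4155 : act 3 n2032 = n4155 := rfl
def n4156 : Q := act 4 n2032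
theorem D4156 : act 4 n2032 = n4156 := rfl
theorem F3123 : act 0 n4156 = n2034 := d3_1 D4156 (iv D2034) D2032
def n4157 : Q := act 0 n2033
theorem D4157 : act 0 n2033 = n4157 := rfl
def n4158 : Q := act 4 n2033
theorem D4158 : act 4 n2033 = n4158 := rfl
def n4159 : Q := act 2 n2034
theorem D4159 : act 2 n2034 = n4159 := rfl
def n4160 : Q := act 3 n2034
theorem D4160 : act 3 n2034 = n4160 := rfl
def n4161 : Q := act 1 n2035
theorem D4161 : act 1 n2035 = n4161 := rfl
def n4162 : Q := act 2 n2035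
theorem D4162 : act 2 n2035 = n4162 := rfl
def n4163 : Q := act 3 n2035
theorem D4163 : act 3 n2035 = n4163 := rfl
def n4164 : Q := act 4 n2035
theorem D4164 : act 4 n2035 = n4164 := rfl
theorem F3124 : act 0 n4164 = n2036 := d3_1 D4164 (iv D2036) D2035
def n4165 : Q := act 2 n2036
theorem D4165 : act 2 n2036 = n4165 := rfl
theorem F3125 : act 3 n4165 = n2275 := d7_2 (iv F2070) D4165 (iv D2275)
def n4166 : Q := act 0 n2037
theorem D4166 : act 0 n2037 = n4166 := rfl
def n4167 : Q := act 1 n2037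
theorem D4167 : act 1 n2037 = n4167 := rfl
def n4168 : Q := act 4 n2037
theorem D4168 : act 4 n2037 = n4168 := rfl
def n4172 : Q := act 2 n2042
theorem D4172 : act 2 n2042 = n4172 := rfl
theorem F3129 : act 3 n4172 = n2281 := d7_2 (iv F1242) D4172 (iv D2281)
def n4175 : Q := act 2 n2044
theorem D4175 : act 2 n2044 = n4175 := rfl
theorem F3131 : act 4 n4175 = n3631 := d11_1 D4175 (iv D3631) F1019 D1735 (iv F1251) (iv D2059) (iv F1243)
theorem F3132 : act 0 n4175 = n4142 := d15_1 D4175 (iv D4142) (iv D2028) (iv D864) (iv D343) (iv D128) F18 D45 D131 D350 D877 (iv F1243)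
def n4176 : Q := act 3 n2044
theorem D4176 : act 3 n2044 = n4176 := rfl
theorem F3133 : act 1 n4176 = n2046 := d5_1 D4176 (iv D2046) D2044
def n4177 : Q := act 4 n2044
theorem D4177 : act 4 n2044 = n4177 := rfl
theorem F3134 : act 0 n4177 = n2061 := d3_1 D4177 (iv D2061) (iv F1243)
theorem F3135 : act 1 n4177 = n2047 := d6_1 D4177 (iv D2047) D2044
theorem F3136 : act 2 n4177 = n3629 := d8_1 D4177 (iv D3629) (iv D1728) D1730 D3631 (iv F3131) (iv D4175)
def n4178 : Q := act 1 n2045
theorem D4178 : act 1 n2045 = n4178 := rfl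
theorem F3137 : act 2 n4178 = n3074 := d14_1 D4178 (iv D3074) (iv D1396) (iv D578) (iv F260) (iv F732) (iv F1969) (iv F2968) F2969 D4003 F2994
theorem F3138 : act 1 n4175 = n3075 := d4_5 (iv F3137) (iv D4178) (iv D2045) D2044 D4175 (iv D3075) D3074
def n4179 : Q := act 3 n2045
theorem D4179 : act 3 n2045 = n4179 := rfl
theorem F3139 : act 2 n4179 = n2046 := d7_1 D4179 (iv D2046) D2045
def n4180 : Q := act 4 n2045
theorem D4180 : act 4 n2045 = n4180 := rfl
def n4181 : Q := act 0 n2046
theorem D4181 : act 0 n2046 = n4181 := rfl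
def n4182 : Q := act 4 n2046
theorem D4182 : act 4 n2046 = n4182 := rfl
theorem F3140 : act 3 n4182 = n2219 := d12_2 D2046 D4182 F1368 (iv F2073) (iv D2053) (iv D873) D871
def n4183 : Q := act 2 n2047
theorem D4183 : act 2 n2047 = n4183 := rfl
def n4184 : Q := act 3 n2047
theorem D4184 : act 3 n2047 = n4184 := rfl
theorem F3141 : act 4 n4184 = n2218 := d9_2 D2047 D4184 (iv D2218) D2219 (iv F3140) (iv D4182) (iv D2046)
def n4185 : Q := act 1 n2048
theorem D4185 : act 1 n2048 = n4185 := rfl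
def n4186 : Q := act 2 n2048
theorem D4186 : act 2 n2048 = n4186 := rfl
def n4187 : Q := act 3 n2048
theorem D4187 : act 3 n2048 = n4187 := rfl
def n4188 : Q := act 4 n2048
theorem D4188 : act 4 n2048 = n4188 := rfl
theorem F3142 : act 0 n4188 = n2051 := d3_1 D4188 (iv D2051) D2048
def n4189 : Q := act 0 n2049
theorem D4189 : act 0 n2049 = n4189 := rfl
theorem F3143 : act 2 n4189 = n3098 := d1_2 F2835 D4189 F2217 (iv D1983) (iv F781) (iv F2161) (iv F2970)
theorem F3144 : act 3 n4189 = n3097 := d10_4 D3091 (iv F2970) F2835 D4189 F3114 F3113 (iv D3089)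
def n4190 : Q := act 3 n2049
theorem D4190 : act 3 n2049 = n4190 := rfl
theorem F3145 : act 1 n4190 = n2050 := d5_1 D4190 (iv D2050) D2049
def n4191 : Q := act 4 n2049
theorem D4191 : act 4 n2049 = n4191 := rfl
theorem F3146 : act 1 n4191 = n2051 := d6_1 D4191 (iv D2051) D2049
def n4192 : Q := act 0 n2050
theorem D4192 : act 0 n2050 = n4192 := rfl
def n4193 : Q := act 4 n2050
theorem D4193 : act 4 n2050 = n4193 := rfl
def n4194 : Q := act 2 n2051
theorem D4194 : act 2 n2051 = n4194 := rfl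
def n4195 : Q := act 3 n2051
theorem D4195 : act 3 n2051 = n4195 := rfl
def n4196 : Q := act 1 n2052
theorem D4196 : act 1 n2052 = n4196 := rfl
theorem F3147 : act 0 n4196 = n4161 := d0_1 D4196 (iv D4161) (iv D2035) F457 (iv F160) (iv F460) D2052
def n4197 : Q := act 2 n2052
theorem D4197 : act 2 n2052 = n4197 := rfl
def n4198 : Q := act 3 n2052
theorem D4198 : act 3 n2052 = n4198 := rfl
def n4199 : Q := act 4 n2052
theorem D4199 : act 4 n2052 = n4199 := rfl
theorem F3148 : act 0 n4199 = n2053 := d3_1 D4199 (iv D2053) D2052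
def n4200 : Q := act 2 n2053
theorem D4200 : act 2 n2053 = n4200 := rfl
theorem F3149 : act 3 n4200 = n2226 := d7_2 (iv F2073) D4200 (iv D2226)
def n4201 : Q := act 0 n2054
theorem D4201 : act 0 n2054 = n4201 := rfl
def n4202 : Q := act 1 n2054
theorem D4202 : act 1 n2054 = n4202 := rfl
def n4203 : Q := act 3 n2054
theorem D4203 : act 3 n2054 = n4203 := rfl
theorem F3150 : act 2 n4203 = n2055 := d7_1 D4203 (iv D2055) D2054
def n4204 : Q := act 4 n2054
theorem D4204 : act 4 n2054 = n4204 := rfl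
def n4205 : Q := act 0 n2055
theorem D4205 : act 0 n2055 = n4205 := rfl
theorem F3151 : act 4 n4205 = n2224 := d3_2 (iv F2055) D4205 (iv D2224)
def n4207 : Q := act 4 n2056
theorem D4207 : act 4 n2056 = n4207 := rfl
theorem F3154 : act 2 n4207 = n2288 := d8_1 D4207 (iv D2288) (iv F1083) (iv D1830) F400 D875 D2056
def n4208 : Q := act 0 n2059
theorem D4208 : act 0 n2059 = n4208 := rfl
theorem F3155 : act 2 n4208 = n4137 := d1_2 D2059 D4208 F3112 D4142 (iv F3132) (iv D4175) F1243
theorem F3156 : act 4 n4208 = n3299 := d3_2 (iv F1251) D4208 F2402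
theorem F3157 : act 0 n4153 = n3024 := d13_11 (iv D3024) D3023 F2109 D4208 F3155 F3112 (iv D2028) (iv D864) D865 D2032 D4153
theorem F3158 : act 1 n3065 = n3098 := d0_4 D4153 F3157 F2111 D3065 F2217 F1209 D2032
theorem F3159 : act 3 n3096 = n3065 := d5_0 F3158 (iv D3098) D3096
theorem F3160 : act 0 n4006 = n3096 := d10_7 F3159 (iv D3065) (iv D1390) D1389 D3063 F2140 D4006
def n4209 : Q := act 3 n2059
theorem D4209 : act 3 n2059 = n4209 := rfl
theorem F3161 : act 1 n4209 = n2378 := d5_1 D4209 (iv F2110) F2109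
theorem F3162 : act 2 n4209 = n2060 := d7_1 D4209 (iv D2060) D2059
theorem F3163 : act 4 n3635 = n4209 := d17_3 D738 (iv F1023) D3635 F3162 F1252 D2066 F1256 (iv D1113) (iv D450) D448 (iv F361) F360
def n4210 : Q := act 0 n2060
theorem D4210 : act 0 n2060 = n4210 := rfl
def n4211 : Q := act 4 n2060
theorem D4211 : act 4 n2060 = n4211 := rfl
theorem F3164 : act 1 n4211 = n2067 := d6_1 D4211 (iv D2067) (iv F1252)
theorem F3165 : act 2 n4211 = n3633 := d8_1 D4211 (iv D3633) F1022 D1734 D3635 F3163 F3162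
theorem F3166 : act 3 n2197 = n4211 := d5_0 F3164 F2084 (iv F1349)
def n4212 : Q := act 3 n2061
theorem D4212 : act 3 n2061 = n4212 := rfl
theorem F3167 : act 1 n4212 = n2069 := d5_1 D4212 (iv D2069) (iv F1253)
theorem F3168 : act 2 n4212 = n3634 := d7_1 D4212 (iv D3634) (iv F1254)
theorem F3169 : act 4 n4212 = n2196 := d9_2 D2061 D4212 (iv D2196) D2197 F3166 (iv D4211) (iv D2060)
def n4213 : Q := act 1 n2062
theorem D4213 : act 1 n2062 = n4213 := rfl
theorem F3170 : act 0 n4213 = n3374 := d13_3 D878 D2062 D4213 (iv D3374) F890 F324 (iv F130) F131 (iv D130) D131 D350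
theorem F3171 : act 2 n2424 = n4213 := d1_0 F3170 (iv D3374) F890 D1590 D3376 (iv F3007) F3005
def n4214 : Q := act 2 n2062
theorem D4214 : act 2 n2062 = n4214 := rfl
theorem F3172 : act 0 n4214 = n2071 := d1_1 D4214 (iv D2071) (iv D881) (iv D351) D350 D878 D2062
theorem F3173 : act 1 n4214 = n3060 := d4_1 D4214 (iv D3060) (iv D1387) (iv F563) (iv F1503) F3171 (iv D4213)
theorem F3174 : act 1 n4154 = n2071 := d14_10 F3173 (iv D3060) (iv D1387) (iv D573) D574 D1390 (iv F2111) (iv F3157) (iv D4153) D4154 (iv F3172)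
def n4215 : Q := act 3 n2062
theorem D4215 : act 3 n2062 = n4215 := rfl
theorem F3175 : act 0 n4215 = n2079 := d10_1 D4215 (iv D2079) (iv D884) (iv D352) D350 D878 D2062
def n4216 : Q := act 4 n2062
theorem D4216 : act 4 n2062 = n4216 := rfl
theorem F3176 : act 0 n4216 = n2065 := d3_1 D4216 (iv D2065) D2062
def n4217 : Q := act 0 n2063
theorem D4217 : act 0 n2063 = n4217 := rfl
def n4218 : Q := act 2 n2063
theorem D4218 : act 2 n2063 = n4218 := rfl
theorem F3177 : act 4 n4218 = n3644 := d17_9 (iv D1639) (iv F935) F936 D2424 F3171 (iv D4213) (iv D2062) D2063 D4218 (iv D3644) F1027 (iv F948)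
def n4219 : Q := act 3 n2063
theorem D4219 : act 3 n2063 = n4219 := rfl
theorem F3178 : act 1 n4219 = n2064 := d5_1 D4219 (iv D2064) D2063
def n4220 : Q := act 4 n2063
theorem D4220 : act 4 n2063 = n4220 := rfl
theorem F3179 : act 1 n4220 = n2065 := d6_1 D4220 (iv D2065) D2063
theorem F3180 : act 2 n4220 = n3641 := d8_1 D4220 (iv D3641) (iv D1738) D1740 D3644 (iv F3177) (iv D4218)
def n4221 : Q := act 0 n2064
theorem D4221 : act 0 n2064 = n4221 := rfl
def n4222 : Q := act 4 n2064
theorem D4222 : act 4 n2064 = n4222 := rfl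
def n4223 : Q := act 2 n2065
theorem D4223 : act 2 n2065 = n4223 := rfl
theorem F3181 : act 0 n4223 = n2076 := d11_3 D878 D2065 D4223 (iv D2076) (iv D883) (iv D351) D350
def n4224 : Q := act 3 n2065
theorem D4224 : act 3 n2065 = n4224 := rfl
def n4225 : Q := act 2 n2066
theorem D4225 : act 2 n2066 = n4225 := rfl
theorem F3182 : act 1 n4225 = n2574 := d4_1 D4225 (iv D2574) (iv D1123) (iv D455) (iv F213) D1113 (iv F1256)
theorem F3183 : act 0 n4225 = n2072 := d10_3 D879 D2066 D4225 (iv D2072) (iv D881) (iv D351) D350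
def n4226 : Q := act 3 n2066
theorem D4226 : act 3 n2066 = n4226 := rfl
theorem F3184 : act 0 n4226 = n2080 := d2_1 D4226 (iv D2080) (iv D884) (iv D352) D350 D879 D2066
theorem F3185 : act 1 n4226 = n2556 := d5_1 D4226 (iv D2556) (iv F1256)
theorem F3186 : act 4 n2173 = n4226 := d3_0 F3184 F2085 D2173
def n4227 : Q := act 4 n2066
theorem D4227 : act 4 n2066 = n4227 := rfl
theorem F3187 : act 0 n4227 = n2067 := d3_1 D4227 (iv D2067) D2066
theorem F3188 : act 1 n4227 = n2557 := d6_1 D4227 (iv D2557) (iv F1256)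
theorem F3189 : act 3 n4227 = n2166 := d12_2 (iv D4226) D4227 F1332 (iv F2076) (iv D2081) D2080 (iv F3184)
def n4228 : Q := act 2 n2067
theorem D4228 : act 2 n2067 = n4228 := rfl
theorem F3190 : act 3 n4228 = n2202 := d7_2 (iv F2084) D4228 (iv D2202)
def n4229 : Q := act 0 n2068
theorem D4229 : act 0 n2068 = n4229 := rfl
theorem F3191 : act 3 n4229 = n2169 := d10_4 F2051 (iv F464) D2068 D4229 (iv D2169) (iv D922) F168
def n4230 : Q := act 1 n2068
theorem D4230 : act 1 n2068 = n4230 := rfl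
def n4231 : Q := act 3 n2068
theorem D4231 : act 3 n2068 = n4231 := rfl
theorem F3192 : act 2 n4231 = n2069 := d7_1 D4231 (iv D2069) D2068
def n4232 : Q := act 4 n2068
theorem D4232 : act 4 n2068 = n4232 := rfl
def n4233 : Q := act 0 n2069
theorem D4233 : act 0 n2069 = n4233 := rfl
theorem F3193 : act 3 n4233 = n2173 := d2_2 D2069 D4233 (iv D2173) (iv D923) F168 F2051 (iv F464)
theorem F3194 : act 4 n4233 = n2165 := d3_2 (iv F2059) D4233 F1330
theorem F3195 : act 1 n2640 = n4233 := d6_3 F3194 F1331 D2640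
def n4234 : Q := act 0 n2070
theorem D4234 : act 0 n2070 = n4234 := rfl
theorem F3196 : act 1 n4234 = n4006 := d0_2 D2070 D4234 F3160 (iv D3096) (iv D1406) F284 D881
theorem F3197 : act 2 n2992 = n4234 := d4_0 F3196 (iv D4006) (iv D1941) (iv D825) (iv F273) D1348 D2992
def n4235 : Q := act 2 n2070
theorem D4235 : act 2 n2070 = n4235 := rfl
theorem F3198 : act 4 n4235 = n3659 := d17_3 (iv D2073) D2070 D4235 (iv D3659) (iv D1749) (iv D741) D742 D1753 (iv F2810) (iv D3102) F785 (iv F1257)
def n4236 : Q := act 3 n2070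
theorem D4236 : act 3 n2070 = n4236 := rfl
theorem F3199 : act 1 n4236 = n2072 := d5_1 D4236 (iv D2072) D2070
def n4237 : Q := act 4 n2070
theorem D4237 : act 4 n2070 = n4237 := rfl
theorem F3200 : act 1 n4237 = n2073 := d6_1 D4237 (iv D2073) D2070
def n4238 : Q := act 3 n2071
theorem D4238 : act 3 n2071 = n4238 := rfl
theorem F3201 : act 2 n4238 = n2072 := d7_1 D4238 (iv D2072) D2071
def n4239 : Q := act 4 n2071
theorem D4239 : act 4 n2071 = n4239 := rfl
theorem F3202 : act 2 n4239 = n2084 := d11_2 D2071 D4239 (iv D2084) (iv D886) (iv D353) D351 D881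
def n4240 : Q := act 4 n2072
theorem D4240 : act 4 n2072 = n4240 := rfl
def n4241 : Q := act 2 n2073
theorem D4241 : act 2 n2073 = n4241 := rfl
def n4242 : Q := act 3 n2073
theorem D4242 : act 3 n2073 = n4242 := rfl
def n4243 : Q := act 1 n2074
theorem D4243 : act 1 n2074 = n4243 := rfl
def n4244 : Q := act 2 n2074
theorem D4244 : act 2 n2074 = n4244 := rfl
def n4245 : Q := act 3 n2074
theorem D4245 : act 3 n2074 = n4245 := rfl
def n4246 : Q := act 4 n2074
theorem D4246 : act 4 n2074 = n4246 := rfl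
theorem F3203 : act 0 n4246 = n2075 := d3_1 D4246 (iv D2075) D2074
def n4247 : Q := act 2 n2075
theorem D4247 : act 2 n2075 = n4247 := rfl
def n4248 : Q := act 3 n2075
theorem D4248 : act 3 n2075 = n4248 := rfl
def n4249 : Q := act 1 n2076
theorem D4249 : act 1 n2076 = n4249 := rfl
def n4250 : Q := act 3 n2076
theorem D4250 : act 3 n2076 = n4250 := rfl
def n4251 : Q := act 4 n2076
theorem D4251 : act 4 n2076 = n4251 := rfl
theorem F3205 : act 2 n4251 = n2087 := d8_1 D4251 (iv D2087) (iv D886) (iv D353) D351 D883 D2076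
def n4254 : Q := act 0 n2078
theorem D4254 : act 0 n2078 = n4254 := rfl
theorem F3206 : act 1 n4254 = n2090 := d0_2 D2078 D4254 (iv D2090) (iv D888) (iv D354) (iv F162) D884
def n4255 : Q := act 2 n2078
theorem D4255 : act 2 n2078 = n4255 := rfl
def n4256 : Q := act 3 n2078
theorem D4256 : act 3 n2078 = n4256 := rfl
theorem F3207 : act 1 n4256 = n2080 := d5_1 D4256 (iv D2080) D2078
theorem F3208 : act 4 n2150 = n4256 := d6_0 F3207 F2085 (iv F1308)
def n4257 : Q := act 4 n2078
theorem D4257 : act 4 n2078 = n4257 := rfl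
theorem F3209 : act 1 n4257 = n2081 := d6_1 D4257 (iv D2081) D2078
theorem F3210 : act 3 n4257 = n2149 := d9_1 D4257 (iv D2149) (iv D914) D915 D2150 F3208 (iv D4256)
theorem F3211 : act 2 n3435 = n4257 := d7_3 F3210 F1327 D3435
def n4258 : Q := act 1 n2079
theorem D4258 : act 1 n2079 = n4258 := rfl
def n4259 : Q := act 3 n2079
theorem D4259 : act 3 n2079 = n4259 := rfl
theorem F3212 : act 2 n4259 = n2080 := d7_1 D4259 (iv D2080) D2079
def n4260 : Q := act 4 n2079
theorem D4260 : act 4 n2079 = n4260 := rfl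
def n4261 : Q := act 2 n2081
theorem D4261 : act 2 n2081 = n4261 := rfl
theorem F3213 : act 3 n4261 = n2167 := d7_2 (iv F2076) D4261 (iv D2167)
def n4262 : Q := act 0 n2082
theorem D4262 : act 0 n2082 = n4262 := rfl
def n4263 : Q := act 1 n2082
theorem D4263 : act 1 n2082 = n4263 := rfl
theorem F3214 : act 3 n4263 = n2205 := d5_2 (iv F2077) D4263 (iv D2205)
def n4264 : Q := act 4 n2082
theorem D4264 : act 4 n2082 = n4264 := rfl
def n4265 : Q := act 1 n2084
theorem D4265 : act 1 n2084 = n4265 := rfl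
def n4266 : Q := act 3 n2084
theorem D4266 : act 3 n2084 = n4266 := rfl
def n4267 : Q := act 4 n2084
theorem D4267 : act 4 n2084 = n4267 := rfl
theorem F3215 : act 0 n4267 = n2087 := d3_1 D4267 (iv D2087) D2084
def n4268 : Q := act 3 n2087
theorem D4268 : act 3 n2087 = n4268 := rfl
def n4269 : Q := act 2 n2090
theorem D4269 : act 2 n2090 = n4269 := rfl
theorem F3216 : act 0 n4269 = n2595 := d10_3 (iv F468) D2090 D4269 F1701 D3059 F2139 (iv D2025)
def n4270 : Q := act 3 n2090
theorem D4270 : act 3 n2090 = n4270 := rfl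
theorem F3217 : act 4 n4270 = n2117 := d12_1 D4270 (iv D2117) F475 D908 (iv F2067) (iv F468) D2090
def n4271 : Q := act 4 n2090
theorem D4271 : act 4 n2090 = n4271 := rfl
theorem F3218 : act 0 n4271 = n2092 := d3_1 D4271 (iv D2092) D2090
theorem F3219 : act 3 n4271 = n2115 := d9_1 D4271 (iv D2115) (iv D899) D900 D2117 (iv F3217) (iv D4270)
def n4272 : Q := act 0 n2091
theorem D4272 : act 0 n2091 = n4272 := rfl
def n4273 : Q := act 1 n2091
theorem D4273 : act 1 n2091 = n4273 := rfl
theorem F3220 : act 3 n4273 = n4140 := d5_2 (iv F1262) D4273 (iv D4140)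
def n4274 : Q := act 4 n2091
theorem D4274 : act 4 n2091 = n4274 := rfl
def n4275 : Q := act 2 n2092
theorem D4275 : act 2 n2092 = n4275 := rfl
theorem F3221 : act 3 n4275 = n2132 := d7_2 (iv F2080) D4275 (iv D2132)
def n4277 : Q := act 4 n2093
theorem D4277 : act 4 n2093 = n4277 := rfl
theorem F3224 : act 2 n4277 = n2103 := d8_1 D4277 (iv D2103) (iv F896) (iv D1596) F326 D889 D2093
def n4296 : Q := act 3 n2108
theorem D4296 : act 3 n2108 = n4296 := rfl
theorem F3234 : act 1 n4296 = n3115 := d5_1 D4296 (iv D3115) (iv F1277)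
theorem F3235 : act 2 n4296 = n2109 := d7_1 D4296 (iv D2109) D2108
def n4297 : Q := act 0 n2109
theorem D4297 : act 0 n2109 = n4297 := rfl
def n4298 : Q := act 4 n2109
theorem D4298 : act 4 n2109 = n4298 := rfl
theorem F3236 : act 1 n4298 = n2115 := d6_1 D4298 (iv D2115) (iv F1281)
def n4299 : Q := act 3 n2110
theorem D4299 : act 3 n2110 = n4299 := rfl
theorem F3237 : act 1 n4299 = n2117 := d5_1 D4299 (iv D2117) (iv F1283)
theorem F3238 : act 2 n4299 = n3215 := d7_1 D4299 (iv D3215) (iv F1284)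
def n4300 : Q := act 3 n2111
theorem D4300 : act 3 n2111 = n4300 := rfl
theorem F3239 : act 1 n4300 = n2112 := d5_1 D4300 (iv D2112) D2111
theorem F3240 : act 2 n4300 = n3114 := d7_1 D4300 (iv D3114) (iv F1286)
def n4301 : Q := act 0 n2112
theorem D4301 : act 0 n2112 = n4301 := rfl
def n4302 : Q := act 4 n2112
theorem D4302 : act 4 n2112 = n4302 := rfl
def n4303 : Q := act 2 n2113
theorem D4303 : act 2 n2113 = n4303 := rfl
theorem F3241 : act 0 n4303 = n2126 := d1_1 D4303 (iv D2126) (iv F1292) F2364 F2363 (iv D2604) (iv F1288)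
def n4304 : Q := act 3 n2113
theorem D4304 : act 3 n2113 = n4304 := rfl
def n4305 : Q := act 1 n2114
theorem D4305 : act 1 n2114 = n4305 := rfl
def n4306 : Q := act 2 n2114
theorem D4306 : act 2 n2114 = n4306 := rfl
theorem F3242 : act 0 n4306 = n2120 := d10_3 D899 D2114 D4306 (iv D2120) (iv D901) (iv D359) D358
def n4307 : Q := act 3 n2114
theorem D4307 : act 3 n2114 = n4307 := rfl
theorem F3243 : act 0 n4307 = n2130 := d2_1 D4307 (iv D2130) (iv D905) (iv D360) D358 D899 D2114
def n4308 : Q := act 4 n2114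
theorem D4308 : act 4 n2114 = n4308 := rfl
theorem F3244 : act 0 n4308 = n2115 := d3_1 D4308 (iv D2115) D2114
def n4309 : Q := act 2 n2115
theorem D4309 : act 2 n2115 = n4309 := rfl
def n4310 : Q := act 0 n2116
theorem D4310 : act 0 n2116 = n4310 := rfl
theorem F3245 : act 2 n4310 = n2602 := d11_4 (iv D898) D900 D2116 D4310 (iv D2602) (iv D1138) (iv F474)
theorem F3246 : act 1 n4310 = n3885 := d13_2 D2116 D4310 (iv D3885) (iv D1869) F422 F140 F46 F47 (iv F59) (iv F167) (iv F475)
def n4311 : Q := act 1 n2116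
theorem D4311 : act 1 n2116 = n4311 := rfl
def n4312 : Q := act 3 n2116
theorem D4312 : act 3 n2116 = n4312 := rfl
theorem F3247 : act 2 n4312 = n2117 := d7_1 D4312 (iv D2117) D2116
def n4313 : Q := act 4 n2116
theorem D4313 : act 4 n2116 = n4313 := rfl
def n4314 : Q := act 0 n2117
theorem D4314 : act 0 n2117 = n4314 := rfl
def n4315 : Q := act 3 n2118
theorem D4315 : act 3 n2118 = n4315 := rfl
theorem F3248 : act 1 n4315 = n2120 := d5_1 D4315 (iv D2120) D2118
theorem F3249 : act 2 n4315 = n3121 := d7_1 D4315 (iv D3121) (iv F1289)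
def n4316 : Q := act 4 n2118
theorem D4316 : act 4 n2118 = n4316 := rfl
theorem F3250 : act 1 n4316 = n2121 := d6_1 D4316 (iv D2121) D2118
theorem F3251 : act 2 n4316 = n2706 := d11_2 (iv F1289) D4316 (iv F1831) (iv D1432) (iv D592) D590 D1426
def n4317 : Q := act 3 n2119
theorem D4317 : act 3 n2119 = n4317 := rfl
theorem F3252 : act 1 n4317 = n4317 := d5_1 D4317 (iv D4317) F1291
theorem F3253 : act 2 n4317 = n2120 := d7_1 D4317 (iv D2120) D2119
def n4318 : Q := act 4 n2119
theorem D4318 : act 4 n2119 = n4318 := rfl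
theorem F3254 : act 0 n4318 = n2602 := d3_1 D4318 (iv D2602) (iv F1290)
theorem F3255 : act 1 n4318 = n4318 := d6_1 D4318 (iv D4318) F1291
theorem F3256 : act 2 n4318 = n2134 := d11_2 D2119 D4318 (iv D2134) (iv D907) (iv D361) D359 D901
def n4319 : Q := act 4 n2120
theorem D4319 : act 4 n2120 = n4319 := rfl
def n4320 : Q := act 3 n2121
theorem D4320 : act 3 n2121 = n4320 := rfl
def n4321 : Q := act 4 n2122
theorem D4321 : act 4 n2122 = n4321 := rfl
theorem F3257 : act 1 n4321 = n2125 := d6_1 D4321 (iv D2125) (iv F1293)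
def n4322 : Q := act 3 n2123
theorem D4322 : act 3 n2123 = n4322 := rfl
theorem F3258 : act 1 n4322 = n2127 := d5_1 D4322 (iv D2127) (iv F1294)
def n4323 : Q := act 1 n2124
theorem D4323 : act 1 n2124 = n4323 := rfl
theorem F3259 : act 2 n4323 = n3180 := d15_6 D1456 (iv F2246) F2245 F1293 D2124 D4323 (iv D3180) (iv D1468) (iv D606) (iv D235) (iv F102) D602
def n4324 : Q := act 2 n2124
theorem D4324 : act 2 n2124 = n4324 := rfl
theorem F3260 : act 0 n4324 = n2601 := d1_1 D4324 F1708 (iv F1295) (iv D2129) (iv D905) (iv F476) D2124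
def n4325 : Q := act 3 n2124
theorem D4325 : act 3 n2124 = n4325 := rfl
def n4326 : Q := act 4 n2124
theorem D4326 : act 4 n2124 = n4326 := rfl
theorem F3261 : act 0 n4326 = n2125 := d3_1 D4326 (iv D2125) D2124
def n4327 : Q := act 2 n2125
theorem D4327 : act 2 n2125 = n4327 := rfl
def n4328 : Q := act 3 n2125
theorem D4328 : act 3 n2125 = n4328 := rfl
def n4329 : Q := act 3 n2126
theorem D4329 : act 3 n2126 = n4329 := rfl
theorem F3262 : act 1 n4329 = n2946 := d5_1 D4329 (iv D2946) (iv F1364)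
theorem F3263 : act 2 n4329 = n2127 := d7_1 D4329 (iv D2127) D2126
def n4330 : Q := act 4 n2126
theorem D4330 : act 4 n2126 = n4330 := rfl
theorem F3264 : act 1 n4330 = n2947 := d6_1 D4330 (iv D2947) (iv F1364)
theorem F3265 : act 2 n4330 = n2137 := d8_1 D4330 (iv D2137) (iv D907) (iv D361) D359 D904 D2126
def n4331 : Q := act 0 n2127
theorem D4331 : act 0 n2127 = n4331 := rfl
def n4332 : Q := act 4 n2127
theorem D4332 : act 4 n2127 = n4332 := rfl
def n4333 : Q := act 2 n2128
theorem D4333 : act 2 n2128 = n4333 := rfl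
theorem F3266 : act 0 n4333 = n2195 := d15_1 D4333 (iv D2195) (iv D932) (iv D371) F60 F20 D51 D146 D386 D968 D2269 F1397
def n4334 : Q := act 3 n2128
theorem D4334 : act 3 n2128 = n4334 := rfl
theorem F3267 : act 1 n4334 = n2130 := d5_1 D4334 (iv D2130) D2128
def n4335 : Q := act 4 n2128
theorem D4335 : act 4 n2128 = n4335 := rfl
theorem F3268 : act 1 n4335 = n2131 := d6_1 D4335 (iv D2131) D2128
def n4336 : Q := act 1 n2129
theorem D4336 : act 1 n2129 = n4336 := rfl
theorem F3269 : act 0 n4336 = n3204 := d0_1 D4336 (iv D3204) (iv D1491) (iv D617) (iv F223) (iv F632) (iv F1295)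
def n4337 : Q := act 3 n2129
theorem D4337 : act 3 n2129 = n4337 := rfl
theorem F3270 : act 2 n4337 = n2130 := d7_1 D4337 (iv D2130) D2129
def n4338 : Q := act 4 n2129
theorem D4338 : act 4 n2129 = n4338 := rfl
theorem F3271 : act 0 n4338 = n2603 := d3_1 D4338 (iv D2603) (iv F1295)
def n4339 : Q := act 4 n2130
theorem D4339 : act 4 n2130 = n4339 := rfl
theorem F3272 : act 3 n4339 = n2138 := d12_2 D2130 D4339 (iv D2138) (iv D908) (iv D361) D360 D905
def n4340 : Q := act 2 n2131
theorem D4340 : act 2 n2131 = n4340 := rfl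
def n4341 : Q := act 3 n2131
theorem D4341 : act 3 n2131 = n4341 := rfl
theorem F3273 : act 4 n4341 = n4138 := d9_2 D2131 D4341 (iv D4138) (iv F2086) (iv F3272) (iv D4339) (iv D2130)
def n4342 : Q := act 0 n2132
theorem D4342 : act 0 n2132 = n4342 := rfl
def n4343 : Q := act 1 n2132
theorem D4343 : act 1 n2132 = n4343 := rfl
def n4344 : Q := act 4 n2132
theorem D4344 : act 4 n2132 = n4344 := rfl
def n4345 : Q := act 3 n2134
theorem D4345 : act 3 n2134 = n4345 := rfl
def n4346 : Q := act 4 n2134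
theorem D4346 : act 4 n2134 = n4346 := rfl
theorem F3274 : act 0 n4346 = n2137 := d3_1 D4346 (iv D2137) D2134
def n4347 : Q := act 3 n2135
theorem D4347 : act 3 n2135 = n4347 := rfl
theorem F3275 : act 1 n4347 = n2136 := d5_1 D4347 (iv D2136) D2135
def n4348 : Q := act 0 n2136
theorem D4348 : act 0 n2136 = n4348 := rfl
def n4349 : Q := act 4 n2136
theorem D4349 : act 4 n2136 = n4349 := rfl
def n4350 : Q := act 3 n2137
theorem D4350 : act 3 n2137 = n4350 := rfl
def n4351 : Q := act 1 n2138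
theorem D4351 : act 1 n2138 = n4351 := rfl
theorem F3276 : act 0 n4351 = n4144 := d0_1 D4351 F3117 F1237 F458 (iv F2047) (iv F478) D2138
theorem F3277 : act 4 n4351 = n4137 := d6_2 (iv F2086) D4351 (iv D4137)
theorem F3278 : act 2 n4351 = n3297 := d15_6 (iv F406) F405 F2052 (iv F478) D2138 D4351 F2398 (iv F1254) F1253 F464 F163 (iv F161)
def n4352 : Q := act 2 n2138
theorem D4352 : act 2 n2138 = n4352 := rfl
def n4357 : Q := act 0 n2147
theorem D4357 : act 0 n2147 = n4357 := rfl
theorem F3282 : act 4 n4357 = n3441 := d3_2 F1326 D4357 F2493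
theorem F3283 : act 2 n4357 = n2148 := d10_2 D2147 D4357 (iv D2148) (iv D914) (iv F473) D2108 F1278
def n4358 : Q := act 1 n2148
theorem D4358 : act 1 n2148 = n4358 := rfl
def n4359 : Q := act 3 n2148
theorem D4359 : act 3 n2148 = n4359 := rfl
def n4360 : Q := act 4 n2148
theorem D4360 : act 4 n2148 = n4360 := rfl
theorem F3284 : act 0 n4360 = n2149 := d3_1 D4360 (iv D2149) D2148
theorem F3285 : act 2 n4360 = n3434 := d8_1 D4360 (iv D3434) F914 D1628 D3441 (iv F3282) F3283
def n4361 : Q := act 0 n2150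
theorem D4361 : act 0 n2150 = n4361 := rfl
theorem F3286 : act 2 n4361 = n3436 := d10_2 D2150 D4361 (iv D3436) (iv D1625) (iv F832) (iv F1284) F1282
def n4362 : Q := act 3 n2151
theorem D4362 : act 3 n2151 = n4362 := rfl
theorem F3287 : act 1 n4362 = n2153 := d5_1 D4362 (iv D2153) D2151
theorem F3288 : act 2 n4362 = n2425 := d7_1 D4362 (iv D2425) F1311
theorem F3289 : act 0 n4362 = n3384 := d10_1 D4362 (iv D3384) (iv D1594) (iv D666) (iv F322) D1581 (iv F1310)
theorem F3290 : act 0 n3187 = n2229 := d15_7 D3384 (iv F3289) F3288 F1504 F565 D1471 D3187 (iv D2229) (iv D948) F172 (iv F325) D1594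
def n4363 : Q := act 4 n2151
theorem D4363 : act 4 n2151 = n4363 := rfl
theorem F3291 : act 0 n4363 = n3357 := d3_1 D4363 (iv D3357) (iv F1310)
theorem F3292 : act 1 n4363 = n2154 := d6_1 D4363 (iv D2154) D2151
def n4364 : Q := act 3 n2152
theorem D4364 : act 3 n2152 = n4364 := rfl
theorem F3293 : act 1 n4364 = n2601 := d5_1 D4364 (iv D2601) (iv F1313)
theorem F3294 : act 2 n4364 = n2153 := d7_1 D4364 (iv D2153) D2152
theorem F3295 : act 0 n4364 = n2184 := d10_1 D4364 (iv D2184) (iv D928) (iv D369) D368 D925 (iv F1312)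
def n4365 : Q := act 4 n2152
theorem D4365 : act 4 n2152 = n4365 := rfl
theorem F3296 : act 0 n4365 = n2179 := d3_1 D4365 (iv D2179) (iv F1312)
theorem F3297 : act 1 n4365 = n2602 := d6_1 D4365 (iv D2602) (iv F1313)
theorem F3298 : act 2 n4365 = n2169 := d11_2 D2152 D4365 (iv D2169) (iv D922) (iv D367) D365 D916
def n4366 : Q := act 4 n2153
theorem D4366 : act 4 n2153 = n4366 := rfl
theorem F3299 : act 0 n4366 = n2200 := d3_1 D4366 (iv D2200) (iv F1315)
def n4367 : Q := act 3 n2154
theorem D4367 : act 3 n2154 = n4367 := rfl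
def n4368 : Q := act 3 n2155
theorem D4368 : act 3 n2155 = n4368 := rfl
theorem F3300 : act 1 n4368 = n2609 := d5_1 D4368 (iv D2609) (iv F1318)
theorem F3301 : act 2 n4368 = n4368 := d7_1 D4368 (iv D4368) F1317
def n4369 : Q := act 3 n2156
theorem D4369 : act 3 n2156 = n4369 := rfl
theorem F3302 : act 2 n4369 = n2157 := d7_1 D4369 (iv D2157) D2156
def n4370 : Q := act 0 n2157
theorem D4370 : act 0 n2157 = n4370 := rfl
theorem F3303 : act 2 n4370 = n4370 := d10_2 D2157 D4370 (iv D4370) (iv D2157) D2155 F1317 (iv D2155)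
def n4371 : Q := act 4 n2157
theorem D4371 : act 4 n2157 = n4371 := rfl
theorem F3304 : act 1 n4371 = n2160 := d6_1 D4371 (iv D2160) (iv F1321)
def n4372 : Q := act 3 n2158
theorem D4372 : act 3 n2158 = n4372 := rfl
theorem F3305 : act 1 n4372 = n2162 := d5_1 D4372 (iv D2162) (iv F1322)
theorem F3306 : act 2 n4372 = n3471 := d7_1 D4372 (iv D3471) (iv F1323)
def n4373 : Q := act 1 n2159
theorem D4373 : act 1 n2159 = n4373 := rfl
def n4374 : Q := act 2 n2159
theorem D4374 : act 2 n2159 = n4374 := rfl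
theorem F3307 : act 0 n4374 = n2178 := d1_1 D4374 F1341 (iv F1329) (iv D2164) (iv D920) (iv F486) D2159
def n4375 : Q := act 3 n2159
theorem D4375 : act 3 n2159 = n4375 := rfl
theorem F3308 : act 0 n4375 = n2199 := d2_1 D4375 (iv D2199) (iv F1315) (iv D2153) (iv D916) D918 D2159
def n4376 : Q := act 4 n2159
theorem D4376 : act 4 n2159 = n4376 := rfl
theorem F3309 : act 0 n4376 = n2160 := d3_1 D4376 (iv D2160) D2159
def n4377 : Q := act 2 n2160
theorem D4377 : act 2 n2160 = n4377 := rfl
def n4378 : Q := act 3 n2160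
theorem D4378 : act 3 n2160 = n4378 := rfl
def n4379 : Q := act 1 n2161
theorem D4379 : act 1 n2161 = n4379 := rfl
def n4380 : Q := act 3 n2161
theorem D4380 : act 3 n2161 = n4380 := rfl
theorem F3310 : act 2 n4380 = n2162 := d7_1 D4380 (iv D2162) D2161
def n4381 : Q := act 0 n2162
theorem D4381 : act 0 n2162 = n4381 := rfl
def n4382 : Q := act 4 n2162
theorem D4382 : act 4 n2162 = n4382 := rfl
def n4383 : Q := act 0 n2163
theorem D4383 : act 0 n2163 = n4383 := rfl
def n4384 : Q := act 4 n2163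
theorem D4384 : act 4 n2163 = n4384 := rfl
theorem F3311 : act 1 n4384 = n2166 := d6_1 D4384 (iv D2166) D2163
theorem F3312 : act 3 n2557 = n4384 := d5_0 F3311 (iv F3189) F3188
def n4385 : Q := act 1 n2164
theorem D4385 : act 1 n2164 = n4385 := rfl
theorem F3313 : act 2 n4385 = n2570 := d4_2 D2164 D4385 (iv D2570) (iv D1121) (iv F610) (iv F1325) (iv D2163)
theorem F3314 : act 3 n2643 = n4385 := d7_0 F3313 F1679 D2643
def n4386 : Q := act 3 n2164
theorem D4386 : act 3 n2164 = n4386 := rfl
theorem F3315 : act 0 n4386 = n2185 := d2_1 D4386 (iv D2185) (iv D928) (iv D369) D368 D926 (iv F1329)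
theorem F3316 : act 1 n4386 = n2643 := d5_1 D4386 F3314 (iv D4385)
theorem F3317 : act 2 n4386 = n2165 := d7_1 D4386 (iv D2165) D2164
def n4387 : Q := act 4 n2164
theorem D4387 : act 4 n2164 = n4387 := rfl
theorem F3318 : act 0 n4387 = n2180 := d3_1 D4387 (iv D2180) (iv F1329)
def n4388 : Q := act 2 n2166
theorem D4388 : act 2 n2166 = n4388 := rfl
def n4389 : Q := act 0 n2167
theorem D4389 : act 0 n2167 = n4389 := rfl
def n4390 : Q := act 1 n2167
theorem D4390 : act 1 n2167 = n4390 := rfl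
def n4391 : Q := act 4 n2167
theorem D4391 : act 4 n2167 = n4391 := rfl
def n4392 : Q := act 1 n2169
theorem D4392 : act 1 n2169 = n4392 := rfl
theorem F3319 : act 0 n4392 = n3406 := d13_3 D922 D2169 D4392 (iv D3406) F907 F333 F116 F117 F59 (iv F61) (iv F168)
def n4393 : Q := act 4 n2169
theorem D4393 : act 4 n2169 = n4393 := rfl
theorem F3320 : act 0 n4393 = n2172 := d3_1 D4393 (iv D2172) D2169
theorem F3321 : act 2 n4393 = n2419 := d8_1 D4393 (iv F2633) F2632 (iv D2154) D2152 D4365 F3298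
theorem F3322 : act 1 n2432 = n4393 := d4_7 F3321 (iv D2419) (iv D1040) F193 D423 D1048 D2432
theorem F3323 : act 4 n4392 = n2432 := d6_0 F3322 (iv D4393) D4392
def n4394 : Q := act 0 n2170
theorem D4394 : act 0 n2170 = n4394 := rfl
theorem F3324 : act 2 n4394 = n4394 := d13_4 F3298 (iv D2169) D2170 D4394 (iv D4394) (iv D2170) D2169 (iv F3298) F3296 F1342 (iv F3296)
def n4395 : Q := act 2 n2170
theorem D4395 : act 2 n2170 = n4395 := rfl
theorem F3325 : act 1 n4395 = n2316 := d4_1 D4395 (iv D2316) F526 (iv F485) F484 D922 D2170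
theorem F3326 : act 4 n4395 = n2791 := d17_3 (iv D2172) D2170 D4395 (iv F2471) F984 (iv F981) (iv F2469) (iv D2742) F672 D2432 F3322 F3320
theorem F3327 : act 0 n2794 = n4395 := d15_7 (iv D3406) F907 D1613 F1862 F1860 (iv F1866) F1867 (iv D4395) (iv D2170) D2169 D4392 F3319
def n4396 : Q := act 3 n2170
theorem D4396 : act 3 n2170 = n4396 := rfl
theorem F3328 : act 1 n4396 = n2171 := d5_1 D4396 (iv D2171) D2170
def n4397 : Q := act 4 n2170
theorem D4397 : act 4 n2170 = n4397 := rfl
theorem F3329 : act 1 n4397 = n2172 := d6_1 D4397 (iv D2172) D2170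
theorem F3330 : act 2 n4397 = n3534 := d8_1 D4397 (iv D3534) (iv D1678) D1680 F2471 (iv F3326) (iv D4395)
def n4398 : Q := act 0 n2171
theorem D4398 : act 0 n2171 = n4398 := rfl
def n4399 : Q := act 4 n2171
theorem D4399 : act 4 n2171 = n4399 := rfl
def n4400 : Q := act 3 n2172
theorem D4400 : act 3 n2172 = n4400 := rfl
def n4401 : Q := act 1 n2173
theorem D4401 : act 1 n2173 = n4401 := rfl
theorem F3331 : act 3 n4401 = n2640 := d5_2 F3193 D4401 F3195
theorem F3332 : act 4 n4401 = n2556 := d6_2 (iv F3186) D4401 (iv F3185)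
def n4402 : Q := act 2 n2173
theorem D4402 : act 2 n2173 = n4402 := rfl
theorem F3333 : act 0 n4402 = n2210 := d10_3 D923 D2173 D4402 (iv D2210) (iv D938) (iv D373) (iv F168)
def n4403 : Q := act 3 n2175
theorem D4403 : act 3 n2175 = n4403 := rfl
theorem F3334 : act 1 n4403 = n4403 := d5_1 D4403 (iv D4403) F1335
theorem F3335 : act 2 n4403 = n2176 := d7_1 D4403 (iv D2176) D2175
def n4404 : Q := act 0 n2176
theorem D4404 : act 0 n2176 = n4404 := rfl
theorem F3336 : act 2 n4404 = n3018 := d10_2 D2176 D4404 F2106 (iv D2392) (iv D1026) D1027 (iv F1279)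
theorem F3337 : act 3 n4404 = n3197 := d16_2 D2176 D4404 F2306 (iv D1492) (iv D617) (iv F223) (iv D463) (iv D175) D176 D466 (iv F551) (iv F1279)
theorem F3338 : act 1 n4404 = n3057 := d16_9 (iv D1156) (iv D469) (iv D177) D176 D466 (iv F551) (iv F1279) D2176 D4404 (iv D3057) (iv D1385) (iv F641)
def n4405 : Q := act 4 n2176
theorem D4405 : act 4 n2176 = n4405 := rfl
theorem F3339 : act 1 n4405 = n2180 := d6_1 D4405 (iv D2180) (iv F1338)
def n4406 : Q := act 3 n2177
theorem D4406 : act 3 n2177 = n4406 := rfl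
theorem F3340 : act 1 n4406 = n2182 := d5_1 D4406 (iv D2182) (iv F1339)
def n4407 : Q := act 4 n2178
theorem D4407 : act 4 n2178 = n4407 := rfl
theorem F3341 : act 1 n4407 = n4407 := d6_1 D4407 (iv D4407) F1340
def n4408 : Q := act 3 n2179
theorem D4408 : act 3 n2179 = n4408 := rfl
theorem F3342 : act 1 n4408 = n4408 := d5_1 D4408 (iv D4408) F1342
theorem F3343 : act 2 n4408 = n2210 := d7_1 D4408 (iv D2210) (iv F1343)
def n4409 : Q := act 2 n2180
theorem D4409 : act 2 n2180 = n4409 := rfl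
def n4410 : Q := act 3 n2180
theorem D4410 : act 3 n2180 = n4410 := rfl
theorem F3344 : act 0 n4410 = n2188 := d12_3 D926 D2180 D4410 (iv D2188) (iv D929) (iv D369) D368
def n4411 : Q := act 0 n2182
theorem D4411 : act 0 n2182 = n4411 := rfl
def n4412 : Q := act 4 n2182
theorem D4412 : act 4 n2182 = n4412 := rfl
def n4413 : Q := act 0 n2183
theorem D4413 : act 0 n2183 = n4413 := rfl
def n4414 : Q := act 2 n2183
theorem D4414 : act 2 n2183 = n4414 := rfl
def n4415 : Q := act 3 n2183
theorem D4415 : act 3 n2183 = n4415 := rfl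
theorem F3345 : act 1 n4415 = n2185 := d5_1 D4415 (iv D2185) D2183
def n4416 : Q := act 4 n2183
theorem D4416 : act 4 n2183 = n4416 := rfl
theorem F3346 : act 1 n4416 = n2186 := d6_1 D4416 (iv D2186) D2183
def n4417 : Q := act 1 n2184
theorem D4417 : act 1 n2184 = n4417 := rfl
theorem F3347 : act 2 n4417 = n2273 := d15_6 D2129 F1295 (iv F1708) (iv F3293) F3295 D4417 (iv D2273) (iv D969) (iv D386) F62 (iv F166) D905
def n4418 : Q := act 3 n2184
theorem D4418 : act 3 n2184 = n4418 := rfl
theorem F3348 : act 2 n4418 = n2185 := d7_1 D4418 (iv D2185) D2184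
def n4419 : Q := act 4 n2184
theorem D4419 : act 4 n2184 = n4419 := rfl
theorem F3349 : act 2 n4419 = n2204 := d11_2 D2184 D4419 (iv D2204) (iv D936) (iv D372) (iv F169) D928
def n4420 : Q := act 4 n2185
theorem D4420 : act 4 n2185 = n4420 := rfl
theorem F3350 : act 3 n4420 = n2192 := d12_2 D2185 D4420 (iv D2192) (iv D931) (iv D370) D369 D928
def n4421 : Q := act 2 n2186
theorem D4421 : act 2 n2186 = n4421 := rfl
def n4422 : Q := act 3 n2186
theorem D4422 : act 3 n2186 = n4422 := rfl
def n4423 : Q := act 0 n2187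
theorem D4423 : act 0 n2187 = n4423 := rfl
theorem F3351 : act 2 n4423 = n2200 := d11_4 (iv F169) D929 D2187 D4423 (iv D2200) (iv D933) (iv D371)
def n4424 : Q := act 1 n2187
theorem D4424 : act 1 n2187 = n4424 := rfl
def n4425 : Q := act 3 n2187
theorem D4425 : act 3 n2187 = n4425 := rfl
theorem F3352 : act 2 n4425 = n2188 := d7_1 D4425 (iv D2188) D2187
def n4426 : Q := act 4 n2187
theorem D4426 : act 4 n2187 = n4426 := rfl
theorem F3353 : act 2 n4426 = n2207 := d8_1 D4426 (iv D2207) (iv D936) (iv D372) (iv F169) D929 D2187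
def n4427 : Q := act 4 n2188
theorem D4427 : act 4 n2188 = n4427 := rfl
theorem F3354 : act 3 n4427 = n2193 := d9_1 D4427 (iv D2193) (iv D931) (iv D370) D369 D929 D2188
def n4432 : Q := act 4 n2192
theorem D4432 : act 4 n2192 = n4432 := rfl
theorem F3355 : act 0 n4432 = n2193 := d3_1 D4432 (iv D2193) D2192
def n4434 : Q := act 2 n2194
theorem D4434 : act 2 n2194 = n4434 := rfl
def n4435 : Q := act 3 n2194
theorem D4435 : act 3 n2194 = n4435 := rfl
theorem F3356 : act 1 n4435 = n2218 := d5_1 D4435 (iv D2218) (iv F1347)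
def n4436 : Q := act 4 n2194
theorem D4436 : act 4 n2194 = n4436 := rfl
theorem F3357 : act 0 n4436 = n2197 := d3_1 D4436 (iv D2197) D2194
theorem F3358 : act 1 n4436 = n2219 := d6_1 D4436 (iv D2219) (iv F1347)
def n4437 : Q := act 3 n2195
theorem D4437 : act 3 n2195 = n4437 := rfl
theorem F3359 : act 1 n4437 = n2395 := d5_1 D4437 (iv F2304) F2305
theorem F3360 : act 2 n4437 = n2196 := d7_1 D4437 (iv D2196) D2195
theorem E365 : n2351 = n415 := (c17_3 D2330 F1439 D2351 (iv D415) (iv F190) (iv F552) D2395 (iv F3359) F3360 (iv F3169) F3168 F2686 (iv D2329))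
theorem E366 : n1036 = n1007 := ((D1036).symm.trans (sb E365 (iv D2351)))
theorem F3361 : act 2 n1007 = n415 := (sb E366 (iv D1036))
theorem E369 : n2385 = n2345 := ((((iv F1452)).symm.trans (sb E366 (iv F1482)))).symm
theorem F3362 : act 2 n2345 = n1022 := (sb E369 (iv D2385))
theorem E371 : n2402 = n2347 := (c17_3 D2396 F1492 D2402 (iv D2347) F535 (iv F532) D2329 (iv F2686) (iv F3168) F3169 (iv F3360) F3359 (iv D2395))
theorem F3363 : act 2 n2347 = n1031 := (sb E371 (iv D2402))
theorem F3364 : act 2 n2383 = n3858 := d7_3 F2885 F3363 (iv F1665)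
theorem E372 : n3867 = n461 := (c17_13 (iv D461) (iv F188) (iv F545) D2383 F3364 (iv D3858) (iv D1853) F412 F135 D312 D791 D1860 D3867)
theorem E373 : n1860 = n227 := (((F221).symm.trans (sb E372 (iv D3867)))).symm
theorem E374 : n791 = n134 := (((F98).symm.trans (sb E373 (iv D1860)))).symm
theorem E378 : n357 = n312 := ((D357).symm.trans (sb E374 (iv D791)))
theorem E379 : n323 = n52 := (((F58).symm.trans (sb E374 F417))).symm
theorem E384 : n894 = n672 := ((((iv F330)).symm.trans (sb E378 D894))).symm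
theorem E385 : n895 = n745 := ((((iv F382)).symm.trans (sb E378 D895))).symm
theorem F3365 : act 2 n312 = n134 := (sb E378 (iv D357))
theorem E386 : n148 = n119 := (((F138).symm.trans (sb E378 F165))).symm
theorem E387 : n896 = n114 := ((((iv D312)).symm.trans (sb E378 D896))).symm
theorem E388 : n816 = n147 := ((((iv F63)).symm.trans (sb E379 D816))).symm
theorem E402 : n1603 = n1596 := ((D1603).symm.trans (sb E384 (iv F896)))
theorem E403 : n972 = n266 := (((F331).symm.trans (sb E384 (iv F510)))).symm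
theorem E404 : n2103 = n261 := ((((iv D672)).symm.trans (sb E384 D2103))).symm
theorem E406 : n2105 = n1759 := (((D1759).symm.trans (sb E385 D2105))).symm
theorem E409 : n389 = n322 := ((((iv F144)).symm.trans (sb E386 D389))).symm
theorem F3366 : act 2 n119 = n52 := (sb E386 (iv D148))
theorem E410 : n391 = n40 := ((((iv D119)).symm.trans (sb E386 D391))).symm
theorem E411 : n2097 = n310 := ((((iv F135)).symm.trans (sb E387 (iv F1268)))).symm
theorem E414 : n680 = n388 := (((D388).symm.trans (sb E388 F434))).symm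
theorem F3367 : act 2 n1596 = n672 := (sb E402 (iv D1603))
theorem E426 : n681 = n668 := (((F895).symm.trans (sb E402 F903))).symm
theorem E428 : n2279 = n97 := ((((iv D266)).symm.trans (sb E403 D2279))).symm
theorem E429 : n4277 = n670 := ((((iv F328)).symm.trans (sb E404 (iv F3224)))).symm
theorem E437 : n979 = n759 := (((F1035).symm.trans (sb E406 F1274))).symm
theorem E444 : n949 = n815 := (((D815).symm.trans (sb E409 (iv F495)))).symm
theorem E445 : n976 = n781 := ((((iv F407)).symm.trans (sb E409 D976))).symm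
theorem E446 : n977 = n118 := ((((iv D322)).symm.trans (sb E409 D977))).symm
theorem E447 : n956 = n116 := ((((iv F45)).symm.trans (sb E410 (iv F502)))).symm
theorem E451 : n890 = n789 := (((D789).symm.trans (sb E411 (iv D2097)))).symm
theorem F3368 : act 0 n388 = n266 := (sb E414 F335)
theorem E458 : n1620 = n973 := (((D973).symm.trans (sb E414 (iv F913)))).symm
theorem E459 : n870 = n859 := (((iv F459)).symm.trans (sb E414 (iv F453)))
theorem E460 : n974 = n265 := ((D974).symm.trans (sb E414 (iv D680)))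
theorem F3369 : act 2 n668 = n266 := (sb E426 (iv D681))
theorem E475 : n2142 = n263 := ((((iv F115)).symm.trans (sb E428 F1404))).symm
theorem E477 : n2093 = n1601 := (((D1601).symm.trans (sb E429 (iv D4277)))).symm
theorem E480 : n2295 = n1788 := (((D1788).symm.trans (sb E437 D2295))).symm
theorem F3372 : act 0 n815 = n668 := (sb E444 F494)
theorem E491 : n2230 = n1916 := (((D1916).symm.trans (sb E444 (iv F1373)))).symm
theorem E492 : n1839 = n1830 := (((iv F1093)).symm.trans (sb E444 (iv F1082)))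
theorem E493 : n1917 = n376 := ((D1917).symm.trans (sb E444 (iv D949)))
theorem E494 : n2288 = n307 := ((((iv D781)).symm.trans (sb E445 D2288))).symm
theorem E495 : n2233 = n321 := (((D321).symm.trans (sb E446 (iv F1377)))).symm
theorem E497 : n2237 = n317 := (((D317).symm.trans (sb E447 (iv F1381)))).symm
theorem E500 : n379 = n318 := (((D318).symm.trans (sb E447 (iv D956)))).symm
theorem F3373 : act 2 n789 = n355 := (sb E451 (iv D890))
theorem E503 : n3424 = n2280 := (((D2280).symm.trans (sb E458 (iv F2482)))).symm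
theorem E504 : n3428 = n2281 := (((D2281).symm.trans (sb E458 D3428))).symm
theorem E505 : n2042 = n2021 := (((iv F1242)).symm.trans (sb E458 (iv F1233)))
theorem E506 : n2282 = n679 := ((D2282).symm.trans (sb E458 (iv D1620)))
theorem F3374 : act 2 n859 = n346 := (sb E459 (iv D870))
theorem F3375 : act 3 n859 = n388 := (sb E459 F459)
theorem F3376 : act 4 n265 = n388 := (sb E460 (iv D974))
theorem E520 : n909 = n677 := (((D677).symm.trans (sb E475 (iv D2142)))).symm
theorem F3377 : act 2 n1601 = n889 := (sb E477 (iv D2093))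
theorem F3378 : act 1 n1788 = n2887 := (sb E480 (iv F2204))
theorem E522 : n3826 = n3811 := (((iv F2848)).symm.trans (sb E491 (iv F2838)))
theorem E523 : n3961 = n948 := ((D3961).symm.trans (sb E491 (iv D2230)))
theorem F3379 : act 2 n1830 = n781 := (sb E492 (iv D1839))
theorem F3380 : act 3 n1830 = n815 := (sb E492 F1093)
theorem F3381 : act 4 n376 = n815 := (sb E493 (iv D1917))
theorem E526 : n4207 = n779 := ((((iv F404)).symm.trans (sb E494 (iv F3154)))).symm
theorem E527 : n951 = n814 := (((D814).symm.trans (sb E495 (iv D2233)))).symm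
theorem E528 : n953 = n805 := (((D805).symm.trans (sb E497 (iv D2237)))).symm
theorem F3382 : act 2 n318 = n143 := (sb E500 (iv D379))
theorem F3383 : act 3 n2280 = n4094 := (sb E503 (iv F3078))
theorem F3384 : act 4 n2280 = n1618 := (sb E503 (iv D3424))
theorem E532 : n4172 = n4129 := (((iv F3129)).symm.trans (sb E504 (iv F3109)))
theorem F3385 : act 3 n2021 = n973 := (sb E505 F1242)
theorem F3386 : act 4 n679 = n973 := (sb E506 (iv D2282))
theorem F3387 : act 2 n677 = n362 := (sb E520 (iv D909))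
theorem F3388 : act 3 n3811 = n1916 := (sb E522 F2848)
theorem F3389 : act 4 n948 = n1916 := (sb E523 (iv D3961))
theorem E544 : n2056 = n1837 := (((D1837).symm.trans (sb E526 (iv D4207)))).symm
theorem F3390 : act 2 n814 = n378 := (sb E527 (iv D951))
theorem F3391 : act 2 n805 = n387 := (sb E528 F499)
theorem E547 : n2039 = n1844 := ((((iv F2087)).symm.trans (sb E528 (iv F2071)))).symm
theorem F3392 : act 3 n4129 = n2281 := (sb E532 F3129)
theorem F3393 : act 2 n1837 = n875 := (sb E544 (iv D2056))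
theorem F3394 : act 2 n1844 = n868 := (sb E547 (iv D2039))
theorem F3395 : act 2 n3190 = n3907 := d17_10 D1894 F1126 F3391 (iv D387) (iv D146) D145 D383 (iv F298) D1485 D3190 F2929 (iv D1891)
theorem E554 : n3908 = n1489 := (c11_5 D1485 D3190 F3395 (iv D3907) D3908 (iv D1489) (iv D615) D614)
theorem E555 : n3199 = n1879 := ((D3199).symm.trans (sb E554 (iv D3908)))
theorem F3396 : act 2 n1879 = n1489 := (sb E555 (iv D3199))
theorem F3397 : act 2 n3028 = n3909 := d7_3 (iv D3909) F3396 (iv F2874)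
theorem E556 : n3203 = n3013 := (c8_7 (iv D3910) F3396 (iv D1489) (iv D615) D616 D1490 D3203 F2935)
theorem F3398 : act 4 n3013 = n1490 := (sb E556 (iv D3203))
theorem F3399 : act 0 n3198 = n3724 := d14_3 D1879 F3396 (iv F2307) (iv D3724) (iv D1781) (iv D756) (iv D296) F42 (iv F45) (iv F139) D799
theorem F3400 : act 2 n3195 = n3415 := d15_2 F3396 (iv F2303) (iv D3415) (iv D1611) F332 F115 D265 (iv F141) D803 D1891 (iv F2929) (iv D3907)
theorem F3401 : act 4 n3724 = n3196 := d3_2 D3198 F3399 (iv D3196)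
theorem E557 : n3725 = n2195 := ((c6_2 F3401 F2305 (iv D3725) D3724)).symm
theorem F3402 : act 4 n2195 = n1781 := (sb E557 (iv D3725))
theorem F3403 : act 4 n3341 = n4333 := d3_2 F3402 (iv F2431) F3266
theorem F3404 : act 4 n3637 = n4437 := d9_6 F3402 (iv F2687) F3163 (iv D4209) F1251 D3637 (iv D4437)
theorem F3405 : act 4 n3722 = n4434 := d11_5 D2195 F3402 (iv D1781) D1780 D3722 (iv D4434) (iv D2194)
theorem F3406 : act 1 n2641 = n3515 := d17_11 (iv D1748) (iv F1025) (iv F2690) F3404 F3360 F1348 (iv F1330) F1331 (iv D1163) D1164 D2641 F2579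
theorem F3407 : act 3 n3548 = n2641 := d5_0 F3406 F2580 (iv F2606)
theorem F3408 : act 4 n3505 = n2641 := d6_0 F3406 (iv D3515) (iv F2566)
theorem F3409 : act 2 n2558 = n3548 := d7_3 F3407 (iv D2641) (iv F1671)
theorem E558 : n3452 = n3437 := (c17_9 F3186 F3185 F1668 D2558 F3409 F2606 F987 (iv F934) D3452 (iv D3437) (iv F1309) F1308 D2173)
theorem F3410 : act 2 n3437 = n1634 := (sb E558 (iv D3452))
theorem E559 : n3030 = n3016 := ((c17_4 (iv F2879) F2878 F2102 D3016 (iv D3030) F768 (iv F624) (iv F1670) F3409 (iv D3548) D3547 (iv F2912) F2911)).symm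
theorem F3411 : act 2 n3016 = n1372 := (sb E559 (iv D3030))
theorem F3412 : act 3 n3016 = n1490 := (sb E559 F2115)
theorem F3413 : act 2 n3449 = n4256 := d17_4 (iv D711) (iv F338) (iv F933) D3449 F3207 (iv F3184) F3185 F1668 D2558 F3409 F2606 F987
theorem F3414 : act 3 n4255 = n3449 := d7_0 F3413 (iv D4256) D4255
theorem F3415 : act 4 n3444 = n4255 := d9_0 F3414 (iv D3449) (iv D1632) (iv F482) D2147 (iv F1326) D3444
theorem F3416 : act 4 n3959 = n2228 := d3_2 F3389 D3959 (iv D2228)
theorem F3417 : act 2 n2205 = n3916 := d4_4 F3382 (iv F170) D936 D2205 (iv D3916) (iv D1883) F425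
theorem F3418 : act 0 n3345 = n2423 := d13_5 D388 F3368 (iv F321) (iv F888) D3345 F1502 F2193 (iv D619) F104 F32 (iv F63)
theorem F3419 : act 4 n2422 = n3345 := d3_0 F3418 (iv D2423) D2422
theorem E560 : n3348 = n644 := (c11_6 F2393 F3419 (iv D3345) F888 D1576 D3348 (iv F872) D3290)
theorem E561 : n1576 = n1548 := (((D1548).symm.trans (sb E560 (iv D3348)))).symm
theorem E564 : n3296 = n656 := ((D3296).symm.trans (sb E561 (iv D1576)))
theorem E565 : n3320 = n3287 := ((((iv F2388)).symm.trans (sb E561 (iv F2416)))).symm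
theorem F3420 : act 2 n656 = n1548 := (sb E564 (iv D3296))
theorem F3421 : act 2 n3287 = n1562 := (sb E565 (iv D3320))
theorem E566 : n3336 = n3291 := ((c8_5 D656 F3420 (iv D1548) (iv F872) D3291 (iv D3336) (iv D1571) F320)).symm
theorem F3422 : act 2 n3291 = n1571 := (sb E566 (iv D3336))
theorem F3423 : act 4 n2411 = n2311 := d11_5 F535 D1007 F3361 (iv F555) D2411 (iv F1453) (iv D2346)
theorem F3424 : act 0 n2312 = n2411 := d3_3 F3423 (iv D2311) D2312
def n4438 : Q := act 0 n2196
theorem D4438 : act 0 n2196 = n4438 := rfl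
def n4439 : Q := act 2 n2197
theorem D4439 : act 2 n2197 = n4439 := rfl
theorem F3425 : act 3 n4439 = n3633 := d7_2 (iv F3166) D4439 (iv F3165)
theorem F3426 : act 4 n4439 = n3726 := d8_2 D2197 D4439 (iv D3726) (iv D1782) D1781 (iv F3402) (iv D2195)
def n4440 : Q := act 0 n2198
theorem D4440 : act 0 n2198 = n4440 := rfl
def n4441 : Q := act 2 n2198
theorem D4441 : act 2 n2198 = n4441 := rfl
def n4442 : Q := act 3 n2198
theorem D4442 : act 3 n2198 = n4442 := rfl
theorem F3427 : act 1 n4442 = n2199 := d5_1 D4442 (iv D2199) D2198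
def n4443 : Q := act 4 n2198
theorem D4443 : act 4 n2198 = n4443 := rfl
theorem F3428 : act 1 n4443 = n2200 := d6_1 D4443 (iv D2200) D2198
def n4444 : Q := act 4 n2199
theorem D4444 : act 4 n2199 = n4444 := rfl
def n4445 : Q := act 3 n2200
theorem D4445 : act 3 n2200 = n4445 := rfl
def n4446 : Q := act 0 n2202
theorem D4446 : act 0 n2202 = n4446 := rfl
def n4447 : Q := act 1 n2202
theorem D4447 : act 1 n2202 = n4447 := rfl
def n4448 : Q := act 4 n2202
theorem D4448 : act 4 n2202 = n4448 := rfl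
def n4449 : Q := act 1 n2204
theorem D4449 : act 1 n2204 = n4449 := rfl
def n4450 : Q := act 3 n2204
theorem D4450 : act 3 n2204 = n4450 := rfl
def n4451 : Q := act 4 n2204
theorem D4451 : act 4 n2204 = n4451 := rfl
theorem F3429 : act 0 n4451 = n2207 := d3_1 D4451 (iv D2207) D2204
def n4453 : Q := act 4 n2205
theorem D4453 : act 4 n2205 = n4453 := rfl
theorem F3430 : act 1 n4453 = n2207 := d6_1 D4453 (iv D2207) D2205
def n4454 : Q := act 3 n2207
theorem D4454 : act 3 n2207 = n4454 := rfl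
def n4455 : Q := act 3 n2209
theorem D4455 : act 3 n2209 = n4455 := rfl
theorem F3431 : act 1 n4455 = n2210 := d5_1 D4455 (iv D2210) D2209
theorem F3432 : act 2 n4455 = n3556 := d7_1 D4455 (iv D3556) F1356
def n4456 : Q := act 4 n2210
theorem D4456 : act 4 n2210 = n4456 := rfl
def n4457 : Q := act 0 n2217
theorem D4457 : act 0 n2217 = n4457 := rfl
theorem F3433 : act 1 n4457 = n2254 := d13_2 D2217 D4457 (iv D2254) (iv D962) (iv D383) (iv D145) (iv D51) (iv F20) D142 D375 D944
def n4458 : Q := act 1 n2217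
theorem D4458 : act 1 n2217 = n4458 := rfl
theorem F3434 : act 2 n3166 = n4458 := d15_8 (iv D962) (iv D383) D384 D965 (iv F810) (iv F2290) (iv D3167) D3166 (iv D4458) D4457 F3433 (iv D2254)
theorem F3435 : act 1 n4434 = n3177 := d4_5 F3434 (iv D4458) (iv D2217) (iv F1347) D4434 (iv D3177) (iv F2289)
def n4459 : Q := act 3 n2217
theorem D4459 : act 3 n2217 = n4459 := rfl
theorem F3436 : act 2 n4459 = n2218 := d7_1 D4459 (iv D2218) D2217
def n4460 : Q := act 4 n2217
theorem D4460 : act 4 n2217 = n4460 := rfl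
def n4461 : Q := act 0 n2218
theorem D4461 : act 0 n2218 = n4461 := rfl
def n4462 : Q := act 2 n2219
theorem D4462 : act 2 n2219 = n4462 := rfl
def n4463 : Q := act 1 n2220
theorem D4463 : act 1 n2220 = n4463 := rfl
def n4464 : Q := act 2 n2220
theorem D4464 : act 2 n2220 = n4464 := rfl
theorem F3437 : act 1 n4464 = n4324 := d15_3 D945 D2220 D4464 F3260 (iv F3293) F3294 F1315 (iv D933) D932 D2194 F1347 (iv D944)
def n4465 : Q := act 3 n2220
theorem D4465 : act 3 n2220 = n4465 := rfl
def n4466 : Q := act 4 n2220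
theorem D4466 : act 4 n2220 = n4466 := rfl
theorem F3438 : act 0 n4466 = n2223 := d3_1 D4466 (iv D2223) D2220
def n4467 : Q := act 0 n2221
theorem D4467 : act 0 n2221 = n4467 := rfl
theorem F3439 : act 3 n4467 = n3158 := d16_7 (iv F155) (iv F173) (iv D377) D375 D945 D2221 D4467 F2282 F1293 F476 F166 (iv F62)
theorem F3440 : act 2 n3159 = n4467 := d7_3 F3439 (iv D3158) D3159
def n4468 : Q := act 2 n2221
theorem D4468 : act 2 n2221 = n4468 := rfl
theorem F3441 : act 0 n4468 = n3170 := d1_1 D4468 F2296 F810 D2262 (iv F2283) F3440 (iv D4467)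
theorem F3442 : act 1 n4468 = n2229 := d4_1 D4468 (iv D2229) (iv D948) (iv D376) D375 D945 D2221
theorem F3443 : act 3 n3141 = n4468 := d5_0 F3442 (iv F2833) F2834
def n4469 : Q := act 3 n2221
theorem D4469 : act 3 n2221 = n4469 := rfl
theorem F3444 : act 0 n4469 = n3152 := d2_1 D4469 (iv D3152) F806 D2122 (iv F2282) (iv F3439) (iv D4467)
theorem F3445 : act 1 n4469 = n2222 := d5_1 D4469 (iv D2222) D2221
theorem F3446 : act 2 n4469 = n3141 := d7_1 D4469 F3443 (iv D4468)
def n4470 : Q := act 4 n2221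
theorem D4470 : act 4 n2221 = n4470 := rfl
theorem F3447 : act 1 n4470 = n2223 := d6_1 D4470 (iv D2223) D2221
def n4471 : Q := act 0 n2222
theorem D4471 : act 0 n2222 = n4471 := rfl
def n4472 : Q := act 4 n2222
theorem D4472 : act 4 n2222 = n4472 := rfl
def n4473 : Q := act 2 n2223
theorem D4473 : act 2 n2223 = n4473 := rfl
def n4474 : Q := act 3 n2223
theorem D4474 : act 3 n2223 = n4474 := rfl
def n4475 : Q := act 1 n2224
theorem D4475 : act 1 n2224 = n4475 := rfl
theorem F3448 : act 0 n4475 = n4130 := d0_1 D4475 (iv D4130) (iv D2022) (iv D860) (iv F173) (iv F492) D2224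
def n4476 : Q := act 2 n2224
theorem D4476 : act 2 n2224 = n4476 := rfl
def n4477 : Q := act 3 n2224
theorem D4477 : act 3 n2224 = n4477 := rfl
def n4478 : Q := act 0 n2226
theorem D4478 : act 0 n2226 = n4478 := rfl
def n4479 : Q := act 1 n2226
theorem D4479 : act 1 n2226 = n4479 := rfl
def n4480 : Q := act 4 n2226
theorem D4480 : act 4 n2226 = n4480 := rfl
def n4481 : Q := act 1 n2228
theorem D4481 : act 1 n2228 = n4481 := rfl
theorem F3449 : act 0 n4481 = n3193 := d0_1 D4481 F2301 (iv D1594) F325 (iv F172) D948 D2228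
theorem F3450 : act 2 n4481 = n3188 := d15_6 (iv F20) D142 D376 D948 D2228 D4481 (iv D3188) (iv D1485) F298 (iv D383) (iv D145) (iv D51)
def n4482 : Q := act 2 n2228
theorem D4482 : act 2 n2228 = n4482 := rfl
def n4483 : Q := act 4 n2229
theorem D4483 : act 4 n2229 = n4483 := rfl
def n4484 : Q := act 2 n2254
theorem D4484 : act 2 n2254 = n4484 := rfl
theorem F3451 : act 0 n4484 = n2259 := d1_1 D4484 (iv D2259) (iv D964) (iv D384) D383 D962 D2254
theorem F3452 : act 1 n4484 = n3186 := d14_2 F3433 D4484 (iv D3186) (iv D1471) (iv D607) D606 D1467 (iv F2289) F3434 (iv D4458) D4457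
def n4485 : Q := act 4 n2254
theorem D4485 : act 4 n2254 = n4485 := rfl
theorem F3453 : act 0 n4485 = n2256 := d3_1 D4485 (iv D2256) D2254
def n4486 : Q := act 2 n2255
theorem D4486 : act 2 n2255 = n4486 := rfl
def n4487 : Q := act 4 n2255
theorem D4487 : act 4 n2255 = n4487 := rfl
theorem F3454 : act 1 n4487 = n2256 := d6_1 D4487 (iv D2256) D2255
def n4488 : Q := act 2 n2256
theorem D4488 : act 2 n2256 = n4488 := rfl
theorem F3455 : act 0 n4488 = n2264 := d11_3 D962 D2256 D4488 (iv D2264) (iv D966) (iv D384) D383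
theorem F3456 : act 1 n4488 = n2957 := d17_5 (iv D1486) F298 D962 D2256 D4488 (iv D2957) (iv D1326) (iv F572) F2195 (iv D619) (iv F299) (iv F824)
def n4489 : Q := act 3 n2256
theorem D4489 : act 3 n2256 = n4489 := rfl
def n4490 : Q := act 0 n2257
theorem D4490 : act 0 n2257 = n4490 := rfl
def n4491 : Q := act 1 n2257
theorem D4491 : act 1 n2257 = n4491 := rfl
def n4492 : Q := act 4 n2257
theorem D4492 : act 4 n2257 = n4492 := rfl
def n4493 : Q := act 0 n2258
theorem D4493 : act 0 n2258 = n4493 := rfl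
def n4494 : Q := act 2 n2258
theorem D4494 : act 2 n2258 = n4494 := rfl
def n4495 : Q := act 3 n2258
theorem D4495 : act 3 n2258 = n4495 := rfl
theorem F3457 : act 1 n4495 = n2260 := d5_1 D4495 (iv D2260) D2258
def n4496 : Q := act 4 n2258
theorem D4496 : act 4 n2258 = n4496 := rfl
theorem F3458 : act 1 n4496 = n2261 := d6_1 D4496 (iv D2261) D2258
def n4497 : Q := act 1 n2259
theorem D4497 : act 1 n2259 = n4497 := rfl
theorem F3459 : act 0 n4497 = n2425 := d0_1 D4497 F1504 F565 D1471 D3186 (iv F3452) F3451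
theorem E567 : n4495 = n3117 := ((c16_2 D1424 D3117 (iv D4495) (iv D2258) D2259 D4497 F3459 (iv D2425) F560 F237 F81 D228 D589)).symm
theorem F3460 : act 1 n3117 = n2260 := (sb E567 F3457)
theorem F3461 : act 3 n3117 = n2258 := (sb E567 (iv D4495))
theorem E568 : n4493 = n3130 := ((c16_8 (iv D2425) F560 D1205 F666 F238 (iv F288) D1430 D3130 (iv D4493) (iv D2258) D2259 D4497 F3459)).symm
theorem F3462 : act 0 n3130 = n2258 := (sb E568 (iv D4493))
theorem F3463 : act 2 n3381 = n4497 := d15_8 D3187 F3290 (iv D2229) (iv D948) F172 (iv F325) (iv F892) D3381 (iv D4497) (iv F3451) F3452 (iv D3186)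
def n4498 : Q := act 4 n2259
theorem D4498 : act 4 n2259 = n4498 := rfl
theorem F3464 : act 2 n4498 = n2266 := d11_2 D2259 D4498 (iv D2266) (iv D967) (iv D385) D384 D964
def n4499 : Q := act 2 n2261
theorem D4499 : act 2 n2261 = n4499 := rfl
def n4500 : Q := act 4 n2262
theorem D4500 : act 4 n2262 = n4500 := rfl
theorem F3465 : act 1 n4500 = n2274 := d6_1 D4500 (iv D2274) (iv F1395)
def n4501 : Q := act 2 n2263
theorem D4501 : act 2 n2263 = n4501 := rfl
def n4502 : Q := act 1 n2266
theorem D4502 : act 1 n2266 = n4502 := rfl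
def n4503 : Q := act 2 n2267
theorem D4503 : act 2 n2267 = n4503 := rfl
theorem F3466 : act 1 n4503 = n2281 := d4_1 D4503 (iv D2281) (iv D973) (iv D388) (iv F175) D967 D2267
def n4504 : Q := act 2 n2269
theorem D4504 : act 2 n2269 = n4504 := rfl
theorem F3467 : act 0 n4504 = n4434 := d1_1 D4504 (iv D4434) (iv D2194) D2195 (iv F3266) (iv D4333) (iv F1397)
def n4505 : Q := act 3 n2269
theorem D4505 : act 3 n2269 = n4505 := rfl
theorem F3468 : act 1 n4505 = n2271 := d5_1 D4505 (iv D2271) D2269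
def n4506 : Q := act 4 n2269
theorem D4506 : act 4 n2269 = n4506 := rfl
theorem F3469 : act 0 n4506 = n4335 := d3_1 D4506 (iv D4335) (iv F1397)
theorem F3470 : act 1 n4506 = n2272 := d6_1 D4506 (iv D2272) D2269
def n4507 : Q := act 0 n2270
theorem D4507 : act 0 n2270 = n4507 := rfl
def n4508 : Q := act 1 n2270
theorem D4508 : act 1 n2270 = n4508 := rfl
def n4509 : Q := act 3 n2270
theorem D4509 : act 3 n2270 = n4509 := rfl
theorem F3471 : act 2 n4509 = n2271 := d7_1 D4509 (iv D2271) D2270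
def n4510 : Q := act 4 n2270
theorem D4510 : act 4 n2270 = n4510 := rfl
def n4511 : Q := act 0 n2271
theorem D4511 : act 0 n2271 = n4511 := rfl
theorem F3472 : act 1 n4511 = n2637 := d16_9 F1529 F441 (iv F148) (iv D145) D146 D386 D968 D2271 D4511 (iv D2637) (iv F1497) (iv D2406)
def n4512 : Q := act 2 n2272
theorem D4512 : act 2 n2272 = n4512 := rfl
def n4513 : Q := act 1 n2273
theorem D4513 : act 1 n2273 = n4513 := rfl
theorem F3473 : act 0 n4513 = n3197 := d13_3 D969 D2273 D4513 (iv D3197) D3196 F2305 (iv F3266) (iv D4333) (iv F1397) (iv D2269) (iv D968)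
theorem F3474 : act 1 n3159 = n3208 := d0_4 (iv D4513) (iv D2273) (iv F1395) (iv F2283) (iv D3208) (iv F2306) (iv F3473)
theorem F3475 : act 3 n3208 = n3157 := d5_2 D3159 F3474 (iv D3157)
theorem F3476 : act 0 n3157 = n4486 := d10_1 F3475 (iv D4486) (iv F2308) (iv D3206) (iv D1491) D1492 D3208
theorem F3477 : act 1 n4486 = n4413 := d0_2 D3157 F3476 (iv D4413) (iv D2183) (iv D928) (iv F292) D1451
theorem F3478 : act 2 n4413 = n3189 := d16_10 F2300 (iv D3017) F766 D1488 D3197 F2306 D3208 F3475 F3476 F3477 (iv D3189) D3188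
def n4514 : Q := act 3 n2273
theorem D4514 : act 3 n2273 = n4514 := rfl
def n4515 : Q := act 4 n2273
theorem D4515 : act 4 n2273 = n4515 := rfl
theorem F3479 : act 0 n4515 = n2274 := d3_1 D4515 (iv D2274) D2273
def n4516 : Q := act 2 n2274
theorem D4516 : act 2 n2274 = n4516 := rfl
def n4517 : Q := act 3 n2274
theorem D4517 : act 3 n2274 = n4517 := rfl
def n4518 : Q := act 0 n2275
theorem D4518 : act 0 n2275 = n4518 := rfl
def n4519 : Q := act 1 n2275
theorem D4519 : act 1 n2275 = n4519 := rfl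
def n4520 : Q := act 4 n2275
theorem D4520 : act 4 n2275 = n4520 := rfl
def n4521 : Q := act 1 n2280
theorem D4521 : act 1 n2280 = n4521 := rfl
theorem F3480 : act 0 n4521 = n3342 := d0_1 D4521 F2432 F888 F321 (iv F3368) D973 D2280
theorem F3481 : act 4 n4521 = n3340 := d6_2 (iv F3384) D4521 F2430
def n4522 : Q := act 2 n2280
theorem D4522 : act 2 n2280 = n4522 := rfl
def n4523 : Q := act 0 n2281
theorem D4523 : act 0 n2281 = n4523 := rfl
def n4524 : Q := act 4 n2281
theorem D4524 : act 4 n2281 = n4524 := rfl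
def n4525 : Q := act 3 n2300
theorem D4525 : act 3 n2300 = n4525 := rfl
theorem F3482 : act 1 n4525 = n2301 := d5_1 D4525 (iv D2301) D2300
theorem F3483 : act 2 n4525 = n2442 := d7_1 D4525 (iv D2442) (iv F1414)
theorem F3484 : act 0 n4525 = n2464 := d10_1 D4525 (iv D2464) (iv D1065) (iv D430) D429 D1062 (iv F1413)
def n4526 : Q := act 4 n2300
theorem D4526 : act 4 n2300 = n4526 := rfl
theorem F3485 : act 0 n4526 = n2459 := d3_1 D4526 (iv D2459) (iv F1413)
theorem F3486 : act 1 n4526 = n2302 := d6_1 D4526 (iv D2302) D2300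
theorem F3487 : act 2 n4526 = n2452 := d11_2 (iv F1414) D4526 (iv D2452) (iv D1060) (iv D428) D426 D1055
def n4527 : Q := act 4 n2301
theorem D4527 : act 4 n2301 = n4527 := rfl
def n4528 : Q := act 3 n2302
theorem D4528 : act 3 n2302 = n4528 := rfl
def n4529 : Q := act 2 n2303
theorem D4529 : act 2 n2303 = n4529 := rfl
def n4530 : Q := act 3 n2303
theorem D4530 : act 3 n2303 = n4530 := rfl
theorem F3488 : act 1 n4530 = n2309 := d5_1 D4530 (iv D2309) (iv F1417)
def n4531 : Q := act 1 n2304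
theorem D4531 : act 1 n2304 = n4531 := rfl
def n4532 : Q := act 3 n2304
theorem D4532 : act 3 n2304 = n4532 := rfl
theorem F3489 : act 2 n4532 = n2305 := d7_1 D4532 (iv D2305) D2304
def n4533 : Q := act 4 n2304
theorem D4533 : act 4 n2304 = n4533 := rfl
def n4534 : Q := act 0 n2305
theorem D4534 : act 0 n2305 = n4534 := rfl
def n4535 : Q := act 4 n2305
theorem D4535 : act 4 n2305 = n4535 := rfl
theorem F3490 : act 1 n4535 = n2312 := d6_1 D4535 (iv D2312) (iv F1418)
def n4536 : Q := act 3 n2306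
theorem D4536 : act 3 n2306 = n4536 := rfl
theorem F3491 : act 1 n4536 = n3355 := d5_1 D4536 (iv D3355) (iv F1419)
theorem F3492 : act 2 n4536 = n2382 := d7_1 D4536 F1481 F1472
theorem F3493 : act 0 n4536 = n4536 := d10_1 D4536 F3492 (iv D2382) (iv D1020) D1018 (iv F1445) F1444
def n4537 : Q := act 4 n2307
theorem D4537 : act 4 n2307 = n4537 := rfl
theorem F3494 : act 1 n4537 = n3359 := d6_1 D4537 (iv D3359) (iv F1420)
theorem F3495 : act 2 n4537 = n2312 := d11_2 (iv F1421) D4537 F3424 (iv D2411) (iv D1035) D1034 F554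
def n4538 : Q := act 3 n2308
theorem D4538 : act 3 n2308 = n4538 := rfl
theorem F3496 : act 2 n4538 = n2309 := d7_1 D4538 (iv D2309) D2308
theorem F3497 : act 0 n4538 = n4538 := d10_1 D4538 F3496 F1422 (iv D1004) (iv F534) D2339 F1447
def n4539 : Q := act 4 n2309
theorem D4539 : act 4 n2309 = n4539 := rfl
theorem F3498 : act 0 n4539 = n2345 := d3_1 D4539 (iv D2345) (iv F1422)
theorem F3499 : act 3 n4539 = n2312 := d9_1 D4539 (iv D2312) (iv D989) (iv D395) D394 D987 D2309
def n4540 : Q := act 4 n2310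
theorem D4540 : act 4 n2310 = n4540 := rfl
theorem F3500 : act 2 n4540 = n2389 := d8_1 D4540 (iv D2389) (iv F1421) D4537 F3495 (iv D2312) (iv F1423)
def n4541 : Q := act 1 n2311
theorem D4541 : act 1 n2311 = n4541 := rfl
def n4542 : Q := act 0 n2313
theorem D4542 : act 0 n2313 = n4542 := rfl
theorem F3501 : act 2 n4542 = n2897 := d1_2 (iv F1425) D4542 F1956 F989 D1690 F992 F762
theorem F3502 : act 3 n4542 = n2896 := d2_2 D2313 D4542 (iv F2035) F2037 (iv F1761) (iv D2676) F653
theorem F3503 : act 1 n4542 = n2915 := d14_4 (iv F354) (iv F954) (iv F1424) D4542 F1970 F731 (iv F589) (iv F1602) F1603 (iv D1650) (iv D696)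
def n4543 : Q := act 4 n2313
theorem D4543 : act 4 n2313 = n4543 := rfl
theorem F3504 : act 1 n4543 = n3470 := d6_1 D4543 (iv D3470) (iv F1424)
def n4544 : Q := act 2 n2314
theorem D4544 : act 2 n2314 = n4544 := rfl
theorem F3505 : act 0 n4544 = n2320 := d1_1 D4544 (iv D2320) F529 D1692 D3560 F2613 F1762
def n4545 : Q := act 3 n2314
theorem D4545 : act 3 n2314 = n4545 := rfl
theorem F3506 : act 1 n4545 = n3471 := d5_1 D4545 (iv D3471) (iv F1426)
def n4546 : Q := act 2 n2315
theorem D4546 : act 2 n2315 = n4546 := rfl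
def n4547 : Q := act 3 n2315
theorem D4547 : act 3 n2315 = n4547 := rfl
theorem F3507 : act 1 n4547 = n3435 := d5_1 D4547 (iv D3435) (iv F1427)
theorem F3508 : act 0 n4547 = n2325 := d12_3 D991 D2315 D4547 (iv D2325) (iv D996) (iv D398) D396
def n4548 : Q := act 3 n2316
theorem D4548 : act 3 n2316 = n4548 := rfl
theorem F3509 : act 2 n4548 = n2317 := d7_1 D4548 (iv D2317) D2316
def n4549 : Q := act 4 n2316
theorem D4549 : act 4 n2316 = n4549 := rfl
theorem F3510 : act 1 n4549 = n2791 := d6_1 D4549 (iv F3326) F3325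
def n4550 : Q := act 4 n2317
theorem D4550 : act 4 n2317 = n4550 := rfl
theorem F3511 : act 1 n4550 = n3437 := d6_1 D4550 (iv D3437) (iv F1428)
def n4551 : Q := act 4 n2318
theorem D4551 : act 4 n2318 = n4551 := rfl
theorem F3512 : act 0 n4551 = n2319 := d3_1 D4551 (iv D2319) D2318
theorem F3513 : act 1 n4551 = n4096 := d6_1 D4551 (iv D4096) F1430
def n4552 : Q := act 2 n2319
theorem D4552 : act 2 n2319 = n4552 := rfl
def n4553 : Q := act 3 n2319
theorem D4553 : act 3 n2319 = n4553 := rfl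
theorem F3514 : act 1 n4553 = n2468 := d5_1 D4553 (iv D2468) (iv F1431)
theorem F3515 : act 0 n4553 = n3559 := d12_3 D993 D2319 D4553 (iv D3559) (iv D1691) (iv D713) F302
def n4554 : Q := act 1 n2320
theorem D4554 : act 1 n2320 = n4554 := rfl
def n4555 : Q := act 3 n2320
theorem D4555 : act 3 n2320 = n4555 := rfl
theorem F3516 : act 2 n4555 = n2321 := d7_1 D4555 (iv D2321) D2320
def n4556 : Q := act 4 n2320
theorem D4556 : act 4 n2320 = n4556 := rfl
theorem F3517 : act 2 n4556 = n2328 := d8_1 D4556 (iv D2328) (iv D997) (iv D399) D397 D994 D2320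
theorem F3518 : act 1 n2527 = n4556 := d4_7 F3517 F1436 (iv D1152) F226 (iv F211) (iv F602) D2527
theorem F3519 : act 4 n4554 = n2527 := d6_0 F3518 (iv D4556) D4554
def n4557 : Q := act 0 n2321
theorem D4557 : act 0 n2321 = n4557 := rfl
theorem F3520 : act 3 n4557 = n4095 := d2_2 D2321 D4557 F3079 (iv F2623) (iv D3564) (iv D1693) (iv F529)
theorem F3521 : act 1 n4098 = n4557 := d5_3 F3520 F3080 D4098
def n4558 : Q := act 4 n2321
theorem D4558 : act 4 n2321 = n4558 := rfl
theorem F3522 : act 1 n4558 = n2471 := d6_1 D4558 (iv D2471) (iv F1432)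
def n4559 : Q := act 4 n2322
theorem D4559 : act 4 n2322 = n4559 := rfl
def n4560 : Q := act 2 n2323
theorem D4560 : act 2 n2323 = n4560 := rfl
def n4561 : Q := act 3 n2323
theorem D4561 : act 3 n2323 = n4561 := rfl
theorem F3523 : act 1 n4561 = n4439 := d5_1 D4561 F3425 F2685
def n4562 : Q := act 0 n2324
theorem D4562 : act 0 n2324 = n4562 := rfl
def n4563 : Q := act 1 n2324
theorem D4563 : act 1 n2324 = n4563 := rfl
def n4564 : Q := act 3 n2324
theorem D4564 : act 3 n2324 = n4564 := rfl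
theorem F3524 : act 2 n4564 = n2325 := d7_1 D4564 (iv D2325) D2324
def n4565 : Q := act 4 n2324
theorem D4565 : act 4 n2324 = n4565 := rfl
def n4566 : Q := act 4 n2325
theorem D4566 : act 4 n2325 = n4566 := rfl
theorem F3525 : act 1 n4566 = n2345 := d6_1 D4566 (iv D2345) (iv F1434)
theorem F3526 : act 3 n4566 = n2330 := d9_1 D4566 (iv D2330) (iv D998) (iv D399) D398 D996 D2325
def n4567 : Q := act 3 n2326
theorem D4567 : act 3 n2326 = n4567 := rfl
theorem F3527 : act 1 n4567 = n2327 := d5_1 D4567 (iv D2327) D2326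
def n4568 : Q := act 0 n2327
theorem D4568 : act 0 n2327 = n4568 := rfl
def n4569 : Q := act 4 n2327
theorem D4569 : act 4 n2327 = n4569 := rfl
def n4570 : Q := act 3 n2328
theorem D4570 : act 3 n2328 = n4570 := rfl
theorem F3528 : act 1 n4570 = n2594 := d5_1 D4570 F1700 (iv F1436)
def n4571 : Q := act 2 n2329
theorem D4571 : act 2 n2329 = n4571 := rfl
def n4572 : Q := act 4 n2329
theorem D4572 : act 4 n2329 = n4572 := rfl
theorem F3529 : act 0 n4572 = n2330 := d3_1 D4572 (iv D2330) D2329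
def n4573 : Q := act 2 n2330
theorem D4573 : act 2 n2330 = n4573 := rfl
theorem F3530 : act 1 n4573 = n2495 := d4_1 D4573 (iv D2495) F586 (iv F2176) (iv F191) (iv F3361) (iv F1439)
def n4574 : Q := act 4 n2331
theorem D4574 : act 4 n2331 = n4574 := rfl
theorem F3531 : act 0 n4574 = n2334 := d3_1 D4574 (iv D2334) D2331
def n4575 : Q := act 1 n2332
theorem D4575 : act 1 n2332 = n4575 := rfl
def n4576 : Q := act 3 n2332
theorem D4576 : act 3 n2332 = n4576 := rfl
theorem F3532 : act 2 n4576 = n2333 := d7_1 D4576 (iv D2333) D2332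
def n4577 : Q := act 4 n2332
theorem D4577 : act 4 n2332 = n4577 := rfl
def n4578 : Q := act 0 n2333
theorem D4578 : act 0 n2333 = n4578 := rfl
theorem F3533 : act 3 n4578 = n2903 := d2_2 D2333 D4578 (iv F2095) F2096 (iv D2888) (iv F1944) (iv D2331)
theorem F3534 : act 2 n4578 = n2756 := d10_2 D2333 D4578 F1823 F1947 (iv D2890) F1945 (iv D2331)
theorem F3535 : act 1 n4578 = n3433 := d14_4 F1544 F1443 (iv F1440) D4578 F2485 F1567 (iv D767) F126 (iv F129) (iv F394) D1826
theorem F3536 : act 0 n3765 = n4576 := d15_12 F3532 D4578 F3534 (iv D2756) (iv D1221) F242 (iv F246) D1229 (iv F1066) F1065 D1805 D3765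
def n4579 : Q := act 4 n2333
theorem D4579 : act 4 n2333 = n4579 := rfl
theorem F3537 : act 1 n4579 = n2338 := d6_1 D4579 (iv D2338) (iv F1440)
theorem F3538 : act 3 n2348 = n4579 := d5_0 F3537 F1446 D2348
def n4580 : Q := act 2 n2334
theorem D4580 : act 2 n2334 = n4580 := rfl
def n4581 : Q := act 3 n2334
theorem D4581 : act 3 n2334 = n4581 := rfl
theorem F3539 : act 1 n4581 = n2340 := d5_1 D4581 (iv D2340) (iv F1441)
def n4582 : Q := act 0 n2335
theorem D4582 : act 0 n2335 = n4582 := rfl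
theorem F3540 : act 3 n4582 = n3796 := d2_2 (iv F1545) D4582 (iv D3796) (iv D1822) (iv D771) D773 D1826
def n4583 : Q := act 2 n2335
theorem D4583 : act 2 n2335 = n4583 := rfl
theorem F3541 : act 3 n4583 = n3804 := d7_2 (iv F1545) D4583 (iv D3804)
theorem F3542 : act 0 n4583 = n2508 := d10_3 (iv F3540) (iv D4582) D4583 (iv F1601) D3480 (iv F2541) D3796
def n4584 : Q := act 4 n2335
theorem D4584 : act 4 n2335 = n4584 := rfl
theorem F3543 : act 1 n4584 = n2337 := d6_1 D4584 (iv D2337) D2335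
theorem F3544 : act 3 n4584 = n3810 := d12_2 (iv F1545) D4584 (iv D3810) (iv D1829) (iv D774) D773 D1826
def n4585 : Q := act 4 n2336
theorem D4585 : act 4 n2336 = n4585 := rfl
theorem F3545 : act 0 n4585 = n4585 := d3_1 D4585 (iv D4585) F1442
theorem F3546 : act 1 n4585 = n3805 := d6_1 D4585 (iv D3805) F1544
theorem F3547 : act 2 n4585 = n2400 := d11_2 (iv F1443) D4585 F1495 (iv D2369) (iv D1015) (iv F540) F539
theorem F3548 : act 3 n4585 = n2399 := d12_2 D2336 D4585 F1494 (iv D2307) (iv D986) D985 (iv F533)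
def n4586 : Q := act 3 n2337
theorem D4586 : act 3 n2337 = n4586 := rfl
theorem F3549 : act 0 n4586 = n4586 := d2_1 D4586 (iv D4586) F1444 D4536 F3493 (iv D4536) (iv F1444)
theorem F3550 : act 1 n4586 = n3810 := d5_1 D4586 (iv F3544) F3543
theorem F3551 : act 2 n4586 = n2376 := d7_1 D4586 (iv D2376) (iv F1445)
def n4587 : Q := act 2 n2338
theorem D4587 : act 2 n2338 = n4587 := rfl
theorem F3552 : act 3 n4587 = n2349 := d7_2 (iv F1446) D4587 (iv D2349)
theorem F3553 : act 0 n4587 = n4587 := d10_3 (iv F1469) F1468 D4587 F3552 F1454 F1423 D2311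
def n4588 : Q := act 1 n2339
theorem D4588 : act 1 n2339 = n4588 := rfl
def n4589 : Q := act 3 n2339
theorem D4589 : act 3 n2339 = n4589 := rfl
theorem F3554 : act 0 n4589 = n4589 := d2_1 D4589 (iv D4589) F1447 D4538 F3497 (iv D4538) (iv F1447)
theorem F3555 : act 2 n4589 = n2340 := d7_1 D4589 (iv D2340) D2339
def n4590 : Q := act 4 n2339
theorem D4590 : act 4 n2339 = n4590 := rfl
theorem F3556 : act 0 n4590 = n3400 := d3_1 D4590 (iv F2463) (iv F1447)
theorem F3557 : act 2 n4590 = n2377 := d8_1 D4590 (iv D2377) (iv F1445) (iv D2337) (iv D1000) D1002 D2339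
def n4591 : Q := act 4 n2340
theorem D4591 : act 4 n2340 = n4591 := rfl
theorem F3558 : act 3 n4591 = n2350 := d9_1 D4591 (iv D2350) (iv F1446) (iv D2338) (iv D1001) D1002 D2340
def n4592 : Q := act 1 n2341
theorem D4592 : act 1 n2341 = n4592 := rfl
def n4593 : Q := act 3 n2341
theorem D4593 : act 3 n2341 = n4593 := rfl
theorem F3559 : act 0 n4593 = n4593 := d2_1 D4593 (iv D4593) (iv D2341) D2343 F1450 (iv D2343) D2341
theorem F3560 : act 2 n4593 = n2368 := d7_1 D4593 (iv D2368) (iv F1448)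
def n4594 : Q := act 1 n2346
theorem D4594 : act 1 n2346 = n4594 := rfl
def n4595 : Q := act 3 n2346
theorem D4595 : act 3 n2346 = n4595 := rfl
theorem F3561 : act 0 n4595 = n4595 := d2_1 D4595 (iv D4595) (iv D2346) (iv D1005) F184 D1005 D2346
theorem F3562 : act 2 n4595 = n2367 := d7_1 D4595 F1469 (iv F1453)
def n4596 : Q := act 4 n2346
theorem D4596 : act 4 n2346 = n4596 := rfl
theorem F3563 : act 0 n4596 = n2347 := d3_1 D4596 (iv D2347) D2346
theorem F3564 : act 2 n4596 = n2410 := d8_1 D4596 (iv D2410) (iv D1034) D1035 D2411 F3423 (iv F1453)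
def n4597 : Q := act 0 n2348
theorem D4597 : act 0 n2348 = n4597 := rfl
theorem F3565 : act 3 n4597 = n2889 := d12_4 D2333 D4579 (iv F3538) D4597 (iv D2889) (iv F1944) (iv D2331)
def n4598 : Q := act 2 n2348
theorem D4598 : act 2 n2348 = n4598 := rfl
def n4599 : Q := act 4 n2348
theorem D4599 : act 4 n2348 = n4599 := rfl
theorem F3566 : act 1 n4599 = n2350 := d6_1 D4599 (iv D2350) D2348
def n4600 : Q := act 1 n2349
theorem D4600 : act 1 n2349 = n4600 := rfl
def n4601 : Q := act 4 n2349
theorem D4601 : act 4 n2349 = n4601 := rfl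
theorem F3567 : act 0 n4601 = n4540 := d3_1 D4601 (iv D4540) (iv F1454)
theorem F3568 : act 2 n4601 = n2401 := d11_2 D2349 D4601 F1496 (iv F3363) (iv D2347) F535 D1006
def n4602 : Q := act 2 n2350
theorem D4602 : act 2 n2350 = n4602 := rfl
theorem F3569 : act 0 n4602 = n4537 := d1_1 D4602 F3495 F3424 (iv D2411) F555 (iv F3361) (iv F1455)
theorem F3570 : act 4 n4602 = n2399 := d8_2 D2350 D4602 (iv D2399) D2401 (iv F3568) (iv D4601) (iv D2349)
def n4603 : Q := act 1 n2352
theorem D4603 : act 1 n2352 = n4603 := rfl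
theorem F3571 : act 3 n4603 = n3997 := d5_2 (iv F1538) D4603 (iv D3997)
theorem F3572 : act 0 n4603 = n2561 := d16_6 D1107 F918 (iv D1107) (iv F536) D2352 D4603 (iv D2561) (iv D1115) (iv D451) (iv D170) D169 D447
def n4604 : Q := act 4 n2352
theorem D4604 : act 4 n2352 = n4604 := rfl
theorem F3573 : act 0 n4604 = n4036 := d3_1 D4604 (iv D4036) F1542
theorem F3574 : act 3 n4604 = n4026 := d12_2 (iv F1538) D4604 (iv D4026) (iv D1955) (iv D830) D829 (iv F1155)
def n4605 : Q := act 2 n2354
theorem D4605 : act 2 n2354 = n4605 := rfl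
theorem F3575 : act 3 n4605 = n4012 := d7_2 (iv F1536) D4605 (iv D4012)
theorem F3576 : act 0 n4605 = n4067 := d10_3 F1531 (iv F1457) D4605 (iv D4067) (iv D1986) F443 D846
def n4606 : Q := act 4 n2355
theorem D4606 : act 4 n2355 = n4606 := rfl
theorem F3577 : act 0 n4606 = n2358 := d3_1 D4606 (iv D2358) D2355
theorem F3578 : act 3 n4606 = n3995 := d12_2 (iv F1539) D4606 (iv D3995) (iv D1934) (iv D822) D821 D1931
def n4607 : Q := act 2 n2356
theorem D4607 : act 2 n2356 = n4607 := rfl
theorem F3579 : act 1 n4607 = n2364 := d4_1 D4607 (iv D2364) (iv D1012) (iv D405) D404 D1009 D2356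
theorem F3580 : act 3 n4607 = n2448 := d7_2 F1460 D4607 (iv D2448)
theorem F3581 : act 0 n4607 = n2465 := d10_3 D1071 (iv F1459) D4607 (iv D2465) (iv D1065) F203 D432
theorem F3582 : act 1 n2465 = n2563 := d13_2 D4607 F3581 (iv D2563) (iv D1116) D1115 D2559 F1672 D2692 F1778 F1578 (iv F1459)
theorem F3583 : act 3 n2563 = n2463 := d5_2 D2465 F3582 (iv D2463)
def n4608 : Q := act 4 n2356
theorem D4608 : act 4 n2356 = n4608 := rfl
theorem F3584 : act 0 n4608 = n2478 := d3_1 D4608 (iv D2478) (iv F1459)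
theorem F3585 : act 1 n4608 = n2358 := d6_1 D4608 (iv D2358) D2356
theorem F3586 : act 3 n4608 = n2456 := d12_2 F1460 D4608 (iv D2456) (iv D1061) (iv D428) D427 D1058
def n4609 : Q := act 2 n2358
theorem D4609 : act 2 n2358 = n4609 := rfl
def n4610 : Q := act 3 n2358
theorem D4610 : act 3 n2358 = n4610 := rfl
theorem F3587 : act 0 n4610 = n3982 := d2_1 D4610 (iv D3982) F1150 D1934 D3995 (iv F3578) F3577
theorem F3588 : act 1 n4610 = n2456 := d5_1 D4610 (iv F3586) F3585
theorem F3589 : act 2 n4045 = n4610 := d10_2 D1965 D4045 F3587 (iv D3982) F1150 D1933 F1153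
theorem F3590 : act 3 n4609 = n4045 := d7_0 F3589 (iv D4610) D4609
theorem F3591 : act 4 n4610 = n4071 := d11_1 F3589 (iv D4071) F1213 (iv F2206) (iv D1968) (iv F1200) D4045
def n4611 : Q := act 0 n2361
theorem D4611 : act 0 n2361 = n4611 := rfl
theorem F3592 : act 3 n4611 = n4009 := d2_2 (iv F1537) D4611 (iv D4009) (iv D1942) D1940 D4004 F2995
def n4612 : Q := act 1 n2361
theorem D4612 : act 1 n2361 = n4612 := rfl
theorem F3593 : act 3 n4612 = n4069 := d5_2 (iv F1537) D4612 (iv D4069)
theorem F3594 : act 0 n4612 = n2587 := d16_6 D1017 F544 (iv D1017) (iv F538) D2361 D4612 (iv D2587) (iv D1130) (iv D458) (iv D173) (iv F65) (iv F187)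
def n4613 : Q := act 4 n2361
theorem D4613 : act 4 n2361 = n4613 := rfl
def n4614 : Q := act 2 n2363
theorem D4614 : act 2 n2363 = n4614 := rfl
def n4615 : Q := act 4 n2363
theorem D4615 : act 4 n2363 = n4615 := rfl
theorem F3595 : act 0 n4615 = n2366 := d3_1 D4615 (iv D2366) D2363
def n4616 : Q := act 3 n2364
theorem D4616 : act 3 n2364 = n4616 := rfl
theorem F3596 : act 1 n4616 = n2448 := d5_1 D4616 (iv F3580) F3579
theorem F3597 : act 2 n4616 = n2365 := d7_1 D4616 (iv D2365) D2364
theorem F3598 : act 0 n4099 = n4616 := d0_7 F3596 F1555 F580 (iv F693) F691 D2007 D4099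
def n4617 : Q := act 4 n2364
theorem D4617 : act 4 n2364 = n4617 := rfl
theorem F3599 : act 0 n4617 = n3584 := d3_1 D4617 (iv D3584) F2017
def n4618 : Q := act 0 n2365
theorem D4618 : act 0 n2365 = n4618 := rfl
theorem F3600 : act 1 n4618 = n4110 := d0_2 (iv F1466) D4618 F3096 (iv F3535) (iv D4578) F1440 (iv F539)
def n4619 : Q := act 4 n2365
theorem D4619 : act 4 n2365 = n4619 := rfl
theorem F3601 : act 1 n4619 = n2367 := d6_1 D4619 (iv D2367) (iv F1466)
theorem F3602 : act 3 n4541 = n4619 := d5_0 F3601 F1469 D4541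
def n4620 : Q := act 2 n2366
theorem D4620 : act 2 n2366 = n4620 := rfl
def n4621 : Q := act 3 n2366
theorem D4621 : act 3 n2366 = n4621 := rfl
theorem F3603 : act 1 n4621 = n2368 := d5_1 D4621 (iv D2368) (iv F1467)
def n4622 : Q := act 4 n2368
theorem D4622 : act 4 n2368 = n4622 := rfl
theorem F3604 : act 0 n4622 = n4591 := d3_1 D4622 (iv D4591) (iv F1470)
theorem F3605 : act 3 n4622 = n2411 := d9_1 D4622 F3423 (iv F1469) (iv D2367) (iv D1013) D1014 D2368
theorem F3606 : act 2 n2374 = n4622 := d7_3 F3605 (iv D2411) (iv F1475)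
def n4623 : Q := act 1 n2369
theorem D4623 : act 1 n2369 = n4623 := rfl
theorem F3607 : act 3 n4623 = n2409 := d5_2 (iv F1471) D4623 (iv D2409)
def n4624 : Q := act 4 n2369
theorem D4624 : act 4 n2369 = n4624 := rfl
theorem F3608 : act 3 n4624 = n2373 := d12_2 (iv F1471) D4624 (iv F1667) (iv D2390) (iv D1025) D1024 (iv F554)
def n4625 : Q := act 1 n2370
theorem D4625 : act 1 n2370 = n4625 := rfl
def n4626 : Q := act 0 n2371
theorem D4626 : act 0 n2371 = n4626 := rfl
def n4627 : Q := act 2 n2371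
theorem D4627 : act 2 n2371 = n4627 := rfl
def n4628 : Q := act 3 n2371
theorem D4628 : act 3 n2371 = n4628 := rfl
theorem F3609 : act 1 n4628 = n2372 := d5_1 D4628 (iv D2372) D2371
def n4629 : Q := act 4 n2371
theorem D4629 : act 4 n2371 = n4629 := rfl
theorem F3610 : act 1 n4629 = n2373 := d6_1 D4629 (iv D2373) D2371
def n4630 : Q := act 4 n2372
theorem D4630 : act 4 n2372 = n4630 := rfl
theorem F3611 : act 3 n4630 = n2410 := d9_1 D4630 (iv D2410) (iv F1471) D4624 F3608 (iv D2373) D2372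
def n4631 : Q := act 0 n2375
theorem D4631 : act 0 n2375 = n4631 := rfl
def n4632 : Q := act 2 n2375
theorem D4632 : act 2 n2375 = n4632 := rfl
def n4633 : Q := act 3 n2375
theorem D4633 : act 3 n2375 = n4633 := rfl
theorem F3612 : act 1 n4633 = n2376 := d5_1 D4633 (iv D2376) D2375
def n4634 : Q := act 4 n2375
theorem D4634 : act 4 n2375 = n4634 := rfl
theorem F3613 : act 1 n4634 = n2377 := d6_1 D4634 (iv D2377) D2375
def n4635 : Q := act 4 n2376
theorem D4635 : act 4 n2376 = n4635 := rfl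
theorem F3614 : act 0 n4635 = n4630 := d3_1 D4635 (iv D4630) (iv F1476)
theorem F3615 : act 3 n4635 = n2401 := d12_2 D2376 D4635 F1496 (iv F1665) (iv D2383) (iv D1020) D1018
def n4636 : Q := act 3 n2377
theorem D4636 : act 3 n2377 = n4636 := rfl
theorem F3616 : act 0 n4636 = n4624 := d2_1 D4636 F3608 (iv F1667) (iv D2390) F549 F1663 (iv F1477)
theorem F3617 : act 4 n4636 = n2400 := d9_2 D2377 D4636 (iv D2400) D2401 (iv F3615) (iv D4635) (iv D2376)
def n4637 : Q := act 2 n2378
theorem D4637 : act 2 n2378 = n4637 := rfl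
def n4638 : Q := act 4 n2378
theorem D4638 : act 4 n2378 = n4638 := rfl
theorem F3618 : act 0 n4638 = n2381 := d3_1 D4638 (iv D2381) D2378
theorem F3619 : act 1 n4638 = n3635 := d6_1 D4638 F3163 F3161
theorem F3620 : act 3 n3724 = n4638 := d5_0 F3619 F2687 D3724
def n4639 : Q := act 0 n2379
theorem D4639 : act 0 n2379 = n4639 := rfl
theorem F3621 : act 3 n4639 = n4153 := d10_4 F2110 (iv D2378) D2379 D4639 F3157 (iv D3024) D3023
theorem F3622 : act 1 n4155 = n4639 := d5_3 F3621 (iv D4153) D4155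
def n4640 : Q := act 3 n2379
theorem D4640 : act 3 n2379 = n4640 := rfl
theorem F3623 : act 1 n4640 = n2590 := d5_1 D4640 (iv D2590) (iv F1478)
theorem F3624 : act 2 n4640 = n2380 := d7_1 D4640 (iv D2380) D2379
def n4641 : Q := act 4 n2379
theorem D4641 : act 4 n2379 = n4641 := rfl
theorem F3625 : act 1 n4641 = n2591 := d6_1 D4641 (iv D2591) (iv F1478)
def n4642 : Q := act 0 n2380
theorem D4642 : act 0 n2380 = n4642 := rfl
theorem F3626 : act 1 n4642 = n4255 := d14_4 (iv F188) (iv F545) (iv F1479) D4642 (iv D4255) (iv D2078) (iv D884) F162 F56 (iv F30) (iv F76)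
def n4643 : Q := act 4 n2380
theorem D4643 : act 4 n2380 = n4643 := rfl
theorem F3627 : act 1 n4643 = n2383 := d6_1 D4643 (iv D2383) (iv F1479)
theorem F3628 : act 3 n4643 = n2396 := d9_1 D4643 (iv D2396) (iv D1028) D1029 (iv F1660) (iv D2381) D2380
def n4644 : Q := act 1 n2382
theorem D4644 : act 1 n2382 = n4644 := rfl
theorem F3629 : act 3 n4644 = n4625 := d5_2 (iv F1481) D4644 (iv D4625)
def n4645 : Q := act 4 n2382
theorem D4645 : act 4 n2382 = n4645 := rfl
theorem F3630 : act 0 n4645 = n2383 := d3_1 D4645 (iv D2383) D2382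
theorem F3631 : act 3 n4645 = n2389 := d9_1 D4645 (iv D2389) (iv D1024) D1025 D2390 (iv F1666) (iv F1481)
def n4646 : Q := act 1 n2386
theorem D4646 : act 1 n2386 = n4646 := rfl
theorem F3632 : act 0 n4646 = n2615 := d0_1 D4646 F1718 F806 (iv D902) D901 D2118 (iv F1483)
theorem F3633 : act 2 n4646 = n2608 := d4_2 D2386 D4646 F1715 (iv D1581) (iv F520) F521 D1023
def n4647 : Q := act 3 n2386
theorem D4647 : act 3 n2386 = n4647 := rfl
theorem F3634 : act 2 n4647 = n2387 := d7_1 D4647 (iv D2387) D2386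
def n4648 : Q := act 4 n2386
theorem D4648 : act 4 n2386 = n4648 := rfl
theorem F3635 : act 0 n4648 = n4316 := d3_1 D4648 (iv D4316) (iv F1483)
def n4649 : Q := act 4 n2387
theorem D4649 : act 4 n2387 = n4649 := rfl
theorem F3636 : act 1 n4649 = n2389 := d6_1 D4649 (iv D2389) (iv F1484)
def n4650 : Q := act 3 n2388
theorem D4650 : act 3 n2388 = n4650 := rfl
theorem F3637 : act 1 n4650 = n2390 := d5_1 D4650 (iv D2390) (iv F1485)
theorem F3638 : act 4 n4625 = n4650 := d6_0 F3637 (iv F1666) D4625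
def n4651 : Q := act 3 n2391
theorem D4651 : act 3 n2391 = n4651 := rfl
theorem F3639 : act 1 n4651 = n4369 := d5_1 D4651 (iv D4369) (iv F1486)
theorem F3640 : act 2 n4651 = n2392 := d7_1 D4651 (iv D2392) D2391
def n4652 : Q := act 0 n2393
theorem D4652 : act 0 n2393 = n4652 := rfl
theorem F3641 : act 3 n4652 = n4513 := d2_2 D2393 D4652 F3473 (iv F3337) (iv D4404) (iv D2176) F1279
theorem F3642 : act 1 n4514 = n4652 := d5_3 F3641 (iv D4513) D4514
def n4653 : Q := act 4 n2393
theorem D4653 : act 4 n2393 = n4653 := rfl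
theorem F3643 : act 1 n4653 = n2619 := d6_1 D4653 (iv D2619) (iv F1488)
def n4654 : Q := act 2 n2394
theorem D4654 : act 2 n2394 = n4654 := rfl
theorem F3644 : act 4 n4654 = n2487 := d8_2 D2394 D4654 (iv D2487) (iv F1037) F1036 (iv D1029) D1027
theorem F3645 : act 1 n2530 = n4654 := d6_3 F3644 F1586 D2530
def n4655 : Q := act 3 n2394
theorem D4655 : act 3 n2394 = n4655 := rfl
theorem F3646 : act 1 n4655 = n2621 := d5_1 D4655 (iv D2621) (iv F1491)
def n4656 : Q := act 2 n2395
theorem D4656 : act 2 n2395 = n4656 := rfl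
def n4657 : Q := act 4 n2395
theorem D4657 : act 4 n2395 = n4657 := rfl
theorem F3647 : act 0 n4657 = n2396 := d3_1 D4657 (iv D2396) D2395
theorem F3648 : act 1 n4657 = n3637 := d6_1 D4657 F3404 F3359
theorem F3649 : act 3 n4657 = n3636 := d9_1 D4657 F2688 F2110 D4638 (iv F3620) F3401 F2304
def n4658 : Q := act 2 n2396
theorem D4658 : act 2 n2396 = n4658 := rfl
def n4659 : Q := act 0 n2398
theorem D4659 : act 0 n2398 = n4659 := rfl
def n4660 : Q := act 2 n2398
theorem D4660 : act 2 n2398 = n4660 := rfl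
def n4661 : Q := act 3 n2398
theorem D4661 : act 3 n2398 = n4661 := rfl
theorem F3650 : act 1 n4661 = n2400 := d5_1 D4661 (iv D2400) D2398
def n4662 : Q := act 4 n2398
theorem D4662 : act 4 n2398 = n4662 := rfl
theorem F3651 : act 1 n4662 = n2401 := d6_1 D4662 (iv D2401) D2398
def n4663 : Q := act 1 n2399
theorem D4663 : act 1 n2399 = n4663 := rfl
theorem F3652 : act 3 n4663 = n3805 := d5_2 F3548 D4663 (iv F3546)
def n4664 : Q := act 2 n2406
theorem D4664 : act 2 n2406 = n4664 := rfl
theorem F3653 : act 3 n4664 = n3999 := d7_2 (iv F1540) D4664 (iv D3999)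
theorem F3654 : act 0 n4664 = n4054 := d10_3 (iv F1529) D2406 D4664 (iv D4054) (iv D1978) (iv D841) (iv F441)
def n4665 : Q := act 4 n2406
theorem D4665 : act 4 n2406 = n4665 := rfl
theorem F3655 : act 0 n4665 = n2408 := d3_1 D4665 (iv D2408) D2406
theorem F3656 : act 1 n4665 = n2638 := d6_1 D4665 (iv D2638) (iv F1497)
theorem F3657 : act 3 n4665 = n4013 := d9_1 D4665 (iv D4013) (iv F1536) (iv D2354) (iv F1530) D1938 (iv F1540)
def n4666 : Q := act 0 n2407
theorem D4666 : act 0 n2407 = n4666 := rfl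
theorem F3658 : act 3 n4666 = n4000 := d2_2 F1543 D4666 (iv D4000) F1158 D2254 (iv F3044) (iv D4051)
def n4667 : Q := act 1 n2407
theorem D4667 : act 1 n2407 = n4667 := rfl
theorem F3659 : act 3 n4667 = n2611 := d5_2 F1543 D4667 F1717
theorem F3660 : act 0 n4667 = n2624 := d16_6 (iv F543) F542 F543 D1033 D2407 D4667 (iv D2624) (iv D1150) F225 F77 (iv F66) D414
def n4668 : Q := act 4 n2407
theorem D4668 : act 4 n2407 = n4668 := rfl
def n4669 : Q := act 2 n2408
theorem D4669 : act 2 n2408 = n4669 := rfl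
theorem F3661 : act 3 n4669 = n4071 := d7_2 (iv F1535) D4669 (iv D4071)
theorem F3662 : act 4 n4050 = n4669 := d9_0 F3661 (iv F3591) (iv D4610) (iv D2358) F1525 D1974 D4050
def n4670 : Q := act 0 n2409
theorem D4670 : act 0 n2409 = n4670 := rfl
def n4671 : Q := act 2 n2409
theorem D4671 : act 2 n2409 = n4671 := rfl
def n4672 : Q := act 4 n2409
theorem D4672 : act 4 n2409 = n4672 := rfl
theorem F3663 : act 1 n4672 = n2410 := d6_1 D4672 (iv D2410) D2409
def n4673 : Q := act 1 n2411
theorem D4673 : act 1 n2411 = n4673 := rfl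
theorem F3664 : act 4 n4673 = n4541 := d6_2 (iv F3423) D4673 (iv D4541)
def n4674 : Q := act 3 n2415
theorem D4674 : act 3 n2415 = n4674 := rfl
def n4675 : Q := act 4 n2416
theorem D4675 : act 4 n2416 = n4675 := rfl
theorem F3665 : act 2 n4675 = n2423 := d11_2 F2344 D4675 (iv F3418) (iv D3345) (iv D1575) D1574 (iv F2345)
def n4676 : Q := act 1 n2417
theorem D4676 : act 1 n2417 = n4676 := rfl
def n4677 : Q := act 3 n2417
theorem D4677 : act 3 n2417 = n4677 := rfl
theorem F3666 : act 2 n4677 = n2418 := d7_1 D4677 (iv D2418) D2417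
def n4678 : Q := act 4 n2417
theorem D4678 : act 4 n2417 = n4678 := rfl
def n4679 : Q := act 4 n2418
theorem D4679 : act 4 n2418 = n4679 := rfl
theorem F3667 : act 1 n4679 = n2431 := d6_1 D4679 (iv D2431) (iv F1500)
theorem F3668 : act 3 n4679 = n2423 := d9_1 D4679 (iv D2423) (iv D1041) (iv D418) D417 D1039 D2418
def n4680 : Q := act 3 n2419
theorem D4680 : act 3 n2419 = n4680 := rfl
theorem F3669 : act 1 n4680 = n2420 := d5_1 D4680 (iv D2420) D2419
def n4681 : Q := act 4 n2420
theorem D4681 : act 4 n2420 = n4681 := rfl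
def n4682 : Q := act 3 n2421
theorem D4682 : act 3 n2421 = n4682 := rfl
def n4683 : Q := act 1 n2422
theorem D4683 : act 1 n2422 = n4683 := rfl
def n4684 : Q := act 3 n2424
theorem D4684 : act 3 n2424 = n4684 := rfl
theorem F3670 : act 1 n4684 = n2426 := d5_1 D4684 (iv D2426) (iv F1503)
theorem F3671 : act 0 n4684 = n2729 := d12_3 D1042 D2424 D4684 (iv D2729) (iv D1203) (iv D489) (iv F194)
def n4685 : Q := act 4 n2425
theorem D4685 : act 4 n2425 = n4685 := rfl
theorem F3672 : act 1 n4685 = n2427 := d6_1 D4685 (iv D2427) (iv F1504)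
def n4686 : Q := act 4 n2426
theorem D4686 : act 4 n2426 = n4686 := rfl
theorem F3673 : act 0 n4686 = n2735 := d3_1 D4686 (iv D2735) (iv F1506)
theorem F3674 : act 3 n4686 = n2427 := d9_1 D4686 (iv D2427) (iv D1045) (iv D421) D420 D1044 D2426
theorem F3675 : act 2 n4686 = n2431 := d11_2 (iv F1505) D4686 F1514 (iv F2179) (iv D461) (iv F220) D1134
def n4687 : Q := act 0 n2428
theorem D4687 : act 0 n2428 = n4687 := rfl
theorem F3676 : act 4 n4687 = n4023 := d3_2 (iv F1819) D4687 F3013
theorem F3677 : act 1 n4687 = n4025 := d15_5 F262 (iv F199) D1046 D2428 D4687 F3015 F1208 (iv F1202) F1201 (iv D1312) (iv D541) D540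
def n4688 : Q := act 2 n2428
theorem D4688 : act 2 n2428 = n4688 := rfl
def n4689 : Q := act 3 n2428
theorem D4689 : act 3 n2428 = n4689 := rfl
theorem F3678 : act 1 n4689 = n2429 := d5_1 D4689 (iv D2429) D2428
def n4690 : Q := act 4 n2429
theorem D4690 : act 4 n2429 = n4690 := rfl
theorem F3679 : act 0 n4690 = n2740 := d3_1 D4690 (iv D2740) (iv F1510)
theorem F3680 : act 2 n4690 = n2596 := d8_1 D4690 (iv D2596) (iv F1505) D4686 F3675 (iv D2431) (iv F1509)
theorem F3681 : act 3 n4690 = n2434 := d9_1 D4690 (iv D2434) (iv D1049) D1050 (iv F1513) (iv D2430) D2429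
def n4691 : Q := act 0 n2432
theorem D4691 : act 0 n2432 = n4691 := rfl
theorem F3682 : act 4 n4691 = n3406 := d3_2 F3323 D4691 (iv F3319)
def n4692 : Q := act 3 n2432
theorem D4692 : act 3 n2432 = n4692 := rfl
theorem F3683 : act 2 n4692 = n2433 := d7_1 D4692 (iv D2433) D2432
def n4693 : Q := act 0 n2433
theorem D4693 : act 0 n2433 = n4693 := rfl
theorem F3684 : act 1 n4693 = n4499 := d15_5 (iv F572) (iv D1051) (iv F568) (iv F1516) D4693 (iv D4499) F1394 D2264 F2213 (iv D1324) F268 D548
def n4694 : Q := act 4 n2433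
theorem D4694 : act 4 n2433 = n4694 := rfl
theorem F3685 : act 1 n4694 = n2434 := d6_1 D4694 (iv D2434) (iv F1516)
def n4695 : Q := act 0 n2435
theorem D4695 : act 0 n2435 = n4695 := rfl
theorem F3686 : act 4 n4695 = n3211 := d3_2 F2199 D4695 (iv D3211)
theorem F3687 : act 3 n4695 = n3037 := d12_4 D568 D1381 (iv F1518) D4695 (iv D3037) (iv D1375) (iv D566)
def n4696 : Q := act 2 n2435
theorem D4696 : act 2 n2435 = n4696 := rfl
theorem F3688 : act 3 n4696 = n3049 := d7_2 (iv F1518) D4696 (iv D3049)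
def n4697 : Q := act 3 n2438
theorem D4697 : act 3 n2438 = n4697 := rfl
theorem F3689 : act 0 n4697 = n3045 := d2_1 D4697 (iv F2320) (iv D3222) (iv D1511) F307 D1053 D2438
theorem F3690 : act 1 n4697 = n2503 := d5_1 D4697 (iv F1596) F1565
theorem F3691 : act 2 n4697 = n2757 := d7_1 D4697 (iv D2757) (iv F1523)
def n4698 : Q := act 4 n2438
theorem D4698 : act 4 n2438 = n4698 := rfl
theorem F3692 : act 0 n4698 = n2439 := d3_1 D4698 (iv D2439) D2438
theorem F3693 : act 1 n4698 = n3776 := d6_1 D4698 (iv D3776) F1565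
def n4699 : Q := act 2 n2439
theorem D4699 : act 2 n2439 = n4699 := rfl
theorem F3694 : act 4 n4699 = n2607 := d17_3 D1059 (iv F1546) D4699 F1714 F1713 D2611 F1717 (iv D1976) (iv D840) D838 F1524 (iv D1058)
theorem F3695 : act 1 n2612 = n4699 := d17_1 D2612 (iv D4699) (iv D2439) F575 F574 D1058 (iv F1524) (iv D838) D840 D1976 (iv F1717) (iv D2611)
def n4700 : Q := act 3 n2439
theorem D4700 : act 3 n2439 = n4700 := rfl
theorem F3696 : act 1 n4700 = n2451 := d5_1 D4700 (iv D2451) (iv F1546)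
def n4701 : Q := act 3 n2440
theorem D4701 : act 3 n2440 = n4701 := rfl
theorem F3697 : act 1 n4701 = n2614 := d5_1 D4701 (iv D2614) (iv F1547)
theorem F3698 : act 2 n4701 = n2441 := d7_1 D4701 (iv D2441) D2440
def n4702 : Q := act 0 n2441
theorem D4702 : act 0 n2441 = n4702 := rfl
def n4703 : Q := act 4 n2441
theorem D4703 : act 4 n2441 = n4703 := rfl
theorem F3699 : act 1 n4703 = n2457 := d6_1 D4703 (iv D2457) (iv F1549)
def n4704 : Q := act 4 n2442
theorem D4704 : act 4 n2442 = n4704 := rfl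
theorem F3700 : act 0 n4704 = n2477 := d3_1 D4704 (iv D2477) (iv F1551)
theorem F3701 : act 1 n4704 = n3349 := d6_1 D4704 (iv D3349) (iv F1550)
def n4705 : Q := act 2 n2443
theorem D4705 : act 2 n2443 = n4705 := rfl
theorem F3702 : act 0 n4705 = n2461 := d1_1 D4705 (iv D2461) F581 D1067 (iv F1554) (iv D2446) (iv F1552)
def n4706 : Q := act 3 n2443
theorem D4706 : act 3 n2443 = n4706 := rfl
theorem F3703 : act 1 n4706 = n3351 := d5_1 D4706 (iv D3351) (iv F1553)
def n4707 : Q := act 2 n2444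
theorem D4707 : act 2 n2444 = n4707 := rfl
theorem F3704 : act 0 n4707 = n2458 := d1_1 D4707 F1564 (iv F1555) (iv D2448) (iv D1058) (iv F578) D2444
theorem F3705 : act 1 n4707 = n4576 := d4_1 D4707 F3532 F1440 (iv F1443) (iv F1544) D3804 F2831
theorem F3706 : act 3 n4575 = n4707 := d5_0 F3705 (iv D4576) D4575
def n4708 : Q := act 3 n2444
theorem D4708 : act 3 n2444 = n4708 := rfl
theorem F3707 : act 0 n4708 = n2476 := d2_1 D4708 (iv D2476) (iv F1551) (iv D2442) (iv D1055) D1056 D2444
theorem F3708 : act 1 n4708 = n4583 := d5_1 D4708 F3541 F2831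
theorem F3709 : act 2 n4708 = n4575 := d7_1 D4708 F3706 (iv D4707)
def n4709 : Q := act 4 n2444
theorem D4709 : act 4 n2444 = n4709 := rfl
theorem F3710 : act 0 n4709 = n2445 := d3_1 D4709 (iv D2445) D2444
def n4710 : Q := act 2 n2445
theorem D4710 : act 2 n2445 = n4710 := rfl
def n4711 : Q := act 3 n2445
theorem D4711 : act 3 n2445 = n4711 := rfl
def n4712 : Q := act 1 n2446
theorem D4712 : act 1 n2446 = n4712 := rfl
theorem F3711 : act 0 n4712 = n3253 := d0_1 D4712 F2350 (iv F2346) (iv F2902) F2901 F1116 (iv F1554)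
theorem F3712 : act 4 n4712 = n3250 := d6_2 F2904 D4712 (iv F2903)
def n4713 : Q := act 3 n2446
theorem D4713 : act 3 n2446 = n4713 := rfl
theorem F3713 : act 2 n4713 = n2447 := d7_1 D4713 (iv D2447) D2446
def n4714 : Q := act 0 n2447
theorem D4714 : act 0 n2447 = n4714 := rfl
def n4715 : Q := act 4 n2447
theorem D4715 : act 4 n2447 = n4715 := rfl
def n4716 : Q := act 4 n2448
theorem D4716 : act 4 n2448 = n4716 := rfl
theorem F3714 : act 0 n4716 = n2460 := d3_1 D4716 (iv D2460) (iv F1555)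
def n4717 : Q := act 2 n2449
theorem D4717 : act 2 n2449 = n4717 := rfl
def n4718 : Q := act 3 n2449
theorem D4718 : act 3 n2449 = n4718 := rfl
theorem F3715 : act 0 n4718 = n2480 := d2_1 D4718 (iv D2480) F583 D1074 (iv F1558) (iv D2451) (iv F1556)
theorem F3716 : act 1 n4718 = n4050 := d5_1 D4718 (iv D4050) (iv F1557)
def n4719 : Q := act 0 n2450
theorem D4719 : act 0 n2450 = n4719 := rfl
def n4720 : Q := act 1 n2450
theorem D4720 : act 1 n2450 = n4720 := rfl
def n4721 : Q := act 3 n2450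
theorem D4721 : act 3 n2450 = n4721 := rfl
theorem F3717 : act 2 n4721 = n2451 := d7_1 D4721 (iv D2451) D2450
def n4722 : Q := act 4 n2450
theorem D4722 : act 4 n2450 = n4722 := rfl
def n4723 : Q := act 4 n2451
theorem D4723 : act 4 n2451 = n4723 := rfl
theorem F3718 : act 0 n4723 = n2485 := d3_1 D4723 (iv D2485) (iv F1558)
theorem F3719 : act 3 n4723 = n2457 := d9_1 D4723 (iv D2457) (iv D1061) (iv D428) D427 D1059 D2451
def n4724 : Q := act 3 n2452
theorem D4724 : act 3 n2452 = n4724 := rfl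
theorem F3720 : act 0 n4724 = n2493 := d10_1 D4724 (iv D2493) (iv D1079) (iv D435) (iv F202) D1060 D2452
def n4725 : Q := act 2 n2453
theorem D4725 : act 2 n2453 = n4725 := rfl
theorem F3721 : act 0 n4725 = n4397 := d1_1 D4725 F3330 F2597 (iv D2792) D2791 (iv F2471) (iv F1559)
theorem F3722 : act 1 n4725 = n2613 := d4_1 D4725 (iv D2613) (iv F1547) (iv D2440) F576 D1060 D2453
theorem F3723 : act 4 n4725 = n4394 := d11_1 D4725 F3324 (iv D4394) D4395 F3326 (iv F2471) (iv F1559)
def n4726 : Q := act 3 n2453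
theorem D4726 : act 3 n2453 = n4726 := rfl
theorem F3724 : act 1 n4726 = n2454 := d5_1 D4726 (iv D2454) D2453
def n4727 : Q := act 0 n2454
theorem D4727 : act 0 n2454 = n4727 := rfl
def n4728 : Q := act 4 n2454
theorem D4728 : act 4 n2454 = n4728 := rfl
def n4729 : Q := act 3 n2455
theorem D4729 : act 3 n2455 = n4729 := rfl
theorem F3725 : act 1 n4729 = n3531 := d5_1 D4729 (iv D3531) (iv F1562)
def n4730 : Q := act 2 n2456
theorem D4730 : act 2 n2456 = n4730 := rfl
theorem F3726 : act 0 n4730 = n2486 := d10_3 D1061 D2456 D4730 (iv D2486) (iv D1075) (iv D434) (iv F202)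
def n4731 : Q := act 4 n2456
theorem D4731 : act 4 n2456 = n4731 := rfl
theorem F3727 : act 0 n4731 = n2457 := d3_1 D4731 (iv D2457) D2456
theorem F3728 : act 1 n4731 = n4071 := d6_1 D4731 (iv F3591) F3588
theorem F3729 : act 2 n4703 = n4703 := d14_9 F3728 (iv D4071) F1534 F1474 (iv F1534) D4071 (iv F3728) F3727 (iv F3699) F3699 (iv F3727)
def n4732 : Q := act 2 n2457
theorem D4732 : act 2 n2457 = n4732 := rfl
def n4733 : Q := act 4 n2458
theorem D4733 : act 4 n2458 = n4733 := rfl
theorem F3730 : act 1 n4733 = n2801 := d6_1 D4733 (iv D2801) (iv F1563)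
def n4734 : Q := act 3 n2459
theorem D4734 : act 3 n2459 = n4734 := rfl
theorem F3731 : act 1 n4734 = n2802 := d5_1 D4734 (iv D2802) (iv F1571)
theorem F3732 : act 2 n4734 = n2486 := d7_1 D4734 (iv D2486) (iv F1572)
def n4735 : Q := act 2 n2460
theorem D4735 : act 2 n2460 = n4735 := rfl
def n4736 : Q := act 3 n2460
theorem D4736 : act 3 n2460 = n4736 := rfl
theorem F3733 : act 1 n4736 = n2804 := d5_1 D4736 (iv D2804) (iv F1573)
theorem F3734 : act 0 n4736 = n2468 := d12_3 D1063 D2460 D4736 (iv D2468) (iv D1066) (iv D430) D429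
def n4737 : Q := act 3 n2461
theorem D4737 : act 3 n2461 = n4737 := rfl
theorem F3735 : act 2 n4737 = n2462 := d7_1 D4737 (iv D2462) D2461
def n4738 : Q := act 0 n2462
theorem D4738 : act 0 n2462 = n4738 := rfl
def n4739 : Q := act 4 n2462
theorem D4739 : act 4 n2462 = n4739 := rfl
theorem F3736 : act 1 n4739 = n2809 := d6_1 D4739 (iv D2809) (iv F1574)
def n4740 : Q := act 0 n2463
theorem D4740 : act 0 n2463 = n4740 := rfl
theorem F3737 : act 1 n4740 = n4085 := d0_2 D2463 D4740 F3071 F1430 (iv D2318) F527 D1065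
theorem F3738 : act 2 n4740 = n4603 := d10_2 F3583 D4740 F3572 (iv D2561) (iv D1115) D1116 D2563
def n4741 : Q := act 2 n2463
theorem D4741 : act 2 n2463 = n4741 := rfl
def n4742 : Q := act 4 n2463
theorem D4742 : act 4 n2463 = n4742 := rfl
theorem F3739 : act 1 n4742 = n2466 := d6_1 D4742 (iv D2466) D2463
def n4743 : Q := act 1 n2464
theorem D4743 : act 1 n2464 = n4743 := rfl
theorem F3740 : act 2 n4743 = n2563 := d14_1 D4743 (iv F3582) (iv F3581) F3579 (iv D2364) (iv D1012) F185 (iv F515) (iv F1415) (iv F3482) F3484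
theorem F3741 : act 3 n4741 = n4743 := d7_0 F3740 F3583 D4741
def n4744 : Q := act 3 n2464
theorem D4744 : act 3 n2464 = n4744 := rfl
theorem F3742 : act 0 n4744 = n4575 := d2_1 D4744 F3706 F3704 (iv D2458) (iv F1413) D4525 F3484
theorem F3743 : act 1 n4744 = n4741 := d5_1 D4744 F3741 (iv D4743)
theorem F3744 : act 2 n4744 = n2465 := d7_1 D4744 (iv D2465) D2464
def n4745 : Q := act 4 n2464
theorem D4745 : act 4 n2464 = n4745 := rfl
theorem F3745 : act 2 n4745 = n2481 := d11_2 D2464 D4745 (iv D2481) (iv D1073) (iv D433) (iv F203) D1065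
def n4746 : Q := act 4 n2465
theorem D4746 : act 4 n2465 = n4746 := rfl
theorem F3746 : act 3 n4746 = n2470 := d12_2 D2465 D4746 (iv D2470) (iv D1068) (iv D431) D430 D1065
def n4747 : Q := act 2 n2466
theorem D4747 : act 2 n2466 = n4747 := rfl
def n4748 : Q := act 3 n2466
theorem D4748 : act 3 n2466 = n4748 := rfl
def n4749 : Q := act 0 n2467
theorem D4749 : act 0 n2467 = n4749 := rfl
theorem F3747 : act 2 n4749 = n2477 := d11_4 (iv F203) D1066 D2467 D4749 (iv D2477) (iv D1070) (iv D432)
def n4750 : Q := act 1 n2467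
theorem D4750 : act 1 n2467 = n4750 := rfl
def n4751 : Q := act 3 n2467
theorem D4751 : act 3 n2467 = n4751 := rfl
theorem F3748 : act 2 n4751 = n2468 := d7_1 D4751 (iv D2468) D2467
def n4752 : Q := act 4 n2467
theorem D4752 : act 4 n2467 = n4752 := rfl
theorem F3749 : act 2 n4752 = n2484 := d8_1 D4752 (iv D2484) (iv D1073) (iv D433) (iv F203) D1066 D2467
def n4753 : Q := act 4 n2468
theorem D4753 : act 4 n2468 = n4753 := rfl
theorem F3750 : act 3 n4753 = n2471 := d9_1 D4753 (iv D2471) (iv D1068) (iv D431) D430 D1066 D2468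
def n4754 : Q := act 0 n2469
theorem D4754 : act 0 n2469 = n4754 := rfl
def n4755 : Q := act 4 n2469
theorem D4755 : act 4 n2469 = n4755 := rfl
def n4756 : Q := act 1 n2470
theorem D4756 : act 1 n2470 = n4756 := rfl
def n4757 : Q := act 2 n2470
theorem D4757 : act 2 n2470 = n4757 := rfl
def n4758 : Q := act 4 n2470
theorem D4758 : act 4 n2470 = n4758 := rfl
theorem F3751 : act 0 n4758 = n2471 := d3_1 D4758 (iv D2471) D2470
def n4759 : Q := act 2 n2471
theorem D4759 : act 2 n2471 = n4759 := rfl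
def n4760 : Q := act 4 n2472
theorem D4760 : act 4 n2472 = n4760 := rfl
theorem F3752 : act 0 n4760 = n2474 := d3_1 D4760 (iv D2474) D2472
theorem F3753 : act 1 n4760 = n2498 := d6_1 D4760 (iv D2498) (iv F1577)
def n4761 : Q := act 4 n2473
theorem D4761 : act 4 n2473 = n4761 := rfl
theorem F3754 : act 1 n4761 = n2478 := d6_1 D4761 (iv D2478) (iv F1578)
theorem F3755 : act 3 n2492 = n4761 := d5_0 F3754 F1582 D2492
def n4762 : Q := act 2 n2474
theorem D4762 : act 2 n2474 = n4762 := rfl
def n4763 : Q := act 3 n2474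
theorem D4763 : act 3 n2474 = n4763 := rfl
theorem F3756 : act 1 n4763 = n2480 := d5_1 D4763 (iv D2480) (iv F1580)
def n4764 : Q := act 4 n2475
theorem D4764 : act 4 n2475 = n4764 := rfl
theorem F3757 : act 1 n4764 = n2477 := d6_1 D4764 (iv D2477) D2475
def n4765 : Q := act 4 n2476
theorem D4765 : act 4 n2476 = n4765 := rfl
def n4766 : Q := act 3 n2477
theorem D4766 : act 3 n2477 = n4766 := rfl
def n4767 : Q := act 2 n2478
theorem D4767 : act 2 n2478 = n4767 := rfl
theorem F3758 : act 3 n4767 = n2493 := d7_2 (iv F1582) D4767 (iv D2493)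
def n4768 : Q := act 0 n2479
theorem D4768 : act 0 n2479 = n4768 := rfl
def n4769 : Q := act 1 n2479
theorem D4769 : act 1 n2479 = n4769 := rfl
def n4770 : Q := act 3 n2479
theorem D4770 : act 3 n2479 = n4770 := rfl
theorem F3759 : act 2 n4770 = n2480 := d7_1 D4770 (iv D2480) D2479
def n4771 : Q := act 4 n2479
theorem D4771 : act 4 n2479 = n4771 := rfl
def n4772 : Q := act 4 n2480
theorem D4772 : act 4 n2480 = n4772 := rfl
theorem F3760 : act 3 n4772 = n2494 := d9_1 D4772 (iv D2494) (iv F1582) (iv D2478) (iv D1071) D1072 D2480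
def n4773 : Q := act 1 n2481
theorem D4773 : act 1 n2481 = n4773 := rfl
def n4774 : Q := act 3 n2481
theorem D4774 : act 3 n2481 = n4774 := rfl
def n4775 : Q := act 4 n2481
theorem D4775 : act 4 n2481 = n4775 := rfl
theorem F3761 : act 0 n4775 = n2484 := d3_1 D4775 (iv D2484) D2481
def n4776 : Q := act 0 n2482
theorem D4776 : act 0 n2482 = n4776 := rfl
def n4777 : Q := act 2 n2482
theorem D4777 : act 2 n2482 = n4777 := rfl
theorem F3762 : act 1 n4777 = n2522 := d4_1 D4777 (iv D2522) (iv D1092) (iv D440) (iv F204) D1073 D2482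
def n4778 : Q := act 3 n2482
theorem D4778 : act 3 n2482 = n4778 := rfl
theorem F3763 : act 1 n4778 = n2483 := d5_1 D4778 (iv D2483) D2482
def n4779 : Q := act 4 n2482
theorem D4779 : act 4 n2482 = n4779 := rfl
theorem F3764 : act 1 n4779 = n2484 := d6_1 D4779 (iv D2484) D2482
def n4780 : Q := act 0 n2483
theorem D4780 : act 0 n2483 = n4780 := rfl
def n4781 : Q := act 4 n2483
theorem D4781 : act 4 n2483 = n4781 := rfl
def n4782 : Q := act 3 n2484
theorem D4782 : act 3 n2484 = n4782 := rfl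
def n4783 : Q := act 2 n2485
theorem D4783 : act 2 n2485 = n4783 := rfl
theorem F3765 : act 3 n4783 = n2495 := d7_2 (iv F1585) D4783 (iv D2495)
def n4784 : Q := act 4 n2486
theorem D4784 : act 4 n2486 = n4784 := rfl
def n4785 : Q := act 0 n2487
theorem D4785 : act 0 n2487 = n4785 := rfl
def n4786 : Q := act 3 n2487
theorem D4786 : act 3 n2487 = n4786 := rfl
theorem F3766 : act 1 n4786 = n2529 := d5_1 D4786 (iv D2529) (iv F1586)
theorem F3767 : act 2 n4786 = n2488 := d7_1 D4786 (iv D2488) D2487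
def n4787 : Q := act 0 n2488
theorem D4787 : act 0 n2488 = n4787 := rfl
def n4788 : Q := act 4 n2488
theorem D4788 : act 4 n2488 = n4788 := rfl
theorem F3768 : act 1 n4788 = n2490 := d6_1 D4788 (iv D2490) (iv F1587)
def n4789 : Q := act 1 n2489
theorem D4789 : act 1 n2489 = n4789 := rfl
def n4790 : Q := act 2 n2489
theorem D4790 : act 2 n2489 = n4790 := rfl
def n4791 : Q := act 3 n2489
theorem D4791 : act 3 n2489 = n4791 := rfl
def n4792 : Q := act 4 n2489
theorem D4792 : act 4 n2489 = n4792 := rfl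
theorem F3769 : act 0 n4792 = n2490 := d3_1 D4792 (iv D2490) D2489
def n4793 : Q := act 2 n2490
theorem D4793 : act 2 n2490 = n4793 := rfl
def n4794 : Q := act 3 n2490
theorem D4794 : act 3 n2490 = n4794 := rfl
def n4796 : Q := act 4 n2491
theorem D4796 : act 4 n2491 = n4796 := rfl
def n4797 : Q := act 0 n2492
theorem D4797 : act 0 n2492 = n4797 := rfl
theorem F3770 : act 1 n4797 = n2537 := d0_2 D2492 D4797 (iv D2537) (iv D1102) (iv D445) (iv F205) D1079
theorem F3771 : act 3 n4797 = n3744 := d12_4 F1579 D4761 (iv F3755) D4797 (iv D3744) (iv F1607) (iv D2472)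
def n4798 : Q := act 2 n2492
theorem D4798 : act 2 n2492 = n4798 := rfl
def n4799 : Q := act 4 n2492
theorem D4799 : act 4 n2492 = n4799 := rfl
theorem F3772 : act 1 n4799 = n2494 := d6_1 D4799 (iv D2494) D2492
def n4800 : Q := act 1 n2493
theorem D4800 : act 1 n2493 = n4800 := rfl
def n4801 : Q := act 4 n2493
theorem D4801 : act 4 n2493 = n4801 := rfl
def n4802 : Q := act 2 n2494
theorem D4802 : act 2 n2494 = n4802 := rfl
def n4805 : Q := act 2 n2498
theorem D4805 : act 2 n2498 = n4805 := rfl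
def n4806 : Q := act 3 n2498
theorem D4806 : act 3 n2498 = n4806 := rfl
def n4807 : Q := act 4 n2499
theorem D4807 : act 4 n2499 = n4807 := rfl
theorem F3773 : act 0 n4807 = n2502 := d3_1 D4807 (iv D2502) D2499
def n4808 : Q := act 4 n2500
theorem D4808 : act 4 n2500 = n4808 := rfl
theorem F3774 : act 0 n4808 = n3590 := d3_1 D4808 (iv D3590) (iv F1590)
theorem F3775 : act 1 n4808 = n2502 := d6_1 D4808 (iv D2502) D2500
theorem F3776 : act 2 n4808 = n3540 := d11_2 (iv F1592) D4808 F2602 (iv D1743) (iv D738) (iv F379) (iv F960)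
theorem F3777 : act 3 n4808 = n3539 := d12_2 F1591 D4808 F2601 (iv D1695) (iv D716) D715 (iv F959)
def n4809 : Q := act 0 n2501
theorem D4809 : act 0 n2501 = n4809 := rfl
theorem F3778 : act 1 n4809 = n4809 := d0_2 (iv F1593) D4809 (iv D4809) F1593 F959 F369 (iv F959)
def n4810 : Q := act 4 n2501
theorem D4810 : act 4 n2501 = n4810 := rfl
theorem F3779 : act 1 n4810 = n3482 := d6_1 D4810 (iv D3482) (iv F1593)
def n4811 : Q := act 2 n2502
theorem D4811 : act 2 n2502 = n4811 := rfl
theorem F3780 : act 0 n4811 = n3748 := d11_3 D1082 D2502 D4811 (iv D3748) (iv D1794) F1605 (iv D1081)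
theorem F3781 : act 1 n4811 = n3877 := d16_5 D1695 (iv F2601) (iv F3777) F3775 D4811 (iv D3877) (iv D1865) D1863 F1112 F846 (iv F945) F944
theorem E569 : n4796 = n1073 := (c17_10 (iv D439) D436 D1082 D2502 D4811 F3781 (iv D3877) (iv F2906) F2907 D4796 (iv D1073) F204 (iv F208))
theorem E570 : n2491 = n2484 := (((D2484).symm.trans (sb E569 (iv D4796)))).symm
theorem E572 : n4779 = n3683 := (((iv F3764)).symm.trans (sb E570 (iv F2718)))
theorem E573 : n4752 = n3876 := (((iv F3749)).symm.trans (sb E570 (iv F2907)))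
theorem E574 : n4782 = n1078 := ((D4782).symm.trans (sb E570 (iv D2491)))
theorem F3782 : act 1 n3683 = n2484 := (sb E572 F3764)
theorem F3783 : act 4 n3683 = n2482 := (sb E572 (iv D4779))
theorem F3784 : act 2 n3876 = n2484 := (sb E573 F3749)
theorem F3785 : act 4 n3876 = n2467 := (sb E573 (iv D4752))
theorem F3786 : act 3 n1078 = n2484 := (sb E574 (iv D4782))
theorem E575 : n4750 = n3878 := ((c17_1 D3878 (iv D4750) (iv D2467) (iv D1066) F203 F70 D165 D436 D1082 D2502 D4811 F3781 (iv D3877))).symm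
theorem F3787 : act 1 n3878 = n2467 := (sb E575 (iv D4750))
theorem E576 : n4794 = n4781 := ((c9_5 D1078 F3786 (iv D2484) D2483 D4781 (iv D4794) (iv D2490) (iv D1077))).symm
theorem F3788 : act 3 n4781 = n2490 := (sb E576 (iv D4794))
def n4812 : Q := act 3 n2502
theorem D4812 : act 3 n2502 = n4812 := rfl
theorem F3789 : act 1 n4812 = n3539 := d5_1 D4812 (iv F3777) F3775
def n4813 : Q := act 4 n2503
theorem D4813 : act 4 n2503 = n4813 := rfl
theorem F3790 : act 0 n4813 = n2504 := d3_1 D4813 (iv D2504) D2503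
def n4814 : Q := act 2 n2504
theorem D4814 : act 2 n2504 = n4814 := rfl
theorem F3791 : act 3 n4814 = n2538 := d7_2 F1598 D4814 (iv D2538)
def n4815 : Q := act 0 n2505
theorem D4815 : act 0 n2505 = n4815 := rfl
theorem F3792 : act 2 n4815 = n3757 := d11_4 (iv D1082) D1084 D2505 D4815 (iv D3757) (iv F2378) (iv D2499)
def n4816 : Q := act 1 n2505
theorem D4816 : act 1 n2505 = n4816 := rfl
def n4817 : Q := act 3 n2505
theorem D4817 : act 3 n2505 = n4817 := rfl
theorem F3793 : act 2 n4817 = n2506 := d7_1 D4817 (iv D2506) D2505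
def n4818 : Q := act 4 n2505
theorem D4818 : act 4 n2505 = n4818 := rfl
def n4819 : Q := act 0 n2506
theorem D4819 : act 0 n2506 = n4819 := rfl
theorem F3794 : act 3 n4819 = n3776 := d12_4 (iv D1083) D1084 D2506 D4819 (iv D3776) F1596 (iv D2503)
def n4820 : Q := act 4 n2506
theorem D4820 : act 4 n2506 = n4820 := rfl
theorem F3795 : act 1 n4820 = n2517 := d6_1 D4820 (iv D2517) (iv F1599)
theorem F3796 : act 3 n4820 = n2539 := d9_1 D4820 (iv D2539) F1598 (iv D2504) (iv D1083) D1084 D2506
def n4821 : Q := act 2 n2507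
theorem D4821 : act 2 n2507 = n4821 := rfl
theorem F3797 : act 3 n4821 = n3800 := d7_2 (iv F3019) D4821 F3020
def n4822 : Q := act 4 n2507
theorem D4822 : act 4 n2507 = n4822 := rfl
theorem F3798 : act 0 n4822 = n2510 := d3_1 D4822 (iv D2510) D2507
def n4823 : Q := act 4 n2508
theorem D4823 : act 4 n2508 = n4823 := rfl
theorem F3799 : act 1 n4823 = n3483 := d6_1 D4823 (iv D3483) (iv F1600)
theorem F3800 : act 3 n3498 = n4823 := d5_0 F3799 F2546 D3498
def n4824 : Q := act 4 n2509
theorem D4824 : act 4 n2509 = n4824 := rfl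
theorem F3801 : act 0 n4824 = n2917 := d3_1 D4824 (iv D2917) F1604
theorem F3802 : act 1 n4824 = n2511 := d6_1 D4824 (iv D2511) (iv F1602)
theorem F3803 : act 3 n2631 = n4824 := d5_0 F3802 F1611 D2631
theorem F3804 : act 2 n4373 = n4824 := d16_4 D2199 (iv F3308) (iv D4375) D4373 F3802 F1609 F734 (iv F565) (iv F1504) (iv F3288) F3287 F1315
theorem E577 : n4459 = n2627 := (c16_1 D4459 (iv D2627) D2629 F1723 (iv F1610) (iv F3802) F3801 (iv F1973) D3186 (iv F3452) (iv D4484) (iv F3433) (iv D4457))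
theorem F3805 : act 2 n2627 = n2218 := (sb E577 F3436)
theorem F3806 : act 3 n2627 = n2217 := (sb E577 (iv D4459))
theorem F3807 : act 2 n3470 = n4371 := d17_10 (iv D4376) D4373 F3804 (iv D4824) F1603 (iv D1650) (iv D696) (iv F354) (iv F954) D3470 F3304 (iv F3309)
theorem F3808 : act 4 n3474 = n4369 := d17_3 D697 (iv F957) D3474 F3302 F1321 D2159 D4373 F3804 (iv D4824) F1603 (iv D1650) (iv D696)
def n4825 : Q := act 2 n2510
theorem D4825 : act 2 n2510 = n4825 := rfl
theorem F3809 : act 1 n4825 = n4221 := d16_5 D1303 (iv F1612) (iv D2512) (iv F1608) D4825 (iv D4221) (iv D2064) D2062 D4213 (iv F3171) F1503 F562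
def n4826 : Q := act 3 n2510
theorem D4826 : act 3 n2510 = n4826 := rfl
theorem F3810 : act 1 n4826 = n2512 := d5_1 D4826 (iv D2512) (iv F1608)
theorem F3811 : act 0 n4826 = n2919 := d12_3 (iv D2509) D2510 D4826 (iv D2919) (iv D1301) D1300 F1604
theorem E578 : n4179 = n2579 := ((c16_7 D2919 (iv F3811) (iv D4826) F1608 F592 D1127 D2579 (iv D4179) (iv F2994) (iv D4003) (iv F2969) F2968 F1969)).symm
theorem F3812 : act 2 n2579 = n2046 := (sb E578 F3139)
theorem F3813 : act 3 n2579 = n2045 := (sb E578 (iv D4179))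
def n4827 : Q := act 4 n2512
theorem D4827 : act 4 n2512 = n4827 := rfl
theorem F3814 : act 0 n4827 = n2920 := d3_1 D4827 (iv D2920) (iv F1612)
theorem F3815 : act 3 n4827 = n2542 := d9_1 D4827 F2178 (iv F1611) (iv D2511) (iv D1086) D1087 D2512
theorem F3816 : act 2 n4827 = n2517 := d11_2 (iv F1613) D4827 F1620 F2189 (iv D577) (iv F281) (iv F626)
def n4828 : Q := act 1 n2513
theorem D4828 : act 1 n2513 = n4828 := rfl
theorem F3817 : act 3 n4828 = n2540 := d5_2 (iv F1614) D4828 (iv D2540)
def n4829 : Q := act 4 n2513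
theorem D4829 : act 4 n2513 = n4829 := rfl
theorem F3818 : act 0 n4829 = n2922 := d3_1 D4829 (iv D2922) (iv F1615)
theorem F3819 : act 2 n4829 = n2584 := d8_1 D4829 F1695 (iv F1610) (iv D2511) F590 D1088 D2513
theorem F3820 : act 3 n4829 = n2516 := d12_2 (iv F1614) D4829 F1618 F1199 (iv D497) D496 (iv F607)
def n4830 : Q := act 0 n2514
theorem D4830 : act 0 n2514 = n4830 := rfl
def n4831 : Q := act 2 n2514
theorem D4831 : act 2 n2514 = n4831 := rfl
def n4832 : Q := act 3 n2514
theorem D4832 : act 3 n2514 = n4832 := rfl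
theorem F3821 : act 1 n4832 = n2515 := d5_1 D4832 (iv D2515) D2514
def n4833 : Q := act 4 n2514
theorem D4833 : act 4 n2514 = n4833 := rfl
theorem F3822 : act 1 n4833 = n2516 := d6_1 D4833 (iv D2516) D2514
def n4834 : Q := act 4 n2515
theorem D4834 : act 4 n2515 = n4834 := rfl
theorem F3823 : act 0 n4834 = n2927 := d3_1 D4834 (iv D2927) (iv F1616)
theorem F3824 : act 2 n4834 = n2583 := d8_1 D4834 (iv D2583) (iv F1613) D4827 F3816 (iv D2517) (iv F1617)
theorem F3825 : act 3 n4834 = n2541 := d9_1 D4834 (iv D2541) (iv F1614) D4829 F3820 (iv D2516) D2515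
def n4835 : Q := act 0 n2518
theorem D4835 : act 0 n2518 = n4835 := rfl
def n4836 : Q := act 2 n2518
theorem D4836 : act 2 n2518 = n4836 := rfl
def n4837 : Q := act 3 n2518
theorem D4837 : act 3 n2518 = n4837 := rfl
theorem F3826 : act 1 n4837 = n2519 := d5_1 D4837 (iv D2519) D2518
def n4838 : Q := act 4 n2518
theorem D4838 : act 4 n2518 = n4838 := rfl
theorem F3827 : act 1 n4838 = n2520 := d6_1 D4838 (iv D2520) D2518
def n4839 : Q := act 4 n2519
theorem D4839 : act 4 n2519 = n4839 := rfl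
theorem F3828 : act 0 n4839 = n2933 := d3_1 D4839 (iv D2933) (iv F1622)
theorem F3829 : act 2 n4839 = n2577 := d8_1 D4839 (iv D2577) F623 D1126 (iv F2184) (iv D2569) (iv F1623)
theorem F3830 : act 3 n4839 = n2535 := d12_2 D2519 D4839 F1637 (iv F1630) (iv D2525) (iv D1093) D1091
def n4840 : Q := act 3 n2520
theorem D4840 : act 3 n2520 = n4840 := rfl
theorem F3831 : act 0 n4840 = n2934 := d2_1 D4840 (iv D2934) F741 (iv F1184) (iv F210) (iv F1189) (iv F1624)
theorem F3832 : act 2 n4840 = n2571 := d7_1 D4840 F1681 (iv F1625)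
theorem F3833 : act 4 n4840 = n2534 := d9_2 D2520 D4840 (iv D2534) D2535 (iv F3830) (iv D4839) (iv D2519)
def n4841 : Q := act 1 n2521
theorem D4841 : act 1 n2521 = n4841 := rfl
theorem F3834 : act 2 n4841 = n4613 := d17_8 (iv D154) F21 (iv F24) D166 D440 D1092 D2521 D4841 (iv D4613) (iv D2361) F538 F187
theorem F3835 : act 4 n4609 = n4841 := d8_0 F3834 (iv D4613) (iv D2361) (iv D1011) D1009 D2358 D4609
def n4842 : Q := act 2 n2521
theorem D4842 : act 2 n2521 = n4842 := rfl
def n4843 : Q := act 3 n2521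
theorem D4843 : act 3 n2521 = n4843 := rfl
def n4844 : Q := act 4 n2521
theorem D4844 : act 4 n2521 = n4844 := rfl
theorem F3836 : act 0 n4844 = n2524 := d3_1 D4844 (iv D2524) D2521
theorem F3837 : act 1 n4844 = n4609 := d6_1 D4844 F3835 (iv D4841)
def n4845 : Q := act 0 n2522
theorem D4845 : act 0 n2522 = n4845 := rfl
def n4846 : Q := act 3 n2522
theorem D4846 : act 3 n2522 = n4846 := rfl
theorem F3838 : act 2 n4846 = n2523 := d7_1 D4846 (iv D2523) D2522
def n4847 : Q := act 4 n2522
theorem D4847 : act 4 n2522 = n4847 := rfl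
def n4848 : Q := act 0 n2523
theorem D4848 : act 0 n2523 = n4848 := rfl
theorem F3839 : act 1 n4848 = n2525 := d0_2 (iv F1626) D4848 F1629 F1992 (iv D2940) F743 (iv F599)
theorem F3840 : act 3 n4848 = n2532 := d12_4 F1628 (iv D2524) D2523 D4848 (iv D2532) (iv D1098) D1096
theorem F3841 : act 4 n4848 = n2523 := d17_0 F1626 F598 D1095 (iv F2179) (iv F547) F546 F547 F2179 (iv D1095) (iv F598) (iv F1626) D4848
def n4849 : Q := act 2 n2524
theorem D4849 : act 2 n2524 = n4849 := rfl
theorem F3842 : act 3 n4849 = n2527 := d7_2 F1628 D4849 (iv D2527)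
def n4850 : Q := act 0 n2527
theorem D4850 : act 0 n2527 = n4850 := rfl
theorem F3843 : act 1 n4850 = n2667 := d13_2 D2527 D4850 (iv D2667) (iv D1177) F231 F79 F25 D74 (iv F72) D442 D1096
def n4851 : Q := act 1 n2528
theorem D4851 : act 1 n2528 = n4851 := rfl
theorem F3844 : act 0 n4851 = n3119 := d13_3 D1097 D2528 D4851 (iv D3119) F792 F289 F100 (iv F91) (iv F210) (iv F602) (iv D1096)
theorem F3845 : act 2 n4851 = n4648 := d15_6 (iv F2265) F1041 D2487 F1586 D2528 D4851 F3635 F3251 (iv D2706) (iv D1194) D1195 D2709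
def n4852 : Q := act 2 n2528
theorem D4852 : act 2 n2528 = n4852 := rfl
def n4853 : Q := act 3 n2528
theorem D4853 : act 3 n2528 = n4853 := rfl
def n4854 : Q := act 4 n2528
theorem D4854 : act 4 n2528 = n4854 := rfl
theorem F3846 : act 0 n4854 = n2530 := d3_1 D4854 (iv D2530) D2528
def n4855 : Q := act 0 n2529
theorem D4855 : act 0 n2529 = n4855 := rfl
def n4856 : Q := act 4 n2529
theorem D4856 : act 4 n2529 = n4856 := rfl
def n4857 : Q := act 2 n2530
theorem D4857 : act 2 n2530 = n4857 := rfl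
def n4858 : Q := act 3 n2530
theorem D4858 : act 3 n2530 = n4858 := rfl
def n4859 : Q := act 1 n2531
theorem D4859 : act 1 n2531 = n4859 := rfl
theorem F3847 : act 2 n4859 = n4668 := d17_8 D415 F191 F2176 (iv D446) (iv F209) (iv F604) D2531 D4859 (iv D4668) (iv D2407) (iv D1033) (iv D414)
def n4860 : Q := act 2 n2531
theorem D4860 : act 2 n2531 = n4860 := rfl
def n4861 : Q := act 3 n2531
theorem D4861 : act 3 n2531 = n4861 := rfl
def n4862 : Q := act 4 n2531
theorem D4862 : act 4 n2531 = n4862 := rfl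
theorem F3848 : act 0 n4862 = n2532 := d3_1 D4862 (iv D2532) D2531
def n4863 : Q := act 2 n2532
theorem D4863 : act 2 n2532 = n4863 := rfl
def n4864 : Q := act 0 n2533
theorem D4864 : act 0 n2533 = n4864 := rfl
def n4865 : Q := act 2 n2533
theorem D4865 : act 2 n2533 = n4865 := rfl
def n4866 : Q := act 3 n2533
theorem D4866 : act 3 n2533 = n4866 := rfl
theorem F3849 : act 1 n4866 = n2534 := d5_1 D4866 (iv D2534) D2533
def n4867 : Q := act 4 n2533
theorem D4867 : act 4 n2533 = n4867 := rfl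
theorem F3850 : act 1 n4867 = n2535 := d6_1 D4867 (iv D2535) D2533
def n4868 : Q := act 2 n2537
theorem D4868 : act 2 n2537 = n4868 := rfl
theorem F3851 : act 3 n4868 = n3745 := d7_2 (iv F1638) D4868 (iv D3745)
def n4869 : Q := act 4 n2537
theorem D4869 : act 4 n2537 = n4869 := rfl
theorem F3852 : act 0 n4869 = n2539 := d3_1 D4869 (iv D2539) D2537
def n4870 : Q := act 0 n2538
theorem D4870 : act 0 n2538 = n4870 := rfl
def n4871 : Q := act 1 n2538
theorem D4871 : act 1 n2538 = n4871 := rfl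
def n4872 : Q := act 4 n2538
theorem D4872 : act 4 n2538 = n4872 := rfl
def n4873 : Q := act 2 n2539
theorem D4873 : act 2 n2539 = n4873 := rfl
def n4874 : Q := act 0 n2540
theorem D4874 : act 0 n2540 = n4874 := rfl
def n4875 : Q := act 2 n2540
theorem D4875 : act 2 n2540 = n4875 := rfl
def n4876 : Q := act 4 n2540
theorem D4876 : act 4 n2540 = n4876 := rfl
theorem F3853 : act 1 n4876 = n2541 := d6_1 D4876 (iv D2541) D2540
def n4877 : Q := act 1 n2542
theorem D4877 : act 1 n2542 = n4877 := rfl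
theorem F3854 : act 4 n4877 = n2631 := d6_2 (iv F2178) D4877 (iv D2631)
def n4878 : Q := act 2 n2546
theorem D4878 : act 2 n2546 = n4878 := rfl
theorem F3855 : act 0 n4878 = n2552 := d1_1 D4878 (iv D2552) (iv D1109) (iv D448) D447 D1106 D2546
theorem F3856 : act 3 n4878 = n3502 := d7_2 (iv F1643) D4878 (iv D3502)
theorem F3857 : act 1 n4878 = n4582 := d14_2 (iv F1644) D4878 (iv D4582) (iv D2335) (iv D1000) D999 D2331 (iv F2678) F2679 F1018 D1793
def n4879 : Q := act 4 n2546
theorem D4879 : act 4 n2546 = n4879 := rfl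
theorem F3858 : act 0 n4879 = n2548 := d3_1 D4879 (iv D2548) D2546
theorem F3859 : act 1 n4879 = n3747 := d6_1 D4879 (iv D3747) (iv F1644)
theorem F3860 : act 3 n4879 = n3546 := d12_2 (iv F1643) D4879 (iv D3546) F985 (iv D1110) F358 D1661
def n4880 : Q := act 4 n2547
theorem D4880 : act 4 n2547 = n4880 := rfl
theorem F3861 : act 0 n4880 = n3236 := d3_1 D4880 (iv D3236) (iv F1649)
def n4881 : Q := act 2 n2548
theorem D4881 : act 2 n2548 = n4881 := rfl
theorem F3862 : act 0 n4881 = n2554 := d10_3 (iv F3860) F3858 D4881 (iv F2604) F2605 (iv D3547) D3546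
def n4882 : Q := act 3 n2548
theorem D4882 : act 3 n2548 = n4882 := rfl
theorem F3863 : act 0 n4882 = n3257 := d2_1 D4882 F2351 F1658 (iv F985) D3546 (iv F3860) F3858
def n4883 : Q := act 2 n2549
theorem D4883 : act 2 n2549 = n4883 := rfl
theorem F3864 : act 3 n4883 = n2637 := d7_2 (iv F1654) D4883 (iv D2637)
def n4884 : Q := act 0 n2550
theorem D4884 : act 0 n2550 = n4884 := rfl
theorem F3865 : act 1 n4884 = n4181 := d13_2 D2550 D4884 (iv D4181) (iv F3812) (iv D2579) (iv D1127) (iv D457) (iv D173) (iv F75) (iv F213) (iv F609)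
theorem F3866 : act 0 n4143 = n4176 := d0_5 (iv F3865) (iv D4884) (iv F3120) (iv D4149) (iv F3116) F3133 D4181
theorem F3867 : act 3 n4210 = n4137 := d2_6 D4143 F3866 (iv D4176) F1243 D2060 D4210 F3112
theorem F3868 : act 1 n4138 = n4210 := d5_3 F3867 (iv D4137) D4138
def n4885 : Q := act 3 n2550
theorem D4885 : act 3 n2550 = n4885 := rfl
theorem F3869 : act 2 n4885 = n2551 := d7_1 D4885 (iv D2551) D2550
def n4886 : Q := act 4 n2550
theorem D4886 : act 4 n2550 = n4886 := rfl
def n4887 : Q := act 4 n2551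
theorem D4887 : act 4 n2551 = n4887 := rfl
theorem F3870 : act 0 n4887 = n4887 := d3_1 D4887 (iv D4887) F1655
theorem F3871 : act 1 n4887 = n4013 := d6_1 D4887 (iv D4013) (iv F1656)
theorem F3872 : act 3 n4887 = n2638 := d9_1 D4887 (iv D2638) (iv F1654) (iv D2549) (iv D1107) D1108 D2551
def n4888 : Q := act 4 n2552
theorem D4888 : act 4 n2552 = n4888 := rfl
theorem F3873 : act 1 n4888 = n3353 := d6_1 D4888 (iv D3353) (iv F1657)
theorem F3874 : act 2 n4888 = n2555 := d11_2 D2552 D4888 (iv D2555) (iv D1113) (iv D450) D448 D1109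
def n4889 : Q := act 2 n2553
theorem D4889 : act 2 n2553 = n4889 := rfl
theorem F3875 : act 1 n4889 = n3404 := d15_9 F3557 F1477 (iv F1661) F1110 D1867 (iv F1659) (iv D2554) (iv F1658) D4889 (iv D3404) (iv F2461) (iv F3556)
def n4890 : Q := act 4 n2554
theorem D4890 : act 4 n2554 = n4890 := rfl
theorem F3876 : act 1 n4890 = n3883 := d6_1 D4890 (iv D3883) (iv F1659)
theorem F3877 : act 2 n4890 = n2557 := d8_1 D4890 (iv D2557) (iv D1113) (iv D450) D448 D1110 D2554
def n4891 : Q := act 1 n2555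
theorem D4891 : act 1 n2555 = n4891 := rfl
theorem F3878 : act 0 n4891 = n4138 := d0_1 D4891 F3868 (iv D4210) F1252 D2066 F1256 D2555
def n4892 : Q := act 3 n2555
theorem D4892 : act 3 n2555 = n4892 := rfl
theorem F3879 : act 0 n4892 = n4885 := d10_1 D4892 F3869 F1655 (iv D2551) F609 D1113 D2555
def n4893 : Q := act 4 n2555
theorem D4893 : act 4 n2555 = n4893 := rfl
theorem F3880 : act 0 n4893 = n2557 := d3_1 D4893 (iv D2557) D2555
def n4894 : Q := act 0 n2556
theorem D4894 : act 0 n2556 = n4894 := rfl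
theorem F3881 : act 3 n4894 = n4884 := d2_2 D2556 D4894 (iv D4884) D4885 (iv F3879) (iv D4892) (iv D2555)
def n4895 : Q := act 2 n2559
theorem D4895 : act 2 n2559 = n4895 := rfl
theorem F3882 : act 0 n4895 = n2832 := d1_1 D4895 F1902 (iv D2472) D2473 (iv F1778) (iv D2692) (iv F1672)
theorem F3883 : act 1 n4895 = n2561 := d14_2 D2559 D4895 (iv F3572) (iv D4603) (iv D2352) F536 (iv D447) (iv D169) D170 D451 D1115
theorem F3884 : act 3 n2559 = n4895 := d5_0 F3883 (iv D2561) D2559
def n4896 : Q := act 4 n2559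
theorem D4896 : act 4 n2559 = n4896 := rfl
theorem F3885 : act 0 n4896 = n2694 := d3_1 D4896 (iv D2694) (iv F1672)
theorem F3886 : act 1 n4896 = n2562 := d6_1 D4896 (iv D2562) D2559
def n4897 : Q := act 0 n2560
theorem D4897 : act 0 n2560 = n4897 := rfl
def n4898 : Q := act 1 n2560
theorem D4898 : act 1 n2560 = n4898 := rfl
def n4899 : Q := act 3 n2560
theorem D4899 : act 3 n2560 = n4899 := rfl
theorem F3887 : act 2 n4899 = n2561 := d7_1 D4899 (iv D2561) D2560
def n4900 : Q := act 4 n2560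
theorem D4900 : act 4 n2560 = n4900 := rfl
def n4901 : Q := act 4 n2561
theorem D4901 : act 4 n2561 = n4901 := rfl
theorem F3888 : act 3 n4901 = n2751 := d12_2 D2561 D4901 (iv D2751) F1675 (iv D2566) (iv D1117) D1115
def n4902 : Q := act 2 n2562
theorem D4902 : act 2 n2562 = n4902 := rfl
def n4903 : Q := act 3 n2562
theorem D4903 : act 3 n2562 = n4903 := rfl
def n4904 : Q := act 4 n2563
theorem D4904 : act 4 n2563 = n4904 := rfl
theorem F3889 : act 0 n4904 = n2564 := d3_1 D4904 (iv D2564) D2563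
theorem F3890 : act 1 n4904 = n4746 := d6_1 D4904 (iv D4746) F3582
theorem F3891 : act 3 n4756 = n4904 := d5_0 F3890 F3746 D4756
def n4905 : Q := act 2 n2564
theorem D4905 : act 2 n2564 = n4905 := rfl
def n4906 : Q := act 1 n2565
theorem D4906 : act 1 n2565 = n4906 := rfl
theorem F3892 : act 0 n4906 = n2757 := d0_1 D4906 F1949 (iv D1294) F257 (iv F214) (iv F613) D2565
theorem F3893 : act 2 n4906 = n4906 := d14_1 D4906 (iv D4906) (iv D2565) F613 F215 (iv F212) F917 F212 (iv F215) (iv F613) D2565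
theorem F3894 : act 3 n2655 = n4906 := d2_0 F3892 (iv D2757) (iv D1221) (iv D500) (iv F229) D1171 D2655
def n4907 : Q := act 2 n2565
theorem D4907 : act 2 n2565 = n4907 := rfl
theorem F3895 : act 1 n4907 = n3469 := d14_2 (iv D4906) D4907 (iv D3469) (iv F1424) F1425 F524 D1623 (iv F1960) (iv D2903) (iv F1949) (iv F3892)
def n4908 : Q := act 3 n2565
theorem D4908 : act 3 n2565 = n4908 := rfl
theorem F3896 : act 0 n4908 = n3997 := d2_1 D4908 (iv F3571) F3572 (iv D2561) (iv D1115) D1117 D2565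
theorem F3897 : act 1 n4908 = n2655 := d5_1 D4908 F3894 (iv D4906)
def n4909 : Q := act 4 n2565
theorem D4909 : act 4 n2565 = n4909 := rfl
theorem F3898 : act 0 n4909 = n2566 := d3_1 D4909 (iv D2566) D2565
def n4910 : Q := act 2 n2566
theorem D4910 : act 2 n2566 = n4910 := rfl
theorem F3899 : act 3 n4910 = n2752 := d7_2 F1675 D4910 (iv D2752)
def n4911 : Q := act 0 n2567
theorem D4911 : act 0 n2567 = n4911 := rfl
def n4912 : Q := act 1 n2567
theorem D4912 : act 1 n2567 = n4912 := rfl
def n4913 : Q := act 3 n2567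
theorem D4913 : act 3 n2567 = n4913 := rfl
theorem F3900 : act 2 n4913 = n2568 := d7_1 D4913 (iv D2568) D2567
def n4914 : Q := act 4 n2567
theorem D4914 : act 4 n2567 = n4914 := rfl
def n4915 : Q := act 0 n2568
theorem D4915 : act 0 n2568 = n4915 := rfl
def n4916 : Q := act 4 n2568
theorem D4916 : act 4 n2568 = n4916 := rfl
theorem F3901 : act 1 n4916 = n2569 := d6_1 D4916 (iv D2569) (iv F1676)
theorem F3902 : act 3 n4916 = n2646 := d9_1 D4916 F2197 F1675 (iv D2566) (iv D1117) D1118 D2568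
def n4917 : Q := act 0 n2570
theorem D4917 : act 0 n2570 = n4917 := rfl
def n4918 : Q := act 4 n2570
theorem D4918 : act 4 n2570 = n4918 := rfl
theorem F3903 : act 1 n4918 = n2571 := d6_1 D4918 (iv D2571) D2570
theorem F3904 : act 3 n2576 = n4918 := d5_0 F3903 F1681 (iv F1685)
def n4919 : Q := act 0 n2572
theorem D4919 : act 0 n2572 = n4919 := rfl
theorem F3905 : act 4 n4919 = n3136 := d3_2 (iv F1683) D4919 (iv D3136)
theorem F3906 : act 3 n4919 = n4056 := d16_7 D4684 F3671 (iv D2729) F664 (iv F620) D2572 D4919 (iv D4056) (iv D1980) (iv F1169) (iv F3006) F3005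
def n4920 : Q := act 2 n2572
theorem D4920 : act 2 n2572 = n4920 := rfl
theorem F3907 : act 3 n4920 = n3112 := d7_2 (iv F1682) D4920 (iv D3112)
def n4921 : Q := act 1 n2573
theorem D4921 : act 1 n2573 = n4921 := rfl
def n4922 : Q := act 2 n2573
theorem D4922 : act 2 n2573 = n4922 := rfl
def n4923 : Q := act 3 n2573
theorem D4923 : act 3 n2573 = n4923 := rfl
def n4924 : Q := act 4 n2573
theorem D4924 : act 4 n2573 = n4924 := rfl
theorem F3908 : act 0 n4924 = n2576 := d3_1 D4924 (iv D2576) D2573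
def n4925 : Q := act 0 n2574
theorem D4925 : act 0 n2574 = n4925 := rfl
def n4926 : Q := act 3 n2574
theorem D4926 : act 3 n2574 = n4926 := rfl
theorem F3909 : act 2 n4926 = n2575 := d7_1 D4926 (iv D2575) D2574
def n4927 : Q := act 4 n2574
theorem D4927 : act 4 n2574 = n4927 := rfl
def n4928 : Q := act 0 n2575
theorem D4928 : act 0 n2575 = n4928 := rfl
def n4929 : Q := act 4 n2575
theorem D4929 : act 4 n2575 = n4929 := rfl
theorem F3910 : act 1 n4929 = n2577 := d6_1 D4929 (iv D2577) (iv F1684)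
theorem F3911 : act 3 n4929 = n2644 := d9_1 D4929 (iv D2644) (iv F1679) D4918 (iv F3904) (iv D2576) D2575
def n4930 : Q := act 2 n2576
theorem D4930 : act 2 n2576 = n4930 := rfl
def n4931 : Q := act 1 n2579
theorem D4931 : act 1 n2579 = n4931 := rfl
theorem F3912 : act 0 n4931 = n2585 := d0_1 D4931 (iv D2585) (iv D1130) (iv D458) D457 D1127 D2579
theorem F3913 : act 3 n4931 = n4178 := d5_2 (iv F3813) D4931 (iv D4178)
def n4932 : Q := act 4 n2579
theorem D4932 : act 4 n2579 = n4932 := rfl
theorem F3914 : act 0 n4932 = n2582 := d3_1 D4932 (iv D2582) D2579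
def n4933 : Q := act 0 n2580
theorem D4933 : act 0 n2580 = n4933 := rfl
def n4934 : Q := act 1 n2580
theorem D4934 : act 1 n2580 = n4934 := rfl
theorem F3915 : act 2 n4934 = n4221 := d4_2 D2580 D4934 (iv F3809) (iv D4825) F1608 F592 D1127
theorem F3916 : act 0 n4934 = n4238 := d16_6 D575 (iv F626) (iv D1128) D1127 D2580 D4934 (iv D4238) (iv F3172) F3173 (iv D3060) (iv D1387) (iv D573)
def n4935 : Q := act 3 n2580
theorem D4935 : act 3 n2580 = n4935 := rfl
theorem F3917 : act 2 n4935 = n2581 := d7_1 D4935 (iv D2581) D2580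
def n4936 : Q := act 4 n2580
theorem D4936 : act 4 n2580 = n4936 := rfl
def n4937 : Q := act 0 n2581
theorem D4937 : act 0 n2581 = n4937 := rfl
def n4938 : Q := act 4 n2581
theorem D4938 : act 4 n2581 = n4938 := rfl
theorem F3918 : act 1 n4938 = n2583 := d6_1 D4938 (iv D2583) (iv F1690)
theorem F3919 : act 3 n2630 = n4938 := d5_0 F3918 F1693 (iv F1724)
def n4939 : Q := act 2 n2582
theorem D4939 : act 2 n2582 = n4939 := rfl
def n4940 : Q := act 3 n2582
theorem D4940 : act 3 n2582 = n4940 := rfl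
theorem F3920 : act 1 n4940 = n2584 := d5_1 D4940 (iv D2584) (iv F1691)
theorem F3921 : act 4 n4940 = n2629 := d9_2 D2582 D4940 (iv D2629) D2630 F3919 (iv D4938) (iv D2581)
theorem F3922 : act 3 n4460 = n4932 := d12_6 D4940 F3921 (iv D2629) D2627 F3806 D4460 F3914
def n4941 : Q := act 2 n2585
theorem D4941 : act 2 n2585 = n4941 := rfl
theorem F3923 : act 1 n4941 = n2587 := d14_2 D2585 D4941 (iv F3594) (iv D4612) (iv D2361) F538 F187 F65 D173 D458 D1130
theorem F3924 : act 4 n4941 = n4762 := d17_3 (iv D2588) D2585 D4941 (iv D4762) F1580 F583 F204 D440 D1094 F600 (iv F629) (iv F1696)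
theorem F3925 : act 3 n2585 = n4941 := d5_0 F3923 (iv D2587) D2585
def n4942 : Q := act 4 n2585
theorem D4942 : act 4 n2585 = n4942 := rfl
theorem F3926 : act 1 n4942 = n2588 := d6_1 D4942 (iv D2588) D2585
theorem F3927 : act 2 n4942 = n4761 := d8_1 D4942 (iv D4761) (iv D2473) D2474 D4762 (iv F3924) (iv D4941)
theorem F3928 : act 3 n4798 = n4942 := d7_0 F3927 (iv F3755) D4798
def n4943 : Q := act 0 n2586
theorem D4943 : act 0 n2586 = n4943 := rfl
def n4944 : Q := act 1 n2586
theorem D4944 : act 1 n2586 = n4944 := rfl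
def n4945 : Q := act 3 n2586
theorem D4945 : act 3 n2586 = n4945 := rfl
theorem F3929 : act 2 n4945 = n2587 := d7_1 D4945 (iv D2587) D2586
def n4946 : Q := act 4 n2586
theorem D4946 : act 4 n2586 = n4946 := rfl
def n4947 : Q := act 4 n2587
theorem D4947 : act 4 n2587 = n4947 := rfl
theorem F3930 : act 1 n4947 = n4762 := d6_1 D4947 (iv F3924) F3923
theorem F3931 : act 3 n4947 = n2625 := d12_2 D2587 D4947 F1722 (iv F1699) (iv D2593) (iv D1132) D1130
def n4948 : Q := act 2 n2588
theorem D4948 : act 2 n2588 = n4948 := rfl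
def n4949 : Q := act 3 n2588
theorem D4949 : act 3 n2588 = n4949 := rfl
theorem F3932 : act 1 n4949 = n4798 := d5_1 D4949 F3928 F3926
theorem F3933 : act 4 n4949 = n2624 := d9_2 D2588 D4949 (iv D2624) D2625 (iv F3931) (iv D4947) (iv D2587)
def n4950 : Q := act 1 n2589
theorem D4950 : act 1 n2589 = n4950 := rfl
def n4951 : Q := act 2 n2589
theorem D4951 : act 2 n2589 = n4951 := rfl
def n4952 : Q := act 3 n2589
theorem D4952 : act 3 n2589 = n4952 := rfl
def n4953 : Q := act 4 n2589
theorem D4953 : act 4 n2589 = n4953 := rfl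
theorem F3934 : act 0 n4953 = n2591 := d3_1 D4953 (iv D2591) D2589
def n4954 : Q := act 0 n2590
theorem D4954 : act 0 n2590 = n4954 := rfl
def n4955 : Q := act 4 n2590
theorem D4955 : act 4 n2590 = n4955 := rfl
def n4956 : Q := act 2 n2591
theorem D4956 : act 2 n2591 = n4956 := rfl
def n4957 : Q := act 3 n2591
theorem D4957 : act 3 n2591 = n4957 := rfl
def n4958 : Q := act 1 n2592
theorem D4958 : act 1 n2592 = n4958 := rfl
theorem F3935 : act 2 n4958 = n4958 := d14_1 D4958 (iv D4958) (iv D2592) F628 F220 (iv F188) F189 F188 (iv F220) (iv F628) D2592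
def n4959 : Q := act 2 n2592
theorem D4959 : act 2 n2592 = n4959 := rfl
def n4960 : Q := act 3 n2592
theorem D4960 : act 3 n2592 = n4960 := rfl
theorem F3936 : act 0 n4960 = n4069 := d2_1 D4960 (iv F3593) F3594 (iv D2587) (iv D1130) D1132 D2592
theorem F3937 : act 4 n4960 = n2614 := d12_1 D4960 (iv D2614) F636 (iv F1190) (iv D1133) D1132 D2592
def n4961 : Q := act 4 n2592
theorem D4961 : act 4 n2592 = n4961 := rfl
theorem F3938 : act 0 n4961 = n2593 := d3_1 D4961 (iv D2593) D2592
theorem F3939 : act 3 n4961 = n2612 := d9_1 D4961 (iv D2612) (iv D1145) D1146 D2614 (iv F3937) (iv D4960)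
def n4962 : Q := act 2 n2593
theorem D4962 : act 2 n2593 = n4962 := rfl
theorem F3940 : act 3 n4962 = n2626 := d7_2 (iv F1699) D4962 (iv D2626)
def n4963 : Q := act 0 n2594
theorem D4963 : act 0 n2594 = n4963 := rfl
def n4964 : Q := act 4 n2594
theorem D4964 : act 4 n2594 = n4964 := rfl
def n4965 : Q := act 2 n2595
theorem D4965 : act 2 n2595 = n4965 := rfl
theorem F3941 : act 3 n4965 = n3060 := d7_2 (iv F1701) D4965 (iv D3060)
def n4966 : Q := act 4 n2595
theorem D4966 : act 4 n2595 = n4966 := rfl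
theorem F3942 : act 1 n4966 = n2596 := d6_1 D4966 (iv D2596) D2595
theorem F3943 : act 3 n4966 = n2603 := d9_1 D4966 (iv D2603) (iv D1139) D1140 D2605 (iv F1711) (iv F1701)
def n4967 : Q := act 4 n2601
theorem D4967 : act 4 n2601 = n4967 := rfl
def n4968 : Q := act 3 n2602
theorem D4968 : act 3 n2602 = n4968 := rfl
def n4969 : Q := act 2 n2603
theorem D4969 : act 2 n2603 = n4969 := rfl
def n4970 : Q := act 3 n2604
theorem D4970 : act 3 n2604 = n4970 := rfl
theorem F3944 : act 2 n4970 = n2605 := d7_1 D4970 (iv D2605) D2604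
def n4971 : Q := act 0 n2605
theorem D4971 : act 0 n2605 = n4971 := rfl
theorem F3945 : act 4 n4971 = n3059 := d3_2 F1711 D4971 (iv D3059)
def n4972 : Q := act 0 n2607
theorem D4972 : act 0 n2607 = n4972 := rfl
theorem F3946 : act 2 n4972 = n3137 := d10_2 D2607 D4972 (iv D3137) (iv D1438) (iv F790) (iv F1286) F1285
def n4973 : Q := act 3 n2608
theorem D4973 : act 3 n2608 = n4973 := rfl
theorem F3947 : act 1 n4973 = n3356 := d5_1 D4973 (iv D3356) (iv F1715)
theorem F3948 : act 0 n4973 = n2623 := d10_1 D4973 (iv D2623) (iv D1150) (iv D467) D465 D1144 D2608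
def n4974 : Q := act 4 n2608
theorem D4974 : act 4 n2608 = n4974 := rfl
theorem F3949 : act 0 n4974 = n2610 := d3_1 D4974 (iv D2610) D2608
theorem F3950 : act 1 n4974 = n3357 := d6_1 D4974 (iv D3357) (iv F1715)
def n4975 : Q := act 0 n2609
theorem D4975 : act 0 n2609 = n4975 := rfl
def n4976 : Q := act 4 n2609
theorem D4976 : act 4 n2609 = n4976 := rfl
def n4977 : Q := act 2 n2610
theorem D4977 : act 2 n2610 = n4977 := rfl
theorem F3951 : act 0 n4977 = n2620 := d11_3 D1144 D2610 D4977 (iv D2620) (iv D1149) (iv D466) D465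
def n4978 : Q := act 3 n2610
theorem D4978 : act 3 n2610 = n4978 := rfl
def n4979 : Q := act 2 n2611
theorem D4979 : act 2 n2611 = n4979 := rfl
theorem F3952 : act 0 n4979 = n2616 := d10_3 D1145 D2611 D4979 (iv D2616) (iv D1147) (iv D466) D465
def n4980 : Q := act 4 n2611
theorem D4980 : act 4 n2611 = n4980 := rfl
theorem F3953 : act 0 n4980 = n2612 := d3_1 D4980 (iv D2612) D2611
theorem F3954 : act 1 n4980 = n4052 := d6_1 D4980 (iv D4052) (iv F1717)
def n4981 : Q := act 2 n2612
theorem D4981 : act 2 n2612 = n4981 := rfl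
def n4982 : Q := act 0 n2613
theorem D4982 : act 0 n2613 = n4982 := rfl
theorem F3955 : act 1 n4982 = n4691 := d0_2 F3722 D4982 (iv D4691) F3322 F3320 (iv F3329) (iv F3721)
def n4983 : Q := act 3 n2613
theorem D4983 : act 3 n2613 = n4983 := rfl
theorem F3956 : act 2 n4983 = n2614 := d7_1 D4983 (iv D2614) D2613
def n4984 : Q := act 4 n2613
theorem D4984 : act 4 n2613 = n4984 := rfl
theorem F3957 : act 1 n4984 = n4394 := d6_1 D4984 (iv F3723) F3722
def n4985 : Q := act 0 n2614
theorem D4985 : act 0 n2614 = n4985 := rfl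
theorem F3958 : act 4 n4985 = n4069 := d3_2 F3937 D4985 (iv F3936)
theorem F3959 : act 1 n4070 = n4985 := d6_3 F3958 (iv D4069) D4070
def n4986 : Q := act 3 n2615
theorem D4986 : act 3 n2615 = n4986 := rfl
theorem F3960 : act 1 n4986 = n3152 := d5_1 D4986 (iv D3152) (iv F1718)
theorem F3961 : act 2 n4986 = n2616 := d7_1 D4986 (iv D2616) D2615
theorem F3962 : act 1 n4476 = n4972 := d15_9 D4979 F3952 (iv F3961) F3960 (iv F3444) F3445 F1369 D2224 D4476 (iv D4972) F1713 D2611
theorem E579 : n4475 = n4359 := ((c16_3 D914 D2148 D4359 (iv D4475) D4476 F3962 (iv D4972) (iv D2607) (iv F1285) (iv D2111) (iv D898) D897 F473)).symm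
theorem F3963 : act 0 n4359 = n4130 := (sb E579 F3448)
theorem F3964 : act 1 n4359 = n2224 := (sb E579 (iv D4475))
theorem F3965 : act 3 n4297 = n4130 := d16_7 (iv D2607) (iv F1285) D4300 F3239 F1287 (iv F1281) D4297 (iv F3963) F3964 D4476 F3962 (iv D4972)
theorem F3966 : act 1 n4132 = n4297 := d5_3 F3965 (iv D4130) D4132
theorem E580 : n4477 = n4358 := (c5_3 D4359 F3964 D4477 (iv D4358))
theorem F3967 : act 3 n4358 = n2224 := (sb E580 (iv D4477))
def n4987 : Q := act 4 n2616
theorem D4987 : act 4 n2616 = n4987 := rfl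
theorem F3968 : act 1 n4987 = n3154 := d6_1 D4987 (iv D3154) (iv F1719)
def n4988 : Q := act 3 n2617
theorem D4988 : act 3 n2617 = n4988 := rfl
theorem F3969 : act 1 n4988 = n3156 := d5_1 D4988 (iv D3156) (iv F1721)
def n4989 : Q := act 1 n2618
theorem D4989 : act 1 n2618 = n4989 := rfl
def n4990 : Q := act 2 n2618
theorem D4990 : act 2 n2618 = n4990 := rfl
def n4991 : Q := act 3 n2618
theorem D4991 : act 3 n2618 = n4991 := rfl
def n4992 : Q := act 4 n2618
theorem D4992 : act 4 n2618 = n4992 := rfl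
theorem F3970 : act 0 n4992 = n2619 := d3_1 D4992 (iv D2619) D2618
def n4993 : Q := act 2 n2619
theorem D4993 : act 2 n2619 = n4993 := rfl
def n4994 : Q := act 3 n2619
theorem D4994 : act 3 n2619 = n4994 := rfl
def n4995 : Q := act 3 n2620
theorem D4995 : act 3 n2620 = n4995 := rfl
theorem F3971 : act 2 n4995 = n2621 := d7_1 D4995 (iv D2621) D2620
def n4998 : Q := act 0 n2622
theorem D4998 : act 0 n2622 = n4998 := rfl
theorem F3972 : act 1 n4998 = n2627 := d0_2 D2622 D4998 (iv D2627) (iv D1154) (iv D469) (iv F225) D1150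
theorem F3973 : act 3 n4458 = n4998 := d5_0 F3972 F3806 D4458
def n4999 : Q := act 2 n2622
theorem D4999 : act 2 n2622 = n4999 := rfl
theorem F3974 : act 1 n4999 = n2624 := d14_2 D2622 D4999 (iv F3660) (iv D4667) (iv D2407) (iv D1033) (iv D414) F66 (iv F77) (iv F225) D1150
theorem F3975 : act 4 n4999 = n4798 := d17_3 (iv D2625) D2622 D4999 (iv D4798) (iv D2492) (iv D1079) F205 (iv F209) D1100 (iv F2169) (iv F638) (iv F1722)
theorem F3976 : act 3 n2622 = n4999 := d5_0 F3974 (iv D2624) D2622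
def n5000 : Q := act 4 n2622
theorem D5000 : act 4 n2622 = n5000 := rfl
theorem F3977 : act 1 n5000 = n2625 := d6_1 D5000 (iv D2625) D2622
theorem F3978 : act 3 n5000 = n4762 := d9_1 D5000 (iv F3924) (iv F3925) D4942 (iv F3928) (iv F3975) (iv F3976)
theorem F3979 : act 2 n4763 = n5000 := d7_3 F3978 (iv D4762) D4763
def n5001 : Q := act 1 n2623
theorem D5001 : act 1 n2623 = n5001 := rfl
def n5002 : Q := act 3 n2623
theorem D5002 : act 3 n2623 = n5002 := rfl
theorem F3980 : act 2 n5002 = n2624 := d7_1 D5002 (iv D2624) D2623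
def n5003 : Q := act 4 n2623
theorem D5003 : act 4 n2623 = n5003 := rfl
def n5004 : Q := act 2 n2625
theorem D5004 : act 2 n2625 = n5004 := rfl
def n5005 : Q := act 0 n2626
theorem D5005 : act 0 n2626 = n5005 := rfl
def n5006 : Q := act 1 n2626
theorem D5006 : act 1 n2626 = n5006 := rfl
def n5007 : Q := act 4 n2626
theorem D5007 : act 4 n2626 = n5007 := rfl
def n5008 : Q := act 4 n2627
theorem D5008 : act 4 n2627 = n5008 := rfl
theorem F3981 : act 0 n5008 = n2630 := d3_1 D5008 (iv D2630) D2627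
theorem F3982 : act 3 n5008 = n4180 := d9_1 D5008 (iv D4180) (iv F3813) D4932 (iv F3922) (iv D4460) (iv F3806)
def n5009 : Q := act 0 n2628
theorem D5009 : act 0 n2628 = n5009 := rfl
def n5010 : Q := act 1 n2628
theorem D5010 : act 1 n2628 = n5010 := rfl
theorem F3983 : act 0 n5010 = n4418 := d16_6 (iv F280) (iv F641) (iv D1156) D1154 D2628 D5010 (iv D4418) (iv F3295) F3293 F1708 F632 F223
theorem F3984 : act 3 n4374 = n5010 := d16_2 D2178 (iv F3307) (iv D5010) (iv D2628) (iv D1154) (iv D469) (iv D177) D175 D462 D1138 (iv F1313) F1312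
theorem F3985 : act 2 n5010 = n4375 := d7_1 F3984 (iv D4375) D4374
def n5011 : Q := act 3 n2628
theorem D5011 : act 3 n2628 = n5011 := rfl
theorem F3986 : act 1 n5011 = n4374 := d5_1 D5011 F3984 (iv D5010)
theorem F3987 : act 2 n5011 = n2629 := d7_1 D5011 (iv D2629) D2628
def n5012 : Q := act 4 n2628
theorem D5012 : act 4 n2628 = n5012 := rfl
def n5013 : Q := act 0 n2629
theorem D5013 : act 0 n2629 = n5013 := rfl
theorem F3988 : act 2 n5013 = n4358 := d15_8 D2164 F1329 (iv F1341) F1340 (iv F3307) (iv F3986) F3987 D5013 (iv D4358) (iv D2148) F483 D920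
theorem F3989 : act 3 n4476 = n5013 := d7_0 F3988 F3967 D4476
def n5014 : Q := act 2 n2630
theorem D5014 : act 2 n2630 = n5014 := rfl
def n5015 : Q := act 0 n2631
theorem D5015 : act 0 n2631 = n5015 := rfl
def n5016 : Q := act 2 n2631
theorem D5016 : act 2 n2631 = n5016 := rfl
theorem F3990 : act 1 n5016 = n4375 := d4_1 D5016 (iv F3985) (iv D5010) (iv D2628) (iv D1154) D1155 D2631
theorem F3991 : act 3 n5016 = n4373 := d7_2 (iv F3803) D5016 F3804
def n5017 : Q := act 0 n2637
theorem D5017 : act 0 n2637 = n5017 := rfl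
theorem F3992 : act 3 n5017 = n4383 := d10_4 (iv F611) D1162 D2637 D5017 (iv D4383) F1325 F919
theorem F3993 : act 1 n5017 = n4461 := d13_2 D2637 D5017 (iv D4461) (iv F3805) (iv D2627) (iv D1154) (iv D469) F77 D179 D472 D1162
theorem F3994 : act 0 n4505 = n4435 := d0_5 (iv F3993) (iv D5017) (iv F3472) (iv D4511) (iv F3468) F3356 D4461
theorem E581 : n4438 = n4334 := (c2_6 D4505 F3994 (iv D4435) (iv D2194) D2196 D4438 (iv D4334) (iv F1397))
theorem F3995 : act 0 n4334 = n2196 := (sb E581 (iv D4438))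
theorem F3996 : act 1 n2639 = n4307 := d0_6 (iv F3267) F3995 F1348 (iv F1330) F1331 D2639 F3243
theorem F3997 : act 3 n4305 = n2639 := d5_0 F3996 (iv D4307) D4305
theorem F3998 : act 0 n4883 = n4305 := d2_7 F3997 (iv D2639) F1328 D4383 (iv F3992) (iv D5017) (iv F3864)
theorem F3999 : act 1 n4301 = n4000 := d13_6 D4883 F3998 (iv D4305) (iv D2114) (iv F1287) D4301 (iv D4000) (iv D1939) (iv F1157) (iv F1653) F1652
def n5018 : Q := act 4 n2637
theorem D5018 : act 4 n2637 = n5018 := rfl
def n5019 : Q := act 2 n2638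
theorem D5019 : act 2 n2638 = n5019 := rfl
def n5020 : Q := act 2 n2639
theorem D5020 : act 2 n2639 = n5020 := rfl
theorem F4000 : act 1 n5020 = n3358 := d15_3 D1163 D2639 D5020 (iv D3358) (iv F1420) F1421 (iv F554) (iv D1034) D1033 D2406 F1497 (iv D1162)
def n5021 : Q := act 4 n2639
theorem D5021 : act 4 n2639 = n5021 := rfl
theorem F4001 : act 0 n5021 = n2640 := d3_1 D5021 (iv D2640) D2639
def n5022 : Q := act 2 n2640
theorem D5022 : act 2 n2640 = n5022 := rfl
theorem F4002 : act 1 n5022 = n3889 := d14_2 (iv F3195) D5022 (iv D3889) F1117 F535 (iv F532) D2329 (iv F2686) (iv F3168) F3167 D4233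
def n5023 : Q := act 0 n2641
theorem D5023 : act 0 n2641 = n5023 := rfl
def n5024 : Q := act 1 n2642
theorem D5024 : act 1 n2642 = n5024 := rfl
theorem F4003 : act 0 n5024 = n3128 := d0_1 D5024 (iv D3128) (iv D1430) F288 (iv F227) D1165 D2642
def n5025 : Q := act 2 n2642
theorem D5025 : act 2 n2642 = n5025 := rfl
def n5026 : Q := act 3 n2642
theorem D5026 : act 3 n2642 = n5026 := rfl
def n5027 : Q := act 4 n2642
theorem D5027 : act 4 n2642 = n5027 := rfl
theorem F4004 : act 0 n5027 = n2644 := d3_1 D5027 (iv D2644) D2642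
def n5028 : Q := act 0 n2643
theorem D5028 : act 0 n2643 = n5028 := rfl
def n5029 : Q := act 4 n2643
theorem D5029 : act 4 n2643 = n5029 := rfl
def n5030 : Q := act 2 n2644
theorem D5030 : act 2 n2644 = n5030 := rfl
def n5031 : Q := act 0 n2646
theorem D5031 : act 0 n2646 = n5031 := rfl
theorem F4005 : act 4 n5031 = n2751 := d3_2 (iv F2197) D5031 (iv D2751)
def n5032 : Q := act 2 n2646
theorem D5032 : act 2 n2646 = n5032 := rfl
def n5033 : Q := act 4 n2655
theorem D5033 : act 4 n2655 = n5033 := rfl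
theorem F4006 : act 0 n5033 = n2656 := d3_1 D5033 (iv D2656) D2655
def n5034 : Q := act 2 n2656
theorem D5034 : act 2 n2656 = n5034 := rfl
theorem F4007 : act 4 n5034 = n4300 := d17_3 D1176 (iv F1738) D5034 F3240 F2230 D3117 F3460 (iv F3008) (iv D4019) F1168 (iv F1164) (iv D1175)
theorem F4008 : act 1 n4302 = n5034 := d6_3 F4007 F3239 D4302
def n5035 : Q := act 3 n2656
theorem D5035 : act 3 n2656 = n5035 := rfl
theorem F4009 : act 1 n5035 = n2666 := d5_1 D5035 (iv D2666) (iv F1738)
theorem F4010 : act 0 n5035 = n2760 := d12_3 D1171 D2656 D5035 (iv D2760) (iv D1222) (iv D500) (iv F229)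
def n5036 : Q := act 3 n2657
theorem D5036 : act 3 n2657 = n5036 := rfl
theorem F4011 : act 1 n5036 = n4304 := d5_1 D5036 (iv D4304) (iv F1741)
theorem F4012 : act 2 n5036 = n2658 := d7_1 D5036 (iv D2658) D2657
def n5037 : Q := act 0 n2658
theorem D5037 : act 0 n2658 = n5037 := rfl
def n5038 : Q := act 4 n2658
theorem D5038 : act 4 n2658 = n5038 := rfl
theorem F4013 : act 1 n5038 = n2672 := d6_1 D5038 (iv D2672) (iv F1742)
def n5039 : Q := act 4 n2659
theorem D5039 : act 4 n2659 = n5039 := rfl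
theorem F4014 : act 0 n5039 = n2660 := d3_1 D5039 (iv D2660) D2659
theorem F4015 : act 1 n5039 = n3000 := d6_1 D5039 (iv D3000) (iv F1743)
def n5040 : Q := act 2 n2660
theorem D5040 : act 2 n2660 = n5040 := rfl
def n5041 : Q := act 3 n2660
theorem D5041 : act 3 n2660 = n5041 := rfl
theorem F4016 : act 0 n5041 = n4530 := d12_3 D1173 D2660 D5041 (iv D4530) (iv D2303) (iv D983) (iv F230)
def n5042 : Q := act 1 n2661
theorem D5042 : act 1 n2661 = n5042 := rfl
theorem F4017 : act 2 n5042 = n4311 := d4_2 D2661 D5042 (iv D4311) (iv D2116) (iv F1283) F1284 F833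
def n5043 : Q := act 3 n2661
theorem D5043 : act 3 n2661 = n5043 := rfl
theorem F4018 : act 2 n5043 = n2662 := d7_1 D5043 (iv D2662) D2661
def n5044 : Q := act 4 n2661
theorem D5044 : act 4 n2661 = n5044 := rfl
theorem F4019 : act 0 n5044 = n2689 := d3_1 D5044 (iv D2689) (iv F1745)
theorem F4020 : act 2 n5044 = n2670 := d8_1 D5044 (iv D2670) (iv D1177) (iv D479) D477 D1174 D2661
def n5045 : Q := act 0 n2662
theorem D5045 : act 0 n2662 = n5045 := rfl
theorem F4021 : act 3 n5045 = n2997 := d12_4 (iv D1173) D1174 D2662 D5045 (iv D2997) (iv F1744) (iv D2659)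
theorem F4022 : act 1 n3002 = n5045 := d5_3 F4021 F2027 D3002
def n5046 : Q := act 4 n2662
theorem D5046 : act 4 n2662 = n5046 := rfl
def n5047 : Q := act 1 n2663
theorem D5047 : act 1 n2663 = n5047 := rfl
theorem F4023 : act 3 n5047 = n3581 := d5_2 (iv F1746) D5047 F2642
def n5048 : Q := act 4 n2663
theorem D5048 : act 4 n2663 = n5048 := rfl
theorem F4024 : act 0 n5048 = n2673 := d3_1 D5048 (iv D2673) (iv F1747)
def n5049 : Q := act 2 n2664
theorem D5049 : act 2 n2664 = n5049 := rfl
def n5050 : Q := act 3 n2664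
theorem D5050 : act 3 n2664 = n5050 := rfl
theorem F4025 : act 0 n5050 = n2700 := d2_1 D5050 (iv D2700) F658 D1193 (iv F1750) (iv D2666) (iv F1748)
theorem F4026 : act 1 n5050 = n4022 := d5_1 D5050 (iv D4022) (iv F1749)
theorem F4027 : act 4 n4502 = n5050 := d6_0 F4026 (iv F3012) D4502
def n5051 : Q := act 0 n2665
theorem D5051 : act 0 n2665 = n5051 := rfl
def n5052 : Q := act 1 n2665
theorem D5052 : act 1 n2665 = n5052 := rfl
def n5053 : Q := act 3 n2665
theorem D5053 : act 3 n2665 = n5053 := rfl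
theorem F4028 : act 2 n5053 = n2666 := d7_1 D5053 (iv D2666) D2665
def n5054 : Q := act 4 n2665
theorem D5054 : act 4 n2665 = n5054 := rfl
def n5055 : Q := act 4 n2666
theorem D5055 : act 4 n2666 = n5055 := rfl
theorem F4029 : act 0 n5055 = n2705 := d3_1 D5055 (iv D2705) (iv F1750)
theorem F4030 : act 3 n5055 = n2672 := d9_1 D5055 (iv D2672) (iv D1178) (iv D479) D478 D1176 D2666
def n5056 : Q := act 3 n2667
theorem D5056 : act 3 n2667 = n5056 := rfl
theorem F4031 : act 2 n5056 = n4528 := d7_1 D5056 (iv D4528) (iv F1751)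
theorem F4032 : act 0 n5056 = n2717 := d10_1 D5056 (iv D2717) (iv D1198) (iv D487) (iv F231) D1177 D2667
def n5057 : Q := act 4 n2667
theorem D5057 : act 4 n2667 = n5057 := rfl
theorem F4033 : act 0 n5057 = n2670 := d3_1 D5057 (iv D2670) D2667
theorem F4034 : act 2 n5057 = n4533 := d8_1 D5057 (iv D4533) (iv D2304) (iv D984) D982 D2302 (iv F1751)
def n5058 : Q := act 0 n2668
theorem D5058 : act 0 n2668 = n5058 := rfl
theorem F4035 : act 2 n5058 = n3494 := d13_4 (iv F1751) (iv D2667) D2668 D5058 F2557 (iv D3230) F841 (iv D643) (iv F313) (iv F850) (iv F1416)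
def n5059 : Q := act 2 n2668
theorem D5059 : act 2 n2668 = n5059 := rfl
theorem F4036 : act 1 n5059 = n4303 := d4_1 D5059 (iv D4303) (iv F1741) (iv D2657) F647 D1177 D2668
def n5060 : Q := act 3 n2668
theorem D5060 : act 3 n2668 = n5060 := rfl
theorem F4037 : act 1 n5060 = n2669 := d5_1 D5060 (iv D2669) D2668
def n5061 : Q := act 4 n2668
theorem D5061 : act 4 n2668 = n5061 := rfl
theorem F4038 : act 1 n5061 = n2670 := d6_1 D5061 (iv D2670) D2668
theorem F4039 : act 2 n5061 = n3491 := d17_10 (iv D1546) D1544 D3288 F2390 (iv D2945) (iv F1364) (iv F3241) (iv F4036) (iv D5059) D5061 F2554 F2329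
def n5062 : Q := act 0 n2669
theorem D5062 : act 0 n2669 = n5062 := rfl
def n5063 : Q := act 4 n2669
theorem D5063 : act 4 n2669 = n5063 := rfl
def n5064 : Q := act 3 n2670
theorem D5064 : act 3 n2670 = n5064 := rfl
def n5065 : Q := act 2 n2671
theorem D5065 : act 2 n2671 = n5065 := rfl
theorem F4040 : act 3 n5065 = n4016 := d7_2 (iv F1753) D5065 (iv D4016)
theorem F4041 : act 0 n5065 = n2707 := d10_3 D1178 D2671 D5065 (iv D2707) (iv D1194) (iv D486) (iv F231)
def n5066 : Q := act 4 n2671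
theorem D5066 : act 4 n2671 = n5066 := rfl
theorem F4042 : act 0 n5066 = n2672 := d3_1 D5066 (iv D2672) D2671
theorem F4043 : act 1 n5066 = n4027 := d6_1 D5066 (iv D4027) F1754
theorem F4044 : act 3 n5066 = n4502 := d9_1 D5066 F4027 (iv D5050) (iv D2664) F1165 D1949 (iv F1753)
def n5067 : Q := act 2 n2672
theorem D5067 : act 2 n2672 = n5067 := rfl
def n5068 : Q := act 2 n2673
theorem D5068 : act 2 n2673 = n5068 := rfl
def n5069 : Q := act 3 n2673
theorem D5069 : act 3 n2673 = n5069 := rfl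
theorem F4045 : act 1 n5069 = n5069 := d5_1 D5069 (iv D5069) F1755
theorem F4046 : act 0 n5069 = n2687 := d12_3 D1179 D2673 D5069 (iv D2687) (iv D1185) (iv D482) D480
def n5070 : Q := act 3 n2674
theorem D5070 : act 3 n2674 = n5070 := rfl
theorem F4047 : act 1 n5070 = n4345 := d5_1 D5070 (iv D4345) F1757
theorem F4048 : act 2 n5070 = n2675 := d7_1 D5070 (iv D2675) D2674
def n5071 : Q := act 4 n2674
theorem D5071 : act 4 n2674 = n5071 := rfl
theorem F4049 : act 0 n5071 = n4533 := d3_1 D5071 (iv D4533) (iv F1756)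
theorem F4050 : act 1 n5071 = n4346 := d6_1 D5071 (iv D4346) F1757
theorem F4051 : act 2 n5071 = n2708 := d8_1 D5071 (iv D2708) (iv F851) (iv D1530) F348 D1180 D2674
def n5072 : Q := act 0 n2675
theorem D5072 : act 0 n2675 = n5072 := rfl
theorem F4052 : act 3 n5072 = n4015 := d12_4 (iv D1179) D1180 D2675 D5072 (iv D4015) (iv F1746) F1747
def n5073 : Q := act 4 n2675
theorem D5073 : act 4 n2675 = n5073 := rfl
theorem F4053 : act 1 n5073 = n5073 := d6_1 D5073 (iv D5073) F1758
def n5074 : Q := act 4 n2676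
theorem D5074 : act 4 n2676 = n5074 := rfl
theorem F4054 : act 0 n5074 = n4559 := d3_1 D5074 (iv D4559) (iv F1761)
theorem F4055 : act 1 n5074 = n2721 := d6_1 D5074 (iv D2721) (iv F1759)
def n5075 : Q := act 3 n2677
theorem D5075 : act 3 n2677 = n5075 := rfl
theorem F4056 : act 1 n5075 = n2723 := d5_1 D5075 (iv D2723) (iv F1763)
def n5076 : Q := act 4 n2678
theorem D5076 : act 4 n2678 = n5076 := rfl
theorem F4057 : act 0 n5076 = n2679 := d3_1 D5076 (iv D2679) D2678
theorem F4058 : act 2 n5076 = n4562 := d11_2 (iv F1764) D5076 (iv D4562) (iv D2324) (iv D996) (iv F528) D2318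
def n5077 : Q := act 2 n2679
theorem D5077 : act 2 n2679 = n5077 := rfl
theorem F4059 : act 0 n5077 = n4560 := d1_1 D5077 (iv D4560) F1433 D2324 D4562 (iv F4058) F4057
def n5078 : Q := act 3 n2679
theorem D5078 : act 3 n2679 = n5078 := rfl
theorem F4060 : act 1 n5078 = n2687 := d5_1 D5078 (iv D2687) (iv F1765)
def n5079 : Q := act 3 n2680
theorem D5079 : act 3 n2680 = n5079 := rfl
theorem F4061 : act 2 n5079 = n2681 := d7_1 D5079 (iv D2681) D2680
theorem F4062 : act 0 n5079 = n4571 := d10_1 D5079 (iv D4571) (iv D2329) (iv D998) (iv F525) D2316 (iv F1766)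
def n5080 : Q := act 4 n2680
theorem D5080 : act 4 n2680 = n5080 := rfl
theorem F4063 : act 0 n5080 = n4549 := d3_1 D5080 (iv D4549) (iv F1766)
theorem F4064 : act 1 n5080 = n2749 := d6_1 D5080 (iv F2479) F2480
theorem F4065 : act 2 n5080 = n3133 := d8_1 D5080 (iv F2615) F2613 (iv D2677) (iv D1181) D1183 D2680
def n5081 : Q := act 0 n2681
theorem D5081 : act 0 n2681 = n5081 := rfl
theorem F4066 : act 2 n5081 = n4568 := d1_2 F4061 D5081 (iv D4568) F1435 D2329 D4571 (iv F4062)
def n5082 : Q := act 4 n2681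
theorem D5082 : act 4 n2681 = n5082 := rfl
theorem F4067 : act 1 n5082 = n2691 := d6_1 D5082 (iv D2691) (iv F1767)
def n5083 : Q := act 0 n2682
theorem D5083 : act 0 n2682 = n5083 := rfl
theorem F4068 : act 2 n5083 = n2890 := d1_2 F2372 D5083 (iv D2890) F1945 (iv D2331) D2332 (iv F2373)
theorem F4069 : act 3 n4031 = n5083 := d7_0 F4068 (iv F1947) D4031
def n5084 : Q := act 4 n2682
theorem D5084 : act 4 n2682 = n5084 := rfl
theorem F4070 : act 1 n5084 = n2685 := d6_1 D5084 (iv D2685) D2682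
def n5085 : Q := act 4 n2683
theorem D5085 : act 4 n2683 = n5085 := rfl
theorem F4071 : act 0 n5085 = n4527 := d3_1 D5085 (iv D4527) (iv F1768)
theorem F4072 : act 1 n5085 = n3757 := d6_1 D5085 (iv D3757) F1770
theorem F4073 : act 2 n5085 = n2701 := d11_2 D2683 D5085 (iv D2701) (iv D1192) (iv D485) (iv F233) D1184
def n5086 : Q := act 4 n2684
theorem D5086 : act 4 n2684 = n5086 := rfl
theorem F4074 : act 0 n5086 = n4015 := d3_1 D5086 (iv D4015) (iv F1771)
theorem F4075 : act 1 n5086 = n2894 := d6_1 D5086 (iv D2894) (iv F1773)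
theorem F4076 : act 3 n5086 = n2690 := d12_2 D2684 D5086 (iv D2690) (iv D1187) (iv D483) D482 D1184
def n5087 : Q := act 2 n2685
theorem D5087 : act 2 n2685 = n5087 := rfl
theorem F4077 : act 0 n5087 = n4529 := d11_3 (iv D2683) D2685 D5087 (iv D4529) (iv D2303) (iv F1415) (iv F1768)
def n5088 : Q := act 3 n2685
theorem D5088 : act 3 n2685 = n5088 := rfl
def n5089 : Q := act 0 n2686
theorem D5089 : act 0 n2686 = n5089 := rfl
theorem F4078 : act 2 n5089 = n2697 := d1_2 D2686 D5089 F1790 D4529 (iv F4077) (iv D5087) F1775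
def n5090 : Q := act 1 n2686
theorem D5090 : act 1 n2686 = n5090 := rfl
def n5091 : Q := act 3 n2686
theorem D5091 : act 3 n2686 = n5091 := rfl
theorem F4079 : act 2 n5091 = n2687 := d7_1 D5091 (iv D2687) D2686
def n5092 : Q := act 4 n2686
theorem D5092 : act 4 n2686 = n5092 := rfl
theorem F4080 : act 2 n5092 = n2704 := d8_1 D5092 (iv D2704) (iv D1192) (iv D485) (iv F233) D1185 D2686
def n5093 : Q := act 4 n2687
theorem D5093 : act 4 n2687 = n5093 := rfl
theorem F4081 : act 3 n5093 = n2691 := d9_1 D5093 (iv D2691) (iv D1187) (iv D483) D482 D1185 D2687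
def n5094 : Q := act 0 n2688
theorem D5094 : act 0 n2688 = n5094 := rfl
theorem F4082 : act 2 n5094 = n4534 := d10_2 D2688 D5094 (iv D4534) (iv D2305) (iv F649) D2661 F1745
def n5095 : Q := act 4 n2688
theorem D5095 : act 4 n2688 = n5095 := rfl
def n5096 : Q := act 3 n2689
theorem D5096 : act 3 n2689 = n5096 := rfl
theorem F4083 : act 2 n5096 = n2715 := d7_1 D5096 (iv D2715) (iv F1777)
def n5097 : Q := act 1 n2690
theorem D5097 : act 1 n2690 = n5097 := rfl
theorem F4084 : act 3 n5097 = n2894 := d5_2 F4076 D5097 (iv F4075)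
def n5098 : Q := act 2 n2690
theorem D5098 : act 2 n2690 = n5098 := rfl
theorem F4085 : act 0 n5098 = n4532 := d1_1 D5098 F3489 D4534 (iv F4082) (iv D5094) F1776 D2690
def n5099 : Q := act 4 n2690
theorem D5099 : act 4 n2690 = n5099 := rfl
theorem F4086 : act 0 n5099 = n2691 := d3_1 D5099 (iv D2691) D2690
def n5100 : Q := act 2 n2691
theorem D5100 : act 2 n2691 = n5100 := rfl
def n5101 : Q := act 4 n2692
theorem D5101 : act 4 n2692 = n5101 := rfl
theorem F4087 : act 0 n5101 = n4761 := d3_1 D5101 (iv D4761) (iv F1778)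
theorem F4088 : act 1 n5101 = n3302 := d6_1 D5101 (iv D3302) F1779
theorem F4089 : act 3 n4683 = n5101 := d5_0 F4088 F2407 D4683
def n5102 : Q := act 4 n2693
theorem D5102 : act 4 n2693 = n5102 := rfl
theorem F4090 : act 0 n5102 = n2834 := d3_1 D5102 (iv D2834) F1783
theorem F4091 : act 1 n5102 = n2698 := d6_1 D5102 (iv D2698) (iv F1781)
theorem F4092 : act 3 n2716 = n5102 := d5_0 F4091 F1792 D2716
def n5103 : Q := act 2 n2694
theorem D5103 : act 2 n2694 = n5103 := rfl
theorem F4093 : act 0 n5103 = n4762 := d11_3 (iv D2692) D2694 D5103 (iv D4762) (iv D2474) D2473 (iv F1778)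
def n5104 : Q := act 3 n2694
theorem D5104 : act 3 n2694 = n5104 := rfl
theorem F4094 : act 1 n5104 = n2700 := d5_1 D5104 (iv D2700) (iv F1784)
theorem F4095 : act 0 n5104 = n2836 := d12_3 (iv D2693) D2694 D5104 (iv D2836) (iv D1261) F713 F1783
def n5105 : Q := act 4 n2695
theorem D5105 : act 4 n2695 = n5105 := rfl
theorem F4096 : act 1 n5105 = n2697 := d6_1 D5105 (iv D2697) D2695
def n5106 : Q := act 4 n2696
theorem D5106 : act 4 n2696 = n5106 := rfl
theorem F4097 : act 0 n5106 = n2997 := d3_1 D5106 (iv D2997) (iv F1787)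
theorem F4098 : act 1 n5106 = n3297 := d6_1 D5106 (iv D3297) (iv F1788)
theorem F4099 : act 3 n5106 = n4534 := d12_2 D2696 D5106 (iv D4534) (iv D2305) (iv D984) D983 (iv F657)
def n5107 : Q := act 3 n2697
theorem D5107 : act 3 n2697 = n5107 := rfl
def n5108 : Q := act 2 n2698
theorem D5108 : act 2 n2698 = n5108 := rfl
theorem F4100 : act 3 n5108 = n2717 := d7_2 (iv F1792) D5108 (iv D2717)
def n5109 : Q := act 0 n2699
theorem D5109 : act 0 n2699 = n5109 := rfl
theorem F4101 : act 2 n5109 = n4527 := d1_2 D2699 D5109 (iv F4071) F4073 (iv D2701) (iv D1192) (iv F658)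
def n5110 : Q := act 1 n2699
theorem D5110 : act 1 n2699 = n5110 := rfl
def n5111 : Q := act 3 n2699
theorem D5111 : act 3 n2699 = n5111 := rfl
theorem F4102 : act 2 n5111 = n2700 := d7_1 D5111 (iv D2700) D2699
def n5112 : Q := act 4 n2699
theorem D5112 : act 4 n2699 = n5112 := rfl
def n5113 : Q := act 4 n2700
theorem D5113 : act 4 n2700 = n5113 := rfl
theorem F4103 : act 0 n5113 = n4502 := d3_1 D5113 F4027 F4025
theorem F4104 : act 3 n5113 = n2718 := d9_1 D5113 (iv D2718) (iv F1792) (iv D2698) (iv D1190) D1191 D2700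
def n5114 : Q := act 1 n2701
theorem D5114 : act 1 n2701 = n5114 := rfl
def n5115 : Q := act 3 n2701
theorem D5115 : act 3 n2701 = n5115 := rfl
def n5116 : Q := act 4 n2701
theorem D5116 : act 4 n2701 = n5116 := rfl
theorem F4105 : act 0 n5116 = n2704 := d3_1 D5116 (iv D2704) D2701
def n5117 : Q := act 0 n2702
theorem D5117 : act 0 n2702 = n5117 := rfl
def n5118 : Q := act 2 n2702
theorem D5118 : act 2 n2702 = n5118 := rfl
theorem F4106 : act 1 n5118 = n2737 := d4_1 D5118 (iv D2737) (iv D1208) (iv D493) (iv F234) D1192 D2702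
def n5119 : Q := act 3 n2702
theorem D5119 : act 3 n2702 = n5119 := rfl
theorem F4107 : act 1 n5119 = n2703 := d5_1 D5119 (iv D2703) D2702
def n5120 : Q := act 4 n2702
theorem D5120 : act 4 n2702 = n5120 := rfl
theorem F4108 : act 1 n5120 = n2704 := d6_1 D5120 (iv D2704) D2702
def n5121 : Q := act 0 n2703
theorem D5121 : act 0 n2703 = n5121 := rfl
def n5122 : Q := act 4 n2703
theorem D5122 : act 4 n2703 = n5122 := rfl
def n5123 : Q := act 3 n2704
theorem D5123 : act 3 n2704 = n5123 := rfl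
def n5124 : Q := act 2 n2705
theorem D5124 : act 2 n2705 = n5124 := rfl
theorem F4109 : act 3 n5124 = n2719 := d7_2 (iv F1795) D5124 (iv D2719)
def n5125 : Q := act 3 n2706
theorem D5125 : act 3 n2706 = n5125 := rfl
theorem F4110 : act 1 n5125 = n2707 := d5_1 D5125 (iv D2707) D2706
def n5126 : Q := act 4 n2706
theorem D5126 : act 4 n2706 = n5126 := rfl
theorem F4111 : act 0 n5126 = n3135 := d3_1 D5126 (iv D3135) F1831
theorem F4112 : act 1 n5126 = n2708 := d6_1 D5126 (iv D2708) D2706
theorem F4113 : act 2 n5126 = n3323 := d8_1 D5126 (iv D3323) (iv F2237) (iv D3122) (iv F1289) D4316 F3251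
def n5127 : Q := act 4 n2707
theorem D5127 : act 4 n2707 = n5127 := rfl
def n5128 : Q := act 3 n2708
theorem D5128 : act 3 n2708 = n5128 := rfl
def n5129 : Q := act 3 n2709
theorem D5129 : act 3 n2709 = n5129 := rfl
theorem F4114 : act 2 n5129 = n3687 := d7_1 D5129 (iv D3687) F2265
def n5130 : Q := act 0 n2710
theorem D5130 : act 0 n2710 = n5130 := rfl
theorem F4115 : act 1 n5130 = n3534 := d0_2 (iv F1797) D5130 F2597 F1864 D3148 (iv F2267) F2266
theorem F4116 : act 2 n5130 = n4785 := d1_2 D2710 D5130 (iv D4785) (iv D2487) (iv F1041) F2265 (iv D2709)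
theorem F4117 : act 4 n5130 = n3446 := d3_2 F2474 D5130 F2499
def n5131 : Q := act 3 n2710
theorem D5131 : act 3 n2710 = n5131 := rfl
theorem F4118 : act 1 n5131 = n2745 := d5_1 D5131 (iv D2745) (iv F1797)
theorem F4119 : act 2 n5131 = n2711 := d7_1 D5131 (iv D2711) D2710
def n5132 : Q := act 0 n2711
theorem D5132 : act 0 n2711 = n5132 := rfl
theorem F4120 : act 2 n5132 = n4787 := d10_2 D2711 D5132 (iv D4787) (iv D2488) (iv F1041) F2265 (iv D2709)
def n5133 : Q := act 4 n2711
theorem D5133 : act 4 n2711 = n5133 := rfl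
theorem F4121 : act 1 n5133 = n2714 := d6_1 D5133 (iv D2714) (iv F1798)
def n5134 : Q := act 2 n2712
theorem D5134 : act 2 n2712 = n5134 := rfl
theorem F4122 : act 4 n5134 = n2730 := d8_2 D2712 D5134 F1807 D3124 (iv F2475) F2474 (iv D2710)
theorem F4123 : act 0 n5134 = n3476 := d13_1 D5134 (iv D3476) (iv F1843) (iv D2770) (iv F955) (iv F1426) (iv F1762) (iv F2613) (iv D3560) D3561 F2617
theorem F4124 : act 1 n5134 = n2732 := d14_2 (iv F1799) D5134 F1809 (iv F2248) F2249 F887 (iv F884) (iv F2419) (iv F4113) F4112 F1796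
def n5135 : Q := act 3 n2712
theorem D5135 : act 3 n2712 = n5135 := rfl
theorem F4125 : act 1 n5135 = n2715 := d5_1 D5135 (iv D2715) (iv F1799)
def n5136 : Q := act 1 n2713
theorem D5136 : act 1 n2713 = n5136 := rfl
def n5137 : Q := act 2 n2713
theorem D5137 : act 2 n2713 = n5137 := rfl
theorem F4126 : act 0 n5137 = n4528 := d1_1 D5137 (iv F4031) F4032 (iv D2717) (iv D1198) (iv F660) D2713
theorem F4127 : act 3 n3755 = n5137 := d12_2 F1769 D3755 F4126 (iv D4528) (iv D2302) D2301 (iv F1768)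
theorem F4128 : act 1 n5137 = n3759 := d5_1 F4127 (iv D3759) (iv F2763)
def n5138 : Q := act 3 n2713
theorem D5138 : act 3 n2713 = n5138 := rfl
theorem F4129 : act 0 n5138 = n4016 := d2_1 D5138 (iv F4040) F4041 (iv D2707) (iv D1194) D1196 D2713
theorem F4130 : act 2 n5138 = n3755 := d7_1 D5138 F4127 (iv D5137)
def n5139 : Q := act 4 n2713
theorem D5139 : act 4 n2713 = n5139 := rfl
theorem F4131 : act 0 n5139 = n2714 := d3_1 D5139 (iv D2714) D2713
def n5140 : Q := act 2 n2714
theorem D5140 : act 2 n2714 = n5140 := rfl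
def n5141 : Q := act 3 n2714
theorem D5141 : act 3 n2714 = n5141 := rfl
def n5144 : Q := act 0 n2716
theorem D5144 : act 0 n2716 = n5144 := rfl
theorem F4132 : act 1 n5144 = n2751 := d0_2 D2716 D5144 (iv D2751) (iv D1218) (iv D498) (iv F235) D1198
def n5145 : Q := act 2 n2716
theorem D5145 : act 2 n2716 = n5145 := rfl
theorem F4133 : act 0 n5145 = n4798 := d15_1 D5145 (iv D4798) (iv D2492) (iv D1079) F205 (iv F209) D1099 F605 D1218 D2751 (iv F4132) (iv D5144)
def n5146 : Q := act 4 n2716
theorem D5146 : act 4 n2716 = n5146 := rfl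
theorem F4134 : act 1 n5146 = n2718 := d6_1 D5146 (iv D2718) D2716
def n5147 : Q := act 1 n2717
theorem D5147 : act 1 n2717 = n5147 := rfl
def n5148 : Q := act 4 n2717
theorem D5148 : act 4 n2717 = n5148 := rfl
def n5149 : Q := act 2 n2718
theorem D5149 : act 2 n2718 = n5149 := rfl
theorem F4135 : act 0 n5149 = n4535 := d13_1 D5149 F3490 F3424 (iv D2411) F555 F191 (iv F228) D1167 F2191 (iv F661) (iv F1800)
theorem F4136 : act 4 n4534 = n5149 := d3_0 F4135 (iv D4535) D4534
theorem E582 : n2719 = n2691 := (c11_5 F4082 F4136 (iv D5149) F1800 D2719 (iv D2691) (iv F1776) D5094)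
theorem E583 : n5100 = n1199 := ((D5100).symm.trans (sb E582 (iv D2719)))
theorem E584 : n5124 = n5093 := ((((iv F4081)).symm.trans (sb E582 (iv F4109)))).symm
theorem F4137 : act 2 n1199 = n2691 := (sb E583 (iv D5100))
theorem F4138 : act 2 n5093 = n2705 := (sb E584 (iv D5124))
theorem E585 : n5140 = n5095 := ((c8_5 D1199 F4137 (iv D2691) (iv F1776) D5095 (iv D5140) (iv D2714) F660)).symm
theorem F4139 : act 2 n5095 = n2714 := (sb E585 (iv D5140))
def n5150 : Q := act 1 n2720
theorem D5150 : act 1 n2720 = n5150 := rfl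
theorem F4140 : act 0 n5150 = n4899 := d13_3 (iv F662) D2720 D5150 F3887 (iv F3572) (iv D4603) (iv F1542) (iv F3023) F3021 (iv D2724) (iv D1202)
def n5151 : Q := act 3 n2720
theorem D5151 : act 3 n2720 = n5151 := rfl
theorem F4141 : act 0 n5151 = n3361 := d2_1 D5151 (iv D3361) (iv D1583) (iv D661) (iv F344) D1200 D2720
theorem F4142 : act 2 n5151 = n3352 := d7_1 D5151 (iv D3352) (iv F1801)
def n5152 : Q := act 4 n2720
theorem D5152 : act 4 n2720 = n5152 := rfl
theorem F4143 : act 0 n5152 = n2721 := d3_1 D5152 (iv D2721) D2720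
def n5153 : Q := act 2 n2721
theorem D5153 : act 2 n2721 = n5153 := rfl
def n5154 : Q := act 3 n2721
theorem D5154 : act 3 n2721 = n5154 := rfl
theorem F4144 : act 0 n5154 = n3364 := d12_3 D1200 D2721 D5154 (iv D3364) (iv D1584) (iv D661) (iv F344)
def n5155 : Q := act 3 n2722
theorem D5155 : act 3 n2722 = n5155 := rfl
theorem F4145 : act 2 n5155 = n2723 := d7_1 D5155 (iv D2723) D2722
def n5156 : Q := act 4 n2722
theorem D5156 : act 4 n2722 = n5156 := rfl
theorem F4146 : act 2 n5156 = n2732 := d8_1 D5156 (iv D2732) (iv D1204) (iv D490) D488 D1201 D2722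
def n5157 : Q := act 0 n2723
theorem D5157 : act 0 n2723 = n5157 := rfl
def n5158 : Q := act 4 n2723
theorem D5158 : act 4 n2723 = n5158 := rfl
def n5159 : Q := act 4 n2724
theorem D5159 : act 4 n2724 = n5159 := rfl
theorem F4147 : act 1 n5159 = n2727 := d6_1 D5159 (iv D2727) D2724
theorem F4148 : act 2 n5159 = n4611 := d11_2 (iv F1802) D5159 (iv D4611) (iv D2361) (iv D1011) D1009 D2355
def n5160 : Q := act 3 n2725
theorem D5160 : act 3 n2725 = n5160 := rfl
theorem F4149 : act 0 n5160 = n3371 := d2_1 D5160 (iv D3371) (iv F937) (iv D1635) F339 D1577 (iv F1803)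
theorem F4150 : act 2 n5160 = n2726 := d7_1 D5160 (iv D2726) D2725
def n5161 : Q := act 4 n2725
theorem D5161 : act 4 n2725 = n5161 := rfl
theorem F4151 : act 0 n5161 = n3349 := d3_1 D5161 (iv D3349) (iv F1803)
def n5162 : Q := act 4 n2726
theorem D5162 : act 4 n2726 = n5162 := rfl
theorem F4152 : act 3 n5162 = n2733 := d12_2 D2726 D5162 (iv D2733) (iv D1205) (iv D490) D489 D1202
def n5163 : Q := act 2 n2727
theorem D5163 : act 2 n2727 = n5163 := rfl
theorem F4153 : act 0 n5163 = n3354 := d11_3 (iv D2725) D2727 D5163 (iv D3354) (iv D1580) (iv F889) (iv F1803)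
theorem F4154 : act 1 n3354 = n4943 := d13_2 D5163 F4153 (iv D4943) (iv D2586) (iv D1130) (iv D458) D457 (iv F592) F591 (iv F664) (iv F1804)
def n5164 : Q := act 3 n2727
theorem D5164 : act 3 n2727 = n5164 := rfl
def n5165 : Q := act 0 n2728
theorem D5165 : act 0 n2728 = n5165 := rfl
theorem F4155 : act 2 n5165 = n3353 := d1_2 D2728 D5165 F2436 D3354 (iv F4153) (iv D5163) F1804
def n5166 : Q := act 1 n2728
theorem D5166 : act 1 n2728 = n5166 := rfl
theorem F4156 : act 0 n5166 = n4637 := d13_3 (iv F4155) (iv D5165) D5166 (iv D4637) (iv D2378) (iv D1019) D1018 (iv F1445) F1444 F1419 (iv F2436)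
def n5167 : Q := act 3 n2728
theorem D5167 : act 3 n2728 = n5167 := rfl
theorem F4157 : act 2 n5167 = n2729 := d7_1 D5167 (iv D2729) D2728
theorem F4158 : act 0 n5167 = n3378 := d10_1 D5167 F2445 (iv F2437) (iv D3355) (iv F2436) (iv F4155) (iv D5165)
def n5168 : Q := act 4 n2728
theorem D5168 : act 4 n2728 = n5168 := rfl
def n5169 : Q := act 4 n2729
theorem D5169 : act 4 n2729 = n5169 := rfl
theorem F4159 : act 1 n5169 = n2735 := d6_1 D5169 (iv D2735) (iv F1805)
theorem F4160 : act 3 n5169 = n2734 := d9_1 D5169 (iv D2734) (iv D1205) (iv D490) D489 D1203 D2729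
def n5170 : Q := act 3 n2730
theorem D5170 : act 3 n2730 = n5170 := rfl
theorem F4161 : act 1 n5170 = n2731 := d5_1 D5170 (iv D2731) D2730
theorem F4162 : act 2 n5170 = n3123 := d7_1 D5170 (iv D3123) (iv F1807)
theorem F4163 : act 0 n5170 = n4656 := d10_1 D5170 (iv D4656) (iv D2395) (iv D1028) D1026 D2391 (iv F1806)
def n5171 : Q := act 0 n2731
theorem D5171 : act 0 n2731 = n5171 := rfl
theorem F4164 : act 2 n5171 = n3358 := d10_2 D2731 D5171 (iv D3358) (iv D1582) F322 D665 (iv F665)
def n5172 : Q := act 4 n2731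
theorem D5172 : act 4 n2731 = n5172 := rfl
def n5173 : Q := act 3 n2732
theorem D5173 : act 3 n2732 = n5173 := rfl
def n5174 : Q := act 1 n2733
theorem D5174 : act 1 n2733 = n5174 := rfl
theorem F4165 : act 2 n5174 = n4666 := d15_6 D473 F227 (iv F238) (iv F666) D2733 D5174 (iv D4666) (iv D2407) (iv D1033) (iv D414) F66 D179
def n5175 : Q := act 2 n2733
theorem D5175 : act 2 n2733 = n5175 := rfl
theorem F4166 : act 0 n5175 = n3356 := d1_1 D5175 F2438 D3358 (iv F4164) (iv D5171) F1808 D2733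
def n5176 : Q := act 4 n2733
theorem D5176 : act 4 n2733 = n5176 := rfl
theorem F4167 : act 0 n5176 = n2734 := d3_1 D5176 (iv D2734) D2733
def n5177 : Q := act 2 n2734
theorem D5177 : act 2 n2734 = n5177 := rfl
def n5178 : Q := act 1 n2736
theorem D5178 : act 1 n2736 = n5178 := rfl
def n5179 : Q := act 2 n2736
theorem D5179 : act 2 n2736 = n5179 := rfl
def n5180 : Q := act 3 n2736
theorem D5180 : act 3 n2736 = n5180 := rfl
def n5181 : Q := act 4 n2736
theorem D5181 : act 4 n2736 = n5181 := rfl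
theorem F4168 : act 0 n5181 = n2739 := d3_1 D5181 (iv D2739) D2736
def n5182 : Q := act 0 n2737
theorem D5182 : act 0 n2737 = n5182 := rfl
def n5183 : Q := act 3 n2737
theorem D5183 : act 3 n2737 = n5183 := rfl
theorem F4169 : act 2 n5183 = n2738 := d7_1 D5183 (iv D2738) D2737
def n5184 : Q := act 4 n2737
theorem D5184 : act 4 n2737 = n5184 := rfl
def n5185 : Q := act 0 n2738
theorem D5185 : act 0 n2738 = n5185 := rfl
theorem F4170 : act 3 n5185 = n4694 := d12_4 F1815 (iv D2739) D2738 D5185 (iv D4694) (iv D2433) (iv F674)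
theorem F4171 : act 1 n5185 = n4690 := d15_5 F263 (iv F239) (iv F668) (iv F1813) D5185 F3680 F1702 (iv F2165) (iv F3839) (iv D4848) F1626 F599
theorem F4172 : act 4 n4689 = n5185 := d6_0 F4171 (iv D4690) (iv F3678)
def n5186 : Q := act 4 n2738
theorem D5186 : act 4 n2738 = n5186 := rfl
theorem F4173 : act 0 n5186 = n4689 := d3_1 D5186 F4172 (iv D5185)
theorem F4174 : act 1 n5186 = n2740 := d6_1 D5186 (iv D2740) (iv F1813)
theorem F4175 : act 3 n5186 = n2748 := d9_1 D5186 (iv D2748) (iv D1214) D1215 F1815 (iv D2739) D2738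
def n5187 : Q := act 2 n2739
theorem D5187 : act 2 n2739 = n5187 := rfl
theorem F4176 : act 3 n5187 = n2749 := d7_2 F1815 D5187 (iv D2749)
def n5188 : Q := act 3 n2742
theorem D5188 : act 3 n2742 = n5188 := rfl
theorem F4177 : act 1 n5188 = n3530 := d5_1 D5188 (iv D3530) (iv F2469)
theorem F4178 : act 2 n5188 = n2743 := d7_1 D5188 (iv D2743) D2742
theorem F4179 : act 4 n3649 = n5188 := d6_0 F4177 F2797 D3649
def n5189 : Q := act 0 n2745
theorem D5189 : act 0 n2745 = n5189 := rfl
def n5190 : Q := act 4 n2745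
theorem D5190 : act 4 n2745 = n5190 := rfl
def n5191 : Q := act 1 n2747
theorem D5191 : act 1 n2747 = n5191 := rfl
def n5192 : Q := act 2 n2747
theorem D5192 : act 2 n2747 = n5192 := rfl
def n5193 : Q := act 3 n2747
theorem D5193 : act 3 n2747 = n5193 := rfl
def n5194 : Q := act 4 n2747
theorem D5194 : act 4 n2747 = n5194 := rfl
theorem F4180 : act 0 n5194 = n2748 := d3_1 D5194 (iv D2748) D2747
def n5195 : Q := act 2 n2748
theorem D5195 : act 2 n2748 = n5195 := rfl
def n5196 : Q := act 2 n2751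
theorem D5196 : act 2 n2751 = n5196 := rfl
def n5197 : Q := act 0 n2752
theorem D5197 : act 0 n2752 = n5197 := rfl
def n5198 : Q := act 1 n2752
theorem D5198 : act 1 n2752 = n5198 := rfl
def n5199 : Q := act 4 n2752
theorem D5199 : act 4 n2752 = n5199 := rfl
def n5200 : Q := act 4 n2756
theorem D5200 : act 4 n2756 = n5200 := rfl
theorem F4181 : act 0 n5200 = n4032 := d3_1 D5200 (iv D4032) (iv F1823)
theorem F4182 : act 1 n5200 = n2758 := d6_1 D5200 (iv D2758) D2756
theorem F4183 : act 3 n5200 = n2910 := d12_2 F1948 D5200 (iv D2910) (iv D1297) (iv D533) D532 D1294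
def n5201 : Q := act 4 n2757
theorem D5201 : act 4 n2757 = n5201 := rfl
theorem F4184 : act 1 n5201 = n2904 := d6_1 D5201 (iv D2904) (iv F1949)
theorem F4185 : act 3 n5201 = n2763 := d12_2 D2757 D5201 (iv D2763) (iv D1224) (iv D501) D500 D1221
def n5202 : Q := act 2 n2758
theorem D5202 : act 2 n2758 = n5202 := rfl
theorem F4186 : act 4 n5202 = n4972 := d11_1 D5202 F3946 (iv D3137) F799 (iv F1825) (iv D2759) (iv F1824)
theorem F4187 : act 0 n5202 = n4699 := d11_3 F1523 D2758 D5202 (iv D4699) (iv D2439) F575 D2438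
def n5203 : Q := act 3 n2758
theorem D5203 : act 3 n2758 = n5203 := rfl
theorem F4188 : act 1 n5203 = n2910 := d5_1 D5203 (iv F4183) F4182
def n5204 : Q := act 0 n2759
theorem D5204 : act 0 n2759 = n5204 := rfl
theorem F4189 : act 2 n5204 = n4698 := d1_2 D2759 D5204 F3692 D4699 (iv F4187) (iv D5202) F1824
theorem F4190 : act 4 n5204 = n3137 := d3_2 (iv F1825) D5204 (iv D3137)
def n5205 : Q := act 3 n2759
theorem D5205 : act 3 n2759 = n5205 := rfl
theorem F4191 : act 1 n5205 = n3107 := d5_1 D5205 F2225 F1826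
theorem F4192 : act 2 n5205 = n2760 := d7_1 D5205 (iv D2760) D2759
theorem F4193 : act 4 n3104 = n5205 := d17_3 (iv D3107) D3104 F2221 F4192 F1827 F696 F254 (iv F263) D1316 (iv F2166) (iv F786) (iv F2224)
def n5206 : Q := act 4 n2760
theorem D5206 : act 4 n2760 = n5206 := rfl
theorem F4194 : act 1 n5206 = n2787 := d6_1 D5206 (iv D2787) (iv F1827)
theorem F4195 : act 2 n5206 = n5206 := d8_1 D5206 (iv D5206) (iv F4192) (iv F4193) F2221 F4193 F4192
theorem F4196 : act 3 n5206 = n2764 := d9_1 D5206 (iv D2764) (iv D1224) (iv D501) D500 D1222 D2760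
def n5207 : Q := act 3 n2761
theorem D5207 : act 3 n2761 = n5207 := rfl
theorem F4197 : act 1 n5207 = n3120 := d5_1 D5207 (iv D3120) (iv F1828)
theorem F4198 : act 2 n5207 = n3224 := d7_1 D5207 (iv D3224) (iv F1829)
def n5208 : Q := act 0 n2762
theorem D5208 : act 0 n2762 = n5208 := rfl
theorem F4199 : act 2 n5208 = n4702 := d10_2 D2762 D5208 (iv D4702) (iv D2441) (iv F839) (iv F1829) (iv D2761)
def n5209 : Q := act 4 n2762
theorem D5209 : act 4 n2762 = n5209 := rfl
theorem F4200 : act 1 n5209 = n3106 := d6_1 D5209 F2223 (iv F1832)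
theorem F4201 : act 2 n5209 = n5209 := d8_1 D5209 (iv D5209) F1833 D2764 F2212 (iv D2764) (iv F1833)
theorem F4202 : act 3 n5209 = n3104 := d9_1 D5209 F4193 (iv D5205) F1825 (iv D1438) (iv F680) D2762
def n5210 : Q := act 1 n2763
theorem D5210 : act 1 n2763 = n5210 := rfl
theorem F4203 : act 0 n5210 = n4047 := d0_1 D5210 (iv D4047) (iv D1967) F700 (iv D1241) (iv F681) D2763
theorem F4204 : act 3 n5210 = n2904 := d5_2 F4185 D5210 (iv F4184)
def n5211 : Q := act 2 n2763
theorem D5211 : act 2 n2763 = n5211 := rfl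
theorem F4205 : act 0 n5211 = n4701 := d1_1 D5211 F3698 D4702 (iv F4199) (iv D5208) F1833 D2763
def n5212 : Q := act 4 n2763
theorem D5212 : act 4 n2763 = n5212 := rfl
theorem F4206 : act 0 n5212 = n2764 := d3_1 D5212 (iv D2764) D2763
def n5213 : Q := act 2 n2765
theorem D5213 : act 2 n2765 = n5213 := rfl
theorem F4207 : act 0 n5213 = n2815 := d1_1 D5213 (iv D2815) F706 D1252 D2817 F1888 (iv F1835)
def n5214 : Q := act 3 n2765
theorem D5214 : act 3 n2765 = n5214 := rfl
theorem F4208 : act 1 n5214 = n3364 := d5_1 D5214 (iv D3364) (iv F1836)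
theorem F4209 : act 0 n5214 = n2774 := d12_3 D1225 D2765 D5214 (iv D2774) (iv D1230) (iv D504) D502
def n5215 : Q := act 3 n2766
theorem D5215 : act 3 n2766 = n5215 := rfl
theorem F4210 : act 1 n5215 = n4350 := d5_1 D5215 (iv D4350) F1838
theorem F4211 : act 2 n5215 = n2767 := d7_1 D5215 (iv D2767) D2766
theorem F4212 : act 0 n5215 = n2829 := d10_1 D5215 (iv D2829) (iv D1257) (iv D517) (iv F249) D1246 (iv F1837)
def n5216 : Q := act 0 n2767
theorem D5216 : act 0 n2767 = n5216 := rfl
theorem F4213 : act 2 n5216 = n2825 := d1_2 F4211 D5216 (iv D2825) F708 D1257 D2829 (iv F4212)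
theorem F4214 : act 3 n5216 = n2840 := d2_2 D2767 D5216 (iv F2769) F2771 (iv D2778) (iv D1232) (iv F685)
def n5217 : Q := act 4 n2767
theorem D5217 : act 4 n2767 = n5217 := rfl
theorem F4215 : act 1 n5217 = n3369 := d6_1 D5217 (iv D3369) (iv F1840)
def n5218 : Q := act 1 n2768
theorem D5218 : act 1 n2768 = n5218 := rfl
theorem F4216 : act 2 n5218 = n4618 := d4_2 F2526 D5218 F3600 (iv D4110) (iv D2011) D2012 (iv F2527)
def n5219 : Q := act 3 n2768
theorem D5219 : act 3 n2768 = n5219 := rfl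
def n5220 : Q := act 4 n2768
theorem D5220 : act 4 n2768 = n5220 := rfl
theorem F4217 : act 0 n5220 = n2769 := d3_1 D5220 (iv D2769) D2768
def n5221 : Q := act 2 n2769
theorem D5221 : act 2 n2769 = n5221 := rfl
theorem F4218 : act 4 n5221 = n3140 := d17_3 D1230 (iv F1841) D5221 F2251 F2250 D3141 (iv F2834) (iv D3806) (iv D1827) (iv F1077) F1076 (iv D1229)
theorem F4219 : act 1 n3142 = n5221 := d17_1 D3142 (iv D5221) (iv D2769) F688 F687 D1229 (iv F1076) F1077 D1827 D3806 F2834 (iv D3141)
def n5222 : Q := act 3 n2769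
theorem D5222 : act 3 n2769 = n5222 := rfl
theorem F4220 : act 1 n5222 = n2774 := d5_1 D5222 (iv D2774) (iv F1841)
def n5223 : Q := act 3 n2770
theorem D5223 : act 3 n2770 = n5223 := rfl
theorem F4221 : act 1 n5223 = n3144 := d5_1 D5223 (iv D3144) F1844
theorem F4222 : act 2 n5223 = n2771 := d7_1 D5223 (iv D2771) D2770
def n5224 : Q := act 0 n2771
theorem D5224 : act 0 n2771 = n5224 := rfl
def n5225 : Q := act 4 n2771
theorem D5225 : act 4 n2771 = n5225 := rfl
theorem F4223 : act 1 n5225 = n2779 := d6_1 D5225 (iv D2779) (iv F1845)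
def n5226 : Q := act 2 n2772
theorem D5226 : act 2 n2772 = n5226 := rfl
theorem F4224 : act 0 n5226 = n2803 := d11_3 F1066 D2772 D5226 (iv D2803) (iv D1245) (iv F701) (iv F1064)
def n5227 : Q := act 3 n2772
theorem D5227 : act 3 n2772 = n5227 := rfl
theorem F4225 : act 0 n5227 = n2841 := d2_1 D5227 (iv D2841) (iv F1835) D5214 F4209 (iv D2774) (iv F1846)
def n5228 : Q := act 0 n2773
theorem D5228 : act 0 n2773 = n5228 := rfl
theorem F4226 : act 2 n5228 = n2780 := d1_2 D2773 D5228 F1850 D2803 (iv F4224) (iv D5226) F1846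
def n5229 : Q := act 1 n2773
theorem D5229 : act 1 n2773 = n5229 := rfl
def n5230 : Q := act 3 n2773
theorem D5230 : act 3 n2773 = n5230 := rfl
theorem F4227 : act 2 n5230 = n2774 := d7_1 D5230 (iv D2774) D2773
theorem F4228 : act 0 n5230 = n2819 := d10_1 D5230 F1889 (iv F1873) (iv D2804) (iv F1850) (iv F4226) (iv D5228)
def n5231 : Q := act 4 n2773
theorem D5231 : act 4 n2773 = n5231 := rfl
theorem F4229 : act 2 n5231 = n2786 := d8_1 D5231 (iv D2786) (iv D1235) (iv D507) (iv F246) D1230 D2773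
def n5232 : Q := act 4 n2774
theorem D5232 : act 4 n2774 = n5232 := rfl
theorem F4230 : act 3 n5232 = n2779 := d9_1 D5232 (iv D2779) (iv D1232) (iv D505) D504 D1230 D2774
def n5233 : Q := act 0 n2775
theorem D5233 : act 0 n2775 = n5233 := rfl
theorem F4231 : act 1 n5233 = n5044 := d0_2 D2775 D5233 F4019 (iv F1894) (iv D2822) (iv D1254) (iv F690)
theorem F4232 : act 2 n5233 = n3253 := d13_4 D516 (iv F690) D2775 D5233 (iv F3711) (iv D4712) F1554 (iv D1067) (iv F581) F582 F249
theorem F4233 : act 4 n5233 = n5042 := d17_0 (iv D5042) (iv D2661) (iv D1174) (iv D477) D476 F229 (iv D191) D192 D505 D1231 D2775 D5233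
def n5234 : Q := act 2 n2775
theorem D5234 : act 2 n2775 = n5234 := rfl
theorem F4234 : act 1 n5234 = n3143 := d4_1 D5234 (iv D3143) F1844 (iv D2770) F689 D1231 D2775
theorem F4235 : act 4 n5234 = n3695 := d11_1 D5234 F2728 F2729 (iv D3251) D3253 (iv F4232) (iv D5233)
def n5235 : Q := act 3 n2775
theorem D5235 : act 3 n2775 = n5235 := rfl
theorem F4236 : act 1 n5235 = n2776 := d5_1 D5235 (iv D2776) D2775
def n5236 : Q := act 4 n2775
theorem D5236 : act 4 n2775 = n5236 := rfl
theorem F4237 : act 0 n5236 = n5042 := d3_1 D5236 (iv F4233) (iv D5233)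
theorem F4238 : act 1 n5236 = n2777 := d6_1 D5236 (iv D2777) D2775
theorem F4239 : act 2 n5236 = n5236 := d8_1 D5236 (iv D5236) D5234 F4235 F2728 (iv F4235) (iv D5234)
def n5237 : Q := act 0 n2776
theorem D5237 : act 0 n2776 = n5237 := rfl
theorem F4240 : act 2 n5237 = n2808 := d10_2 D2776 D5237 (iv D2808) (iv D1247) F249 D516 (iv F690)
theorem F4241 : act 3 n4028 = n5237 := d7_0 F4240 F1878 D4028
def n5238 : Q := act 4 n2776
theorem D5238 : act 4 n2776 = n5238 := rfl
def n5239 : Q := act 3 n2777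
theorem D5239 : act 3 n2777 = n5239 := rfl
theorem F4242 : act 2 n5239 = n2797 := d7_1 D5239 (iv D2797) (iv F1849)
def n5240 : Q := act 2 n2778
theorem D5240 : act 2 n2778 = n5240 := rfl
theorem F4243 : act 0 n5240 = n2806 := d1_1 D5240 F1875 D2808 (iv F4240) (iv D5237) F1847 D2778
def n5241 : Q := act 4 n2778
theorem D5241 : act 4 n2778 = n5241 := rfl
theorem F4244 : act 0 n5241 = n2779 := d3_1 D5241 (iv D2779) D2778
def n5242 : Q := act 2 n2779
theorem D5242 : act 2 n2779 = n5242 := rfl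
def n5243 : Q := act 3 n2780
theorem D5243 : act 3 n2780 = n5243 := rfl
theorem F4245 : act 0 n5243 = n2816 := d2_1 D5243 (iv D2816) F706 D1253 (iv F1873) (iv D2804) (iv F1850)
theorem F4246 : act 1 n5243 = n4104 := d5_1 D5243 (iv D4104) (iv F1851)
def n5244 : Q := act 0 n2781
theorem D5244 : act 0 n2781 = n5244 := rfl
theorem F4247 : act 2 n5244 = n2801 := d1_2 D2781 D5244 (iv F2772) F2774 (iv D2783) (iv D1235) (iv F694)
theorem F4248 : act 3 n5244 = n2855 := d10_4 (iv D1236) (iv F694) D2781 D5244 (iv D2855) F718 (iv F696)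
def n5245 : Q := act 1 n2781
theorem D5245 : act 1 n2781 = n5245 := rfl
def n5246 : Q := act 3 n2781
theorem D5246 : act 3 n2781 = n5246 := rfl
theorem F4249 : act 0 n5246 = n2849 := d2_1 D5246 (iv D2849) (iv D1268) D1270 D2855 (iv F4248) (iv D5244)
theorem F4250 : act 2 n5246 = n2782 := d7_1 D5246 (iv D2782) D2781
def n5247 : Q := act 4 n2781
theorem D5247 : act 4 n2781 = n5247 := rfl
def n5248 : Q := act 1 n2783
theorem D5248 : act 1 n2783 = n5248 := rfl
def n5249 : Q := act 3 n2783
theorem D5249 : act 3 n2783 = n5249 := rfl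
theorem F4251 : act 0 n5249 = n2845 := d10_1 D5249 F1914 (iv F1852) (iv D2782) F694 D1235 D2783
def n5250 : Q := act 4 n2783
theorem D5250 : act 4 n2783 = n5250 := rfl
theorem F4252 : act 0 n5250 = n2786 := d3_1 D5250 (iv D2786) D2783
def n5251 : Q := act 0 n2784
theorem D5251 : act 0 n2784 = n5251 := rfl
def n5252 : Q := act 2 n2784
theorem D5252 : act 2 n2784 = n5252 := rfl
theorem F4253 : act 1 n5252 = n3147 := d4_1 D5252 (iv D3147) F1826 (iv D2759) F678 D1235 D2784
def n5253 : Q := act 3 n2784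
theorem D5253 : act 3 n2784 = n5253 := rfl
theorem F4254 : act 1 n5253 = n2785 := d5_1 D5253 (iv D2785) D2784
def n5254 : Q := act 4 n2784
theorem D5254 : act 4 n2784 = n5254 := rfl
theorem F4255 : act 1 n5254 = n2786 := d6_1 D5254 (iv D2786) D2784
def n5255 : Q := act 0 n2785
theorem D5255 : act 0 n2785 = n5255 := rfl
theorem F4256 : act 3 n5255 = n2843 := d2_2 D2785 D5255 (iv D2843) D2845 (iv F4251) (iv D5249) (iv D2783)
theorem F4257 : act 2 n3273 = n5255 := d7_3 F4256 F1913 D3273
def n5256 : Q := act 4 n2785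
theorem D5256 : act 4 n2785 = n5256 := rfl
def n5257 : Q := act 3 n2786
theorem D5257 : act 3 n2786 = n5257 := rfl
def n5258 : Q := act 2 n2787
theorem D5258 : act 2 n2787 = n5258 := rfl
theorem F4258 : act 3 n5258 = n2800 := d7_2 (iv F1856) D5258 (iv D2800)
def n5259 : Q := act 2 n2788
theorem D5259 : act 2 n2788 = n5259 := rfl
theorem F4259 : act 1 n5259 = n3288 := d4_1 D5259 (iv D3288) (iv D1544) (iv D643) (iv F316) (iv F697) D2788
theorem F4260 : act 4 n5259 = n3413 := d8_2 (iv F1863) D5259 (iv D3413) (iv D1610) (iv D674) D676 D1613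
def n5260 : Q := act 3 n2788
theorem D5260 : act 3 n2788 = n5260 := rfl
theorem F4261 : act 1 n5260 = n2789 := d5_1 D5260 (iv D2789) D2788
def n5261 : Q := act 4 n2789
theorem D5261 : act 4 n2789 = n5261 := rfl
theorem F4262 : act 0 n5261 = n2883 := d3_1 D5261 (iv D2883) (iv F1859)
def n5262 : Q := act 3 n2790
theorem D5262 : act 3 n2790 = n5262 := rfl
theorem F4263 : act 1 n5262 = n3396 := d5_1 D5262 F2456 F1862
theorem F4264 : act 2 n5262 = n4347 := d7_1 D5262 (iv D4347) (iv F1861)
def n5263 : Q := act 3 n2791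
theorem D5263 : act 3 n2791 = n5263 := rfl
theorem F4265 : act 2 n5263 = n3522 := d7_1 D5263 F2799 F2471
def n5264 : Q := act 3 n2792
theorem D5264 : act 3 n2792 = n5264 := rfl
theorem F4266 : act 1 n5264 = n3149 := d5_1 D5264 (iv D3149) (iv F1864)
theorem F4267 : act 2 n5264 = n2793 := d7_1 D5264 (iv D2793) D2792
def n5265 : Q := act 0 n2793
theorem D5265 : act 0 n2793 = n5265 := rfl
def n5266 : Q := act 4 n2793
theorem D5266 : act 4 n2793 = n5266 := rfl
theorem F4268 : act 1 n5266 = n2796 := d6_1 D5266 (iv D2796) (iv F1865)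
def n5267 : Q := act 3 n2794
theorem D5267 : act 3 n2794 = n5267 := rfl
theorem F4269 : act 1 n5267 = n2797 := d5_1 D5267 (iv D2797) (iv F1866)
theorem F4270 : act 2 n5267 = n5267 := d7_1 D5267 (iv D5267) F1867
def n5268 : Q := act 1 n2795
theorem D5268 : act 1 n2795 = n5268 := rfl
def n5269 : Q := act 4 n2795
theorem D5269 : act 4 n2795 = n5269 := rfl
theorem F4271 : act 0 n5269 = n2796 := d3_1 D5269 (iv D2796) D2795
def n5270 : Q := act 2 n2796
theorem D5270 : act 2 n2796 = n5270 := rfl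
def n5271 : Q := act 3 n2796
theorem D5271 : act 3 n2796 = n5271 := rfl
def n5274 : Q := act 1 n2798
theorem D5274 : act 1 n2798 = n5274 := rfl
theorem F4272 : act 3 n5274 = n4029 := d5_2 (iv F1868) D5274 (iv D4029)
def n5275 : Q := act 4 n2798
theorem D5275 : act 4 n2798 = n5275 := rfl
theorem F4273 : act 0 n5275 = n2862 := d3_1 D5275 (iv D2862) (iv F1869)
def n5276 : Q := act 2 n2799
theorem D5276 : act 2 n2799 = n5276 := rfl
theorem F4274 : act 1 n5276 = n4129 := d4_1 D5276 (iv D4129) F1232 F3374 (iv F444) (iv F2206) (iv F1871)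
theorem F4275 : act 3 n5276 = n4503 := d7_2 (iv F2208) D5276 (iv D4503)
def n5278 : Q := act 1 n2800
theorem D5278 : act 1 n2800 = n5278 := rfl
theorem F4276 : act 2 n5278 = n5278 := d4_2 D2800 D5278 (iv D5278) (iv D2800) (iv F1834) F2212 F1834
def n5280 : Q := act 3 n2801
theorem D5280 : act 3 n2801 = n5280 := rfl
theorem F4277 : act 2 n5280 = n2855 := d7_1 D5280 (iv F4248) F4247
theorem F4278 : act 0 n5280 = n3273 := d10_1 D5280 F4257 (iv D5255) (iv D2785) D2783 (iv F2774) F2772
def n5281 : Q := act 4 n2802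
theorem D5281 : act 4 n2802 = n5281 := rfl
def n5282 : Q := act 1 n2803
theorem D5282 : act 1 n2803 = n5282 := rfl
def n5283 : Q := act 3 n2803
theorem D5283 : act 3 n2803 = n5283 := rfl
theorem F4279 : act 2 n5283 = n2804 := d7_1 D5283 (iv D2804) D2803
def n5284 : Q := act 4 n2803
theorem D5284 : act 4 n2803 = n5284 := rfl
def n5285 : Q := act 4 n2804
theorem D5285 : act 4 n2804 = n5285 := rfl
theorem F4280 : act 0 n5285 = n2821 := d3_1 D5285 (iv D2821) (iv F1873)
theorem F4281 : act 3 n5285 = n2809 := d9_1 D5285 (iv D2809) (iv D1247) (iv D513) D512 D1245 D2804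
def n5286 : Q := act 0 n2805
theorem D5286 : act 0 n2805 = n5286 := rfl
theorem F4282 : act 1 n5286 = n4533 := d0_2 D2805 D5286 (iv F4049) F4050 F3274 F1838 F1837
theorem F4283 : act 2 n5286 = n4974 := d1_2 F1874 D5286 F3949 D4977 F3951 (iv D2620) (iv F1720)
theorem F4284 : act 4 n5286 = n4531 := d17_0 (iv D4531) (iv D2304) (iv D984) D982 D2300 F1413 F579 (iv D511) D513 D1246 D2805 D5286
def n5287 : Q := act 3 n2805
theorem D5287 : act 3 n2805 = n5287 := rfl
theorem F4285 : act 1 n5287 = n2806 := d5_1 D5287 (iv D2806) D2805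
theorem F4286 : act 2 n5287 = n4988 := d7_1 D5287 (iv D4988) F1874
def n5288 : Q := act 4 n2805
theorem D5288 : act 4 n2805 = n5288 := rfl
theorem F4287 : act 0 n5288 = n4531 := d3_1 D5288 (iv F4284) (iv D5286)
theorem F4288 : act 1 n5288 = n2807 := d6_1 D5288 (iv D2807) D2805
theorem F4289 : act 2 n5288 = n2861 := d8_1 D5288 (iv D2861) D2859 F1921 (iv D2615) D2617 F1874
def n5289 : Q := act 4 n2806
theorem D5289 : act 4 n2806 = n5289 := rfl
def n5290 : Q := act 3 n2807
theorem D5290 : act 3 n2807 = n5290 := rfl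
theorem F4290 : act 2 n5290 = n2863 := d7_1 D5290 (iv D2863) (iv F1877)
def n5291 : Q := act 4 n2808
theorem D5291 : act 4 n2808 = n5291 := rfl
theorem F4291 : act 0 n5291 = n2809 := d3_1 D5291 (iv D2809) D2808
theorem F4292 : act 1 n5291 = n4109 := d6_1 D5291 (iv D4109) F1879
def n5292 : Q := act 2 n2809
theorem D5292 : act 2 n2809 = n5292 := rfl
def n5293 : Q := act 0 n2810
theorem D5293 : act 0 n2810 = n5293 := rfl
theorem F4293 : act 1 n5293 = n2996 := d0_2 (iv F1880) D5293 F2026 (iv D1797) (iv D763) D764 D1801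
theorem F4294 : act 2 n5293 = n3370 := d1_2 D2810 D5293 F2442 F2125 (iv F927) D1928 (iv F1224)
def n5294 : Q := act 4 n2810
theorem D5294 : act 4 n2810 = n5294 := rfl
theorem F4295 : act 1 n5294 = n3760 := d6_1 D5294 (iv D3760) (iv F1880)
def n5295 : Q := act 2 n2811
theorem D5295 : act 2 n2811 = n5295 := rfl
def n5296 : Q := act 3 n2811
theorem D5296 : act 3 n2811 = n5296 := rfl
theorem F4296 : act 1 n5296 = n2816 := d5_1 D5296 (iv D2816) (iv F1881)
def n5297 : Q := act 0 n2812
theorem D5297 : act 0 n2812 = n5297 := rfl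
theorem F4297 : act 1 n5297 = n3275 := d0_2 D2812 D5297 (iv D3275) (iv D1538) (iv D641) (iv F315) (iv F704)
theorem F4298 : act 2 n5297 = n3033 := d1_2 (iv F1882) D5297 (iv D3033) (iv D1374) (iv D566) D567 D1377
def n5298 : Q := act 4 n2812
theorem D5298 : act 4 n2812 = n5298 := rfl
theorem F4299 : act 1 n5298 = n2813 := d6_1 D5298 (iv D2813) D2812
theorem F4300 : act 2 n5298 = n3050 := d11_2 (iv F1882) D5298 (iv D3050) (iv D1382) (iv D569) D567 D1377
def n5299 : Q := act 3 n2813
theorem D5299 : act 3 n2813 = n5299 := rfl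
theorem F4301 : act 2 n5299 = n2849 := d7_1 D5299 (iv D2849) (iv F1885)
def n5300 : Q := act 2 n2814
theorem D5300 : act 2 n2814 = n5300 := rfl
theorem F4302 : act 3 n5300 = n2829 := d7_2 (iv F1887) D5300 (iv D2829)
def n5301 : Q := act 1 n2815
theorem D5301 : act 1 n2815 = n5301 := rfl
def n5302 : Q := act 3 n2815
theorem D5302 : act 3 n2815 = n5302 := rfl
theorem F4303 : act 2 n5302 = n2816 := d7_1 D5302 (iv D2816) D2815
def n5303 : Q := act 4 n2815
theorem D5303 : act 4 n2815 = n5303 := rfl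
theorem F4304 : act 2 n5303 = n2850 := d8_1 D5303 (iv D2850) (iv F1885) (iv D2813) (iv D1249) D1251 D2815
def n5304 : Q := act 4 n2816
theorem D5304 : act 4 n2816 = n5304 := rfl
theorem F4305 : act 3 n5304 = n2830 := d9_1 D5304 (iv D2830) (iv F1887) (iv D2814) (iv D1250) D1251 D2816
def n5305 : Q := act 1 n2817
theorem D5305 : act 1 n2817 = n5305 := rfl
def n5306 : Q := act 3 n2817
theorem D5306 : act 3 n2817 = n5306 := rfl
theorem F4306 : act 2 n5306 = n2841 := d7_1 D5306 (iv D2841) (iv F1888)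
def n5307 : Q := act 4 n2817
theorem D5307 : act 4 n2817 = n5307 := rfl
theorem F4307 : act 0 n5307 = n2820 := d3_1 D5307 (iv D2820) D2817
theorem F4308 : act 2 n5307 = n2846 := d8_1 D5307 (iv D2846) (iv D1266) (iv D521) D519 D1264 (iv F1888)
def n5308 : Q := act 0 n2818
theorem D5308 : act 0 n2818 = n5308 := rfl
def n5309 : Q := act 2 n2818
theorem D5309 : act 2 n2818 = n5309 := rfl
theorem F4309 : act 1 n5309 = n3601 := d4_1 D5309 (iv D3601) (iv D1714) (iv D724) (iv F250) D1252 D2818
def n5310 : Q := act 3 n2818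
theorem D5310 : act 3 n2818 = n5310 := rfl
theorem F4310 : act 1 n5310 = n2819 := d5_1 D5310 (iv D2819) D2818
def n5311 : Q := act 4 n2818
theorem D5311 : act 4 n2818 = n5311 := rfl
theorem F4311 : act 1 n5311 = n2820 := d6_1 D5311 (iv D2820) D2818
def n5312 : Q := act 4 n2819
theorem D5312 : act 4 n2819 = n5312 := rfl
def n5313 : Q := act 3 n2820
theorem D5313 : act 3 n2820 = n5313 := rfl
def n5314 : Q := act 2 n2821
theorem D5314 : act 2 n2821 = n5314 := rfl
theorem F4313 : act 3 n5314 = n2831 := d7_2 (iv F1892) D5314 (iv D2831)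
def n5315 : Q := act 2 n2822
theorem D5315 : act 2 n2822 = n5315 := rfl
theorem F4314 : act 1 n5315 = n5156 := d4_1 D5315 F4146 (iv F4124) (iv D5134) F1799 (iv F1777) (iv F1894)
theorem F4315 : act 4 n5315 = n3896 := d8_2 (iv F1893) D5315 (iv D3896) (iv D1874) D1872 D3894 F2925
def n5316 : Q := act 3 n2822
theorem D5316 : act 3 n2822 = n5316 := rfl
theorem F4316 : act 1 n5316 = n5096 := d5_1 D5316 (iv D5096) (iv F1894)
def n5317 : Q := act 0 n2823
theorem D5317 : act 0 n2823 = n5317 := rfl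
theorem F4317 : act 4 n5317 = n3879 := d3_2 (iv F1896) D5317 F2908
theorem F4318 : act 2 n5317 = n3888 := d11_4 D801 (iv F1366) D2823 D5317 (iv D3888) (iv D1869) F422
theorem F4319 : act 1 n5317 = n4857 := d17_7 D210 (iv F266) D1319 F865 D1719 (iv F1895) D5317 (iv D4857) (iv D2530) (iv D1097) (iv D442) F72
def n5318 : Q := act 3 n2823
theorem D5318 : act 3 n2823 = n5318 := rfl
theorem F4320 : act 1 n5318 = n3609 := d5_1 D5318 (iv D3609) (iv F1895)
theorem F4321 : act 2 n5318 = n2824 := d7_1 D5318 (iv D2824) D2823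
def n5319 : Q := act 0 n2824
theorem D5319 : act 0 n2824 = n5319 := rfl
def n5320 : Q := act 4 n2824
theorem D5320 : act 4 n2824 = n5320 := rfl
theorem F4322 : act 1 n5320 = n2826 := d6_1 D5320 (iv D2826) (iv F1897)
def n5321 : Q := act 1 n2825
theorem D5321 : act 1 n2825 = n5321 := rfl
def n5322 : Q := act 3 n2825
theorem D5322 : act 3 n2825 = n5322 := rfl
theorem F4323 : act 0 n5322 = n4028 := d2_1 D5322 F4241 (iv D5237) (iv D2776) F690 D1255 D2825
theorem F4324 : act 2 n5322 = n2840 := d7_1 D5322 (iv F4214) F4213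
def n5323 : Q := act 4 n2825
theorem D5323 : act 4 n2825 = n5323 := rfl
theorem F4325 : act 0 n5323 = n2826 := d3_1 D5323 (iv D2826) D2825
def n5324 : Q := act 2 n2826
theorem D5324 : act 2 n2826 = n5324 := rfl
def n5325 : Q := act 3 n2826
theorem D5325 : act 3 n2826 = n5325 := rfl
def n5328 : Q := act 0 n2828
theorem D5328 : act 0 n2828 = n5328 := rfl
theorem F4327 : act 1 n5328 = n3619 := d0_2 D2828 D5328 (iv D3619) (iv D1724) (iv D729) (iv F251) D1257
def n5329 : Q := act 2 n2828
theorem D5329 : act 2 n2828 = n5329 := rfl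
def n5330 : Q := act 4 n2828
theorem D5330 : act 4 n2828 = n5330 := rfl
theorem F4328 : act 1 n5330 = n2830 := d6_1 D5330 (iv D2830) D2828
def n5331 : Q := act 1 n2829
theorem D5331 : act 1 n2829 = n5331 := rfl
def n5332 : Q := act 4 n2829
theorem D5332 : act 4 n2829 = n5332 := rfl
def n5333 : Q := act 2 n2830
theorem D5333 : act 2 n2830 = n5333 := rfl
def n5337 : Q := act 4 n2832
theorem D5337 : act 4 n2832 = n5337 := rfl
theorem F4329 : act 1 n5337 = n2891 := d6_1 D5337 (iv D2891) (iv F1901)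
theorem F4330 : act 3 n5337 = n2879 := d12_2 D2832 D5337 (iv D2879) F1906 (iv D2834) (iv F713) D1259
def n5338 : Q := act 2 n2833
theorem D5338 : act 2 n2833 = n5338 := rfl
theorem F4331 : act 4 n5338 = n4178 := d11_1 D5338 F3137 F2147 D3087 F2156 (iv D2835) (iv F1903)
theorem F4332 : act 1 n4180 = n5338 := d17_1 D4180 (iv D5338) (iv D2833) F1053 (iv D1790) D1789 F1052 D1925 D3979 F2969 D4003 F2994
def n5339 : Q := act 3 n2833
theorem D5339 : act 3 n2833 = n5339 := rfl
theorem F4333 : act 1 n5339 = n2893 := d5_1 D5339 (iv D2893) (iv F1904)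
def n5340 : Q := act 0 n2835
theorem D5340 : act 0 n2835 = n5340 := rfl
theorem F4334 : act 2 n5340 = n3301 := d11_4 (iv D1260) D1261 D2835 D5340 (iv D3301) (iv F1782) (iv F1783)
def n5341 : Q := act 4 n2836
theorem D5341 : act 4 n2836 = n5341 := rfl
theorem F4335 : act 1 n5341 = n2847 := d6_1 D5341 (iv D2847) (iv F1907)
theorem F4336 : act 2 n5341 = n2881 := d8_1 D5341 (iv D2881) D2880 (iv F2291) (iv D3167) D3168 F2295
theorem F4337 : act 3 n5341 = n2881 := d9_1 D5341 (iv D2881) F1906 (iv D2834) (iv F713) D1261 D2836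
def n5342 : Q := act 1 n2837
theorem D5342 : act 1 n2837 = n5342 := rfl
theorem F4338 : act 0 n5342 = n3360 := d0_1 D5342 (iv D3360) (iv D1583) (iv F682) F684 D1262 D2837
theorem F4339 : act 2 n5342 = n2984 := d4_2 (iv F1968) D5342 F2015 (iv D1993) (iv D848) D849 D1997
theorem F4340 : act 3 n4614 = n5342 := d7_0 F4339 F2016 D4614
def n5343 : Q := act 3 n2837
theorem D5343 : act 3 n2837 = n5343 := rfl
theorem F4341 : act 1 n5343 = n4614 := d5_1 D5343 F4340 (iv D5342)
theorem F4342 : act 2 n5343 = n4079 := d7_1 D5343 (iv D4079) (iv F1968)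
theorem F4343 : act 0 n5343 = n4898 := d16_8 D2693 (iv F1783) (iv F713) (iv D518) D519 D1262 D2837 D5343 (iv D4898) (iv D2560) D2559 F1672
def n5344 : Q := act 4 n2837
theorem D5344 : act 4 n2837 = n5344 := rfl
theorem F4344 : act 0 n5344 = n2839 := d3_1 D5344 (iv D2839) D2837
def n5345 : Q := act 4 n2838
theorem D5345 : act 4 n2838 = n5345 := rfl
theorem F4345 : act 0 n5345 = n3641 := d3_1 D5345 (iv D3641) (iv F1909)
theorem F4346 : act 1 n5345 = n2840 := d6_1 D5345 (iv D2840) (iv F1908)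
def n5346 : Q := act 2 n2839
theorem D5346 : act 2 n2839 = n5346 := rfl
theorem F4347 : act 0 n5346 = n3644 := d11_3 (iv D2838) D2839 D5346 (iv D3644) (iv D1740) D1738 (iv F1909)
def n5347 : Q := act 3 n2839
theorem D5347 : act 3 n2839 = n5347 := rfl
theorem F4348 : act 1 n5347 = n2841 := d5_1 D5347 (iv D2841) (iv F1911)
def n5348 : Q := act 4 n2841
theorem D5348 : act 4 n2841 = n5348 := rfl
def n5349 : Q := act 1 n2842
theorem D5349 : act 1 n2842 = n5349 := rfl
theorem F4349 : act 3 n5349 = n2882 := d5_2 (iv F1912) D5349 (iv D2882)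
def n5350 : Q := act 4 n2842
theorem D5350 : act 4 n2842 = n5350 := rfl
def n5351 : Q := act 1 n2843
theorem D5351 : act 1 n2843 = n5351 := rfl
def n5352 : Q := act 4 n2843
theorem D5352 : act 4 n2843 = n5352 := rfl
theorem F4350 : act 0 n5352 = n2846 := d3_1 D5352 (iv D2846) D2843
def n5353 : Q := act 0 n2844
theorem D5353 : act 0 n2844 = n5353 := rfl
def n5354 : Q := act 2 n2844
theorem D5354 : act 2 n2844 = n5354 := rfl
def n5355 : Q := act 3 n2844
theorem D5355 : act 3 n2844 = n5355 := rfl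
theorem F4351 : act 1 n5355 = n2845 := d5_1 D5355 (iv D2845) D2844
def n5356 : Q := act 4 n2844
theorem D5356 : act 4 n2844 = n5356 := rfl
theorem F4352 : act 1 n5356 = n2846 := d6_1 D5356 (iv D2846) D2844
def n5357 : Q := act 4 n2845
theorem D5357 : act 4 n2845 = n5357 := rfl
def n5358 : Q := act 3 n2846
theorem D5358 : act 3 n2846 = n5358 := rfl
def n5359 : Q := act 2 n2847
theorem D5359 : act 2 n2847 = n5359 := rfl
theorem F4353 : act 3 n5359 = n2884 := d7_2 (iv F1915) D5359 (iv D2884)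
def n5360 : Q := act 0 n2848
theorem D5360 : act 0 n2848 = n5360 := rfl
def n5361 : Q := act 2 n2848
theorem D5361 : act 2 n2848 = n5361 := rfl
def n5362 : Q := act 3 n2848
theorem D5362 : act 3 n2848 = n5362 := rfl
theorem F4354 : act 1 n5362 = n2849 := d5_1 D5362 (iv D2849) D2848
def n5363 : Q := act 4 n2848
theorem D5363 : act 4 n2848 = n5363 := rfl
theorem F4355 : act 1 n5363 = n2850 := d6_1 D5363 (iv D2850) D2848
def n5364 : Q := act 4 n2849
theorem D5364 : act 4 n2849 = n5364 := rfl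
def n5365 : Q := act 3 n2850
theorem D5365 : act 3 n2850 = n5365 := rfl
def n5366 : Q := act 1 n2851
theorem D5366 : act 1 n2851 = n5366 := rfl
def n5367 : Q := act 2 n2851
theorem D5367 : act 2 n2851 = n5367 := rfl
theorem F4356 : act 0 n5367 = n4676 := d13_1 D5367 (iv D4676) (iv F2383) (iv D3281) F862 (iv F858) (iv F1884) F1885 (iv D1268) D1269 D2851
def n5368 : Q := act 3 n2851
theorem D5368 : act 3 n2851 = n5368 := rfl
theorem F4357 : act 0 n5368 = n4912 := d16_8 D494 F239 (iv D207) (iv F87) D522 D1269 D2851 D5368 (iv D4912) (iv D2567) F614 F216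
def n5369 : Q := act 4 n2851
theorem D5369 : act 4 n2851 = n5369 := rfl
def n5370 : Q := act 0 n2852
theorem D5370 : act 0 n2852 = n5370 := rfl
def n5371 : Q := act 3 n2852
theorem D5371 : act 3 n2852 = n5371 := rfl
theorem F4359 : act 1 n5371 = n2938 := d5_1 D5371 (iv D2938) (iv F1917)
theorem F4360 : act 2 n5371 = n2853 := d7_1 D5371 (iv D2853) D2852
def n5372 : Q := act 4 n2852
theorem D5372 : act 4 n2852 = n5372 := rfl
theorem F4361 : act 1 n5372 = n2939 := d6_1 D5372 (iv D2939) (iv F1917)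
def n5373 : Q := act 0 n2853
theorem D5373 : act 0 n2853 = n5373 := rfl
def n5374 : Q := act 4 n2853
theorem D5374 : act 4 n2853 = n5374 := rfl
def n5377 : Q := act 1 n2855
theorem D5377 : act 1 n2855 = n5377 := rfl
def n5378 : Q := act 4 n2855
theorem D5378 : act 4 n2855 = n5378 := rfl
theorem F4364 : act 0 n5378 = n2856 := d3_1 D5378 (iv D2856) D2855
def n5379 : Q := act 2 n2856
theorem D5379 : act 2 n2856 = n5379 := rfl
def n5380 : Q := act 3 n2856
theorem D5380 : act 3 n2856 = n5380 := rfl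
def n5385 : Q := act 0 n2859
theorem D5385 : act 0 n2859 = n5385 := rfl
theorem F4366 : act 1 n5385 = n4648 := d0_2 F2277 D5385 F3635 F3250 F1292 (iv F1294) (iv F2276)
theorem F4367 : act 2 n5385 = n4982 := d1_2 D2859 D5385 (iv D4982) (iv D2613) F636 D1152 (iv F1438)
theorem F4368 : act 4 n5385 = n4646 := d3_2 (iv F1921) D5385 F3632
def n5386 : Q := act 3 n2859
theorem D5386 : act 3 n2859 = n5386 := rfl
theorem F4369 : act 2 n5386 = n2860 := d7_1 D5386 (iv D2860) D2859
def n5387 : Q := act 0 n2860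
theorem D5387 : act 0 n2860 = n5387 := rfl
theorem F4370 : act 2 n5387 = n4985 := d10_2 D2860 D5387 (iv D4985) (iv D2614) F636 D1152 (iv F1438)
def n5388 : Q := act 4 n2860
theorem D5388 : act 4 n2860 = n5388 := rfl
theorem F4371 : act 1 n5388 = n2862 := d6_1 D5388 (iv D2862) (iv F1922)
def n5389 : Q := act 3 n2861
theorem D5389 : act 3 n2861 = n5389 := rfl
theorem F4372 : act 1 n5389 = n2863 := d5_1 D5389 (iv D2863) (iv F1924)
def n5390 : Q := act 2 n2862
theorem D5390 : act 2 n2862 = n5390 := rfl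
def n5391 : Q := act 3 n2862
theorem D5391 : act 3 n2862 = n5391 := rfl
theorem F4373 : act 0 n5391 = n2876 := d12_3 D1274 D2862 D5391 (iv D2876) (iv D1281) (iv D526) D524
def n5392 : Q := act 0 n2863
theorem D5392 : act 0 n2863 = n5392 := rfl
theorem F4374 : act 3 n5392 = n4030 := d12_4 (iv D1274) D1275 D2863 D5392 (iv D4030) (iv F1868) F1869
theorem E586 : n4167 = n4030 := ((c16_3 D2863 D5392 F4374 (iv D4167) (iv D2037) F458 (iv F2047) (iv D363) F59 (iv F61) D373 F1359 (iv F721))).symm
theorem F4375 : act 1 n4030 = n2037 := (sb E586 (iv D4167))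
theorem F4376 : act 1 n5392 = n4136 := d16_9 (iv D876) F161 (iv F2046) (iv F61) D373 F1359 (iv F721) D2863 D5392 (iv D4136) F1235 (iv F2050)
theorem E587 : n4168 = n4029 := (c6_3 D4030 F4375 D4168 (iv D4029))
theorem F4377 : act 4 n4029 = n2037 := (sb E587 (iv D4168))
def n5393 : Q := act 4 n2863
theorem D5393 : act 4 n2863 = n5393 := rfl
def n5394 : Q := act 3 n2864
theorem D5394 : act 3 n2864 = n5394 := rfl
theorem F4378 : act 1 n5394 = n2866 := d5_1 D5394 (iv D2866) D2864
def n5395 : Q := act 3 n2865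
theorem D5395 : act 3 n2865 = n5395 := rfl
theorem F4379 : act 1 n5395 = n3570 := d5_1 D5395 F2808 F1929
theorem F4380 : act 2 n5395 = n2866 := d7_1 D5395 (iv D2866) D2865
theorem F4381 : act 4 n3568 = n5395 := d6_0 F4379 (iv D3570) D3568
def n5396 : Q := act 0 n2866
theorem D5396 : act 0 n2866 = n5396 := rfl
theorem F4382 : act 3 n5396 = n5198 := d16_2 D2866 D5396 (iv D5198) (iv D2752) (iv D1218) (iv D498) (iv D190) F25 (iv F28) D200 D525 D1276
theorem F4383 : act 1 n5396 = n4910 := d16_9 F261 (iv D211) (iv D75) (iv F28) D200 D525 D1276 D2866 D5396 (iv D4910) F1674 F615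
def n5397 : Q := act 4 n2866
theorem D5397 : act 4 n2866 = n5397 := rfl
def n5398 : Q := act 1 n2867
theorem D5398 : act 1 n2867 = n5398 := rfl
theorem F4384 : act 0 n5398 = n5059 := d0_1 D5398 F4036 F3241 F1364 (iv D1321) (iv F722) D2867
theorem F4385 : act 4 n5398 = n4379 := d6_2 (iv F1932) D5398 (iv D4379)
def n5399 : Q := act 3 n2867
theorem D5399 : act 3 n2867 = n5399 := rfl
theorem F4386 : act 2 n5399 = n4400 := d7_1 D5399 (iv D4400) (iv F1933)
def n5400 : Q := act 0 n2868
theorem D5400 : act 0 n2868 = n5400 := rfl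
def n5401 : Q := act 4 n2868
theorem D5401 : act 4 n2868 = n5401 := rfl
theorem F4387 : act 1 n5401 = n2949 := d6_1 D5401 (iv D2949) (iv F1934)
def n5402 : Q := act 1 n2869
theorem D5402 : act 1 n2869 = n5402 := rfl
def n5403 : Q := act 2 n2869
theorem D5403 : act 2 n2869 = n5403 := rfl
theorem F4388 : act 0 n5403 = n4680 := d10_3 D1278 D2869 D5403 (iv D4680) (iv F1928) (iv D2865) (iv D1276)
def n5404 : Q := act 3 n2869
theorem D5404 : act 3 n2869 = n5404 := rfl
theorem F4389 : act 0 n5404 = n5198 := d2_1 D5404 (iv F4382) (iv D5396) (iv D2866) (iv D1276) D1278 D2869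
theorem F4390 : act 4 n5404 = n4266 := d12_1 D5404 (iv D4266) (iv D2084) (iv F2061) (iv F1360) D1278 D2869
def n5405 : Q := act 4 n2869
theorem D5405 : act 4 n2869 = n5405 := rfl
def n5407 : Q := act 3 n2870
theorem D5407 : act 3 n2870 = n5407 := rfl
theorem F4393 : act 4 n5407 = n4268 := d9_2 D2870 D5407 (iv D4268) (iv D2087) (iv F2061) (iv F1360) D1278
def n5408 : Q := act 0 n2871
theorem D5408 : act 0 n2871 = n5408 := rfl
def n5409 : Q := act 2 n2871
theorem D5409 : act 2 n2871 = n5409 := rfl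
def n5410 : Q := act 3 n2871
theorem D5410 : act 3 n2871 = n5410 := rfl
theorem F4394 : act 1 n5410 = n2873 := d5_1 D5410 (iv D2873) D2871
def n5411 : Q := act 4 n2871
theorem D5411 : act 4 n2871 = n5411 := rfl
theorem F4395 : act 1 n5411 = n2874 := d6_1 D5411 (iv D2874) D2871
def n5412 : Q := act 1 n2872
theorem D5412 : act 1 n2872 = n5412 := rfl
theorem F4396 : act 3 n5412 = n5294 := d5_2 F2768 D5412 F4295
def n5413 : Q := act 4 n2872
theorem D5413 : act 4 n2872 = n5413 := rfl
theorem F4397 : act 0 n5413 = n3274 := d3_1 D5413 (iv D3274) (iv F1937)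
theorem F4398 : act 2 n5413 = n2885 := d11_2 D2872 D5413 (iv D2885) (iv D1286) (iv D529) (iv F255) D1280
def n5414 : Q := act 4 n2873
theorem D5414 : act 4 n2873 = n5414 := rfl
theorem F4399 : act 0 n5414 = n4030 := d3_1 D5414 (iv D4030) (iv F1938)
theorem F4400 : act 3 n5414 = n2877 := d12_2 D2873 D5414 (iv D2877) (iv D1282) (iv D527) D526 D1280
def n5415 : Q := act 2 n2874
theorem D5415 : act 2 n2874 = n5415 := rfl
def n5416 : Q := act 3 n2874
theorem D5416 : act 3 n2874 = n5416 := rfl
def n5417 : Q := act 0 n2875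
theorem D5417 : act 0 n2875 = n5417 := rfl
theorem F4401 : act 2 n5417 = n2883 := d11_4 (iv F255) D1281 D2875 D5417 (iv D2883) (iv D1284) (iv D528)
def n5419 : Q := act 3 n2875
theorem D5419 : act 3 n2875 = n5419 := rfl
theorem F4402 : act 2 n5419 = n2876 := d7_1 D5419 (iv D2876) D2875
def n5420 : Q := act 4 n2875
theorem D5420 : act 4 n2875 = n5420 := rfl
theorem F4403 : act 2 n5420 = n2887 := d8_1 D5420 (iv D2887) (iv D1286) (iv D529) (iv F255) D1281 D2875
def n5421 : Q := act 4 n2876
theorem D5421 : act 4 n2876 = n5421 := rfl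
theorem F4405 : act 3 n5421 = n2878 := d9_1 D5421 (iv D2878) (iv D1282) (iv D527) D526 D1281 D2876
def n5423 : Q := act 2 n2877
theorem D5423 : act 2 n2877 = n5423 := rfl
theorem F4406 : act 0 n5423 = n4347 := d10_3 D1282 D2877 D5423 (iv D4347) (iv F1876) F1877 F721
def n5424 : Q := act 4 n2877
theorem D5424 : act 4 n2877 = n5424 := rfl
theorem F4407 : act 0 n5424 = n2878 := d3_1 D5424 (iv D2878) D2877
def n5425 : Q := act 2 n2878
theorem D5425 : act 2 n2878 = n5425 := rfl
def n5426 : Q := act 2 n2879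
theorem D5426 : act 2 n2879 = n5426 := rfl
theorem F4408 : act 4 n5426 = n4458 := d11_1 D5426 (iv F3434) (iv D3166) D3167 F2291 (iv D2880) D2879
theorem F4409 : act 1 n4460 = n5426 := d6_3 F4408 (iv D4458) D4460
def n5427 : Q := act 4 n2879
theorem D5427 : act 4 n2879 = n5427 := rfl
theorem F4410 : act 0 n5427 = n2881 := d3_1 D5427 (iv D2881) D2879
theorem F4411 : act 1 n5427 = n2966 := d6_1 D5427 (iv D2966) (iv F1941)
def n5428 : Q := act 0 n2880
theorem D5428 : act 0 n2880 = n5428 := rfl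
theorem F4412 : act 2 n5428 = n4683 := d15_2 D2880 D5428 (iv D4683) (iv D2422) F558 (iv F568) F569 (iv D552) D551 D1333 (iv F1941) (iv D2879)
def n5429 : Q := act 0 n2882
theorem D5429 : act 0 n2882 = n5429 := rfl
def n5430 : Q := act 2 n2882
theorem D5430 : act 2 n2882 = n5430 := rfl
def n5431 : Q := act 4 n2882
theorem D5431 : act 4 n2882 = n5431 := rfl
theorem F4413 : act 1 n5431 = n2883 := d6_1 D5431 (iv D2883) D2882
def n5432 : Q := act 3 n2883
theorem D5432 : act 3 n2883 = n5432 := rfl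
def n5433 : Q := act 0 n2884
theorem D5433 : act 0 n2884 = n5433 := rfl
theorem F4414 : act 2 n5433 = n3274 := d1_2 D2884 D5433 (iv F4397) F4398 (iv D2885) (iv D1286) (iv F725)
theorem F4415 : act 1 n3386 = n5433 := d4_7 F4414 F2369 (iv F3420) F321 (iv F3369) (iv F893) D3386
def n5434 : Q := act 1 n2884
theorem D5434 : act 1 n2884 = n5434 := rfl
def n5435 : Q := act 4 n2884
theorem D5435 : act 4 n2884 = n5435 := rfl
def n5437 : Q := act 3 n2885
theorem D5437 : act 3 n2885 = n5437 := rfl
theorem F4416 : act 0 n5437 = n4503 := d10_1 D5437 (iv D4503) F2209 F1915 F725 D1286 D2885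
def n5438 : Q := act 4 n2885
theorem D5438 : act 4 n2885 = n5438 := rfl
theorem F4417 : act 0 n5438 = n2887 := d3_1 D5438 (iv D2887) D2885
def n5440 : Q := act 4 n2888
theorem D5440 : act 4 n2888 = n5440 := rfl
theorem F4419 : act 0 n5440 = n2889 := d3_1 D5440 (iv D2889) D2888
theorem F4420 : act 1 n5440 = n2983 := d6_1 D5440 (iv D2983) (iv F1943)
def n5441 : Q := act 2 n2889
theorem D5441 : act 2 n2889 = n5441 := rfl
theorem F4421 : act 0 n5441 = n2901 := d11_3 D1287 D2889 D5441 (iv D2901) (iv D1293) (iv D531) D530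
theorem F4422 : act 1 n2901 = n3863 := d13_2 D5441 F4421 (iv D3863) (iv D1855) (iv F1102) F1103 (iv F2020) (iv D2988) (iv F2014) (iv F4420) F4419
theorem E588 : n5425 = n199 := (c17_11 (iv D205) D202 D531 D1293 D2901 F4422 (iv D3863) F2041 F1899 D2878 D5425 F87 (iv F89))
theorem E589 : n2878 = n522 := (((D522).symm.trans (sb E588 (iv D5425)))).symm
theorem E590 : n5424 = n1268 := (((D1268).symm.trans (sb E589 (iv F4407)))).symm
theorem E591 : n2087 = n1269 := (((D1269).symm.trans (sb E589 (iv F2062)))).symm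
theorem E592 : n5421 = n1270 := (((D1270).symm.trans (sb E589 (iv F4405)))).symm
theorem E593 : n1282 = n1271 := (((D1271).symm.trans (sb E589 (iv D2878)))).symm
theorem E594 : n2877 = n2850 := (((D2850).symm.trans (sb E590 (iv D5424)))).symm
theorem E595 : n4267 = n2851 := (((D2851).symm.trans (sb E591 (iv F3215)))).symm
theorem E596 : n4251 = n2852 := (((D2852).symm.trans (sb E591 (iv F3205)))).symm
theorem E597 : n4268 = n2853 := (((D2853).symm.trans (sb E591 D4268))).symm
theorem E598 : n2854 = n886 := ((D2854).symm.trans (sb E591 (iv D2087)))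
theorem E599 : n2876 = n2856 := (((D2856).symm.trans (sb E592 (iv D5421)))).symm
theorem E600 : n2827 = n2820 := ((((iv F1890)).symm.trans (sb E593 (iv F1899)))).symm
theorem E601 : n2857 = n527 := ((D2857).symm.trans (sb E593 (iv D1282)))
theorem E603 : n5423 = n5303 := ((((iv F4304)).symm.trans (sb E594 D5423))).symm
theorem E604 : n5414 = n5365 := (((D5365).symm.trans (sb E594 (iv F4400)))).symm
theorem E605 : n5369 = n2084 := ((D5369).symm.trans (sb E595 (iv D4267)))
theorem E606 : n5372 = n2076 := ((D5372).symm.trans (sb E596 (iv D4251)))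
theorem E607 : n5407 = n5374 := (((D5374).symm.trans (sb E597 (iv F4393)))).symm
theorem F4423 : act 1 n886 = n1271 := (sb E598 F1919)
theorem F4424 : act 4 n886 = n1269 := (sb E598 (iv D2854))
theorem E610 : n5391 = n5378 := ((((iv F4364)).symm.trans (sb E599 (iv F4373)))).symm
theorem E611 : n5419 = n5379 := (((D5379).symm.trans (sb E599 (iv F4402)))).symm
theorem E612 : n5380 = n1281 := ((D5380).symm.trans (sb E599 (iv D2876)))
theorem E614 : n5311 = n1855 := (((iv F4311)).symm.trans (sb E600 (iv F2041)))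
theorem E615 : n5313 = n1256 := ((D5313).symm.trans (sb E600 (iv D2827)))
theorem F4425 : act 3 n527 = n1271 := (sb E601 (iv D2857))
theorem F4426 : act 0 n5303 = n4347 := (sb E603 F4406)
theorem F4427 : act 0 n5365 = n4030 := (sb E604 F4399)
theorem F4428 : act 4 n5365 = n2873 := (sb E604 (iv D5414))
theorem F4429 : act 4 n2084 = n2851 := (sb E605 (iv D5369))
theorem E619 : n4249 = n2939 := ((D4249).symm.trans (sb E606 F4361))
theorem F4430 : act 4 n2076 = n2852 := (sb E606 (iv D5372))
theorem F4431 : act 3 n5374 = n2870 := (sb E607 (iv D5407))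
theorem F4432 : act 3 n5378 = n2862 := (sb E610 (iv D5391))
theorem F4433 : act 3 n5379 = n2875 := (sb E611 (iv D5419))
theorem F4434 : act 3 n1281 = n2856 := (sb E612 (iv D5380))
theorem F4435 : act 1 n1855 = n2820 := (sb E614 F4311)
theorem E620 : n3864 = n2818 := ((D3864).symm.trans (sb E614 (iv D5311)))
theorem F4436 : act 3 n1256 = n2820 := (sb E615 (iv D5313))
theorem F4437 : act 1 n2939 = n2076 := (sb E619 (iv D4249))
theorem F4438 : act 4 n2818 = n1855 := (sb E620 (iv D3864))
theorem F4439 : act 4 n5308 = n3863 := d17_0 (iv F4422) (iv D2901) (iv D1293) (iv D531) (iv D202) (iv D72) (iv F27) (iv F85) D515 D1252 D2818 D5308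
theorem F4440 : act 4 n3856 = n5309 := d8_6 F4438 (iv D1855) (iv D788) D786 D1852 D3856 (iv D5309)
theorem F4441 : act 1 n4194 = n2937 := d17_11 D2939 F4437 (iv D2076) (iv D883) (iv D351) (iv D131) D130 D347 D872 D2051 D4194 (iv D2937)
theorem E621 : n5325 = n5312 := ((c9_5 D1256 F4436 (iv D2820) D2819 D5312 (iv D5325) (iv D2826) (iv D1255))).symm
theorem F4442 : act 3 n5312 = n2826 := (sb E621 (iv D5325))
theorem E622 : n5352 = n5262 := (c10_4 F4436 (iv F4307) F4308 (iv F4350) (iv D5262) F1860 (iv F1849) F1848)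
theorem F4443 : act 0 n5262 = n2846 := (sb E622 F4350)
theorem F4444 : act 4 n5262 = n2843 := (sb E622 (iv D5352))
theorem E623 : n5239 = n5231 := ((c12_6 F4436 (iv D2820) D2819 (iv F4228) (iv D5230) D5231 (iv D5239) F1848)).symm
theorem E624 : n2797 = n2786 := (((F4229).symm.trans (sb E623 F4242))).symm
theorem F4445 : act 3 n5231 = n2777 := (sb E623 (iv D5239))
theorem E626 : n5267 = n5254 := ((((iv F4255)).symm.trans (sb E624 (iv F4269)))).symm
theorem E627 : n5257 = n1240 := ((D5257).symm.trans (sb E624 (iv D2797)))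
theorem F4446 : act 2 n5254 = n5254 := (sb E626 (tr F4270 E626))
theorem F4447 : act 3 n5254 = n2794 := (sb E626 (iv D5267))
theorem F4448 : act 3 n1240 = n2786 := (sb E627 (iv D5257))
theorem E629 : n5271 = n5256 := ((c9_5 D1240 F4448 (iv D2786) D2785 D5256 (iv D5271) (iv D2796) (iv D1239))).symm
theorem F4449 : act 3 n5256 = n2796 := (sb E629 (iv D5271))
theorem F4450 : act 4 n5351 = n3396 := d6_2 F4444 D5351 (iv F4263)
theorem F4451 : act 4 n5213 = n4347 := d8_6 F4444 F1913 (iv D1536) (iv F683) D2765 D5213 (iv F4264)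
theorem F4452 : act 1 n4349 = n5213 := d6_3 F4451 F3275 D4349
theorem E630 : n5358 = n5350 := (c12_5 (iv D2789) D2790 D5262 F4443 D5358 (iv D5350) F1912 (iv F1859))
theorem F4453 : act 3 n5350 = n2846 := (sb E630 (iv D5358))
theorem E631 : n5432 = n5357 := ((c9_5 D5350 F4453 (iv D2846) D2845 D5357 (iv D5432) (iv D2883) (iv F1912))).symm
theorem F4454 : act 3 n5357 = n2883 := (sb E631 (iv D5432))
theorem E632 : n5416 = n5364 := ((c12_6 F4434 (iv D2856) (iv D1270) D1268 D2849 D5364 (iv D5416) F1939)).symm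
theorem F4455 : act 3 n5364 = n2874 := (sb E632 (iv D5416))
theorem E633 : n5393 = n5244 := (c9_7 D5378 F4432 (iv D2862) (iv D1274) D1275 D2863 D5393 F4248)
theorem F4456 : act 4 n5244 = n2863 := (sb E633 (iv D5393))
theorem E634 : n5392 = n5247 := (c3_2 F4456 D5392 (iv D5247) D5244)
theorem F4457 : act 0 n5247 = n2863 := (sb E634 (iv D5392))
theorem F4458 : act 1 n5247 = n4136 := (sb E634 F4376)
theorem F4459 : act 3 n5247 = n4030 := (sb E634 F4374)
theorem E635 : n5290 = n5284 := (c8_2 F4456 (iv F4290) (iv D5284) (iv D2803) (iv D1245) (iv F701) D2801 (iv F4247))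
theorem F4460 : act 2 n5284 = n2863 := (sb E635 F4290)
theorem F4461 : act 3 n5284 = n2807 := (sb E635 (iv D5290))
theorem F4462 : act 4 n4136 = n5245 := d6_2 D5247 F4458 (iv D5245)
theorem F4463 : act 4 n5370 = n4223 := d3_2 F4430 D5370 F3181
theorem F4464 : act 4 n5367 = n4241 := d11_5 D2076 F4430 (iv D2852) D2851 D5367 (iv D4241) F1257
theorem F4465 : act 1 n4241 = n4097 := d17_1 F4464 (iv D4097) (iv D2006) (iv F1005) (iv D1707) (iv F943) F941 F556 D1039 D2417 D4676 (iv F4356)
theorem F4466 : act 2 n4232 = n5370 := d8_7 F4463 (iv D4223) (iv D2065) (iv D878) D880 D2068 D4232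
theorem F4467 : act 4 n5366 = n4265 := d6_2 F4429 D5366 (iv D4265)
theorem F4468 : act 2 n4265 = n3583 := d17_2 (iv F4429) D4265 (iv D3583) (iv D1704) (iv D720) (iv D282) (iv F84) F85 D199 D522 D1269 D2851
theorem F4469 : act 3 n5373 = n4456 := d12_4 F2061 F4424 D2853 D5373 (iv D4456) (iv D2210) (iv D938)
def n5442 : Q := act 4 n2890
theorem D5442 : act 4 n2890 = n5442 := rfl
theorem F4470 : act 0 n5442 = n2891 := d3_1 D5442 (iv D2891) D2890
theorem F4471 : act 1 n5442 = n4036 := d6_1 D5442 (iv D4036) (iv F1946)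
theorem F4472 : act 3 n5442 = n4047 := d12_2 F1947 D5442 (iv F4203) F4204 (iv D2904) F1948 F1823
def n5443 : Q := act 2 n2891
theorem D5443 : act 2 n2891 = n5443 := rfl
theorem F4473 : act 3 n5443 = n2965 := d7_2 (iv F1950) D5443 (iv D2965)
def n5444 : Q := act 0 n2892
theorem D5444 : act 0 n2892 = n5444 := rfl
def n5445 : Q := act 1 n2892
theorem D5445 : act 1 n2892 = n5445 := rfl
def n5446 : Q := act 3 n2892
theorem D5446 : act 3 n2892 = n5446 := rfl
theorem F4474 : act 2 n5446 = n2893 := d7_1 D5446 (iv D2893) D2892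
def n5447 : Q := act 4 n2892
theorem D5447 : act 4 n2892 = n5447 := rfl
def n5448 : Q := act 0 n2893
theorem D5448 : act 0 n2893 = n5448 := rfl
theorem F4475 : act 3 n5448 = n4032 := d2_2 D2893 D5448 (iv F4181) F4183 (iv D2910) (iv D1297) (iv F726)
theorem F4476 : act 1 n4038 = n5448 := d5_3 F4475 F3017 D4038
def n5449 : Q := act 4 n2893
theorem D5449 : act 4 n2893 = n5449 := rfl
theorem F4477 : act 3 n5449 = n2966 := d9_1 D5449 (iv D2966) (iv F1950) (iv D2891) (iv D1288) D1289 D2893
def n5450 : Q := act 2 n2894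
theorem D5450 : act 2 n2894 = n5450 := rfl
theorem F4478 : act 1 n5450 = n4348 := d15_9 F4304 F1916 (iv F1890) (iv F4435) D3863 (iv F4422) (iv D2901) (iv F1951) D5450 (iv D4348) (iv F3275) (iv F4426)
def n5451 : Q := act 4 n2895
theorem D5451 : act 4 n2895 = n5451 := rfl
theorem F4479 : act 0 n5451 = n2898 := d3_1 D5451 (iv D2898) D2895
theorem F4480 : act 1 n5451 = n3583 := d6_1 D5451 (iv D3583) (iv F1952)
theorem F4481 : act 3 n5451 = n5081 := d12_2 (iv F1953) D5451 (iv D5081) (iv D2681) (iv D1183) D1182 D2678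
def n5452 : Q := act 4 n2896
theorem D5452 : act 4 n2896 = n5452 := rfl
theorem F4482 : act 1 n5452 = n2916 := d6_1 D5452 (iv D2916) (iv F1955)
def n5453 : Q := act 4 n2897
theorem D5453 : act 4 n2897 = n5453 := rfl
theorem F4483 : act 0 n5453 = n3555 := d3_1 D5453 (iv D3555) (iv F1956)
theorem F4484 : act 1 n5453 = n2900 := d6_1 D5453 (iv D2900) (iv F1957)
def n5454 : Q := act 2 n2898
theorem D5454 : act 2 n2898 = n5454 := rfl
def n5455 : Q := act 3 n2898
theorem D5455 : act 3 n2898 = n5455 := rfl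
theorem F4485 : act 0 n5455 = n3556 := d2_1 D5455 (iv D3556) F990 D2681 D5081 (iv F4481) F4479
theorem F4486 : act 1 n5455 = n2902 := d5_1 D5455 (iv D2902) (iv F1958)
def n5456 : Q := act 2 n2899
theorem D5456 : act 2 n2899 = n5456 := rfl
theorem F4487 : act 1 n3767 = n5456 := d16_3 D765 D1805 D3767 (iv D5456) F1959 (iv D2899) (iv D1292) D1290 (iv F1773) F1772 (iv D1797) (iv D763)
theorem F4488 : act 3 n5456 = n3765 := d5_2 D3767 F4487 (iv D3765)
theorem F4489 : act 2 n3767 = n4809 := d16_4 D4576 (iv F3536) (iv F4488) (iv F4487) F3778 (iv D4809) (iv D2501) D2499 F2377 F2376 (iv F2371) F2373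
theorem F4490 : act 3 n4809 = n3766 := d7_2 D3767 F4489 (iv D3766)
theorem F4491 : act 1 n3766 = n3766 := d5_1 F4490 (iv F4490) F3778
def n5457 : Q := act 3 n2899
theorem D5457 : act 3 n2899 = n5457 := rfl
theorem F4492 : act 0 n5457 = n4031 := d2_1 D5457 F4069 (iv D5083) F1774 (iv D1290) D1292 D2899
theorem F4493 : act 1 n5457 = n5457 := d5_1 D5457 (iv D5457) F1959
theorem F4494 : act 2 n5457 = n3765 := d7_1 D5457 (iv F4488) (iv D5456)
def n5458 : Q := act 4 n2899
theorem D5458 : act 4 n2899 = n5458 := rfl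
theorem F4495 : act 0 n5458 = n2900 := d3_1 D5458 (iv D2900) D2899
theorem F4496 : act 1 n5458 = n5458 := d6_1 D5458 (iv D5458) F1959
def n5459 : Q := act 2 n2900
theorem D5459 : act 2 n2900 = n5459 := rfl
def n5460 : Q := act 3 n2900
theorem D5460 : act 3 n2900 = n5460 := rfl
def n5461 : Q := act 3 n2901
theorem D5461 : act 3 n2901 = n5461 := rfl
theorem F4497 : act 2 n5461 = n2902 := d7_1 D5461 (iv D2902) D2901
def n5462 : Q := act 4 n2901
theorem D5462 : act 4 n2901 = n5462 := rfl
theorem F4498 : act 1 n5462 = n5308 := d6_1 D5462 F4439 (iv F4422)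
theorem F4499 : act 2 n5462 = n2909 := d8_1 D5462 (iv D2909) (iv D1296) (iv D533) D531 D1293 D2901
def n5463 : Q := act 0 n2902
theorem D5463 : act 0 n2902 = n5463 := rfl
theorem F4500 : act 1 n5463 = n5463 := d0_2 F4486 D5463 (iv D5463) (iv F4486) F4485 F2609 (iv F4485)
def n5464 : Q := act 4 n2902
theorem D5464 : act 4 n2902 = n5464 := rfl
def n5465 : Q := act 4 n2903
theorem D5465 : act 4 n2903 = n5465 := rfl
theorem F4501 : act 1 n5465 = n3434 := d6_1 D5465 (iv D3434) (iv F1960)
def n5466 : Q := act 2 n2904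
theorem D5466 : act 2 n2904 = n5466 := rfl
def n5467 : Q := act 0 n2905
theorem D5467 : act 0 n2905 = n5467 := rfl
def n5468 : Q := act 1 n2905
theorem D5468 : act 1 n2905 = n5468 := rfl
theorem F4502 : act 3 n5468 = n2968 := d5_2 (iv F1962) D5468 (iv D2968)
theorem F4503 : act 0 n5468 = n5129 := d16_6 D75 D211 (iv F261) (iv F728) D2905 D5468 (iv D5129) (iv D2709) (iv D1195) (iv D486) F79 F25
def n5469 : Q := act 4 n2905
theorem D5469 : act 4 n2905 = n5469 := rfl
def n5470 : Q := act 1 n2906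
theorem D5470 : act 1 n2906 = n5470 := rfl
def n5471 : Q := act 3 n2906
theorem D5471 : act 3 n2906 = n5471 := rfl
def n5472 : Q := act 4 n2906
theorem D5472 : act 4 n2906 = n5472 := rfl
theorem F4504 : act 0 n5472 = n2909 := d3_1 D5472 (iv D2909) D2906
def n5473 : Q := act 0 n2907
theorem D5473 : act 0 n2907 = n5473 := rfl
theorem F4505 : act 3 n5473 = n5117 := d16_7 D1120 F617 (iv D539) (iv F258) D1296 D2907 D5473 (iv D5117) (iv D2702) (iv D1192) F234 (iv F216)
def n5474 : Q := act 2 n2907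
theorem D5474 : act 2 n2907 = n5474 := rfl
theorem F4506 : act 1 n5474 = n2924 := d4_1 D5474 (iv D2924) (iv D1305) (iv D538) (iv F258) D1296 D2907
def n5475 : Q := act 3 n2907
theorem D5475 : act 3 n2907 = n5475 := rfl
theorem F4507 : act 1 n5475 = n2908 := d5_1 D5475 (iv D2908) D2907
def n5476 : Q := act 4 n2907
theorem D5476 : act 4 n2907 = n5476 := rfl
theorem F4508 : act 1 n5476 = n2909 := d6_1 D5476 (iv D2909) D2907
def n5477 : Q := act 0 n2908
theorem D5477 : act 0 n2908 = n5477 := rfl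
def n5478 : Q := act 4 n2908
theorem D5478 : act 4 n2908 = n5478 := rfl
def n5479 : Q := act 3 n2909
theorem D5479 : act 3 n2909 = n5479 := rfl
def n5480 : Q := act 2 n2910
theorem D5480 : act 2 n2910 = n5480 := rfl
def n5481 : Q := act 4 n2910
theorem D5481 : act 4 n2910 = n5481 := rfl
theorem F4509 : act 0 n5481 = n2911 := d3_1 D5481 (iv D2911) D2910
def n5482 : Q := act 2 n2911
theorem D5482 : act 2 n2911 = n5482 := rfl
theorem F4510 : act 3 n5482 = n2970 := d7_2 (iv F1965) D5482 (iv D2970)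
def n5483 : Q := act 3 n2912
theorem D5483 : act 3 n2912 = n5483 := rfl
theorem F4511 : act 0 n5483 = n3804 := d2_1 D5483 (iv F3541) F3542 (iv F1601) D3480 F2540 (iv F1966)
theorem F4512 : act 1 n5483 = n4077 := d5_1 D5483 (iv D4077) F1967
theorem F4513 : act 2 n5483 = n2913 := d7_1 D5483 (iv D2913) D2912
def n5484 : Q := act 4 n2912
theorem D5484 : act 4 n2912 = n5484 := rfl
theorem F4514 : act 0 n5484 = n3795 := d3_1 D5484 (iv D3795) (iv F1966)
theorem F4515 : act 1 n5484 = n4078 := d6_1 D5484 (iv D4078) F1967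
def n5485 : Q := act 4 n2913
theorem D5485 : act 4 n2913 = n5485 := rfl
theorem F4516 : act 3 n5485 = n3186 := d12_2 D2913 D5485 (iv D3186) F1973 (iv D2917) (iv D1300) D1298
def n5486 : Q := act 2 n2914
theorem D5486 : act 2 n2914 = n5486 := rfl
theorem F4517 : act 0 n5486 = n3798 := d1_1 D5486 (iv D3798) F1075 D1828 (iv F1974) (iv D2918) (iv F1969)
theorem F4518 : act 1 n4145 = n5486 := d13_2 D2029 D4145 F4517 (iv D3798) F1075 F395 F130 (iv F156) (iv D342) D343 D864
def n5487 : Q := act 3 n2914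
theorem D5487 : act 3 n2914 = n5487 := rfl
def n5488 : Q := act 0 n2915
theorem D5488 : act 0 n2915 = n5488 := rfl
theorem F4519 : act 2 n5488 = n3796 := d1_2 (iv F1970) D5488 (iv D3796) F2541 (iv D3480) (iv F1603) (iv F1604)
def n5489 : Q := act 4 n2915
theorem D5489 : act 4 n2915 = n5489 := rfl
def n5490 : Q := act 2 n2916
theorem D5490 : act 2 n2916 = n5490 := rfl
def n5491 : Q := act 3 n2916
theorem D5491 : act 3 n2916 = n5491 := rfl
def n5492 : Q := act 2 n2917
theorem D5492 : act 2 n2917 = n5492 := rfl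
theorem F4520 : act 3 n5492 = n3187 := d7_2 F1973 D5492 (iv D3187)
def n5493 : Q := act 1 n2918
theorem D5493 : act 1 n2918 = n5493 := rfl
theorem F4521 : act 2 n5493 = n3079 := d4_2 D2918 D5493 (iv D3079) (iv D1397) (iv D578) (iv F260) (iv F732)
def n5494 : Q := act 3 n2918
theorem D5494 : act 3 n2918 = n5494 := rfl
theorem F4522 : act 2 n5494 = n2919 := d7_1 D5494 (iv D2919) D2918
def n5495 : Q := act 4 n2918
theorem D5495 : act 4 n2918 = n5495 := rfl
theorem F4523 : act 0 n5495 = n3809 := d3_1 D5495 (iv D3809) (iv F1974)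
def n5496 : Q := act 4 n2919
theorem D5496 : act 4 n2919 = n5496 := rfl
theorem F4524 : act 1 n5496 = n2920 := d6_1 D5496 (iv D2920) (iv F1975)
theorem F4525 : act 3 n5496 = n2974 := d9_1 D5496 F2205 F1973 (iv D2917) (iv D1300) D1301 D2919
def n5497 : Q := act 0 n2921
theorem D5497 : act 0 n2921 = n5497 := rfl
theorem F4526 : act 1 n5497 = n4829 := d17_7 (iv D2917) F731 F259 D537 D1304 D2921 D5497 F3819 F1695 (iv F1610) (iv F3802) F3801
theorem F4527 : act 4 n5497 = n4828 := d17_0 (iv D4828) (iv D2513) (iv D1088) (iv F590) (iv F1602) (iv F1604) F731 F259 D537 D1304 D2921 D5497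
theorem F4528 : act 3 n4833 = n5497 := d5_0 F4526 F3820 (iv F3822)
def n5498 : Q := act 2 n2921
theorem D5498 : act 2 n2921 = n5498 := rfl
theorem F4529 : act 3 n5498 = n2972 := d7_2 (iv F1978) D5498 (iv D2972)
def n5499 : Q := act 4 n2921
theorem D5499 : act 4 n2921 = n5499 := rfl
theorem F4530 : act 0 n5499 = n4828 := d3_1 D5499 (iv F4527) (iv D5497)
theorem F4531 : act 1 n5499 = n2922 := d6_1 D5499 (iv D2922) D2921
theorem F4532 : act 3 n2926 = n5499 := d5_0 F4531 F1980 (iv F1982)
def n5500 : Q := act 1 n2923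
theorem D5500 : act 1 n2923 = n5500 := rfl
theorem F4533 : act 0 n5500 = n4025 := d0_1 D5500 (iv F3677) (iv D4687) (iv D2428) F566 D1305 D2923
theorem F4534 : act 2 n5500 = n4005 := d15_6 (iv D206) (iv F89) D538 D1305 D2923 D5500 F2996 (iv F2990) F2989 (iv D2929) (iv D1309) (iv D540)
theorem F4535 : act 4 n3981 = n5500 := d8_0 F4534 (iv D4005) (iv F2969) (iv D3979) (iv D1925) D1927 D3981
def n5501 : Q := act 2 n2923
theorem D5501 : act 2 n2923 = n5501 := rfl
def n5502 : Q := act 3 n2923
theorem D5502 : act 3 n2923 = n5502 := rfl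
def n5503 : Q := act 4 n2923
theorem D5503 : act 4 n2923 = n5503 := rfl
theorem F4536 : act 0 n5503 = n2926 := d3_1 D5503 (iv D2926) D2923
theorem F4537 : act 1 n5503 = n3981 := d6_1 D5503 F4535 (iv D5500)
def n5504 : Q := act 0 n2924
theorem D5504 : act 0 n2924 = n5504 := rfl
def n5505 : Q := act 3 n2924
theorem D5505 : act 3 n2924 = n5505 := rfl
theorem F4538 : act 2 n5505 = n2925 := d7_1 D5505 (iv D2925) D2924
def n5506 : Q := act 4 n2924
theorem D5506 : act 4 n2924 = n5506 := rfl
def n5507 : Q := act 0 n2925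
theorem D5507 : act 0 n2925 = n5507 := rfl
theorem F4539 : act 3 n5507 = n4876 := d12_4 (iv F4532) (iv D2926) D2925 D5507 (iv D4876) (iv F3817) (iv F4530)
theorem F4540 : act 1 n5507 = n4834 := d17_7 D5496 F4524 F2181 (iv D1308) (iv F737) (iv F1981) D5507 F3824 (iv D2583) (iv F1613) (iv F3810) F3811
theorem F4541 : act 4 n4832 = n5507 := d6_0 F4540 (iv D4834) (iv F3821)
def n5508 : Q := act 4 n2925
theorem D5508 : act 4 n2925 = n5508 := rfl
theorem F4542 : act 0 n5508 = n4832 := d3_1 D5508 F4541 (iv D5507)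
theorem F4543 : act 1 n5508 = n2927 := d6_1 D5508 (iv D2927) (iv F1981)
theorem F4544 : act 3 n5508 = n2973 := d9_1 D5508 (iv D2973) (iv F1978) D5499 (iv F4532) (iv D2926) D2925
def n5509 : Q := act 2 n2926
theorem D5509 : act 2 n2926 = n5509 := rfl
def n5510 : Q := act 2 n2929
theorem D5510 : act 2 n2929 = n5510 := rfl
def n5511 : Q := act 3 n2929
theorem D5511 : act 3 n2929 = n5511 := rfl
def n5512 : Q := act 0 n2930
theorem D5512 : act 0 n2930 = n5512 := rfl
def n5513 : Q := act 1 n2930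
theorem D5513 : act 1 n2930 = n5513 := rfl
theorem F4545 : act 2 n5513 = n3051 := d4_2 D2930 D5513 (iv D3051) (iv D1382) F279 (iv F262) D1309
def n5514 : Q := act 3 n2930
theorem D5514 : act 3 n2930 = n5514 := rfl
theorem F4546 : act 2 n5514 = n2931 := d7_1 D5514 (iv D2931) D2930
def n5515 : Q := act 4 n2930
theorem D5515 : act 4 n2930 = n5515 := rfl
def n5516 : Q := act 0 n2931
theorem D5516 : act 0 n2931 = n5516 := rfl
theorem F4547 : act 1 n5516 = n2933 := d15_5 F1617 F596 (iv F740) (iv F1985) D5516 F2171 (iv F1692) (iv F3824) (iv F4540) (iv D5507) F1981 (iv F1616)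
theorem F4548 : act 4 n5516 = n2931 := d17_0 F1985 F740 D1384 F2189 (iv F768) F923 F768 (iv F2189) (iv D1384) (iv F740) (iv F1985) D5516
theorem F4549 : act 3 n2960 = n5516 := d5_0 F4547 F1987 (iv F2006)
def n5517 : Q := act 2 n2932
theorem D5517 : act 2 n2932 = n5517 := rfl
def n5518 : Q := act 3 n2932
theorem D5518 : act 3 n2932 = n5518 := rfl
theorem F4550 : act 1 n5518 = n2934 := d5_1 D5518 (iv D2934) (iv F1986)
theorem F4551 : act 4 n5518 = n2959 := d9_2 D2932 D5518 (iv D2959) D2960 F4549 F4548 (iv D2931)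
theorem F4552 : act 0 n5518 = n2959 := d12_3 (iv D2931) D2932 D5518 (iv D2959) D2960 F4549 (iv D5516)
def n5519 : Q := act 3 n2935
theorem D5519 : act 3 n2935 = n5519 := rfl
theorem F4553 : act 2 n5519 = n2936 := d7_1 D5519 (iv D2936) D2935
def n5520 : Q := act 2 n2937
theorem D5520 : act 2 n2937 = n5520 := rfl
def n5521 : Q := act 3 n2937
theorem D5521 : act 3 n2937 = n5521 := rfl
def n5522 : Q := act 4 n2937
theorem D5522 : act 4 n2937 = n5522 := rfl
theorem F4554 : act 0 n5522 = n2939 := d3_1 D5522 (iv D2939) D2937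
def n5523 : Q := act 0 n2938
theorem D5523 : act 0 n2938 = n5523 := rfl
def n5524 : Q := act 4 n2938
theorem D5524 : act 4 n2938 = n5524 := rfl
def n5525 : Q := act 2 n2939
theorem D5525 : act 2 n2939 = n5525 := rfl
theorem F4555 : act 1 n5525 = n3856 := d4_1 D5525 (iv D3856) (iv F2809) (iv D3102) F785 D2076 (iv F4437)
theorem F4556 : act 4 n5525 = n3601 := d8_2 D2939 D5525 (iv D3601) (iv F2792) (iv D2941) (iv D1315) D1313
def n5526 : Q := act 3 n2939
theorem D5526 : act 3 n2939 = n5526 := rfl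
def n5527 : Q := act 2 n2940
theorem D5527 : act 2 n2940 = n5527 := rfl
theorem F4558 : act 3 n5527 = n2956 := d7_2 (iv F1991) D5527 (iv D2956)
def n5528 : Q := act 3 n2945
theorem D5528 : act 3 n2945 = n5528 := rfl
theorem F4559 : act 2 n5528 = n2946 := d7_1 D5528 (iv D2946) D2945
def n5529 : Q := act 4 n2946
theorem D5529 : act 4 n2946 = n5529 := rfl
def n5530 : Q := act 3 n2947
theorem D5530 : act 3 n2947 = n5530 := rfl
def n5531 : Q := act 1 n2948
theorem D5531 : act 1 n2948 = n5531 := rfl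
def n5532 : Q := act 2 n2948
theorem D5532 : act 2 n2948 = n5532 := rfl
def n5533 : Q := act 3 n2948
theorem D5533 : act 3 n2948 = n5533 := rfl
def n5534 : Q := act 4 n2948
theorem D5534 : act 4 n2948 = n5534 := rfl
theorem F4560 : act 0 n5534 = n2949 := d3_1 D5534 (iv D2949) D2948
def n5535 : Q := act 2 n2949
theorem D5535 : act 2 n2949 = n5535 := rfl
def n5536 : Q := act 3 n2949
theorem D5536 : act 3 n2949 = n5536 := rfl
def n5537 : Q := act 3 n2950
theorem D5537 : act 3 n2950 = n5537 := rfl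
theorem F4562 : act 2 n5537 = n2951 := d7_1 D5537 (iv D2951) D2950
def n5540 : Q := act 1 n2953
theorem D5540 : act 1 n2953 = n5540 := rfl
theorem F4564 : act 2 n5540 = n3427 := d17_8 D266 (iv F321) F3420 (iv D1548) (iv F872) (iv F2391) F2392 D5540 (iv D3427) (iv D1619) (iv D679) (iv D265)
theorem F4565 : act 1 n4501 = n3427 := d4_7 (iv F4564) (iv D5540) (iv D2953) (iv F2213) (iv D2264) (iv F1396) D4501
theorem F4566 : act 4 n3426 = n4501 := d6_0 F4565 (iv D3427) D3426
def n5541 : Q := act 3 n2953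
theorem D5541 : act 3 n2953 = n5541 := rfl
theorem F4567 : act 2 n5541 = n2954 := d7_1 D5541 (iv D2954) D2953
def n5542 : Q := act 4 n2953
theorem D5542 : act 4 n2953 = n5542 := rfl
def n5543 : Q := act 2 n2955
theorem D5543 : act 2 n2955 = n5543 := rfl
def n5544 : Q := act 0 n2956
theorem D5544 : act 0 n2956 = n5544 := rfl
def n5545 : Q := act 1 n2956
theorem D5545 : act 1 n2956 = n5545 := rfl
theorem F4568 : act 2 n5545 = n3174 := d4_2 D2956 D5545 (iv D3174) (iv D1459) F295 F2167 (iv F749)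
def n5546 : Q := act 4 n2956
theorem D5546 : act 4 n2956 = n5546 := rfl
def n5547 : Q := act 2 n2957
theorem D5547 : act 2 n2957 = n5547 := rfl
def n5548 : Q := act 3 n2957
theorem D5548 : act 3 n2957 = n5548 := rfl
def n5549 : Q := act 4 n2957
theorem D5549 : act 4 n2957 = n5549 := rfl
theorem F4569 : act 0 n5549 = n2960 := d3_1 D5549 (iv D2960) D2957
def n5550 : Q := act 0 n2958
theorem D5550 : act 0 n2958 = n5550 := rfl
def n5551 : Q := act 1 n2958
theorem D5551 : act 1 n2958 = n5551 := rfl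
def n5552 : Q := act 3 n2958
theorem D5552 : act 3 n2958 = n5552 := rfl
theorem F4570 : act 2 n5552 = n2959 := d7_1 D5552 (iv D2959) D2958
def n5553 : Q := act 4 n2958
theorem D5553 : act 4 n2958 = n5553 := rfl
def n5554 : Q := act 2 n2960
theorem D5554 : act 2 n2960 = n5554 := rfl
def n5555 : Q := act 0 n2965
theorem D5555 : act 0 n2965 = n5555 := rfl
def n5556 : Q := act 1 n2965
theorem D5556 : act 1 n2965 = n5556 := rfl
def n5557 : Q := act 4 n2965
theorem D5557 : act 4 n2965 = n5557 := rfl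
def n5558 : Q := act 2 n2966
theorem D5558 : act 2 n2966 = n5558 := rfl
def n5559 : Q := act 1 n2967
theorem D5559 : act 1 n2967 = n5559 := rfl
def n5560 : Q := act 3 n2967
theorem D5560 : act 3 n2967 = n5560 := rfl
def n5561 : Q := act 4 n2967
theorem D5561 : act 4 n2967 = n5561 := rfl
theorem F4571 : act 0 n5561 = n2969 := d3_1 D5561 (iv D2969) D2967
def n5562 : Q := act 0 n2968
theorem D5562 : act 0 n2968 = n5562 := rfl
theorem F4572 : act 3 n5562 = n5132 := d2_2 F4502 D5562 (iv D5132) (iv D2711) D2709 D5129 (iv F4503)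
def n5563 : Q := act 2 n2968
theorem D5563 : act 2 n2968 = n5563 := rfl
theorem F4573 : act 1 n5563 = n2972 := d4_1 D5563 (iv D2972) (iv D1336) (iv D552) D551 D1334 D2968
def n5564 : Q := act 4 n2968
theorem D5564 : act 4 n2968 = n5564 := rfl
theorem F4574 : act 1 n5564 = n2969 := d6_1 D5564 (iv D2969) D2968
def n5565 : Q := act 2 n2969
theorem D5565 : act 2 n2969 = n5565 := rfl
def n5566 : Q := act 3 n2969
theorem D5566 : act 3 n2969 = n5566 := rfl
def n5567 : Q := act 0 n2970
theorem D5567 : act 0 n2970 = n5567 := rfl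
def n5568 : Q := act 1 n2970
theorem D5568 : act 1 n2970 = n5568 := rfl
def n5569 : Q := act 4 n2970
theorem D5569 : act 4 n2970 = n5569 := rfl
def n5570 : Q := act 1 n2971
theorem D5570 : act 1 n2971 = n5570 := rfl
theorem F4575 : act 0 n5570 = n4499 := d0_1 D5570 (iv F3684) (iv D4693) F1516 F569 D1336 D2971
theorem F4576 : act 2 n5570 = n4485 := d15_6 F90 D211 D552 D1336 D2971 D5570 F3453 D4488 F3456 (iv D2957) (iv D1326) (iv D548)
def n5571 : Q := act 2 n2971
theorem D5571 : act 2 n2971 = n5571 := rfl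
def n5572 : Q := act 3 n2971
theorem D5572 : act 3 n2971 = n5572 := rfl
def n5573 : Q := act 4 n2971
theorem D5573 : act 4 n2971 = n5573 := rfl
theorem F4577 : act 0 n5573 = n2973 := d3_1 D5573 (iv D2973) D2971
def n5574 : Q := act 0 n2972
theorem D5574 : act 0 n2972 = n5574 := rfl
def n5575 : Q := act 4 n2972
theorem D5575 : act 4 n2972 = n5575 := rfl
def n5576 : Q := act 2 n2973
theorem D5576 : act 2 n2973 = n5576 := rfl
def n5577 : Q := act 0 n2974
theorem D5577 : act 0 n2974 = n5577 := rfl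
theorem F4578 : act 4 n5577 = n3186 := d3_2 (iv F2205) D5577 (iv D3186)
def n5578 : Q := act 2 n2974
theorem D5578 : act 2 n2974 = n5578 := rfl
theorem F4579 : act 0 n5578 = n3960 := d11_3 (iv D3187) (iv F2205) D5578 (iv D3960) (iv F3389) D2229 (iv F3290)
def n5579 : Q := act 2 n2983
theorem D5579 : act 2 n2983 = n5579 := rfl
theorem F4580 : act 0 n5579 = n3001 := d1_1 D5579 (iv D3001) F758 D1360 (iv F2020) (iv D2988) (iv F2014)
theorem F4581 : act 1 n5579 = n3818 := d14_2 F4420 D5579 F2843 F1089 F406 (iv F461) (iv F1244) (iv F3135) F3136 F2681 (iv F4419)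
theorem F4582 : act 4 n3815 = n5579 := d6_0 F4581 (iv D3818) D3815
def n5580 : Q := act 4 n2984
theorem D5580 : act 4 n2984 = n5580 := rfl
theorem F4583 : act 0 n5580 = n2986 := d3_1 D5580 (iv D2986) D2984
theorem F4584 : act 1 n5580 = n4073 := d6_1 D5580 (iv D4073) (iv F2015)
def n5581 : Q := act 0 n2985
theorem D5581 : act 0 n2985 = n5581 := rfl
theorem F4585 : act 1 n5581 = n3213 := d0_2 (iv F2018) D5581 (iv D3213) F830 D2659 F1743 (iv F926)
theorem F4586 : act 3 n5581 = n4618 := d2_2 D2985 D5581 (iv D4618) (iv D2365) D2363 (iv F2016) (iv D2984)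
def n5582 : Q := act 4 n2985
theorem D5582 : act 4 n2985 = n5582 := rfl
theorem F4587 : act 1 n5582 = n2987 := d6_1 D5582 (iv D2987) (iv F2018)
def n5583 : Q := act 2 n2986
theorem D5583 : act 2 n2986 = n5583 := rfl
theorem F4588 : act 0 n5583 = n4265 := d11_3 F1226 D2986 D5583 F4468 (iv D3583) (iv D1704) D1703
def n5584 : Q := act 3 n2986
theorem D5584 : act 3 n2986 = n5584 := rfl
theorem F4589 : act 1 n5584 = n2989 := d5_1 D5584 (iv D2989) (iv F2019)
def n5585 : Q := act 2 n2987
theorem D5585 : act 2 n2987 = n5585 := rfl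
theorem F4590 : act 0 n5585 = n5585 := d11_3 (iv F753) D2987 D5585 (iv D5585) (iv D2987) F753 F924
def n5586 : Q := act 3 n2987
theorem D5586 : act 3 n2987 = n5586 := rfl
def n5587 : Q := act 3 n2988
theorem D5587 : act 3 n2988 = n5587 := rfl
theorem F4591 : act 0 n5587 = n5587 := d2_1 D5587 (iv D5587) F2020 D3014 F2104 (iv D3014) (iv F2020)
theorem F4592 : act 2 n5587 = n2989 := d7_1 D5587 (iv D2989) D2988
def n5588 : Q := act 4 n2989
theorem D5588 : act 4 n2989 = n5588 := rfl
def n5589 : Q := act 1 n2990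
theorem D5589 : act 1 n2990 = n5589 := rfl
theorem F4593 : act 3 n5589 = n3189 := d5_2 (iv F2021) D5589 (iv D3189)
def n5590 : Q := act 4 n2990
theorem D5590 : act 4 n2990 = n5590 := rfl
def n5591 : Q := act 1 n2991
theorem D5591 : act 1 n2991 = n5591 := rfl
theorem F4594 : act 0 n5591 = n3075 := d13_3 D1348 D2991 D5591 (iv D3075) (iv D1396) (iv D578) (iv D223) (iv D80) (iv F29) (iv F94) (iv F272)
theorem F4595 : act 3 n3075 = n4631 := d16_0 (iv D4631) D4633 F3612 (iv F3551) F3550 (iv D3810) (iv D1829) (iv F1075) (iv F2825) F2826 D5591 F4594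
theorem F4596 : act 2 n4631 = n3076 := d7_1 F4595 (iv D3076) D3075
def n5592 : Q := act 4 n2991
theorem D5592 : act 4 n2991 = n5592 := rfl
theorem F4597 : act 0 n5592 = n2994 := d3_1 D5592 (iv D2994) D2991
theorem F4598 : act 2 n5592 = n3815 := d8_1 D5592 F4582 (iv D5579) (iv D2983) (iv F1074) D3794 F2826
def n5593 : Q := act 0 n2992
theorem D5593 : act 0 n2992 = n5593 := rfl
theorem F4599 : act 1 n5593 = n4142 := d0_2 D2992 D5593 (iv F3132) F3138 (iv F4594) (iv D5591) (iv D2991)
theorem F4600 : act 3 n5593 = n4626 := d16_7 F1536 (iv D1944) (iv D826) (iv F273) D1348 D2992 D5593 (iv D4626) (iv D2371) (iv D1016) (iv F538) (iv F1457)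
theorem F4601 : act 0 n4236 = n4627 := d10_5 (iv F4600) (iv D5593) F3197 (iv D4234) D4236 (iv D4627) D4626
def n5594 : Q := act 3 n2992
theorem D5594 : act 3 n2992 = n5594 := rfl
theorem F4602 : act 1 n5594 = n2993 := d5_1 D5594 (iv D2993) D2992
def n5595 : Q := act 4 n2992
theorem D5595 : act 4 n2992 = n5595 := rfl
theorem F4603 : act 1 n5595 = n2994 := d6_1 D5595 (iv D2994) D2992
theorem F4604 : act 2 n5595 = n3658 := d11_2 (iv F3197) D5595 (iv D3658) D3659 (iv F3198) (iv D4235) D4234
def n5596 : Q := act 4 n2993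
theorem D5596 : act 4 n2993 = n5596 := rfl
def n5597 : Q := act 3 n2994
theorem D5597 : act 3 n2994 = n5597 := rfl
def n5598 : Q := act 2 n2995
theorem D5598 : act 2 n2995 = n5598 := rfl
theorem F4605 : act 3 n5598 = n3191 := d7_2 (iv F2025) D5598 (iv D3191)
def n5599 : Q := act 4 n2996
theorem D5599 : act 4 n2996 = n5599 := rfl
theorem F4606 : act 0 n5599 = n3755 := d3_1 D5599 (iv D3755) (iv F2026)
def n5600 : Q := act 2 n2997
theorem D5600 : act 2 n2997 = n5600 := rfl
def n5601 : Q := act 4 n2998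
theorem D5601 : act 4 n2998 = n5601 := rfl
theorem F4607 : act 0 n5601 = n5601 := d3_1 D5601 (iv D5601) F2030
theorem F4608 : act 1 n5601 = n3373 := d6_1 D5601 (iv D3373) (iv F2028)
theorem F4609 : act 2 n5601 = n3194 := d11_2 (iv F2029) D5601 F2302 (iv D2990) (iv D1347) (iv F753) F926
theorem F4610 : act 3 n3193 = n5601 := d7_0 F4609 (iv D3194) D3193
def n5602 : Q := act 3 n2999
theorem D5602 : act 3 n2999 = n5602 := rfl
theorem F4611 : act 1 n5602 = n3375 := d5_1 D5602 (iv D3375) (iv F2031)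
theorem F4612 : act 2 n5602 = n3021 := d7_1 D5602 (iv D3021) (iv F2032)
theorem F4613 : act 0 n5602 = n5602 := d10_1 D5602 F4612 F2107 (iv D2993) D2991 (iv F2826) F2824
def n5603 : Q := act 2 n3000
theorem D5603 : act 2 n3000 = n5603 := rfl
theorem F4614 : act 0 n5603 = n5603 := d1_1 D5603 (iv D5603) F2033 D5585 F4590 (iv D5585) (iv F2033)
def n5604 : Q := act 3 n3000
theorem D5604 : act 3 n3000 = n5604 := rfl
theorem F4615 : act 0 n5604 = n3013 := d12_3 D1352 D3000 D5604 (iv D3013) (iv D1359) (iv D560) D558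
theorem F4616 : act 4 n3201 = n5604 := d3_0 F4615 F3398 D3201
def n5605 : Q := act 3 n3001
theorem D5605 : act 3 n3001 = n5605 := rfl
theorem F4617 : act 2 n5605 = n3002 := d7_1 D5605 (iv D3002) D3001
theorem F4618 : act 0 n5605 = n5605 := d10_1 D5605 F4617 F2034 (iv D2989) (iv F2014) D5579 F4580
def n5606 : Q := act 4 n3002
theorem D5606 : act 4 n3002 = n5606 := rfl
theorem F4619 : act 0 n5606 = n5588 := d3_1 D5606 (iv D5588) (iv F2034)
theorem F4620 : act 3 n5606 = n3201 := d9_1 D5606 F4616 (iv D5604) (iv D3000) (iv D1352) D1353 D3002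
theorem E636 : n5598 = n5588 := (c10_7 F4620 (iv D3201) (iv D1490) (iv F824) (iv F2025) F2023 D5598 (iv F4619))
theorem F4621 : act 2 n5588 = n2995 := (sb E636 (iv D5598))
theorem F4622 : act 3 n5588 = n3191 := (sb E636 F4605)
theorem F4623 : act 4 n5586 = n3191 := d12_5 F4620 F4616 (iv D5604) F2033 D5586 (iv F4622) (iv F4619)
def n5607 : Q := act 4 n3003
theorem D5607 : act 4 n3003 = n5607 := rfl
theorem F4624 : act 0 n5607 = n5452 := d3_1 D5607 (iv D5452) (iv F2035)
theorem F4625 : act 1 n5607 = n3641 := d6_1 D5607 (iv D3641) (iv F2036)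
def n5608 : Q := act 2 n3004
theorem D5608 : act 2 n3004 = n5608 := rfl
theorem F4626 : act 3 n5608 = n4571 := d7_2 (iv F2040) D5608 (iv D4571)
theorem F4627 : act 0 n5608 = n5454 := d11_3 (iv D3003) D3004 D5608 (iv D5454) (iv D2898) D2896 (iv F2035)
def n5609 : Q := act 2 n3005
theorem D5609 : act 2 n3005 = n5609 := rfl
def n5610 : Q := act 2 n3006
theorem D5610 : act 2 n3006 = n5610 := rfl
def n5611 : Q := act 3 n3006
theorem D5611 : act 3 n3006 = n5611 := rfl
theorem F4628 : act 0 n5611 = n4561 := d2_1 D5611 (iv D4561) F1433 D2325 (iv F3508) (iv D4547) (iv F2091)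
theorem F4629 : act 1 n5611 = n3013 := d5_1 D5611 (iv D3013) (iv F2092)
theorem F4630 : act 4 n3202 = n5611 := d6_0 F4629 F3398 D3202
def n5612 : Q := act 0 n3007
theorem D5612 : act 0 n3007 = n5612 := rfl
theorem F4631 : act 2 n5612 = n5451 := d1_2 D3007 D5612 F4479 D5454 (iv F4627) (iv D5608) F2038
theorem F4632 : act 3 n5612 = n4568 := d10_4 (iv F2040) F2038 D3007 D5612 (iv D4568) F1435 D2329
theorem F4633 : act 1 n5612 = n4166 := d13_2 D3007 D5612 (iv D4166) (iv D2037) (iv F1237) (iv F3117) (iv F3276) F3278 F2398 (iv F2039) F2038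
def n5613 : Q := act 1 n3007
theorem D5613 : act 1 n3007 = n5613 := rfl
def n5614 : Q := act 3 n3007
theorem D5614 : act 3 n3007 = n5614 := rfl
theorem F4634 : act 0 n5614 = n4455 := d2_1 D5614 (iv D4455) F1355 D2327 D4568 (iv F4632) (iv D5612)
theorem F4635 : act 2 n5614 = n3008 := d7_1 D5614 (iv D3008) D3007
def n5615 : Q := act 4 n3007
theorem D5615 : act 4 n3007 = n5615 := rfl
def n5616 : Q := act 4 n3008
theorem D5616 : act 4 n3008 = n5616 := rfl
theorem F4636 : act 0 n5616 = n4550 := d3_1 D5616 (iv D4550) (iv F2093)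
theorem F4637 : act 1 n5616 = n3016 := d6_1 D5616 (iv D3016) (iv F2094)
theorem F4638 : act 3 n5616 = n3202 := d9_1 D5616 F4630 (iv D5611) (iv D3006) (iv D1356) D1357 D3008
def n5617 : Q := act 2 n3009
theorem D5617 : act 2 n3009 = n5617 := rfl
theorem F4639 : act 0 n5617 = n5456 := d1_1 D5617 (iv D5456) (iv D2899) F727 D1294 D2903 (iv F2095)
theorem F4640 : act 3 n5617 = n3275 := d7_2 (iv F2096) D5617 F2370
def n5618 : Q := act 4 n3009
theorem D5618 : act 4 n3009 = n5618 := rfl
theorem F4641 : act 0 n5618 = n5465 := d3_1 D5618 (iv D5465) (iv F2095)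
theorem F4642 : act 1 n5618 = n3011 := d6_1 D5618 (iv D3011) D3009
def n5619 : Q := act 4 n3010
theorem D5619 : act 4 n3010 = n5619 := rfl
theorem F4643 : act 0 n5619 = n5619 := d3_1 D5619 (iv D5619) F2097
theorem F4644 : act 1 n5619 = n3797 := d6_1 D5619 (iv D3797) F2099
theorem F4645 : act 2 n5619 = n3017 := d11_2 D3010 D5619 (iv D3017) (iv D1366) (iv D563) (iv F274) D1358
theorem F4646 : act 3 n5619 = n4481 := d12_2 (iv F2098) D5619 F3449 F4610 (iv D5601) (iv D2998) (iv F1073)
def n5620 : Q := act 2 n3011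
theorem D5620 : act 2 n3011 = n5620 := rfl
theorem F4647 : act 0 n5620 = n5620 := d1_1 D5620 (iv D5620) F2100 D3012 F2101 (iv D3012) (iv F2100)
def n5621 : Q := act 3 n3011
theorem D5621 : act 3 n3011 = n5621 := rfl
theorem F4648 : act 0 n5621 = n5586 := d2_1 D5621 (iv D5586) (iv F2033) D5604 F4615 (iv D3013) (iv F2100)
def n5622 : Q := act 1 n3015
theorem D5622 : act 1 n3015 = n5622 := rfl
theorem F4649 : act 3 n5622 = n5440 := d5_2 (iv F2103) D5622 F4420
def n5623 : Q := act 2 n3015
theorem D5623 : act 2 n3015 = n5623 := rfl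
theorem F4650 : act 0 n5623 = n5623 := d1_1 D5623 (iv D5623) (iv D3015) (iv F2102) F2104 F2102 D3015
theorem F4651 : act 3 n5623 = n5579 := d7_2 (iv F2103) D5623 (iv D5579)
def n5624 : Q := act 4 n3015
theorem D5624 : act 4 n3015 = n5624 := rfl
theorem F4652 : act 0 n5624 = n3016 := d3_1 D5624 (iv D3016) D3015
def n5625 : Q := act 1 n3017
theorem D5625 : act 1 n3017 = n5625 := rfl
def n5626 : Q := act 4 n3017
theorem D5626 : act 4 n3017 = n5626 := rfl
theorem F4653 : act 0 n5626 = n3019 := d3_1 D5626 (iv D3019) D3017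
theorem F4654 : act 3 n5592 = n5626 := d10_0 F4653 F2872 F2865 (iv D3841) (iv F2850) F2851 (iv F4597)
theorem E637 : n5597 = n5590 := ((c12_6 F4654 (iv D5626) (iv F2300) (iv D3188) (iv F2021) D5590 (iv D5597) (iv F4597))).symm
theorem F4655 : act 3 n5590 = n2994 := (sb E637 (iv D5597))
theorem F4656 : act 3 n5596 = n3190 := d9_5 D5590 F4655 (iv D2994) D2993 D5596 (iv D3190) (iv F2021)
def n5627 : Q := act 4 n3018
theorem D5627 : act 4 n3018 = n5627 := rfl
theorem F4657 : act 0 n5627 = n3443 := d3_1 D5627 F2495 (iv F2106)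
theorem F4658 : act 1 n5627 = n3019 := d6_1 D5627 (iv D3019) D3018
theorem F4659 : act 3 n5627 = n3026 := d12_2 (iv F2105) D5627 (iv F2689) (iv F3649) (iv D4657) (iv F2304) (iv D3196)
def n5628 : Q := act 0 n3020
theorem D5628 : act 0 n3020 = n5628 := rfl
theorem F4660 : act 1 n5628 = n4208 := d0_2 D3020 D5628 (iv D4208) (iv F2109) (iv D3023) (iv D1368) D1367
theorem F4661 : act 2 n5628 = n4056 := d13_4 D564 D1367 D3020 D5628 (iv D4056) (iv D1980) (iv D842) (iv D333) (iv F145) (iv F273) F272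
def n5629 : Q := act 2 n3020
theorem D5629 : act 2 n3020 = n5629 := rfl
theorem F4662 : act 0 n5629 = n4185 := d13_1 D5629 (iv D4185) (iv D2048) (iv D872) D871 D2044 F1243 D2059 D4208 (iv F4660) (iv D5628)
def n5630 : Q := act 3 n3020
theorem D5630 : act 3 n3020 = n5630 := rfl
theorem F4663 : act 1 n5630 = n3021 := d5_1 D5630 (iv D3021) D3020
def n5631 : Q := act 4 n3020
theorem D5631 : act 4 n3020 = n5631 := rfl
theorem F4664 : act 1 n5631 = n3022 := d6_1 D5631 (iv D3022) D3020
def n5632 : Q := act 4 n3021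
theorem D5632 : act 4 n3021 = n5632 := rfl
theorem F4665 : act 0 n5632 = n5596 := d3_1 D5632 (iv D5596) (iv F2107)
theorem F4666 : act 3 n5632 = n3195 := d12_2 D3021 D5632 F2303 (iv F2874) (iv D3028) (iv D1369) D1367
def n5633 : Q := act 3 n3022
theorem D5633 : act 3 n3022 = n5633 := rfl
theorem F4667 : act 0 n5633 = n5590 := d2_1 D5633 F4655 (iv F4597) F4654 F4653 F2873 (iv F2108)
theorem F4668 : act 4 n5633 = n3194 := d9_2 D3022 D5633 (iv D3194) D3195 (iv F4666) (iv D5632) (iv D3021)
def n5634 : Q := act 2 n3023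
theorem D5634 : act 2 n3023 = n5634 := rfl
theorem F4669 : act 1 n5634 = n4218 := d4_1 D5634 (iv D4218) (iv D2063) (iv D878) D877 D2059 (iv F2109)
theorem F4670 : act 3 n5634 = n4637 := d7_2 (iv F2110) D5634 (iv D4637)
theorem F4671 : act 0 n5634 = n5493 := d13_1 D5634 (iv D5493) F1974 (iv D1828) (iv F1075) (iv F2825) F2824 F2032 (iv D1367) D1368 D3023
def n5635 : Q := act 3 n3024
theorem D5635 : act 3 n3024 = n5635 := rfl
theorem F4672 : act 1 n5635 = n3066 := d5_1 D5635 (iv D3066) (iv F2111)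
theorem F4673 : act 2 n5635 = n3025 := d7_1 D5635 (iv D3025) D3024
def n5636 : Q := act 4 n3024
theorem D5636 : act 4 n3024 = n5636 := rfl
theorem F4674 : act 1 n5636 = n3067 := d6_1 D5636 (iv D3067) (iv F2111)
def n5637 : Q := act 0 n3025
theorem D5637 : act 0 n3025 = n5637 := rfl
theorem F4675 : act 3 n5637 = n4642 := d2_2 D3025 D5637 (iv D4642) (iv D2380) D2378 (iv F2110) (iv D3023)
theorem F4676 : act 1 n5637 = n3449 := d14_4 (iv F277) (iv F767) (iv F2112) D5637 F3413 F3207 (iv F3184) F3185 F1668 F612 F219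
theorem F4677 : act 4 n5637 = n3447 := d17_0 F2501 F933 D1634 (iv F3410) (iv F3511) (iv F4636) F4637 F3411 (iv D1372) (iv F767) (iv F2112) D5637
def n5638 : Q := act 4 n3025
theorem D5638 : act 4 n3025 = n5638 := rfl
theorem F4678 : act 0 n5638 = n3447 := d3_1 D5638 (iv F4677) (iv D5637)
theorem F4679 : act 1 n5638 = n3028 := d6_1 D5638 (iv D3028) (iv F2112)
theorem F4680 : act 3 n5638 = n3198 := d9_1 D5638 (iv D3198) (iv F2105) D5627 F4659 (iv D3026) D3025
theorem F4681 : act 2 n3685 = n5638 := d10_2 D1762 D3685 F4678 (iv D3447) F932 (iv F1036) (iv D1760)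
def n5639 : Q := act 2 n3026
theorem D5639 : act 2 n3026 = n5639 := rfl
theorem F4682 : act 1 n5639 = n3053 := d4_1 D5639 (iv F2867) (iv D3843) (iv D1847) D1846 F1100 (iv F2113)
theorem F4683 : act 0 n5639 = n4119 := d13_1 D5639 (iv D4119) (iv D2016) (iv D857) (iv F447) (iv F1218) F1217 D3299 F2402 D3636 F2689
theorem F4684 : act 4 n5639 = n3051 := d17_0 (iv D3051) (iv D1382) (iv D569) D567 (iv F761) (iv F1221) (iv D2004) (iv F1005) D3589 F2653 D4119 (iv F4683)
def n5640 : Q := act 1 n3027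
theorem D5640 : act 1 n3027 = n5640 := rfl
theorem F4685 : act 3 n5640 = n5591 := d5_2 (iv F2114) D5640 (iv D5591)
def n5641 : Q := act 2 n3027
theorem D5641 : act 2 n3027 = n5641 := rfl
theorem F4686 : act 0 n5641 = n5641 := d1_1 D5641 (iv D5641) (iv D3027) F767 F921 (iv F767) D3027
theorem F4687 : act 3 n5641 = n3794 := d7_2 (iv F2114) D5641 F2826
theorem F4688 : act 1 n3799 = n5641 := d5_3 F4687 F2825 D3799
def n5642 : Q := act 4 n3027
theorem D5642 : act 4 n3027 = n5642 := rfl
theorem F4689 : act 0 n5642 = n3028 := d3_1 D5642 (iv D3028) D3027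
def n5643 : Q := act 4 n3031
theorem D5643 : act 4 n3031 = n5643 := rfl
theorem F4690 : act 0 n5643 = n3744 := d3_1 D5643 (iv D3744) (iv F2116)
theorem F4691 : act 1 n5643 = n3037 := d6_1 D5643 (iv D3037) (iv F2117)
def n5644 : Q := act 2 n3032
theorem D5644 : act 2 n3032 = n5644 := rfl
theorem F4692 : act 0 n5644 = n5338 := d1_1 D5644 (iv D5338) F1903 D2835 D5340 F4334 F2405
def n5645 : Q := act 3 n3032
theorem D5645 : act 3 n3032 = n5645 := rfl
theorem F4693 : act 1 n5645 = n3039 := d5_1 D5645 (iv D3039) (iv F2119)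
def n5646 : Q := act 3 n3033
theorem D5646 : act 3 n3033 = n5646 := rfl
theorem F4694 : act 1 n5646 = n3480 := d5_1 D5646 F2540 (iv F2120)
theorem F4695 : act 0 n5646 = n3046 := d10_1 D5646 (iv D3046) (iv D1380) (iv D568) D566 D1374 D3033
def n5647 : Q := act 4 n3033
theorem D5647 : act 4 n3033 = n5647 := rfl
theorem F4696 : act 0 n5647 = n3036 := d3_1 D5647 (iv D3036) D3033
theorem F4697 : act 1 n5647 = n3795 := d6_1 D5647 (iv D3795) (iv F2120)
def n5648 : Q := act 4 n3034
theorem D5648 : act 4 n3034 = n5648 := rfl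
theorem F4698 : act 0 n5648 = n4080 := d3_1 D5648 (iv D4080) (iv F2121)
theorem F4699 : act 1 n5648 = n3036 := d6_1 D5648 (iv D3036) D3034
def n5649 : Q := act 4 n3035
theorem D5649 : act 4 n3035 = n5649 := rfl
theorem F4700 : act 1 n5649 = n3639 := d6_1 D5649 (iv D3639) (iv F2124)
def n5650 : Q := act 2 n3036
theorem D5650 : act 2 n3036 = n5650 := rfl
theorem F4701 : act 0 n5650 = n3043 := d11_3 D1374 D3036 D5650 (iv D3043) (iv D1379) (iv D567) D566
def n5651 : Q := act 3 n3036
theorem D5651 : act 3 n3036 = n5651 := rfl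
def n5652 : Q := act 2 n3037
theorem D5652 : act 2 n3037 = n5652 := rfl
def n5653 : Q := act 0 n3038
theorem D5653 : act 0 n3038 = n5653 := rfl
def n5654 : Q := act 1 n3038
theorem D5654 : act 1 n3038 = n5654 := rfl
def n5655 : Q := act 3 n3038
theorem D5655 : act 3 n3038 = n5655 := rfl
theorem F4702 : act 2 n5655 = n3039 := d7_1 D5655 (iv D3039) D3038
def n5656 : Q := act 4 n3038
theorem D5656 : act 4 n3038 = n5656 := rfl
def n5657 : Q := act 0 n3039
theorem D5657 : act 0 n3039 = n5657 := rfl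
theorem F4703 : act 3 n5657 = n3985 := d12_4 (iv D1375) D1376 D3039 D5657 (iv D3985) (iv D1929) F927
theorem F4704 : act 1 n3991 = n5657 := d5_3 F4703 F2978 D3991
def n5658 : Q := act 4 n3039
theorem D5658 : act 4 n3039 = n5658 := rfl
theorem F4705 : act 3 n5658 = n3211 := d9_1 D5658 (iv F3686) F3687 (iv D3037) (iv D1375) D1376 D3039
theorem F4706 : act 0 n4491 = n5658 := d16_12 F4705 (iv D3211) (iv F2196) F2135 F2189 (iv F768) F923 F769 (iv F824) F825 D2257 D4491
theorem F4707 : act 4 n5657 = n4491 := d3_0 F4706 (iv D5658) D5657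
theorem E638 : n4492 = n3991 := (c6_3 F4707 (iv D4491) D4492 F4704)
theorem F4708 : act 4 n3991 = n2257 := (sb E638 (iv D4492))
theorem E639 : n4014 = n3996 := (c9_2 F4708 (iv F3001) (iv D3996) (iv D1934) (iv D822) D821 D1932 D3991)
theorem F4709 : act 2 n3996 = n1945 := (sb E639 (iv D4014))
theorem F4710 : act 3 n3996 = n2257 := (sb E639 F3001)
def n5659 : Q := act 2 n3040
theorem D5659 : act 2 n3040 = n5659 := rfl
theorem F4711 : act 3 n5659 = n5329 := d7_2 F2129 D5659 (iv D5329)
def n5660 : Q := act 2 n3041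
theorem D5660 : act 2 n3041 = n5660 := rfl
def n5661 : Q := act 3 n3041
theorem D5661 : act 3 n3041 = n5661 := rfl
theorem F4712 : act 0 n5661 = n3983 := d2_1 D5661 (iv D3983) (iv F1224) (iv F1223) (iv D1377) D1378 D3041
def n5662 : Q := act 4 n3041
theorem D5662 : act 4 n3041 = n5662 := rfl
theorem F4713 : act 0 n5662 = n3042 := d3_1 D5662 (iv D3042) D3041
def n5663 : Q := act 2 n3042
theorem D5663 : act 2 n3042 = n5663 := rfl
def n5664 : Q := act 3 n3042
theorem D5664 : act 3 n3042 = n5664 := rfl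
theorem F4714 : act 0 n5664 = n5296 := d12_3 D1378 D3042 D5664 (iv D5296) (iv D2811) (iv F1223) (iv D1377)
def n5665 : Q := act 3 n3043
theorem D5665 : act 3 n3043 = n5665 := rfl
theorem F4715 : act 2 n5665 = n3044 := d7_1 D5665 (iv D3044) D3043
def n5666 : Q := act 0 n3044
theorem D5666 : act 0 n3044 = n5666 := rfl
def n5667 : Q := act 4 n3044
theorem D5667 : act 4 n3044 = n5667 := rfl
def n5668 : Q := act 4 n3045
theorem D5668 : act 4 n3045 = n5668 := rfl
theorem F4716 : act 1 n5668 = n3048 := d6_1 D5668 (iv D3048) D3045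
def n5669 : Q := act 3 n3046
theorem D5669 : act 3 n3046 = n5669 := rfl
theorem F4717 : act 1 n5669 = n3472 := d5_1 D5669 (iv D3472) (iv F2131)
theorem F4718 : act 2 n5669 = n3047 := d7_1 D5669 (iv D3047) D3046
def n5670 : Q := act 4 n3046
theorem D5670 : act 4 n3046 = n5670 := rfl
theorem F4719 : act 1 n5670 = n3473 := d6_1 D5670 (iv D3473) (iv F2131)
def n5671 : Q := act 4 n3047
theorem D5671 : act 4 n3047 = n5671 := rfl
theorem F4720 : act 0 n5671 = n3985 := d3_1 D5671 (iv D3985) (iv F2132)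
theorem F4721 : act 3 n5671 = n3054 := d12_2 D3047 D5671 (iv D3054) (iv D1383) (iv D569) D568 D1380
def n5672 : Q := act 2 n3048
theorem D5672 : act 2 n3048 = n5672 := rfl
def n5673 : Q := act 3 n3048
theorem D5673 : act 3 n3048 = n5673 := rfl
theorem F4722 : act 0 n5673 = n3987 := d2_1 D5673 (iv D3987) (iv F2126) (iv F3687) (iv D4695) F1518 (iv F2133)
def n5674 : Q := act 0 n3049
theorem D5674 : act 0 n3049 = n5674 := rfl
def n5675 : Q := act 1 n3049
theorem D5675 : act 1 n3049 = n5675 := rfl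
theorem F4723 : act 0 n5675 = n3687 := d16_6 D424 D1051 F573 (iv F772) D3049 D5675 (iv D3687) F1041 (iv D1076) (iv D434) F71 (iv F69)
def n5676 : Q := act 4 n3049
theorem D5676 : act 4 n3049 = n5676 := rfl
def n5677 : Q := act 1 n3050
theorem D5677 : act 1 n3050 = n5677 := rfl
theorem F4724 : act 0 n5677 = n4064 := d13_3 D1382 D3050 D5677 (iv D4064) (iv F2162) F2163 D5340 F4334 F2405 F2119 F770
theorem F4725 : act 4 n3665 = n5677 := d17_0 (iv D5677) (iv F4300) (iv D5298) F1882 (iv F1222) F705 F438 (iv D336) D338 D857 D2017 (iv F2709)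
theorem F4726 : act 3 n5677 = n3701 := d12_2 D3665 F4725 F2732 (iv F2788) (iv D3671) (iv D1754) D1752
theorem E640 : n3702 = n603 := (c10_3 F4726 F2732 D3702 (iv F811) (iv F2164) F2162 D4064 (iv F4724))
theorem E641 : n1771 = n1459 := (((D1459).symm.trans (sb E640 (iv D3702)))).symm
theorem E642 : n3701 = n3173 := (((D3173).symm.trans (sb E641 (iv F2732)))).symm
theorem E643 : n3174 = n754 := ((D3174).symm.trans (sb E641 F1048))
theorem E644 : n3671 = n3108 := ((((iv F2226)).symm.trans (sb E641 (iv F2788)))).symm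
theorem E645 : n3175 = n751 := ((D3175).symm.trans (sb E641 (iv D1771)))
theorem F4727 : act 3 n3173 = n5677 := (sb E642 (iv F4726))
theorem F4728 : act 4 n3173 = n1770 := (sb E642 (iv D3701))
theorem F4729 : act 1 n754 = n1459 := (sb E643 (iv D3174))
theorem E646 : n5545 = n1776 := (((D1776).symm.trans (sb E643 (iv F4568)))).symm
theorem F4730 : act 1 n3108 = n1757 := (sb E644 F2714)
theorem F4731 : act 4 n3108 = n1754 := (sb E644 (iv D3671))
theorem F4732 : act 4 n751 = n1459 := (sb E645 (iv D3175))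
theorem E647 : n3714 = n2956 := ((D3714).symm.trans (sb E646 (iv D5545)))
theorem F4733 : act 1 n2956 = n1776 := (sb E647 (iv D3714))
theorem F4734 : act 1 n3676 = n5527 := d5_3 F4558 F4733 (iv F2789)
theorem F4735 : act 1 n3716 = n5546 := d6_3 (iv D5546) F4733 D3716
theorem E648 : n3698 = n3161 := ((c8_6 F4732 (iv D1459) (iv D603) (iv F293) D1452 D3161 (iv D3698) F1047)).symm
theorem F4736 : act 1 n3161 = n1876 := (sb E648 F2730)
theorem F4737 : act 4 n3161 = n1769 := (sb E648 (iv D3698))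
theorem F4738 : act 2 n3183 = n3898 := d17_4 (iv D609) D606 D1468 D3183 (iv D3898) (iv D1875) (iv F1046) F1047 F4732 (iv D1459) F295 (iv F297)
theorem F4739 : act 4 n3705 = n4414 := d17_9 D929 (iv F808) D3161 F4737 F1047 F386 D753 D1772 D3705 (iv D4414) (iv D2183) (iv D928)
def n5678 : Q := act 3 n3050
theorem D5678 : act 3 n3050 = n5678 := rfl
theorem F4740 : act 1 n5678 = n3173 := d5_1 D5678 F4727 (iv D5677)
theorem F4741 : act 4 n3699 = n5678 := d6_0 F4740 F4728 D3699
def n5679 : Q := act 4 n3050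
theorem D5679 : act 4 n3050 = n5679 := rfl
theorem F4742 : act 0 n5679 = n3053 := d3_1 D5679 (iv D3053) D3050
theorem F4743 : act 1 n5679 = n3665 := d6_1 D5679 F4725 (iv D5677)
theorem F4744 : act 3 n3664 = n5679 := d5_0 F4743 (iv D3665) D3664
def n5680 : Q := act 0 n3051
theorem D5680 : act 0 n3051 = n5680 := rfl
theorem F4745 : act 1 n5680 = n4121 := d0_2 D3051 D5680 F3104 F3093 (iv F4724) (iv D5677) (iv D3050)
theorem F4746 : act 4 n5680 = n4119 := d3_2 F4684 D5680 (iv F4683)
theorem F4747 : act 3 n5680 = n4776 := d16_7 D1090 F596 (iv D571) (iv F279) D1382 D3051 D5680 (iv D4776) (iv D2482) (iv D1073) F204 (iv F208)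
def n5681 : Q := act 3 n3051
theorem D5681 : act 3 n3051 = n5681 := rfl
theorem F4748 : act 1 n5681 = n3052 := d5_1 D5681 (iv D3052) D3051
def n5682 : Q := act 0 n3052
theorem D5682 : act 0 n3052 = n5682 := rfl
def n5683 : Q := act 4 n3052
theorem D5683 : act 4 n3052 = n5683 := rfl
def n5684 : Q := act 3 n3053
theorem D5684 : act 3 n3053 = n5684 := rfl
def n5685 : Q := act 1 n3054
theorem D5685 : act 1 n3054 = n5685 := rfl
def n5686 : Q := act 2 n3054
theorem D5686 : act 2 n3054 = n5686 := rfl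
def n5687 : Q := act 4 n3054
theorem D5687 : act 4 n3054 = n5687 := rfl
theorem F4749 : act 0 n5687 = n3055 := d3_1 D5687 (iv D3055) D3054
def n5688 : Q := act 2 n3055
theorem D5688 : act 2 n3055 = n5688 := rfl
theorem F4750 : act 3 n5688 = n3212 := d7_2 (iv F2196) D5688 (iv D3212)
def n5689 : Q := act 1 n3056
theorem D5689 : act 1 n3056 = n5689 := rfl
theorem F4751 : act 2 n5689 = n5689 := d14_1 D5689 (iv D5689) (iv D3056) (iv D1385) (iv D572) (iv F275) F916 F275 D572 D1385 D3056
def n5690 : Q := act 2 n3056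
theorem D5690 : act 2 n3056 = n5690 := rfl
theorem F4752 : act 1 n5690 = n4370 := d15_9 D4374 F3307 F1341 (iv F1338) D4404 F3338 (iv D3057) D3056 D5690 (iv D4370) F1321 D2159
def n5691 : Q := act 3 n3056
theorem D5691 : act 3 n3056 = n5691 := rfl
theorem F4753 : act 0 n5691 = n4001 := d2_1 D5691 F2993 (iv F2308) (iv D3206) (iv D1491) (iv F774) D3056
def n5692 : Q := act 4 n3056
theorem D5692 : act 4 n3056 = n5692 := rfl
theorem F4754 : act 0 n5692 = n3058 := d3_1 D5692 (iv D3058) D3056
def n5693 : Q := act 0 n3057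
theorem D5693 : act 0 n3057 = n5693 := rfl
def n5694 : Q := act 4 n3057
theorem D5694 : act 4 n3057 = n5694 := rfl
def n5695 : Q := act 2 n3058
theorem D5695 : act 2 n3058 = n5695 := rfl
theorem F4755 : act 3 n5695 = n3070 := d7_2 F2138 D5695 (iv D3070)
def n5696 : Q := act 1 n3059
theorem D5696 : act 1 n3059 = n5696 := rfl
theorem F4756 : act 0 n5696 = n3061 := d0_1 D5696 (iv D3061) (iv D1389) (iv D574) D573 D1387 D3059
def n5697 : Q := act 3 n3059
theorem D5697 : act 3 n3059 = n5697 := rfl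
theorem F4757 : act 2 n5697 = n4138 := d7_1 D5697 (iv D4138) (iv F2139)
def n5698 : Q := act 0 n3060
theorem D5698 : act 0 n3060 = n5698 := rfl
theorem F4758 : act 2 n5698 = n4139 := d1_2 D3060 D5698 (iv D4139) (iv D2026) D2025 (iv F2139) (iv D3059)
theorem F4759 : act 1 n5698 = n4186 := d15_5 D878 D2062 D4214 F3173 D5698 (iv D4186) (iv D2048) (iv D872) (iv D347) (iv D130) D131 D350
def n5699 : Q := act 4 n3060
theorem D5699 : act 4 n3060 = n5699 := rfl
def n5700 : Q := act 2 n3061
theorem D5700 : act 2 n3061 = n5700 := rfl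
theorem F4760 : act 1 n5700 = n3063 := d14_2 D3061 D5700 F2140 (iv D1941) (iv D825) (iv F273) F272 F94 D221 D574 D1389
theorem F4761 : act 0 n5700 = n4178 := d15_1 D5700 F3137 (iv D3074) (iv D1396) (iv D578) (iv F260) (iv F562) F563 D1387 D3059 D5696 F4756
theorem F4762 : act 4 n5700 = n5644 := d17_3 (iv D3064) D3061 D5700 (iv D5644) F2119 F770 F279 (iv F262) D1311 F742 (iv F777) (iv F2141)
theorem F4763 : act 3 n3061 = n5700 := d16_0 F4761 (iv F3913) (iv D4931) F3812 (iv F3133) (iv F3866) (iv D4143) (iv F3112) (iv D4137) (iv F2139) D5696 F4756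
def n5701 : Q := act 4 n3061
theorem D5701 : act 4 n3061 = n5701 := rfl
theorem F4764 : act 1 n5701 = n3064 := d6_1 D5701 (iv D3064) D3061
theorem F4765 : act 2 n5701 = n5643 := d8_1 D5701 (iv D5643) (iv D3031) D3032 D5644 (iv F4762) (iv D5700)
def n5702 : Q := act 0 n3062
theorem D5702 : act 0 n3062 = n5702 := rfl
theorem F4766 : act 1 n5702 = n3798 := d13_2 D3062 D5702 (iv F4517) (iv D5486) F1969 F732 (iv F562) F563 (iv D573) D574 D1389
def n5703 : Q := act 1 n3062
theorem D5703 : act 1 n3062 = n5703 := rfl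
theorem F4767 : act 0 n5703 = n4146 := d0_1 D5703 (iv D4146) D4145 F4518 F4517 (iv F4766) (iv D5702)
theorem F4768 : act 2 n5703 = n4217 := d15_6 (iv D1828) (iv F1075) D3798 (iv F4766) (iv D5702) D5703 (iv D4217) D4218 (iv F4669) F4671 (iv D5493) F1974
theorem F4769 : act 3 n4217 = n5703 := d16_7 (iv F3867) (iv D4210) (iv D2060) (iv D877) D878 D2063 D4217 F4767 (iv D4146) (iv D2029) D2028 (iv F3112)
def n5704 : Q := act 3 n3062
theorem D5704 : act 3 n3062 = n5704 := rfl
theorem F4770 : act 1 n5704 = n4217 := d5_1 D5704 F4769 (iv D5703)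
theorem F4771 : act 2 n5704 = n3063 := d7_1 D5704 (iv D3063) D3062
def n5705 : Q := act 4 n3062
theorem D5705 : act 4 n3062 = n5705 := rfl
def n5706 : Q := act 4 n3063
theorem D5706 : act 4 n3063 = n5706 := rfl
theorem F4772 : act 0 n5706 = n4008 := d3_1 D5706 (iv D4008) (iv F2140)
theorem F4773 : act 1 n5706 = n5644 := d6_1 D5706 (iv F4762) F4760
theorem F4774 : act 3 n5706 = n3207 := d12_2 D3063 D5706 F2309 (iv F2144) (iv D3069) (iv D1391) D1389
theorem F4775 : act 2 n5360 = n4008 := d13_0 (iv F4772) F4773 F4692 (iv D5338) F1903 F714 F253 D522 D1268 D2848 D5360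
theorem F4776 : act 0 n3210 = n5362 := d10_7 (iv D5362) D5360 F4775 (iv F4772) F4774 F2309 D3210
def n5707 : Q := act 2 n3064
theorem D5707 : act 2 n3064 = n5707 := rfl
def n5708 : Q := act 3 n3064
theorem D5708 : act 3 n3064 = n5708 := rfl
theorem F4777 : act 4 n5708 = n3206 := d9_2 D3064 D5708 (iv D3206) D3207 (iv F4774) (iv D5706) (iv D3063)
theorem F4778 : act 0 n5708 = n4487 := d16_8 D2959 (iv F4552) (iv D5518) F1986 F742 (iv F777) (iv F2141) D5708 F3454 D4488 F3456 (iv D2957)
def n5709 : Q := act 2 n3065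
theorem D5709 : act 2 n3065 = n5709 := rfl
theorem F4779 : act 1 n5709 = n3097 := d14_2 (iv F3158) D5709 F3114 (iv D4140) (iv D2026) (iv D862) (iv D342) D343 D865 (iv F1209) (iv F2217)
def n5710 : Q := act 4 n3065
theorem D5710 : act 4 n3065 = n5710 := rfl
theorem F4780 : act 0 n5710 = n3067 := d3_1 D5710 (iv D3067) D3065
theorem F4781 : act 2 n5710 = n5301 := d17_10 F4451 F3275 F1298 (iv F2067) D2026 D4140 (iv F3114) (iv F4779) (iv D5709) D5710 (iv D5301) (iv F4207)
def n5711 : Q := act 0 n3066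
theorem D5711 : act 0 n3066 = n5711 := rfl
def n5712 : Q := act 4 n3066
theorem D5712 : act 4 n3066 = n5712 := rfl
def n5713 : Q := act 2 n3067
theorem D5713 : act 2 n3067 = n5713 := rfl
def n5714 : Q := act 3 n3067
theorem D5714 : act 3 n3067 = n5714 := rfl
def n5715 : Q := act 1 n3068
theorem D5715 : act 1 n3068 = n5715 := rfl
theorem F4782 : act 2 n5715 = n5715 := d14_1 D5715 (iv D5715) (iv D3068) F776 F281 (iv F277) F921 F277 (iv F281) (iv F776) D3068
def n5716 : Q := act 2 n3068
theorem D5716 : act 2 n3068 = n5716 := rfl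
def n5717 : Q := act 3 n3068
theorem D5717 : act 3 n3068 = n5717 := rfl
theorem F4783 : act 0 n5717 = n4007 := d2_1 D5717 (iv D4007) (iv F2140) (iv D3063) (iv D1389) D1391 D3068
def n5718 : Q := act 4 n3068
theorem D5718 : act 4 n3068 = n5718 := rfl
theorem F4784 : act 0 n5718 = n3069 := d3_1 D5718 (iv D3069) D3068
def n5719 : Q := act 2 n3069
theorem D5719 : act 2 n3069 = n5719 := rfl
theorem F4785 : act 3 n5719 = n3210 := d7_2 (iv F2144) D5719 (iv D3210)
def n5720 : Q := act 0 n3070
theorem D5720 : act 0 n3070 = n5720 := rfl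
def n5721 : Q := act 1 n3070
theorem D5721 : act 1 n3070 = n5721 := rfl
def n5722 : Q := act 4 n3070
theorem D5722 : act 4 n3070 = n5722 := rfl
def n5723 : Q := act 3 n3074
theorem D5723 : act 3 n3074 = n5723 := rfl
theorem F4786 : act 1 n5723 = n3076 := d5_1 D5723 (iv D3076) D3074
theorem F4787 : act 2 n5723 = n4931 := d7_1 D5723 F3913 F3137
def n5724 : Q := act 4 n3074
theorem D5724 : act 4 n3074 = n5724 := rfl
theorem F4788 : act 0 n5724 = n3088 := d3_1 D5724 (iv D3088) (iv F2147)
theorem F4789 : act 1 n5724 = n3077 := d6_1 D5724 (iv D3077) D3074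
theorem F4790 : act 2 n5724 = n3744 := d8_1 D5724 (iv D3744) (iv F1053) D2833 D5338 F4331 F3137
def n5725 : Q := act 4 n3075
theorem D5725 : act 4 n3075 = n5725 := rfl
theorem F4791 : act 1 n5725 = n3631 := d6_1 D5725 (iv F3131) F3138
def n5726 : Q := act 0 n3076
theorem D5726 : act 0 n3076 = n5726 := rfl
theorem F4792 : act 1 n5726 = n4067 := d13_2 F4596 D5726 (iv F3576) (iv D4605) F1457 F538 F187 D408 D1018 D2375 D4631
theorem F4793 : act 3 n4065 = n5726 := d5_0 F4792 (iv D4067) D4065
def n5727 : Q := act 4 n3076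
theorem D5727 : act 4 n3076 = n5727 := rfl
theorem F4794 : act 3 n5727 = n3179 := d12_2 D3076 D5727 F2298 F2151 (iv D3083) (iv D1398) D1396
def n5728 : Q := act 2 n3077
theorem D5728 : act 2 n3077 = n5728 := rfl
def n5729 : Q := act 3 n3077
theorem D5729 : act 3 n3077 = n5729 := rfl
theorem F4795 : act 4 n5729 = n3178 := d9_2 D3077 D5729 (iv D3178) D3179 (iv F4794) (iv D5727) (iv D3076)
def n5730 : Q := act 1 n3078
theorem D5730 : act 1 n3078 = n5730 := rfl
theorem F4796 : act 2 n5730 = n4185 := d14_1 D5730 (iv D4185) (iv D2048) D2049 (iv F2835) (iv D3807) (iv F1974) D5493 F4521 (iv D3079) D3078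
theorem F4797 : act 0 n5730 = n4057 := d15_12 (iv D4057) D4056 (iv F4661) F4660 (iv D4208) (iv F2109) D5634 F4671 F4521 (iv D3079) D3078 D5730
def n5731 : Q := act 2 n3078
theorem D5731 : act 2 n3078 = n5731 := rfl
theorem F4798 : act 1 n5731 = n4139 := d4_1 D5731 (iv F4758) F4759 (iv D4186) D4185 (iv F4796) (iv D5730)
def n5732 : Q := act 3 n3078
theorem D5732 : act 3 n3078 = n5732 := rfl
def n5733 : Q := act 4 n3078
theorem D5733 : act 4 n3078 = n5733 := rfl
theorem F4799 : act 0 n5733 = n3081 := d3_1 D5733 (iv D3081) D3078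
theorem F4800 : act 2 n5733 = n3310 := d15_8 F2512 (iv D1752) D1753 F1032 D1850 D3850 F2880 (iv F4799) (iv D3310) (iv D1558) D1559 D3313
def n5734 : Q := act 0 n3079
theorem D5734 : act 0 n3079 = n5734 := rfl
theorem F4801 : act 2 n5734 = n4153 := d1_2 F4521 D5734 F3157 (iv D3024) D3023 D5634 F4671
theorem F4802 : act 1 n5734 = n4235 := d14_4 D578 D1397 D3079 D5734 (iv D4235) (iv D2070) (iv D881) (iv F284) (iv D582) (iv D224) D223
def n5735 : Q := act 3 n3079
theorem D5735 : act 3 n3079 = n5735 := rfl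
theorem F4803 : act 1 n5735 = n3080 := d5_1 D5735 (iv D3080) D3079
def n5736 : Q := act 4 n3079
theorem D5736 : act 4 n3079 = n5736 := rfl
theorem F4804 : act 1 n5736 = n3081 := d6_1 D5736 (iv D3081) D3079
def n5737 : Q := act 0 n3080
theorem D5737 : act 0 n3080 = n5737 := rfl
def n5738 : Q := act 4 n3080
theorem D5738 : act 4 n3080 = n5738 := rfl
def n5739 : Q := act 3 n3081
theorem D5739 : act 3 n3081 = n5739 := rfl
def n5740 : Q := act 1 n3082
theorem D5740 : act 1 n3082 = n5740 := rfl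
def n5741 : Q := act 2 n3082
theorem D5741 : act 2 n3082 = n5741 := rfl
theorem F4805 : act 0 n5741 = n5640 := d10_3 D1398 D3082 D5741 F4685 F4594 (iv D3075) (iv D1396)
def n5742 : Q := act 3 n3082
theorem D5742 : act 3 n3082 = n5742 := rfl
theorem F4806 : act 0 n5742 = n4065 := d2_1 D5742 F4793 (iv D5726) (iv D3076) (iv D1396) D1398 D3082
def n5743 : Q := act 4 n3082
theorem D5743 : act 4 n3082 = n5743 := rfl
theorem F4807 : act 0 n5743 = n3083 := d3_1 D5743 (iv D3083) D3082
def n5744 : Q := act 2 n3083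
theorem D5744 : act 2 n3083 = n5744 := rfl
theorem F4808 : act 3 n5744 = n3185 := d7_2 F2151 D5744 (iv D3185)
def n5745 : Q := act 0 n3084
theorem D5745 : act 0 n3084 = n5745 := rfl
theorem F4809 : act 1 n5745 = n5138 := d13_2 D3084 D5745 F4129 (iv D4016) (iv F1791) (iv F4091) F4090 (iv F2159) (iv F4788) F4789 F2148
theorem F4810 : act 3 n5136 = n5745 := d5_0 F4809 (iv D5138) D5136
def n5746 : Q := act 1 n3084
theorem D5746 : act 1 n3084 = n5746 := rfl
def n5747 : Q := act 3 n3084
theorem D5747 : act 3 n3084 = n5747 := rfl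
theorem F4811 : act 2 n5747 = n3085 := d7_1 D5747 (iv D3085) D3084
def n5748 : Q := act 4 n3084
theorem D5748 : act 4 n3084 = n5748 := rfl
def n5749 : Q := act 0 n3085
theorem D5749 : act 0 n3085 = n5749 := rfl
theorem F4812 : act 4 n5749 = n3184 := d3_2 (iv F2153) D5749 (iv D3184)
def n5750 : Q := act 0 n3087
theorem D5750 : act 0 n3087 = n5750 := rfl
theorem F4813 : act 1 n5750 = n4056 := d0_2 (iv F2155) D5750 (iv D4056) (iv D1980) (iv D842) D843 (iv F781)
theorem F4814 : act 2 n5750 = n5696 := d1_2 D3087 D5750 F4756 D5700 F4761 F3137 F2147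
theorem F4815 : act 4 n5750 = n5340 := d3_2 (iv F2156) D5750 (iv D5340)
def n5751 : Q := act 3 n3089
theorem D5751 : act 3 n3089 = n5751 := rfl
theorem F4816 : act 1 n5751 = n3378 := d5_1 D5751 (iv D3378) (iv F2971)
theorem F4817 : act 2 n5751 = n4273 := d7_1 D5751 F3220 F3113
theorem F4818 : act 0 n5751 = n3105 := d10_1 D5751 (iv D3105) (iv D1409) (iv D583) D581 D1403 D3089
def n5752 : Q := act 4 n3089
theorem D5752 : act 4 n3089 = n5752 := rfl
theorem F4819 : act 0 n5752 = n3092 := d3_1 D5752 (iv D3092) D3089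
theorem F4820 : act 1 n5752 = n3379 := d6_1 D5752 (iv D3379) (iv F2971)
theorem F4821 : act 2 n5752 = n3316 := d17_10 (iv D3312) D3310 (iv F4800) (iv D5733) D5731 F4798 (iv D4139) D4140 F3113 D5752 F2415 (iv F2412)
theorem F4822 : act 3 n3139 = n5752 := d7_0 F4821 F3083 (iv F2249)
theorem E649 : n3383 = n3379 := ((c5_2 F4822 F4820 (iv D3383) (iv F2248))).symm
theorem F4823 : act 3 n3379 = n1593 := (sb E649 (iv D3383))
theorem E650 : n5173 = n5168 := (c12_5 (iv D3378) D3379 F4823 (iv F1809) D5173 (iv D5168) D5167 F4158)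
theorem F4824 : act 3 n5168 = n2732 := (sb E650 (iv D5173))
def n5753 : Q := act 0 n3090
theorem D5753 : act 0 n3090 = n5753 := rfl
def n5754 : Q := act 2 n3090
theorem D5754 : act 2 n3090 = n5754 := rfl
theorem F4825 : act 1 n5754 = n3091 := d4_1 D5754 F2161 (iv F2155) (iv D3087) (iv D1402) D1403 D3090
theorem F4826 : act 2 n4146 = n5753 := d15_0 (iv D5753) D5754 F4825 (iv F2970) (iv D3807) (iv D1828) (iv F1075) D3798 (iv F4766) (iv D5702) D5703 F4767
theorem F4827 : act 0 n5754 = n4218 := d15_7 (iv D3374) F890 D1590 (iv F2971) (iv D3089) D3090 D5754 (iv D4218) (iv D2063) D2062 D4213 F3170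
theorem F4828 : act 4 n5754 = n5346 := d17_9 (iv D2765) F682 F323 D664 D1590 (iv F2971) (iv D3089) D3090 D5754 (iv D5346) F1911 (iv F1835)
theorem F4829 : act 3 n3090 = n5754 := d10_0 F4827 (iv D4218) D4217 F4769 F4767 F4826 (iv D5753)
def n5755 : Q := act 4 n3090
theorem D5755 : act 4 n3090 = n5755 := rfl
theorem F4830 : act 1 n5755 = n3092 := d6_1 D5755 (iv D3092) D3090
theorem F4831 : act 2 n5755 = n5345 := d8_1 D5755 (iv D5345) (iv D2838) D2839 D5346 (iv F4828) (iv D5754)
def n5756 : Q := act 4 n3091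
theorem D5756 : act 4 n3091 = n5756 := rfl
theorem F4832 : act 1 n5756 = n5346 := d6_1 D5756 (iv F4828) F4825
def n5757 : Q := act 2 n3092
theorem D5757 : act 2 n3092 = n5757 := rfl
theorem F4833 : act 0 n5757 = n3163 := d10_3 F4822 F4819 D5757 (iv D3163) (iv F2252) (iv D3143) (iv F2247)
theorem E651 : n3165 = n582 := (c11_6 D1403 D3092 D5757 F4833 F2287 D3165 (iv D582) D581)
theorem E652 : n2193 = n351 := (((F284).symm.trans (sb E651 F2288))).symm
theorem E653 : n1454 = n1408 := (((D1408).symm.trans (sb E651 (iv D3165)))).symm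
theorem E654 : n4432 = n881 := (((D881).symm.trans (sb E652 (iv F3355)))).symm
theorem E656 : n4427 = n882 := (((D882).symm.trans (sb E652 (iv F3354)))).symm
theorem E657 : n931 = n883 := (((D883).symm.trans (sb E652 (iv D2193)))).symm
theorem E659 : n3163 = n3102 := (((D3102).symm.trans (sb E653 (iv F2287)))).symm
theorem E660 : n3103 = n601 := ((D3103).symm.trans (sb E653 (iv D1454)))
theorem E661 : n2192 = n2073 := (((D2073).symm.trans (sb E654 (iv D4432)))).symm
theorem E662 : n2188 = n2075 := (((D2075).symm.trans (sb E656 (iv D4427)))).symm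
theorem E663 : n2190 = n2076 := (((D2076).symm.trans (sb E657 (iv F1345)))).symm
theorem E664 : n2077 = n370 := ((D2077).symm.trans (sb E657 (iv D931)))
theorem F4834 : act 0 n3102 = n5757 := (sb E659 (iv F4833))
theorem E665 : n1878 = n1852 := (((F2809).symm.trans (sb E659 F2286))).symm
theorem F4835 : act 3 n3102 = n1453 := (sb E659 (iv D3163))
theorem F4836 : act 3 n601 = n1408 := (sb E660 (iv D3103))
theorem E668 : n4420 = n4242 := (((D4242).symm.trans (sb E661 (iv F3350)))).symm
theorem E669 : n4410 = n4246 := ((((iv F3203)).symm.trans (sb E662 (iv F3344)))).symm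
theorem E670 : n3162 = n3101 := ((((iv F2219)).symm.trans (sb E662 (iv F2285)))).symm
theorem E671 : n4425 = n4247 := (((D4247).symm.trans (sb E662 (iv F3352)))).symm
theorem E672 : n4248 = n929 := ((D4248).symm.trans (sb E662 (iv D2188)))
theorem E674 : n2951 = n2939 := ((((iv F4437)).symm.trans (sb E663 (iv F2003)))).symm
theorem E675 : n4250 = n930 := ((D4250).symm.trans (sb E663 (iv D2190)))
theorem F4837 : act 3 n370 = n883 := (sb E664 (iv D2077))
theorem E680 : n3904 = n3856 := (((D3856).symm.trans (sb E665 (iv F2928)))).symm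
theorem E681 : n3857 = n798 := ((D3857).symm.trans (sb E665 (iv D1878)))
theorem F4838 : act 4 n4242 = n2185 := (sb E668 (iv D4420))
theorem F4839 : act 3 n4246 = n2180 := (sb E669 (iv D4410))
theorem F4840 : act 3 n3101 = n1452 := (sb E670 (iv D3162))
theorem F4841 : act 3 n4247 = n2187 := (sb E671 (iv D4425))
theorem F4842 : act 3 n929 = n2075 := (sb E672 (iv D4248))
theorem E684 : n5537 = n5525 := (((D5525).symm.trans (sb E674 (iv F4562)))).symm
theorem E685 : n5526 = n1323 := ((D5526).symm.trans (sb E674 (iv D2951)))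
theorem F4843 : act 3 n930 = n2076 := (sb E675 (iv D4250))
theorem F4844 : act 3 n3856 = n1877 := (sb E680 (iv D3904))
theorem F4845 : act 3 n798 = n1852 := (sb E681 (iv D3857))
theorem F4846 : act 3 n5525 = n2950 := (sb E684 (iv D5537))
theorem F4847 : act 3 n1323 = n2939 := (sb E685 (iv D5526))
theorem E687 : n5536 = n5524 := ((c9_5 D1323 F4847 (iv D2939) D2938 D5524 (iv D5536) (iv D2949) (iv D1322))).symm
theorem F4848 : act 3 n5524 = n2949 := (sb E687 (iv D5536))
theorem E688 : n3903 = n3855 := ((c9_5 D798 F4845 (iv D1852) D1851 D3855 (iv D3903) (iv D1876) (iv D797))).symm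
theorem F4849 : act 3 n3855 = n1876 := (sb E688 (iv D3903))
theorem E689 : n4367 = n4216 := ((c10_4 F4843 (iv F3181) (iv D4223) (iv F3176) (iv D4367) F1316 D2161 F1324)).symm
theorem F4850 : act 3 n4216 = n2154 := (sb E689 (iv D4367))
theorem E690 : n4444 = n4224 := (c12_6 F4850 (iv D2154) D2153 F1315 D2199 D4444 (iv D4224) (iv F3176))
theorem F4851 : act 4 n4224 = n2199 := (sb E690 (iv D4444))
theorem E691 : n4382 = n4259 := (c12_6 (iv D4215) D4216 F4850 F1316 D2162 D4382 (iv D4259) (iv F3175))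
theorem F4852 : act 4 n4259 = n2162 := (sb E691 (iv D4382))
theorem E692 : n4378 = n4260 := (c9_6 F4852 (iv D2162) (iv D919) D918 D2160 D4378 (iv D4260) D4259)
theorem F4853 : act 3 n4260 = n2160 := (sb E692 (iv D4378))
theorem E693 : n4445 = n4222 := (c9_4 F4851 (iv D2199) D2200 D4445 (iv D4222) (iv D2064) D2065 D4224)
theorem F4854 : act 3 n4222 = n2200 := (sb E693 (iv D4445))
theorem E694 : n4422 = n4240 := ((c12_6 F4842 (iv D2075) (iv D882) D881 D2072 D4240 (iv D4422) F1344)).symm
theorem F4855 : act 3 n4240 = n2186 := (sb E694 (iv D4422))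
theorem E695 : n4412 = n4245 := (c9_7 D4246 F4839 (iv D2180) (iv D926) D927 D2182 D4412 (iv D4245))
theorem F4856 : act 4 n4245 = n2182 := (sb E695 (iv D4412))
theorem F4857 : act 4 n5757 = n3667 := d3_2 (iv F2810) F4834 (iv D3667)
def n5758 : Q := act 3 n3092
theorem D5758 : act 3 n3092 = n5758 := rfl
theorem F4858 : act 4 n5758 = n3170 := d12_1 D5758 (iv D3170) (iv F2246) (iv D3138) D3139 F4822 F4819
theorem F4859 : act 3 n5756 = n3171 := d9_5 (iv F4858) (iv D5758) (iv D3092) D3091 D5756 (iv D3171) D3170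
def n5759 : Q := act 2 n3093
theorem D5759 : act 2 n3093 = n5759 := rfl
theorem F4860 : act 1 n5759 = n5354 := d4_1 D5759 (iv D5354) (iv D2844) (iv D1266) (iv F714) D2835 (iv F2163)
theorem F4861 : act 3 n5759 = n3172 := d7_2 (iv F2164) D5759 (iv D3172)
def n5760 : Q := act 0 n3094
theorem D5760 : act 0 n3094 = n5760 := rfl
theorem F4862 : act 3 n5760 = n3148 := d10_4 F1177 (iv F782) D3094 D5760 (iv D3148) (iv D1445) F291
theorem F4863 : act 1 n3414 = n5760 := d5_3 F4862 (iv F2267) D3414
theorem F4864 : act 2 n4322 = n5760 := d7_3 F4862 F2262 D4322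
theorem F4865 : act 4 n4140 = n4322 := d11_1 (iv F3113) F4864 (iv D5760) (iv D3094) (iv D1405) D1403 D3089
theorem F4866 : act 4 n3314 = n5760 := d8_0 (iv F4864) (iv F4865) F3113 D5752 F4821 (iv D3316) D3314
theorem F4867 : act 4 n4331 = n4139 := d17_0 (iv F4798) (iv D5731) D5733 F4800 (iv D3310) (iv D1558) D1559 D3314 F4866 (iv F4864) F3258 D4331
theorem E696 : n4141 = n2127 := (c3_3 F4867 (iv D4139) D4141 D4331)
theorem E697 : n4332 = n2026 := ((D4332).symm.trans (sb E696 (iv D4141)))
theorem F4868 : act 4 n2026 = n2127 := (sb E697 (iv D4332))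
theorem E698 : n4328 = n4274 := (c9_6 F4868 (iv D2127) (iv D904) D903 D2125 D4328 (iv D4274) F1262)
theorem F4869 : act 3 n4274 = n2125 := (sb E698 (iv D4328))
theorem E699 : n3414 = n3393 := (c6_2 F4866 (iv F4863) (iv D3393) (iv F2413))
theorem F4870 : act 1 n3393 = n5760 := (sb E699 F4863)
theorem F4871 : act 3 n3393 = n1610 := (sb E699 (iv D3414))
def n5761 : Q := act 1 n3094
theorem D5761 : act 1 n3094 = n5761 := rfl
theorem F4872 : act 2 n5761 = n5349 := d4_2 D3094 D5761 (iv D5349) (iv D2842) (iv F1905) (iv F2159) F2158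
theorem F4873 : act 3 n5430 = n5761 := d7_0 F4872 F4349 D5430
def n5762 : Q := act 3 n3094
theorem D5762 : act 3 n3094 = n5762 := rfl
theorem F4874 : act 1 n5762 = n5430 := d5_1 D5762 F4873 (iv D5761)
theorem F4875 : act 2 n5762 = n3095 := d7_1 D5762 (iv D3095) D3094
def n5763 : Q := act 4 n3094
theorem D5763 : act 4 n3094 = n5763 := rfl
theorem F4876 : act 0 n5763 = n3314 := d3_1 D5763 F4866 (iv D5760)
theorem F4877 : act 2 n5763 = n3667 := d8_1 D5763 (iv F4857) (iv D5757) (iv D3092) (iv D1403) D1405 D3094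
def n5764 : Q := act 2 n3096
theorem D5764 : act 2 n3096 = n5764 := rfl
theorem F4878 : act 1 n5764 = n4189 := d4_1 D5764 F3143 (iv F3158) D5709 F4779 (iv D3097) D3096
theorem F4879 : act 3 n5764 = n5709 := d7_2 (iv F3159) D5764 (iv D5709)
theorem F4880 : act 4 n5764 = n5361 := d11_1 D5764 (iv D5361) D5360 F4775 (iv D4008) D4006 F3160
def n5765 : Q := act 4 n3096
theorem D5765 : act 4 n3096 = n5765 := rfl
theorem F4881 : act 1 n5765 = n3099 := d6_1 D5765 (iv D3099) D3096
def n5766 : Q := act 4 n3097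
theorem D5766 : act 4 n3097 = n5766 := rfl
theorem F4882 : act 0 n5766 = n4322 := d3_1 D5766 (iv F4865) (iv F3114)
theorem F4883 : act 2 n5766 = n3109 := d11_2 D3097 D5766 (iv D3109) (iv D1411) (iv D584) D582 D1406
def n5767 : Q := act 4 n3098
theorem D5767 : act 4 n3098 = n5767 := rfl
theorem F4884 : act 0 n5767 = n4063 := d3_1 D5767 (iv D4063) (iv F2217)
theorem F4885 : act 1 n5767 = n5710 := d6_1 D5767 (iv D5710) F3158
theorem F4886 : act 3 n5767 = n3160 := d12_2 D3098 D5767 F2284 (iv F4840) (iv D3101) (iv D1407) D1406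
def n5768 : Q := act 2 n3099
theorem D5768 : act 2 n3099 = n5768 := rfl
theorem F4887 : act 0 n5768 = n3316 := d1_1 D5768 (iv F4821) F4819 D5757 (iv F4834) (iv D3102) (iv F2218)
theorem F4888 : act 4 n5768 = n3313 := d8_2 D3099 D5768 F2512 (iv F2786) (iv F4883) (iv D5766) (iv D3097)
theorem F4889 : act 1 n5768 = n5659 := d17_1 (iv F4888) (iv D5659) (iv D3040) (iv F1882) (iv D2812) F704 F315 F108 D251 D649 D1559 D3313
def n5769 : Q := act 3 n3099
theorem D5769 : act 3 n3099 = n5769 := rfl
theorem F4890 : act 4 n5769 = n3159 := d9_2 D3099 D5769 (iv D3159) D3160 (iv F4886) (iv D5767) (iv D3098)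
theorem F4891 : act 0 n4500 = n5769 := d3_3 F4890 F2283 D4500
def n5770 : Q := act 1 n3100
theorem D5770 : act 1 n3100 = n5770 := rfl
def n5771 : Q := act 2 n3100
theorem D5771 : act 2 n3100 = n5771 := rfl
theorem F4892 : act 0 n5771 = n4273 := d1_1 D5771 (iv F4817) F4818 (iv D3105) (iv D1409) (iv F784) D3100
def n5772 : Q := act 3 n3100
theorem D5772 : act 3 n3100 = n5772 := rfl
theorem F4893 : act 0 n5772 = n4062 := d2_1 D5772 (iv D4062) (iv F2217) (iv D3098) (iv D1406) D1407 D3100
theorem F4894 : act 4 n5772 = n3156 := d12_1 D5772 (iv D3156) F807 F4836 (iv D1408) D1407 D3100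
def n5773 : Q := act 4 n3100
theorem D5773 : act 4 n3100 = n5773 := rfl
theorem F4895 : act 0 n5773 = n3101 := d3_1 D5773 (iv D3101) D3100
theorem F4896 : act 3 n5773 = n3154 := d9_1 D5773 (iv D3154) (iv D1449) D1450 D3156 (iv F4894) (iv D5772)
def n5774 : Q := act 2 n3101
theorem D5774 : act 2 n3101 = n5774 := rfl
theorem F4897 : act 3 n5774 = n3161 := d7_2 (iv F4840) D5774 (iv D3161)
theorem F4898 : act 4 n5774 = n3668 := d8_2 D3101 D5774 F2712 (iv F4731) (iv D3108) (iv D1410) (iv F784)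
theorem F4899 : act 1 n3855 = n5774 := d6_3 F4898 F2711 D3855
def n5775 : Q := act 0 n3104
theorem D5775 : act 0 n3104 = n5775 := rfl
theorem F4900 : act 1 n5775 = n3111 := d0_2 D3104 D5775 (iv D3111) (iv D1413) (iv D585) (iv F285) D1409
def n5776 : Q := act 1 n3105
theorem D5776 : act 1 n3105 = n5776 := rfl
theorem F4901 : act 2 n5776 = n5776 := d4_2 D3105 D5776 (iv D5776) (iv D3105) D3104 F2221 (iv D3104)
def n5777 : Q := act 3 n3105
theorem D5777 : act 3 n3105 = n5777 := rfl
theorem F4902 : act 2 n5777 = n3106 := d7_1 D5777 (iv D3106) D3105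
theorem F4903 : act 4 n5777 = n3144 := d12_1 D5777 (iv D3144) (iv F2247) F4822 (iv D5752) D5751 F4818
def n5778 : Q := act 4 n3105
theorem D5778 : act 4 n3105 = n5778 := rfl
theorem F4904 : act 3 n5778 = n3142 := d9_1 D5778 (iv D3142) (iv D1441) D1442 D3144 (iv F4903) (iv D5777)
def n5779 : Q := act 2 n3107
theorem D5779 : act 2 n3107 = n5779 := rfl
theorem F4905 : act 3 n5779 = n3147 := d7_2 (iv F2225) D5779 (iv D3147)
def n5780 : Q := act 0 n3108
theorem D5780 : act 0 n3108 = n5780 := rfl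
theorem F4906 : act 4 n5780 = n3670 := d3_2 (iv F4731) D5780 (iv D3670)
theorem F4907 : act 3 n5780 = n3694 := d12_4 D751 F4732 (iv F2226) D5780 (iv D3694) (iv D1767) (iv D749)
def n5781 : Q := act 1 n3109
theorem D5781 : act 1 n3109 = n5781 := rfl
theorem F4908 : act 4 n5781 = n3664 := d6_2 (iv F2786) D5781 (iv D3664)
theorem F4909 : act 0 n5781 = n3986 := d13_3 D1411 D3109 D5781 (iv D3986) (iv F2126) (iv F4691) F4690 (iv F4790) F4788 F2158 F782
theorem F4910 : act 2 n5781 = n5294 := d14_1 D5781 F4295 F2766 F1067 D1807 D3771 F2781 F2791 F1011 (iv F2782) D3109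
def n5782 : Q := act 3 n3109
theorem D5782 : act 3 n3109 = n5782 := rfl
theorem F4911 : act 4 n5782 = n3700 := d9_2 (iv F2786) D5782 (iv D3700) (iv F4728) F4727 (iv F4725) (iv D3665)
theorem F4912 : act 0 n5782 = n4501 := d10_1 D5782 (iv D4501) (iv F2216) (iv D3095) F782 D1411 D3109
def n5783 : Q := act 2 n3111
theorem D5783 : act 2 n3111 = n5783 := rfl
theorem F4913 : act 0 n5783 = n4644 := d13_1 D5783 (iv D4644) (iv D2382) F545 F189 F188 F76 (iv F97) D585 D1413 D3111
def n5784 : Q := act 3 n3111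
theorem D5784 : act 3 n3111 = n5784 := rfl
theorem F4914 : act 0 n5784 = n4058 := d2_1 D5784 (iv D4058) D4056 (iv F3906) (iv D4919) F1682 D3111
theorem F4915 : act 4 n5784 = n3120 := d12_1 D5784 (iv D3120) F792 D1433 (iv F1683) F1682 D3111
def n5785 : Q := act 4 n3111
theorem D5785 : act 4 n3111 = n5785 := rfl
theorem F4916 : act 0 n5785 = n3113 := d3_1 D5785 (iv D3113) D3111
theorem F4917 : act 3 n5785 = n3118 := d9_1 D5785 (iv D3118) (iv D1424) D1425 D3120 (iv F4915) (iv D5784)
def n5786 : Q := act 0 n3112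
theorem D5786 : act 0 n3112 = n5786 := rfl
theorem F4918 : act 1 n5786 = n5786 := d13_2 D3112 D5786 (iv D5786) (iv D3112) D3111 (iv F4900) (iv D5775) F2221 D5775 F4900 (iv D3111)
def n5787 : Q := act 1 n3112
theorem D5787 : act 1 n3112 = n5787 := rfl
def n5788 : Q := act 4 n3112
theorem D5788 : act 4 n3112 = n5788 := rfl
def n5789 : Q := act 2 n3113
theorem D5789 : act 2 n3113 = n5789 := rfl
theorem F4919 : act 3 n5789 = n3132 := d7_2 (iv F2229) D5789 (iv D3132)
def n5790 : Q := act 0 n3114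
theorem D5790 : act 0 n3114 = n5790 := rfl
theorem F4920 : act 2 n5790 = n5790 := d10_2 D3114 D5790 (iv D5790) (iv D3114) F790 F290 (iv F790)
def n5791 : Q := act 4 n3114
theorem D5791 : act 4 n3114 = n5791 := rfl
theorem F4921 : act 1 n5791 = n3118 := d6_1 D5791 (iv D3118) (iv F2230)
theorem F4922 : act 2 n5791 = n3223 := d8_1 D5791 (iv D3223) F838 D2656 D5034 F4007 F3240
def n5792 : Q := act 0 n3115
theorem D5792 : act 0 n3115 = n5792 := rfl
theorem F4923 : act 1 n5792 = n3194 := d13_2 (iv F2231) D5792 F2302 (iv D2990) F925 F754 (iv F1157) D3999 F2992 (iv F3460) (iv D3117)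
theorem F4924 : act 3 n5792 = n3192 := d16_2 D3115 D5792 (iv D3192) D3193 F2301 (iv D1594) (iv D666) (iv F322) (iv F520) F521 D1023 (iv F791)
theorem F4925 : act 2 n3214 = n4298 := d17_2 D2660 (iv F2311) (iv D4298) (iv F3235) F3234 D5792 F4923 (iv F4609) (iv D5601) F2029 (iv F1743) (iv D2659)
theorem F4926 : act 4 n4296 = n3217 := d8_4 D3214 F4925 (iv D4298) (iv F3235) (iv D3217) (iv D1508) (iv F831)
def n5793 : Q := act 4 n3115
theorem D5793 : act 4 n3115 = n5793 := rfl
theorem F4927 : act 1 n5793 = n3217 := d6_1 D5793 (iv F4926) F3234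
def n5794 : Q := act 3 n3116
theorem D5794 : act 3 n3116 = n5794 := rfl
theorem F4928 : act 1 n5794 = n3219 := d5_1 D5794 (iv D3219) (iv F2233)
def n5795 : Q := act 2 n3117
theorem D5795 : act 2 n3117 = n5795 := rfl
theorem F4929 : act 3 n5795 = n4494 := d7_2 (iv F3461) D5795 (iv D4494)
theorem F4930 : act 0 n5795 = n3121 := d10_3 D1424 D3117 D5795 (iv D3121) (iv D1426) (iv D590) D589
def n5796 : Q := act 4 n3117
theorem D5796 : act 4 n3117 = n5796 := rfl
theorem F4931 : act 0 n5796 = n3118 := d3_1 D5796 (iv D3118) D3117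
theorem F4932 : act 1 n5796 = n4061 := d6_1 D5796 F3049 (iv F3460)
theorem F4933 : act 3 n4059 = n5796 := d5_0 F4932 (iv D4061) (iv F3047)
def n5797 : Q := act 2 n3118
theorem D5797 : act 2 n3118 = n5797 := rfl
def n5798 : Q := act 1 n3119
theorem D5798 : act 1 n3119 = n5798 := rfl
theorem F4934 : act 2 n5798 = n3230 := d4_2 D3119 D5798 (iv D3230) (iv D1515) (iv F840) (iv F1829) F1828
def n5799 : Q := act 3 n3119
theorem D5799 : act 3 n3119 = n5799 := rfl
theorem F4935 : act 2 n5799 = n3120 := d7_1 D5799 (iv D3120) D3119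
def n5800 : Q := act 4 n3119
theorem D5800 : act 4 n3119 = n5800 := rfl
def n5801 : Q := act 0 n3120
theorem D5801 : act 0 n3120 = n5801 := rfl
theorem F4936 : act 4 n5801 = n4058 := d3_2 F4915 D5801 (iv F4914)
theorem F4937 : act 3 n5801 = n4496 := d12_4 (iv D1424) D1425 D3120 D5801 (iv D4496) (iv F3461) (iv D3117)
theorem F4938 : act 1 n4060 = n5801 := d5_3 F4937 F3458 (iv F3048)
def n5802 : Q := act 4 n3121
theorem D5802 : act 4 n3121 = n5802 := rfl
theorem F4939 : act 1 n5802 = n5802 := d6_1 D5802 (iv D5802) F2234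
def n5803 : Q := act 3 n3122
theorem D5803 : act 3 n3122 = n5803 := rfl
theorem F4940 : act 1 n5803 = n5803 := d5_1 D5803 (iv D5803) F2236
theorem F4941 : act 2 n5803 = n3322 := d7_1 D5803 (iv D3322) (iv F2237)
def n5804 : Q := act 0 n3123
theorem D5804 : act 0 n3123 = n5804 := rfl
theorem F4942 : act 2 n5804 = n4652 := d1_2 F4162 D5804 (iv D4652) F1489 D2395 D4656 (iv F4163)
def n5805 : Q := act 4 n3123
theorem D5805 : act 4 n3123 = n5805 := rfl
theorem F4943 : act 1 n5805 = n3126 := d6_1 D5805 (iv D3126) (iv F2238)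
def n5806 : Q := act 3 n3124
theorem D5806 : act 3 n3124 = n5806 := rfl
theorem F4944 : act 1 n5806 = n3127 := d5_1 D5806 (iv D3127) (iv F2240)
def n5807 : Q := act 1 n3125
theorem D5807 : act 1 n3125 = n5807 := rfl
def n5808 : Q := act 2 n3125
theorem D5808 : act 2 n3125 = n5808 := rfl
theorem F4945 : act 0 n5808 = n4647 := d1_1 D5808 F3634 (iv F2241) (iv D3129) (iv D1430) (iv F794) D3125
theorem F4946 : act 3 n5808 = n4463 := d16_2 D4647 (iv F4945) (iv D4463) D4464 F3437 F3260 (iv D2601) (iv F1290) F1291 (iv D2119) D2118 (iv F1483)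
theorem F4947 : act 1 n4465 = n5808 := d5_3 F4946 (iv D4463) D4465
def n5809 : Q := act 3 n3125
theorem D5809 : act 3 n3125 = n5809 := rfl
theorem F4948 : act 0 n5809 = n4494 := d2_1 D5809 (iv F4929) F4930 (iv D3121) (iv D1426) D1428 D3125
theorem F4949 : act 2 n5809 = n4463 := d7_1 D5809 (iv F4946) (iv D5808)
theorem F4950 : act 1 n5809 = n3180 := d16_3 D1428 D3125 D5809 (iv F3259) (iv D4323) (iv D2124) (iv D903) D901 D2118 F1289 F793 (iv D1426)
theorem F4951 : act 3 n5807 = n3180 := d5_2 (iv D5809) D5807 (iv F4950)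
def n5810 : Q := act 4 n3125
theorem D5810 : act 4 n3125 = n5810 := rfl
theorem F4952 : act 0 n5810 = n3126 := d3_1 D5810 (iv D3126) D3125
def n5811 : Q := act 2 n3126
theorem D5811 : act 2 n3126 = n5811 := rfl
def n5812 : Q := act 3 n3126
theorem D5812 : act 3 n3126 = n5812 := rfl
def n5813 : Q := act 0 n3127
theorem D5813 : act 0 n3127 = n5813 := rfl
def n5814 : Q := act 4 n3127
theorem D5814 : act 4 n3127 = n5814 := rfl
def n5815 : Q := act 2 n3128
theorem D5815 : act 2 n3128 = n5815 := rfl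
theorem F4953 : act 0 n5815 = n4999 := d15_1 D5815 (iv D4999) (iv D2622) (iv D1150) F225 F77 D179 D473 D1165 D2642 D5024 F4003
theorem F4954 : act 4 n5815 = n5145 := d17_3 (iv D3131) D3128 D5815 (iv D5145) (iv D2716) (iv D1198) F235 (iv F240) D1216 F2200 (iv F795) (iv F2242)
theorem F4955 : act 1 n4337 = n5815 := d16_3 D1139 (iv F1295) D4337 (iv D5815) (iv D3128) (iv D1430) (iv D591) D589 D1422 (iv F1286) (iv D2111) F474
theorem F4956 : act 3 n5815 = n4336 := d5_2 D4337 F4955 (iv D4336)
def n5816 : Q := act 3 n3128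
theorem D5816 : act 3 n3128 = n5816 := rfl
theorem F4957 : act 1 n5816 = n3130 := d5_1 D5816 (iv D3130) D3128
theorem F4958 : act 2 n5816 = n4336 := d7_1 D5816 (iv F4956) (iv D5815)
theorem F4959 : act 0 n3167 = n5816 := d13_11 F4958 F3269 (iv D3204) (iv D1491) D1492 D3208 (iv F3474) F2283 (iv D2262) (iv F810) (iv F2290)
theorem F4960 : act 4 n5428 = n5816 := d17_3 (iv F3419) D4683 (iv F4412) F4958 (iv D4336) F1295 F632 (iv F564) D2427 (iv F2194) (iv F1502) (iv F3418)
def n5817 : Q := act 4 n3128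
theorem D5817 : act 4 n3128 = n5817 := rfl
theorem F4961 : act 1 n5817 = n3131 := d6_1 D5817 (iv D3131) D3128
theorem F4962 : act 3 n5817 = n5340 := d12_2 (iv D5816) D5817 (iv D5340) (iv F2294) (iv D3168) F2292 F4959
def n5818 : Q := act 1 n3129
theorem D5818 : act 1 n3129 = n5818 := rfl
theorem F4963 : act 2 n5818 = n4334 := d4_2 D3129 D5818 F3267 (iv F3270) F4955 (iv D5815) (iv D3128)
theorem F4964 : act 3 n4333 = n5818 := d7_0 F4963 (iv D4334) D4333
def n5819 : Q := act 3 n3129
theorem D5819 : act 3 n3129 = n5819 := rfl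
theorem F4965 : act 0 n5819 = n3192 := d2_1 D5819 (iv F4924) (iv D5792) (iv D3115) F791 D2387 (iv F2241)
theorem F4966 : act 1 n5819 = n4333 := d5_1 D5819 F4964 (iv D5818)
theorem F4967 : act 2 n5819 = n3130 := d7_1 D5819 (iv D3130) D3129
def n5820 : Q := act 4 n3129
theorem D5820 : act 4 n3129 = n5820 := rfl
theorem F4968 : act 0 n5820 = n4649 := d3_1 D5820 (iv D4649) (iv F2241)
def n5821 : Q := act 4 n3130
theorem D5821 : act 4 n3130 = n5821 := rfl
theorem F4969 : act 0 n5821 = n4496 := d3_1 D5821 (iv D4496) (iv F3462)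
theorem F4970 : act 1 n5821 = n5428 := d6_1 D5821 F4960 F4957
theorem F4971 : act 3 n5821 = n3136 := d12_2 D3130 D5821 (iv D3136) (iv D1433) (iv D592) D591 D1430
def n5822 : Q := act 2 n3131
theorem D5822 : act 2 n3131 = n5822 := rfl
def n5823 : Q := act 3 n3131
theorem D5823 : act 3 n3131 = n5823 := rfl
theorem F4972 : act 0 n5823 = n4059 := d2_1 D5823 F4933 F4931 (iv F4917) F4916 F2229 (iv F2242)
theorem F4973 : act 1 n5823 = n5340 := d5_1 D5823 (iv F4962) F4961
theorem F4974 : act 4 n5823 = n4056 := d9_2 D3131 D5823 (iv F3906) F3905 (iv F4971) (iv D5821) (iv D3130)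
def n5824 : Q := act 0 n3132
theorem D5824 : act 0 n3132 = n5824 := rfl
def n5825 : Q := act 1 n3132
theorem D5825 : act 1 n3132 = n5825 := rfl
def n5826 : Q := act 4 n3132
theorem D5826 : act 4 n3132 = n5826 := rfl
def n5827 : Q := act 3 n3133
theorem D5827 : act 3 n3133 = n5827 := rfl
theorem F4975 : act 1 n5827 = n3134 := d5_1 D5827 (iv D3134) D3133
def n5828 : Q := act 0 n3134
theorem D5828 : act 0 n3134 = n5828 := rfl
theorem F4976 : act 3 n5828 = n5559 := d16_2 D3134 D5828 (iv D5559) (iv F2395) (iv D3293) (iv D1547) (iv D644) (iv F313) (iv F850) F851 D2706 (iv F1831)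
theorem F4977 : act 1 n5560 = n5828 := d5_3 F4976 (iv D5559) D5560
def n5829 : Q := act 4 n3134
theorem D5829 : act 4 n3134 = n5829 := rfl
def n5830 : Q := act 3 n3135
theorem D5830 : act 3 n3135 = n5830 := rfl
def n5831 : Q := act 1 n3136
theorem D5831 : act 1 n3136 = n5831 := rfl
theorem F4978 : act 3 n5831 = n5428 := d5_2 F4971 D5831 (iv F4970)
theorem F4979 : act 2 n5831 = n5101 := d15_6 (iv F1619) F1618 F1198 (iv F796) D3136 D5831 F4087 (iv F3927) F3926 F1696 F629 (iv F627)
def n5832 : Q := act 2 n3136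
theorem D5832 : act 2 n3136 = n5832 := rfl
def n5833 : Q := act 1 n3137
theorem D5833 : act 1 n3137 = n5833 := rfl
theorem F4980 : act 0 n5833 = n4053 := d0_1 D5833 (iv D4053) (iv D1978) (iv F805) (iv D1443) (iv F798) D3137
def n5834 : Q := act 3 n3137
theorem D5834 : act 3 n3137 = n5834 := rfl
def n5835 : Q := act 4 n3138
theorem D5835 : act 4 n3138 = n5835 := rfl
theorem F4981 : act 0 n5835 = n3171 := d3_1 D5835 (iv D3171) (iv F2246)
theorem F4982 : act 1 n5835 = n3382 := d6_1 D5835 (iv D3382) (iv F2244)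
def n5836 : Q := act 0 n3140
theorem D5836 : act 0 n3140 = n5836 := rfl
def n5837 : Q := act 4 n3141
theorem D5837 : act 4 n3141 = n5837 := rfl
theorem F4983 : act 0 n5837 = n3142 := d3_1 D5837 (iv D3142) D3141
def n5838 : Q := act 2 n3142
theorem D5838 : act 2 n3142 = n5838 := rfl
def n5839 : Q := act 3 n3143
theorem D5839 : act 3 n3143 = n5839 := rfl
theorem F4984 : act 2 n5839 = n3144 := d7_1 D5839 (iv D3144) D3143
def n5840 : Q := act 0 n3144
theorem D5840 : act 0 n3144 = n5840 := rfl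
def n5841 : Q := act 4 n3145
theorem D5841 : act 4 n3145 = n5841 := rfl
theorem F4985 : act 0 n5841 = n3154 := d3_1 D5841 (iv D3154) (iv F2256)
theorem F4986 : act 1 n5841 = n4135 := d6_1 D5841 (iv D4135) (iv F2254)
theorem F4987 : act 3 n5841 = n4063 := d12_2 (iv F2255) D5841 (iv F4884) F4886 (iv D3160) D3159 F2283
theorem E700 : n4160 = n4135 := (c5_3 F4987 F3052 D4160 (iv F4986))
theorem F4988 : act 3 n4135 = n2034 := (sb E700 (iv D4160))
theorem E701 : n4517 = n4158 := ((c9_5 D4135 F4988 (iv D2034) D2033 D4158 (iv D4517) (iv D2274) (iv F1234))).symm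
theorem F4989 : act 3 n4158 = n2274 := (sb E701 (iv D4517))
def n5842 : Q := act 2 n3146
theorem D5842 : act 2 n3146 = n5842 := rfl
theorem F4990 : act 3 n5842 = n4064 := d7_2 (iv F2259) D5842 (iv D4064)
theorem F4991 : act 0 n5842 = n3694 := d10_3 F2225 (iv F2257) D5842 (iv F4907) (iv D5780) (iv D3108) (iv F2224)
theorem F4992 : act 4 n3693 = n5842 := d3_0 F4991 (iv D3694) D3693
theorem F4993 : act 1 n5842 = n4118 := d6_1 F4992 (iv D4118) (iv F2727)
theorem E702 : n4125 = n4118 := ((c5_2 (iv F4990) F4993 (iv D4125) F3093)).symm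
theorem F4994 : act 3 n4118 = n2019 := (sb E702 (iv D4125))
theorem F4995 : act 3 n4124 = n3427 := d9_5 D4118 F4994 (iv D2019) D2018 D4124 (iv D3427) (iv F1230)
def n5843 : Q := act 0 n3147
theorem D5843 : act 0 n3147 = n5843 := rfl
def n5844 : Q := act 4 n3147
theorem D5844 : act 4 n3147 = n5844 := rfl
def n5845 : Q := act 0 n3149
theorem D5845 : act 0 n3149 = n5845 := rfl
def n5846 : Q := act 4 n3149
theorem D5846 : act 4 n3149 = n5846 := rfl
def n5847 : Q := act 3 n3150
theorem D5847 : act 3 n3150 = n5847 := rfl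
theorem F4996 : act 2 n5847 = n3696 := d7_1 D5847 (iv D3696) (iv F2271)
def n5848 : Q := act 2 n3151
theorem D5848 : act 2 n3151 = n5848 := rfl
theorem F4997 : act 3 n5848 = n4501 := d7_2 (iv F2272) D5848 (iv D4501)
theorem F4998 : act 0 n5848 = n3176 := d10_3 D1446 D3151 D5848 (iv D3176) (iv D1461) (iv D604) (iv F291)
theorem F4999 : act 1 n4124 = n5848 := d5_3 F4997 F4565 (iv F4995)
theorem F5000 : act 4 n4122 = n5848 := d9_0 F4997 (iv F4566) (iv F2726) F4992 F4990 F3094 D4122
def n5849 : Q := act 4 n3152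
theorem D5849 : act 4 n3152 = n5849 := rfl
theorem F5001 : act 2 n5849 = n3694 := d11_2 (iv F2275) D5849 (iv F4991) (iv D5842) (iv D3146) D3145 F2256
def n5850 : Q := act 3 n3153
theorem D5850 : act 3 n3153 = n5850 := rfl
theorem F5002 : act 1 n5850 = n5386 := d5_1 D5850 (iv D5386) (iv F2277)
theorem F5003 : act 2 n5850 = n3176 := d7_1 D5850 (iv D3176) (iv F2278)
def n5851 : Q := act 2 n3154
theorem D5851 : act 2 n3154 = n5851 := rfl
theorem F5004 : act 4 n5851 = n3327 := d8_2 D3154 D5851 F2422 D3694 (iv F5001) (iv D5849) F2275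
theorem F5005 : act 1 n5851 = n4735 := d17_1 (iv F5004) (iv D4735) (iv D2460) (iv F1564) F1563 (iv F1064) F1065 F390 D768 D1813 D3779 F2815
theorem F5006 : act 2 n5282 = n4987 := d4_6 D5851 F5005 (iv D4735) F1573 D2803 D5282 F3968
def n5852 : Q := act 3 n3155
theorem D5852 : act 3 n3155 = n5852 := rfl
theorem F5007 : act 1 n5852 = n4737 := d5_1 D5852 (iv D4737) (iv F2280)
theorem F5008 : act 2 n5852 = n3156 := d7_1 D5852 (iv D3156) D3155
def n5853 : Q := act 0 n3156
theorem D5853 : act 0 n3156 = n5853 := rfl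
theorem F5009 : act 3 n5853 = n4500 := d2_2 D3156 D5853 F4891 (iv D5769) F2218 (iv F4836) (iv F807)
theorem F5010 : act 4 n5853 = n4062 := d3_2 F4894 D5853 (iv F4893)
theorem F5011 : act 1 n4158 = n5853 := d6_3 F5010 F3050 D4158
def n5854 : Q := act 2 n3157
theorem D5854 : act 2 n3157 = n5854 := rfl
theorem F5012 : act 1 n5854 = n4467 := d14_2 D3157 D5854 (iv D4467) (iv D2221) (iv D945) (iv D375) (iv D142) (iv F60) (iv F169) (iv F292) D1451
def n5855 : Q := act 4 n3157
theorem D5855 : act 4 n3157 = n5855 := rfl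
theorem F5013 : act 1 n5855 = n3160 := d6_1 D5855 (iv D3160) D3157
theorem F5014 : act 3 n5710 = n5855 := d5_0 F5013 (iv F4886) F4885
theorem E703 : n5714 = n5694 := ((c12_6 F5014 (iv D5855) (iv F3475) (iv D3208) (iv F2136) D5694 (iv D5714) (iv F4780))).symm
theorem F5015 : act 3 n5694 = n3067 := (sb E703 (iv D5714))
theorem F5016 : act 3 n5712 = n3209 := d9_5 D5694 F5015 (iv D3067) D3066 D5712 (iv D3209) (iv F2136)
def n5856 : Q := act 1 n3158
theorem D5856 : act 1 n3158 = n5856 := rfl
theorem F5017 : act 2 n5856 = n3208 := d4_2 D3158 D5856 (iv F3474) F3440 (iv F5012) (iv D5854) (iv D3157)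
theorem F5018 : act 3 n5856 = n5854 := d5_2 F3439 D5856 F5012
def n5857 : Q := act 4 n3158
theorem D5857 : act 4 n3158 = n5857 := rfl
theorem F5019 : act 0 n5857 = n4321 := d3_1 D5857 (iv D4321) (iv F2282)
theorem F5020 : act 2 n5857 = n3173 := d11_2 D3158 D5857 (iv D3173) (iv D1459) (iv D603) (iv F293) D1451
def n5858 : Q := act 2 n3160
theorem D5858 : act 2 n3160 = n5858 := rfl
theorem F5021 : act 4 n5858 = n3329 := d8_2 D3160 D5858 F2425 (iv F4728) (iv F5020) (iv D5857) (iv D3158)
theorem F5022 : act 0 n3330 = n5858 := d3_3 F5021 (iv D3329) D3330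
theorem F5023 : act 2 n5835 = n3330 := d11_2 (iv F2245) D5835 F5022 (iv D5858) (iv D3160) D3158 F2282
def n5859 : Q := act 0 n3161
theorem D5859 : act 0 n3161 = n5859 := rfl
theorem F5024 : act 2 n5859 = n3171 := d1_2 D3161 D5859 (iv F4981) F5023 F5022 (iv D5858) F2284
theorem F5025 : act 4 n5859 = n3697 := d3_2 (iv F4737) D5859 (iv D3697)
def n5860 : Q := act 3 n3166
theorem D5860 : act 3 n3166 = n5860 := rfl
theorem F5026 : act 1 n5860 = n3178 := d5_1 D5860 (iv D3178) (iv F2289)
theorem F5027 : act 2 n5860 = n4998 := d7_1 D5860 (iv F3973) (iv F3434)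
def n5861 : Q := act 4 n3166
theorem D5861 : act 4 n3166 = n5861 := rfl
theorem F5028 : act 0 n5861 = n3168 := d3_1 D5861 (iv D3168) D3166
theorem F5029 : act 1 n5861 = n3179 := d6_1 D5861 (iv D3179) (iv F2289)
def n5862 : Q := act 0 n3169
theorem D5862 : act 0 n3169 = n5862 := rfl
def n5863 : Q := act 2 n3169
theorem D5863 : act 2 n3169 = n5863 := rfl
theorem F5030 : act 1 n5863 = n3170 := d4_1 D5863 F2296 (iv F2290) (iv D3167) (iv D1455) D1456 D3169
theorem F5031 : act 0 n5863 = n4441 := d15_7 (iv D3384) (iv D1594) (iv F892) (iv F2244) F2246 D3169 D5863 (iv D4441) (iv D2198) (iv F1315) (iv F3287) F3289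
theorem F5032 : act 3 n3169 = n5863 := d5_0 F5030 (iv D3170) D3169
def n5864 : Q := act 4 n3169
theorem D5864 : act 4 n3169 = n5864 := rfl
theorem F5033 : act 1 n5864 = n3171 := d6_1 D5864 (iv D3171) D3169
theorem F5034 : act 3 n5346 = n5864 := d5_0 F5033 (iv F4859) F4832
theorem F5035 : act 2 n5864 = n5347 := d7_1 F5034 (iv D5347) D5346
def n5865 : Q := act 0 n3172
theorem D5865 : act 0 n3172 = n5865 := rfl
theorem F5036 : act 2 n5865 = n4321 := d1_2 D3172 D5865 (iv F5019) F5020 (iv D3173) (iv D1459) (iv F811)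
theorem F5037 : act 4 n3328 = n5865 := d8_0 F5036 (iv D4321) (iv F2245) D5835 F5023 (iv D3330) (iv F2424)
theorem F5038 : act 1 n5865 = n3412 := d6_1 F5037 (iv D3412) (iv F2423)
def n5866 : Q := act 1 n3172
theorem D5866 : act 1 n3172 = n5866 := rfl
theorem F5039 : act 2 n5866 = n5355 := d4_2 D3172 D5866 F4351 F1914 (iv F1907) (iv F2295) F2293
theorem F5040 : act 3 n5866 = n5354 := d5_2 F4861 D5866 (iv F4860)
def n5867 : Q := act 4 n3172
theorem D5867 : act 4 n3172 = n5867 := rfl
theorem F5041 : act 0 n5867 = n3328 := d3_1 D5867 F5037 (iv D5865)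
theorem F5042 : act 2 n5867 = n3697 := d8_1 D5867 (iv F5025) F5024 (iv D3171) (iv D1456) D1458 D3172
def n5868 : Q := act 4 n3176
theorem D5868 : act 4 n3176 = n5868 := rfl
theorem F5043 : act 0 n5868 = n4122 := d3_1 D5868 F5000 F4998
theorem F5044 : act 1 n5868 = n4784 := d6_1 D5868 (iv D4784) (iv F2297)
theorem F5045 : act 3 n5868 = n3670 := d9_1 D5868 (iv F4906) F4907 (iv D3694) (iv D1767) (iv F868) D3176
def n5869 : Q := act 0 n3177
theorem D5869 : act 0 n3177 = n5869 := rfl
theorem F5046 : act 1 n5869 = n3188 := d13_2 D3177 D5869 (iv D3188) (iv D1485) (iv D614) (iv D238) (iv D86) (iv F31) D235 D606 D1467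
theorem F5047 : act 3 n4659 = n3177 := d16_7 F1079 (iv F2832) (iv F3652) (iv D4663) (iv D2399) D2398 D4659 D5869 F5046 (iv F3450) (iv D4481) (iv D2228)
theorem F5048 : act 2 n3178 = n4659 := d7_3 F5047 (iv D3177) D3178
theorem F5049 : act 3 n5625 = n5869 := d5_0 F5046 F2300 D5625
def n5870 : Q := act 4 n3177
theorem D5870 : act 4 n3177 = n5870 := rfl
theorem F5050 : act 1 n5870 = n3722 := d6_1 D5870 F3405 F3435
def n5871 : Q := act 0 n3178
theorem D5871 : act 0 n3178 = n5871 := rfl
theorem F5051 : act 1 n5871 = n4054 := d13_2 (iv F5048) D5871 (iv F3654) (iv D4664) (iv D2406) (iv D1033) (iv D414) (iv F190) D1030 D2398 D4659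
theorem F5052 : act 3 n4053 = n5871 := d16_7 D2629 D5013 (iv F3989) F3962 F3946 D5833 F4980 (iv D5871) (iv F5026) F5027 F3972 (iv D2627)
theorem F5053 : act 3 n3184 = n5833 := d2_6 F5052 (iv D5871) (iv D3178) (iv D1467) D1469 D3184 F4980
theorem F5054 : act 1 n5834 = n3184 := d5_3 F5053 (iv D5833) D5834
def n5872 : Q := act 2 n3179
theorem D5872 : act 2 n3179 = n5872 := rfl
def n5873 : Q := act 4 n3180
theorem D5873 : act 4 n3180 = n5873 := rfl
theorem F5055 : act 0 n5873 = n3183 := d3_1 D5873 (iv D3183) D3180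
theorem F5056 : act 2 n5873 = n3332 := d17_4 (iv D4326) D4323 F3259 D5873 (iv D3332) (iv D1570) (iv F886) (iv F2424) F5037 F5036 F3257 (iv F3261)
def n5874 : Q := act 0 n3181
theorem D5874 : act 0 n3181 = n5874 := rfl
theorem F5057 : act 1 n5874 = n4414 := d14_4 D606 D1468 D3181 D5874 (iv D4414) (iv D2183) (iv D928) (iv F292) F293 F102 D235
theorem F5058 : act 3 n5874 = n5804 := d16_7 (iv F618) F619 (iv D608) D606 D1468 D3181 D5874 (iv D5804) F2238 F794 F288 (iv F227)
theorem F5059 : act 2 n4513 = n5874 := d7_3 F5058 F4942 F3641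
def n5875 : Q := act 2 n3181
theorem D5875 : act 2 n3181 = n5875 := rfl
theorem F5060 : act 1 n5875 = n3187 := d4_1 D5875 (iv D3187) (iv D1471) (iv D607) D606 D1468 D3181
def n5876 : Q := act 3 n3181
theorem D5876 : act 3 n3181 = n5876 := rfl
theorem F5061 : act 0 n5876 = n4403 := d2_1 D5876 (iv D4403) F1337 D3123 D5804 (iv F5058) (iv D5874)
theorem F5062 : act 1 n5876 = n3182 := d5_1 D5876 (iv D3182) D3181
def n5877 : Q := act 4 n3181
theorem D5877 : act 4 n3181 = n5877 := rfl
theorem F5063 : act 1 n5877 = n3183 := d6_1 D5877 (iv D3183) D3181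
def n5878 : Q := act 0 n3182
theorem D5878 : act 0 n3182 = n5878 := rfl
theorem F5064 : act 1 n5878 = n5878 := d0_2 F5062 D5878 (iv D5878) (iv F5062) F5061 F3334 (iv F5061)
def n5879 : Q := act 4 n3182
theorem D5879 : act 4 n3182 = n5879 := rfl
def n5880 : Q := act 3 n3183
theorem D5880 : act 3 n3183 = n5880 := rfl
def n5881 : Q := act 2 n3184
theorem D5881 : act 2 n3184 = n5881 := rfl
theorem F5065 : act 0 n5881 = n5625 := d10_3 D1469 D3184 D5881 F5049 (iv D5869) (iv D3177) (iv D1467)
theorem F5066 : act 1 n5881 = n4357 := d15_9 (iv F3336) (iv D4404) (iv F3335) F3334 (iv F5061) F5062 F2299 D3184 D5881 (iv D4357) (iv F1487) (iv F2106)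
def n5882 : Q := act 0 n3185
theorem D5882 : act 0 n3185 = n5882 := rfl
def n5883 : Q := act 1 n3185
theorem D5883 : act 1 n3185 = n5883 := rfl
def n5884 : Q := act 4 n3185
theorem D5884 : act 4 n3185 = n5884 := rfl
def n5885 : Q := act 2 n3186
theorem D5885 : act 2 n3186 = n5885 := rfl
theorem F5067 : act 0 n5885 = n4482 := d1_1 D5885 (iv D4482) (iv D2228) D2229 (iv F3290) (iv D3187) D3186
theorem F5068 : act 1 n4507 = n5885 := d13_2 D2270 D4507 F5067 (iv D4482) (iv D2228) (iv D948) F172 F113 (iv F62) D386 D968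
theorem F5069 : act 2 n5862 = n4508 := d15_8 (iv D4482) (iv D2228) D2229 (iv F3442) F3441 (iv F5030) (iv D5863) D5862 (iv D4508) D4507 F5068 F5067
def n5886 : Q := act 4 n3187
theorem D5886 : act 4 n3187 = n5886 := rfl
theorem F5070 : act 0 n5886 = n4483 := d3_1 D5886 (iv D4483) (iv F3290)
def n5887 : Q := act 4 n3188
theorem D5887 : act 4 n3188 = n5887 := rfl
theorem F5071 : act 0 n5887 = n3190 := d3_1 D5887 (iv D3190) D3188
theorem F5072 : act 3 n5887 = n5642 := d9_1 D5887 (iv D5642) F2114 D5592 F4654 (iv D5626) (iv F2300)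
theorem F5073 : act 2 n5887 = n3952 := d11_2 F3450 D5887 F2953 (iv F3400) (iv D3195) D3193 (iv F3449)
def n5888 : Q := act 0 n3189
theorem D5888 : act 0 n3189 = n5888 := rfl
theorem F5074 : act 1 n5888 = n4504 := d0_2 D3189 D5888 F3467 F3435 D5869 F5046 (iv D3188)
theorem F5075 : act 3 n5888 = n4670 := d16_7 F1540 F1157 F436 (iv F298) D1485 D3189 D5888 (iv D4670) (iv D2409) (iv D1034) D1033 D2406
theorem F5076 : act 0 n4415 = n4671 := d10_5 (iv F5075) (iv D5888) (iv F3478) (iv D4413) D4415 (iv D4671) D4670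
def n5889 : Q := act 4 n3189
theorem D5889 : act 4 n3189 = n5889 := rfl
theorem F5077 : act 1 n5889 = n3190 := d6_1 D5889 (iv D3190) D3189
theorem F5078 : act 2 n5889 = n3704 := d11_2 F3478 D5889 (iv D3704) D3705 F4739 (iv D4414) D4413
def n5890 : Q := act 0 n3191
theorem D5890 : act 0 n3191 = n5890 := rfl
theorem F5079 : act 3 n5890 = n5624 := d2_2 F4622 D5890 F4652 F3412 D3201 (iv F4620) F4619
theorem F5080 : act 4 n5890 = n5621 := d3_2 F4623 D5890 F4648
def n5891 : Q := act 1 n3191
theorem D5891 : act 1 n3191 = n5891 := rfl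
def n5892 : Q := act 2 n3192
theorem D5892 : act 2 n3192 = n5892 := rfl
theorem F5081 : act 0 n5892 = n4463 := d1_1 D5892 (iv F4949) F4948 (iv D4494) (iv F3462) (iv F4967) F4965
def n5893 : Q := act 4 n3192
theorem D5893 : act 4 n3192 = n5893 := rfl
theorem F5082 : act 1 n5893 = n3195 := d6_1 D5893 (iv D3195) D3192
def n5894 : Q := act 4 n3193
theorem D5894 : act 4 n3193 = n5894 := rfl
theorem F5083 : act 1 n5894 = n3385 := d6_1 D5894 (iv D3385) (iv F2301)
theorem F5084 : act 2 n5894 = n3201 := d11_2 D3193 D5894 (iv D3201) (iv D1490) (iv D616) D615 D1487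
def n5895 : Q := act 2 n3196
theorem D5895 : act 2 n3196 = n5895 := rfl
theorem F5085 : act 0 n5895 = n5875 := d1_1 D5895 (iv D5875) D5874 (iv F5059) F3473 (iv D3197) D3196
theorem F5086 : act 1 n5895 = n4441 := d4_1 D5895 (iv D4441) (iv D2198) (iv D933) D932 D2195 (iv F2305)
theorem F5087 : act 3 n5895 = n4656 := d7_2 (iv F2304) D5895 (iv D4656)
def n5896 : Q := act 4 n3197
theorem D5896 : act 4 n3197 = n5896 := rfl
theorem F5088 : act 1 n5896 = n3209 := d6_1 D5896 (iv D3209) (iv F2306)
def n5897 : Q := act 2 n3198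
theorem D5897 : act 2 n3198 = n5897 := rfl
theorem F5089 : act 3 n5897 = n3685 := d7_2 F4680 D5897 F4681
def n5898 : Q := act 1 n3201
theorem D5898 : act 1 n3201 = n5898 := rfl
def n5899 : Q := act 0 n3202
theorem D5899 : act 0 n3202 = n5899 := rfl
theorem F5090 : act 4 n5899 = n4561 := d3_2 (iv F4630) D5899 (iv F4628)
theorem F5091 : act 3 n5899 = n4572 := d12_4 D3008 D5616 F4638 D5899 (iv D4572) (iv F2040) F2038
theorem F5092 : act 1 n5899 = n3726 := d14_4 (iv F299) D1490 D3202 D5899 (iv D3726) F1051 F388 F125 F3366 (iv F32) (iv F104)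
def n5900 : Q := act 2 n3202
theorem D5900 : act 2 n3202 = n5900 := rfl
theorem F5093 : act 1 n5900 = n3212 := d4_1 D5900 (iv D3212) (iv D1496) (iv D619) (iv F299) D1490 D3202
def n5901 : Q := act 2 n3204
theorem D5901 : act 2 n3204 = n5901 := rfl
theorem F5094 : act 0 n5901 = n4458 := d1_1 D5901 (iv F3434) (iv D3166) D3167 F4959 F4958 F3269
theorem F5095 : act 1 n5901 = n3206 := d14_2 D3204 D5901 F2308 (iv D2255) (iv D962) (iv F298) (iv D614) (iv D238) D239 D617 D1491
theorem F5096 : act 3 n3204 = n5901 := d5_0 F5095 (iv D3206) D3204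
def n5902 : Q := act 4 n3204
theorem D5902 : act 4 n3204 = n5902 := rfl
theorem F5097 : act 1 n5902 = n3207 := d6_1 D5902 (iv D3207) D3204
theorem F5098 : act 2 n5902 = n5645 := d17_10 F4707 (iv D4491) (iv D2257) (iv D963) D962 D2255 (iv F2308) (iv F5095) (iv D5901) D5902 F4693 D5657
theorem F5099 : act 3 n5644 = n5902 := d7_0 F5098 (iv D5645) D5644
def n5903 : Q := act 0 n3205
theorem D5903 : act 0 n3205 = n5903 := rfl
theorem F5100 : act 1 n5903 = n4482 := d13_2 D3205 D5903 (iv F5067) (iv D5885) (iv D3186) (iv D1471) (iv F565) F564 F223 D617 D1491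
def n5904 : Q := act 1 n3205
theorem D5904 : act 1 n3205 = n5904 := rfl
theorem F5101 : act 0 n5904 = n4508 := d0_1 D5904 (iv D4508) D4507 F5068 F5067 (iv F5100) (iv D5903)
theorem F5102 : act 2 n5904 = n4440 := d15_6 (iv D2229) D2228 D4482 (iv F5100) (iv D5903) D5904 (iv D4440) D4441 (iv F5086) F5085 F5060 F3290
theorem F5103 : act 3 n4440 = n5904 := d10_0 F5101 (iv F5069) (iv D5862) F5032 F5031 (iv D4441) D4440
def n5905 : Q := act 3 n3205
theorem D5905 : act 3 n3205 = n5905 := rfl
theorem F5104 : act 1 n5905 = n4440 := d5_1 D5905 F5103 (iv D5904)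
theorem F5105 : act 2 n5905 = n3206 := d7_1 D5905 (iv D3206) D3205
def n5906 : Q := act 4 n3205
theorem D5906 : act 4 n3205 = n5906 := rfl
def n5907 : Q := act 2 n3207
theorem D5907 : act 2 n3207 = n5907 := rfl
def n5908 : Q := act 4 n3208
theorem D5908 : act 4 n3208 = n5908 := rfl
theorem F5106 : act 0 n5908 = n3209 := d3_1 D5908 (iv D3209) D3208
theorem F5107 : act 1 n5908 = n5769 := d6_1 D5908 F4890 F3474
theorem F5108 : act 3 n5908 = n5765 := d9_1 D5908 (iv D5765) F3159 D5710 F5014 (iv D5855) (iv F3475)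
theorem F5109 : act 2 n5331 = n5908 := d16_10 (iv F5009) (iv D5853) (iv D3156) (iv F1721) F1874 (iv D2805) (iv F1837) D5215 F4212 D5331 F5107 (iv F4891)
theorem F5110 : act 0 n4343 = n5332 := d17_12 (iv D5332) D5331 F5109 (iv D5908) (iv F5017) (iv D5856) F2282 F1293 F476 D906 D2132 D4343
theorem F5111 : act 4 n5215 = n4343 := d17_0 (iv D4343) (iv D2132) (iv D906) (iv F476) (iv F1293) (iv F2282) D5856 F5017 D5908 (iv F5109) (iv D5331) (iv F4212)
theorem E704 : n4350 = n4344 := ((c6_3 F5111 (iv D4343) D4344 (iv F4210))).symm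
theorem F5112 : act 1 n4344 = n5215 := (sb E704 (iv F4210))
theorem F5113 : act 3 n4344 = n2137 := (sb E704 (iv D4350))
def n5909 : Q := act 2 n3209
theorem D5909 : act 2 n3209 = n5909 := rfl
def n5910 : Q := act 1 n3210
theorem D5910 : act 1 n3210 = n5910 := rfl
def n5911 : Q := act 4 n3210
theorem D5911 : act 4 n3210 = n5911 := rfl
def n5912 : Q := act 1 n3211
theorem D5912 : act 1 n3211 = n5912 := rfl
def n5913 : Q := act 2 n3211
theorem D5913 : act 2 n3211 = n5913 := rfl
def n5914 : Q := act 0 n3212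
theorem D5914 : act 0 n3212 = n5914 := rfl
def n5915 : Q := act 4 n3212
theorem D5915 : act 4 n3212 = n5915 := rfl
def n5916 : Q := act 4 n3213
theorem D5916 : act 4 n3213 = n5916 := rfl
theorem F5114 : act 0 n5916 = n3214 := d3_1 D5916 (iv D3214) D3213
def n5917 : Q := act 3 n3214
theorem D5917 : act 3 n3214 = n5917 := rfl
theorem F5115 : act 1 n5917 = n5041 := d5_1 D5917 (iv D5041) (iv F2311)
theorem F5116 : act 0 n5917 = n3435 := d12_3 D1505 D3214 D5917 (iv D3435) (iv D1624) (iv D682) (iv F301)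
def n5918 : Q := act 0 n3215
theorem D5918 : act 0 n3215 = n5918 := rfl
def n5919 : Q := act 4 n3215
theorem D5919 : act 4 n3215 = n5919 := rfl
theorem F5117 : act 1 n5919 = n5046 := d6_1 D5919 (iv D5046) (iv F2312)
def n5920 : Q := act 2 n3216
theorem D5920 : act 2 n3216 = n5920 := rfl
theorem F5118 : act 0 n5920 = n3217 := d11_3 F2310 D3216 D5920 (iv D3217) (iv D1508) (iv F831) D3213
def n5921 : Q := act 3 n3217
theorem D5921 : act 3 n3217 = n5921 := rfl
theorem F5119 : act 2 n5921 = n3218 := d7_1 D5921 (iv D3218) D3217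
theorem F5120 : act 0 n5921 = n3444 := d10_1 D5921 F2496 (iv F2315) (iv D3218) (iv F2313) D5920 F5118
def n5922 : Q := act 4 n3218
theorem D5922 : act 4 n3218 = n5922 := rfl
theorem F5121 : act 0 n5922 = n3445 := d3_1 D5922 (iv D3445) (iv F2315)
theorem F5122 : act 1 n5922 = n3247 := d6_1 D5922 (iv D3247) (iv F2314)
theorem F5123 : act 3 n5922 = n3221 := d9_1 D5922 (iv D3221) (iv D1510) (iv D625) D624 D1508 D3218
def n5923 : Q := act 0 n3219
theorem D5923 : act 0 n3219 = n5923 := rfl
theorem F5124 : act 2 n5923 = n3220 := d10_2 D3219 D5923 (iv D3220) (iv D1510) F305 D686 (iv F835)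
def n5924 : Q := act 4 n3219
theorem D5924 : act 4 n3219 = n5924 := rfl
def n5925 : Q := act 4 n3220
theorem D5925 : act 4 n3220 = n5925 := rfl
theorem F5125 : act 0 n5925 = n3221 := d3_1 D5925 (iv D3221) D3220
def n5926 : Q := act 2 n3221
theorem D5926 : act 2 n3221 = n5926 := rfl
def n5927 : Q := act 4 n3222
theorem D5927 : act 4 n3222 = n5927 := rfl
theorem F5126 : act 0 n5927 = n3223 := d3_1 D5927 (iv D3223) D3222
theorem F5127 : act 1 n5927 = n5671 := d6_1 D5927 (iv D5671) (iv F2318)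
theorem F5128 : act 3 n5685 = n5927 := d5_0 F5127 F4721 D5685
def n5928 : Q := act 3 n3223
theorem D5928 : act 3 n3223 = n5928 := rfl
theorem F5129 : act 1 n5928 = n3229 := d5_1 D5928 (iv D3229) (iv F2321)
theorem F5130 : act 0 n5928 = n4700 := d12_3 D1511 D3223 D5928 (iv D4700) (iv D2439) (iv D1053) (iv F307)
def n5929 : Q := act 0 n3224
theorem D5929 : act 0 n3224 = n5929 := rfl
theorem F5131 : act 3 n5929 = n5668 := d12_4 (iv D1511) D1512 D3224 D5929 (iv D5668) (iv F2320) (iv D3222)
theorem F5132 : act 1 n5673 = n5929 := d5_3 F5131 F4716 D5673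
theorem F5133 : act 1 n3233 = n3995 := d0_4 F5132 (iv D5929) F2322 D3233 (iv D3995) (iv F2979) (iv F4722)
def n5930 : Q := act 4 n3224
theorem D5930 : act 4 n3224 = n5930 := rfl
theorem F5134 : act 1 n5930 = n3234 := d6_1 D5930 (iv D3234) (iv F2322)
def n5931 : Q := act 1 n3225
theorem D5931 : act 1 n3225 = n5931 := rfl
def n5932 : Q := act 3 n3225
theorem D5932 : act 3 n3225 = n5932 := rfl
theorem F5135 : act 0 n5932 = n3278 := d2_1 D5932 (iv D3278) F861 (iv D1037) (iv F311) D1531 (iv F2323)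
theorem F5136 : act 2 n5932 = n3226 := d7_1 D5932 (iv D3226) D3225
def n5933 : Q := act 4 n3225
theorem D5933 : act 4 n3225 = n5933 := rfl
theorem F5137 : act 0 n5933 = n3264 := d3_1 D5933 (iv D3264) (iv F2323)
theorem F5138 : act 2 n5933 = n3243 := d11_2 D3225 D5933 (iv D3243) (iv D1521) (iv D630) (iv F309) D1513
def n5934 : Q := act 4 n3226
theorem D5934 : act 4 n3226 = n5934 := rfl
theorem F5139 : act 0 n5934 = n3302 := d3_1 D5934 (iv D3302) (iv F2324)
theorem F5140 : act 1 n5934 = n4606 := d6_1 D5934 (iv D4606) (iv F2325)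
theorem F5141 : act 3 n5934 = n3233 := d12_2 D3226 D5934 (iv D3233) (iv D1516) (iv D628) D627 D1513
def n5935 : Q := act 2 n3227
theorem D5935 : act 2 n3227 = n5935 := rfl
theorem F5142 : act 0 n5935 = n3266 := d11_3 (iv D3225) D3227 D5935 (iv D3266) (iv D1533) (iv F853) (iv F2323)
def n5936 : Q := act 3 n3227
theorem D5936 : act 3 n3227 = n5936 := rfl
theorem F5143 : act 0 n5936 = n3303 := d2_1 D5936 (iv D3303) F879 D2418 (iv F2327) (iv D3229) (iv F2326)
def n5937 : Q := act 0 n3228
theorem D5937 : act 0 n3228 = n5937 := rfl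
theorem F5144 : act 2 n5937 = n3239 := d1_2 D3228 D5937 F2336 D3266 (iv F5142) (iv D5935) F2326
def n5938 : Q := act 1 n3228
theorem D5938 : act 1 n3228 = n5938 := rfl
def n5939 : Q := act 3 n3228
theorem D5939 : act 3 n3228 = n5939 := rfl
theorem F5145 : act 2 n5939 = n3229 := d7_1 D5939 (iv D3229) D3228
theorem F5146 : act 0 n5939 = n3285 := d10_1 D5939 F2386 (iv F2362) (iv D3267) (iv F2336) (iv F5144) (iv D5937)
def n5940 : Q := act 4 n3228
theorem D5940 : act 4 n3228 = n5940 := rfl
theorem F5147 : act 2 n5940 = n3246 := d8_1 D5940 (iv D3246) (iv D1521) (iv D630) (iv F309) D1514 D3228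
theorem F5148 : act 3 n5940 = n3232 := d12_2 (iv D5939) D5940 F2329 (iv F3085) (iv D3286) D3285 (iv F5146)
theorem E705 : n3256 = n3246 := (c7_3 F5148 F2330 D3256 (iv F5147))
theorem F5149 : act 3 n3246 = n1526 := (sb E705 (iv D3256))
def n5941 : Q := act 4 n3229
theorem D5941 : act 4 n3229 = n5941 := rfl
theorem F5150 : act 0 n5941 = n4679 := d3_1 D5941 (iv D4679) (iv F2327)
theorem F5151 : act 3 n5941 = n3234 := d9_1 D5941 (iv D3234) (iv D1516) (iv D628) D627 D1514 D3229
theorem F5152 : act 2 n5941 = n3247 := d11_2 F5145 D5941 F2342 (iv F3421) (iv D3287) (iv F2386) (iv F5146)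
theorem E706 : n3260 = n3234 := (c7_4 (iv F5151) F5152 F2343 D3260)
theorem F5153 : act 2 n3234 = n1528 := (sb E706 (iv D3260))
def n5942 : Q := act 3 n3230
theorem D5942 : act 3 n3230 = n5942 := rfl
theorem F5154 : act 1 n5942 = n3231 := d5_1 D5942 (iv D3231) D3230
def n5943 : Q := act 0 n3231
theorem D5943 : act 0 n3231 = n5943 := rfl
theorem F5155 : act 2 n5943 = n3271 := d10_2 D3231 D5943 (iv D3271) (iv D1535) F313 D643 (iv F841)
def n5944 : Q := act 4 n3231
theorem D5944 : act 4 n3231 = n5944 := rfl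
theorem F5156 : act 2 n5944 = n3255 := d8_1 D5944 (iv D3255) F847 D1528 (iv F5153) (iv D3234) (iv F2328)
def n5945 : Q := act 2 n3233
theorem D5945 : act 2 n3233 = n5945 := rfl
theorem F5157 : act 0 n5945 = n3269 := d1_1 D5945 F2365 D3271 (iv F5155) (iv D5943) F2328 D3233
def n5946 : Q := act 4 n3233
theorem D5946 : act 4 n3233 = n5946 := rfl
theorem F5158 : act 0 n5946 = n3234 := d3_1 D5946 (iv D3234) D3233
def n5947 : Q := act 4 n3235
theorem D5947 : act 4 n3235 = n5947 := rfl
theorem F5159 : act 0 n5947 = n5947 := d3_1 D5947 (iv D5947) F2331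
theorem F5160 : act 2 n5947 = n4305 := d11_2 D3235 D5947 (iv F3998) (iv D4883) (iv D2549) (iv F1650) F1649
theorem F5161 : act 3 n5020 = n5947 := d7_0 F5160 F3997 D5020
def n5948 : Q := act 2 n3236
theorem D5948 : act 2 n3236 = n5948 := rfl
theorem F5162 : act 0 n5948 = n5948 := d11_3 (iv D3235) D3236 D5948 (iv D5948) (iv D3236) D3235 F2331
def n5949 : Q := act 3 n3236
theorem D5949 : act 3 n3236 = n5949 := rfl
theorem F5163 : act 1 n5949 = n3242 := d5_1 D5949 (iv D3242) (iv F2333)
theorem F5164 : act 0 n5949 = n3505 := d12_3 (iv F1648) D3236 D5949 (iv D3505) (iv D1662) (iv F358) D1109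
theorem F5165 : act 4 n5023 = n5949 := d3_0 F5164 F3408 D5023
def n5950 : Q := act 0 n3237
theorem D5950 : act 0 n3237 = n5950 := rfl
def n5951 : Q := act 2 n3237
theorem D5951 : act 2 n3237 = n5951 := rfl
theorem F5166 : act 1 n5951 = n5151 := d4_1 D5951 F4142 F2435 (iv D3235) (iv D1517) D1518 D3237
theorem F5167 : act 3 n5150 = n5951 := d5_0 F5166 (iv D5151) D5150
def n5952 : Q := act 3 n3237
theorem D5952 : act 3 n3237 = n5952 := rfl
theorem F5168 : act 1 n5952 = n3238 := d5_1 D5952 (iv D3238) D3237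
theorem F5169 : act 2 n5952 = n5150 := d7_1 D5952 F5167 (iv D5951)
theorem F5170 : act 0 n4741 = n5952 := d1_7 F5169 F4140 F3887 (iv F3572) (iv F3738) (iv D4740) D4741
def n5953 : Q := act 4 n3237
theorem D5953 : act 4 n3237 = n5953 := rfl
theorem F5171 : act 1 n5953 = n3239 := d6_1 D5953 (iv D3239) D3237
def n5954 : Q := act 4 n3238
theorem D5954 : act 4 n3238 = n5954 := rfl
theorem F5172 : act 0 n5954 = n3280 := d3_1 D5954 (iv D3280) (iv F2334)
theorem F5173 : act 3 n5954 = n3271 := d12_2 D3238 D5954 (iv D3271) (iv D1535) (iv D636) D635 (iv F842)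
def n5955 : Q := act 3 n3239
theorem D5955 : act 3 n3239 = n5955 := rfl
theorem F5174 : act 0 n5955 = n3282 := d2_1 D5955 (iv D3282) F862 D1543 (iv F2362) (iv D3267) (iv F2336)
def n5956 : Q := act 2 n3240
theorem D5956 : act 2 n3240 = n5956 := rfl
theorem F5175 : act 3 n5956 = n3258 := d7_2 (iv F2339) D5956 (iv D3258)
theorem F5176 : act 0 n5956 = n3334 := d10_3 (iv F880) (iv F2337) D5956 (iv D3334) (iv D1570) F320 D655
def n5957 : Q := act 0 n3241
theorem D5957 : act 0 n3241 = n5957 := rfl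
theorem F5177 : act 2 n5957 = n3264 := d1_2 D3241 D5957 (iv F5137) F5138 (iv D3243) (iv D1521) (iv F844)
theorem F5178 : act 3 n5957 = n3317 := d10_4 (iv D1522) (iv F844) D3241 D5957 (iv D3317) F881 (iv F845)
theorem F5179 : act 4 n3325 = n5957 := d12_1 D3325 F5178 (iv D3317) (iv D1560) D1561 (iv F3086) (iv F884)
def n5958 : Q := act 1 n3241
theorem D5958 : act 1 n3241 = n5958 := rfl
def n5959 : Q := act 3 n3241
theorem D5959 : act 3 n3241 = n5959 := rfl
theorem F5180 : act 0 n5959 = n3311 := d2_1 D5959 (iv D3311) (iv D1558) D1560 D3317 (iv F5178) (iv D5957)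
theorem F5181 : act 2 n5959 = n3242 := d7_1 D5959 (iv D3242) D3241
def n5960 : Q := act 4 n3241
theorem D5960 : act 4 n3241 = n5960 := rfl
theorem F5182 : act 0 n5960 = n3325 := d3_1 D5960 F5179 (iv D5957)
def n5961 : Q := act 4 n3242
theorem D5961 : act 4 n3242 = n5961 := rfl
theorem F5183 : act 0 n5961 = n3309 := d3_1 D5961 (iv D3309) (iv F2340)
theorem F5184 : act 1 n5961 = n5023 := d6_1 D5961 F5165 F5163
theorem F5185 : act 3 n5961 = n3259 := d9_1 D5961 (iv D3259) (iv F2339) (iv D3240) (iv D1519) D1520 D3242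
def n5962 : Q := act 1 n3243
theorem D5962 : act 1 n3243 = n5962 := rfl
def n5963 : Q := act 3 n3243
theorem D5963 : act 3 n3243 = n5963 := rfl
theorem F5186 : act 0 n5963 = n3307 := d10_1 D5963 F2410 (iv F2340) (iv D3242) F844 D1521 D3243
def n5964 : Q := act 4 n3243
theorem D5964 : act 4 n3243 = n5964 := rfl
theorem F5187 : act 0 n5964 = n3246 := d3_1 D5964 (iv D3246) D3243
def n5965 : Q := act 0 n3244
theorem D5965 : act 0 n3244 = n5965 := rfl
theorem F5188 : act 2 n5965 = n5965 := d13_4 F5138 (iv D3243) D3244 D5965 (iv D5965) (iv D3244) D3243 (iv F5138) F5137 F2359 (iv F5137)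
def n5966 : Q := act 2 n3244
theorem D5966 : act 2 n3244 = n5966 := rfl
def n5967 : Q := act 3 n3244
theorem D5967 : act 3 n3244 = n5967 := rfl
theorem F5189 : act 1 n5967 = n3245 := d5_1 D5967 (iv D3245) D3244
def n5968 : Q := act 4 n3244
theorem D5968 : act 4 n3244 = n5968 := rfl
theorem F5190 : act 1 n5968 = n3246 := d6_1 D5968 (iv D3246) D3244
theorem F5191 : act 3 n3253 = n5968 := d5_0 F5190 F5149 (iv F2350)
def n5969 : Q := act 0 n3245
theorem D5969 : act 0 n3245 = n5969 := rfl
theorem F5192 : act 3 n5969 = n3305 := d2_2 D3245 D5969 (iv D3305) D3307 (iv F5186) (iv D5963) (iv D3243)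
theorem F5193 : act 2 n4674 = n5969 := d7_3 F5192 F2409 D4674
def n5970 : Q := act 4 n3245
theorem D5970 : act 4 n3245 = n5970 := rfl
theorem F5194 : act 3 n5970 = n3255 := d9_1 D5970 (iv D3255) (iv D1525) D1526 (iv F5149) (iv D3246) D3245
def n5971 : Q := act 4 n3248
theorem D5971 : act 4 n3248 = n5971 := rfl
theorem F5195 : act 0 n5971 = n3344 := d3_1 D5971 (iv D3344) (iv F2345)
theorem F5196 : act 2 n5971 = n4681 := d8_1 D5971 (iv D4681) F1501 D2423 (iv F3665) (iv D4675) (iv F2344)
def n5972 : Q := act 3 n3249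
theorem D5972 : act 3 n3249 = n5972 := rfl
theorem F5197 : act 2 n5972 = n4682 := d7_1 D5972 (iv D4682) (iv F2347)
theorem F5198 : act 4 n5972 = n3305 := d12_1 D5972 (iv F5192) (iv D5969) (iv D3245) D3246 F5149 (iv F2346)
theorem F5199 : act 0 n3308 = n5972 := d3_3 F5198 (iv D3305) D3308
theorem E707 : n4682 = n4678 := ((c8_7 F5198 F2409 (iv D2415) F556 D1039 D2417 D4678 (iv F5197))).symm
theorem F5200 : act 2 n4678 = n5972 := (sb E707 (iv F5197))
theorem F5201 : act 3 n4678 = n2421 := (sb E707 (iv D4682))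
def n5973 : Q := act 3 n3250
theorem D5973 : act 3 n3250 = n5973 := rfl
theorem F5202 : act 2 n5973 = n5973 := d7_1 D5973 (iv D5973) F2348
def n5974 : Q := act 3 n3251
theorem D5974 : act 3 n3251 = n5974 := rfl
theorem F5203 : act 2 n5974 = n3252 := d7_1 D5974 (iv D3252) D3251
def n5975 : Q := act 4 n3251
theorem D5975 : act 4 n3251 = n5975 := rfl
theorem F5204 : act 0 n5975 = n5234 := d3_1 D5975 F4235 F2729
def n5976 : Q := act 0 n3252
theorem D5976 : act 0 n3252 = n5976 := rfl
theorem F5205 : act 2 n5976 = n5976 := d10_2 D3252 D5976 (iv D5976) (iv D3252) D3250 F2348 (iv D3250)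
def n5977 : Q := act 4 n3252
theorem D5977 : act 4 n3252 = n5977 := rfl
theorem F5206 : act 1 n5977 = n3255 := d6_1 D5977 (iv D3255) (iv F2349)
def n5978 : Q := act 1 n3254
theorem D5978 : act 1 n3254 = n5978 := rfl
def n5979 : Q := act 2 n3254
theorem D5979 : act 2 n3254 = n5979 := rfl
theorem F5207 : act 0 n5979 = n3265 := d1_1 D5979 F2361 (iv F2352) (iv D3258) (iv D1527) (iv F847) D3254
def n5980 : Q := act 3 n3254
theorem D5980 : act 3 n3254 = n5980 := rfl
theorem F5208 : act 0 n5980 = n3304 := d2_1 D5980 F2408 (iv F2345) (iv D3248) (iv D1523) D1525 D3254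
def n5981 : Q := act 4 n3254
theorem D5981 : act 4 n3254 = n5981 := rfl
theorem F5209 : act 0 n5981 = n3255 := d3_1 D5981 (iv D3255) D3254
def n5982 : Q := act 2 n3257
theorem D5982 : act 2 n3257 = n5982 := rfl
theorem F5210 : act 3 n5982 = n4889 := d7_2 (iv F2351) D5982 (iv D4889)
theorem F5211 : act 0 n5982 = n5982 := d15_7 (iv F5124) (iv D5923) F2316 F836 D1527 D3257 D5982 (iv D5982) (iv D3257) (iv D1527) (iv F836) D3220
def n5983 : Q := act 4 n3257
theorem D5983 : act 4 n3257 = n5983 := rfl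
theorem F5212 : act 1 n5983 = n3259 := d6_1 D5983 (iv D3259) D3257
theorem F5213 : act 3 n5983 = n5023 := d9_1 D5983 F5165 (iv D5949) (iv D3236) F1648 D2553 (iv F2351)
def n5984 : Q := act 1 n3258
theorem D5984 : act 1 n3258 = n5984 := rfl
def n5985 : Q := act 4 n3258
theorem D5985 : act 4 n3258 = n5985 := rfl
theorem F5214 : act 0 n5985 = n3324 := d3_1 D5985 (iv D3324) (iv F2352)
def n5986 : Q := act 2 n3259
theorem D5986 : act 2 n3259 = n5986 := rfl
theorem F5215 : act 4 n5986 = n3271 := d11_1 D5986 (iv F5155) (iv D5943) F2328 D3234 F5153 (iv F2353)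
theorem F5216 : act 0 n3272 = n5986 := d3_3 F5215 (iv D3271) D3272
def n5987 : Q := act 1 n3261
theorem D5987 : act 1 n3261 = n5987 := rfl
theorem F5217 : act 3 n5987 = n5293 := d5_2 (iv F2355) D5987 F4293
def n5988 : Q := act 4 n3261
theorem D5988 : act 4 n3261 = n5988 := rfl
theorem F5218 : act 0 n5988 = n3262 := d3_1 D5988 (iv D3262) D3261
theorem F5219 : act 2 n5988 = n5051 := d11_2 (iv F2354) D5988 (iv D5051) (iv D2665) (iv D1176) (iv F648) D2659
def n5989 : Q := act 2 n3262
theorem D5989 : act 2 n3262 = n5989 := rfl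
theorem F5220 : act 0 n5989 = n5049 := d1_1 D5989 (iv D5049) F1748 D2665 D5051 (iv F5219) F5218
theorem F5221 : act 3 n5121 = n5989 := d10_0 F5220 (iv D5049) F1748 D2666 F1750 (iv F1793) D5121
def n5990 : Q := act 3 n3262
theorem D5990 : act 3 n3262 = n5990 := rfl
theorem F5222 : act 1 n5990 = n3267 := d5_1 D5990 (iv D3267) (iv F2356)
theorem F5223 : act 2 n5990 = n5121 := d7_1 D5990 F5221 (iv D5989)
def n5991 : Q := act 0 n3263
theorem D5991 : act 0 n3263 = n5991 := rfl
theorem F5224 : act 2 n5991 = n5062 := d1_2 (iv F2358) D5991 (iv D5062) F1752 D2671 D5065 F4041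
theorem F5225 : act 3 n5991 = n5599 := d2_2 D3263 D5991 F4606 F4127 F4126 (iv D4528) F1416
def n5992 : Q := act 4 n3263
theorem D5992 : act 4 n3263 = n5992 := rfl
theorem F5226 : act 1 n5992 = n3272 := d6_1 D5992 (iv D3272) (iv F2357)
def n5993 : Q := act 3 n3264
theorem D5993 : act 3 n3264 = n5993 := rfl
theorem F5227 : act 1 n5993 = n5993 := d5_1 D5993 (iv D5993) F2359
theorem F5228 : act 2 n5993 = n3317 := d7_1 D5993 (iv F5178) F5177
theorem F5229 : act 0 n5993 = n4674 := d10_1 D5993 F5193 (iv D5969) (iv D3245) D3243 (iv F5138) F5137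
def n5994 : Q := act 4 n3265
theorem D5994 : act 4 n3265 = n5994 := rfl
theorem F5230 : act 1 n5994 = n5994 := d6_1 D5994 (iv D5994) F2360
theorem F5231 : act 2 n5994 = n3272 := d11_2 (iv F2361) D5994 F5216 (iv D5986) (iv D3259) D3258 F2352
def n5995 : Q := act 1 n3266
theorem D5995 : act 1 n3266 = n5995 := rfl
def n5996 : Q := act 3 n3266
theorem D5996 : act 3 n3266 = n5996 := rfl
theorem F5232 : act 2 n5996 = n3267 := d7_1 D5996 (iv D3267) D3266
theorem F5233 : act 0 n5996 = n4677 := d10_1 D5996 F3666 (iv F2327) (iv D3229) (iv F2326) D5935 F5142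
def n5997 : Q := act 4 n3266
theorem D5997 : act 4 n3266 = n5997 := rfl
theorem F5234 : act 2 n5997 = n3325 := d8_1 D5997 F5179 F5177 (iv D3264) F853 D1533 D3266
theorem F5235 : act 3 n5997 = n3270 := d12_2 (iv D5996) D5997 F2366 (iv F5201) (iv D4678) D4677 (iv F5233)
def n5998 : Q := act 4 n3267
theorem D5998 : act 4 n3267 = n5998 := rfl
theorem F5236 : act 0 n5998 = n3287 := d3_1 D5998 (iv D3287) (iv F2362)
theorem F5237 : act 3 n5998 = n3272 := d9_1 D5998 (iv D3272) (iv D1535) (iv D636) D635 D1533 D3267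
def n5999 : Q := act 3 n3268
theorem D5999 : act 3 n3268 = n5999 := rfl
theorem F5238 : act 1 n5999 = n3269 := d5_1 D5999 (iv D3269) D3268
theorem F5239 : act 2 n5999 = n4320 := d7_1 D5999 (iv D4320) F2364
def n6000 : Q := act 4 n3268
theorem D6000 : act 4 n3268 = n6000 := rfl
theorem F5240 : act 0 n6000 = n3460 := d3_1 D6000 (iv F2518) (iv F2363)
theorem F5241 : act 1 n6000 = n3270 := d6_1 D6000 (iv D3270) D3268
theorem F5242 : act 2 n6000 = n4346 := d8_1 D6000 (iv D4346) (iv F3256) (iv D4318) (iv D2119) D2121 F2364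
def n6001 : Q := act 4 n3269
theorem D6001 : act 4 n3269 = n6001 := rfl
theorem F5243 : act 2 n6001 = n3324 := d8_1 D6001 (iv D3324) (iv F2361) D5994 F5231 (iv D3272) (iv F2365)
def n6002 : Q := act 1 n3271
theorem D6002 : act 1 n3271 = n6002 := rfl
def n6003 : Q := act 4 n3273
theorem D6003 : act 4 n3273 = n6003 := rfl
theorem F5244 : act 1 n6003 = n3287 := d6_1 D6003 (iv D3287) (iv F2368)
theorem F5245 : act 3 n6003 = n3274 := d9_1 D6003 (iv D3274) (iv D1537) (iv D640) D639 D1536 D3273
def n6004 : Q := act 4 n3275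
theorem D6004 : act 4 n3275 = n6004 := rfl
theorem F5246 : act 0 n6004 = n3277 := d3_1 D6004 (iv D3277) D3275
theorem F5247 : act 2 n6004 = n5444 := d11_2 (iv F2370) D6004 (iv D5444) (iv D2892) (iv D1289) D1287 D2888
def n6005 : Q := act 4 n3276
theorem D6005 : act 4 n3276 = n6005 := rfl
theorem F5248 : act 0 n6005 = n4577 := d3_1 D6005 (iv D4577) (iv F2373)
theorem F5249 : act 1 n6005 = n3280 := d6_1 D6005 (iv D3280) (iv F2371)
theorem F5250 : act 3 n3293 = n6005 := d5_0 F5249 F2382 D3293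
theorem F5251 : act 2 n5560 = n6005 := d16_10 F5173 (iv D3271) (iv D1535) (iv F850) F851 D2706 (iv F1831) D3134 D5828 (iv F4977) F5249 (iv F5172)
def n6006 : Q := act 3 n3277
theorem D6006 : act 3 n3277 = n6006 := rfl
theorem F5252 : act 1 n6006 = n3282 := d5_1 D6006 (iv D3282) (iv F2374)
theorem F5253 : act 2 n6006 = n5471 := d7_1 D6006 (iv D5471) (iv F2375)
def n6007 : Q := act 4 n3278
theorem D6007 : act 4 n3278 = n6007 := rfl
theorem F5254 : act 1 n6007 = n4807 := d6_1 D6007 (iv D4807) F2377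
theorem F5255 : act 2 n6007 = n3334 := d11_2 (iv F2376) D6007 (iv F5176) (iv D5956) (iv D3240) (iv F2335) F2334
theorem F5256 : act 3 n6007 = n3333 := d12_2 D3278 D6007 F2428 (iv D2416) (iv D1038) D1037 (iv F861)
theorem F5257 : act 3 n3941 = n4807 := d5_2 F5256 (iv F2947) (iv F5254)
theorem F5258 : act 2 n4807 = n3942 := d7_1 F5257 (iv D3942) D3941
def n6008 : Q := act 3 n3279
theorem D6008 : act 3 n3279 = n6008 := rfl
theorem F5259 : act 2 n6008 = n3311 := d7_1 D6008 (iv D3311) (iv F2381)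
def n6009 : Q := act 2 n3280
theorem D6009 : act 2 n3280 = n6009 := rfl
theorem F5260 : act 3 n6009 = n3294 := d7_2 (iv F2382) D6009 (iv D3294)
def n6010 : Q := act 1 n3281
theorem D6010 : act 1 n3281 = n6010 := rfl
theorem F5261 : act 2 n4188 = n6010 := d15_8 (iv D5367) (iv D2851) D2852 F1917 D2937 (iv F4441) (iv D4194) (iv F3142) (iv D6010) F2383 D4676 (iv F4356)
def n6011 : Q := act 3 n3281
theorem D6011 : act 3 n3281 = n6011 := rfl
theorem F5262 : act 2 n6011 = n3282 := d7_1 D6011 (iv D3282) D3281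
def n6012 : Q := act 4 n3281
theorem D6012 : act 4 n3281 = n6012 := rfl
theorem F5263 : act 0 n6012 = n4678 := d3_1 D6012 (iv D4678) (iv F2383)
theorem F5264 : act 2 n6012 = n3312 := d8_1 D6012 (iv D3312) (iv F2381) (iv D3279) (iv D1539) D1541 D3281
def n6013 : Q := act 4 n3282
theorem D6013 : act 4 n3282 = n6013 := rfl
theorem F5265 : act 3 n6013 = n3295 := d9_1 D6013 (iv D3295) (iv F2382) (iv D3280) (iv D1540) D1541 D3282
def n6014 : Q := act 1 n3283
theorem D6014 : act 1 n3283 = n6014 := rfl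
def n6015 : Q := act 3 n3283
theorem D6015 : act 3 n3283 = n6015 := rfl
theorem F5266 : act 2 n6015 = n3303 := d7_1 D6015 (iv D3303) (iv F2384)
def n6016 : Q := act 4 n3283
theorem D6016 : act 4 n3283 = n6016 := rfl
theorem F5267 : act 0 n6016 = n3286 := d3_1 D6016 (iv D3286) D3283
theorem F5268 : act 2 n6016 = n3308 := d8_1 D6016 (iv D3308) (iv D1556) (iv D648) D646 D1554 (iv F2384)
def n6017 : Q := act 2 n3284
theorem D6017 : act 2 n3284 = n6017 := rfl
theorem F5269 : act 0 n6017 = n5520 := d1_1 D6017 (iv D5520) (iv D2937) (iv D1313) D1312 D2935 (iv F2385)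
theorem F5270 : act 4 n6017 = n5528 := d11_1 D6017 F4559 (iv F3036) (iv D4043) (iv F1185) D2935 (iv F2385)
def n6018 : Q := act 3 n3284
theorem D6018 : act 3 n3284 = n6018 := rfl
theorem F5271 : act 1 n6018 = n3285 := d5_1 D6018 (iv D3285) D3284
theorem F5272 : act 0 n6018 = n5527 := d10_1 D6018 (iv D5527) (iv D2940) (iv D1314) D1312 D2935 (iv F2385)
theorem E708 : n5546 = n1720 := (c12_6 D3608 F3087 D6018 F5272 F4558 D5546 (iv D1720) D1718)
theorem E709 : n3716 = n727 := (((F1015).symm.trans (sb E708 (iv F4735)))).symm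
theorem E710 : n3611 = n2956 := ((D3611).symm.trans (sb E708 (iv D5546)))
theorem E711 : n1788 = n285 := (((F374).symm.trans (sb E709 F2741))).symm
theorem E712 : n1776 = n1722 := (((D1722).symm.trans (sb E709 (iv D3716)))).symm
theorem F5273 : act 4 n2956 = n1720 := (sb E710 (iv D3611))
theorem E713 : n3736 = n729 := (((D729).symm.trans (sb E711 (iv F2747)))).symm
theorem E714 : n2887 = n517 := ((((iv F251)).symm.trans (sb E711 F3378))).symm
theorem E716 : n759 = n730 := (((D730).symm.trans (sb E711 (iv D1788)))).symm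
theorem E717 : n3713 = n3614 := ((((iv F2676)).symm.trans (sb E712 D3713))).symm
theorem F5274 : act 1 n1722 = n2956 := (sb E712 (iv F4733))
theorem E718 : n3615 = n754 := ((D3615).symm.trans (sb E712 (iv D1776)))
theorem E719 : n3676 = n3604 := ((((iv F2795)).symm.trans (sb E712 (iv F2789)))).symm
theorem E720 : n1786 = n1726 := (((D1726).symm.trans (sb E713 (iv D3736)))).symm
theorem E721 : n5438 = n1257 := (((D1257).symm.trans (sb E714 (iv F4417)))).symm
theorem E722 : n5420 = n1255 := ((((iv F708)).symm.trans (sb E714 (iv F4403)))).symm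
theorem E724 : n1286 = n1258 := (((D1258).symm.trans (sb E714 (iv D2887)))).symm
theorem E725 : n1727 = n297 := ((D1727).symm.trans (sb E716 (iv D759)))
theorem F5275 : act 2 n3614 = n1784 := (sb E717 F2739)
theorem F5276 : act 2 n754 = n1722 := (sb E718 (iv D3615))
theorem F5277 : act 1 n3604 = n5527 := (sb E719 F4734)
theorem F5278 : act 2 n3604 = n1757 := (sb E719 (iv D3676))
theorem E728 : n3709 = n3624 := (((D3624).symm.trans (sb E720 (iv F2737)))).symm
theorem E730 : n2885 = n2830 := (((D2830).symm.trans (sb E721 (iv D5438)))).symm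
theorem E731 : n2875 = n2826 := (((D2826).symm.trans (sb E722 (iv D5420)))).symm
theorem E732 : n2831 = n529 := ((D2831).symm.trans (sb E724 (iv D1286)))
theorem F5279 : act 2 n297 = n730 := (sb E725 (iv D1727))
theorem E736 : n3606 = n745 := ((((iv F383)).symm.trans (sb E725 (iv F2667)))).symm
theorem F5280 : act 4 n3624 = n1773 := (sb E728 (iv D3709))
theorem E741 : n5413 = n5333 := (((D5333).symm.trans (sb E730 (iv F4398)))).symm
theorem E742 : n5437 = n5304 := ((((iv F4305)).symm.trans (sb E730 D5437))).symm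
theorem E743 : n5417 = n5323 := ((((iv F4325)).symm.trans (sb E731 D5417))).symm
theorem E745 : n5324 = n1281 := ((D5324).symm.trans (sb E731 (iv D2875)))
theorem E746 : n5379 = n5312 := ((((iv F4442)).symm.trans (sb E731 (iv F4433)))).symm
theorem F5281 : act 2 n529 = n1258 := (sb E732 (iv D2831))
theorem E749 : n5314 = n1272 := ((((iv F720)).symm.trans (sb E732 (iv F4313)))).symm
theorem F5282 : act 2 n745 = n1717 := (sb E736 (iv D3606))
theorem F5283 : act 0 n5333 = n3274 := (sb E741 F4397)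
theorem F5284 : act 4 n5333 = n2872 := (sb E741 (iv D5413))
theorem F5285 : act 0 n5304 = n4503 := (sb E742 F4416)
theorem F5286 : act 2 n5323 = n2883 := (sb E743 F4401)
theorem F5287 : act 2 n1281 = n2826 := (sb E745 (iv D5324))
theorem F5288 : act 2 n5312 = n2856 := (sb E746 (iv D5379))
theorem F5289 : act 2 n1272 = n2821 := (sb E749 (iv D5314))
theorem E753 : n5291 = n5276 := (c10_6 (iv F1856) F1855 F5289 (iv F4280) F4281 (iv F4291) (iv D5276) F1870)
theorem F5290 : act 0 n5276 = n2809 := (sb E753 F4291)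
theorem E754 : n4129 = n4109 := ((F4274).symm.trans (sb E753 F4292))
theorem F5291 : act 4 n5276 = n2808 := (sb E753 (iv D5291))
theorem F5292 : act 1 n4109 = n5276 := (sb E754 (iv F4274))
theorem F5293 : act 2 n4109 = n2021 := (sb E754 (iv D4129))
theorem F5294 : act 3 n4109 = n2281 := (sb E754 F3392)
theorem E755 : n5258 = n5232 := ((c11_6 F5289 (iv D2821) (iv F1889) (iv F4228) F4227 D5232 (iv D5258) F1855)).symm
theorem F5295 : act 2 n5232 = n2787 := (sb E755 (iv D5258))
theorem E756 : n2800 = n2779 := (((F4230).symm.trans (sb E755 F4258))).symm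
theorem E758 : n5278 = n5225 := ((((iv F4223)).symm.trans (sb E756 D5278))).symm
theorem E759 : n5242 = n1242 := ((D5242).symm.trans (sb E756 (iv D2800)))
theorem F5296 : act 2 n5225 = n5225 := (sb E758 (tr F4276 E758))
theorem F5297 : act 2 n1242 = n2779 := (sb E759 (iv D5242))
theorem E761 : n5270 = n5238 := ((c8_5 D1242 F5297 (iv D2779) (iv F1847) D5238 (iv D5270) (iv D2796) F698)).symm
theorem F5298 : act 2 n5238 = n2796 := (sb E761 (iv D5270))
theorem E762 : n4524 = n4104 := (c9_3 D4109 F5294 D4524 (iv D4104) (iv D2008) (iv D853) D854 D2010)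
theorem F5299 : act 4 n4104 = n2281 := (sb E762 (iv D4524))
theorem F5300 : act 4 n4503 = n5243 := d6_2 F5299 (iv F3466) F4246
theorem E763 : n5292 = n5281 := (c11_5 (iv D2798) D2799 D5276 F5290 D5292 (iv D5281) F1872 (iv F1869))
theorem F5301 : act 2 n5281 = n2809 := (sb E763 (iv D5292))
theorem E764 : n5390 = n5289 := ((c8_5 D5281 F5301 (iv D2809) (iv F1875) D5289 (iv D5390) (iv D2862) (iv F1872))).symm
theorem F5302 : act 2 n5289 = n2862 := (sb E764 (iv D5390))
theorem E765 : n5415 = n5332 := ((c11_6 F5287 (iv D2826) F708 D1257 D2829 D5332 (iv D5415) F1939)).symm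
theorem F5303 : act 2 n5332 = n2874 := (sb E765 (iv D5415))
theorem F5304 : act 2 n4343 = n5261 := d1_4 (iv F5287) (iv F1939) (iv F5303) (iv F5110) F4262 (iv F5286) F4325
theorem F5305 : act 1 n5565 = n5319 := d17_11 D5320 F4322 (iv F5287) (iv D1281) F255 F88 D211 D551 D1334 D2969 D5565 (iv D5319)
theorem F5306 : act 1 n5261 = n3419 := d4_1 F5304 (iv D3419) F910 F3387 (iv F477) D2132 D4343
theorem E766 : n5433 = n5217 := (c8_6 F5111 F5304 (iv D5261) F1858 D3274 (iv F4414) (iv D5217) (iv F4211))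
theorem F5307 : act 0 n5217 = n2884 := (sb E766 (iv D5433))
theorem E767 : n3386 = n3369 := (((F4215).symm.trans (sb E766 (iv F4415)))).symm
theorem F5308 : act 2 n5217 = n3274 := (sb E766 F4414)
theorem F5309 : act 2 n3369 = n1595 := (sb E767 (iv D3386))
theorem E768 : n5435 = n5216 := (c3_3 D5217 F5307 D5435 (iv D5216))
theorem F5310 : act 4 n5216 = n2884 := (sb E768 (iv D5435))
theorem E769 : n5359 = n5348 := (c9_2 F5310 (iv F4353) (iv D5348) (iv D2841) (iv D1264) D1263 D2840 (iv F4214))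
theorem F5311 : act 2 n5348 = n2847 := (sb E769 (iv D5359))
theorem F5312 : act 3 n5348 = n2884 := (sb E769 F4353)
theorem F5313 : act 4 n3419 = n5260 := d6_2 D5261 F5306 F4261
theorem E770 : n3577 = n3551 := (c10_6 (iv F978) F977 F5282 (iv F2630) F2631 (iv F2639) (iv D3551) F987)
theorem F5314 : act 0 n3551 = n1702 := (sb E770 F2639)
theorem F5315 : act 4 n3551 = n1701 := (sb E770 (iv D3577))
theorem E771 : n3526 = n3490 := ((c11_6 F5282 (iv D1717) (iv F1010) (iv F2551) F2550 D3490 (iv D3526) F977)).symm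
theorem F5316 : act 2 n3490 = n1673 := (sb E771 (iv D3526))
theorem E772 : n1687 = n1660 := (((F2553).symm.trans (sb E771 F2587))).symm
theorem E775 : n3501 = n711 := ((D3501).symm.trans (sb E772 (iv D1687)))
theorem F5317 : act 2 n711 = n1660 := (sb E775 (iv D3501))
theorem F5318 : act 4 n5527 = n3602 := d17_0 F2664 F1010 D1717 (iv F5282) F382 (iv F330) (iv F882) (iv F3421) (iv D3287) (iv F2386) (iv F5271) F5272
theorem E777 : n3542 = n3496 := ((c8_5 D711 F5317 (iv D1660) (iv F962) D3496 (iv D3542) (iv D1682) F364)).symm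
theorem F5319 : act 2 n3496 = n1682 := (sb E777 (iv D3542))
theorem E778 : n3578 = n3567 := (c11_5 (iv D1685) D1686 D3551 F5314 D3578 (iv D3567) F999 (iv F986))
theorem F5320 : act 2 n3567 = n1702 := (sb E778 (iv D3578))
theorem E779 : n3688 = n3574 := ((c8_5 D3567 F5320 (iv D1702) (iv F1001) D3574 (iv D3688) (iv D1764) (iv F999))).symm
theorem F5321 : act 2 n3574 = n1764 := (sb E779 (iv D3688))
theorem E780 : n3711 = n3623 := (c8_4 F5280 (iv D1773) D1775 D3711 (iv D3623) (iv D1725) D1726 D3624)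
theorem F5322 : act 2 n3623 = n1775 := (sb E780 (iv D3711))
theorem E781 : n3733 = n3463 := ((c11_5 F5279 (iv D730) (iv F374) D1721 (iv F2524) (iv D3733) (iv D1785) F388)).symm
theorem F5323 : act 4 n3463 = n1785 := (sb E781 (iv D3733))
theorem F5324 : act 1 n3610 = n3947 := d17_7 D119 (iv F125) F5279 (iv D730) (iv F374) (iv F1015) D3610 (iv D3947) (iv D1910) (iv D811) (iv D320) (iv D118)
theorem F5325 : act 4 n5544 = n3610 := d17_0 F5324 (iv D3947) (iv D1910) (iv D811) (iv D320) (iv D118) (iv F42) (iv F124) D754 F5276 F5274 D5544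
theorem E782 : n3731 = n3464 := (c3_2 F5323 D3731 (iv D3464) D3463)
theorem F5326 : act 0 n3464 = n1785 := (sb E782 (iv D3731))
theorem E783 : n3657 = n3646 := (c9_2 F5323 (iv F2706) (iv D3646) (iv D1742) (iv D737) D736 D1741 (iv F2525))
theorem F5327 : act 2 n3646 = n1748 := (sb E783 (iv D3657))
theorem F5328 : act 3 n3646 = n1785 := (sb E783 F2706)
theorem F5329 : act 4 n3609 = n5535 := d8_2 F5273 (iv F2673) (iv D5535) (iv D2949) F748 D1325 D2956
def n6019 : Q := act 4 n3285
theorem D6019 : act 4 n3285 = n6019 := rfl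
theorem F5330 : act 2 n6019 = n3318 := d8_1 D6019 (iv D3318) F881 D1562 (iv F3421) (iv D3287) (iv F2386)
theorem F5331 : act 3 n6019 = n3291 := d9_1 D6019 (iv D3291) (iv D1545) D1546 (iv F3085) (iv D3286) D3285
def n6020 : Q := act 3 n3288
theorem D6020 : act 3 n3288 = n6020 := rfl
theorem F5332 : act 2 n6020 = n3289 := d7_1 D6020 (iv D3289) D3288
theorem F5333 : act 0 n6020 = n5532 := d10_1 D6020 (iv D5532) (iv D2948) (iv D1322) D1321 D2945 (iv F2389)
def n6021 : Q := act 4 n3289
theorem D6021 : act 4 n3289 = n6021 := rfl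
theorem F5334 : act 0 n6021 = n5542 := d3_1 D6021 (iv D5542) (iv F2392)
theorem F5335 : act 1 n6021 = n3291 := d6_1 D6021 (iv D3291) (iv F2391)
def n6022 : Q := act 1 n3290
theorem D6022 : act 1 n3290 = n6022 := rfl
def n6023 : Q := act 3 n3290
theorem D6023 : act 3 n3290 = n6023 := rfl
theorem F5336 : act 2 n6023 = n3302 := d7_1 D6023 F2407 (iv F2393)
def n6024 : Q := act 4 n3290
theorem D6024 : act 4 n3290 = n6024 := rfl
theorem F5337 : act 0 n6024 = n3291 := d3_1 D6024 (iv D3291) D3290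
theorem F5338 : act 2 n6024 = n3344 := d8_1 D6024 (iv D3344) (iv D1574) D1575 D3345 (iv F3419) (iv F2393)
def n6025 : Q := act 0 n3293
theorem D6025 : act 0 n3293 = n6025 := rfl
theorem F5339 : act 2 n6025 = n5555 := d1_2 (iv F2395) D6025 (iv D5555) (iv D2965) (iv D1333) D1334 D2967
def n6026 : Q := act 4 n3293
theorem D6026 : act 4 n3293 = n6026 := rfl
theorem F5340 : act 1 n6026 = n3295 := d6_1 D6026 (iv D3295) D3293
theorem F5341 : act 2 n6026 = n5567 := d11_2 (iv F2395) D6026 (iv D5567) (iv D2970) (iv D1335) D1334 D2967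
def n6027 : Q := act 1 n3294
theorem D6027 : act 1 n3294 = n6027 := rfl
def n6028 : Q := act 4 n3294
theorem D6028 : act 4 n3294 = n6028 := rfl
theorem F5342 : act 0 n6028 = n4681 := d3_1 D6028 (iv D4681) (iv F2396)
theorem F5343 : act 2 n6028 = n3335 := d11_2 D3294 D6028 F2429 (iv F3422) (iv D3291) F872 D1547
def n6029 : Q := act 2 n3295
theorem D6029 : act 2 n3295 = n6029 := rfl
theorem F5344 : act 0 n6029 = n4675 := d1_1 D6029 F3665 (iv F3418) (iv D3345) F888 F3420 (iv F2397)
theorem F5345 : act 4 n6029 = n3333 := d8_2 D3295 D6029 (iv D3333) D3335 (iv F5343) (iv D6028) (iv D3294)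
def n6030 : Q := act 3 n3297
theorem D6030 : act 3 n3297 = n6030 := rfl
theorem F5346 : act 1 n6030 = n4534 := d5_1 D6030 (iv F4099) F4098
def n6031 : Q := act 2 n3298
theorem D6031 : act 2 n3298 = n6031 := rfl
theorem F5347 : act 3 n6031 = n3341 := d7_2 F2401 D6031 (iv D3341)
def n6032 : Q := act 1 n3299
theorem D6032 : act 1 n3299 = n6032 := rfl
theorem F5348 : act 0 n6032 = n5631 := d0_1 D6032 F4664 F2108 (iv F2113) (iv F2689) (iv D3636) (iv F2402)
theorem F5349 : act 4 n6032 = n5628 := d6_2 F3156 D6032 F4660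
def n6033 : Q := act 3 n3299
theorem D6033 : act 3 n3299 = n6033 := rfl
theorem F5350 : act 2 n6033 = n3300 := d7_1 D6033 (iv D3300) D3299
theorem F5351 : act 4 n6033 = n5818 := d12_1 D6033 (iv F4964) F3266 D4437 (iv F3404) (iv D3637) (iv F2402)
theorem F5352 : act 1 n5820 = n6033 := d6_3 F5351 (iv D5818) D5820
theorem F5353 : act 3 n6032 = n5820 := d5_0 F5352 (iv D6033) D6032
def n6034 : Q := act 4 n3300
theorem D6034 : act 4 n3300 = n6034 := rfl
theorem F5354 : act 0 n6034 = n3638 := d3_1 D6034 (iv D3638) (iv F2404)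
theorem F5355 : act 1 n6034 = n3309 := d6_1 D6034 (iv D3309) (iv F2403)
theorem F5356 : act 3 n6034 = n3342 := d9_1 D6034 (iv D3342) F2401 (iv D3298) (iv D1550) D1551 D3300
def n6035 : Q := act 3 n3301
theorem D6035 : act 3 n3301 = n6035 := rfl
theorem F5357 : act 1 n6035 = n3303 := d5_1 D6035 (iv D3303) (iv F2406)
theorem F5358 : act 2 n6035 = n5817 := d7_1 D6035 F4962 F4334
theorem F5359 : act 0 n6035 = n4763 := d12_3 F1780 D3301 D6035 (iv D4763) (iv D2474) F1579 (iv F1778)
def n6036 : Q := act 4 n3303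
theorem D6036 : act 4 n3303 = n6036 := rfl
theorem F5360 : act 3 n6036 = n3345 := d9_1 D6036 (iv F3419) (iv F2407) (iv D3302) (iv D1553) D1554 D3303
theorem F5361 : act 2 n3309 = n6036 := d7_3 F5360 (iv D3345) (iv F2411)
def n6037 : Q := act 1 n3304
theorem D6037 : act 1 n3304 = n6037 := rfl
theorem F5362 : act 3 n6037 = n3343 := d5_2 (iv F2408) D6037 (iv D3343)
def n6038 : Q := act 4 n3304
theorem D6038 : act 4 n3304 = n6038 := rfl
theorem F5363 : act 3 n6038 = n3308 := d12_2 (iv F2408) D6038 F5199 (iv D5972) (iv D3249) D3248 F2345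
def n6039 : Q := act 0 n3306
theorem D6039 : act 0 n3306 = n6039 := rfl
def n6040 : Q := act 2 n3306
theorem D6040 : act 2 n3306 = n6040 := rfl
def n6041 : Q := act 3 n3306
theorem D6041 : act 3 n3306 = n6041 := rfl
theorem F5364 : act 1 n6041 = n3307 := d5_1 D6041 (iv D3307) D3306
def n6042 : Q := act 4 n3306
theorem D6042 : act 4 n3306 = n6042 := rfl
theorem F5365 : act 1 n6042 = n3308 := d6_1 D6042 (iv D3308) D3306
def n6043 : Q := act 4 n3307
theorem D6043 : act 4 n3307 = n6043 := rfl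
theorem F5366 : act 3 n6043 = n3344 := d9_1 D6043 (iv D3344) (iv F2408) D6038 F5363 (iv D3308) D3307
def n6044 : Q := act 0 n3310
theorem D6044 : act 0 n3310 = n6044 := rfl
def n6045 : Q := act 3 n3310
theorem D6045 : act 3 n3310 = n6045 := rfl
theorem F5367 : act 1 n6045 = n3311 := d5_1 D6045 (iv D3311) D3310
def n6046 : Q := act 4 n3310
theorem D6046 : act 4 n3310 = n6046 := rfl
theorem F5368 : act 1 n6046 = n3312 := d6_1 D6046 (iv D3312) D3310
def n6047 : Q := act 4 n3311
theorem D6047 : act 4 n3311 = n6047 := rfl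
theorem F5369 : act 3 n6047 = n3335 := d12_2 D3311 D6047 F2429 (iv F3089) (iv D3318) (iv D1560) D1558
def n6048 : Q := act 3 n3312
theorem D6048 : act 3 n3312 = n6048 := rfl
theorem F5370 : act 4 n6048 = n3334 := d9_2 D3312 D6048 (iv D3334) D3335 (iv F5369) (iv D6047) (iv D3311)
def n6049 : Q := act 1 n3313
theorem D6049 : act 1 n3313 = n6049 := rfl
theorem F5371 : act 4 n6049 = n5659 := d6_2 F4888 D6049 (iv F4889)
theorem F5372 : act 2 n6049 = n5679 := d14_1 D6049 F4743 F2709 (iv D2017) (iv D857) F151 F52 (iv F109) D649 D1559 D3313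
def n6050 : Q := act 3 n3314
theorem D6050 : act 3 n3314 = n6050 := rfl
theorem F5373 : act 1 n6050 = n3392 := d5_1 D6050 (iv D3392) (iv F2413)
theorem F5374 : act 2 n6050 = n3315 := d7_1 D6050 (iv D3315) D3314
def n6051 : Q := act 0 n3315
theorem D6051 : act 0 n3315 = n6051 := rfl
theorem F5375 : act 2 n6051 = n3670 := d10_2 D3315 D6051 (iv D3670) (iv D1754) D1752 (iv F2512) (iv D3313)
def n6052 : Q := act 4 n3315
theorem D6052 : act 4 n3315 = n6052 := rfl
theorem F5376 : act 1 n6052 = n3318 := d6_1 D6052 (iv D3318) (iv F2414)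
theorem F5377 : act 3 n6052 = n3330 := d9_1 D6052 (iv D3330) (iv D1568) D1569 (iv F3083) (iv D3316) D3315
def n6053 : Q := act 1 n3317
theorem D6053 : act 1 n3317 = n6053 := rfl
def n6054 : Q := act 4 n3317
theorem D6054 : act 4 n3317 = n6054 := rfl
theorem F5378 : act 0 n6054 = n3318 := d3_1 D6054 (iv D3318) D3317
theorem F5379 : act 3 n6054 = n3324 := d9_1 D6054 (iv D3324) (iv D1564) D1565 D3325 F5179 F5178
def n6055 : Q := act 1 n3321
theorem D6055 : act 1 n3321 = n6055 := rfl
theorem F5380 : act 0 n6055 = n3326 := d0_1 D6055 (iv D3326) (iv D1566) (iv D652) D651 D1563 D3321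
theorem F5381 : act 2 n6055 = n3401 := d4_2 (iv F2417) D6055 (iv D3401) (iv D1605) D1604 F905 (iv F1485)
theorem F5382 : act 4 n4705 = n6055 := d17_0 (iv D6055) F2417 (iv D2388) D2386 D4646 F3632 F1718 (iv D1448) D1450 D3155 F2280 (iv F3702)
def n6056 : Q := act 3 n3321
theorem D6056 : act 3 n3321 = n6056 := rfl
theorem F5383 : act 2 n6056 = n4650 := d7_1 D6056 (iv D4650) (iv F2417)
def n6057 : Q := act 4 n3321
theorem D6057 : act 4 n3321 = n6057 := rfl
theorem F5384 : act 0 n6057 = n3323 := d3_1 D6057 (iv D3323) D3321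
theorem F5385 : act 1 n6057 = n4705 := d6_1 D6057 F5382 (iv D6055)
def n6058 : Q := act 0 n3322
theorem D6058 : act 0 n3322 = n6058 := rfl
def n6059 : Q := act 4 n3322
theorem D6059 : act 4 n3322 = n6059 := rfl
theorem F5386 : act 1 n6059 = n3324 := d6_1 D6059 (iv D3324) (iv F2418)
def n6060 : Q := act 3 n3323
theorem D6060 : act 3 n3323 = n6060 := rfl
theorem F5387 : act 1 n6060 = n3325 := d5_1 D6060 (iv D3325) (iv F2419)
def n6061 : Q := act 3 n3326
theorem D6061 : act 3 n3326 = n6061 := rfl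
theorem F5388 : act 1 n6061 = n3327 := d5_1 D6061 (iv D3327) D3326
theorem F5389 : act 2 n6061 = n3692 := d7_1 D6061 (iv D3692) (iv F2421)
theorem F5390 : act 4 n4735 = n6061 := d17_3 D1245 (iv F1573) D4735 F5389 F2725 D3693 F2727 (iv D2015) (iv D856) (iv F448) (iv F691) F693
def n6062 : Q := act 1 n3329
theorem D6062 : act 1 n3329 = n6062 := rfl
def n6063 : Q := act 0 n3332
theorem D6063 : act 0 n3332 = n6063 := rfl
def n6064 : Q := act 3 n3332
theorem D6064 : act 3 n3332 = n6064 := rfl
theorem F5391 : act 1 n6064 = n3334 := d5_1 D6064 (iv D3334) D3332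
def n6065 : Q := act 4 n3332
theorem D6065 : act 4 n3332 = n6065 := rfl
theorem F5392 : act 1 n6065 = n3335 := d6_1 D6065 (iv D3335) D3332
def n6066 : Q := act 2 n3340
theorem D6066 : act 2 n3340 = n6066 := rfl
theorem F5393 : act 0 n6066 = n3722 := d1_1 D6066 (iv D3722) (iv D1780) D1781 (iv F2431) (iv D3341) D3340
theorem F5394 : act 4 n6066 = n4504 := d11_1 D6066 (iv D4504) F1397 D4333 (iv F3403) (iv D3341) D3340
def n6067 : Q := act 1 n3341
theorem D6067 : act 1 n3341 = n6067 := rfl
theorem F5395 : act 0 n6067 = n5893 := d0_1 D6067 F5082 F2303 (iv F2307) F3399 (iv D3724) (iv F2431)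
theorem F5396 : act 4 n6067 = n5819 := d6_2 (iv F3403) D6067 F4966
def n6068 : Q := act 2 n3342
theorem D6068 : act 2 n3342 = n6068 := rfl
theorem F5397 : act 0 n6068 = n3726 := d11_3 (iv D3341) D3342 D6068 (iv D3726) (iv D1782) D1781 (iv F2431)
def n6069 : Q := act 0 n3343
theorem D6069 : act 0 n3343 = n6069 := rfl
def n6070 : Q := act 2 n3343
theorem D6070 : act 2 n3343 = n6070 := rfl
def n6071 : Q := act 4 n3343
theorem D6071 : act 4 n3343 = n6071 := rfl
theorem F5398 : act 1 n6071 = n3344 := d6_1 D6071 (iv D3344) D3343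
def n6072 : Q := act 1 n3345
theorem D6072 : act 1 n3345 = n6072 := rfl
theorem F5399 : act 0 n6072 = n5912 := d0_1 D6072 (iv D5912) (iv D3211) (iv D1496) (iv F2193) (iv F1502) (iv F3418)
theorem F5400 : act 4 n6072 = n4683 := d6_2 F3419 D6072 (iv D4683)
def n6073 : Q := act 2 n3349
theorem D6073 : act 2 n3349 = n6073 := rfl
def n6074 : Q := act 3 n3349
theorem D6074 : act 3 n3349 = n6074 := rfl
def n6075 : Q := act 1 n3350
theorem D6075 : act 1 n3350 = n6075 := rfl
theorem F5401 : act 2 n6075 = n4854 := d15_6 (iv D2950) (iv F1999) F2670 (iv D3365) (iv F2433) D6075 F3846 D4857 (iv F4319) (iv D5317) F1895 (iv F2002)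
def n6076 : Q := act 3 n3350
theorem D6076 : act 3 n3350 = n6076 := rfl
theorem F5402 : act 2 n6076 = n3351 := d7_1 D6076 (iv D3351) D3350
def n6077 : Q := act 4 n3350
theorem D6077 : act 4 n3350 = n6077 := rfl
theorem F5403 : act 0 n6077 = n3367 := d3_1 D6077 (iv D3367) (iv F2433)
theorem F5404 : act 2 n6077 = n3357 := d8_1 D6077 (iv D3357) (iv D1581) (iv D659) D657 D1578 D3350
def n6078 : Q := act 0 n3351
theorem D6078 : act 0 n3351 = n6078 := rfl
def n6079 : Q := act 4 n3351
theorem D6079 : act 4 n3351 = n6079 := rfl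
def n6080 : Q := act 4 n3352
theorem D6080 : act 4 n3352 = n6080 := rfl
theorem F5405 : act 0 n6080 = n3373 := d3_1 D6080 (iv D3373) (iv F2434)
theorem F5406 : act 1 n6080 = n5947 := d6_1 D6080 (iv D5947) (iv F2435)
theorem F5407 : act 3 n6080 = n3358 := d12_2 D3352 D6080 (iv D3358) (iv D1582) (iv D659) D658 D1579
def n6081 : Q := act 3 n3353
theorem D6081 : act 3 n3353 = n6081 := rfl
theorem F5408 : act 0 n6081 = n3375 := d2_1 D6081 (iv D3375) F890 D1591 (iv F2437) (iv D3355) (iv F2436)
def n6082 : Q := act 3 n3354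
theorem D6082 : act 3 n3354 = n6082 := rfl
theorem F5409 : act 2 n6082 = n3355 := d7_1 D6082 (iv D3355) D3354
def n6083 : Q := act 4 n3354
theorem D6083 : act 4 n3354 = n6083 := rfl
def n6084 : Q := act 4 n3355
theorem D6084 : act 4 n3355 = n6084 := rfl
theorem F5410 : act 0 n6084 = n3380 := d3_1 D6084 (iv D3380) (iv F2437)
theorem F5411 : act 3 n6084 = n3359 := d9_1 D6084 (iv D3359) (iv D1582) (iv D659) D658 D1580 D3355
def n6085 : Q := act 4 n3356
theorem D6085 : act 4 n3356 = n6085 := rfl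
def n6086 : Q := act 3 n3357
theorem D6086 : act 3 n3357 = n6086 := rfl
def n6087 : Q := act 4 n3358
theorem D6087 : act 4 n3358 = n6087 := rfl
theorem F5412 : act 0 n6087 = n3359 := d3_1 D6087 (iv D3359) D3358
def n6088 : Q := act 2 n3359
theorem D6088 : act 2 n3359 = n6088 := rfl
def n6089 : Q := act 3 n3360
theorem D6089 : act 3 n3360 = n6089 := rfl
theorem F5413 : act 1 n6089 = n3361 := d5_1 D6089 (iv D3361) D3360
theorem F5414 : act 2 n6089 = n5047 := d7_1 D6089 F4023 F2643
def n6090 : Q := act 4 n3360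
theorem D6090 : act 4 n3360 = n6090 := rfl
theorem F5415 : act 1 n6090 = n3362 := d6_1 D6090 (iv D3362) D3360
def n6091 : Q := act 4 n3361
theorem D6091 : act 4 n3361 = n6091 := rfl
theorem F5416 : act 3 n6091 = n3368 := d12_2 D3361 D6091 (iv D3368) (iv D1586) (iv D662) D661 D1583
def n6092 : Q := act 2 n3362
theorem D6092 : act 2 n3362 = n6092 := rfl
def n6093 : Q := act 3 n3362
theorem D6093 : act 3 n3362 = n6093 := rfl
def n6094 : Q := act 0 n3363
theorem D6094 : act 0 n3363 = n6094 := rfl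
theorem F5417 : act 2 n6094 = n3372 := d11_4 (iv F323) D1584 D3363 D6094 (iv D3372) (iv D1587) (iv D663)
def n6095 : Q := act 1 n3363
theorem D6095 : act 1 n3363 = n6095 := rfl
def n6096 : Q := act 3 n3363
theorem D6096 : act 3 n3363 = n6096 := rfl
theorem F5418 : act 2 n6096 = n3364 := d7_1 D6096 (iv D3364) D3363
def n6097 : Q := act 4 n3363
theorem D6097 : act 4 n3363 = n6097 := rfl
theorem F5419 : act 2 n6097 = n3379 := d8_1 D6097 (iv D3379) (iv D1590) (iv D664) (iv F323) D1584 D3363
theorem F5420 : act 3 n3367 = n6097 := d7_0 F5419 F4823 (iv F2441)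
def n6098 : Q := act 4 n3364
theorem D6098 : act 4 n3364 = n6098 := rfl
theorem F5421 : act 3 n6098 = n3369 := d9_1 D6098 (iv D3369) (iv D1586) (iv D662) D661 D1584 D3364
theorem F5422 : act 2 n3380 = n6098 := d7_3 F5421 F5309 (iv F2447)
def n6099 : Q := act 3 n3365
theorem D6099 : act 3 n3365 = n6099 := rfl
theorem F5423 : act 1 n6099 = n3366 := d5_1 D6099 (iv D3366) D3365
theorem F5424 : act 2 n6099 = n5530 := d7_1 D6099 (iv D5530) F2670
def n6100 : Q := act 0 n3366
theorem D6100 : act 0 n3366 = n6100 := rfl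
def n6101 : Q := act 4 n3366
theorem D6101 : act 4 n3366 = n6101 := rfl
theorem F5425 : act 2 n6101 = n3382 := d8_1 D6101 (iv D3382) F892 D1595 (iv F5309) (iv D3369) (iv F2440)
def n6102 : Q := act 1 n3368
theorem D6102 : act 1 n3368 = n6102 := rfl
def n6103 : Q := act 2 n3368
theorem D6103 : act 2 n3368 = n6103 := rfl
def n6104 : Q := act 4 n3368
theorem D6104 : act 4 n3368 = n6104 := rfl
theorem F5426 : act 0 n6104 = n3369 := d3_1 D6104 (iv D3369) D3368
def n6105 : Q := act 3 n3370
theorem D6105 : act 3 n3370 = n6105 := rfl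
theorem F5427 : act 0 n6105 = n5669 := d2_1 D6105 (iv D5669) (iv F4695) (iv D5646) (iv D3033) D3035 (iv F2442)
theorem F5428 : act 1 n6105 = n3371 := d5_1 D6105 (iv D3371) D3370
theorem F5429 : act 2 n6105 = n5987 := d7_1 D6105 F5217 F4294
def n6106 : Q := act 4 n3370
theorem D6106 : act 4 n3370 = n6106 := rfl
theorem F5430 : act 0 n6106 = n5649 := d3_1 D6106 (iv D5649) (iv F2442)
theorem F5431 : act 1 n6106 = n3372 := d6_1 D6106 (iv D3372) D3370
def n6107 : Q := act 4 n3371
theorem D6107 : act 4 n3371 = n6107 := rfl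
def n6108 : Q := act 3 n3372
theorem D6108 : act 3 n3372 = n6108 := rfl
def n6109 : Q := act 2 n3373
theorem D6109 : act 2 n3373 = n6109 := rfl
theorem F5432 : act 3 n6109 = n3384 := d7_2 (iv F2444) D6109 (iv D3384)
def n6110 : Q := act 1 n3374
theorem D6110 : act 1 n3374 = n6110 := rfl
theorem F5433 : act 0 n6110 = n5704 := d0_1 D6110 F4770 (iv D4217) (iv D2063) D2062 D4213 F3170
def n6111 : Q := act 3 n3374
theorem D6111 : act 3 n3374 = n6111 := rfl
theorem F5434 : act 2 n6111 = n3375 := d7_1 D6111 (iv D3375) D3374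
def n6112 : Q := act 4 n3374
theorem D6112 : act 4 n3374 = n6112 := rfl
def n6113 : Q := act 4 n3375
theorem D6113 : act 4 n3375 = n6113 := rfl
theorem F5435 : act 3 n6113 = n3385 := d9_1 D6113 (iv D3385) (iv F2444) (iv D3373) (iv D1588) D1589 D3375
def n6114 : Q := act 1 n3376
theorem D6114 : act 1 n3376 = n6114 := rfl
def n6115 : Q := act 3 n3376
theorem D6115 : act 3 n3376 = n6115 := rfl
def n6116 : Q := act 4 n3376
theorem D6116 : act 4 n3376 = n6116 := rfl
theorem F5436 : act 0 n6116 = n3379 := d3_1 D6116 (iv D3379) D3376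
def n6117 : Q := act 4 n3378
theorem D6117 : act 4 n3378 = n6117 := rfl
theorem F5437 : act 3 n6117 = n3382 := d9_1 D6117 (iv D3382) (iv D1592) D1593 (iv F4823) (iv D3379) D3378
def n6118 : Q := act 1 n3381
theorem D6118 : act 1 n3381 = n6118 := rfl
def n6119 : Q := act 3 n3381
theorem D6119 : act 3 n3381 = n6119 := rfl
def n6120 : Q := act 4 n3381
theorem D6120 : act 4 n3381 = n6120 := rfl
theorem F5438 : act 0 n6120 = n3382 := d3_1 D6120 (iv D3382) D3381
def n6121 : Q := act 1 n3384
theorem D6121 : act 1 n3384 = n6121 := rfl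
theorem F5439 : act 0 n6121 = n5905 := d0_1 D6121 F5104 (iv D4440) (iv D2198) (iv F1315) (iv F3287) F3289
def n6122 : Q := act 4 n3384
theorem D6122 : act 4 n3384 = n6122 := rfl
def n6123 : Q := act 2 n3385
theorem D6123 : act 2 n3385 = n6123 := rfl
def n6124 : Q := act 3 n3387
theorem D6124 : act 3 n3387 = n6124 := rfl
theorem F5440 : act 1 n6124 = n3389 := d5_1 D6124 (iv D3389) D3387
theorem F5441 : act 2 n6124 = n5633 := d7_1 D6124 (iv D5633) (iv F2449)
theorem F5442 : act 0 n6124 = n6124 := d10_1 D6124 F5441 F4667 F4655 (iv F4597) F4598 F2842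
theorem F5443 : act 4 n5603 = n6124 := d8_0 F5441 F4668 (iv F4609) (iv D5601) F2029 D3000 D5603
def n6125 : Q := act 1 n3388
theorem D6125 : act 1 n3388 = n6125 := rfl
def n6126 : Q := act 3 n3388
theorem D6126 : act 3 n3388 = n6126 := rfl
theorem F5444 : act 2 n6126 = n3389 := d7_1 D6126 (iv D3389) D3388
def n6127 : Q := act 4 n3388
theorem D6127 : act 4 n3388 = n6127 := rfl
theorem F5445 : act 0 n6127 = n5188 := d3_1 D6127 (iv F4179) F2702
def n6128 : Q := act 0 n3389
theorem D6128 : act 0 n3389 = n6128 := rfl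
theorem F5446 : act 1 n6128 = n5948 := d16_9 D1522 F845 (iv D650) F109 D260 D669 D1597 D3389 D6128 (iv D5948) F2333 F844
def n6129 : Q := act 4 n3389
theorem D6129 : act 4 n3389 = n6129 := rfl
theorem F5447 : act 1 n6129 = n5603 := d6_1 D6129 F5443 F5440
theorem F5448 : act 3 n6129 = n3418 := d12_2 D3389 D6129 F2478 (iv F2455) (iv D3395) (iv D1599) D1597
def n6130 : Q := act 2 n3390
theorem D6130 : act 2 n3390 = n6130 := rfl
def n6131 : Q := act 3 n3390
theorem D6131 : act 3 n3390 = n6131 := rfl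
theorem F5449 : act 1 n6131 = n5605 := d5_1 D6131 (iv D5605) (iv F2452)
theorem F5450 : act 4 n6131 = n3417 := d9_2 D3390 D6131 (iv D3417) D3418 (iv F5448) (iv D6129) (iv D3389)
def n6132 : Q := act 1 n3391
theorem D6132 : act 1 n3391 = n6132 := rfl
def n6133 : Q := act 2 n3391
theorem D6133 : act 2 n3391 = n6133 := rfl
def n6134 : Q := act 3 n3391
theorem D6134 : act 3 n3391 = n6134 := rfl
def n6135 : Q := act 4 n3391
theorem D6135 : act 4 n3391 = n6135 := rfl
theorem F5451 : act 0 n6135 = n3393 := d3_1 D6135 (iv D3393) D3391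
theorem F5452 : act 2 n4023 = n6135 := d10_2 D2743 (iv F3013) F5451 F4871 F2266 (iv D1213) D1212
def n6136 : Q := act 0 n3392
theorem D6136 : act 0 n3392 = n6136 := rfl
theorem F5453 : act 3 n6136 = n5190 := d12_4 (iv F4871) (iv D3393) D3392 D6136 (iv D5190) (iv D2745) (iv F2266)
def n6137 : Q := act 4 n3392
theorem D6137 : act 4 n3392 = n6137 := rfl
theorem F5454 : act 3 n6137 = n3412 := d9_1 D6137 (iv D3412) (iv D1609) D1610 (iv F4871) (iv D3393) D3392
def n6138 : Q := act 2 n3393
theorem D6138 : act 2 n3393 = n6138 := rfl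
theorem F5455 : act 1 n6138 = n5528 := d4_1 D6138 F4559 (iv F3262) F3263 (iv F3258) F4864 (iv F4870)
theorem F5456 : act 3 n6138 = n3413 := d7_2 (iv F4871) D6138 (iv D3413)
def n6139 : Q := act 1 n3394
theorem D6139 : act 1 n3394 = n6139 := rfl
theorem F5457 : act 0 n6139 = n6139 := d0_1 D6139 (iv D6139) (iv D3394) F897 F329 (iv F897) D3394
theorem F5458 : act 2 n6139 = n4645 := d15_6 F135 (iv F114) (iv F328) (iv F897) D3394 D6139 F3630 F3364 (iv D3858) (iv D1853) F412 F136
theorem F5459 : act 3 n4540 = n6139 := d7_0 F5458 F3631 (iv F3500)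
theorem F5460 : act 4 n4538 = n6139 := d11_1 (iv F3496) F5458 F3630 F3364 (iv F2886) F1449 (iv F1422)
def n6140 : Q := act 2 n3394
theorem D6140 : act 2 n3394 = n6140 := rfl
def n6141 : Q := act 3 n3394
theorem D6141 : act 3 n3394 = n6141 := rfl
theorem F5461 : act 1 n6141 = n4540 := d5_1 D6141 F5459 (iv D6139)
theorem F5462 : act 4 n6141 = n3407 := d12_1 D6141 (iv D3407) F907 (iv F2068) (iv D1600) D1599 D3394
def n6142 : Q := act 4 n3394
theorem D6142 : act 4 n3394 = n6142 := rfl
theorem F5463 : act 0 n6142 = n3395 := d3_1 D6142 (iv D3395) D3394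
theorem F5464 : act 1 n6142 = n4538 := d6_1 D6142 F5460 (iv D6139)
theorem F5465 : act 3 n6142 = n3405 := d9_1 D6142 (iv D3405) (iv D1606) D1607 D3407 (iv F5462) (iv D6141)
def n6143 : Q := act 2 n3395
theorem D6143 : act 2 n3395 = n6143 := rfl
theorem F5466 : act 3 n6143 = n3419 := d7_2 (iv F2455) D6143 (iv D3419)
def n6144 : Q := act 0 n3396
theorem D6144 : act 0 n3396 = n6144 := rfl
def n6145 : Q := act 3 n3401
theorem D6145 : act 3 n3401 = n6145 := rfl
theorem F5467 : act 1 n6145 = n3402 := d5_1 D6145 (iv D3402) D3401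
def n6146 : Q := act 0 n3402
theorem D6146 : act 0 n3402 = n6146 := rfl
def n6147 : Q := act 4 n3402
theorem D6147 : act 4 n3402 = n6147 := rfl
def n6148 : Q := act 2 n3403
theorem D6148 : act 2 n3403 = n6148 := rfl
theorem F5468 : act 0 n6148 = n3413 := d1_1 D6148 (iv D3413) F2266 (iv D1213) D1212 D2742 F2468
def n6149 : Q := act 3 n3403
theorem D6149 : act 3 n3403 = n6149 := rfl
theorem F5469 : act 1 n6149 = n4724 := d5_1 D6149 (iv D4724) (iv F2467)
theorem F5470 : act 0 n6149 = n5192 := d10_1 D6149 (iv D5192) (iv D2747) (iv D1214) D1212 D2742 F2468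
def n6150 : Q := act 2 n3404
theorem D6150 : act 2 n3404 = n6150 := rfl
theorem F5471 : act 0 n6150 = n3410 := d10_3 D1606 D3404 D6150 (iv D3410) (iv D1608) (iv D674) D673
def n6151 : Q := act 3 n3404
theorem D6151 : act 3 n3404 = n6151 := rfl
theorem F5472 : act 0 n6151 = n3417 := d2_1 D6151 (iv D3417) (iv D1611) (iv D675) D673 D1606 D3404
theorem F5473 : act 1 n6151 = n5982 := d5_1 D6151 F5210 F3875
def n6152 : Q := act 4 n3404
theorem D6152 : act 4 n3404 = n6152 := rfl
theorem F5474 : act 0 n6152 = n3405 := d3_1 D6152 (iv D3405) D3404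
def n6153 : Q := act 2 n3405
theorem D6153 : act 2 n3405 = n6153 := rfl
def n6154 : Q := act 1 n3406
theorem D6154 : act 1 n3406 = n6154 := rfl
theorem F5475 : act 0 n6154 = n4984 := d0_1 D6154 F3957 (iv D4394) (iv D2170) D2169 D4392 F3319
theorem F5476 : act 2 n6154 = n4531 := d4_2 D3406 D6154 (iv D4531) (iv D2304) F516 D988 (iv F908)
theorem F5477 : act 4 n6154 = n4982 := d6_2 F3682 D6154 F3955
def n6155 : Q := act 3 n3406
theorem D6155 : act 3 n3406 = n6155 := rfl
theorem F5478 : act 2 n6155 = n3407 := d7_1 D6155 (iv D3407) D3406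
def n6156 : Q := act 0 n3407
theorem D6156 : act 0 n3407 = n6156 := rfl
def n6157 : Q := act 3 n3408
theorem D6157 : act 3 n3408 = n6157 := rfl
theorem F5479 : act 1 n6157 = n3410 := d5_1 D6157 (iv D3410) D3408
theorem F5480 : act 2 n6157 = n5806 := d7_1 D6157 (iv D5806) (iv F2475)
def n6158 : Q := act 3 n3409
theorem D6158 : act 3 n3409 = n6158 := rfl
theorem F5481 : act 1 n6158 = n3893 := d5_1 D6158 (iv D3893) (iv F2476)
theorem F5482 : act 2 n6158 = n3410 := d7_1 D6158 (iv D3410) D3409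
def n6159 : Q := act 4 n3409
theorem D6159 : act 4 n3409 = n6159 := rfl
theorem F5483 : act 1 n6159 = n3894 := d6_1 D6159 (iv D3894) (iv F2476)
theorem F5484 : act 2 n6159 = n3420 := d8_1 D6159 F2479 (iv D2749) (iv D1215) D1213 (iv F2268) D3409
def n6160 : Q := act 4 n3410
theorem D6160 : act 4 n3410 = n6160 := rfl
def n6161 : Q := act 1 n3411
theorem D6161 : act 1 n3411 = n6161 := rfl
def n6162 : Q := act 2 n3411
theorem D6162 : act 2 n3411 = n6162 := rfl
def n6163 : Q := act 3 n3411
theorem D6163 : act 3 n3411 = n6163 := rfl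
def n6164 : Q := act 4 n3411
theorem D6164 : act 4 n3411 = n6164 := rfl
theorem F5485 : act 0 n6164 = n3412 := d3_1 D6164 (iv D3412) D3411
def n6165 : Q := act 2 n3412
theorem D6165 : act 2 n3412 = n6165 := rfl
def n6166 : Q := act 3 n3415
theorem D6166 : act 3 n3415 = n6166 := rfl
theorem F5486 : act 1 n6166 = n3417 := d5_1 D6166 (iv D3417) D3415
theorem F5487 : act 2 n6166 = n5632 := d7_1 D6166 F4666 F3400
theorem F5488 : act 0 n6166 = n6166 := d10_1 D6166 F5487 F4665 F4656 (iv F5071) F5073 F2953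
theorem F5489 : act 4 n5605 = n6166 := d6_0 F5486 (iv F5450) F5449
def n6167 : Q := act 4 n3415
theorem D6167 : act 4 n3415 = n6167 := rfl
theorem F5490 : act 1 n6167 = n3418 := d6_1 D6167 (iv D3418) D3415
theorem F5491 : act 2 n6167 = n5604 := d8_1 D6167 (iv F4616) (iv F5084) (iv D5894) (iv D3193) D3195 F3400
theorem F5492 : act 3 n6167 = n5603 := d9_1 D6167 F5443 (iv D6124) (iv F2450) D5605 F5489 (iv D6166)
def n6168 : Q := act 1 n3416
theorem D6168 : act 1 n3416 = n6168 := rfl
def n6169 : Q := act 3 n3416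
theorem D6169 : act 3 n3416 = n6169 := rfl
theorem F5493 : act 2 n6169 = n3417 := d7_1 D6169 (iv D3417) D3416
def n6170 : Q := act 4 n3416
theorem D6170 : act 4 n3416 = n6170 := rfl
def n6171 : Q := act 2 n3418
theorem D6171 : act 2 n3418 = n6171 := rfl
def n6172 : Q := act 0 n3419
theorem D6172 : act 0 n3419 = n6172 := rfl
def n6173 : Q := act 3 n3420
theorem D6173 : act 3 n3420 = n6173 := rfl
theorem F5494 : act 1 n6173 = n5079 := d5_1 D6173 (iv D5079) (iv F2480)
def n6174 : Q := act 0 n3423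
theorem D6174 : act 0 n3423 = n6174 := rfl
def n6175 : Q := act 1 n3423
theorem D6175 : act 1 n3423 = n6175 := rfl
def n6176 : Q := act 4 n3423
theorem D6176 : act 4 n3423 = n6176 := rfl
def n6177 : Q := act 1 n3425
theorem D6177 : act 1 n3425 = n6177 := rfl
theorem F5495 : act 0 n6177 = n5897 := d13_3 D1619 D3425 D6177 (iv D5897) F3399 (iv D3724) (iv F2431) (iv D3341) D3340 F2430 (iv D1618)
def n6178 : Q := act 3 n3425
theorem D6178 : act 3 n3425 = n6178 := rfl
def n6179 : Q := act 4 n3425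
theorem D6179 : act 4 n3425 = n6179 := rfl
theorem F5496 : act 0 n6179 = n3427 := d3_1 D6179 (iv D3427) D3425
def n6180 : Q := act 4 n3433
theorem D6180 : act 4 n3433 = n6180 := rfl
theorem F5497 : act 3 n6180 = n3436 := d12_2 D3433 D6180 (iv D3436) (iv D1625) (iv D683) D682 D1623
def n6181 : Q := act 3 n3434
theorem D6181 : act 3 n3434 = n6181 := rfl
def n6182 : Q := act 4 n3435
theorem D6182 : act 4 n3435 = n6182 := rfl
theorem F5498 : act 2 n6182 = n3445 := d8_1 D6182 (iv D3445) (iv F2496) F3415 (iv D4255) D4257 (iv F3211)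
theorem F5499 : act 3 n6182 = n3437 := d9_1 D6182 (iv D3437) (iv D1625) (iv D683) D682 D1624 D3435
def n6183 : Q := act 1 n3436
theorem D6183 : act 1 n3436 = n6183 := rfl
theorem F5500 : act 0 n6183 = n5622 := d0_1 D6183 (iv D5622) (iv D3015) (iv F2094) F2093 F1428 D3436
def n6184 : Q := act 4 n3436
theorem D6184 : act 4 n3436 = n6184 := rfl
theorem F5501 : act 0 n6184 = n3437 := d3_1 D6184 (iv D3437) D3436
theorem F5502 : act 2 n6184 = n3451 := d11_2 F3286 D6184 F2504 (iv F3410) (iv D3437) (iv F1309) D4361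
def n6185 : Q := act 2 n3438
theorem D6185 : act 2 n3438 = n6185 := rfl
theorem F5503 : act 0 n6185 = n3767 := d1_1 D6185 F4489 (iv D4809) F1594 D2503 F1595 D3438
theorem F5504 : act 3 n6185 = n3746 := d7_2 (iv F2488) D6185 (iv D3746)
def n6186 : Q := act 4 n3438
theorem D6186 : act 4 n3438 = n6186 := rfl
theorem F5505 : act 0 n6186 = n3439 := d3_1 D6186 (iv D3439) D3438
theorem F5506 : act 1 n6186 = n3503 := d6_1 D6186 (iv D3503) (iv F2487)
theorem F5507 : act 3 n6186 = n3753 := d12_2 (iv F2488) D6186 (iv D3753) (iv D1796) (iv D762) D761 D1793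
def n6187 : Q := act 2 n3439
theorem D6187 : act 2 n3439 = n6187 := rfl
theorem F5508 : act 3 n6187 = n3791 := d7_2 (iv F2490) D6187 (iv D3791)
def n6188 : Q := act 2 n3440
theorem D6188 : act 2 n3440 = n6188 := rfl
theorem F5509 : act 3 n6188 = n3448 := d7_2 (iv F2492) D6188 F2502
def n6189 : Q := act 1 n3441
theorem D6189 : act 1 n3441 = n6189 := rfl
theorem F5510 : act 4 n6189 = n5881 := d6_2 F3282 D6189 F5066
def n6190 : Q := act 3 n3441
theorem D6190 : act 3 n3441 = n6190 := rfl
theorem F5511 : act 2 n6190 = n3442 := d7_1 D6190 (iv D3442) D3441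
def n6191 : Q := act 4 n3442
theorem D6191 : act 4 n3442 = n6191 := rfl
theorem F5512 : act 1 n6191 = n3792 := d6_1 D6191 (iv D3792) (iv F2494)
theorem F5513 : act 3 n6191 = n3451 := d9_1 D6191 (iv D3451) (iv F2492) (iv D3440) (iv D1627) D1628 D3442
def n6192 : Q := act 2 n3443
theorem D6192 : act 2 n3443 = n6192 := rfl
theorem F5514 : act 1 n6192 = n3520 := d4_1 D6192 (iv D3520) (iv D1670) (iv D704) (iv F337) D1629 D3443
def n6193 : Q := act 3 n3443
theorem D6193 : act 3 n3443 = n6193 := rfl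
theorem F5515 : act 0 n6193 = n4643 := d2_1 D6193 F3628 (iv F3647) F3649 F2689 (iv F4659) F4657
theorem F5516 : act 1 n6193 = n3444 := d5_1 D6193 (iv D3444) D3443
theorem F5517 : act 4 n6193 = n4642 := d9_2 (iv F2495) D6193 (iv F4675) F4677 (iv D3447) F931 D2392
def n6194 : Q := act 3 n3446
theorem D6194 : act 3 n3446 = n6194 := rfl
theorem F5518 : act 1 n6194 = n3533 := d5_1 D6194 (iv D3533) (iv F2500)
theorem F5519 : act 2 n6194 = n3447 := d7_1 D6194 (iv D3447) D3446
def n6195 : Q := act 1 n3448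
theorem D6195 : act 1 n3448 = n6195 := rfl
def n6196 : Q := act 4 n3448
theorem D6196 : act 4 n3448 = n6196 := rfl
theorem F5520 : act 0 n6196 = n3449 := d3_1 D6196 (iv D3449) D3448
theorem F5521 : act 1 n5741 = n6196 := d0_0 F5520 (iv F4676) (iv D5637) F2112 D3027 D5640 (iv F4805)
theorem F5522 : act 4 n6195 = n5741 := d6_0 F5521 (iv D6196) D6195
def n6197 : Q := act 0 n3450
theorem D6197 : act 0 n3450 = n6197 := rfl
theorem F5523 : act 1 n6197 = n3546 := d0_2 D3450 D6197 (iv D3546) (iv D1684) (iv D710) (iv F338) D1633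
theorem F5524 : act 3 n6197 = n3747 := d2_2 (iv F2503) D6197 F2759 F1056 (iv D810) F392 (iv F1068)
def n6198 : Q := act 2 n3450
theorem D6198 : act 2 n3450 = n6198 := rfl
theorem F5525 : act 3 n6198 = n3777 := d7_2 (iv F2503) D6198 (iv D3777)
def n6199 : Q := act 4 n3450
theorem D6199 : act 4 n3450 = n6199 := rfl
theorem F5526 : act 1 n6199 = n3451 := d6_1 D6199 (iv D3451) D3450
theorem F5527 : act 3 n6199 = n3792 := d9_1 D6199 (iv D3792) (iv F2490) (iv D3439) F1570 D1812 (iv F2503)
def n6200 : Q := act 2 n3453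
theorem D6200 : act 2 n3453 = n6200 := rfl
theorem F5528 : act 0 n6200 = n6092 := d1_1 D6200 (iv D6092) F2439 D3363 D6094 F5417 (iv F2505)
def n6201 : Q := act 3 n3453
theorem D6201 : act 3 n3453 = n6201 := rfl
theorem F5529 : act 1 n6201 = n3459 := d5_1 D6201 (iv D3459) (iv F2506)
theorem F5530 : act 0 n6201 = n6074 := d12_3 D1635 D3453 D6201 (iv D6074) (iv D3349) (iv D1577) (iv F339)
def n6202 : Q := act 1 n3454
theorem D6202 : act 1 n3454 = n6202 := rfl
theorem F5531 : act 0 n6202 = n5315 := d13_3 D2722 (iv F2507) D6202 (iv D5315) (iv D2822) (iv D1254) (iv F690) (iv D1231) (iv F685) F686 (iv F663)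
def n6203 : Q := act 3 n3454
theorem D6203 : act 3 n3454 = n6203 := rfl
theorem F5532 : act 2 n6203 = n3455 := d7_1 D6203 (iv D3455) D3454
theorem F5533 : act 0 n6203 = n6103 := d10_1 D6203 (iv D6103) (iv D3368) (iv D1586) (iv F663) D2722 (iv F2507)
def n6204 : Q := act 4 n3454
theorem D6204 : act 4 n3454 = n6204 := rfl
theorem F5534 : act 0 n6204 = n5156 := d3_1 D6204 (iv D5156) (iv F2507)
theorem F5535 : act 2 n6204 = n4363 := d8_1 D6204 (iv D4363) (iv F1311) (iv D1043) (iv F342) D1636 D3454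
def n6205 : Q := act 0 n3455
theorem D6205 : act 0 n3455 = n6205 := rfl
theorem F5536 : act 2 n6205 = n6100 := d1_2 F5532 D6205 (iv D6100) F2440 D3368 D6103 (iv F5533)
theorem F5537 : act 3 n6205 = n6107 := d12_4 (iv D1635) D1636 D3455 D6205 (iv D6107) (iv D3371) (iv F937)
theorem F5538 : act 4 n6123 = n6205 := d11_1 D6123 F5536 (iv D6100) F2440 D3369 F5309 (iv F2448)
def n6206 : Q := act 4 n3455
theorem D6206 : act 4 n3455 = n6206 := rfl
theorem F5539 : act 0 n6206 = n6123 := d3_1 D6206 F5538 (iv D6205)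
theorem F5540 : act 1 n6206 = n3464 := d6_1 D6206 (iv D3464) (iv F2508)
theorem F5541 : act 2 n4685 = n6206 := d11_2 F3288 D4685 F5539 (iv D6123) (iv D3385) D3384 (iv F3289)
def n6207 : Q := act 3 n3456
theorem D6207 : act 3 n3456 = n6207 := rfl
theorem F5542 : act 1 n6207 = n4674 := d5_1 D6207 (iv D4674) (iv F2510)
theorem F5543 : act 2 n6207 = n3523 := d7_1 D6207 F2586 (iv F2511)
theorem F5544 : act 0 n6207 = n3566 := d10_1 D6207 F2627 (iv D1756) (iv D743) D741 (iv F1007) (iv F2509)
def n6208 : Q := act 4 n3457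
theorem D6208 : act 4 n3457 = n6208 := rfl
theorem F5545 : act 0 n6208 = n3624 := d3_1 D6208 F5280 (iv F2515)
theorem F5546 : act 1 n6208 = n4675 := d6_1 D6208 (iv D4675) (iv F2513)
theorem F5547 : act 2 n6208 = n3464 := d11_2 (iv F2514) D6208 F5326 (iv D1785) (iv D758) D757 (iv F980)
def n6209 : Q := act 1 n3458
theorem D6209 : act 1 n3458 = n6209 := rfl
def n6210 : Q := act 3 n3458
theorem D6210 : act 3 n3458 = n6210 := rfl
theorem F5548 : act 2 n6210 = n3459 := d7_1 D6210 (iv D3459) D3458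
theorem F5549 : act 0 n6210 = n3569 := d10_1 D6210 F2629 F1000 (iv D725) (iv F373) D1711 (iv F2516)
def n6211 : Q := act 4 n3458
theorem D6211 : act 4 n3458 = n6211 := rfl
theorem F5550 : act 0 n6211 = n3595 := d3_1 D6211 (iv D3595) (iv F2516)
theorem F5551 : act 2 n6211 = n3530 := d8_1 D6211 F2797 (iv F2511) (iv D3456) F942 D1639 D3458
theorem F5552 : act 3 n6211 = n3462 := d12_2 (iv D6210) D6211 F2521 (iv F2808) (iv D3570) D3569 (iv F5549)
theorem F5553 : act 1 n4970 = n6211 := d5_3 F5552 F2522 D4970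
theorem F5554 : act 4 n6209 = n4970 := d6_0 F5553 (iv D6211) D6209
theorem F5555 : act 2 n3593 = n4156 := d17_2 (iv D3595) D3593 (iv D4156) D4154 F3174 (iv F3172) F3173 (iv D3060) F1711 (iv F3944) F5553 F5550
def n6212 : Q := act 4 n3459
theorem D6212 : act 4 n3459 = n6212 := rfl
theorem F5556 : act 0 n6212 = n3490 := d3_1 D6212 (iv D3490) (iv F2517)
theorem F5557 : act 3 n6212 = n3464 := d9_1 D6212 (iv D3464) (iv D1641) (iv D691) D690 D1639 D3459
def n6213 : Q := act 2 n3460
theorem D6213 : act 2 n3460 = n6213 := rfl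
theorem F5558 : act 4 n6213 = n4310 := d8_2 F2518 D6213 F3245 (iv D2602) (iv D1138) D1140 D2604
theorem F5559 : act 0 n4313 = n6213 := d3_3 F5558 (iv D4310) D4313
def n6214 : Q := act 3 n3460
theorem D6214 : act 3 n3460 = n6214 := rfl
theorem F5560 : act 1 n6214 = n3461 := d5_1 D6214 (iv D3461) D3460
def n6215 : Q := act 4 n3461
theorem D6215 : act 4 n3461 = n6215 := rfl
theorem F5561 : act 0 n6215 = n3623 := d3_1 D6215 (iv D3623) (iv F2520)
theorem F5562 : act 2 n6215 = n3529 := d8_1 D6215 (iv D3529) (iv F2514) D6208 F5547 (iv D3464) (iv F2519)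
def n6216 : Q := act 1 n3463
theorem D6216 : act 1 n3463 = n6216 := rfl
theorem F5563 : act 3 n6216 = n3643 := d5_2 (iv F2525) D6216 F2699
theorem F5564 : act 4 n6216 = n3732 := d6_2 (iv F5323) D6216 (iv D3732)
def n6217 : Q := act 3 n3465
theorem D6217 : act 3 n3465 = n6217 := rfl
theorem F5565 : act 0 n6217 = n3472 := d2_1 D6217 (iv D3472) (iv D1646) (iv D694) D692 D1642 D3465
theorem F5566 : act 1 n6217 = n4112 := d5_1 D6217 (iv D4112) (iv F2527)
theorem F5567 : act 2 n6217 = n5219 := d7_1 D6217 (iv D5219) (iv F2526)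
def n6218 : Q := act 4 n3465
theorem D6218 : act 4 n3465 = n6218 := rfl
theorem F5568 : act 0 n6218 = n3466 := d3_1 D6218 (iv D3466) D3465
theorem F5569 : act 1 n6218 = n4113 := d6_1 D6218 (iv D4113) (iv F2527)
def n6219 : Q := act 2 n3466
theorem D6219 : act 2 n3466 = n6219 := rfl
def n6220 : Q := act 3 n3466
theorem D6220 : act 3 n3466 = n6220 := rfl
theorem F5570 : act 1 n6220 = n4711 := d5_1 D6220 (iv D4711) (iv F2528)
theorem F5571 : act 0 n6220 = n3475 := d12_3 D1642 D3466 D6220 (iv D3475) (iv D1647) (iv D694) D692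
def n6221 : Q := act 3 n3467
theorem D6221 : act 3 n3467 = n6221 := rfl
theorem F5572 : act 1 n6221 = n4978 := d5_1 D6221 (iv D4978) F2531
theorem F5573 : act 2 n6221 = n3468 := d7_1 D6221 (iv D3468) D3467
def n6222 : Q := act 0 n3468
theorem D6222 : act 0 n3468 = n6222 := rfl
def n6223 : Q := act 4 n3468
theorem D6223 : act 4 n3468 = n6223 := rfl
theorem F5574 : act 1 n6223 = n4715 := d6_1 D6223 (iv D4715) (iv F2532)
def n6224 : Q := act 3 n3469
theorem D6224 : act 3 n3469 = n6224 := rfl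
theorem F5575 : act 0 n6224 = n5219 := d2_1 D6224 (iv D5219) (iv D2768) (iv D1227) (iv F353) D1644 D3469
theorem F5576 : act 2 n6224 = n6224 := d7_1 D6224 (iv D6224) F2533
def n6225 : Q := act 4 n3469
theorem D6225 : act 4 n3469 = n6225 := rfl
theorem F5577 : act 0 n6225 = n3470 := d3_1 D6225 (iv D3470) D3469
def n6226 : Q := act 3 n3470
theorem D6226 : act 3 n3470 = n6226 := rfl
theorem F5578 : act 0 n6226 = n5222 := d12_3 D1644 D3470 D6226 (iv D5222) (iv D2769) (iv D1227) (iv F353)
def n6227 : Q := act 0 n3471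
theorem D6227 : act 0 n3471 = n6227 := rfl
def n6228 : Q := act 4 n3471
theorem D6228 : act 4 n3471 = n6228 := rfl
def n6229 : Q := act 4 n3472
theorem D6229 : act 4 n3472 = n6229 := rfl
theorem F5579 : act 3 n6229 = n3478 := d12_2 D3472 D6229 (iv D3478) (iv D1649) (iv D695) D694 D1646
def n6230 : Q := act 2 n3473
theorem D6230 : act 2 n3473 = n6230 := rfl
theorem F5580 : act 4 n6230 = n4370 := d11_1 D6230 F3303 (iv D4370) (iv F3302) (iv F3808) (iv D3474) (iv F2535)
theorem F5581 : act 0 n6230 = n4371 := d11_3 F956 D3473 D6230 (iv F3807) (iv D3470) F954 D1646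
def n6231 : Q := act 3 n3473
theorem D6231 : act 3 n3473 = n6231 := rfl
def n6232 : Q := act 0 n3474
theorem D6232 : act 0 n3474 = n6232 := rfl
theorem F5582 : act 2 n6232 = n6225 := d1_2 D3474 D6232 F5577 F3807 (iv F5581) (iv D6230) F2535
def n6233 : Q := act 1 n3474
theorem D6233 : act 1 n3474 = n6233 := rfl
theorem F5583 : act 4 n6233 = n4651 := d6_2 (iv F3808) D6233 F3639
def n6234 : Q := act 3 n3474
theorem D6234 : act 3 n3474 = n6234 := rfl
theorem F5584 : act 2 n6234 = n3475 := d7_1 D6234 (iv D3475) D3474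
def n6235 : Q := act 4 n3475
theorem D6235 : act 4 n3475 = n6235 := rfl
theorem F5585 : act 1 n6235 = n3490 := d6_1 D6235 (iv D3490) (iv F2536)
theorem F5586 : act 3 n6235 = n3479 := d9_1 D6235 (iv D3479) (iv D1649) (iv D695) D694 D1647 D3475
def n6236 : Q := act 2 n3476
theorem D6236 : act 2 n3476 = n6236 := rfl
theorem F5587 : act 0 n6236 = n4654 := d1_1 D6236 (iv D4654) F1490 (iv F2616) F2617 D5134 F4123
theorem F5588 : act 1 n6236 = n3492 := d4_1 D6236 (iv D3492) (iv D1656) (iv D698) (iv F355) D1648 D3476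
theorem F5589 : act 4 n6236 = n4785 := d8_2 (iv F2537) D6236 (iv F4116) F4117 (iv D3446) F931 D2391
def n6237 : Q := act 3 n3476
theorem D6237 : act 3 n3476 = n6237 := rfl
theorem F5590 : act 1 n6237 = n3477 := d5_1 D6237 (iv D3477) D3476
def n6238 : Q := act 0 n3477
theorem D6238 : act 0 n3477 = n6238 := rfl
theorem F5591 : act 2 n6238 = n6227 := d10_2 D3477 D6238 (iv D6227) (iv D3471) F955 D2770 F1843
def n6239 : Q := act 4 n3477
theorem D6239 : act 4 n3477 = n6239 := rfl
def n6240 : Q := act 1 n3478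
theorem D6240 : act 1 n3478 = n6240 := rfl
def n6241 : Q := act 2 n3478
theorem D6241 : act 2 n3478 = n6241 := rfl
theorem F5592 : act 0 n6241 = n4372 := d1_1 D6241 F3306 D6227 (iv F5591) (iv D6238) F2538 D3478
def n6242 : Q := act 4 n3478
theorem D6242 : act 4 n3478 = n6242 := rfl
theorem F5593 : act 0 n6242 = n3479 := d3_1 D6242 (iv D3479) D3478
def n6243 : Q := act 2 n3479
theorem D6243 : act 2 n3479 = n6243 := rfl
def n6244 : Q := act 4 n3480
theorem D6244 : act 4 n3480 = n6244 := rfl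
theorem F5594 : act 0 n6244 = n3481 := d3_1 D6244 (iv D3481) D3480
def n6245 : Q := act 2 n3481
theorem D6245 : act 2 n3481 = n6245 := rfl
def n6246 : Q := act 3 n3481
theorem D6246 : act 3 n3481 = n6246 := rfl
theorem F5595 : act 1 n6246 = n3485 := d5_1 D6246 (iv D3485) (iv F2542)
def n6247 : Q := act 3 n3482
theorem D6247 : act 3 n3482 = n6247 := rfl
theorem F5596 : act 0 n6247 = n3591 := d2_1 D6247 (iv D3591) (iv F2509) D6207 F5544 (iv D3566) (iv F2543)
theorem F5597 : act 2 n6247 = n3517 := d7_1 D6247 (iv D3517) (iv F2544)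
def n6248 : Q := act 2 n3483
theorem D6248 : act 2 n3483 = n6248 := rfl
theorem F5598 : act 3 n6248 = n3499 := d7_2 (iv F2546) D6248 (iv D3499)
theorem F5599 : act 0 n6248 = n3592 := d10_3 F2525 (iv F2545) D6248 F2657 (iv F2520) F2519 D3463
def n6249 : Q := act 1 n3484
theorem D6249 : act 1 n3484 = n6249 := rfl
def n6250 : Q := act 3 n3484
theorem D6250 : act 3 n3484 = n6250 := rfl
theorem F5600 : act 0 n6250 = n3594 := d2_1 D6250 (iv D3594) (iv F2516) D6210 F5549 (iv D3569) (iv F2547)
theorem F5601 : act 2 n6250 = n3485 := d7_1 D6250 (iv D3485) D3484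
def n6251 : Q := act 4 n3484
theorem D6251 : act 4 n3484 = n6251 := rfl
theorem F5602 : act 0 n6251 = n3570 := d3_1 D6251 (iv D3570) (iv F2547)
theorem F5603 : act 2 n6251 = n3518 := d8_1 D6251 (iv D3518) (iv F2544) (iv D3482) (iv D1651) D1653 D3484
def n6252 : Q := act 4 n3485
theorem D6252 : act 4 n3485 = n6252 := rfl
theorem F5604 : act 0 n6252 = n3646 := d3_1 D6252 (iv D3646) (iv F2548)
theorem F5605 : act 3 n6252 = n3500 := d9_1 D6252 (iv D3500) (iv F2546) (iv D3483) (iv D1652) D1653 D3485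
def n6253 : Q := act 1 n3486
theorem D6253 : act 1 n3486 = n6253 := rfl
def n6254 : Q := act 3 n3486
theorem D6254 : act 3 n3486 = n6254 := rfl
theorem F5606 : act 0 n6254 = n3598 := d2_1 D6254 (iv D3598) (iv D1713) D1715 (iv F2551) (iv D3488) D3486
theorem F5607 : act 2 n6254 = n3509 := d7_1 D6254 (iv D3509) (iv F2549)
def n6255 : Q := act 4 n3486
theorem D6255 : act 4 n3486 = n6255 := rfl
theorem F5608 : act 0 n6255 = n3489 := d3_1 D6255 (iv D3489) D3486
theorem F5609 : act 2 n6255 = n3514 := d8_1 D6255 (iv D3514) (iv D1667) (iv D703) D701 D1665 (iv F2549)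
def n6256 : Q := act 0 n3487
theorem D6256 : act 0 n3487 = n6256 := rfl
def n6257 : Q := act 2 n3487
theorem D6257 : act 2 n3487 = n6257 := rfl
def n6258 : Q := act 3 n3487
theorem D6258 : act 3 n3487 = n6258 := rfl
theorem F5610 : act 1 n6258 = n3488 := d5_1 D6258 (iv D3488) D3487
def n6259 : Q := act 4 n3487
theorem D6259 : act 4 n3487 = n6259 := rfl
theorem F5611 : act 1 n6259 = n3489 := d6_1 D6259 (iv D3489) D3487
theorem F5612 : act 3 n3494 = n6259 := d5_0 F5611 F2798 (iv F2558)
def n6260 : Q := act 4 n3488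
theorem D6260 : act 4 n3488 = n6260 := rfl
theorem F5613 : act 0 n6260 = n3604 := d3_1 D6260 (iv D3604) (iv F2551)
theorem F5614 : act 2 n6260 = n3524 := d8_1 D6260 (iv D3524) F976 D1673 (iv F5316) (iv D3490) (iv F2550)
theorem F5615 : act 3 n6260 = n3496 := d9_1 D6260 (iv D3496) (iv D1657) D1658 (iv F2798) (iv D3489) D3488
def n6261 : Q := act 3 n3491
theorem D6261 : act 3 n3491 = n6261 := rfl
theorem F5616 : act 1 n6261 = n5940 := d5_1 D6261 F5148 (iv F2554)
theorem F5617 : act 4 n5938 = n6261 := d6_0 F5616 (iv D5940) D5938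
def n6262 : Q := act 0 n3492
theorem D6262 : act 0 n3492 = n6262 := rfl
theorem F5618 : act 4 n6262 = n5798 := d17_0 (iv D5798) (iv D3119) (iv D1425) D1423 (iv F1277) F1278 (iv F550) D2391 (iv F2537) D6236 F5588 D6262
theorem F5619 : act 1 n5800 = n6262 := d6_3 F5618 (iv D5798) D5800
def n6263 : Q := act 3 n3492
theorem D6263 : act 3 n3492 = n6263 := rfl
theorem F5620 : act 2 n6263 = n3493 := d7_1 D6263 (iv D3493) D3492
def n6264 : Q := act 4 n3492
theorem D6264 : act 4 n3492 = n6264 := rfl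
theorem F5621 : act 0 n6264 = n5798 := d3_1 D6264 (iv F5618) (iv D6262)
theorem F5622 : act 1 n6264 = n4785 := d6_1 D6264 (iv F5589) F5588
theorem F5623 : act 2 n6264 = n5398 := d11_2 D3492 D6264 F4384 (iv D5059) D5061 F4039 (iv D3491)
def n6265 : Q := act 0 n3493
theorem D6265 : act 0 n3493 = n6265 := rfl
def n6266 : Q := act 4 n3493
theorem D6266 : act 4 n3493 = n6266 := rfl
theorem F5624 : act 1 n6266 = n3496 := d6_1 D6266 (iv D3496) (iv F2556)
def n6267 : Q := act 1 n3495
theorem D6267 : act 1 n3495 = n6267 := rfl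
def n6268 : Q := act 3 n3495
theorem D6268 : act 3 n3495 = n6268 := rfl
theorem F5625 : act 0 n6268 = n3613 := d2_1 D6268 (iv D3613) (iv D1721) (iv D727) (iv F356) D1657 D3495
theorem F5626 : act 2 n6268 = n3508 := d7_1 D6268 F2571 (iv F2559)
def n6269 : Q := act 4 n3495
theorem D6269 : act 4 n3495 = n6269 := rfl
theorem F5627 : act 0 n6269 = n3496 := d3_1 D6269 (iv D3496) D3495
theorem F5628 : act 2 n6269 = n3550 := d8_1 D6269 (iv D3550) (iv D1685) D1686 D3551 F5315 (iv F2559)
def n6270 : Q := act 0 n3498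
theorem D6270 : act 0 n3498 = n6270 := rfl
theorem F5629 : act 3 n6270 = n3795 := d12_4 F1601 D4823 (iv F3800) D6270 (iv D3795) (iv F2540) (iv D3480)
def n6271 : Q := act 2 n3498
theorem D6271 : act 2 n3498 = n6271 := rfl
def n6272 : Q := act 4 n3498
theorem D6272 : act 4 n3498 = n6272 := rfl
theorem F5630 : act 1 n6272 = n3500 := d6_1 D6272 (iv D3500) D3498
def n6273 : Q := act 1 n3499
theorem D6273 : act 1 n3499 = n6273 := rfl
def n6274 : Q := act 4 n3499
theorem D6274 : act 4 n3499 = n6274 := rfl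
theorem F5631 : act 0 n6274 = n3574 := d3_1 D6274 (iv D3574) (iv F2561)
theorem F5632 : act 2 n6274 = n3541 := d11_2 D3499 D6274 F2603 (iv F5319) (iv D3496) F962 D1659
def n6275 : Q := act 2 n3500
theorem D6275 : act 2 n3500 = n6275 := rfl
theorem F5633 : act 0 n6275 = n3567 := d1_1 D6275 F5320 (iv F5314) (iv D3551) F987 F5317 (iv F2562)
theorem F5634 : act 4 n6275 = n3539 := d8_2 D3500 D6275 (iv D3539) D3541 (iv F5632) (iv D6274) (iv D3499)
theorem F5635 : act 2 n6242 = n6242 := d13_8 D6275 F5633 F2628 (iv F5633) (iv D6275) F2562 (iv F2539) (iv F5593) F5593 F2539 (iv F2562)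
theorem E784 : n6243 = n6228 := ((c11_6 F5635 (iv D6242) D6241 F5592 F3306 D6228 (iv D6243) (iv F5593))).symm
theorem F5636 : act 2 n6228 = n3479 := (sb E784 (iv D6243))
def n6276 : Q := act 4 n3502
theorem D6276 : act 4 n3502 = n6276 := rfl
theorem F5637 : act 0 n6276 = n6276 := d3_1 D6276 (iv D6276) F2563
theorem F5638 : act 2 n6276 = n4383 := d11_2 D3502 D6276 (iv D4383) F1325 (iv D1112) (iv F357) D1661
def n6277 : Q := act 2 n3503
theorem D6277 : act 2 n3503 = n6277 := rfl
theorem F5639 : act 0 n6277 = n6277 := d1_1 D6277 (iv D6277) F2564 D3504 F2565 (iv D3504) (iv F2564)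
def n6278 : Q := act 3 n3503
theorem D6278 : act 3 n3503 = n6278 := rfl
theorem F5640 : act 1 n6278 = n3753 := d5_1 D6278 (iv F5507) F5506
def n6279 : Q := act 3 n3504
theorem D6279 : act 3 n3504 = n6279 := rfl
theorem F5641 : act 2 n6279 = n3505 := d7_1 D6279 (iv D3505) D3504
theorem F5642 : act 4 n5022 = n6279 := d8_0 F5641 F3408 (iv D2641) (iv D1164) D1163 D2640 D5022
def n6280 : Q := act 4 n3504
theorem D6280 : act 4 n3504 = n6280 := rfl
theorem F5643 : act 0 n6280 = n6280 := d3_1 D6280 (iv D6280) F2565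
theorem F5644 : act 2 n6280 = n4384 := d8_1 D6280 (iv D4384) F1325 (iv D1112) (iv F357) D1662 D3504
theorem F5645 : act 3 n4890 = n6280 := d7_0 F5644 (iv F3312) (iv F3877)
def n6281 : Q := act 2 n3506
theorem D6281 : act 2 n3506 = n6281 := rfl
def n6282 : Q := act 3 n3506
theorem D6282 : act 3 n3506 = n6282 := rfl
theorem F5646 : act 1 n6282 = n5661 := d5_1 D6282 (iv D5661) (iv F2567)
def n6283 : Q := act 4 n3506
theorem D6283 : act 4 n3506 = n6283 := rfl
theorem F5647 : act 0 n6283 = n3507 := d3_1 D6283 (iv D3507) D3506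
theorem F5648 : act 1 n6283 = n5662 := d6_1 D6283 (iv D5662) (iv F2567)
def n6284 : Q := act 2 n3507
theorem D6284 : act 2 n3507 = n6284 := rfl
def n6285 : Q := act 3 n3507
theorem D6285 : act 3 n3507 = n6285 := rfl
theorem F5649 : act 1 n6285 = n3509 := d5_1 D6285 (iv D3509) (iv F2568)
def n6286 : Q := act 4 n3509
theorem D6286 : act 4 n3509 = n6286 := rfl
theorem F5650 : act 0 n6286 = n3596 := d3_1 D6286 (iv D3596) (iv F2572)
theorem F5651 : act 3 n6286 = n3551 := d9_1 D6286 F5315 (iv F2571) (iv D3508) (iv D1664) D1665 D3509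
theorem F5652 : act 2 n6286 = n3515 := d11_2 F5607 D6286 F2579 (iv F5327) (iv D3646) (iv F2661) (iv F5606)
theorem F5653 : act 1 n5032 = n6286 := d4_7 F5652 (iv F3406) (iv D2641) F643 D1167 D2646 D5032
theorem F5654 : act 4 n6285 = n5032 := d6_0 F5653 (iv D6286) (iv F5649)
def n6287 : Q := act 1 n3510
theorem D6287 : act 1 n3510 = n6287 := rfl
theorem F5655 : act 3 n6287 = n3549 := d5_2 (iv F2573) D6287 (iv D3549)
def n6288 : Q := act 4 n3510
theorem D6288 : act 4 n3510 = n6288 := rfl
theorem F5656 : act 0 n6288 = n3663 := d3_1 D6288 F2785 (iv F2574)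
theorem F5657 : act 3 n6288 = n3514 := d12_2 (iv F2573) D6288 F2806 (iv D1765) (iv D748) D747 (iv F986)
theorem F5658 : act 1 n6288 = n4930 := d16_3 D1765 (iv F2806) (iv F5657) (iv D4930) F1685 F1197 (iv D594) F100 (iv F103) D604 (iv F866) (iv F384)
theorem F5659 : act 4 n4930 = n6287 := d6_2 D6288 F5658 (iv D6287)
def n6289 : Q := act 1 n3511
theorem D6289 : act 1 n3511 = n6289 := rfl
theorem F5660 : act 3 n6289 = n3674 := d5_2 (iv F2576) D6289 (iv D3674)
theorem F5661 : act 4 n6289 = n3687 := d6_2 (iv F2805) D6289 F2723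
def n6290 : Q := act 0 n3512
theorem D6290 : act 0 n3512 = n6290 := rfl
def n6291 : Q := act 2 n3512
theorem D6291 : act 2 n3512 = n6291 := rfl
def n6292 : Q := act 3 n3512
theorem D6292 : act 3 n3512 = n6292 := rfl
theorem F5662 : act 1 n6292 = n3513 := d5_1 D6292 (iv D3513) D3512
def n6293 : Q := act 4 n3512
theorem D6293 : act 4 n3512 = n6293 := rfl
theorem F5663 : act 1 n6293 = n3514 := d6_1 D6293 (iv D3514) D3512
theorem F5664 : act 3 n4930 = n6293 := d5_0 F5663 (iv F5657) F5658
theorem F5665 : act 2 n4918 = n6293 := d16_4 D594 (iv F1197) (iv F1681) (iv F3903) F5663 F2806 (iv D1765) F384 F866 (iv D604) F103 (iv F100)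
def n6294 : Q := act 4 n3513
theorem D6294 : act 4 n3513 = n6294 := rfl
theorem F5666 : act 0 n6294 = n3662 := d3_1 D6294 (iv D3662) (iv F2577)
theorem F5667 : act 3 n6294 = n3550 := d9_1 D6294 (iv D3550) (iv F2573) D6288 F5657 (iv D3514) D3513
theorem F5668 : act 1 n6294 = n5030 := d16_3 F2787 (iv F2607) (iv F5667) (iv D5030) F1731 F644 (iv F1178) F788 (iv F786) D3108 F4730 (iv F2716)
theorem F5669 : act 4 n5030 = n6292 := d6_2 D6294 F5668 F5662
def n6295 : Q := act 0 n3516
theorem D6295 : act 0 n3516 = n6295 := rfl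

end Cfsg.Agent.Helper17.HCPTC
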