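import Cfsg.Agent.Helper17.HCPTC.Facts1

set_option autoImplicit false
set_option linter.all false

noncomputable section

namespace Cfsg.Agent.Helper17.HCPTC

def n6296 : Q := act 2 n3516
theorem D6296 : act 2 n3516 = n6296 := rfl
def n6297 : Q := act 3 n3516
theorem D6297 : act 3 n3516 = n6297 := rfl
theorem F5670 : act 1 n6297 = n3517 := d5_1 D6297 (iv D3517) D3516
def n6298 : Q := act 4 n3516
theorem D6298 : act 4 n3516 = n6298 := rfl
theorem F5671 : act 1 n6298 = n3518 := d6_1 D6298 (iv D3518) D3516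
theorem F5672 : act 2 n5497 = n6298 := d16_4 (iv F1199) (iv F1618) (iv F3820) (iv F4526) F5671 F2582 (iv F2800) (iv F981) (iv F2469) (iv D2742) F671 F570
def n6299 : Q := act 4 n3517
theorem D6299 : act 4 n3517 = n6299 := rfl
theorem F5673 : act 0 n6299 = n3655 := d3_1 D6299 (iv D3655) (iv F2581)
theorem F5674 : act 3 n6299 = n3541 := d12_2 D3517 D6299 F2603 (iv F2801) (iv D3524) (iv D1671) D1669
def n6300 : Q := act 3 n3518
theorem D6300 : act 3 n3518 = n6300 := rfl
theorem F5675 : act 0 n6300 = n3648 := d2_1 D6300 F2802 (iv F2796) (iv D3530) F981 F2800 (iv F2582)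
theorem F5676 : act 4 n6300 = n3540 := d9_2 D3518 D6300 (iv D3540) D3541 (iv F5674) (iv D6299) (iv D3517)
def n6301 : Q := act 1 n3519
theorem D6301 : act 1 n3519 = n6301 := rfl
def n6302 : Q := act 3 n3519
theorem D6302 : act 3 n3519 = n6302 := rfl
theorem F5677 : act 2 n6302 = n6302 := d7_1 D6302 (iv D6302) F2583
def n6303 : Q := act 4 n3519
theorem D6303 : act 4 n3519 = n6303 := rfl
theorem F5678 : act 0 n6303 = n3522 := d3_1 D6303 (iv D3522) D3519
theorem F5679 : act 1 n6303 = n5672 := d17_1 D6303 (iv D5672) (iv D3048) D3046 F2131 (iv D1646) F354 F120 D275 D704 D1670 D3519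
theorem F5680 : act 4 n6301 = n5672 := d6_2 (iv D6303) D6301 (iv F5679)
def n6304 : Q := act 0 n3520
theorem D6304 : act 0 n3520 = n6304 := rfl
theorem F5681 : act 2 n6304 = n6304 := d1_2 D3520 D6304 (iv D6304) (iv D3520) D3519 F2583 (iv D3519)
def n6305 : Q := act 3 n3520
theorem D6305 : act 3 n3520 = n6305 := rfl
theorem F5682 : act 2 n6305 = n3521 := d7_1 D6305 (iv D3521) D3520
def n6306 : Q := act 4 n3520
theorem D6306 : act 4 n3520 = n6306 := rfl
def n6307 : Q := act 0 n3521
theorem D6307 : act 0 n3521 = n6307 := rfl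
theorem F5683 : act 2 n6307 = n6307 := d10_2 D3521 D6307 (iv D6307) (iv D3521) D3519 F2583 (iv D3519)
def n6308 : Q := act 4 n3521
theorem D6308 : act 4 n3521 = n6308 := rfl
theorem F5684 : act 1 n6308 = n3524 := d6_1 D6308 (iv D3524) (iv F2584)
theorem F5685 : act 3 n6308 = n3536 := d9_1 D6308 (iv D3536) (iv D1679) D1680 (iv F2799) (iv D3522) D3521
def n6309 : Q := act 1 n3523
theorem D6309 : act 1 n3523 = n6309 := rfl
theorem F5686 : act 3 n6309 = n3649 := d5_2 (iv F2586) D6309 (iv D3649)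
theorem F5687 : act 0 n6309 = n6140 := d13_3 (iv F976) D3523 D6309 (iv D6140) (iv D3394) F897 F329 F328 F114 (iv F123) (iv F363)
def n6310 : Q := act 4 n3523
theorem D6310 : act 4 n3523 = n6310 := rfl
theorem F5688 : act 0 n6310 = n3524 := d3_1 D6310 (iv D3524) D3523
theorem F5689 : act 3 n6310 = n3529 := d9_1 D6310 (iv D3529) (iv D1675) D1676 D3530 F2797 (iv F2586)
def n6311 : Q := act 3 n3527
theorem D6311 : act 3 n3527 = n6311 := rfl
theorem F5690 : act 2 n6311 = n3528 := d7_1 D6311 (iv D3528) D3527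
theorem F5691 : act 0 n6311 = n6162 := d10_1 D6311 (iv D6162) (iv D3411) (iv D1609) D1608 D3409 (iv F2588)
def n6312 : Q := act 4 n3527
theorem D6312 : act 4 n3527 = n6312 := rfl
theorem F5692 : act 0 n6312 = n6159 := d3_1 D6312 (iv D6159) (iv F2588)
theorem F5693 : act 2 n6312 = n4392 := d8_1 D6312 F3323 (iv D2432) (iv F672) D2742 (iv F2470) D3527
def n6313 : Q := act 4 n3528
theorem D6313 : act 4 n3528 = n6313 := rfl
theorem F5694 : act 0 n6313 = n6170 := d3_1 D6313 (iv D6170) (iv F2590)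
theorem F5695 : act 1 n6313 = n3529 := d6_1 D6313 (iv D3529) (iv F2589)
def n6314 : Q := act 0 n3531
theorem D6314 : act 0 n3531 = n6314 := rfl
theorem F5696 : act 1 n6314 = n4115 := d16_9 F2492 (iv D1633) (iv D687) F119 D276 D707 D1677 D3531 D6314 (iv D4115) (iv F3098) F3097
theorem F5697 : act 4 n3531 = n4720 := d17_0 (iv D4720) (iv D2450) (iv D1059) (iv F578) (iv F950) D3465 F2527 (iv D2012) D2014 D4115 (iv F5696) (iv D6314)
theorem E785 : n4729 = n4722 := ((c6_3 F5697 (iv D4720) D4722 F3725)).symm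
theorem F5698 : act 1 n4722 = n3531 := (sb E785 F3725)
theorem F5699 : act 3 n4722 = n2455 := (sb E785 (iv D4729))
def n6315 : Q := act 3 n3532
theorem D6315 : act 3 n3532 = n6315 := rfl
theorem F5700 : act 1 n6315 = n5847 := d5_1 D6315 (iv D5847) (iv F2593)
theorem F5701 : act 2 n6315 = n6315 := d7_1 D6315 (iv D6315) F2594
def n6316 : Q := act 0 n3533
theorem D6316 : act 0 n3533 = n6316 := rfl
theorem F5702 : act 2 n6316 = n6316 := d1_2 (iv F2596) D6316 (iv D6316) F2596 D3535 F2598 (iv D3535)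
def n6317 : Q := act 4 n3533
theorem D6317 : act 4 n3533 = n6317 := rfl
def n6318 : Q := act 3 n3534
theorem D6318 : act 3 n3534 = n6318 := rfl
def n6319 : Q := act 1 n3535
theorem D6319 : act 1 n3535 = n6319 := rfl
def n6320 : Q := act 3 n3535
theorem D6320 : act 3 n3535 = n6320 := rfl
theorem F5703 : act 2 n6320 = n6320 := d7_1 D6320 (iv D6320) F2598
def n6321 : Q := act 4 n3535
theorem D6321 : act 4 n3535 = n6321 := rfl
theorem F5704 : act 0 n6321 = n3536 := d3_1 D6321 (iv D3536) D3535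
def n6322 : Q := act 2 n3536
theorem D6322 : act 2 n3536 = n6322 := rfl
def n6323 : Q := act 0 n3538
theorem D6323 : act 0 n3538 = n6323 := rfl
def n6324 : Q := act 2 n3538
theorem D6324 : act 2 n3538 = n6324 := rfl
def n6325 : Q := act 3 n3538
theorem D6325 : act 3 n3538 = n6325 := rfl
theorem F5705 : act 1 n6325 = n3540 := d5_1 D6325 (iv D3540) D3538
def n6326 : Q := act 4 n3538
theorem D6326 : act 4 n3538 = n6326 := rfl
theorem F5706 : act 1 n6326 = n3541 := d6_1 D6326 (iv D3541) D3538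
def n6327 : Q := act 2 n3546
theorem D6327 : act 2 n3546 = n6327 := rfl
theorem F5707 : act 0 n6327 = n6327 := d1_1 D6327 (iv D6327) (iv D3546) D3547 F2605 (iv D3547) D3546
def n6328 : Q := act 4 n3546
theorem D6328 : act 4 n3546 = n6328 := rfl
theorem F5708 : act 0 n6328 = n3548 := d3_1 D6328 (iv D3548) D3546
def n6329 : Q := act 4 n3547
theorem D6329 : act 4 n3547 = n6329 := rfl
theorem F5709 : act 0 n6329 = n6329 := d3_1 D6329 (iv D6329) F2605
theorem F5710 : act 2 n6329 = n4401 := d8_1 D6329 F3332 F1668 D2558 F3409 (iv D3548) D3547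
theorem F5711 : act 3 n6329 = n5022 := d9_1 D6329 F5642 (iv D6279) D6280 (iv F5645) (iv D4890) (iv F2604)
def n6330 : Q := act 0 n3549
theorem D6330 : act 0 n3549 = n6330 := rfl
def n6331 : Q := act 2 n3549
theorem D6331 : act 2 n3549 = n6331 := rfl
def n6332 : Q := act 4 n3549
theorem D6332 : act 4 n3549 = n6332 := rfl
theorem F5712 : act 1 n6332 = n3550 := d6_1 D6332 (iv D3550) D3549
theorem F5713 : act 3 n6332 = n5030 := d9_1 D6332 F5669 (iv D6292) D6293 (iv F5664) F5659 F5655
theorem F5714 : act 2 n4929 = n6332 := d7_3 F5713 (iv D5030) (iv F3911)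
def n6333 : Q := act 1 n3551
theorem D6333 : act 1 n3551 = n6333 := rfl
theorem F5715 : act 2 n6333 = n4916 := d4_2 D3551 D6333 F3901 F2184 (iv F1670) F3409 F2606
theorem F5716 : act 3 n6333 = n5032 := d5_2 F5651 D6333 F5653
theorem F5717 : act 4 n6333 = n3576 := d6_2 (iv F5315) D6333 (iv D3576)
def n6334 : Q := act 2 n3555
theorem D6334 : act 2 n3555 = n6334 := rfl
theorem F5718 : act 0 n6334 = n5610 := d11_3 (iv F989) D3555 D6334 (iv D5610) (iv D3006) (iv F992) (iv D1690)
theorem F5719 : act 1 n5397 = n6334 := d17_1 D5397 (iv D6334) (iv D3555) F989 F367 (iv F359) D1663 F966 D2566 D4910 (iv F4383) (iv D5396)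
theorem F5720 : act 4 n6334 = n5394 := d6_2 D5397 F5719 F4378
theorem F5721 : act 0 n4388 = n5397 := d13_1 D4388 F5719 F5718 (iv D5610) F2091 F1427 (iv F2486) (iv F3285) F3284 F1307 (iv F1332)
theorem F5722 : act 4 n4388 = n5396 := d17_0 F4383 (iv D4910) (iv D2566) (iv F966) (iv D1663) F359 (iv F367) (iv F989) D3555 D6334 (iv F5719) (iv F5721)
theorem F5723 : act 3 n5397 = n4262 := d10_4 F2076 (iv F1332) D4388 F5721 (iv D4262) (iv D2082) (iv F1258)
theorem F5724 : act 2 n5397 = n4407 := d11_4 (iv D2164) D2166 D4388 F5721 (iv D4407) F1341 (iv F1329)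
theorem E786 : n4409 = n3568 := (c8_6 D5397 F5724 (iv D4407) F1341 D2180 D4409 F4381 F4380)
theorem F5725 : act 2 n3568 = n2180 := (sb E786 (iv D4409))
theorem F5726 : act 4 n4262 = n5373 := d9_2 D5397 F5723 F4469 (iv D4456) (iv D2210) (iv F1362) D2866
theorem E787 : n4454 = n525 := (c12_7 D2866 D5397 F5723 (iv D4262) F2077 D2207 D4454 D1276)
theorem E788 : n2207 = n1278 := (((D1278).symm.trans (sb E787 (iv D4454)))).symm
theorem E789 : n4451 = n2869 := (((D2869).symm.trans (sb E788 (iv F3429)))).symm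
theorem E790 : n4453 = n526 := (((F723).symm.trans (sb E788 (iv F3430)))).symm
theorem E791 : n4426 = n2868 := ((((iv F1935)).symm.trans (sb E788 (iv F3353)))).symm
theorem E792 : n2870 = n936 := ((D2870).symm.trans (sb E788 (iv D2207)))
theorem E793 : n5405 = n2204 := ((D5405).symm.trans (sb E789 (iv D4451)))
theorem E794 : n2205 = n1281 := (((D1281).symm.trans (sb E790 (iv D4453)))).symm
theorem E795 : n5401 = n2187 := ((D5401).symm.trans (sb E791 (iv D4426)))
theorem E797 : n5374 = n2082 := ((((iv F2077)).symm.trans (sb E792 (iv F4431)))).symm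
theorem F5727 : act 4 n936 = n1278 := (sb E792 (iv D2870))
theorem F5728 : act 4 n2204 = n2869 := (sb E793 (iv D5405))
theorem F5729 : act 1 n1281 = n936 := (sb E794 (iv D2205))
theorem E799 : n3916 = n2826 := (((F5287).symm.trans (sb E794 F3417))).symm
theorem E800 : n4263 = n2856 := (((F4434).symm.trans (sb E794 (iv F3214)))).symm
theorem E801 : n4424 = n2949 := ((D4424).symm.trans (sb E795 F4387))
theorem F5730 : act 4 n2187 = n2868 := (sb E795 (iv D5401))
theorem E802 : n4264 = n2853 := ((D4264).symm.trans (sb E797 (iv D5374)))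
theorem E803 : n5320 = n1883 := (((iv F4322)).symm.trans (sb E799 (iv D3916)))
theorem F5731 : act 1 n2856 = n2082 := (sb E800 (iv D4263))
theorem F5732 : act 1 n2949 = n2187 := (sb E801 (iv D4424))
theorem F5733 : act 4 n2853 = n2082 := (sb E802 (iv D4264))
theorem F5734 : act 1 n1883 = n2826 := (sb E803 F4322)
theorem E804 : n3917 = n2824 := ((D3917).symm.trans (sb E803 (iv D5320)))
theorem F5735 : act 4 n2824 = n1883 := (sb E804 (iv D3917))
theorem F5736 : act 4 n3915 = n5319 := d3_2 F5735 D3915 (iv D5319)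
theorem F5737 : act 4 n3902 = n5318 := d8_6 F5735 (iv D1883) (iv D800) (iv F424) D1876 D3902 F4321
theorem F5738 : act 4 n3862 = n5310 := d9_2 F5735 (iv F2890) (iv D5310) F4438 F2042 (iv F1366) D2824
theorem F5739 : act 1 n5312 = n3862 := d6_3 F5738 F4310 D5312
theorem F5740 : act 1 n5535 = n3902 := d6_3 F5737 F4320 F5329
theorem F5741 : act 4 n4247 = n5371 := d8_6 F5733 (iv D2082) (iv D885) (iv F465) D2075 D4247 F4360
theorem F5742 : act 4 n4450 = n5368 := d12_5 D2853 F5733 F2077 D2204 D4450 (iv D5368) (iv D2851)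
theorem F5743 : act 1 n5524 = n4247 := d6_3 F5741 F4359 D5524
theorem E805 : n5531 = n4473 := ((c17_11 D2949 F5732 (iv D2187) (iv D929) F169 F60 D142 D375 D945 D2223 D4473 (iv D5531) (iv D2948))).symm
theorem F5744 : act 1 n4473 = n2948 := (sb E805 (iv D5531))
theorem F5745 : act 2 n4466 = n6027 := d15_8 (iv D5403) (iv D2869) (iv F1935) F1934 D2948 (iv F5744) (iv D4473) (iv F3438) (iv D6027) F2396 (iv F3669) (iv F4388)
theorem F5746 : act 0 n4519 = n5364 := d16_12 F4455 F1939 F4434 F5731 (iv D2082) F466 (iv F469) (iv F2082) (iv F176) (iv F507) D2275 D4519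
theorem F5747 : act 1 n4165 = n5275 := d16_5 (iv F2082) (iv F176) F2072 (iv F1239) D4165 F4273 (iv F4432) F4364 F5731 (iv D2082) F466 (iv F469)
theorem F5748 : act 3 n5275 = n4519 := d16_2 F4432 (iv F4273) (iv D4519) (iv D2275) F507 F176 F2082 F469 (iv F466) D2082 (iv F5731) (iv F4364)
theorem F5749 : act 4 n4519 = n5246 := d9_2 D5275 F5748 (iv D5246) D5247 F4459 (iv D4030) (iv F1868)
theorem F5750 : act 1 n5246 = n4520 := d6_1 F5749 (iv D4520) D4519
theorem F5751 : act 3 n4520 = n5245 := d5_2 D5246 F5750 (iv D5245)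
theorem F5752 : act 4 n5274 = n4165 := d9_6 D4520 F5751 (iv F4462) F3111 (iv F4377) (iv F4272) F3125
theorem F5753 : act 4 n5400 = n4423 := d3_2 F5730 D5400 (iv D4423)
theorem F5754 : act 4 n5403 = n4421 := d11_5 D2187 F5730 F1935 D2869 D5403 (iv D4421) F1344
theorem F5755 : act 4 n5409 = n5854 := d17_9 D1452 F808 D2187 F5730 F1935 F723 D1280 D2871 D5409 (iv D5854) (iv D3157) (iv D1451)
theorem F5756 : act 2 n4487 = n5408 := d11_6 D5409 F5755 (iv D5854) F3476 (iv D4486) D4487 (iv D5408)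
theorem E806 : n5720 = n5410 := ((c10_5 D5708 F4778 F5756 (iv D5408) D5410 (iv D5720) (iv D3070) (iv F2141))).symm
theorem F5757 : act 0 n5410 = n3070 := (sb E806 (iv D5720))
theorem E807 : n5722 = n5613 := (c17_1 D5722 (iv D5613) (iv D3007) (iv D1357) D1355 F761 D1377 (iv F1222) F1060 D3760 F2767 (iv F4394) F5757)
theorem F5758 : act 4 n5613 = n3070 := (sb E807 (iv D5722))
theorem E808 : n5721 = n5615 := (c6_2 F5758 D5721 (iv D5615) D5613)
theorem F5759 : act 1 n5615 = n3070 := (sb E808 (iv D5721))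
theorem F5760 : act 2 n4448 = n5400 := d8_7 F5753 F3351 (iv D2200) (iv D933) D935 D2202 D4448
theorem F5761 : act 4 n5402 = n4449 := d6_2 F5728 D5402 (iv D4449)
def n6335 : Q := act 3 n3555
theorem D6335 : act 3 n3555 = n6335 := rfl
theorem F5762 : act 1 n6335 = n6335 := d5_1 D6335 (iv D6335) F2608
theorem F5763 : act 0 n6335 = n5078 := d12_3 D1688 D3555 D6335 (iv D5078) (iv D2679) (iv D1182) (iv F366)
def n6336 : Q := act 4 n3556
theorem D6336 : act 4 n3556 = n6336 := rfl
theorem F5764 : act 1 n6336 = n6336 := d6_1 D6336 (iv D6336) F2609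
def n6337 : Q := act 2 n3557
theorem D6337 : act 2 n3557 = n6337 := rfl
def n6338 : Q := act 3 n3557
theorem D6338 : act 3 n3557 = n6338 := rfl
theorem F5765 : act 1 n6338 = n5664 := d5_1 D6338 (iv D5664) (iv F2611)
def n6339 : Q := act 0 n3558
theorem D6339 : act 0 n3558 = n6339 := rfl
def n6340 : Q := act 1 n3558
theorem D6340 : act 1 n3558 = n6340 := rfl
theorem F5766 : act 2 n6340 = n4405 := d4_2 D3558 D6340 F3339 (iv F5725) (iv D3568) (iv D1696) (iv F995)
theorem F5767 : act 4 n5129 = n6340 := d17_0 (iv D6340) (iv D3558) (iv D1691) (iv F989) F988 (iv F1956) F1957 F727 D1295 D2905 D5468 F4503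
def n6341 : Q := act 3 n3558
theorem D6341 : act 3 n3558 = n6341 := rfl
theorem F5768 : act 2 n6341 = n3559 := d7_1 D6341 (iv D3559) D3558
def n6342 : Q := act 4 n3558
theorem D6342 : act 4 n3558 = n6342 := rfl
theorem F5769 : act 1 n6342 = n5129 := d6_1 D6342 F5767 (iv D6340)
theorem F5770 : act 2 n6342 = n5394 := d8_1 D6342 (iv F5720) (iv D6334) (iv D3555) F989 D1691 D3558
theorem F5771 : act 3 n3563 = n6342 := d7_0 F5770 (iv D5394) (iv F2622)
def n6343 : Q := act 4 n3559
theorem D6343 : act 4 n3559 = n6343 := rfl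
theorem F5772 : act 1 n6343 = n3571 := d6_1 D6343 (iv D3571) (iv F2612)
theorem F5773 : act 3 n6343 = n3565 := d9_1 D6343 (iv D3565) (iv D1693) (iv D714) D713 D1691 D3559
def n6344 : Q := act 3 n3560
theorem D6344 : act 3 n3560 = n6344 := rfl
theorem F5774 : act 1 n6344 = n5830 := d5_1 D6344 (iv D5830) F2614
theorem F5775 : act 2 n6344 = n5075 := d7_1 D6344 (iv D5075) (iv F2613)
def n6345 : Q := act 3 n3561
theorem D6345 : act 3 n3561 = n6345 := rfl
theorem F5776 : act 1 n6345 = n3562 := d5_1 D6345 (iv D3562) D3561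
theorem F5777 : act 2 n6345 = n4406 := d7_1 D6345 (iv D4406) (iv F2616)
def n6346 : Q := act 0 n3562
theorem D6346 : act 0 n3562 = n6346 := rfl
def n6347 : Q := act 4 n3562
theorem D6347 : act 4 n3562 = n6347 := rfl
def n6348 : Q := act 2 n3564
theorem D6348 : act 2 n3564 = n6348 := rfl
theorem F5778 : act 3 n6348 = n5609 := d7_2 (iv F2623) D6348 (iv D5609)
def n6349 : Q := act 4 n3564
theorem D6349 : act 4 n3564 = n6349 := rfl
theorem F5779 : act 0 n6349 = n3565 := d3_1 D6349 (iv D3565) D3564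
theorem F5780 : act 1 n6349 = n5667 := d6_1 D6349 (iv D5667) F2624
theorem F5781 : act 2 n5616 = n6349 := d13_0 F5779 F2625 (iv F5314) (iv D3551) F987 (iv F934) (iv F2504) (iv F5502) F5501 (iv F3511) (iv F4636)
theorem F5782 : act 2 n6336 = n3565 := d11_2 F3432 D6336 (iv F5779) (iv F5781) (iv D5616) (iv F4635) F4634
theorem E809 : n5688 = n5667 := ((c4_2 F5781 F5780 (iv D5688) F2135 F2189 (iv F768) (iv F3411) (iv F4637))).symm
theorem F5783 : act 2 n5667 = n3055 := (sb E809 (iv D5688))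
theorem F5784 : act 3 n5667 = n3212 := (sb E809 F4750)
theorem F5785 : act 3 n6349 = n5900 := d7_2 (iv F4638) F5781 (iv D5900)
theorem F5786 : act 4 n5900 = n6338 := d9_2 D6349 F5785 (iv D6338) (iv D3557) F993 D3005 (iv F2623)
theorem E810 : n5915 = n5664 := ((c6_2 F5786 F5765 (iv D5915) (iv F5093))).symm
theorem F5787 : act 4 n5664 = n3212 := (sb E810 (iv D5915))
theorem F5788 : act 4 n5914 = n5296 := d3_2 F5787 D5914 (iv F4714)
theorem F5789 : act 1 n5304 = n5914 := d6_3 F5788 F4296 D5304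
theorem F5790 : act 3 n5330 = n5914 := d9_7 F5788 (iv D5296) (iv D2811) (iv F1223) D3040 (iv F2129) D5330
theorem F5791 : act 0 n5681 = n3686 := d17_6 D6349 F5780 F5783 (iv D3055) (iv F2134) (iv F4748) F2722 (iv F5321) (iv D3574) F1001 (iv F996) D3564
theorem F5792 : act 4 n3685 = n5681 := d17_0 F4748 F2134 D3055 (iv F5783) (iv F5780) F5779 F2625 (iv F5320) (iv D3567) F999 (iv F1040) D3685
theorem F5793 : act 1 n5683 = n3685 := d6_3 F5792 F4748 D5683
theorem F5794 : act 1 n6321 = n5686 := d15_5 (iv F5628) F5627 F5319 (iv F2599) (iv F5704) (iv D5686) (iv D3054) (iv F2134) (iv F4748) F5791 F2722 (iv F2607)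
theorem F5795 : act 4 n5686 = n6319 := d6_2 D6321 F5794 (iv D6319)
def n6350 : Q := act 4 n3566
theorem D6350 : act 4 n3566 = n6350 := rfl
theorem F5796 : act 1 n6350 = n6350 := d6_1 D6350 (iv D6350) F2626
theorem F5797 : act 3 n6350 = n3567 := d9_1 D6350 (iv D3567) (iv D1695) (iv D716) D715 D1694 D3566
theorem F5798 : act 2 n6350 = n3571 := d11_2 (iv F2627) D6350 F2630 (iv F5282) (iv D745) (iv F381) D1756
def n6351 : Q := act 0 n3568
theorem D6351 : act 0 n3568 = n6351 := rfl
theorem F5799 : act 2 n6351 = n4376 := d11_4 F1341 D2180 (iv F5725) D6351 (iv D4376) D4374 F3307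
def n6352 : Q := act 3 n3568
theorem D6352 : act 3 n3568 = n6352 := rfl
theorem F5800 : act 1 n6352 = n3569 := d5_1 D6352 (iv D3569) D3568
theorem F5801 : act 2 n6352 = n4246 := d7_1 D6352 F4839 (iv F5725)
def n6353 : Q := act 4 n3569
theorem D6353 : act 4 n3569 = n6353 := rfl
theorem F5802 : act 2 n6353 = n3675 := d8_1 D6353 (iv D3675) (iv F2627) D6350 F5798 (iv D3571) (iv F2629)
theorem F5803 : act 3 n6353 = n3574 := d9_1 D6353 (iv D3574) (iv D1699) D1700 (iv F2808) (iv D3570) D3569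
def n6354 : Q := act 3 n3572
theorem D6354 : act 3 n3572 = n6354 := rfl
theorem F5804 : act 1 n6354 = n4678 := d5_1 D6354 F5201 (iv F2634)
theorem F5805 : act 2 n6354 = n4216 := d7_1 D6354 F4850 (iv F2632)
theorem F5806 : act 0 n6354 = n4241 := d10_1 D6354 (iv D4241) F1257 (iv F4837) (iv F487) (iv F1930) D3572
theorem F5807 : act 4 n4676 = n6354 := d3_0 F5806 (iv F4464) F4356
def n6355 : Q := act 0 n3573
theorem D6355 : act 0 n3573 = n6355 := rfl
theorem F5808 : act 2 n6355 = n4381 := d10_2 D3573 D6355 (iv D4381) (iv D2162) (iv F1316) (iv F2632) (iv D3572)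
def n6356 : Q := act 4 n3573
theorem D6356 : act 4 n3573 = n6356 := rfl
theorem F5809 : act 1 n6356 = n3574 := d6_1 D6356 (iv D3574) (iv F2635)
def n6357 : Q := act 0 n3576
theorem D6357 : act 0 n3576 = n6357 := rfl
theorem F5810 : act 1 n6357 = n5666 := d0_2 D3576 D6357 (iv D5666) F2624 (iv D3564) F996 D1701
def n6358 : Q := act 2 n3576
theorem D6358 : act 2 n3576 = n6358 := rfl
theorem F5811 : act 3 n6358 = n4905 := d7_2 (iv F2638) D6358 (iv D4905)
def n6359 : Q := act 0 n3579
theorem D6359 : act 0 n3579 = n6359 := rfl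
theorem F5812 : act 3 n6359 = n4099 := d2_2 D3579 D6359 F3598 (iv D4616) (iv F2017) (iv D1705) D1703
theorem F5813 : act 1 n4101 = n6359 := d5_3 F5812 (iv D4099) D4101
def n6360 : Q := act 4 n3579
theorem D6360 : act 4 n3579 = n6360 := rfl
theorem F5814 : act 3 n6360 = n3619 := d12_2 D3579 D6360 (iv D3619) F2647 (iv D3584) (iv D1705) D1703
def n6361 : Q := act 2 n3580
theorem D6361 : act 2 n3580 = n6361 := rfl
def n6362 : Q := act 3 n3580
theorem D6362 : act 3 n3580 = n6362 := rfl
def n6363 : Q := act 4 n3581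
theorem D6363 : act 4 n3581 = n6363 := rfl
theorem F5815 : act 0 n6363 = n3583 := d3_1 D6363 (iv D3583) D3581
theorem F5816 : act 1 n6363 = n4015 := d6_1 D6363 (iv D4015) (iv F2642)
def n6364 : Q := act 0 n3582
theorem D6364 : act 0 n3582 = n6364 := rfl
theorem F5817 : act 1 n6364 = n5083 := d0_2 (iv F2644) D6364 (iv D5083) (iv D2682) (iv D1184) (iv F655) D2678
def n6365 : Q := act 4 n3582
theorem D6365 : act 4 n3582 = n6365 := rfl
theorem F5818 : act 1 n6365 = n5076 := d6_1 D6365 (iv D5076) (iv F2644)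
def n6366 : Q := act 3 n3583
theorem D6366 : act 3 n3583 = n6366 := rfl
theorem F5819 : act 1 n6366 = n5081 := d5_1 D6366 (iv F4481) F4480
def n6367 : Q := act 2 n3584
theorem D6367 : act 2 n3584 = n6367 := rfl
theorem F5820 : act 3 n6367 = n3620 := d7_2 F2647 D6367 (iv D3620)
def n6368 : Q := act 0 n3585
theorem D6368 : act 0 n3585 = n6368 := rfl
theorem F5821 : act 2 n6368 = n6090 := d11_4 (iv D1704) D1706 D3585 D6368 (iv D6090) (iv F2643) (iv D3581)
def n6369 : Q := act 1 n3585
theorem D6369 : act 1 n3585 = n6369 := rfl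
theorem F5822 : act 0 n6369 = n5476 := d14_3 (iv F1004) D3585 D6369 F4508 (iv F4499) F4498 (iv D5308) (iv D2818) (iv D1252) F250 (iv F373)
theorem F5823 : act 4 n5473 = n6369 := d17_0 (iv D6369) (iv D3585) (iv D1706) D1704 (iv F1952) (iv D2895) (iv D1291) (iv D531) D533 D1296 D2907 D5473
def n6370 : Q := act 3 n3585
theorem D6370 : act 3 n3585 = n6370 := rfl
theorem F5824 : act 2 n6370 = n3586 := d7_1 D6370 (iv D3586) D3585
def n6371 : Q := act 4 n3585
theorem D6371 : act 4 n3585 = n6371 := rfl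
theorem F5825 : act 1 n6371 = n5473 := d6_1 D6371 F5823 (iv D6369)
theorem F5826 : act 2 n6371 = n5366 := d8_1 D6371 F4467 F4468 (iv D3583) (iv D1704) D1706 D3585
def n6372 : Q := act 0 n3586
theorem D6372 : act 0 n3586 = n6372 := rfl
def n6373 : Q := act 4 n3586
theorem D6373 : act 4 n3586 = n6373 := rfl
theorem F5827 : act 1 n6373 = n3596 := d6_1 D6373 (iv D3596) (iv F2648)
theorem F5828 : act 3 n6373 = n3621 := d9_1 D6373 (iv D3621) F2647 (iv D3584) (iv D1705) D1706 D3586
def n6374 : Q := act 3 n3587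
theorem D6374 : act 3 n3587 = n6374 := rfl
theorem F5829 : act 2 n6374 = n4077 := d7_1 D6374 (iv D4077) (iv F2649)
theorem F5830 : act 0 n6374 = n4100 := d10_1 D6374 (iv D4100) (iv D2007) (iv D853) D852 (iv F1005) D3587
theorem F5831 : act 1 n4100 = n4100 := d16_9 (iv D4616) (iv F2017) (iv D1705) (iv D720) D721 D1707 D3587 D6374 F5830 (iv D4100) D4099 F3598
def n6375 : Q := act 4 n3587
theorem D6375 : act 4 n3587 = n6375 := rfl
theorem F5832 : act 0 n6375 = n3589 := d3_1 D6375 (iv D3589) D3587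
theorem F5833 : act 2 n6375 = n4089 := d11_2 (iv F2649) D6375 (iv D4089) (iv D2002) (iv D851) D849 D1996
def n6376 : Q := act 0 n3588
theorem D6376 : act 0 n3588 = n6376 := rfl
theorem F5834 : act 1 n6376 = n5932 := d0_2 (iv F2650) D6376 F5135 (iv F2377) (iv D2499) D2500 F1590
theorem F5835 : act 2 n6376 = n4081 := d1_2 (iv F2651) D6376 (iv D4081) F1219 D2000 D4085 F3071
theorem F5836 : act 3 n6376 = n5931 := d16_2 D3588 D6376 (iv D5931) (iv D3225) (iv F1651) (iv D1931) (iv D821) D819 (iv F1052) D3741 F2751 (iv D3587)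
def n6377 : Q := act 4 n3588
theorem D6377 : act 4 n3588 = n6377 := rfl
theorem F5837 : act 1 n6377 = n3590 := d6_1 D6377 (iv D3590) (iv F2650)
theorem F5838 : act 3 n3708 = n6377 := d5_0 F5837 F2655 D3708
theorem F5839 : act 2 n6377 = n6178 := d7_1 F5838 (iv D6178) (iv F2736)
def n6378 : Q := act 3 n3589
theorem D6378 : act 3 n3589 = n6378 := rfl
theorem F5840 : act 1 n6378 = n3591 := d5_1 D6378 (iv D3591) (iv F2652)
theorem F5841 : act 2 n6378 = n4120 := d7_1 D6378 (iv D4120) (iv F2653)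
def n6379 : Q := act 4 n3591
theorem D6379 : act 4 n3591 = n6379 := rfl
theorem F5842 : act 3 n6379 = n3624 := d9_1 D6379 F5280 (iv F2655) (iv D3590) (iv D1708) D1709 D3591
theorem F5843 : act 2 n6379 = n3596 := d11_2 (iv F2656) D6379 (iv F5650) F5652 (iv D3515) (iv F2578) F2577
def n6380 : Q := act 1 n3592
theorem D6380 : act 1 n3592 = n6380 := rfl
theorem F5844 : act 3 n6380 = n3622 := d5_2 (iv F2657) D6380 (iv D3622)
def n6381 : Q := act 4 n3592
theorem D6381 : act 4 n3592 = n6381 := rfl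
theorem F5845 : act 2 n6381 = n3663 := d8_1 D6381 F2785 (iv F2654) (iv D3590) F1006 D1710 D3592
theorem F5846 : act 3 n6381 = n3595 := d12_2 (iv F2657) D6381 (iv F5550) F5552 (iv D3462) D3461 F2520
def n6382 : Q := act 0 n3593
theorem D6382 : act 0 n3593 = n6382 := rfl
def n6383 : Q := act 3 n3593
theorem D6383 : act 3 n3593 = n6383 := rfl
theorem F5847 : act 1 n6383 = n3594 := d5_1 D6383 (iv D3594) D3593
def n6384 : Q := act 4 n3593
theorem D6384 : act 4 n3593 = n6384 := rfl
theorem F5848 : act 1 n6384 = n3595 := d6_1 D6384 (iv D3595) D3593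
def n6385 : Q := act 4 n3594
theorem D6385 : act 4 n3594 = n6385 := rfl
theorem F5849 : act 2 n6385 = n3662 := d8_1 D6385 (iv D3662) (iv F2656) D6379 F5843 (iv D3596) (iv F2658)
theorem F5850 : act 3 n6385 = n3623 := d9_1 D6385 (iv D3623) (iv F2657) D6381 F5846 (iv D3595) D3594
def n6386 : Q := act 0 n3597
theorem D6386 : act 0 n3597 = n6386 := rfl
def n6387 : Q := act 2 n3597
theorem D6387 : act 2 n3597 = n6387 := rfl
def n6388 : Q := act 3 n3597
theorem D6388 : act 3 n3597 = n6388 := rfl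
theorem F5851 : act 1 n6388 = n3598 := d5_1 D6388 (iv D3598) D3597
def n6389 : Q := act 4 n3597
theorem D6389 : act 4 n3597 = n6389 := rfl
theorem F5852 : act 1 n6389 = n3599 := d6_1 D6389 (iv D3599) D3597
def n6390 : Q := act 4 n3598
theorem D6390 : act 4 n3598 = n6390 := rfl
theorem F5853 : act 2 n6390 = n3655 := d8_1 D6390 (iv D3655) F1029 D1748 (iv F5327) (iv D3646) (iv F2661)
theorem F5854 : act 3 n6390 = n3614 := d12_2 D3598 D6390 F2676 (iv F2795) (iv D3604) (iv D1715) D1713
def n6391 : Q := act 3 n3599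
theorem D6391 : act 3 n3599 = n6391 := rfl
theorem F5855 : act 2 n6391 = n3648 := d7_1 D6391 F2802 (iv F2663)
theorem F5856 : act 4 n6391 = n3613 := d9_2 D3599 D6391 (iv D3613) D3614 (iv F5854) (iv D6390) (iv D3598)
def n6392 : Q := act 2 n3600
theorem D6392 : act 2 n3600 = n6392 := rfl
theorem F5857 : act 0 n6392 = n6095 := d13_1 D6392 (iv D6095) D6094 F5417 (iv F2505) F2506 F948 (iv F1009) (iv D1713) D1714 D3600
def n6393 : Q := act 3 n3600
theorem D6393 : act 3 n3600 = n6393 := rfl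
def n6394 : Q := act 0 n3601
theorem D6394 : act 0 n3601 = n6394 := rfl
def n6395 : Q := act 3 n3601
theorem D6395 : act 3 n3601 = n6395 := rfl
theorem F5858 : act 2 n6395 = n3602 := d7_1 D6395 (iv D3602) D3601
def n6396 : Q := act 0 n3602
theorem D6396 : act 0 n3602 = n6396 := rfl
theorem F5859 : act 4 n6396 = n6018 := d3_2 F5318 D6396 F5272
theorem F5860 : act 3 n6396 = n6021 := d12_4 (iv F1995) F2792 D3602 D6396 (iv D6021) (iv D3289) F863
theorem F5861 : act 1 n6396 = n6019 := d17_7 D312 (iv F382) F5282 (iv D1717) (iv F1010) (iv F2664) D6396 F5330 (iv D3318) F881 F319 F114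
def n6397 : Q := act 3 n3607
theorem D6397 : act 3 n3607 = n6397 := rfl
theorem F5862 : act 1 n6397 = n6097 := d5_1 D6397 (iv F5420) (iv F2668)
theorem F5863 : act 2 n6397 = n3608 := d7_1 D6397 (iv D3608) D3607
theorem F5864 : act 4 n6095 = n6397 := d6_0 F5862 (iv D6097) D6095
theorem F5865 : act 2 n5529 = n6095 := d8_7 F5864 F5863 F3087 D6017 F5270 F4559 D5529
def n6398 : Q := act 0 n3609
theorem D6398 : act 0 n3609 = n6398 := rfl
def n6399 : Q := act 2 n3610
theorem D6399 : act 2 n3610 = n6399 := rfl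
theorem F5866 : act 0 n6399 = n6099 := d10_3 D1720 D3610 D6399 (iv D6099) (iv F2669) (iv D3607) (iv D1718)
def n6400 : Q := act 3 n3610
theorem D6400 : act 3 n3610 = n6400 := rfl
def n6401 : Q := act 0 n3612
theorem D6401 : act 0 n3612 = n6401 := rfl
def n6402 : Q := act 2 n3612
theorem D6402 : act 2 n3612 = n6402 := rfl
def n6403 : Q := act 3 n3612
theorem D6403 : act 3 n3612 = n6403 := rfl
theorem F5867 : act 1 n6403 = n3613 := d5_1 D6403 (iv D3613) D3612
def n6404 : Q := act 4 n3612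
theorem D6404 : act 4 n3612 = n6404 := rfl
theorem F5868 : act 1 n6404 = n3614 := d6_1 D6404 (iv D3614) D3612
def n6405 : Q := act 2 n3619
theorem D6405 : act 2 n3619 = n6405 := rfl
def n6406 : Q := act 4 n3619
theorem D6406 : act 4 n3619 = n6406 := rfl
theorem F5869 : act 0 n6406 = n3621 := d3_1 D6406 (iv D3621) D3619
def n6407 : Q := act 0 n3620
theorem D6407 : act 0 n3620 = n6407 := rfl
theorem F5870 : act 2 n6407 = n6102 := d15_2 D3620 D6407 (iv D6102) (iv D3368) (iv F1840) (iv F4211) F4212 (iv D2829) D2828 D5328 F4327 (iv D3619)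
def n6408 : Q := act 1 n3620
theorem D6408 : act 1 n3620 = n6408 := rfl
theorem F5871 : act 0 n6408 = n5564 := d14_3 D1724 D3620 D6408 F4574 D5565 F5305 (iv D5319) F1897 F708 F251 D729
theorem F5872 : act 4 n5562 = n6408 := d3_0 F5871 (iv D5564) D5562
def n6409 : Q := act 4 n3620
theorem D6409 : act 4 n3620 = n6409 := rfl
theorem F5873 : act 1 n6409 = n5562 := d6_1 D6409 F5872 (iv D6408)
theorem F5874 : act 2 n6409 = n5402 := d17_4 (iv D1726) D1724 D3620 D6409 (iv D5402) (iv D2869) F723 F255 D529 F5281 F710 (iv F1017)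
def n6410 : Q := act 2 n3621
theorem D6410 : act 2 n3621 = n6410 := rfl
def n6411 : Q := act 0 n3622
theorem D6411 : act 0 n3622 = n6411 := rfl
def n6412 : Q := act 2 n3622
theorem D6412 : act 2 n3622 = n6412 := rfl
def n6413 : Q := act 4 n3622
theorem D6413 : act 4 n3622 = n6413 := rfl
theorem F5875 : act 1 n6413 = n3623 := d6_1 D6413 (iv D3623) D3622
def n6414 : Q := act 1 n3624
theorem D6414 : act 1 n3624 = n6414 := rfl
theorem F5876 : act 4 n6414 = n3708 := d6_2 (iv F5280) D6414 (iv D3708)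
theorem F5877 : act 2 n6414 = n4523 := d15_6 D3345 F3418 (iv F3665) (iv F5546) F5545 D6414 (iv D4523) (iv D2281) (iv D973) F3368 (iv F321) (iv F888)
def n6415 : Q := act 4 n3628
theorem D6415 : act 4 n3628 = n6415 := rfl
theorem F5878 : act 0 n6415 = n3633 := d3_1 D6415 (iv D3633) (iv F2680)
theorem F5879 : act 1 n6415 = n4574 := d6_1 D6415 (iv D4574) (iv F2678)
def n6416 : Q := act 3 n3629
theorem D6416 : act 3 n3629 = n6416 := rfl
theorem F5880 : act 1 n6416 = n4597 := d5_1 D6416 F3565 (iv F2681)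
theorem F5881 : act 0 n6416 = n3634 := d12_3 (iv D3628) D3629 D6416 (iv D3634) (iv D1732) D1731 (iv F2680)
def n6417 : Q := act 2 n3630
theorem D6417 : act 2 n3630 = n6417 := rfl
theorem F5882 : act 3 n6417 = n3722 := d7_2 (iv F2683) D6417 (iv D3722)
theorem F5883 : act 0 n6417 = n3635 := d10_3 (iv F3060) F3058 D6417 F2687 (iv F2431) (iv D3341) D3340
def n6418 : Q := act 3 n3631
theorem D6418 : act 3 n3631 = n6418 := rfl
theorem F5884 : act 2 n6418 = n3632 := d7_1 D6418 (iv D3632) D3631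
theorem F5885 : act 0 n6418 = n3637 := d10_1 D6418 F2690 (iv F2404) (iv D3300) (iv F1217) D4075 F3061
def n6419 : Q := act 4 n3632
theorem D6419 : act 4 n3632 = n6419 := rfl
theorem F5886 : act 1 n6419 = n3754 := d6_1 D6419 (iv D3754) (iv F2684)
theorem F5887 : act 3 n6419 = n3723 := d9_1 D6419 (iv D3723) (iv F2683) (iv D3630) (iv D1729) D1730 D3632
def n6420 : Q := act 4 n3634
theorem D6420 : act 4 n3634 = n6420 := rfl
theorem F5888 : act 1 n6420 = n4572 := d6_1 D6420 (iv D4572) (iv F2686)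
theorem F5889 : act 2 n6420 = n3638 := d8_1 D6420 (iv D3638) (iv F2690) F3404 F3360 (iv F3169) F3168
theorem F5890 : act 3 n6420 = n3726 := d9_1 D6420 (iv F3426) F3425 (iv D3633) (iv D1731) D1732 D3634
def n6421 : Q := act 2 n3636
theorem D6421 : act 2 n3636 = n6421 := rfl
theorem F5891 : act 1 n6421 = n3652 := d4_1 D6421 (iv D3652) (iv D1745) (iv D739) (iv F378) D1735 D3636
def n6422 : Q := act 2 n3639
theorem D6422 : act 2 n3639 = n6422 := rfl
theorem F5892 : act 4 n6422 = n5703 := d11_1 D6422 F4768 (iv D4217) D4218 F3177 (iv D3644) (iv F2693)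
theorem F5893 : act 1 n5705 = n6422 := d17_1 D5705 (iv D6422) (iv D3639) (iv F2122) (iv D3034) D3033 F2120 (iv D1821) D1823 D3798 (iv F4766) (iv D5702)
def n6423 : Q := act 3 n3639
theorem D6423 : act 3 n3639 = n6423 := rfl
def n6424 : Q := act 0 n3640
theorem D6424 : act 0 n3640 = n6424 := rfl
theorem F5894 : act 1 n6424 = n4899 := d0_2 (iv F2694) D6424 (iv F4140) (iv D5150) (iv D2720) (iv F1759) F1761
theorem F5895 : act 2 n6424 = n4898 := d1_2 (iv F2695) D6424 (iv F4343) F4342 F3066 (iv F2697) (iv D3642)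
theorem F5896 : act 3 n6424 = n4898 := d2_2 D3640 D6424 (iv F4343) (iv D5343) (iv D2837) F1910 F1909
def n6425 : Q := act 4 n3640
theorem D6425 : act 4 n3640 = n6425 := rfl
theorem F5897 : act 1 n6425 = n4559 := d6_1 D6425 (iv D4559) (iv F2694)
def n6426 : Q := act 3 n3641
theorem D6426 : act 3 n3641 = n6426 := rfl
def n6427 : Q := act 4 n3642
theorem D6427 : act 4 n3642 = n6427 := rfl
theorem F5898 : act 0 n6427 = n3643 := d3_1 D6427 (iv D3643) D3642
theorem F5899 : act 1 n6427 = n4765 := d6_1 D6427 (iv D4765) (iv F2696)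
def n6428 : Q := act 2 n3643
theorem D6428 : act 2 n3643 = n6428 := rfl
def n6429 : Q := act 1 n3644
theorem D6429 : act 1 n3644 = n6429 := rfl
theorem F5900 : act 4 n6429 = n5634 := d6_2 F3177 D6429 F4669
def n6430 : Q := act 3 n3644
theorem D6430 : act 3 n3644 = n6430 := rfl
theorem F5901 : act 2 n6430 = n3645 := d7_1 D6430 (iv D3645) D3644
def n6431 : Q := act 0 n3645
theorem D6431 : act 0 n3645 = n6431 := rfl
theorem F5902 : act 3 n6431 = n4764 := d12_4 (iv D1739) D1740 D3645 D6431 (iv D4764) (iv F2698) (iv D3642)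
theorem F5903 : act 1 n4766 = n6431 := d5_3 F5902 F3757 D4766
def n6432 : Q := act 4 n3645
theorem D6432 : act 4 n3645 = n6432 := rfl
theorem F5904 : act 1 n6432 = n3646 := d6_1 D6432 (iv D3646) (iv F2700)
theorem F5905 : act 3 n6432 = n3732 := d9_1 D6432 (iv F5564) F5563 (iv D3643) (iv D1739) D1740 D3645
def n6433 : Q := act 0 n3647
theorem D6433 : act 0 n3647 = n6433 := rfl
def n6434 : Q := act 2 n3647
theorem D6434 : act 2 n3647 = n6434 := rfl
theorem F5906 : act 3 n6434 = n3728 := d7_2 (iv F2701) D6434 (iv D3728)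
def n6435 : Q := act 4 n3647
theorem D6435 : act 4 n3647 = n6435 := rfl
theorem F5907 : act 1 n6435 = n3648 := d6_1 D6435 (iv D3648) D3647
theorem F5908 : act 3 n3654 = n6435 := d5_0 F5907 F2802 (iv F2705)
def n6436 : Q := act 2 n3649
theorem D6436 : act 2 n3649 = n6436 := rfl
theorem F5909 : act 0 n6436 = n6133 := d1_1 D6436 (iv D6133) (iv D3391) (iv D1598) D1597 D3388 (iv F2702)
def n6437 : Q := act 1 n3651
theorem D6437 : act 1 n3651 = n6437 := rfl
theorem F5910 : act 0 n6437 = n6125 := d0_1 D6437 (iv D6125) (iv F2702) (iv D3649) (iv D1744) D1745 D3651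
def n6438 : Q := act 2 n3651
theorem D6438 : act 2 n3651 = n6438 := rfl
theorem F5911 : act 0 n6438 = n4090 := d13_1 D6438 (iv D4090) D4089 (iv F5833) F5832 F2652 (iv F2509) F2511 (iv D1744) D1745 D3651
theorem F5912 : act 3 n3651 = n6438 := d16_7 D3300 F2404 (iv D1736) F378 D739 D1745 D3651 F5911 (iv D4090) (iv D2002) (iv F1218) F1217
theorem F5913 : act 4 n6438 = n5654 := d17_0 (iv D5654) (iv D3038) (iv D1376) D1374 D3034 F2121 (iv D1997) (iv D849) D851 D2002 D4090 (iv F5911)
theorem F5914 : act 1 n5656 = n6438 := d6_3 F5913 (iv D5654) D5656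
theorem F5915 : act 3 n6437 = n5656 := d5_0 F5914 (iv F5912) D6437
def n6439 : Q := act 4 n3651
theorem D6439 : act 4 n3651 = n6439 := rfl
theorem F5916 : act 0 n6439 = n3654 := d3_1 D6439 (iv D3654) D3651
theorem F5917 : act 1 n6439 = n5652 := d17_1 D6439 (iv D5652) (iv D3037) (iv F2125) F2124 (iv D1737) (iv D735) (iv D287) D289 D739 D1745 D3651
theorem F5918 : act 4 n6437 = n5652 := d6_2 (iv D6439) D6437 (iv F5917)
def n6440 : Q := act 0 n3652
theorem D6440 : act 0 n3652 = n6440 := rfl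
theorem F5919 : act 4 n6440 = n5354 := d17_0 (iv F4860) (iv D5759) (iv D3093) (iv F2161) (iv F4825) F4827 (iv F4669) (iv D5634) (iv F2688) D6421 F5891 D6440
def n6441 : Q := act 3 n3652
theorem D6441 : act 3 n3652 = n6441 := rfl
theorem F5920 : act 2 n6441 = n3653 := d7_1 D6441 (iv D3653) D3652
def n6442 : Q := act 4 n3652
theorem D6442 : act 4 n3652 = n6442 := rfl
theorem F5921 : act 0 n6442 = n5354 := d3_1 D6442 (iv F5919) (iv D6440)
def n6443 : Q := act 0 n3653
theorem D6443 : act 0 n3653 = n6443 := rfl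
def n6444 : Q := act 4 n3653
theorem D6444 : act 4 n3653 = n6444 := rfl
theorem F5922 : act 1 n6444 = n3655 := d6_1 D6444 (iv D3655) (iv F2704)
theorem F5923 : act 3 n6444 = n3729 := d9_1 D6444 (iv D3729) (iv F2701) D6435 (iv F5908) (iv D3654) D3653
def n6445 : Q := act 2 n3654
theorem D6445 : act 2 n3654 = n6445 := rfl
theorem F5924 : act 0 n6445 = n5349 := d15_7 (iv F5452) F3013 (iv F4178) F4177 F2796 (iv F2705) D6445 (iv F4872) (iv D5761) D5760 (iv F4870) (iv F5451)
def n6446 : Q := act 1 n3658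
theorem D6446 : act 1 n3658 = n6446 := rfl
theorem F5925 : act 0 n6446 = n3664 := d0_1 D6446 (iv D3664) (iv D1752) (iv D742) D741 D1749 D3658
theorem F5926 : act 4 n3986 = n6446 := d17_0 (iv D6446) (iv F4604) (iv D5595) F3197 F3196 F3160 (iv D3096) D3097 D5766 F4883 D5781 F4909
def n6447 : Q := act 3 n3658
theorem D6447 : act 3 n3658 = n6447 := rfl
def n6448 : Q := act 4 n3658
theorem D6448 : act 4 n3658 = n6448 := rfl
theorem F5927 : act 0 n6448 = n3661 := d3_1 D6448 (iv D3661) D3658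
theorem F5928 : act 1 n6448 = n3986 := d6_1 D6448 F5926 (iv D6446)
def n6449 : Q := act 0 n3659
theorem D6449 : act 0 n3659 = n6449 := rfl
theorem F5929 : act 2 n6449 = n6132 := d15_2 D3659 D6449 (iv D6132) (iv D3391) (iv F2413) (iv D3314) D3313 F2512 D3664 (iv F5925) (iv D6446) (iv D3658)
def n6450 : Q := act 1 n3659
theorem D6450 : act 1 n3659 = n6450 := rfl
theorem F5930 : act 2 n6450 = n4119 := d4_2 D3659 D6450 (iv D4119) (iv F2653) F2652 F1007 D1749
theorem F5931 : act 4 n6450 = n5734 := d6_2 F3198 D6450 F4802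
theorem F5932 : act 0 n6450 = n5736 := d14_3 D1749 D3659 D6450 F4804 (iv F2880) (iv D3850) (iv D1850) (iv F1032) (iv D1753) (iv D742) D741
def n6451 : Q := act 3 n3659
theorem D6451 : act 3 n3659 = n6451 := rfl
theorem F5933 : act 2 n6451 = n3660 := d7_1 D6451 (iv D3660) D3659
def n6452 : Q := act 0 n3660
theorem D6452 : act 0 n3660 = n6452 := rfl
def n6453 : Q := act 4 n3660
theorem D6453 : act 4 n3660 = n6453 := rfl
theorem F5934 : act 1 n6453 = n3662 := d6_1 D6453 (iv D3662) (iv F2707)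
theorem F5935 : act 3 n3707 = n6453 := d5_0 F5934 F2804 (iv F2735)
def n6454 : Q := act 2 n3661
theorem D6454 : act 2 n3661 = n6454 := rfl
def n6455 : Q := act 3 n3661
theorem D6455 : act 3 n3661 = n6455 := rfl
theorem F5936 : act 1 n6455 = n3663 := d5_1 D6455 (iv D3663) (iv F2708)
theorem F5937 : act 4 n6455 = n3706 := d9_2 D3661 D6455 (iv D3706) D3707 F5935 (iv D6453) (iv D3660)
def n6456 : Q := act 2 n3664
theorem D6456 : act 2 n3664 = n6456 := rfl
theorem F5938 : act 1 n6456 = n3784 := d4_1 D6456 (iv F2818) (iv F4743) (iv F5372) (iv D6049) F2512 D3664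
theorem F5939 : act 3 n6456 = n6049 := d7_2 (iv F4744) D6456 F5372
theorem F5940 : act 4 n6456 = n5295 := d8_2 F4908 D6456 (iv D5295) (iv D2811) D2810 D5294 (iv F4910)
def n6457 : Q := act 1 n3667
theorem D6457 : act 1 n3667 = n6457 := rfl
def n6458 : Q := act 3 n3667
theorem D6458 : act 3 n3667 = n6458 := rfl
theorem F5941 : act 0 n6458 = n3833 := d10_1 D6458 F2855 (iv F2709) (iv D3665) (iv D1752) D1753 D3667
def n6459 : Q := act 0 n3668
theorem D6459 : act 0 n3668 = n6459 := rfl
def n6460 : Q := act 1 n3670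
theorem D6460 : act 1 n3670 = n6460 := rfl
theorem F5942 : act 3 n6460 = n4784 := d5_2 F5045 D6460 (iv F5044)
theorem F5943 : act 0 n4781 = n6460 := d12_7 F5942 (iv D4784) (iv D2486) (iv D1075) D1077 D2490 (iv F3788)
theorem F5944 : act 4 n6460 = n4780 := d3_2 D4781 F5943 (iv D4780)
theorem F5945 : act 1 n4780 = n5780 := d6_1 F5944 F4906 D6460
def n6461 : Q := act 0 n3674
theorem D6461 : act 0 n3674 = n6461 := rfl
theorem F5946 : act 1 n6461 = n4781 := d0_2 D3674 D6461 F5943 (iv D6460) (iv D3670) F1033 D1756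
theorem F5947 : act 3 n6461 = n4788 := d12_4 D3687 (iv F5661) F5660 D6461 (iv D4788) (iv D2488) (iv F1041)
theorem F5948 : act 2 n6461 = n4643 := d13_4 (iv F381) D1756 D3674 D6461 (iv F5515) F5516 (iv F5120) F5119 F2315 F930 F363
theorem E811 : n4788 = n4658 := ((c7_4 (iv F5947) F5948 F3628 D4658)).symm
theorem F5949 : act 1 n4658 = n2490 := (sb E811 F3768)
theorem F5950 : act 3 n4658 = n6461 := (sb E811 (iv F5947))
theorem F5951 : act 4 n4658 = n2488 := (sb E811 (iv D4788))
theorem F5952 : act 4 n4778 = n6461 := d9_6 F5951 (iv D2488) (iv F1037) D3683 F3783 D4778 (iv F5950)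
def n6462 : Q := act 2 n3674
theorem D6462 : act 2 n3674 = n6462 := rfl
theorem F5953 : act 1 n6462 = n6462 := d4_1 D6462 (iv D6462) (iv D3674) (iv F2627) F2626 F2627 D3674
def n6463 : Q := act 4 n3674
theorem D6463 : act 4 n3674 = n6463 := rfl
theorem F5954 : act 0 n6463 = n4778 := d3_1 D6463 F5952 (iv D6461)
theorem F5955 : act 1 n6463 = n3675 := d6_1 D6463 (iv D3675) D3674
theorem F5956 : act 3 n6463 = n3686 := d9_1 D6463 (iv D3686) (iv D1762) D1763 D3687 (iv F5661) F5660
def n6464 : Q := act 0 n3683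
theorem D6464 : act 0 n3683 = n6464 := rfl
theorem F5957 : act 3 n6464 = n6177 := d2_2 D3683 D6464 F5495 F5089 (iv D3685) (iv D1762) D1760
theorem F5958 : act 4 n6464 = n4776 := d3_2 (iv F3783) D6464 (iv D4776)
theorem F5959 : act 1 n6464 = n6178 := d14_4 (iv F2906) F3784 (iv F3782) D6464 (iv F5839) F5837 (iv F3774) F3775 D4811 F3781 (iv D3877)
def n6465 : Q := act 0 n3684
theorem D6465 : act 0 n3684 = n6465 := rfl
theorem F5960 : act 3 n6465 = n5877 := d12_4 (iv D4403) F1336 D3684 D6465 (iv D5877) D5876 F5061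
theorem F5961 : act 1 n5880 = n6465 := d5_3 F5960 F5063 D5880
def n6466 : Q := act 4 n3684
theorem D6466 : act 4 n3684 = n6466 := rfl
theorem F5962 : act 1 n6466 = n6466 := d6_1 D6466 (iv D6466) F2720
def n6467 : Q := act 2 n3686
theorem D6467 : act 2 n3686 = n6467 := rfl
def n6468 : Q := act 0 n3692
theorem D6468 : act 0 n3692 = n6468 := rfl
def n6469 : Q := act 4 n3692
theorem D6469 : act 4 n3692 = n6469 := rfl
theorem F5963 : act 1 n6469 = n3694 := d6_1 D6469 (iv D3694) (iv F2725)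
theorem F5964 : act 2 n6469 = n4733 := d8_1 D6469 (iv D4733) F1564 D2460 D4735 F5390 F5389
theorem F5965 : act 3 n6469 = n4780 := d9_1 D6469 (iv F5944) F5942 (iv D4784) (iv D2486) (iv F1045) D3692
theorem F5966 : act 0 n4717 = n6469 := d10_7 F5965 (iv D4780) F1583 (iv F1558) (iv D2451) (iv F1556) D4717
theorem F5967 : act 4 n6468 = n4717 := d3_0 F5966 (iv D6469) D6468
def n6470 : Q := act 2 n3693
theorem D6470 : act 2 n3693 = n6470 := rfl
theorem F5968 : act 1 n6470 = n3924 := d4_1 D6470 F2940 F1125 F428 (iv F449) D2015 (iv F2727)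
theorem F5969 : act 3 n6470 = n3923 := d7_2 (iv F2726) D6470 F2939
theorem F5970 : act 0 n6470 = n3696 := d10_3 D1767 D3693 D6470 (iv D3696) (iv D1768) (iv D750) D749
theorem E812 : n5847 = n5844 := (c11_5 D5842 (iv F4992) D6470 F5970 (iv F4996) (iv D5844) (iv D3147) (iv F2257))
theorem F5971 : act 1 n5844 = n6315 := (sb E812 (iv F5700))
theorem F5972 : act 2 n5844 = n3696 := (sb E812 F4996)
theorem F5973 : act 3 n5844 = n3150 := (sb E812 (iv D5847))
theorem F5974 : act 4 n3696 = n5838 := d8_2 D5844 F5972 (iv D5838) (iv D3142) F803 D1444 D3147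
theorem F5975 : act 4 n6315 = n5252 := d6_2 D5844 F5971 F4253
def n6471 : Q := act 3 n3695
theorem D6471 : act 3 n3695 = n6471 := rfl
theorem F5976 : act 1 n6471 = n3696 := d5_1 D6471 (iv D3696) D3695
theorem F5977 : act 2 n6471 = n6471 := d7_1 D6471 (iv D6471) F2728
def n6472 : Q := act 1 n3697
theorem D6472 : act 1 n3697 = n6472 := rfl
def n6473 : Q := act 3 n3697
theorem D6473 : act 3 n3697 = n6473 := rfl
theorem F5978 : act 0 n6473 = n3923 := d2_1 D6473 (iv F5969) F5970 (iv D3696) (iv D1768) D1769 D3697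
def n6474 : Q := act 0 n3699
theorem D6474 : act 0 n3699 = n6474 := rfl
theorem F5979 : act 1 n6474 = n3704 := d0_2 D3699 D6474 (iv D3704) (iv D1772) (iv D753) (iv F386) D1770
def n6475 : Q := act 2 n3699
theorem D6475 : act 2 n3699 = n6475 := rfl
theorem F5980 : act 1 n6475 = n3944 := d14_2 D3699 D6475 (iv D3944) (iv D1909) (iv D811) (iv D320) (iv D118) (iv F42) (iv F124) (iv F386) D1770
theorem F5981 : act 4 n6475 = n5329 := d17_3 F4728 D3699 D6475 (iv D5329) (iv D2828) (iv D1257) F251 (iv F374) D1722 (iv F5276) F4729 D3173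
theorem F5982 : act 3 n6062 = n6475 := d5_0 F5980 F2949 D6062
def n6476 : Q := act 3 n3699
theorem D6476 : act 3 n3699 = n6476 := rfl
theorem F5983 : act 1 n6476 = n3700 := d5_1 D6476 (iv D3700) D3699
theorem F5984 : act 2 n6476 = n6062 := d7_1 D6476 F5982 (iv D6475)
def n6477 : Q := act 3 n3704
theorem D6477 : act 3 n3704 = n6477 := rfl
def n6478 : Q := act 4 n3704
theorem D6478 : act 4 n3704 = n6478 := rfl
theorem F5985 : act 0 n6478 = n3707 := d3_1 D6478 (iv D3707) D3704
def n6479 : Q := act 0 n3705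
theorem D6479 : act 0 n3705 = n6479 := rfl
theorem F5986 : act 2 n6479 = n6161 := d15_2 D3705 D6479 (iv D6161) (iv D3411) (iv F2423) F2424 D3329 F2425 D3699 D6474 F5979 (iv D3704)
def n6480 : Q := act 1 n3705
theorem D6480 : act 1 n3705 = n6480 := rfl
theorem F5987 : act 2 n6480 = n6177 := d4_2 D3705 D6480 (iv D6177) (iv F2736) (iv D3708) (iv D1773) D1772
theorem F5988 : act 4 n6480 = n5874 := d6_2 (iv F4739) D6480 F5057
theorem F5989 : act 0 n6480 = n5877 := d14_3 D1772 D3705 D6480 F5063 F4738 (iv D3898) (iv D1875) (iv F1046) F1047 F386 D753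
def n6481 : Q := act 3 n3705
theorem D6481 : act 3 n3705 = n6481 := rfl
theorem F5990 : act 2 n6481 = n3706 := d7_1 D6481 (iv D3706) D3705
def n6482 : Q := act 0 n3706
theorem D6482 : act 0 n3706 = n6482 := rfl
def n6483 : Q := act 2 n3707
theorem D6483 : act 2 n3707 = n6483 := rfl
def n6484 : Q := act 0 n3708
theorem D6484 : act 0 n3708 = n6484 := rfl
theorem F5991 : act 2 n6484 = n6174 := d1_2 (iv F2736) D6484 (iv D6174) (iv D3423) (iv D1618) D1619 D3425
def n6485 : Q := act 2 n3723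
theorem D6485 : act 2 n3723 = n6485 := rfl
def n6486 : Q := act 2 n3724
theorem D6486 : act 2 n3724 = n6486 := rfl
theorem F5992 : act 1 n6486 = n3728 := d4_1 D6486 (iv D3728) (iv D1783) (iv D757) D756 D1781 D3724
def n6487 : Q := act 1 n3727
theorem D6487 : act 1 n3727 = n6487 := rfl
theorem F5993 : act 0 n6487 = n6168 := d0_1 D6487 (iv D6168) (iv F2590) F2589 F980 D1783 D3727
def n6488 : Q := act 2 n3727
theorem D6488 : act 2 n3727 = n6488 := rfl
theorem F5994 : act 0 n6488 = n6175 := d13_1 D6488 (iv D6175) D6174 (iv F5991) (iv D6484) (iv D3708) (iv F2515) F2514 F980 D1783 D3727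
theorem F5995 : act 3 n3727 = n6488 := d16_7 F2401 F2399 (iv F1024) (iv D756) D757 D1783 D3727 F5994 (iv D6175) (iv D3423) (iv F2430) (iv D3340)
def n6489 : Q := act 4 n3727
theorem D6489 : act 4 n3727 = n6489 := rfl
theorem F5996 : act 0 n6489 = n3729 := d3_1 D6489 (iv D3729) D3727
theorem F5997 : act 3 n5654 = n6489 := d12_2 F5912 F5913 F5996 (iv F5923) (iv D6444) (iv D3653) D3651
theorem F5998 : act 1 n6489 = n5655 := d5_1 F5997 (iv D5655) D5654
theorem F5999 : act 4 n5655 = n6487 := d6_2 D6489 F5998 (iv D6487)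
def n6490 : Q := act 0 n3728
theorem D6490 : act 0 n3728 = n6490 := rfl
theorem F6000 : act 4 n6490 = n5430 := d17_0 (iv F4874) F4875 F2215 (iv F2296) (iv F5030) F5031 (iv F5086) (iv D5895) (iv F3401) D6486 F5992 D6490
def n6491 : Q := act 4 n3728
theorem D6491 : act 4 n3728 = n6491 := rfl
theorem F6001 : act 0 n6491 = n5430 := d3_1 D6491 (iv F6000) (iv D6490)
def n6492 : Q := act 2 n3729
theorem D6492 : act 2 n3729 = n6492 := rfl
def n6493 : Q := act 0 n3732
theorem D6493 : act 0 n3732 = n6493 := rfl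
def n6494 : Q := act 2 n3732
theorem D6494 : act 2 n3732 = n6494 := rfl
def n6495 : Q := act 3 n3741
theorem D6495 : act 3 n3741 = n6495 := rfl
theorem F6002 : act 0 n6495 = n3766 := d2_1 D6495 (iv F4490) (iv D4809) (iv D2501) D2499 (iv F2379) (iv F2750)
theorem F6003 : act 1 n6495 = n6374 := d5_1 D6495 (iv D6374) (iv F2751)
theorem F6004 : act 2 n6495 = n3742 := d7_1 D6495 (iv D3742) D3741
def n6496 : Q := act 4 n3741
theorem D6496 : act 4 n3741 = n6496 := rfl
theorem F6005 : act 0 n6496 = n3756 := d3_1 D6496 (iv D3756) (iv F2750)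
theorem F6006 : act 1 n6496 = n6375 := d6_1 D6496 (iv D6375) (iv F2751)
theorem F6007 : act 2 n6496 = n3749 := d11_2 D3741 D6496 (iv D3749) (iv D1795) (iv D762) D760 D1789
def n6497 : Q := act 4 n3742
theorem D6497 : act 4 n3742 = n6497 := rfl
theorem F6008 : act 0 n6497 = n3776 := d3_1 D6497 (iv D3776) (iv F2752)
theorem F6009 : act 1 n6497 = n3980 := d6_1 D6497 (iv D3980) (iv F2753)
def n6498 : Q := act 2 n3743
theorem D6498 : act 2 n3743 = n6498 := rfl
theorem F6010 : act 0 n6498 = n3758 := d1_1 D6498 (iv D3758) F1058 D1807 (iv F2757) (iv D3745) (iv F2754)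
theorem F6011 : act 3 n3758 = n4870 := d10_4 F1638 (iv F2754) D6498 F6010 (iv D4870) (iv D2538) D2537
theorem F6012 : act 2 n4870 = n3759 := d7_1 F6011 (iv D3759) D3758
def n6499 : Q := act 3 n3743
theorem D6499 : act 3 n3743 = n6499 := rfl
theorem F6013 : act 1 n6499 = n3982 := d5_1 D6499 (iv D3982) (iv F2755)
def n6500 : Q := act 1 n3745
theorem D6500 : act 1 n3745 = n6500 := rfl
theorem F6014 : act 0 n6500 = n6389 := d0_1 D6500 F5852 F2662 (iv F2791) (iv F2781) (iv D3771) (iv F2757)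
theorem F6015 : act 4 n6386 = n6500 := d17_0 (iv D6500) (iv D3745) (iv D1792) (iv D760) (iv F376) (iv D731) (iv D286) D287 D737 (iv F1009) D3597 D6386
def n6501 : Q := act 4 n3745
theorem D6501 : act 4 n3745 = n6501 := rfl
theorem F6016 : act 0 n6501 = n3773 := d3_1 D6501 (iv D3773) (iv F2757)
theorem F6017 : act 1 n6501 = n6386 := d6_1 D6501 F6015 (iv D6500)
theorem F6018 : act 2 n6501 = n3752 := d8_1 D6501 (iv D3752) (iv D1795) (iv D762) D760 D1792 D3745
def n6502 : Q := act 1 n3746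
theorem D6502 : act 1 n3746 = n6502 := rfl
theorem F6019 : act 0 n6502 = n4743 := d0_1 D6502 (iv D4743) (iv F3484) F3482 (iv F1768) (iv F1770) (iv F2758)
theorem F6020 : act 2 n6502 = n4897 := d15_6 (iv F233) D1184 D2683 (iv F1770) (iv F2758) D6502 (iv D4897) (iv D2560) D2559 F1672 (iv D1188) (iv D484)
def n6503 : Q := act 4 n3746
theorem D6503 : act 4 n3746 = n6503 := rfl
theorem F6021 : act 0 n6503 = n3757 := d3_1 D6503 (iv D3757) (iv F2758)
def n6504 : Q := act 2 n3747
theorem D6504 : act 2 n3747 = n6504 := rfl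
theorem F6022 : act 0 n6504 = n3942 := d1_1 D6504 (iv F5258) F3773 D4811 F3780 (iv D3748) (iv F2759)
def n6505 : Q := act 1 n3748
theorem D6505 : act 1 n3748 = n6505 := rfl
theorem F6023 : act 3 n6505 = n3937 := d5_2 (iv F2760) D6505 (iv D3937)
def n6506 : Q := act 4 n3748
theorem D6506 : act 4 n3748 = n6506 := rfl
def n6507 : Q := act 1 n3749
theorem D6507 : act 1 n3749 = n6507 := rfl
theorem F6024 : act 0 n6507 = n3829 := d13_3 D1795 D3749 D6507 (iv D3829) (iv D1840) (iv D782) (iv D308) (iv D113) (iv F44) (iv F127) (iv F389)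
def n6508 : Q := act 3 n3749
theorem D6508 : act 3 n3749 = n6508 := rfl
theorem F6025 : act 0 n6508 = n3791 := d10_1 D6508 (iv D3791) (iv D1818) (iv D770) (iv F389) D1795 D3749
def n6509 : Q := act 4 n3749
theorem D6509 : act 4 n3749 = n6509 := rfl
theorem F6026 : act 0 n6509 = n3752 := d3_1 D6509 (iv D3752) D3749
def n6510 : Q := act 0 n3750
theorem D6510 : act 0 n3750 = n6510 := rfl
theorem F6027 : act 2 n6510 = n6039 := d13_4 F6007 (iv D3749) D3750 D6510 (iv D6039) (iv D3306) D3305 F2409 (iv F2380) (iv F2764) (iv F6005)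
theorem F6028 : act 3 n6510 = n6039 := d16_7 D4076 F3062 (iv D3632) F1020 D1795 D3750 D6510 (iv D6039) (iv D3306) (iv D1556) (iv F876) (iv F1217)
def n6511 : Q := act 2 n3750
theorem D6511 : act 2 n3750 = n6511 := rfl
def n6512 : Q := act 3 n3750
theorem D6512 : act 3 n3750 = n6512 := rfl
theorem F6029 : act 1 n6512 = n3751 := d5_1 D6512 (iv D3751) D3750
def n6513 : Q := act 4 n3750
theorem D6513 : act 4 n3750 = n6513 := rfl
theorem F6030 : act 1 n6513 = n3752 := d6_1 D6513 (iv D3752) D3750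
def n6514 : Q := act 0 n3751
theorem D6514 : act 0 n3751 = n6514 := rfl
def n6515 : Q := act 4 n3751
theorem D6515 : act 4 n3751 = n6515 := rfl
def n6516 : Q := act 3 n3752
theorem D6516 : act 3 n3752 = n6516 := rfl
def n6517 : Q := act 2 n3753
theorem D6517 : act 2 n3753 = n6517 := rfl
theorem F6031 : act 0 n6517 = n3782 := d10_3 D1796 D3753 D6517 (iv D3782) (iv D1814) (iv D769) (iv F389)
def n6518 : Q := act 4 n3753
theorem D6518 : act 4 n3753 = n6518 := rfl
theorem F6032 : act 0 n6518 = n3754 := d3_1 D6518 (iv D3754) D3753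
def n6519 : Q := act 2 n3754
theorem D6519 : act 2 n3754 = n6519 := rfl
theorem F6033 : act 3 n6519 = n3939 := d7_2 (iv F2762) D6519 (iv D3939)
def n6520 : Q := act 3 n3756
theorem D6520 : act 3 n3756 = n6520 := rfl
theorem F6034 : act 1 n6520 = n6008 := d5_1 D6520 (iv D6008) (iv F2764)
theorem F6035 : act 2 n6520 = n3782 := d7_1 D6520 (iv D3782) (iv F2765)
def n6521 : Q := act 3 n3757
theorem D6521 : act 3 n3757 = n6521 := rfl
theorem F6036 : act 0 n6521 = n3770 := d12_3 D1799 D3757 D6521 (iv D3770) (iv D1806) (iv D765) D763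
def n6522 : Q := act 1 n3758
theorem D6522 : act 1 n3758 = n6522 := rfl
theorem F6037 : act 0 n6522 = n4970 := d15_4 (iv D1807) (iv F1058) D3758 D6522 F5553 F5551 F2796 (iv F2663) (iv F5852) (iv F6014) (iv D6500) F2757
theorem F6038 : act 2 n4331 = n6522 := d10_2 D2127 D4331 F6037 (iv D4970) (iv F2363) (iv F2364) F1292
def n6523 : Q := act 4 n3758
theorem D6523 : act 4 n3758 = n6523 := rfl
theorem F6039 : act 2 n6523 = n3783 := d8_1 D6523 (iv D3783) (iv F2765) (iv D3756) (iv D1798) D1800 D3758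
def n6524 : Q := act 0 n3759
theorem D6524 : act 0 n3759 = n6524 := rfl
def n6525 : Q := act 4 n3759
theorem D6525 : act 4 n3759 = n6525 := rfl
def n6526 : Q := act 2 n3761
theorem D6526 : act 2 n3761 = n6526 := rfl
theorem F6040 : act 0 n6526 = n5300 := d1_1 D6526 (iv D5300) F1886 D4028 (iv F4323) F4324 (iv F2769)
theorem F6041 : act 3 n6526 = n5240 := d7_2 (iv F2771) D6526 (iv D5240)
def n6527 : Q := act 3 n3762
theorem D6527 : act 3 n3762 = n6527 := rfl
theorem F6042 : act 0 n6527 = n5299 := d2_1 D6527 (iv D5299) F1884 D3273 (iv F4278) (iv D5280) (iv F2772)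
theorem F6043 : act 1 n6527 = n3770 := d5_1 D6527 (iv D3770) (iv F2773)
theorem F6044 : act 2 n6527 = n5249 := d7_1 D6527 (iv D5249) (iv F2774)
def n6528 : Q := act 1 n3763
theorem D6528 : act 1 n3763 = n6528 := rfl
theorem F6045 : act 3 n6528 = n5268 := d5_2 F2776 D6528 (iv D5268)
theorem F6046 : act 0 n6528 = n5509 := d13_3 D2842 (iv F2775) D6528 (iv D5509) (iv F4536) F4537 F2973 (iv D1954) F437 (iv F439) (iv F716)
def n6529 : Q := act 4 n3763
theorem D6529 : act 4 n3763 = n6529 := rfl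
theorem F6047 : act 0 n6529 = n5350 := d3_1 D6529 (iv D5350) (iv F2775)
theorem F6048 : act 3 n6529 = n5250 := d12_2 F2776 D6529 F4252 (iv F4448) (iv D1240) D1239 D2795
theorem F6049 : act 1 n6529 = n3824 := d16_3 F4448 (iv F4252) (iv F6048) (iv D3824) F1089 F405 (iv F2063) F116 (iv F333) D1613 F1862 F1860
theorem F6050 : act 2 n4202 = n6529 := d4_0 F6049 (iv D3824) F1089 F406 (iv F461) D2054 D4202
theorem F6051 : act 4 n3824 = n6528 := d6_2 D6529 F6049 (iv D6528)
theorem F6052 : act 4 n6526 = n4202 := d8_0 F6050 (iv D6529) (iv D3763) (iv D1804) D1802 D3761 D6526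
theorem F6053 : act 1 n4204 = n6526 := d6_3 F6052 (iv D4202) D4204
def n6530 : Q := act 4 n3764
theorem D6530 : act 4 n3764 = n6530 := rfl
theorem F6054 : act 0 n6530 = n5281 := d3_1 D6530 (iv D5281) (iv F2777)
theorem F6055 : act 1 n6530 = n3775 := d6_1 D6530 (iv D3775) (iv F2778)
theorem F6056 : act 2 n6530 = n5241 := d11_2 (iv F2779) D6530 F4244 (iv F5297) (iv D1242) (iv F698) D2795
def n6531 : Q := act 4 n3765
theorem D6531 : act 4 n3765 = n6531 := rfl
theorem F6057 : act 1 n6531 = n3768 := d6_1 D6531 (iv D3768) D3765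
def n6532 : Q := act 4 n3766
theorem D6532 : act 4 n3766 = n6532 := rfl
theorem F6058 : act 1 n6532 = n6532 := d6_1 D6532 (iv D6532) F4491
theorem F6059 : act 2 n6532 = n3778 := d11_2 D3766 D6532 (iv D3778) (iv D1813) (iv D768) (iv F390) D1805
def n6533 : Q := act 4 n3767
theorem D6533 : act 4 n3767 = n6533 := rfl
theorem F6060 : act 3 n6533 = n3774 := d12_2 D3767 D6533 (iv D3774) (iv D1808) (iv D766) D765 D1805
def n6534 : Q := act 2 n3768
theorem D6534 : act 2 n3768 = n6534 := rfl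
def n6535 : Q := act 3 n3768
theorem D6535 : act 3 n3768 = n6535 := rfl
def n6536 : Q := act 0 n3769
theorem D6536 : act 0 n3769 = n6536 := rfl
theorem F6061 : act 2 n6536 = n3776 := d11_4 (iv F390) D1806 D3769 D6536 (iv D3776) (iv D1810) (iv D767)
def n6537 : Q := act 1 n3769
theorem D6537 : act 1 n3769 = n6537 := rfl
theorem F6062 : act 0 n6537 = n5519 := d13_3 (iv F6061) (iv D6536) D6537 F4553 (iv F3027) (iv D4040) D4039 F3026 (iv F2972) (iv F6009) F6008
theorem F6063 : act 3 n5544 = n6537 := d16_2 F4558 D5544 (iv D6537) (iv D3769) (iv F2773) F2772 D5280 F4278 F2368 (iv F2386) (iv F5271) F5272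
theorem F6064 : act 4 n6537 = n6393 := d12_1 F6063 (iv D6393) (iv D3600) D3602 (iv F5318) F4558 D5544
def n6538 : Q := act 3 n3769
theorem D6538 : act 3 n3769 = n6538 := rfl
theorem F6065 : act 1 n6538 = n5544 := d5_1 D6538 F6063 (iv D6537)
theorem F6066 : act 2 n6538 = n3770 := d7_1 D6538 (iv D3770) D3769
theorem E813 : n3951 = n3770 := ((c17_3 (iv F5325) (iv F6065) F6066 (iv D3951) (iv D1911) F431 F144 (iv F125) F5279 (iv D730) (iv F374) (iv F1015) D3610)).symm
theorem F6067 : act 4 n3770 = n1911 := (sb E813 (iv D3951))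
theorem F6068 : act 4 n6538 = n3947 := d8_2 (iv F6067) (iv F6066) (iv D3947) (iv D1910) (iv D811) D812 D1911
theorem F6069 : act 4 n3949 = n6521 := d3_2 F6067 D3949 F6036
theorem F6070 : act 4 n3950 = n6527 := d6_2 F6067 D3950 F6043
theorem E814 : n3793 = n3775 := (c9_2 F6067 (iv F2823) (iv D3775) (iv D1808) (iv D766) D765 D1806 D3770)
theorem F6071 : act 2 n3775 = n1819 := (sb E814 (iv D3793))
theorem F6072 : act 3 n3775 = n1911 := (sb E814 F2823)
theorem F6073 : act 3 n3950 = n6530 := d5_2 F6072 D3950 F6055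
theorem F6074 : act 3 n3949 = n6525 := d12_4 D1808 D3775 F6072 D3949 (iv D6525) (iv D3759) F1058
def n6539 : Q := act 4 n3769
theorem D6539 : act 4 n3769 = n6539 := rfl
theorem F6075 : act 1 n6539 = n6393 := d6_1 D6539 (iv F6064) (iv D6537)
theorem F6076 : act 2 n6539 = n3780 := d8_1 D6539 (iv D3780) (iv D1813) (iv D768) (iv F390) D1806 D3769
theorem F6077 : act 3 n3773 = n6539 := d5_0 F6075 (iv D6393) (iv F2812)
theorem E815 : n3790 = n3780 := ((c7_2 F6077 F6076 (iv D3790) (iv F2813))).symm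
theorem F6078 : act 3 n3780 = n1817 := (sb E815 (iv D3790))
theorem E816 : n3948 = n3789 := ((c9_5 D3780 F6078 (iv D1817) D1816 D3789 (iv D3948) (iv D1910) (iv F1069))).symm
theorem F6079 : act 3 n3789 = n1910 := (sb E816 (iv D3948))
def n6540 : Q := act 2 n3771
theorem D6540 : act 2 n3771 = n6540 := rfl
theorem F6080 : act 0 n6540 = n5528 := d1_1 D6540 F4559 (iv F3036) (iv D4043) (iv F1182) D2941 (iv F2781)
theorem F6081 : act 4 n6540 = n5520 := d11_1 D6540 (iv D5520) (iv D2937) (iv D1313) D1315 D2941 (iv F2781)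
def n6541 : Q := act 3 n3771
theorem D6541 : act 3 n3771 = n6541 := rfl
theorem F6082 : act 0 n6541 = n5541 := d2_1 D6541 (iv D5541) (iv F2392) (iv D3289) F863 (iv F1995) (iv F2781)
theorem F6083 : act 1 n6541 = n3772 := d5_1 D6541 (iv D3772) D3771
theorem F6084 : act 4 n6541 = n6400 := d9_2 F2794 D6541 (iv D6400) (iv F5325) F6063 F6064 (iv D6393)
def n6542 : Q := act 0 n3772
theorem D6542 : act 0 n3772 = n6542 := rfl
def n6543 : Q := act 4 n3772
theorem D6543 : act 4 n3772 = n6543 := rfl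
theorem F6085 : act 1 n6543 = n6400 := d6_1 D6543 (iv F6084) F6083
theorem F6086 : act 2 n6543 = n3789 := d8_1 D6543 (iv D3789) F1070 D1819 (iv F6071) (iv D3775) (iv F2811)
theorem F6087 : act 3 n6543 = n3947 := d9_1 D6543 (iv F6068) (iv D6538) D6539 (iv F6077) (iv D3773) D3772
def n6544 : Q := act 1 n3774
theorem D6544 : act 1 n3774 = n6544 := rfl
def n6545 : Q := act 2 n3774
theorem D6545 : act 2 n3774 = n6545 := rfl
def n6546 : Q := act 4 n3774
theorem D6546 : act 4 n3774 = n6546 := rfl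
theorem F6088 : act 0 n6546 = n3775 := d3_1 D6546 (iv D3775) D3774
def n6547 : Q := act 0 n3777
theorem D6547 : act 0 n3777 = n6547 := rfl
theorem F6089 : act 3 n6547 = n3936 := d10_4 F392 (iv F1068) D3777 D6547 (iv D3936) (iv D1906) (iv D810)
def n6548 : Q := act 1 n3777
theorem D6548 : act 1 n3777 = n6548 := rfl
theorem F6090 : act 0 n6548 = n5973 := d16_6 D687 D1633 (iv F2492) F2491 D3777 D6548 (iv D5973) (iv D3250) (iv D1524) (iv D631) (iv F306) F305
def n6549 : Q := act 4 n3777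
theorem D6549 : act 4 n3777 = n6549 := rfl
def n6550 : Q := act 1 n3778
theorem D6550 : act 1 n3778 = n6550 := rfl
def n6551 : Q := act 3 n3778
theorem D6551 : act 3 n3778 = n6551 := rfl
def n6552 : Q := act 4 n3778
theorem D6552 : act 4 n3778 = n6552 := rfl
theorem F6091 : act 0 n6552 = n3780 := d3_1 D6552 (iv D3780) D3778
def n6553 : Q := act 2 n3779
theorem D6553 : act 2 n3779 = n6553 := rfl
theorem F6092 : act 0 n6553 = n5844 := d1_1 D6553 F5972 (iv F5970) (iv D6470) (iv D3693) (iv F2422) (iv F2815)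
theorem F6093 : act 1 n6553 = n3813 := d4_1 D6553 (iv D3813) (iv D1831) (iv D777) (iv F391) D1813 D3779
theorem F6094 : act 3 n6553 = n3945 := d7_2 (iv F2814) D6553 (iv D3945)
theorem F6095 : act 4 n5843 = n6553 := d3_0 F6092 (iv D5844) D5843
def n6554 : Q := act 4 n3779
theorem D6554 : act 4 n3779 = n6554 := rfl
theorem F6096 : act 0 n6554 = n5851 := d3_1 D6554 F5004 (iv F2815)
theorem F6097 : act 1 n6554 = n3780 := d6_1 D6554 (iv D3780) D3779
theorem F6098 : act 2 n6554 = n5837 := d11_2 (iv D6553) D6554 F4983 D5838 (iv F5974) (iv F5972) (iv F6092)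
theorem F6099 : act 3 n3787 = n6554 := d5_0 F6097 F6078 (iv F2821)
def n6555 : Q := act 0 n3781
theorem D6555 : act 0 n3781 = n6555 := rfl
theorem F6100 : act 2 n6555 = n5631 := d13_4 D769 D1814 D3781 D6555 (iv F5348) (iv D6032) F2402 (iv D1735) (iv F1019) F1020 F389
def n6556 : Q := act 2 n3781
theorem D6556 : act 2 n3781 = n6556 := rfl
theorem F6101 : act 1 n6556 = n5733 := d4_1 D6556 F4800 (iv D3310) (iv F2381) (iv F2764) F2765 D3781
theorem F6102 : act 4 n6556 = n5730 := d11_1 D6556 F4796 (iv F4662) (iv D5629) D5631 (iv F6100) (iv D6555)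
def n6557 : Q := act 3 n3781
theorem D6557 : act 3 n3781 = n6557 := rfl
theorem F6103 : act 1 n6557 = n3782 := d5_1 D6557 (iv D3782) D3781
def n6558 : Q := act 4 n3781
theorem D6558 : act 4 n3781 = n6558 := rfl
theorem F6104 : act 1 n6558 = n3783 := d6_1 D6558 (iv D3783) D3781
def n6559 : Q := act 4 n3782
theorem D6559 : act 4 n3782 = n6559 := rfl
theorem F6105 : act 3 n6559 = n3943 := d12_2 D3782 D6559 F2948 (iv F6079) (iv D3789) (iv D1816) D1814
def n6560 : Q := act 3 n3783
theorem D6560 : act 3 n3783 = n6560 := rfl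
theorem F6106 : act 4 n6560 = n3942 := d9_2 D3783 D6560 (iv D3942) D3943 (iv F6105) (iv D6559) (iv D3782)
def n6561 : Q := act 4 n3784
theorem D6561 : act 4 n3784 = n6561 := rfl
theorem F6107 : act 0 n6561 = n3787 := d3_1 D6561 (iv D3787) D3784
theorem F6108 : act 1 n6561 = n5295 := d6_1 D6561 (iv F5940) F5938
theorem F6109 : act 3 n6561 = n5858 := d12_2 (iv F2817) D6561 (iv F5022) (iv F5377) (iv D6052) (iv D3315) D3313
theorem F6110 : act 2 n6561 = n5767 := d17_10 (iv D3067) (iv F2111) (iv D3024) D3026 D5639 F4682 (iv F4742) F4743 F2818 D6561 F4885 F4780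
def n6562 : Q := act 0 n3785
theorem D6562 : act 0 n3785 = n6562 := rfl
theorem F6111 : act 2 n6562 = n6458 := d1_2 D3785 D6562 F5941 F2855 (iv F2709) F2818 (iv D3784)
theorem F6112 : act 3 n6562 = n5763 := d10_4 (iv F2817) (iv D3784) D3785 D6562 F4876 (iv D3314) D3313
theorem F6113 : act 1 n6440 = n6562 := d15_11 (iv D3785) D3784 (iv F2818) (iv F4743) F4742 (iv F4682) (iv D5639) (iv F2689) D6421 F5891 D6440 (iv D6562)
theorem F6114 : act 4 n6562 = n5759 := d6_2 (iv F5919) F6113 F4860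
def n6563 : Q := act 3 n3785
theorem D6563 : act 3 n3785 = n6563 := rfl
theorem F6115 : act 1 n6563 = n3820 := d5_1 D6563 (iv D3820) (iv F2819)
theorem F6116 : act 2 n6563 = n3786 := d7_1 D6563 (iv D3786) D3785
def n6564 : Q := act 4 n3785
theorem D6564 : act 4 n3785 = n6564 := rfl
theorem F6117 : act 0 n6564 = n5759 := d3_1 D6564 (iv F6114) (iv D6562)
theorem F6118 : act 1 n6564 = n3821 := d6_1 D6564 (iv D3821) (iv F2819)
theorem F6119 : act 2 n6564 = n4191 := d17_10 (iv D4188) D4185 (iv F4796) (iv F6102) (iv D6556) (iv D3781) (iv D1814) D1815 D3785 D6564 F3146 (iv F3142)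
theorem E817 : n5504 = n3821 := ((c13_3 D5759 (iv F6117) F6118 (iv D5504) (iv D2924) D2923 D5500 F4533 F3015 F1208 (iv F1211) (iv F2162))).symm
theorem F6120 : act 0 n3821 = n2924 := (sb E817 (iv D5504))
theorem F6121 : act 2 n5680 = n5473 := d15_6 (iv D5759) F2162 D4064 (iv F3093) (iv F3104) (iv F4745) (iv D5473) D5474 F4506 (iv F6120) (iv F6118) F6117
theorem F6122 : act 2 n5117 = n4776 := d7_3 (iv F4747) F6121 F4505
theorem F6123 : act 0 n5475 = n6467 := d10_5 (iv D5681) D5680 F6121 (iv D5473) D5475 (iv D6467) (iv F5791)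
theorem E818 : n5506 = n3819 := (c3_3 D3821 F6120 D5506 (iv D3819))
theorem F6124 : act 4 n3819 = n2924 := (sb E818 (iv D5506))
theorem F6125 : act 3 n5843 = n6564 := d10_0 F6117 (iv D5759) F2162 (iv F2259) F2257 D3147 D5843
def n6565 : Q := act 0 n3786
theorem D6565 : act 0 n3786 = n6565 := rfl
theorem F6126 : act 3 n6565 = n6051 := d2_2 D3786 D6565 (iv D6051) (iv D3315) D3313 (iv F2817) (iv D3784)
theorem F6127 : act 2 n6565 = n5868 := d10_2 D3786 D6565 F5043 (iv D4122) (iv F2709) F2818 (iv D3784)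
theorem F6128 : act 4 n5852 = n6565 := d12_1 D5852 F6126 (iv D6051) (iv D3315) D3316 F3083 (iv F2279)
def n6566 : Q := act 4 n3786
theorem D6566 : act 4 n3786 = n6566 := rfl
theorem F6129 : act 0 n6566 = n5852 := d3_1 D6566 F6128 (iv D6565)
theorem F6130 : act 1 n6566 = n3789 := d6_1 D6566 (iv D3789) (iv F2820)
theorem F6131 : act 3 n6566 = n3946 := d9_1 D6566 (iv D3946) (iv F2814) D6554 (iv F6099) (iv D3787) D3786
theorem F6132 : act 2 n5840 = n6566 := d10_2 D3144 D5840 F6129 (iv D5852) F2279 (iv F2249) F2247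
def n6567 : Q := act 2 n3787
theorem D6567 : act 2 n3787 = n6567 := rfl
theorem F6133 : act 3 n6567 = n5837 := d7_2 (iv F6099) D6567 (iv F6098)
theorem F6134 : act 4 n6567 = n3807 := d8_2 D3787 D6567 F2835 D4191 (iv F6119) (iv D6564) (iv D3785)
theorem F6135 : act 0 n6567 = n5756 := d10_3 (iv F6109) F6107 D6567 F4859 (iv F4981) F5023 F5022
theorem F6136 : act 1 n3809 = n6567 := d6_3 F6134 (iv D3807) D3809
def n6568 : Q := act 1 n3788
theorem D6568 : act 1 n3788 = n6568 := rfl
def n6569 : Q := act 2 n3788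
theorem D6569 : act 2 n3788 = n6569 := rfl
def n6570 : Q := act 3 n3788
theorem D6570 : act 3 n3788 = n6570 := rfl
def n6571 : Q := act 4 n3788
theorem D6571 : act 4 n3788 = n6571 := rfl
theorem F6137 : act 0 n6571 = n3789 := d3_1 D6571 (iv D3789) D3788
def n6572 : Q := act 1 n3791
theorem D6572 : act 1 n3791 = n6572 := rfl
def n6573 : Q := act 4 n3791
theorem D6573 : act 4 n3791 = n6573 := rfl
def n6574 : Q := act 2 n3792
theorem D6574 : act 2 n3792 = n6574 := rfl
def n6575 : Q := act 2 n3795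
theorem D6575 : act 2 n3795 = n6575 := rfl
theorem F6138 : act 0 n6575 = n3802 := d11_3 D1821 D3795 D6575 (iv D3802) (iv D1825) (iv D772) D771
def n6576 : Q := act 4 n3796
theorem D6576 : act 4 n3796 = n6576 := rfl
theorem F6139 : act 0 n6576 = n3797 := d3_1 D6576 (iv D3797) D3796
theorem F6140 : act 1 n6576 = n6276 := d6_1 D6576 (iv D6276) (iv F2827)
def n6577 : Q := act 2 n3797
theorem D6577 : act 2 n3797 = n6577 := rfl
theorem F6141 : act 3 n6577 = n4482 := d7_2 (iv F2828) D6577 (iv D4482)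
theorem F6142 : act 0 n6577 = n4373 := d11_3 (iv F2541) D3797 D6577 F3804 (iv D4824) F1603 D3480
def n6578 : Q := act 3 n3798
theorem D6578 : act 3 n3798 = n6578 := rfl
theorem F6143 : act 2 n6578 = n3799 := d7_1 D6578 (iv D3799) D3798
def n6579 : Q := act 4 n3798
theorem D6579 : act 4 n3798 = n6579 := rfl
def n6580 : Q := act 0 n3799
theorem D6580 : act 0 n3799 = n6580 := rfl
def n6581 : Q := act 4 n3799
theorem D6581 : act 4 n3799 = n6581 := rfl
theorem F6144 : act 3 n6581 = n3959 := d9_1 D6581 F3416 (iv F2828) (iv D3797) (iv D1822) D1823 D3799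
def n6582 : Q := act 1 n3800
theorem D6582 : act 1 n3800 = n6582 := rfl
theorem F6145 : act 0 n6582 = n5218 := d0_1 D6582 (iv D5218) (iv D2768) F687 D1229 (iv F1076) D3800
def n6583 : Q := act 4 n3800
theorem D6583 : act 4 n3800 = n6583 := rfl
theorem F6146 : act 0 n6583 = n3801 := d3_1 D6583 (iv D3801) D3800
def n6584 : Q := act 2 n3801
theorem D6584 : act 2 n3801 = n6584 := rfl
def n6585 : Q := act 3 n3801
theorem D6585 : act 3 n3801 = n6585 := rfl
theorem F6147 : act 1 n6585 = n5227 := d5_1 D6585 (iv D5227) (iv F2829)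
def n6586 : Q := act 1 n3802
theorem D6586 : act 1 n3802 = n6586 := rfl
theorem F6148 : act 0 n6586 = n6397 := d13_3 D6575 F6138 D6586 F5863 (iv F3082) (iv D4105) (iv F3070) (iv D4083) (iv F3065) (iv F4515) F4514
theorem F6149 : act 4 n6392 = n6586 := d17_0 (iv D6586) (iv D3802) (iv D1825) (iv D772) (iv D302) F43 (iv F111) (iv F323) D1584 D3363 D6095 (iv F5857)
theorem F6150 : act 2 n6586 = n5522 := d8_1 F6149 (iv D5522) D5520 (iv F6081) (iv D6540) (iv F2794) D6392
def n6587 : Q := act 3 n3802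
theorem D6587 : act 3 n3802 = n6587 := rfl
theorem F6151 : act 2 n6587 = n3803 := d7_1 D6587 (iv D3803) D3802
def n6588 : Q := act 4 n3802
theorem D6588 : act 4 n3802 = n6588 := rfl
theorem F6152 : act 1 n6588 = n6392 := d6_1 D6588 F6149 (iv D6586)
theorem F6153 : act 2 n6588 = n3809 := d8_1 D6588 (iv D3809) (iv D1828) (iv D774) D772 D1825 D3802
def n6589 : Q := act 0 n3803
theorem D6589 : act 0 n3803 = n6589 := rfl
def n6590 : Q := act 4 n3803
theorem D6590 : act 4 n3803 = n6590 := rfl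
theorem F6154 : act 1 n6590 = n5241 := d6_1 D6590 (iv D5241) (iv F2830)
theorem F6155 : act 2 n3811 = n6590 := d4_0 F6154 (iv F6056) F6055 F6071 F1071 (iv F3379) (iv F2837)
theorem F6156 : act 3 n6590 = n3960 := d7_2 (iv F3388) F6155 (iv D3960)
theorem F6157 : act 4 n3960 = n6585 := d9_2 D6590 F6156 (iv D6585) (iv D3801) (iv D1824) D1825 D3803
def n6591 : Q := act 4 n3804
theorem D6591 : act 4 n3804 = n6591 := rfl
theorem F6158 : act 1 n6591 = n4709 := d6_1 D6591 (iv D4709) (iv F2831)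
def n6592 : Q := act 2 n3805
theorem D6592 : act 2 n3805 = n6592 := rfl
theorem F6159 : act 1 n6592 = n4975 := d16_5 D2307 (iv F1494) (iv F3548) F3546 D6592 (iv D4975) (iv D2609) D2608 F1715 (iv D1581) (iv F520) F519
theorem F6160 : act 4 n4368 = n6219 := d17_9 (iv D4709) (iv F2831) (iv D3804) D3805 D6592 F6159 (iv D4975) (iv F3300) F3301 (iv D6219) F2528 (iv F3710)
theorem F6161 : act 1 n4976 = n6219 := d17_1 D4976 (iv D6219) (iv D3466) F951 F950 D2444 (iv F2831) (iv D3804) D3805 D6592 F6159 (iv D4975)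
def n6593 : Q := act 0 n3806
theorem D6593 : act 0 n3806 = n6593 := rfl
def n6594 : Q := act 4 n3806
theorem D6594 : act 4 n3806 = n6594 := rfl
theorem F6162 : act 1 n6594 = n5837 := d6_1 D6594 (iv D5837) (iv F2834)
theorem F6163 : act 3 n3809 = n6594 := d5_0 F6162 (iv F6133) (iv F6136)
def n6595 : Q := act 3 n3807
theorem D6595 : act 3 n3807 = n6595 := rfl
theorem F6164 : act 0 n6595 = n5777 := d2_1 D6595 (iv D5777) (iv F4818) (iv D5751) (iv D3089) D3091 (iv F2970)
theorem F6165 : act 1 n6595 = n3808 := d5_1 D6595 (iv D3808) D3807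
theorem F6166 : act 2 n6595 = n4190 := d7_1 D6595 (iv D4190) (iv F2835)
theorem F6167 : act 4 n5840 = n6595 := d17_0 F6165 F2836 D3811 F6155 F6154 F4244 (iv F4223) F5296 (iv D5225) (iv F4222) F4221 D5840
def n6596 : Q := act 0 n3808
theorem D6596 : act 0 n3808 = n6596 := rfl
def n6597 : Q := act 4 n3808
theorem D6597 : act 4 n3808 = n6597 := rfl
theorem F6168 : act 1 n6597 = n5840 := d6_1 D6597 F6167 F6165
theorem F6169 : act 3 n6597 = n4483 := d9_1 D6597 (iv D4483) (iv F2833) D6594 (iv F6163) (iv D3809) D3808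
def n6598 : Q := act 2 n3810
theorem D6598 : act 2 n3810 = n6598 := rfl
def n6599 : Q := act 4 n3810
theorem D6599 : act 4 n3810 = n6599 := rfl
theorem F6170 : act 0 n6599 = n3811 := d3_1 D6599 (iv D3811) D3810
def n6600 : Q := act 1 n3812
theorem D6600 : act 1 n3812 = n6600 := rfl
theorem F6171 : act 0 n6600 = n6600 := d0_1 D6600 (iv D6600) (iv D3812) (iv D1831) F402 D1831 D3812
theorem F6172 : act 2 n6600 = n4636 := d17_8 (iv D1827) F394 F129 D305 D777 D1831 D3812 D6600 F3617 (iv F3547) F3546 F2832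
theorem F6173 : act 3 n4590 = n6600 := d7_0 F6172 (iv D4636) (iv F3557)
theorem F6174 : act 4 n4587 = n6600 := d8_0 F6172 F3617 (iv F3547) (iv D4585) F1443 D2338 D4587
def n6601 : Q := act 2 n3812
theorem D6601 : act 2 n3812 = n6601 := rfl
def n6602 : Q := act 3 n3812
theorem D6602 : act 3 n3812 = n6602 := rfl
theorem F6175 : act 1 n6602 = n4590 := d5_1 D6602 F6173 (iv D6600)
theorem F6176 : act 4 n4588 = n6602 := d6_0 F6175 (iv D4590) D4588
def n6603 : Q := act 4 n3812
theorem D6603 : act 4 n3812 = n6603 := rfl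
theorem F6177 : act 0 n6603 = n3814 := d3_1 D6603 (iv D3814) D3812
theorem F6178 : act 1 n6603 = n4587 := d6_1 D6603 F6174 (iv D6600)
theorem F6179 : act 3 n4600 = n6603 := d5_0 F6178 F3552 D4600
def n6604 : Q := act 0 n3813
theorem D6604 : act 0 n3813 = n6604 := rfl
def n6605 : Q := act 4 n3813
theorem D6605 : act 4 n3813 = n6605 := rfl
theorem F6180 : act 1 n6605 = n5843 := d6_1 D6605 F6095 F6093
theorem F6181 : act 3 n3821 = n6605 := d5_0 F6180 F6125 F6118
def n6606 : Q := act 2 n3814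
theorem D6606 : act 2 n3814 = n6606 := rfl
theorem F6182 : act 3 n6606 = n3824 := d7_2 F2841 D6606 (iv D3824)
theorem F6183 : act 1 n6606 = n5250 := d16_5 F2063 (iv F405) (iv F2057) (iv F2840) D6606 F4252 (iv F4448) (iv F1860) (iv F1862) (iv D1613) F333 F116
theorem F6184 : act 4 n5248 = n6606 := d6_0 F6183 (iv D5250) D5248
def n6607 : Q := act 3 n3815
theorem D6607 : act 3 n3815 = n6607 := rfl
theorem F6185 : act 0 n6607 = n6607 := d2_1 D6607 (iv D6607) F2842 D6124 F5442 (iv D6124) (iv F2842)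
theorem F6186 : act 1 n6607 = n3817 := d5_1 D6607 (iv D3817) D3815
theorem F6187 : act 2 n6607 = n5626 := d7_1 D6607 (iv F4654) F4598
theorem F6188 : act 4 n5620 = n6607 := d8_0 F6187 (iv D5626) (iv F4645) (iv D5619) (iv D3010) D3011 D5620
def n6608 : Q := act 0 n3816
theorem D6608 : act 0 n3816 = n6608 := rfl
theorem F6189 : act 1 n6608 = n4089 := d13_2 D3816 D6608 (iv D4089) (iv D2002) F447 F151 F52 D260 (iv F133) D778 D1833
def n6609 : Q := act 1 n3816
theorem D6609 : act 1 n3816 = n6609 := rfl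
theorem F6190 : act 0 n6609 = n5656 := d0_1 D6609 F5914 F5911 (iv D4090) D4089 (iv F6189) (iv D6608)
theorem F6191 : act 4 n5653 = n6609 := d3_0 F6190 (iv D5656) D5653
def n6610 : Q := act 3 n3816
theorem D6610 : act 3 n3816 = n6610 := rfl
theorem F6192 : act 2 n6610 = n3817 := d7_1 D6610 (iv D3817) D3816
def n6611 : Q := act 4 n3816
theorem D6611 : act 4 n3816 = n6611 := rfl
theorem F6193 : act 1 n6611 = n5653 := d6_1 D6611 F6191 (iv D6609)
theorem F6194 : act 0 n5501 = n6611 := d13_1 D5501 F6193 (iv D5653) (iv D3038) F770 F279 (iv F199) D1046 F566 D1305 D2923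
theorem F6195 : act 4 n6608 = n5501 := d3_0 F6194 (iv D6611) D6608
def n6612 : Q := act 0 n3817
theorem D6612 : act 0 n3817 = n6612 := rfl
theorem F6196 : act 1 n6612 = n6277 := d15_5 (iv F2872) (iv F4653) (iv F6187) F6186 D6612 (iv D6277) F2564 D3504 (iv F2871) (iv D3846) (iv F2863) F2865
theorem E819 : n6610 = n6295 := (c13_5 D6277 F5639 (iv F6196) (iv D6612) (iv F6192) (iv D6295) (iv D3516) (iv D1669) (iv D704) (iv F362) (iv F965) (iv F2564))
theorem F6197 : act 2 n6295 = n3817 := (sb E819 F6192)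
theorem F6198 : act 3 n6295 = n3816 := (sb E819 (iv D6610))
def n6613 : Q := act 4 n3817
theorem D6613 : act 4 n3817 = n6613 := rfl
theorem F6199 : act 1 n6613 = n5620 := d6_1 D6613 F6188 F6186
theorem F6200 : act 3 n6613 = n3955 := d12_2 D3817 D6613 F2954 (iv F2846) (iv D3823) (iv D1835) D1833
def n6614 : Q := act 2 n3818
theorem D6614 : act 2 n3818 = n6614 := rfl
def n6615 : Q := act 3 n3818
theorem D6615 : act 3 n3818 = n6615 := rfl
theorem F6201 : act 1 n6615 = n5623 := d5_1 D6615 F4651 F4581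
theorem F6202 : act 4 n6615 = n3954 := d9_2 D3818 D6615 (iv D3954) D3955 (iv F6200) (iv D6613) (iv D3817)
def n6616 : Q := act 1 n3819
theorem D6616 : act 1 n3819 = n6616 := rfl
theorem F6203 : act 0 n6616 = n6421 := d0_1 D6616 F5891 D6440 F6113 (iv D6562) F2819 D3819
theorem F6204 : act 4 n6616 = n5474 := d6_2 (iv F6124) D6616 F4506
theorem F6205 : act 2 n6616 = n5736 := d14_1 D6616 F4804 (iv F4799) (iv F6101) (iv D6556) (iv D3781) (iv D1814) D1815 D3785 F2819 D3819
def n6617 : Q := act 2 n3819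
theorem D6617 : act 2 n3819 = n6617 := rfl
theorem F6206 : act 1 n6617 = n3851 := d4_1 D6617 (iv D3851) D3850 F2880 (iv F4804) (iv F6205) (iv D6616)
def n6618 : Q := act 3 n3819
theorem D6618 : act 3 n3819 = n6618 := rfl
def n6619 : Q := act 0 n3820
theorem D6619 : act 0 n3820 = n6619 := rfl
def n6620 : Q := act 4 n3820
theorem D6620 : act 4 n3820 = n6620 := rfl
theorem F6207 : act 3 n6620 = n3957 := d9_1 D6620 (iv D3957) (iv F2839) D6605 (iv F6181) (iv D3821) D3820
def n6621 : Q := act 2 n3821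
theorem D6621 : act 2 n3821 = n6621 := rfl
theorem F6208 : act 1 n6621 = n5520 := d4_1 D6621 (iv D5520) (iv F4441) (iv D4194) (iv F3146) (iv F6119) F6118
def n6622 : Q := act 1 n3822
theorem D6622 : act 1 n3822 = n6622 := rfl
theorem F6209 : act 0 n6622 = n6622 := d0_1 D6622 (iv D6622) (iv D3822) F1088 F403 (iv F1088) D3822
theorem F6210 : act 2 n6622 = n4635 := d17_8 D3811 F2837 F3379 (iv D781) (iv F404) (iv F1088) D3822 D6622 (iv D4635) (iv F3551) F3550 (iv D3810)
theorem F6211 : act 3 n4601 = n6622 := d7_0 F6210 F3615 (iv F3568)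
theorem F6212 : act 4 n6622 = n4589 := d9_2 D4601 F6211 (iv D4589) D4590 F6173 (iv F6174) F3552
def n6623 : Q := act 2 n3822
theorem D6623 : act 2 n3822 = n6623 := rfl
def n6624 : Q := act 3 n3822
theorem D6624 : act 3 n3822 = n6624 := rfl
theorem F6213 : act 1 n6624 = n4601 := d5_1 D6624 F6211 (iv D6622)
theorem F6214 : act 4 n6624 = n4600 := d12_1 D6624 F6179 F6177 (iv F2841) (iv D1836) D1835 D3822
def n6625 : Q := act 4 n3822
theorem D6625 : act 4 n3822 = n6625 := rfl
theorem F6215 : act 0 n6625 = n3823 := d3_1 D6625 (iv D3823) D3822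
theorem F6216 : act 1 n6625 = n4589 := d6_1 D6625 (iv F6212) (iv D6622)
theorem F6217 : act 3 n6625 = n4588 := d9_1 D6625 F6176 (iv D6602) D6603 (iv F6179) (iv F6214) (iv D6624)
def n6626 : Q := act 2 n3823
theorem D6626 : act 2 n3823 = n6626 := rfl
theorem F6218 : act 3 n6626 = n3958 := d7_2 (iv F2846) D6626 (iv D3958)
def n6627 : Q := act 0 n3824
theorem D6627 : act 0 n3824 = n6627 := rfl
theorem F6219 : act 4 n6627 = n5509 := d3_2 (iv F6051) D6627 (iv F6046)
theorem F6220 : act 1 n6627 = n5454 := d13_2 D3824 D6627 (iv F4627) (iv D5608) F2038 F764 (iv F758) D3001 (iv F4580) F4581 F2843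
def n6628 : Q := act 3 n3828
theorem D6628 : act 3 n3828 = n6628 := rfl
theorem F6221 : act 0 n6628 = n6628 := d2_1 D6628 (iv D6628) F2850 D3841 F2865 (iv D3841) (iv F2850)
theorem F6222 : act 1 n6628 = n3830 := d5_1 D6628 (iv D3830) D3828
theorem F6223 : act 2 n6628 = n5590 := d7_1 D6628 F4655 (iv F2851)
theorem F6224 : act 4 n5585 = n6628 := d8_0 F6223 (iv D5590) (iv D2990) (iv D1347) (iv F753) D2987 D5585
def n6629 : Q := act 1 n3829
theorem D6629 : act 1 n3829 = n6629 := rfl
theorem F6225 : act 2 n6629 = n6446 := d4_2 D3829 D6629 (iv D6446) (iv F4604) F4603 (iv F2851) (iv D3828)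
def n6630 : Q := act 3 n3829
theorem D6630 : act 3 n3829 = n6630 := rfl
theorem F6226 : act 2 n6630 = n3830 := d7_1 D6630 (iv D3830) D3829
def n6631 : Q := act 4 n3829
theorem D6631 : act 4 n3829 = n6631 := rfl
def n6632 : Q := act 0 n3830
theorem D6632 : act 0 n3830 = n6632 := rfl
def n6633 : Q := act 4 n3830
theorem D6633 : act 4 n3830 = n6633 := rfl
theorem F6227 : act 1 n6633 = n5585 := d6_1 D6633 F6224 F6222
theorem F6228 : act 3 n6633 = n3921 := d12_2 D3830 D6633 F2938 F2858 (iv D3837) (iv D1842) D1840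
def n6634 : Q := act 2 n3831
theorem D6634 : act 2 n3831 = n6634 := rfl
def n6635 : Q := act 3 n3831
theorem D6635 : act 3 n3831 = n6635 := rfl
theorem F6229 : act 1 n6635 = n5587 := d5_1 D6635 (iv D5587) (iv F2854)
theorem F6230 : act 4 n6635 = n3920 := d9_2 D3831 D6635 (iv D3920) D3921 (iv F6228) (iv D6633) (iv D3830)
def n6636 : Q := act 1 n3832
theorem D6636 : act 1 n3832 = n6636 := rfl
def n6637 : Q := act 2 n3832
theorem D6637 : act 2 n3832 = n6637 := rfl
def n6638 : Q := act 3 n3832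
theorem D6638 : act 3 n3832 = n6638 := rfl
def n6639 : Q := act 4 n3832
theorem D6639 : act 4 n3832 = n6639 := rfl
theorem F6231 : act 0 n6639 = n3835 := d3_1 D6639 (iv D3835) D3832
def n6640 : Q := act 3 n3833
theorem D6640 : act 3 n3833 = n6640 := rfl
theorem F6232 : act 1 n6640 = n3834 := d5_1 D6640 (iv D3834) D3833
theorem F6233 : act 2 n6640 = n4122 := d7_1 D6640 (iv D4122) (iv F2855)
def n6641 : Q := act 4 n3833
theorem D6641 : act 4 n3833 = n6641 := rfl
theorem F6234 : act 1 n6641 = n3835 := d6_1 D6641 (iv D3835) D3833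
theorem F6235 : act 2 n6641 = n4063 := d8_1 D6641 (iv D4063) (iv D1983) D1985 D4064 F3094 (iv F2855)
def n6642 : Q := act 0 n3834
theorem D6642 : act 0 n3834 = n6642 := rfl
def n6643 : Q := act 4 n3834
theorem D6643 : act 4 n3834 = n6643 := rfl
def n6644 : Q := act 2 n3835
theorem D6644 : act 2 n3835 = n6644 := rfl
theorem F6236 : act 1 n6644 = n6394 := d17_5 (iv D784) D782 D1841 D3835 D6644 (iv D6394) (iv F4309) (iv D5309) F4438 (iv D1855) F413 (iv F410)
def n6645 : Q := act 3 n3835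
theorem D6645 : act 3 n3835 = n6645 := rfl
def n6646 : Q := act 1 n3836
theorem D6646 : act 1 n3836 = n6646 := rfl
theorem F6237 : act 0 n6646 = n6646 := d0_1 D6646 (iv D6646) (iv D3836) F1095 F408 (iv F1095) D3836
theorem F6238 : act 2 n6646 = n4630 := d15_6 F404 (iv F154) (iv F409) (iv F1095) D3836 D6646 (iv F3614) (iv F6210) (iv D6622) (iv D3822) F1088 F403
theorem F6239 : act 3 n4596 = n6646 := d7_0 F6238 F3611 (iv F3564)
theorem F6240 : act 4 n4593 = n6646 := d8_0 F6238 (iv D4630) F1473 D2374 F3606 (iv D4622) (iv F3560)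
def n6647 : Q := act 2 n3836
theorem D6647 : act 2 n3836 = n6647 := rfl
def n6648 : Q := act 3 n3836
theorem D6648 : act 3 n3836 = n6648 := rfl
theorem F6241 : act 1 n6648 = n4596 := d5_1 D6648 F6239 (iv D6646)
theorem F6242 : act 4 n4594 = n6648 := d6_0 F6241 (iv D4596) D4594
def n6649 : Q := act 4 n3836
theorem D6649 : act 4 n3836 = n6649 := rfl
theorem F6243 : act 0 n6649 = n3837 := d3_1 D6649 (iv D3837) D3836
theorem F6244 : act 1 n6649 = n4593 := d6_1 D6649 F6240 (iv D6646)
theorem F6245 : act 3 n4592 = n6649 := d5_0 F6244 (iv D4593) D4592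
def n6650 : Q := act 2 n3837
theorem D6650 : act 2 n3837 = n6650 := rfl
theorem F6246 : act 3 n6650 = n3927 := d7_2 F2858 D6650 (iv D3927)
def n6651 : Q := act 0 n3838
theorem D6651 : act 0 n3838 = n6651 := rfl
def n6652 : Q := act 1 n3838
theorem D6652 : act 1 n3838 = n6652 := rfl
theorem F6247 : act 2 n6652 = n4030 := d4_2 D3838 D6652 F4375 (iv D2037) F458 (iv F411) (iv F1096)
theorem F6248 : act 4 n4028 = n6652 := d8_0 F6247 (iv D4030) (iv D1957) (iv D832) D831 D1956 D4028
def n6653 : Q := act 3 n3838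
theorem D6653 : act 3 n3838 = n6653 := rfl
theorem F6249 : act 2 n6653 = n3839 := d7_1 D6653 (iv D3839) D3838
def n6654 : Q := act 4 n3838
theorem D6654 : act 4 n3838 = n6654 := rfl
theorem F6250 : act 1 n6654 = n4028 := d6_1 D6654 F6248 (iv D6652)
def n6655 : Q := act 0 n3839
theorem D6655 : act 0 n3839 = n6655 := rfl
theorem F6251 : act 4 n6655 = n3926 := d3_2 (iv F2860) D6655 (iv D3926)
theorem F6252 : act 3 n6655 = n4594 := d12_4 (iv D1842) D1843 D3839 D6655 F6242 (iv D6648) (iv D3836)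
theorem F6253 : act 1 n6655 = n4595 := d15_5 F2056 F2050 F2048 (iv F2859) D6655 F3562 F1468 D4587 (iv F6178) F6177 F2840 F1085
def n6656 : Q := act 2 n3842
theorem D6656 : act 2 n3842 = n6656 := rfl
theorem F6254 : act 0 n6656 = n3851 := d1_1 D6656 (iv D3851) (iv D1850) (iv D786) D785 D1847 D3842
theorem F6255 : act 1 n6656 = n6436 := d4_1 D6656 (iv D6436) (iv D3649) (iv F2511) F2510 (iv F2409) (iv F2866)
theorem F6256 : act 1 n6133 = n6637 := d15_5 D1847 D3842 D6656 F6255 F5909 (iv D6637) (iv D3832) (iv D1841) (iv D782) (iv D308) D309 D785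
def n6657 : Q := act 3 n3842
theorem D6657 : act 3 n3842 = n6657 := rfl
theorem F6257 : act 1 n6657 = n5969 := d5_1 D6657 F5192 (iv F2866)
theorem F6258 : act 0 n6657 = n3859 := d10_1 D6657 (iv D3859) (iv D1853) (iv D787) D785 D1847 D3842
def n6658 : Q := act 4 n3842
theorem D6658 : act 4 n3842 = n6658 := rfl
theorem F6259 : act 0 n6658 = n3845 := d3_1 D6658 (iv D3845) D3842
theorem F6260 : act 1 n6658 = n5972 := d6_1 D6658 F5198 (iv F2866)
theorem F6261 : act 3 n3874 = n6658 := d5_0 F6260 (iv D5972) (iv F2902)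
def n6659 : Q := act 0 n3843
theorem D6659 : act 0 n3843 = n6659 := rfl
theorem F6262 : act 1 n6659 = n6039 := d0_2 D3843 D6659 (iv D6039) (iv D3306) D3305 (iv F2866) (iv D3842)
theorem F6263 : act 4 n6659 = n5650 := d3_2 F2868 D6659 F4701
theorem F6264 : act 2 n6659 = n5656 := d11_4 D1382 D3053 (iv F2867) D6659 (iv D5656) (iv D3038) F770
theorem F6265 : act 0 n6457 = n6511 := d15_12 (iv D6511) D6510 F6027 (iv F6262) (iv D6659) (iv D3843) (iv D1847) (iv D785) D786 (iv F1032) D3667 D6457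
def n6660 : Q := act 3 n3843
theorem D6660 : act 3 n3843 = n6660 := rfl
theorem F6266 : act 1 n6660 = n3844 := d5_1 D6660 (iv D3844) D3843
theorem F6267 : act 2 n6660 = n5684 := d7_1 D6660 (iv D5684) (iv F2867)
def n6661 : Q := act 0 n3844
theorem D6661 : act 0 n3844 = n6661 := rfl
def n6662 : Q := act 4 n3844
theorem D6662 : act 4 n3844 = n6662 := rfl
def n6663 : Q := act 2 n3845
theorem D6663 : act 2 n3845 = n6663 := rfl
theorem F6268 : act 0 n6663 = n3856 := d10_3 F6261 F6259 D6663 F4844 (iv F2908) (iv D3879) (iv F2901)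
def n6664 : Q := act 3 n3845
theorem D6664 : act 3 n3845 = n6664 := rfl
theorem F6269 : act 1 n6664 = n5665 := d5_1 D6664 (iv D5665) (iv F2870)
theorem F6270 : act 4 n6664 = n3912 := d12_1 D6664 (iv D3912) (iv F2900) (iv D3873) D3874 F6261 F6259
theorem F6271 : act 3 n6662 = n3913 := d9_5 (iv F6270) (iv D6664) (iv D3845) D3844 D6662 (iv D3913) D3912
def n6665 : Q := act 2 n3846
theorem D6665 : act 2 n3846 = n6665 := rfl
theorem F6272 : act 1 n6665 = n6291 := d4_1 D6665 (iv D6291) (iv D3512) (iv D1667) (iv F965) D3504 (iv F2871)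
theorem F6273 : act 0 n6665 = n3852 := d10_3 D1848 D3846 D6665 (iv D3852) (iv D1850) (iv D786) D785
def n6666 : Q := act 3 n3846
theorem D6666 : act 3 n3846 = n6666 := rfl
theorem F6274 : act 0 n6666 = n3860 := d2_1 D6666 (iv D3860) (iv D1853) (iv D787) D785 D1848 D3846
theorem F6275 : act 1 n6666 = n6279 := d5_1 D6666 (iv D6279) (iv F2871)
theorem F6276 : act 4 n3889 = n6666 := d6_0 F6275 (iv F5642) F4002
def n6667 : Q := act 4 n3846
theorem D6667 : act 4 n3846 = n6667 := rfl
theorem F6277 : act 0 n6667 = n3847 := d3_1 D6667 (iv D3847) D3846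
theorem F6278 : act 1 n6667 = n6280 := d6_1 D6667 (iv D6280) (iv F2871)
theorem F6279 : act 3 n6667 = n3883 := d12_2 (iv D6666) D6667 F2913 (iv F2889) (iv D3861) D3860 (iv F6274)
def n6668 : Q := act 2 n3847
theorem D6668 : act 2 n3847 = n6668 := rfl
theorem F6280 : act 3 n6668 = n3914 := d7_2 (iv F2877) D6668 (iv D3914)
def n6669 : Q := act 0 n3848
theorem D6669 : act 0 n3848 = n6669 := rfl
theorem F6281 : act 3 n6669 = n3885 := d10_4 F2043 (iv F1102) D3848 D6669 (iv D3885) (iv D1869) F422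
def n6670 : Q := act 1 n3848
theorem D6670 : act 1 n3848 = n6670 := rfl
theorem F6282 : act 2 n6670 = n5613 := d4_2 D3848 D6670 (iv D5613) (iv D3007) F764 D1360 (iv F1103)
theorem F6283 : act 4 n5713 = n6670 := d8_0 F6282 F5758 (iv D3070) (iv D1392) D1390 D3067 D5713
def n6671 : Q := act 3 n3848
theorem D6671 : act 3 n3848 = n6671 := rfl
theorem F6284 : act 2 n6671 = n3849 := d7_1 D6671 (iv D3849) D3848
def n6672 : Q := act 4 n3848
theorem D6672 : act 4 n3848 = n6672 := rfl
theorem F6285 : act 1 n6672 = n5713 := d6_1 D6672 F6283 (iv D6670)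
def n6673 : Q := act 0 n3849
theorem D6673 : act 0 n3849 = n6673 := rfl
theorem F6286 : act 3 n6673 = n3889 := d2_2 D3849 D6673 (iv D3889) (iv D1870) F422 F2043 (iv F1102)
theorem F6287 : act 4 n6673 = n3882 := d3_2 (iv F2879) D6673 F2911
theorem F6288 : act 1 n6673 = n6329 := d14_4 F2094 (iv F2102) (iv F2878) D6673 F5710 (iv D4401) (iv D2173) (iv F1308) F1309 (iv F1428) (iv F2093)
def n6674 : Q := act 0 n3850
theorem D6674 : act 0 n3850 = n6674 := rfl
theorem F6289 : act 1 n6674 = n6511 := d0_2 D3850 D6674 (iv F6265) (iv D6457) (iv D3667) F1032 D1850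
theorem F6290 : act 2 n6674 = n5725 := d11_4 D1397 D3081 (iv F2880) D6674 (iv D5725) (iv D3075) (iv D1396)
def n6675 : Q := act 3 n3850
theorem D6675 : act 3 n3850 = n6675 := rfl
theorem F6291 : act 1 n6675 = n3852 := d5_1 D6675 (iv D3852) D3850
theorem F6292 : act 2 n6675 = n5739 := d7_1 D6675 (iv D5739) (iv F2880)
theorem E820 : n5879 = n5739 := ((c17_9 D2571 (iv F3903) F5665 (iv D6293) D6291 (iv F6272) F6273 (iv F6291) F6292 (iv D5879) F2299 F815 (iv F619))).symm
theorem F6293 : act 4 n5739 = n3182 := (sb E820 (iv D5879))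
theorem E821 : n5880 = n5738 := (c9_4 F6293 (iv D3182) D3183 D5880 (iv D5738) (iv D3080) D3081 D5739)
theorem F6294 : act 1 n5738 = n6465 := (sb E821 F5961)
theorem F6295 : act 3 n5738 = n3183 := (sb E821 (iv D5880))
theorem F6296 : act 4 n6465 = n5735 := d6_2 D5738 F6294 F4803
theorem F6297 : act 0 n5735 = n6466 := d3_1 F6296 (iv D6466) D6465
theorem F6298 : act 1 n5737 = n5737 := d0_6 (iv F4803) F6297 F5962 (iv F6297) F4803 D5737 (iv D5737)
def n6676 : Q := act 4 n3850
theorem D6676 : act 4 n3850 = n6676 := rfl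
theorem F6299 : act 1 n6676 = n3853 := d6_1 D6676 (iv D3853) D3850
theorem F6300 : act 2 n6676 = n5748 := d8_1 D6676 (iv D5748) (iv D3084) (iv D1399) D1397 D3081 (iv F2880)
def n6677 : Q := act 3 n3851
theorem D6677 : act 3 n3851 = n6677 := rfl
theorem F6301 : act 2 n6677 = n3852 := d7_1 D6677 (iv D3852) D3851
def n6678 : Q := act 4 n3851
theorem D6678 : act 4 n3851 = n6678 := rfl
theorem F6302 : act 2 n6678 = n3863 := d11_2 D3851 D6678 (iv D3863) (iv D1855) (iv D788) D786 D1850
def n6679 : Q := act 4 n3852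
theorem D6679 : act 4 n3852 = n6679 := rfl
theorem F6303 : act 3 n6679 = n3901 := d12_2 D3852 D6679 F2927 (iv F4849) (iv D3855) (iv D1851) D1850
def n6680 : Q := act 2 n3853
theorem D6680 : act 2 n3853 = n6680 := rfl
def n6681 : Q := act 3 n3853
theorem D6681 : act 3 n3853 = n6681 := rfl
theorem F6304 : act 4 n6681 = n3900 := d9_2 D3853 D6681 (iv D3900) D3901 (iv F6303) (iv D6679) (iv D3852)
def n6682 : Q := act 1 n3854
theorem D6682 : act 1 n3854 = n6682 := rfl
theorem F6305 : act 2 n6682 = n5788 := d17_8 D586 (iv F786) D3108 F4731 (iv F2712) F2711 D3854 D6682 (iv D5788) (iv D3112) (iv D1413) (iv D585)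
def n6683 : Q := act 2 n3854
theorem D6683 : act 2 n3854 = n6683 := rfl
def n6684 : Q := act 3 n3854
theorem D6684 : act 3 n3854 = n6684 := rfl
theorem F6306 : act 4 n6684 = n3897 := d12_1 D6684 (iv D3897) F1119 F4845 (iv D1852) D1851 D3854
def n6685 : Q := act 4 n3854
theorem D6685 : act 4 n3854 = n6685 := rfl
theorem F6307 : act 0 n6685 = n3855 := d3_1 D6685 (iv D3855) D3854
theorem F6308 : act 3 n6685 = n3895 := d9_1 D6685 (iv D3895) (iv D1873) D1874 D3897 (iv F6306) (iv D6684)
def n6686 : Q := act 2 n3855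
theorem D6686 : act 2 n3855 = n6686 := rfl
theorem F6309 : act 3 n6686 = n3902 := d7_2 (iv F4849) D6686 (iv D3902)
def n6687 : Q := act 1 n3859
theorem D6687 : act 1 n3859 = n6687 := rfl
theorem F6310 : act 2 n6687 = n4781 := d4_2 D3859 D6687 (iv F5946) F5948 F3627 F3364 (iv D3858)
theorem F6311 : act 3 n4793 = n6687 := d7_0 F6310 F3788 D4793
theorem F6312 : act 4 n4751 = n6687 := d17_9 D6463 F5955 (iv F5802) (iv D6353) F2629 (iv F2612) (iv F3515) F3514 (iv F3748) F6310 (iv F5946) (iv D6461)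
theorem E822 : n4783 = n4753 := ((c8_5 D4781 (iv F6310) (iv F6312) F3748 D4753 (iv D4783) (iv D2485) (iv F1583))).symm
theorem F6313 : act 2 n4753 = n2485 := (sb E822 (iv D4783))
theorem E823 : n2495 = n2471 := (((F3750).symm.trans (sb E822 F3765))).symm
theorem E825 : n4573 = n4558 := ((((iv F3522)).symm.trans (sb E823 (iv F3530)))).symm
theorem E826 : n4759 = n1080 := ((D4759).symm.trans (sb E823 (iv D2495)))
theorem F6314 : act 2 n4558 = n2330 := (sb E825 (iv D4573))
theorem F6315 : act 2 n1080 = n2471 := (sb E826 (iv D4759))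
theorem E828 : n4793 = n4755 := ((c8_5 D1080 F6315 (iv D2471) (iv F1576) D4755 (iv D4793) (iv D2490) F585)).symm
theorem F6316 : act 2 n4755 = n2490 := (sb E828 (iv D4793))
theorem F6317 : act 3 n4755 = n6687 := (sb E828 F6311)
def n6688 : Q := act 3 n3859
theorem D6688 : act 3 n3859 = n6688 := rfl
theorem F6318 : act 1 n6688 = n4755 := d5_1 D6688 F6317 (iv D6687)
theorem F6319 : act 2 n6688 = n3860 := d7_1 D6688 (iv D3860) D3859
theorem F6320 : act 4 n6688 = n3880 := d12_1 D6688 (iv D3880) (iv F2901) F6261 (iv D6658) D6657 F6258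
def n6689 : Q := act 4 n3859
theorem D6689 : act 4 n3859 = n6689 := rfl
theorem F6321 : act 1 n6689 = n4751 := d6_1 D6689 F6312 (iv D6687)
theorem F6322 : act 3 n6689 = n3878 := d9_1 D6689 (iv D3878) (iv D1865) D1866 D3880 (iv F6320) (iv D6688)
def n6690 : Q := act 2 n3861
theorem D6690 : act 2 n3861 = n6690 := rfl
theorem F6323 : act 3 n6690 = n3884 := d7_2 (iv F2889) D6690 (iv D3884)
def n6691 : Q := act 0 n3862
theorem D6691 : act 0 n3862 = n6691 := rfl
theorem F6324 : act 1 n6691 = n5091 := d17_7 (iv D544) (iv F254) (iv F718) D2856 (iv F5288) F5739 D6691 F4079 D5093 F4138 F1794 F669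
theorem F6325 : act 3 n5090 = n6691 := d5_0 F6324 (iv D5091) D5090
theorem F6326 : act 4 n5316 = n5090 := d12_1 D5316 F6325 (iv D6691) F2890 (iv F5735) (iv D2824) D2822
theorem E829 : n5096 = n5092 := ((c6_3 F6326 (iv D5090) D5092 (iv F4316))).symm
theorem F6327 : act 1 n5092 = n5316 := (sb E829 (iv F4316))
theorem E830 : n2715 = n2704 := (((F4080).symm.trans (sb E829 F4083))).symm
theorem F6328 : act 3 n5092 = n2689 := (sb E829 (iv D5096))
theorem E832 : n5135 = n5120 := ((((iv F4108)).symm.trans (sb E830 (iv F4125)))).symm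
theorem E833 : n5123 = n1197 := ((D5123).symm.trans (sb E830 (iv D2715)))
theorem F6329 : act 3 n5120 = n2712 := (sb E832 (iv D5135))
theorem F6330 : act 3 n1197 = n2704 := (sb E833 (iv D5123))
theorem E835 : n5141 = n5122 := ((c9_5 D1197 F6330 (iv D2704) D2703 D5122 (iv D5141) (iv D2714) (iv D1196))).symm
theorem F6331 : act 3 n5122 = n2714 := (sb E835 (iv D5141))
theorem F6332 : act 4 n5989 = n5128 := d12_5 F6330 (iv D2704) D2703 D5121 F5221 (iv D5128) F1796
def n6692 : Q := act 3 n3863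
theorem D6692 : act 3 n3863 = n6692 := rfl
theorem F6333 : act 1 n6692 = n5461 := d5_1 D6692 (iv D5461) F4422
def n6693 : Q := act 1 n3871
theorem D6693 : act 1 n3871 = n6693 := rfl
theorem F6334 : act 4 n6693 = n4592 := d6_2 (iv F2895) D6693 (iv D4592)
theorem F6335 : act 3 n3926 = n6693 := d9_7 F6334 F6245 (iv D6649) D6648 (iv F6242) (iv F6252) F6251
def n6694 : Q := act 3 n3871
theorem D6694 : act 3 n3871 = n6694 := rfl
theorem F6336 : act 0 n6694 = n6694 := d2_1 D6694 (iv D6694) (iv D3871) (iv D1862) F419 D1862 D3871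
theorem F6337 : act 1 n6694 = n3926 := d5_1 D6694 F6335 (iv D6693)
theorem F6338 : act 2 n6694 = n4624 := d7_1 D6694 F3608 (iv F2896)
theorem F6339 : act 4 n6694 = n4595 := d9_2 (iv F2895) D6694 (iv D4595) D4596 F6239 (iv F6240) (iv D4593)
def n6695 : Q := act 3 n3872
theorem D6695 : act 3 n3872 = n6695 := rfl
theorem F6340 : act 1 n6695 = n6311 := d5_1 D6695 (iv D6311) (iv F2898)
theorem F6341 : act 2 n6695 = n3873 := d7_1 D6695 (iv D3873) D3872
theorem F6342 : act 0 n6695 = n3899 := d10_1 D6695 (iv D3899) (iv D1875) (iv D797) D796 D1872 (iv F2897)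
def n6696 : Q := act 4 n3872
theorem D6696 : act 4 n3872 = n6696 := rfl
theorem F6343 : act 0 n6696 = n3894 := d3_1 D6696 (iv D3894) (iv F2897)
theorem F6344 : act 1 n6696 = n6312 := d6_1 D6696 (iv D6312) (iv F2898)
theorem F6345 : act 2 n6696 = n3885 := d11_2 D3872 D6696 (iv D3885) (iv D1869) (iv D795) D793 D1863
def n6697 : Q := act 4 n3873
theorem D6697 : act 4 n3873 = n6697 := rfl
theorem F6346 : act 0 n6697 = n3913 := d3_1 D6697 (iv D3913) (iv F2900)
theorem F6347 : act 1 n6697 = n5971 := d6_1 D6697 (iv D5971) (iv F2899)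
def n6698 : Q := act 2 n3874
theorem D6698 : act 2 n3874 = n6698 := rfl
theorem F6348 : act 0 n6698 = n3896 := d1_1 D6698 (iv D3896) F1119 D1877 (iv F2908) (iv D3879) (iv F2901)
theorem F6349 : act 1 n6698 = n6204 := d4_1 D6698 F5535 F3292 (iv F2632) F2634 (iv F2347) (iv F2902)
theorem F6350 : act 4 n6202 = n6698 := d6_0 F6349 (iv D6204) D6202
def n6699 : Q := act 3 n3875
theorem D6699 : act 3 n3875 = n6699 := rfl
theorem F6351 : act 1 n6699 = n5973 := d5_1 D6699 (iv D5973) (iv F2903)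
theorem F6352 : act 2 n6699 = n4722 := d7_1 D6699 F5699 (iv F2905)
theorem F6353 : act 4 n4710 = n6699 := d8_0 F6352 (iv D4722) (iv D2450) (iv D1059) (iv F578) D2445 D4710
def n6700 : Q := act 0 n3876
theorem D6700 : act 0 n3876 = n6700 := rfl
theorem F6354 : act 4 n6700 = n4749 := d3_2 (iv F3785) D6700 (iv D4749)
theorem F6355 : act 2 n6700 = n4771 := d11_4 D1073 D2484 (iv F3784) D6700 (iv D4771) (iv D2479) F583
theorem F6356 : act 0 n6145 = n4771 := d10_1 D6145 (iv F6355) (iv D6700) (iv D3876) D3875 F2905 (iv F2464)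
theorem F6357 : act 4 n4768 = n6145 := d3_0 F6356 (iv D4771) D4768
theorem F6358 : act 1 n6147 = n4768 := d6_3 F6357 F5467 D6147
theorem F6359 : act 0 n5179 = n6147 := d13_1 D5179 F6358 (iv D4768) (iv D2479) F583 F204 (iv F208) D1089 F595 D1208 D2736
theorem F6360 : act 4 n6146 = n5179 := d3_0 F6359 (iv D6147) D6146
def n6701 : Q := act 2 n3877
theorem D6701 : act 2 n3877 = n6701 := rfl
theorem F6361 : act 0 n6701 = n3893 := d1_1 D6701 F2924 (iv F2910) (iv D3881) (iv D1867) (iv F1115) D3877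
def n6702 : Q := act 3 n3877
theorem D6702 : act 3 n3877 = n6702 := rfl
theorem F6362 : act 0 n6702 = n3912 := d2_1 D6702 (iv D3912) (iv F2900) (iv D3873) (iv D1863) D1865 D3877
def n6703 : Q := act 4 n3877
theorem D6703 : act 4 n3877 = n6703 := rfl
theorem F6363 : act 0 n6703 = n3878 := d3_1 D6703 (iv D3878) D3877
def n6704 : Q := act 2 n3878
theorem D6704 : act 2 n3878 = n6704 := rfl
def n6705 : Q := act 1 n3879
theorem D6705 : act 1 n3879 = n6705 := rfl
theorem F6364 : act 0 n6705 = n4857 := d0_1 D6705 (iv F4319) (iv D5317) F1895 (iv F2002) F2000 (iv F2908)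
theorem F6365 : act 2 n6705 = n4554 := d4_2 D3879 D6705 (iv D4554) (iv D2320) F530 D1067 (iv F1116)
theorem F6366 : act 4 n6705 = n4857 := d6_2 F4317 D6705 (iv F4319)
def n6706 : Q := act 3 n3879
theorem D6706 : act 3 n3879 = n6706 := rfl
theorem F6367 : act 2 n6706 = n3880 := d7_1 D6706 (iv D3880) D3879
def n6707 : Q := act 0 n3880
theorem D6707 : act 0 n3880 = n6707 := rfl
def n6708 : Q := act 1 n3881
theorem D6708 : act 1 n3881 = n6708 := rfl
theorem F6368 : act 2 n6708 = n6287 := d4_2 D3881 D6708 (iv D6287) (iv D3510) F973 D2554 F1659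
theorem E836 : n5814 = n4920 := ((c17_3 (iv F1196) D2572 D4920 (iv D5814) (iv F2921) F2920 (iv F2910) D6708 F6368 (iv F5659) (iv D4930) F1685 F1197)).symm
theorem F6369 : act 4 n4920 = n3127 := (sb E836 (iv D5814))
theorem E837 : n5812 = n5788 := (c9_6 F6369 (iv D3127) (iv D1429) D1428 D3126 D5812 (iv D5788) (iv F3907))
theorem F6370 : act 3 n5788 = n3126 := (sb E837 (iv D5812))
theorem F6371 : act 3 n5811 = n6682 := d7_2 F6370 D5811 F6305
theorem F6372 : act 1 n6684 = n5811 := d5_3 F6371 (iv D6682) D6684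
theorem F6373 : act 3 n6331 = n6708 := d7_0 F6368 F5655 D6331
def n6709 : Q := act 3 n3881
theorem D6709 : act 3 n3881 = n6709 := rfl
theorem F6374 : act 0 n6709 = n3900 := d2_1 D6709 (iv D3900) (iv D1875) (iv D797) D796 D1873 (iv F2910)
theorem F6375 : act 1 n6709 = n6331 := d5_1 D6709 F6373 (iv D6708)
theorem F6376 : act 2 n6709 = n3882 := d7_1 D6709 (iv D3882) D3881
def n6710 : Q := act 4 n3881
theorem D6710 : act 4 n3881 = n6710 := rfl
theorem F6377 : act 0 n6710 = n3895 := d3_1 D6710 (iv D3895) (iv F2910)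
def n6711 : Q := act 2 n3883
theorem D6711 : act 2 n3883 = n6711 := rfl
theorem F6378 : act 0 n6711 = n5090 := d10_3 F2889 (iv F2913) D6711 F6325 (iv D6691) (iv D3862) (iv F2887)
def n6712 : Q := act 0 n3884
theorem D6712 : act 0 n3884 = n6712 := rfl
def n6713 : Q := act 1 n3884
theorem D6713 : act 1 n3884 = n6713 := rfl
theorem F6379 : act 2 n6713 = n4563 := d4_2 D3884 D6713 (iv D4563) (iv D2324) F531 D1003 (iv F1664)
def n6714 : Q := act 4 n3884
theorem D6714 : act 4 n3884 = n6714 := rfl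
def n6715 : Q := act 4 n3885
theorem D6715 : act 4 n3885 = n6715 := rfl
theorem F6380 : act 0 n6715 = n3888 := d3_1 D6715 (iv D3888) D3885
theorem F6381 : act 1 n6715 = n6213 := d6_1 D6715 F5558 F3246
theorem F6382 : act 2 n6715 = n6202 := d8_1 D6715 F6350 (iv D6698) (iv D3874) D3872 D6696 F6345
def n6716 : Q := act 0 n3886
theorem D6716 : act 0 n3886 = n6716 := rfl
theorem F6383 : act 2 n6716 = n4984 := d1_2 (iv F2914) D6716 (iv F5475) F5476 (iv F4287) F4289 F1923
theorem F6384 : act 4 n6716 = n4977 := d3_2 F2915 D6716 F3951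
def n6717 : Q := act 3 n3886
theorem D6717 : act 3 n3886 = n6717 := rfl
theorem F6385 : act 1 n6717 = n3887 := d5_1 D6717 (iv D3887) D3886
theorem F6386 : act 2 n6717 = n4567 := d7_1 D6717 (iv D4567) (iv F2914)
def n6718 : Q := act 0 n3887
theorem D6718 : act 0 n3887 = n6718 := rfl
def n6719 : Q := act 4 n3887
theorem D6719 : act 4 n3887 = n6719 := rfl
def n6720 : Q := act 3 n3888
theorem D6720 : act 3 n3888 = n6720 := rfl
theorem F6387 : act 1 n6720 = n4995 := d5_1 D6720 (iv D4995) (iv F2917)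
def n6721 : Q := act 2 n3889
theorem D6721 : act 2 n3889 = n6721 := rfl
theorem F6388 : act 0 n6721 = n3918 := d10_3 D1870 D3889 D6721 (iv D3918) (iv D1885) (iv D801) (iv F422)
def n6722 : Q := act 3 n3890
theorem D6722 : act 3 n3890 = n6722 := rfl
theorem F6389 : act 1 n6722 = n5974 := d5_1 D6722 (iv D5974) (iv F2918)
theorem F6390 : act 2 n6722 = n5794 := d7_1 D6722 (iv D5794) (iv F2919)
def n6723 : Q := act 4 n3890
theorem D6723 : act 4 n3890 = n6723 := rfl
theorem F6391 : act 0 n6723 = n3892 := d3_1 D6723 (iv D3892) D3890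
theorem F6392 : act 1 n6723 = n5975 := d6_1 D6723 (iv D5975) (iv F2918)
theorem F6393 : act 2 n6723 = n5800 := d8_1 D6723 (iv D5800) (iv D3119) (iv D1425) D1423 D3116 (iv F2919)
def n6724 : Q := act 0 n3891
theorem D6724 : act 0 n3891 = n6724 := rfl
def n6725 : Q := act 4 n3891
theorem D6725 : act 4 n3891 = n6725 := rfl
theorem F6394 : act 1 n6725 = n3895 := d6_1 D6725 (iv D3895) (iv F2920)
theorem F6395 : act 2 n6725 = n5829 := d8_1 D6725 (iv D5829) F2243 (iv F1683) D4920 F6369 (iv F2921)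
def n6726 : Q := act 3 n3892
theorem D6726 : act 3 n3892 = n6726 := rfl
theorem F6396 : act 1 n6726 = n3897 := d5_1 D6726 (iv D3897) (iv F2922)
theorem F6397 : act 2 n6726 = n5830 := d7_1 D6726 (iv D5830) (iv F2923)
theorem F6398 : act 4 n5811 = n6726 := d6_0 F6396 (iv F6306) F6372
theorem E838 : n5830 = n5826 := (c8_2 F6398 F6397 (iv D5826) (iv D3132) (iv D1431) (iv F794) D3126 D5811)
theorem F6399 : act 1 n5826 = n6344 := (sb E838 (iv F5774))
theorem F6400 : act 2 n5826 = n6726 := (sb E838 (iv F6397))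
theorem F6401 : act 3 n5826 = n3135 := (sb E838 (iv D5830))
theorem F6402 : act 4 n6344 = n5825 := d6_2 D5826 F6399 (iv D5825)
def n6727 : Q := act 4 n3893
theorem D6727 : act 4 n3893 = n6727 := rfl
theorem F6403 : act 2 n6727 = n5090 := d11_2 (iv F2924) D6727 (iv F6378) (iv D6711) (iv D3883) D3881 F2910
def n6728 : Q := act 3 n3894
theorem D6728 : act 3 n3894 = n6728 := rfl
theorem F6404 : act 2 n6728 = n3918 := d7_1 D6728 (iv D3918) (iv F2925)
def n6729 : Q := act 2 n3895
theorem D6729 : act 2 n3895 = n6729 := rfl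
def n6730 : Q := act 3 n3896
theorem D6730 : act 3 n3896 = n6730 := rfl
theorem F6405 : act 1 n6730 = n5155 := d5_1 D6730 (iv D5155) (iv F2926)
theorem F6406 : act 2 n6730 = n3897 := d7_1 D6730 (iv D3897) D3896
def n6731 : Q := act 0 n3897
theorem D6731 : act 0 n3897 = n6731 := rfl
def n6732 : Q := act 0 n3898
theorem D6732 : act 0 n3898 = n6732 := rfl
theorem F6407 : act 2 n6732 = n5870 := d11_4 D1468 D3183 F4738 D6732 (iv D5870) (iv D3177) (iv D1467)
def n6733 : Q := act 3 n3898
theorem D6733 : act 3 n3898 = n6733 := rfl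
theorem F6408 : act 1 n6733 = n3900 := d5_1 D6733 (iv D3900) D3898
theorem F6409 : act 2 n6733 = n5738 := d7_1 D6733 F6295 F4738
def n6734 : Q := act 4 n3898
theorem D6734 : act 4 n3898 = n6734 := rfl
theorem F6410 : act 1 n6734 = n3901 := d6_1 D6734 (iv D3901) D3898
theorem F6411 : act 2 n6734 = n5884 := d8_1 D6734 (iv D5884) (iv D3185) (iv D1470) D1468 D3183 F4738
def n6735 : Q := act 1 n3899
theorem D6735 : act 1 n3899 = n6735 := rfl
theorem F6412 : act 2 n6735 = n3956 := d15_6 D3416 (iv F2590) (iv F5690) (iv F6340) F6342 D6735 (iv D3956) (iv D1913) (iv D813) F143 (iv F332) D1611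
def n6736 : Q := act 3 n3899
theorem D6736 : act 3 n3899 = n6736 := rfl
theorem F6413 : act 2 n6736 = n3900 := d7_1 D6736 (iv D3900) D3899
def n6737 : Q := act 4 n3899
theorem D6737 : act 4 n3899 = n6737 := rfl
theorem F6414 : act 2 n6737 = n3915 := d11_2 D3899 D6737 (iv D3915) (iv D1883) (iv D800) (iv F424) D1875
def n6738 : Q := act 2 n3901
theorem D6738 : act 2 n3901 = n6738 := rfl
def n6739 : Q := act 0 n3902
theorem D6739 : act 0 n3902 = n6739 := rfl
theorem F6415 : act 2 n6739 = n3913 := d11_4 (iv F424) D1876 D3902 D6739 (iv D3913) (iv D1880) (iv D799)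
def n6740 : Q := act 3 n3907
theorem D6740 : act 3 n3907 = n6740 := rfl
theorem F6416 : act 0 n6740 = n6740 := d2_1 D6740 (iv D6740) (iv D3907) D3909 F2931 (iv D3909) D3907
theorem F6417 : act 1 n6740 = n3920 := d5_1 D6740 (iv D3920) (iv F2929)
theorem F6418 : act 2 n6740 = n5596 := d7_1 D6740 F4656 F3395
theorem F6419 : act 4 n6740 = n5587 := d12_1 D6740 (iv D5587) F2020 D3014 F2932 (iv D3909) D3907
def n6741 : Q := act 4 n3907
theorem D6741 : act 4 n3907 = n6741 := rfl
theorem F6420 : act 0 n6741 = n3910 := d3_1 D6741 (iv D3910) D3907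
theorem F6421 : act 1 n6741 = n3921 := d6_1 D6741 (iv D3921) (iv F2929)
theorem F6422 : act 2 n6741 = n5586 := d8_1 D6741 F4623 (iv D3191) (iv D1486) D1485 D3190 F3395
theorem F6423 : act 3 n6741 = n5585 := d9_1 D6741 F6224 (iv D6628) (iv F2852) D5587 (iv F6419) (iv D6740)
def n6742 : Q := act 0 n3911
theorem D6742 : act 0 n3911 = n6742 := rfl
theorem F6424 : act 1 n6742 = n6069 := d0_2 D3911 D6742 (iv D6069) (iv D3343) (iv F2345) (iv F2899) F2900
def n6743 : Q := act 2 n3911
theorem D6743 : act 2 n3911 = n6743 := rfl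
theorem F6425 : act 1 n6743 = n5897 := d4_1 D6743 (iv D5897) F2307 (iv F3396) (iv D1879) D1880 D3911
theorem F6426 : act 0 n6743 = n6476 := d15_1 D6743 F5984 (iv D6062) (iv D3329) F886 F320 D655 D1574 D3343 D6069 (iv F6424) (iv D6742)
theorem F6427 : act 4 n6743 = n4696 := d17_3 (iv D3913) D3911 D6743 (iv D4696) (iv D2435) (iv D1051) (iv F558) (iv F1501) D4681 (iv F5196) (iv F6347) F6346
theorem F6428 : act 3 n5683 = n6743 := d12_2 D3052 D5683 F6426 (iv D6476) F4741 (iv D5678) (iv D3050)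
theorem E839 : n5684 = n5676 := ((c9_5 D5683 F6428 F6427 F3688 D5676 (iv D5684) (iv D3053) D3052)).symm
theorem F6429 : act 2 n5676 = n6660 := (sb E839 (iv F6267))
theorem F6430 : act 3 n5676 = n3053 := (sb E839 (iv D5684))
theorem F6431 : act 4 n6660 = n5663 := d8_2 D5676 F6429 (iv D5663) (iv D3042) F771 D1381 D3049
theorem F6432 : act 1 n5663 = n6662 := d6_1 F6431 (iv D6662) (iv F6266)
def n6744 : Q := act 3 n3911
theorem D6744 : act 3 n3911 = n6744 := rfl
theorem F6433 : act 1 n6744 = n3912 := d5_1 D6744 (iv D3912) D3911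
theorem F6434 : act 2 n6744 = n5683 := d7_1 D6744 F6428 (iv D6743)
theorem F6435 : act 4 n5665 = n6744 := d8_0 F6434 (iv D5683) F2134 D3055 (iv F5783) (iv D5667) (iv F4715)
def n6745 : Q := act 4 n3911
theorem D6745 : act 4 n3911 = n6745 := rfl
theorem F6436 : act 1 n6745 = n3913 := d6_1 D6745 (iv D3913) D3911
theorem F6437 : act 2 n6745 = n5664 := d8_1 D6745 F5787 (iv D3212) F2199 D4696 (iv F6427) (iv D6743)
theorem F6438 : act 3 n6745 = n5663 := d9_1 D6745 (iv F6431) (iv D6660) (iv F2868) D5665 F6435 (iv D6744)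
def n6746 : Q := act 0 n3914
theorem D6746 : act 0 n3914 = n6746 := rfl
def n6747 : Q := act 1 n3914
theorem D6747 : act 1 n3914 = n6747 := rfl
def n6748 : Q := act 4 n3914
theorem D6748 : act 4 n3914 = n6748 := rfl
def n6749 : Q := act 1 n3915
theorem D6749 : act 1 n3915 = n6749 := rfl
theorem F6439 : act 4 n6749 = n5565 := d6_2 (iv F5736) D6749 F5305
theorem F6440 : act 2 n6749 = n5569 := d17_2 (iv F5736) D6749 (iv D5569) (iv D2970) F752 F270 (iv F256) F5281 (iv D1258) (iv F708) (iv F1897) D5319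
def n6750 : Q := act 3 n3915
theorem D6750 : act 3 n3915 = n6750 := rfl
theorem F6441 : act 1 n6750 = n5459 := d16_3 F2890 D3915 D6750 (iv D5459) (iv F4484) F4483 D6335 F5763 F4060 (iv F4079) (iv F6324) (iv D6691)
theorem F6442 : act 3 n6749 = n5459 := d5_2 (iv D6750) D6749 (iv F6441)
theorem E840 : n5569 = n5460 := ((c7_3 F6442 (iv D5459) D5460 (iv F6440))).symm
theorem F6443 : act 2 n5460 = n6749 := (sb E840 (iv F6440))
theorem F6444 : act 4 n5460 = n2970 := (sb E840 (iv D5569))
theorem E841 : n5482 = n5464 := (c9_2 F6444 (iv F4510) (iv D5464) (iv D2902) (iv D1293) D1292 D2900 D5460)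
theorem F6445 : act 2 n5464 = n2911 := (sb E841 (iv D5482))
theorem F6446 : act 3 n5464 = n2970 := (sb E841 F4510)
def n6751 : Q := act 4 n3918
theorem D6751 : act 4 n3918 = n6751 := rfl
theorem F6447 : act 1 n6751 = n5095 := d6_1 D6751 (iv D5095) (iv F2937)
def n6752 : Q := act 0 n3919
theorem D6752 : act 0 n3919 = n6752 := rfl
theorem F6448 : act 1 n6752 = n3936 := d13_2 D3919 D6752 (iv D3936) (iv D1906) (iv D810) (iv D320) (iv D118) (iv F45) D317 D803 D1891
def n6753 : Q := act 1 n3919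
theorem D6753 : act 1 n3919 = n6753 := rfl
theorem F6449 : act 2 n6753 = n6474 := d4_2 D3919 D6753 F5979 (iv F5078) F5077 F3395 F2929
def n6754 : Q := act 3 n3919
theorem D6754 : act 3 n3919 = n6754 := rfl
theorem F6450 : act 2 n6754 = n3920 := d7_1 D6754 (iv D3920) D3919
def n6755 : Q := act 4 n3919
theorem D6755 : act 4 n3919 = n6755 := rfl
def n6756 : Q := act 0 n3920
theorem D6756 : act 0 n3920 = n6756 := rfl
def n6757 : Q := act 2 n3921
theorem D6757 : act 2 n3921 = n6757 := rfl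
def n6758 : Q := act 1 n3922
theorem D6758 : act 1 n3922 = n6758 := rfl
def n6759 : Q := act 2 n3922
theorem D6759 : act 2 n3922 = n6759 := rfl
theorem F6451 : act 1 n6759 = n6162 := d15_3 D1892 D3922 D6759 (iv F5691) (iv F6340) F6341 F2900 (iv D1880) D1879 D3907 F2929 (iv D1891)
def n6760 : Q := act 3 n3922
theorem D6760 : act 3 n3922 = n6760 := rfl
def n6761 : Q := act 4 n3922
theorem D6761 : act 4 n3922 = n6761 := rfl
theorem F6452 : act 0 n6761 = n3925 := d3_1 D6761 (iv D3925) D3922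
def n6762 : Q := act 4 n3923
theorem D6762 : act 4 n3923 = n6762 := rfl
theorem F6453 : act 1 n6762 = n3925 := d6_1 D6762 (iv D3925) D3923
theorem F6454 : act 2 n6762 = n4500 := d8_1 D6762 (iv D4500) (iv D2262) D2263 D4501 (iv F4566) (iv F2939)
def n6763 : Q := act 0 n3924
theorem D6763 : act 0 n3924 = n6763 := rfl
def n6764 : Q := act 4 n3924
theorem D6764 : act 4 n3924 = n6764 := rfl
def n6765 : Q := act 2 n3925
theorem D6765 : act 2 n3925 = n6765 := rfl
theorem F6455 : act 1 n6765 = n6398 := d17_5 (iv D805) D803 D1892 D3925 D6765 (iv D6398) (iv F4320) F4321 F5735 (iv D1883) F425 (iv F429)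
def n6766 : Q := act 3 n3925
theorem D6766 : act 3 n3925 = n6766 := rfl
def n6767 : Q := act 2 n3926
theorem D6767 : act 2 n3926 = n6767 := rfl
def n6768 : Q := act 0 n3927
theorem D6768 : act 0 n3927 = n6768 := rfl
def n6769 : Q := act 1 n3927
theorem D6769 : act 1 n3927 = n6769 := rfl
theorem F6456 : act 2 n6769 = n4519 := d4_2 D3927 D6769 (iv D4519) (iv D2275) F507 (iv F3391) (iv F1126)
def n6770 : Q := act 4 n3927
theorem D6770 : act 4 n3927 = n6770 := rfl
def n6771 : Q := act 2 n3936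
theorem D6771 : act 2 n3936 = n6771 := rfl
theorem F6457 : act 0 n6771 = n3941 := d1_1 D6771 (iv D3941) (iv D1908) (iv D811) D810 D1906 D3936
theorem F6458 : act 1 n6771 = n6484 := d14_2 F6448 D6771 (iv D6484) (iv D3708) (iv D1773) D1772 D3704 (iv F5979) (iv F6449) (iv D6753) D6752
def n6772 : Q := act 4 n3936
theorem D6772 : act 4 n3936 = n6772 := rfl
theorem F6459 : act 0 n6772 = n3938 := d3_1 D6772 (iv D3938) D3936
def n6773 : Q := act 0 n3937
theorem D6773 : act 0 n3937 = n6773 := rfl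
theorem F6460 : act 2 n6773 = n6069 := d13_4 (iv D6771) (iv D3936) D3937 D6773 (iv D6069) (iv D3343) (iv F2345) F2344 (iv F2428) (iv F2947) (iv F6457)
theorem F6461 : act 3 n6773 = n6069 := d16_7 (iv F3060) F3058 F2683 F1050 D1906 D3937 D6773 (iv D6069) (iv D3343) (iv D1574) D1573 D3340
def n6774 : Q := act 2 n3937
theorem D6774 : act 2 n3937 = n6774 := rfl
theorem F6462 : act 1 n6774 = n6732 := d4_1 D6774 F6407 F5050 (iv D3722) F1050 D1906 D3937
theorem F6463 : act 0 n6472 = n6774 := d15_12 (iv D6774) D6773 F6460 (iv F6424) (iv D6742) (iv D3911) (iv D1880) (iv D799) (iv F424) (iv F1046) D3697 D6472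
def n6775 : Q := act 4 n3937
theorem D6775 : act 4 n3937 = n6775 := rfl
theorem F6464 : act 1 n6775 = n3938 := d6_1 D6775 (iv D3938) D3937
def n6776 : Q := act 2 n3938
theorem D6776 : act 2 n3938 = n6776 := rfl
theorem F6465 : act 0 n6776 = n3947 := d11_3 D1906 D3938 D6776 (iv D3947) (iv D1910) (iv D811) D810
theorem F6466 : act 1 n6776 = n6401 := d17_5 (iv D3723) F1050 D1906 D3938 D6776 (iv D6401) (iv D3612) (iv F2524) F5323 (iv D1785) (iv F1051) (iv F2744)
def n6777 : Q := act 3 n3938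
theorem D6777 : act 3 n3938 = n6777 := rfl
def n6778 : Q := act 0 n3939
theorem D6778 : act 0 n3939 = n6778 := rfl
theorem F6467 : act 1 n6778 = n4490 := d13_2 D3939 D6778 (iv D4490) (iv D2257) F506 F175 F63 (iv F3366) (iv F144) (iv F431) (iv F1138)
def n6779 : Q := act 1 n3939
theorem D6779 : act 1 n3939 = n6779 := rfl
theorem F6468 : act 2 n5427 = n6779 := d15_8 (iv D2257) F506 D967 D2267 F2209 (iv F4335) F4336 (iv F4410) (iv D6779) D6778 F6467 (iv D4490)
theorem F6469 : act 1 n6485 = n5558 := d4_5 F6468 (iv D6779) (iv D3939) (iv F2745) D6485 (iv D5558) (iv F4411)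
def n6780 : Q := act 4 n3939
theorem D6780 : act 4 n3939 = n6780 := rfl
def n6781 : Q := act 0 n3940
theorem D6781 : act 0 n3940 = n6781 := rfl
theorem F6470 : act 2 n6781 = n5893 := d13_4 D811 D1908 D3940 D6781 (iv F5395) (iv D6067) F2431 (iv D1781) D1780 F1050 (iv D810)
theorem F6471 : act 3 n6781 = n6058 := d16_0 (iv D6058) (iv D3322) (iv D1563) (iv F856) F855 F854 D2416 (iv F2428) (iv F2947) (iv D3941) D3940 D6781
def n6782 : Q := act 2 n3940
theorem D6782 : act 2 n3940 = n6782 := rfl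
theorem F6472 : act 1 n6782 = n5873 := d4_1 D6782 F5056 (iv D3332) D3333 (iv F2947) (iv D3941) D3940
theorem F6473 : act 4 n6782 = n5809 := d11_1 D6782 F4949 (iv F5081) (iv D5892) D5893 (iv F6470) (iv D6781)
theorem F6474 : act 3 n5813 = n6782 := d12_0 F6473 (iv D5809) (iv D3125) (iv D1428) D1429 D3127 D5813
def n6783 : Q := act 3 n3940
theorem D6783 : act 3 n3940 = n6783 := rfl
theorem F6475 : act 0 n6783 = n6056 := d2_1 D6783 (iv D6056) (iv D3321) D3322 D6058 (iv F6471) (iv D6781)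
theorem F6476 : act 1 n6783 = n3942 := d5_1 D6783 (iv D3942) D3940
theorem F6477 : act 2 n6783 = n5813 := d7_1 D6783 F6474 (iv D6782)
def n6784 : Q := act 4 n3940
theorem D6784 : act 4 n3940 = n6784 := rfl
theorem F6478 : act 1 n6784 = n3943 := d6_1 D6784 (iv D3943) D3940
def n6785 : Q := act 4 n3941
theorem D6785 : act 4 n3941 = n6785 := rfl
theorem F6479 : act 1 n6785 = n6029 := d6_1 D6785 F5345 (iv F2947)
theorem F6480 : act 2 n6785 = n3949 := d11_2 D3941 D6785 (iv D3949) (iv D1911) (iv D812) D811 D1908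
def n6786 : Q := act 2 n3943
theorem D6786 : act 2 n3943 = n6786 := rfl
def n6787 : Q := act 4 n3944
theorem D6787 : act 4 n3944 = n6787 := rfl
theorem F6481 : act 0 n6787 = n3946 := d3_1 D6787 (iv D3946) D3944
theorem F6482 : act 1 n6787 = n5329 := d6_1 D6787 (iv F5981) F5980
theorem F6483 : act 3 n6787 = n5768 := d9_1 D6787 F4888 (iv F2817) D6561 F6109 F5021 (iv F2949)
theorem F6484 : act 2 n6787 = n5769 := d11_2 (iv F2950) D6787 (iv F4891) (iv F6454) (iv D6762) F2939 (iv F2731)
def n6788 : Q := act 0 n3945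
theorem D6788 : act 0 n3945 = n6788 := rfl
theorem F6485 : act 2 n6788 = n6473 := d1_2 D3945 D6788 F5978 F2939 (iv F2731) (iv F2950) (iv D3944)
theorem F6486 : act 3 n6788 = n5867 := d2_2 F6094 D6788 F5041 (iv D3328) (iv F2270) (iv F5973) (iv F6092)
theorem F6487 : act 1 n6490 = n6788 := d15_11 (iv D3945) D3944 F2950 (iv F5983) (iv F6426) F6425 (iv D5897) F3399 D6486 F5992 D6490 (iv D6788)
theorem F6488 : act 4 n6788 = n5762 := d6_2 (iv F6000) F6487 F4874
def n6789 : Q := act 4 n3945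
theorem D6789 : act 4 n3945 = n6789 := rfl
theorem F6489 : act 0 n6789 = n5762 := d3_1 D6789 (iv F6488) (iv D6788)
theorem F6490 : act 1 n6789 = n3957 := d6_1 D6789 (iv D3957) (iv F2951)
theorem F6491 : act 3 n6789 = n5845 := d12_2 F6094 D6789 (iv D5845) (iv D3149) D3150 (iv F5973) (iv F6092)
theorem F6492 : act 2 n6789 = n4470 := d17_10 (iv D4466) D4463 (iv F4949) (iv F6473) (iv D6782) (iv D3940) (iv D1908) D1909 D3945 D6789 F3447 (iv F3438)
theorem F6493 : act 4 n6563 = n5845 := d9_6 (iv D6789) (iv F6094) (iv F6095) F6125 (iv D6564) D6563 (iv F6491)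
theorem F6494 : act 0 n5846 = n6563 := d3_3 F6493 (iv D5845) D5846
theorem F6495 : act 1 n5845 = n6620 := d6_1 F6493 (iv D6620) (iv F6115)
theorem E842 : n5574 = n3957 := ((c13_3 (iv F4875) (iv F6489) F6490 (iv D5574) (iv D2972) D2971 D5570 F4575 (iv D4499) F1394 (iv F1396) (iv F2216))).symm
theorem F6496 : act 0 n3957 = n2972 := (sb E842 (iv D5574))
theorem E843 : n5575 = n3956 := (c3_3 D3957 F6496 D5575 (iv D3956))
theorem F6497 : act 4 n3956 = n2972 := (sb E843 (iv D5575))
theorem F6498 : act 4 n5498 = n6618 := d12_5 D3820 D6620 F6207 F6496 (iv F4529) (iv D6618) (iv D3819)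
theorem F6499 : act 2 n4694 = n6313 := d17_2 D2434 (iv F3685) (iv D6313) (iv F5690) (iv F6340) F6342 D6735 F6412 F6497 (iv D2972) (iv D1336) (iv F569)
theorem F6500 : act 1 n6215 = n4969 := d4_3 F6499 F5695 (iv F5562) (iv D4969) F1709 (iv F2173) (iv F3685)
theorem F6501 : act 2 n6326 = n5507 := d16_4 (iv F2803) (iv F5673) F5674 (iv F5706) F4540 F3823 F1983 (iv F1517) (iv F3685) F6499 F5695 F2591
theorem F6502 : act 4 n4969 = n6214 := d6_2 D6215 F6500 F5560
theorem E844 : n6412 = n4515 := ((c17_10 D6215 F6500 (iv D4969) (iv D2603) (iv F1708) (iv F3293) F3295 D4417 F3347 D4515 (iv D6412) (iv D3622) (iv F2520))).symm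
theorem F6503 : act 2 n4515 = n3622 := (sb E844 (iv D6412))
def n6790 : Q := act 2 n3946
theorem D6790 : act 2 n3946 = n6790 := rfl
theorem F6504 : act 3 n6790 = n5840 := d7_2 F6131 D6790 F6132
theorem F6505 : act 4 n6790 = n4468 := d8_2 D3946 D6790 (iv D4468) D4470 (iv F6492) (iv D6789) (iv D3945)
theorem F6506 : act 0 n6790 = n5758 := d10_3 (iv F6483) F6481 D6790 (iv D5758) (iv F4819) F4821 (iv F4887)
theorem F6507 : act 1 n4483 = n6790 := d6_3 F6505 F3442 D4483
def n6791 : Q := act 1 n3949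
theorem D6791 : act 1 n3949 = n6791 := rfl
def n6792 : Q := act 0 n3950
theorem D6792 : act 0 n3950 = n6792 := rfl
theorem F6508 : act 4 n6792 = n5299 := d3_2 (iv F6070) D6792 (iv F6042)
theorem F6509 : act 2 n6792 = n5304 := d10_2 (iv F6073) D6792 F5285 (iv F4275) F5290 (iv F5301) (iv F6054)
theorem F6510 : act 3 n6792 = n5333 := d12_4 D3764 D6530 (iv F6073) D6792 F5284 (iv F2768) F2766
def n6793 : Q := act 2 n3950
theorem D6793 : act 2 n3950 = n6793 := rfl
theorem F6511 : act 0 n6793 = n5348 := d1_1 D6793 F5311 (iv F2209) D4503 (iv F5285) (iv F6509) (iv D6792)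
theorem F6512 : act 1 n6793 = n3960 := d4_1 D6793 (iv D3960) (iv D1916) (iv D815) (iv F431) D1911 D3950
theorem F6513 : act 3 n6793 = n5241 := d7_2 (iv F6073) D6793 (iv F6056)
theorem F6514 : act 4 n5227 = n6793 := d9_0 F6513 (iv D5241) (iv F2771) (iv D3761) (iv F1063) D2772 D5227
def n6794 : Q := act 3 n3952
theorem D6794 : act 3 n3952 = n6794 := rfl
theorem F6515 : act 0 n6794 = n6794 := d2_1 D6794 (iv D6794) F2953 D6166 F5488 (iv D6166) (iv F2953)
theorem F6516 : act 1 n6794 = n3954 := d5_1 D6794 (iv D3954) D3952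
theorem F6517 : act 2 n6794 = n5642 := d7_1 D6794 (iv F5072) F5073
theorem F6518 : act 4 n6794 = n5623 := d12_1 D6794 F4651 F4580 D5605 F5489 (iv D6166) (iv F2953)
def n6795 : Q := act 4 n3952
theorem D6795 : act 4 n3952 = n6795 := rfl
theorem F6519 : act 0 n6795 = n6167 := d3_1 D6795 (iv D6167) (iv F2953)
theorem F6520 : act 1 n6795 = n3955 := d6_1 D6795 (iv D3955) D3952
theorem F6521 : act 3 n6795 = n5620 := d9_1 D6795 F6188 (iv D6607) F4582 (iv F4651) (iv F6518) (iv D6794)
theorem F6522 : act 2 n6795 = n5621 := d11_2 F5073 D6795 F4648 (iv F6422) (iv D6741) (iv F3395) (iv F5071)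
def n6796 : Q := act 0 n3953
theorem D6796 : act 0 n3953 = n6796 := rfl
theorem F6523 : act 1 n6796 = n6174 := d13_2 D3953 D6796 (iv D6174) (iv D3423) (iv D1618) (iv D679) (iv D265) (iv F115) (iv F143) D813 D1912
theorem F6524 : act 3 n6323 = n3953 := d16_7 F5257 F3773 D4812 F3789 (iv D3539) D3538 D6323 D6796 F6523 (iv F5991) (iv F6458) F6457
theorem F6525 : act 2 n3954 = n6323 := d7_3 F6524 (iv D3953) D3954
def n6797 : Q := act 1 n3953
theorem D6797 : act 1 n3953 = n6797 := rfl
def n6798 : Q := act 4 n3953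
theorem D6798 : act 4 n3953 = n6798 := rfl
def n6799 : Q := act 0 n3954
theorem D6799 : act 0 n3954 = n6799 := rfl
theorem F6526 : act 1 n6799 = n6327 := d13_2 (iv F6525) D6799 F5707 (iv D6327) (iv D3546) (iv D1684) (iv D710) (iv F364) D1681 D3538 D6323
def n6800 : Q := act 2 n3955
theorem D6800 : act 2 n3955 = n6800 := rfl
def n6801 : Q := act 1 n3956
theorem D6801 : act 1 n3956 = n6801 := rfl
theorem F6527 : act 0 n6801 = n6486 := d0_1 D6801 F5992 D6490 F6487 (iv D6788) F2951 D3956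
theorem F6528 : act 2 n6801 = n5877 := d4_2 F6412 D6801 F5063 F4738 (iv D3898) D3899 D6735
theorem F6529 : act 4 n6801 = n5563 := d6_2 (iv F6497) D6801 F4573
def n6802 : Q := act 3 n3956
theorem D6802 : act 3 n3956 = n6802 := rfl
theorem F6530 : act 4 n6802 = n5505 := d9_2 (iv F6497) D6802 (iv D5505) (iv F6124) D6618 (iv F6498) F4529
def n6803 : Q := act 2 n3957
theorem D6803 : act 2 n3957 = n6803 := rfl
theorem F6531 : act 1 n6803 = n5532 := d4_1 D6803 (iv D5532) (iv F5744) (iv D4473) (iv F3447) (iv F6492) F6490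
def n6804 : Q := act 0 n3958
theorem D6804 : act 0 n3958 = n6804 := rfl
def n6805 : Q := act 1 n3958
theorem D6805 : act 1 n3958 = n6805 := rfl
theorem F6532 : act 2 n6805 = n4479 := d4_2 D3958 D6805 (iv D4479) (iv D2226) F493 (iv F3390) (iv F1139)
theorem F6533 : act 0 n6805 = n5357 := d16_6 (iv F2089) F1090 F2089 (iv F1139) D3958 D6805 F4454 (iv F4262) F5306 (iv D3419) F910 (iv F432)
theorem F6534 : act 4 n5249 = n6805 := d3_0 F6533 (iv D5357) (iv F4251)
theorem F6535 : act 3 n5269 = n6805 := d12_2 (iv F2776) D5269 F6533 F4454 (iv D2883) (iv F1912) (iv F2775)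
theorem F6536 : act 1 n5269 = n6626 := d16_3 (iv F4454) (iv F6533) (iv F6535) (iv D6626) F2845 F1090 F2089 F432 (iv F910) D3419 (iv F5306) F4262
theorem F6537 : act 4 n6626 = n5268 := d6_2 D5269 F6536 (iv D5268)
theorem F6538 : act 2 n5266 = n5266 := d14_9 F6536 (iv D6626) F2845 F1090 (iv F2845) D6626 (iv F6536) F4271 (iv F4268) F4268 (iv F4271)
def n6806 : Q := act 4 n3958
theorem D6806 : act 4 n3958 = n6806 := rfl
theorem F6539 : act 1 n6806 = n5249 := d6_1 D6806 F6534 (iv D6805)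
theorem F6540 : act 3 n6806 = n5248 := d9_1 D6806 F6184 F6182 F6051 F6045 (iv F6537) F6218
def n6807 : Q := act 1 n3959
theorem D6807 : act 1 n3959 = n6807 := rfl
theorem F6541 : act 0 n6807 = n5894 := d0_1 D6807 F5083 F2448 F893 (iv F3372) D1916 D3959
theorem F6542 : act 4 n6807 = n4481 := d6_2 (iv F3416) D6807 (iv D4481)
theorem F6543 : act 2 n6807 = n5890 := d15_6 (iv F3366) (iv F144) D815 D1916 D3959 D6807 (iv D5890) (iv D3191) F825 F506 F175 F63
def n6808 : Q := act 2 n3959
theorem D6808 : act 2 n3959 = n6808 := rfl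
def n6809 : Q := act 4 n3978
theorem D6809 : act 4 n3978 = n6809 := rfl
theorem F6544 : act 0 n6809 = n4035 := d3_1 D6809 (iv D4035) (iv F2966)
theorem F6545 : act 1 n6809 = n5485 := d6_1 D6809 (iv D5485) (iv F2964)
theorem F6546 : act 2 n6809 = n4051 := d11_2 (iv F2965) D6809 (iv D4051) (iv D1976) (iv D840) D838 (iv F1149)
theorem F6547 : act 3 n6809 = n4484 := d12_2 D3978 D6809 F3451 F3009 (iv D4019) (iv D1951) (iv F1147)
def n6810 : Q := act 3 n3979
theorem D6810 : act 3 n3979 = n6810 := rfl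
theorem F6548 : act 1 n6810 = n5487 := d5_1 D6810 (iv D5487) (iv F2968)
theorem F6549 : act 2 n6810 = n4004 := d7_1 D6810 (iv D4004) (iv F2969)
theorem F6550 : act 0 n6810 = n4066 := d10_1 D6810 (iv D4066) (iv D1986) (iv D844) D842 (iv F1169) (iv F2967)
def n6811 : Q := act 2 n3980
theorem D6811 : act 2 n3980 = n6811 := rfl
theorem F6551 : act 0 n6811 = n4037 := d1_1 D6811 (iv D4037) F1171 D1962 D4039 F3026 (iv F2972)
def n6812 : Q := act 3 n3980
theorem D6812 : act 3 n3980 = n6812 := rfl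
theorem F6552 : act 0 n6812 = n3991 := d12_3 D1926 D3980 D6812 (iv D3991) (iv D1932) (iv D821) D819
theorem F6553 : act 4 n4490 = n6812 := d3_0 F6552 F4708 D4490
def n6813 : Q := act 3 n3981
theorem D6813 : act 3 n3981 = n6813 := rfl
theorem F6554 : act 2 n6813 = n3982 := d7_1 D6813 (iv D3982) D3981
theorem F6555 : act 0 n6813 = n4048 := d10_1 D6813 (iv D4048) (iv D1967) (iv D836) (iv F437) D1954 (iv F2973)
def n6814 : Q := act 4 n3982
theorem D6814 : act 4 n3982 = n6814 := rfl
theorem F6556 : act 0 n6814 = n4071 := d3_1 D6814 (iv F3591) F3587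
theorem F6557 : act 3 n6814 = n4490 := d9_1 D6814 F6553 (iv D6812) (iv D3980) (iv D1926) D1927 D3982
def n6815 : Q := act 4 n3983
theorem D6815 : act 4 n3983 = n6815 := rfl
theorem F6558 : act 1 n6815 = n6360 := d6_1 D6815 (iv D6360) (iv F2974)
theorem F6559 : act 3 n6815 = n5328 := d12_2 D3983 D6815 (iv D5328) F2129 (iv D3040) F1223 F1224
def n6816 : Q := act 2 n3984
theorem D6816 : act 2 n3984 = n6816 := rfl
theorem F6560 : act 4 n6816 = n6629 := d8_2 D3984 D6816 F6225 (iv F5926) (iv D3986) (iv D1930) D1928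
theorem F6561 : act 1 n6631 = n6816 := d17_1 D6631 (iv D6816) (iv D3984) (iv D1928) (iv D820) D819 (iv F1052) D3741 D6496 F6007 D6507 F6024
def n6817 : Q := act 3 n3984
theorem D6817 : act 3 n3984 = n6817 := rfl
theorem F6562 : act 1 n6817 = n6362 := d5_1 D6817 (iv D6362) (iv F2977)
def n6818 : Q := act 2 n3985
theorem D6818 : act 2 n3985 = n6818 := rfl
def n6819 : Q := act 3 n3986
theorem D6819 : act 3 n3986 = n6819 := rfl
theorem F6563 : act 2 n6819 = n3987 := d7_1 D6819 (iv D3987) D3986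
def n6820 : Q := act 4 n3987
theorem D6820 : act 4 n3987 = n6820 := rfl
theorem F6564 : act 1 n6820 = n3996 := d6_1 D6820 (iv D3996) (iv F2979)
theorem F6565 : act 3 n6820 = n4491 := d9_1 D6820 (iv F4707) F4703 (iv D3985) (iv D1929) D1930 D3987
def n6821 : Q := act 4 n3988
theorem D6821 : act 4 n3988 = n6821 := rfl
theorem F6566 : act 0 n6821 = n4019 := d3_1 D6821 (iv D4019) (iv F2980)
theorem F6567 : act 1 n6821 = n5162 := d6_1 D6821 (iv D5162) F2982
theorem F6568 : act 2 n6821 = n4000 := d11_2 D3988 D6821 (iv D4000) (iv D1939) (iv D824) (iv F435) D1931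
theorem F6569 : act 3 n5174 = n6821 := d7_0 F6568 (iv F3658) (iv F4165)
def n6822 : Q := act 2 n3989
theorem D6822 : act 2 n3989 = n6822 := rfl
theorem F6570 : act 0 n6822 = n4021 := d11_3 (iv D3988) D3989 D6822 (iv D4021) (iv D1953) (iv F1168) (iv F2980)
def n6823 : Q := act 3 n3989
theorem D6823 : act 3 n3989 = n6823 := rfl
theorem F6571 : act 0 n6823 = n4050 := d2_1 D6823 (iv D4050) (iv F2972) D6812 F6552 (iv D3991) (iv F2983)
theorem F6572 : act 1 n6823 = n5936 := d5_1 D6823 (iv D5936) (iv F2984)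
def n6824 : Q := act 0 n3990
theorem D6824 : act 0 n3990 = n6824 := rfl
theorem F6573 : act 2 n6824 = n3998 := d1_2 D3990 D6824 F2991 D4021 (iv F6570) (iv D6822) F2983
def n6825 : Q := act 1 n3990
theorem D6825 : act 1 n3990 = n6825 := rfl
theorem F6574 : act 0 n6825 = n5511 := d16_6 D3039 D5657 F4703 F2978 D3990 D6825 (iv D5511) (iv D2929) (iv D1309) F262 (iv F279) (iv F770)
theorem F6575 : act 4 n5511 = n6825 := d17_0 (iv D6825) (iv D3990) (iv D1932) F435 (iv F271) F924 F271 (iv F435) D1932 D3990 D6825 F6574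
theorem F6576 : act 3 n5549 = n6825 := d16_2 (iv F4549) (iv F4569) (iv D6825) (iv D3990) (iv F2978) (iv F4720) F4721 (iv D3054) F773 (iv F740) (iv F1985) D5516
def n6826 : Q := act 3 n3990
theorem D6826 : act 3 n3990 = n6826 := rfl
theorem F6577 : act 1 n6826 = n5549 := d5_1 D6826 F6576 (iv D6825)
theorem F6578 : act 2 n6826 = n3991 := d7_1 D6826 (iv D3991) D3990
theorem F6579 : act 0 n6826 = n4041 := d10_1 D6826 F3031 (iv F3011) (iv D4022) (iv F2991) (iv F6573) (iv D6824)
theorem F6580 : act 4 n4488 = n6826 := d3_0 F6579 (iv F3032) (iv F3455)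
def n6827 : Q := act 4 n3990
theorem D6827 : act 4 n3990 = n6827 := rfl
theorem F6581 : act 1 n6827 = n5511 := d6_1 D6827 F6575 (iv D6825)
theorem F6582 : act 2 n6827 = n4002 := d8_1 D6827 (iv D4002) (iv D1939) (iv D824) (iv F435) D1932 D3990
theorem F6583 : act 3 n6827 = n3994 := d12_2 (iv D6826) D6827 F2988 F3035 (iv D4042) D4041 (iv F6579)
theorem E845 : n4011 = n4002 := (c7_3 F6583 F2990 D4011 (iv F6582))
theorem F6584 : act 3 n4002 = n1943 := (sb E845 (iv D4011))
theorem E846 : n4489 = n4010 := ((c9_5 D4002 F6584 (iv D1943) D1942 D4010 (iv D4489) (iv D2256) (iv F1158))).symm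
theorem F6585 : act 3 n4010 = n2256 := (sb E846 (iv D4489))
def n6828 : Q := act 2 n3992
theorem D6828 : act 2 n3992 = n6828 := rfl
def n6829 : Q := act 3 n3992
theorem D6829 : act 3 n3992 = n6829 := rfl
theorem F6586 : act 0 n6829 = n5548 := d2_1 D6829 (iv D5548) (iv D2957) D2959 (iv F4552) (iv D5518) (iv F2985)
theorem F6587 : act 1 n6829 = n3993 := d5_1 D6829 (iv D3993) D3992
theorem F6588 : act 4 n6829 = n5548 := d9_2 F2986 D6829 (iv D5548) D5549 F6576 (iv F6575) (iv D5511)
def n6830 : Q := act 0 n3993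
theorem D6830 : act 0 n3993 = n6830 := rfl
theorem F6589 : act 2 n6830 = n4026 := d10_2 D3993 D6830 (iv D4026) (iv D1955) F437 D835 (iv F1153)
def n6831 : Q := act 4 n3993
theorem D6831 : act 4 n3993 = n6831 := rfl
theorem F6590 : act 1 n6831 = n5548 := d6_1 D6831 (iv F6588) F6587
theorem F6591 : act 2 n6831 = n4010 := d8_1 D6831 (iv D4010) F1159 D1945 (iv F4709) (iv D3996) (iv F2987)
theorem F6592 : act 3 n6831 = n4488 := d9_1 D6831 F6580 (iv D6826) D6827 F6583 (iv D3994) D3993
def n6832 : Q := act 2 n3995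
theorem D6832 : act 2 n3995 = n6832 := rfl
theorem F6593 : act 0 n6832 = n4024 := d1_1 D6832 F3014 D4026 (iv F6589) (iv D6830) F2987 D3995
def n6833 : Q := act 4 n3995
theorem D6833 : act 4 n3995 = n6833 := rfl
theorem F6594 : act 0 n6833 = n3996 := d3_1 D6833 (iv D3996) D3995
theorem F6595 : act 1 n6833 = n5946 := d6_1 D6833 (iv D5946) F5133
def n6834 : Q := act 2 n3997
theorem D6834 : act 2 n3997 = n6834 := rfl
theorem F6596 : act 3 n6834 = n4740 := d7_2 F3571 D6834 F3738
theorem F6597 : act 0 n6834 = n6282 := d10_3 D4908 F3896 D6834 (iv D6282) (iv D3506) F966 D2565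
theorem F6598 : act 2 n5950 = n6282 := d15_0 (iv F6597) (iv D6834) (iv D3997) F1155 (iv F1164) D2663 F1747 (iv F849) F848 (iv F842) D3237 D5950
theorem F6599 : act 3 n6281 = n5950 := d7_0 F6598 (iv D6282) D6281
theorem F6600 : act 1 n6281 = n5660 := d16_3 (iv D5952) D5950 (iv F6599) (iv D5660) (iv F2567) (iv D3506) (iv F967) D2563 (iv F3582) (iv F3744) F3743 F5170
def n6835 : Q := act 4 n3997
theorem D6835 : act 4 n3997 = n6835 := rfl
theorem F6601 : act 1 n6835 = n3998 := d6_1 D6835 (iv D3998) D3997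
def n6836 : Q := act 3 n3998
theorem D6836 : act 3 n3998 = n6836 := rfl
theorem F6602 : act 0 n6836 = n4038 := d2_1 D6836 (iv D4038) F1171 D1963 (iv F3011) (iv D4022) (iv F2991)
def n6837 : Q := act 1 n3999
theorem D6837 : act 1 n3999 = n6837 := rfl
def n6838 : Q := act 4 n3999
theorem D6838 : act 4 n3999 = n6838 := rfl
theorem F6603 : act 0 n6838 = n4061 := d3_1 D6838 F3049 (iv F2992)
def n6839 : Q := act 4 n4000
theorem D6839 : act 4 n4000 = n6839 := rfl
theorem F6604 : act 0 n6839 = n4002 := d3_1 D6839 (iv D4002) D4000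
def n6840 : Q := act 2 n4001
theorem D6840 : act 2 n4001 = n6840 := rfl
theorem F6605 : act 3 n6840 = n4486 := d7_2 (iv F2993) D6840 (iv D4486)
def n6841 : Q := act 4 n4001
theorem D6841 : act 4 n4001 = n6841 := rfl
theorem F6606 : act 1 n6841 = n4002 := d6_1 D6841 (iv D4002) D4001
theorem F6607 : act 3 n6841 = n4008 := d12_2 (iv F2993) D6841 (iv F4772) F4774 (iv D3207) D3206 F2308
def n6842 : Q := act 2 n4003
theorem D6842 : act 2 n4003 = n6842 := rfl
theorem F6608 : act 0 n6842 = n4186 := d1_1 D6842 (iv D4186) (iv D2048) (iv D872) D871 D2045 (iv F2994)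
theorem F6609 : act 3 n4186 = n4933 := d10_4 F3813 (iv F2994) D6842 F6608 (iv D4933) (iv D2580) D2579
theorem F6610 : act 2 n4933 = n4187 := d7_1 F6609 (iv D4187) D4186
def n6843 : Q := act 3 n4003
theorem D6843 : act 3 n4003 = n6843 := rfl
theorem F6611 : act 1 n6843 = n4004 := d5_1 D6843 (iv D4004) D4003
theorem F6612 : act 0 n6843 = n4197 := d10_1 D6843 (iv D4197) (iv D2052) (iv D873) D871 D2045 (iv F2994)
theorem F6613 : act 3 n4937 = n4197 := d2_6 (iv D6843) F2994 (iv F3813) (iv D2579) D2581 D4937 (iv F6612)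
theorem F6614 : act 2 n4198 = n4937 := d7_3 F6613 (iv D4197) D4198
def n6844 : Q := act 4 n4003
theorem D6844 : act 4 n4003 = n6844 := rfl
theorem F6615 : act 0 n6844 = n4180 := d3_1 D6844 (iv D4180) (iv F2994)
theorem F6616 : act 1 n6844 = n4005 := d6_1 D6844 (iv D4005) D4003
def n6845 : Q := act 4 n4004
theorem D6845 : act 4 n4004 = n6845 := rfl
theorem F6617 : act 0 n6845 = n4070 := d3_1 D6845 (iv D4070) (iv F2995)
theorem F6618 : act 3 n6845 = n4485 := d12_2 D4004 D6845 F3453 (iv F6585) (iv D4010) (iv D1942) D1940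
theorem F6619 : act 3 n4668 = n4070 := d12_6 F6618 (iv D4485) (iv F3044) (iv D4051) F1543 D4668 (iv F6617)
theorem F6620 : act 3 n4613 = n4052 := d9_5 D4668 F6619 (iv D4070) (iv F1537) D4613 (iv D4052) F1543
def n6846 : Q := act 3 n4005
theorem D6846 : act 3 n4005 = n6846 := rfl
theorem F6621 : act 4 n6846 = n4051 := d9_2 D4005 D6846 F3044 D4485 (iv F6618) (iv D6845) (iv D4004)
theorem F6622 : act 0 n6846 = n4052 := d12_3 (iv D4004) D4005 D6846 (iv F6620) (iv D4613) F1537 (iv F2995)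
def n6847 : Q := act 3 n4006
theorem D6847 : act 3 n4006 = n6847 := rfl
theorem F6623 : act 2 n6847 = n4007 := d7_1 D6847 (iv D4007) D4006
def n6848 : Q := act 4 n4006
theorem D6848 : act 4 n4006 = n6848 := rfl
theorem F6624 : act 0 n6848 = n5765 := d3_1 D6848 (iv D5765) (iv F3160)
def n6849 : Q := act 4 n4007
theorem D6849 : act 4 n4007 = n6849 := rfl
theorem F6625 : act 1 n6849 = n4010 := d6_1 D6849 (iv D4010) (iv F2997)
theorem F6626 : act 3 n6849 = n4487 := d9_1 D6849 (iv D4487) (iv F2993) D6841 F6607 (iv D4008) D4007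
def n6850 : Q := act 1 n4009
theorem D6850 : act 1 n4009 = n6850 := rfl
def n6851 : Q := act 2 n4009
theorem D6851 : act 2 n4009 = n6851 := rfl
theorem F6627 : act 0 n6851 = n4020 := d1_1 D6851 F3010 (iv F2999) (iv D4012) (iv D1944) (iv F1159) D4009
theorem F6628 : act 3 n6851 = n5159 := d7_2 F3592 D6851 F4148
theorem F6629 : act 1 n5164 = n6851 := d5_3 F6628 F4147 D5164
def n6852 : Q := act 4 n4009
theorem D6852 : act 4 n4009 = n6852 := rfl
theorem F6630 : act 0 n6852 = n4010 := d3_1 D6852 (iv D4010) D4009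
def n6853 : Q := act 1 n4012
theorem D6853 : act 1 n4012 = n6853 := rfl
def n6854 : Q := act 4 n4012
theorem D6854 : act 4 n4012 = n6854 := rfl
theorem F6631 : act 0 n6854 = n4060 := d3_1 D6854 (iv D4060) (iv F2999)
def n6855 : Q := act 2 n4013
theorem D6855 : act 2 n4013 = n6855 := rfl
theorem F6632 : act 0 n6855 = n4027 := d10_3 (iv F1160) (iv F3000) D6855 F3016 (iv D2266) (iv D967) (iv F506)
theorem F6633 : act 4 n6855 = n4026 := d11_1 D6855 (iv F6589) (iv D6830) F2987 D3996 F4709 (iv F3000)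
def n6856 : Q := act 2 n4015
theorem D6856 : act 2 n4015 = n6856 := rfl
theorem F6634 : act 1 n6856 = n6651 := d14_2 F5816 D6856 (iv D6651) D6652 F6247 F4375 D4166 (iv F4633) F4631 F4480 (iv F5815)
def n6857 : Q := act 1 n4016
theorem D6857 : act 1 n4016 = n6857 := rfl
def n6858 : Q := act 4 n4016
theorem D6858 : act 4 n4016 = n6858 := rfl
def n6859 : Q := act 4 n4017
theorem D6859 : act 4 n4017 = n6859 := rfl
theorem F6635 : act 0 n6859 = n5162 := d3_1 D6859 (iv D5162) (iv F3002)
theorem F6636 : act 1 n6859 = n4019 := d6_1 D6859 (iv D4019) (iv F3003)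
theorem F6637 : act 3 n6859 = n4497 := d12_2 D4017 D6859 F3459 (iv D2425) (iv D1043) D1042 (iv F1163)
theorem F6638 : act 2 n6119 = n6859 := d7_3 F6637 (iv F3463) D6119
def n6860 : Q := act 3 n4018
theorem D6860 : act 3 n4018 = n6860 := rfl
theorem F6639 : act 0 n6860 = n5164 := d2_1 D6860 (iv D5164) F1804 D2729 (iv F3671) (iv D4684) (iv F3005)
theorem F6640 : act 1 n6860 = n4020 := d5_1 D6860 (iv D4020) (iv F3006)
theorem F6641 : act 2 n6860 = n6115 := d7_1 D6860 (iv D6115) (iv F3007)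
def n6861 : Q := act 4 n4020
theorem D6861 : act 4 n4020 = n6861 := rfl
theorem F6642 : act 3 n6861 = n4498 := d9_1 D6861 (iv D4498) F3009 (iv D4019) (iv D1951) D1952 D4020
theorem F6643 : act 2 n6861 = n4027 := d11_2 (iv F3010) D6861 (iv F6632) (iv D6855) (iv D4013) D4012 F2999
theorem F6644 : act 2 n5038 = n5930 := d17_8 F4936 F3046 (iv F3010) D6861 F6643 (iv F4043) F4042 (iv F4013) (iv D5930) (iv F4198) F4197 D5801
theorem F6645 : act 1 n5926 = n5067 := d4_5 F6644 F5134 F5153 (iv F2317) D5926 (iv D5067) (iv F4013)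
def n6862 : Q := act 1 n4021
theorem D6862 : act 1 n4021 = n6862 := rfl
theorem F6646 : act 0 n6862 = n5180 := d16_6 D2700 (iv F4025) (iv D5050) F1749 D4021 D6862 (iv D5180) (iv D2736) (iv D1208) (iv D493) (iv F234) (iv F658)
def n6863 : Q := act 3 n4021
theorem D6863 : act 3 n4021 = n6863 := rfl
theorem F6647 : act 2 n6863 = n4022 := d7_1 D6863 (iv D4022) D4021
theorem F6648 : act 4 n4499 = n6863 := d8_0 F6647 (iv F3012) (iv F3464) (iv D4498) (iv D2259) D2261 D4499
def n6864 : Q := act 4 n4021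
theorem D6864 : act 4 n4021 = n6864 := rfl
theorem F6649 : act 2 n6864 = n4061 := d8_1 D6864 F3049 (iv F3008) (iv D4019) F1168 D1953 D4021
theorem F6650 : act 3 n4025 = n6864 := d7_0 F6649 (iv D4061) (iv F3015)
def n6865 : Q := act 3 n4023
theorem D6865 : act 3 n4023 = n6865 := rfl
theorem F6651 : act 0 n6865 = n5193 := d2_1 D6865 (iv D5193) (iv D2747) (iv D1214) D1212 D2743 (iv F3013)
theorem F6652 : act 1 n6865 = n4024 := d5_1 D6865 (iv D4024) D4023
def n6866 : Q := act 4 n4024
theorem D6866 : act 4 n4024 = n6866 := rfl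
theorem F6653 : act 2 n6866 = n4060 := d8_1 D6866 (iv D4060) (iv F3010) D6861 F6643 (iv D4027) (iv F3014)
theorem F6654 : act 3 n6866 = n4499 := d9_1 D6866 F6648 (iv D6863) D6864 (iv F6650) (iv D4025) D4024
def n6867 : Q := act 1 n4026
theorem D6867 : act 1 n4026 = n6867 := rfl
def n6868 : Q := act 0 n4029
theorem D6868 : act 0 n4029 = n6868 := rfl
theorem F6655 : act 4 n6868 = n4166 := d3_2 (iv F4377) D6868 (iv D4166)
def n6869 : Q := act 2 n4029
theorem D6869 : act 2 n4029 = n6869 := rfl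
theorem F6656 : act 1 n6869 = n4043 := d4_1 D6869 (iv D4043) (iv D1964) (iv D835) (iv F439) D1957 D4029
theorem F6657 : act 4 n6869 = n4159 := d8_2 (iv F4377) D6869 (iv D4159) (iv D2034) (iv D865) D867 D2037
theorem F6658 : act 2 n6384 = n6868 := d11_6 D6869 F6657 (iv D4159) (iv F3123) (iv F5555) D6384 (iv D6868)
def n6870 : Q := act 1 n4031
theorem D6870 : act 1 n4031 = n6870 := rfl
theorem F6659 : act 2 n6870 = n6582 := d4_2 D4031 D6870 (iv D6582) F3020 (iv D4033) (iv D1959) D1958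
theorem F6660 : act 3 n6870 = n6364 := d5_2 (iv F4069) D6870 F5817
def n6871 : Q := act 4 n4031
theorem D6871 : act 4 n4031 = n6871 := rfl
def n6872 : Q := act 2 n4032
theorem D6872 : act 2 n4032 = n6872 := rfl
def n6873 : Q := act 4 n4033
theorem D6873 : act 4 n4033 = n6873 := rfl
theorem F6661 : act 0 n6873 = n5485 := d3_1 D6873 (iv D5485) (iv F3018)
theorem F6662 : act 1 n6873 = n4035 := d6_1 D6873 (iv D4035) D4033
theorem F6663 : act 2 n6873 = n6593 := d11_2 F3020 D6873 (iv D6593) (iv D3806) (iv D1827) (iv F1077) D3800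
theorem F6664 : act 3 n6873 = n5015 := d12_2 F3019 D6873 (iv D5015) F3803 (iv D4824) (iv D2509) D2507
def n6874 : Q := act 4 n4034
theorem D6874 : act 4 n4034 = n6874 := rfl
theorem F6665 : act 0 n6874 = n5159 := d3_1 D6874 (iv D5159) (iv F3021)
theorem F6666 : act 1 n6874 = n4822 := d6_1 D6874 (iv D4822) (iv F3022)
theorem F6667 : act 2 n6874 = n4067 := d11_2 (iv F3023) D6874 (iv F3576) (iv D4605) (iv D2354) D2352 (iv F1542)
theorem F6668 : act 3 n6874 = n4066 := d12_2 D4034 D6874 (iv F6550) (iv D6810) (iv D3979) D3978 F2966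
def n6875 : Q := act 3 n4035
theorem D6875 : act 3 n4035 = n6875 := rfl
theorem F6669 : act 0 n6875 = n5174 := d2_1 D6875 F6569 F6566 (iv F3009) (iv F3451) (iv F6547) F6544
theorem F6670 : act 1 n6875 = n5015 := d5_1 D6875 (iv F6664) F6662
theorem F6671 : act 2 n6875 = n4054 := d7_1 D6875 (iv D4054) (iv F3024)
def n6876 : Q := act 2 n4036
theorem D6876 : act 2 n4036 = n6876 := rfl
theorem F6672 : act 3 n6876 = n4048 := d7_2 (iv F3025) D6876 (iv D4048)
def n6877 : Q := act 1 n4037
theorem D6877 : act 1 n4037 = n6877 := rfl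
theorem F6673 : act 0 n6877 = n5502 := d16_6 D2893 D5448 F4475 F3017 D4037 D6877 (iv D5502) (iv D2923) (iv D1305) (iv D538) (iv F258) (iv F726)
def n6878 : Q := act 3 n4037
theorem D6878 : act 3 n4037 = n6878 := rfl
theorem F6674 : act 2 n6878 = n4038 := d7_1 D6878 (iv D4038) D4037
def n6879 : Q := act 4 n4037
theorem D6879 : act 4 n4037 = n6879 := rfl
theorem F6675 : act 2 n6879 = n4055 := d8_1 D6879 (iv D4055) (iv F3024) (iv D4035) (iv D1959) D1961 D4037
def n6880 : Q := act 4 n4038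
theorem D6880 : act 4 n4038 = n6880 := rfl
theorem F6676 : act 3 n6880 = n4049 := d9_1 D6880 (iv D4049) (iv F3025) (iv D4036) (iv D1960) D1961 D4038
def n6881 : Q := act 1 n4039
theorem D6881 : act 1 n4039 = n6881 := rfl
theorem F6677 : act 0 n6881 = n4843 := d16_6 D2480 (iv F3715) (iv D4718) F1557 (iv F3026) D6881 (iv D4843) (iv D2521) (iv D1092) (iv D440) (iv F204) (iv F583)
theorem F6678 : act 4 n4843 = n6881 := d17_0 (iv D6881) F3026 (iv D1974) (iv D838) (iv F1526) F186 F1526 D838 D1974 (iv F3026) D6881 F6677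
theorem F6679 : act 3 n4862 = n6881 := d16_2 F3840 (iv F3848) (iv D6881) F3026 (iv F1557) F1556 D2451 F1558 F584 (iv F598) (iv F1626) D4848
def n6882 : Q := act 3 n4039
theorem D6882 : act 3 n4039 = n6882 := rfl
theorem F6680 : act 1 n6882 = n4862 := d5_1 D6882 F6679 (iv D6881)
theorem F6681 : act 2 n6882 = n4050 := d7_1 D6882 (iv D4050) (iv F3026)
theorem F6682 : act 4 n4859 = n6882 := d8_0 F6681 F3662 (iv D4669) (iv D2408) D2407 D4668 (iv F3847)
def n6883 : Q := act 4 n4039
theorem D6883 : act 4 n4039 = n6883 := rfl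
theorem F6683 : act 0 n6883 = n4042 := d3_1 D6883 (iv D4042) D4039
theorem F6684 : act 1 n6883 = n4843 := d6_1 D6883 F6678 (iv D6881)
theorem F6685 : act 2 n6883 = n4052 := d8_1 D6883 (iv D4052) (iv D1976) (iv D840) D838 D1974 (iv F3026)
theorem F6686 : act 3 n4841 = n6883 := d7_0 F6685 (iv F6620) (iv F3834)
def n6884 : Q := act 2 n4040
theorem D6884 : act 2 n4040 = n6884 := rfl
theorem F6687 : act 3 n6884 = n5543 := d7_2 F3029 D6884 (iv D5543)
theorem F6688 : act 0 n6884 = n5521 := d10_3 D2936 (iv F3027) D6884 (iv D5521) (iv D2937) (iv D1313) D1312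
def n6885 : Q := act 3 n4043
theorem D6885 : act 3 n4043 = n6885 := rfl
theorem F6689 : act 0 n6885 = n5533 := d2_1 D6885 (iv D5533) (iv D2948) (iv D1322) D1321 D2946 (iv F3036)
theorem F6690 : act 2 n6885 = n4044 := d7_1 D6885 (iv D4044) D4043
def n6886 : Q := act 4 n4043
theorem D6886 : act 4 n4043 = n6886 := rfl
theorem F6691 : act 0 n6886 = n5529 := d3_1 D6886 (iv D5529) (iv F3036)
theorem F6692 : act 1 n6886 = n4159 := d6_1 D6886 (iv F6657) F6656
theorem F6693 : act 2 n6886 = n6394 := d11_2 D4043 D6886 (iv D6394) (iv D3601) (iv F2792) (iv D2941) F1182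
def n6887 : Q := act 1 n4045
theorem D6887 : act 1 n4045 = n6887 := rfl
theorem F6694 : act 3 n6887 = n4844 := d5_2 F3590 D6887 F3837
theorem F6695 : act 0 n6887 = n4861 := d16_6 (iv F1582) (iv F3584) F3586 (iv F3588) (iv F3589) D6887 (iv D4861) (iv D2531) F604 F209 (iv F205) D1079
theorem F6696 : act 4 n4861 = n6887 := d17_0 (iv D6887) F3589 F3591 (iv D4071) F1534 F1474 (iv F1534) D4071 (iv F3591) (iv F3589) D6887 F6695
def n6888 : Q := act 4 n4045
theorem D6888 : act 4 n4045 = n6888 := rfl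
theorem F6697 : act 0 n6888 = n4046 := d3_1 D6888 (iv D4046) D4045
theorem F6698 : act 1 n6888 = n4861 := d6_1 D6888 F6696 (iv D6887)
theorem F6699 : act 2 n6888 = n4070 := d8_1 D6888 (iv D4070) (iv D1990) D1991 D4071 (iv F3591) (iv F3589)
theorem F6700 : act 3 n6888 = n4859 := d9_1 D6888 F6682 (iv D6882) D6883 (iv F6686) (iv F3835) F3590
def n6889 : Q := act 2 n4047
theorem D6889 : act 2 n4047 = n6889 := rfl
def n6890 : Q := act 4 n4047
theorem D6890 : act 4 n4047 = n6890 := rfl
theorem F6701 : act 1 n6890 = n4049 := d6_1 D6890 (iv D4049) D4047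
def n6891 : Q := act 1 n4048
theorem D6891 : act 1 n4048 = n6891 := rfl
theorem F6702 : act 0 n6891 = n5572 := d16_6 (iv F1950) (iv F4470) F4472 (iv D4047) D4048 D6891 (iv D5572) (iv D2971) (iv D1336) (iv D552) D551 D1333
def n6892 : Q := act 4 n4048
theorem D6892 : act 4 n4048 = n6892 := rfl
theorem F6703 : act 2 n6892 = n4068 := d11_2 D4048 D6892 F3053 (iv F3041) (iv D4046) F1200 D1967
def n6893 : Q := act 2 n4049
theorem D6893 : act 2 n4049 = n6893 := rfl
theorem F6704 : act 4 n6893 = n4066 := d8_2 D4049 D6893 (iv D4066) D4068 (iv F6703) (iv D6892) (iv D4048)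
def n6894 : Q := act 1 n4051
theorem D6894 : act 1 n4051 = n6894 := rfl
theorem F6705 : act 0 n6894 = n4476 := d0_1 D6894 F3962 (iv D4972) F1713 D2611 F1717 D4051
theorem F6706 : act 3 n6894 = n4457 := d5_2 (iv F3044) D6894 F3433
def n6895 : Q := act 2 n4053
theorem D6895 : act 2 n4053 = n6895 := rfl
def n6896 : Q := act 4 n4053
theorem D6896 : act 4 n4053 = n6896 := rfl
theorem F6707 : act 1 n6896 = n4055 := d6_1 D6896 (iv D4055) D4053
def n6897 : Q := act 4 n4054
theorem D6897 : act 4 n4054 = n6897 := rfl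
theorem F6708 : act 3 n6897 = n4068 := d12_2 D4054 D6897 F3053 F2261 (iv D966) (iv F442) D1978
def n6898 : Q := act 3 n4055
theorem D6898 : act 3 n4055 = n6898 := rfl
theorem F6709 : act 4 n6898 = n4067 := d9_2 D4055 D6898 (iv D4067) D4068 (iv F6708) (iv D6897) (iv D4054)
def n6899 : Q := act 1 n4057
theorem D6899 : act 1 n4057 = n6899 := rfl
theorem F6710 : act 0 n6899 = n4235 := d0_1 D6899 (iv F4802) (iv D5734) (iv D3079) D3078 D5730 F4797
theorem F6711 : act 2 n6899 = n6114 := d4_2 D4057 D6899 (iv D6114) (iv F3007) F3006 F1169 D1980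
theorem F6712 : act 4 n6449 = n6899 := d17_3 (iv D6135) D6132 (iv F5929) F6711 (iv D6114) (iv D3376) (iv F2971) (iv F3113) F4865 F4864 (iv F4870) (iv F5451)
def n6900 : Q := act 3 n4057
theorem D6900 : act 3 n4057 = n6900 := rfl
theorem F6713 : act 2 n6900 = n4058 := d7_1 D6900 (iv D4058) D4057
def n6901 : Q := act 4 n4057
theorem D6901 : act 4 n4057 = n6901 := rfl
theorem F6714 : act 0 n6901 = n6556 := d3_1 D6901 F6102 F4797
theorem F6715 : act 1 n6901 = n6449 := d6_1 D6901 F6712 (iv D6899)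
theorem F6716 : act 2 n6901 = n6636 := d17_4 (iv D1982) D1980 D4057 D6901 (iv D6636) (iv D3832) D3833 F2855 (iv F3094) (iv D4064) F1211 (iv F1208)
def n6902 : Q := act 2 n4059
theorem D6902 : act 2 n4059 = n6902 := rfl
theorem F6717 : act 0 n6902 = n5470 := d13_1 D6902 (iv D5470) (iv D2906) (iv D1296) (iv F726) (iv F1904) F1903 D2835 D5340 (iv F4973) F4972
theorem F6718 : act 3 n5824 = n5470 := d10_0 (iv F6717) (iv D6902) (iv F4972) (iv D5823) F2242 D3132 D5824
theorem F6719 : act 1 n5471 = n5824 := d5_3 F6718 (iv D5470) D5471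
def n6903 : Q := act 2 n4065
theorem D6903 : act 2 n4065 = n6903 := rfl
def n6904 : Q := act 4 n4065
theorem D6904 : act 4 n4065 = n6904 := rfl
theorem F6720 : act 1 n6904 = n4068 := d6_1 D6904 (iv D4068) D4065
def n6905 : Q := act 1 n4066
theorem D6905 : act 1 n4066 = n6905 := rfl
theorem F6721 : act 3 n6905 = n4822 := d5_2 F6668 D6905 (iv F6666)
theorem F6722 : act 0 n6905 = n5487 := d15_4 (iv F443) D1986 D4066 D6905 (iv F6548) F6549 F2995 (iv D1990) (iv F1533) F544 F1533 (iv D846)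
theorem F6723 : act 2 n6596 = n6905 := d10_2 D3808 D6596 F6722 (iv D5487) F1969 D2918 F1974
def n6906 : Q := act 2 n4069
theorem D6906 : act 2 n4069 = n6906 := rfl
def n6907 : Q := act 4 n4072
theorem D6907 : act 4 n4072 = n6907 := rfl
theorem F6724 : act 0 n6907 = n5105 := d3_1 D6907 (iv D5105) (iv F3054)
theorem F6725 : act 1 n6907 = n4615 := d6_1 D6907 (iv D4615) (iv F3055)
def n6908 : Q := act 3 n4073
theorem D6908 : act 3 n4073 = n6908 := rfl
theorem F6726 : act 0 n6908 = n6030 := d2_1 D6908 (iv D6030) F2398 D3634 (iv F5881) (iv D6416) (iv F3057)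
def n6909 : Q := act 2 n4074
theorem D6909 : act 2 n4074 = n6909 := rfl
theorem F6727 : act 0 n6909 = n6031 := d1_1 D6909 (iv D6031) F2399 D3635 (iv F5883) (iv D6417) (iv F3058)
theorem F6728 : act 3 n6909 = n6066 := d7_2 (iv F3060) D6909 (iv D6066)
def n6910 : Q := act 1 n4075
theorem D6910 : act 1 n4075 = n6910 := rfl
theorem F6729 : act 4 n6910 = n5593 := d6_2 F3115 D6910 F4599
theorem F6730 : act 0 n6910 = n5595 := d13_3 D3631 (iv F3061) D6910 F4604 (iv D3658) (iv D1749) (iv D741) (iv D290) (iv F122) (iv F378) (iv F1019)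
def n6911 : Q := act 3 n4075
theorem D6911 : act 3 n4075 = n6911 := rfl
theorem F6731 : act 0 n6911 = n6033 := d2_1 D6911 (iv D6033) F2402 D3637 (iv F5885) (iv D6418) (iv F3061)
theorem F6732 : act 2 n6911 = n4076 := d7_1 D6911 (iv D4076) D4075
def n6912 : Q := act 4 n4076
theorem D6912 : act 4 n4076 = n6912 := rfl
theorem F6733 : act 0 n6912 = n6419 := d3_1 D6912 (iv D6419) (iv F3062)
theorem F6734 : act 1 n6912 = n4094 := d6_1 D6912 (iv D4094) (iv F3063)
theorem F6735 : act 3 n6912 = n4521 := d9_1 D6912 F3481 (iv F3060) (iv D4074) (iv D1994) D1995 D4076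
def n6913 : Q := act 4 n4077
theorem D6913 : act 4 n4077 = n6913 := rfl
theorem F6736 : act 0 n6913 = n4113 := d3_1 D6913 (iv D4113) (iv F3064)
def n6914 : Q := act 2 n4078
theorem D6914 : act 2 n4078 = n6914 := rfl
theorem F6737 : act 0 n6914 = n4097 := d1_1 D6914 (iv D4097) F1227 D2009 (iv F3070) (iv D4083) (iv F3065)
def n6915 : Q := act 3 n4078
theorem D6915 : act 3 n4078 = n6915 := rfl
def n6916 : Q := act 4 n4079
theorem D6916 : act 4 n4079 = n6916 := rfl
theorem F6738 : act 0 n6916 = n4764 := d3_1 D6916 (iv D4764) (iv F3066)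
theorem F6739 : act 1 n6916 = n4082 := d6_1 D6916 (iv D4082) (iv F3067)
def n6917 : Q := act 2 n4080
theorem D6917 : act 2 n4080 = n6917 := rfl
theorem F6740 : act 0 n6917 = n5755 := d11_3 F1968 D4080 D6917 F4831 (iv D5345) (iv D2838) D2837
theorem F6741 : act 4 n6917 = n5753 := d17_3 D1999 (iv F3068) D6917 (iv F4826) (iv D4146) D4145 F4518 (iv D5486) (iv D2914) D2912 (iv F1967) (iv D1996)
def n6918 : Q := act 3 n4080
theorem D6918 : act 3 n4080 = n6918 := rfl
theorem F6742 : act 1 n6918 = n4084 := d5_1 D6918 (iv D4084) (iv F3068)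
def n6919 : Q := act 3 n4081
theorem D6919 : act 3 n4081 = n6919 := rfl
theorem F6743 : act 0 n6919 = n4112 := d2_1 D6919 (iv D4112) (iv F3064) (iv D4077) (iv D1996) D1998 D4081
theorem F6744 : act 1 n6919 = n5160 := d5_1 D6919 (iv D5160) (iv F3069)
theorem F6745 : act 2 n6919 = n5931 := d7_1 D6919 (iv F5836) F5835
def n6920 : Q := act 4 n4081
theorem D6920 : act 4 n4081 = n6920 := rfl
theorem F6746 : act 0 n6920 = n4082 := d3_1 D6920 (iv D4082) D4081
theorem F6747 : act 1 n6920 = n5161 := d6_1 D6920 (iv D5161) (iv F3069)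
def n6921 : Q := act 2 n4082
theorem D6921 : act 2 n4082 = n6921 := rfl
def n6922 : Q := act 3 n4082
theorem D6922 : act 3 n4082 = n6922 := rfl
def n6923 : Q := act 1 n4083
theorem D6923 : act 1 n4083 = n6923 := rfl
def n6924 : Q := act 3 n4083
theorem D6924 : act 3 n4083 = n6924 := rfl
theorem F6748 : act 2 n6924 = n4084 := d7_1 D6924 (iv D4084) D4083
def n6925 : Q := act 4 n4083
theorem D6925 : act 4 n4083 = n6925 := rfl
theorem F6749 : act 0 n6925 = n4107 := d3_1 D6925 (iv D4107) (iv F3070)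
theorem F6750 : act 2 n6925 = n4092 := d8_1 D6925 (iv D4092) (iv D2002) (iv D851) D849 D1999 D4083
def n6926 : Q := act 0 n4084
theorem D6926 : act 0 n4084 = n6926 := rfl
def n6927 : Q := act 4 n4084
theorem D6927 : act 4 n4084 = n6927 := rfl
def n6928 : Q := act 3 n4085
theorem D6928 : act 3 n4085 = n6928 := rfl
theorem F6751 : act 0 n6928 = n4101 := d2_1 D6928 (iv D4101) (iv D2007) (iv D853) D852 D2005 (iv F3071)
theorem F6752 : act 1 n6928 = n6834 := d5_1 D6928 F6596 F3737
theorem F6753 : act 2 n6928 = n4086 := d7_1 D6928 (iv D4086) D4085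
def n6929 : Q := act 4 n4085
theorem D6929 : act 4 n4085 = n6929 := rfl
theorem F6754 : act 0 n6929 = n4096 := d3_1 D6929 (iv D4096) (iv F3071)
def n6930 : Q := act 4 n4086
theorem D6930 : act 4 n4086 = n6930 := rfl
theorem F6755 : act 0 n6930 = n4114 := d3_1 D6930 (iv D4114) (iv F3072)
theorem F6756 : act 1 n6930 = n4880 := d6_1 D6930 (iv D4880) (iv F3073)
theorem F6757 : act 3 n6930 = n4093 := d12_2 D4086 D6930 (iv D4093) (iv D2003) (iv D851) D850 D2000
def n6931 : Q := act 2 n4087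
theorem D6931 : act 2 n4087 = n6931 := rfl
theorem F6758 : act 0 n6931 = n6178 := d10_3 (iv F1220) (iv F3074) D6931 (iv D6178) (iv D3425) (iv D1619) D1618
def n6932 : Q := act 3 n4087
theorem D6932 : act 3 n4087 = n6932 := rfl
theorem F6759 : act 0 n6932 = n4116 := d2_1 D6932 (iv D4116) F1229 (iv F450) D1618 (iv F1220) (iv F3074)
theorem F6760 : act 1 n6932 = n4882 := d5_1 D6932 (iv D4882) (iv F3075)
def n6933 : Q := act 0 n4088
theorem D6933 : act 0 n4088 = n6933 := rfl
def n6934 : Q := act 1 n4088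
theorem D6934 : act 1 n4088 = n6934 := rfl
theorem F6761 : act 3 n6934 = n6175 := d5_2 (iv F3076) D6934 (iv D6175)
def n6935 : Q := act 4 n4088
theorem D6935 : act 4 n4088 = n6935 := rfl
def n6936 : Q := act 3 n4089
theorem D6936 : act 3 n4089 = n6936 := rfl
theorem F6762 : act 0 n6936 = n4127 := d10_1 D6936 (iv D4127) (iv D2020) (iv D858) (iv F447) D2002 D4089
def n6937 : Q := act 4 n4089
theorem D6937 : act 4 n4089 = n6937 := rfl
theorem F6763 : act 0 n6937 = n4092 := d3_1 D6937 (iv D4092) D4089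
theorem F6764 : act 1 n6937 = n5501 := d6_1 D6937 (iv F6195) F6189
def n6938 : Q := act 2 n4090
theorem D6938 : act 2 n4090 = n6938 := rfl
def n6939 : Q := act 3 n4090
theorem D6939 : act 3 n4090 = n6939 := rfl
theorem F6765 : act 1 n6939 = n4091 := d5_1 D6939 (iv D4091) D4090
def n6940 : Q := act 4 n4090
theorem D6940 : act 4 n4090 = n6940 := rfl
theorem F6766 : act 0 n6940 = n5654 := d3_1 D6940 (iv F5913) F5911
theorem F6767 : act 1 n6940 = n4092 := d6_1 D6940 (iv D4092) D4090
theorem F6768 : act 2 n6940 = n5353 := d15_6 (iv D2924) D2923 D5501 (iv F6764) F6763 (iv F6767) (iv D5353) D5354 (iv F4860) (iv F6117) F6118 F6120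
theorem F6769 : act 0 n5355 = n6492 := d10_5 (iv F5997) (iv F6766) F6768 (iv D5353) D5355 (iv D6492) (iv F5996)
def n6941 : Q := act 0 n4091
theorem D6941 : act 0 n4091 = n6941 := rfl
def n6942 : Q := act 4 n4091
theorem D6942 : act 4 n4091 = n6942 := rfl
def n6943 : Q := act 3 n4092
theorem D6943 : act 3 n4092 = n6943 := rfl
def n6944 : Q := act 1 n4093
theorem D6944 : act 1 n4093 = n6944 := rfl
theorem F6770 : act 0 n6944 = n6278 := d0_1 D6944 F5640 (iv D3753) (iv F2684) (iv F3062) F3063 D4093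
theorem F6771 : act 3 n6944 = n4880 := d5_2 F6757 D6944 (iv F6756)
def n6945 : Q := act 2 n4093
theorem D6945 : act 2 n4093 = n6945 := rfl
theorem F6772 : act 0 n6945 = n4120 := d10_3 D2003 D4093 D6945 (iv D4120) (iv D2016) (iv D857) (iv F447)
def n6946 : Q := act 4 n4093
theorem D6946 : act 4 n4093 = n6946 := rfl
theorem F6773 : act 0 n6946 = n4094 := d3_1 D6946 (iv D4094) D4093
theorem F6774 : act 1 n5019 = n6946 := d16_5 (iv F1160) (iv F3000) (iv F3657) F3656 D5019 F6773 (iv F3383) (iv D2280) (iv D973) (iv D388) (iv F175) (iv F506)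
theorem F6775 : act 4 n6944 = n5019 := d6_0 F6774 (iv D6946) D6944
def n6947 : Q := act 2 n4094
theorem D6947 : act 2 n4094 = n6947 := rfl
theorem F6776 : act 3 n6947 = n4522 := d7_2 F3383 D6947 (iv D4522)
def n6948 : Q := act 2 n4095
theorem D6948 : act 2 n4095 = n6948 := rfl
def n6949 : Q := act 2 n4096
theorem D6949 : act 2 n4096 = n6949 := rfl
def n6950 : Q := act 3 n4096
theorem D6950 : act 3 n4096 = n6950 := rfl
theorem F6777 : act 0 n6950 = n4104 := d12_3 D2005 D4096 D6950 (iv D4104) (iv D2008) (iv D853) D852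
theorem F6778 : act 4 n4523 = n6950 := d3_0 F6777 F5299 D4523
def n6951 : Q := act 3 n4097
theorem D6951 : act 3 n4097 = n6951 := rfl
theorem F6779 : act 2 n6951 = n4098 := d7_1 D6951 (iv D4098) D4097
def n6952 : Q := act 4 n4097
theorem D6952 : act 4 n4097 = n6952 := rfl
theorem F6780 : act 1 n6952 = n5367 := d6_1 D6952 F4464 F4465
theorem F6781 : act 2 n6952 = n4121 := d8_1 D6952 (iv D4121) (iv F2653) (iv D3589) F1005 D2006 D4097
def n6953 : Q := act 0 n4098
theorem D6953 : act 0 n4098 = n6953 := rfl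
def n6954 : Q := act 4 n4098
theorem D6954 : act 4 n4098 = n6954 := rfl
theorem F6782 : act 3 n6954 = n4523 := d9_1 D6954 F6778 (iv D6950) (iv D4096) (iv D2005) D2006 D4098
def n6955 : Q := act 2 n4099
theorem D6955 : act 2 n4099 = n6955 := rfl
theorem F6783 : act 0 n6955 = n6870 := d1_1 D6955 F6659 F6145 F4216 (iv D4618) (iv F3597) (iv F3598)
theorem F6784 : act 1 n6955 = n6955 := d4_1 D6955 (iv D6955) (iv D4099) D4100 F5831 (iv D4100) D4099
def n6956 : Q := act 4 n4099
theorem D6956 : act 4 n4099 = n6956 := rfl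
theorem F6785 : act 1 n6956 = n4102 := d6_1 D6956 (iv D4102) D4099
def n6957 : Q := act 3 n4100
theorem D6957 : act 3 n4100 = n6957 := rfl
theorem F6786 : act 0 n6957 = n5931 := d2_1 D6957 (iv F5836) (iv D6376) (iv D3588) D3587 D6374 F5830
theorem F6787 : act 1 n6957 = n6957 := d5_1 D6957 (iv D6957) F5831
theorem F6788 : act 2 n6957 = n4101 := d7_1 D6957 (iv D4101) D4100
def n6958 : Q := act 4 n4100
theorem D6958 : act 4 n4100 = n6958 := rfl
theorem F6789 : act 1 n6958 = n6958 := d6_1 D6958 (iv D6958) F5831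
theorem F6790 : act 2 n6958 = n4117 := d11_2 D4100 D6958 (iv D4117) (iv D2015) (iv D856) (iv F448) D2007
def n6959 : Q := act 4 n4101
theorem D6959 : act 4 n4101 = n6959 := rfl
theorem F6791 : act 3 n6959 = n4108 := d12_2 D4101 D6959 (iv D4108) (iv D2010) (iv D854) D853 D2007
def n6960 : Q := act 2 n4102
theorem D6960 : act 2 n4102 = n6960 := rfl
def n6961 : Q := act 3 n4102
theorem D6961 : act 3 n4102 = n6961 := rfl
def n6962 : Q := act 0 n4103
theorem D6962 : act 0 n4103 = n6962 := rfl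
theorem F6792 : act 2 n6962 = n4113 := d11_4 (iv F448) D2008 D4103 D6962 (iv D4113) (iv D2012) (iv D855)
def n6963 : Q := act 1 n4103
theorem D6963 : act 1 n4103 = n6963 := rfl
theorem F6793 : act 0 n6963 = n6393 := d14_3 F1851 D4103 D6963 (iv F6075) F6076 (iv F6097) F6096 F5005 (iv D4735) F1573 (iv F1850)
theorem F6794 : act 3 n5542 = n6963 := d16_2 F5860 F5334 (iv D6963) (iv D4103) (iv F1851) F1850 D2804 F1873 F707 (iv F1010) (iv F2664) D6396
theorem F6795 : act 4 n5519 = n6963 := d17_0 (iv D6963) (iv D4103) (iv D2008) F448 F150 F50 (iv F126) (iv F390) D1806 D3769 D6537 F6062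
def n6964 : Q := act 3 n4103
theorem D6964 : act 3 n4103 = n6964 := rfl
theorem F6796 : act 1 n6964 = n5542 := d5_1 D6964 F6794 (iv D6963)
theorem F6797 : act 2 n6964 = n4104 := d7_1 D6964 (iv D4104) D4103
theorem F6798 : act 4 n5540 = n6964 := d8_0 F6797 F5299 (iv D2281) (iv F3386) D1619 D3427 (iv F4564)
def n6965 : Q := act 4 n4103
theorem D6965 : act 4 n4103 = n6965 := rfl
theorem F6799 : act 1 n6965 = n5519 := d6_1 D6965 F6795 (iv D6963)
theorem F6800 : act 2 n6965 = n4118 := d8_1 D6965 (iv D4118) (iv D2015) (iv D856) (iv F448) D2008 D4103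
theorem F6801 : act 3 n4107 = n6965 := d7_0 F6800 F4994 (iv F3092)
def n6966 : Q := act 2 n4105
theorem D6966 : act 2 n4105 = n6966 := rfl
theorem F6802 : act 0 n6966 = n5525 := d1_1 D6966 (iv D5525) (iv F4554) (iv F6150) F6148 F5863 (iv F3082)
theorem F6803 : act 4 n6966 = n6394 := d8_2 F3088 D6966 (iv F6693) (iv D6886) (iv D4043) (iv F1185) D2935
def n6967 : Q := act 3 n4105
theorem D6967 : act 3 n4105 = n6967 := rfl
theorem F6804 : act 0 n6967 = n6400 := d2_1 D6967 (iv D6400) (iv D3610) (iv D1720) D1718 D3608 (iv F3082)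
theorem F6805 : act 1 n6967 = n4106 := d5_1 D6967 (iv D4106) D4105
theorem F6806 : act 4 n6967 = n5541 := d9_2 F3088 D6967 (iv D5541) D5542 F6794 (iv F6795) (iv D5519)
def n6968 : Q := act 0 n4106
theorem D6968 : act 0 n4106 = n6968 := rfl
def n6969 : Q := act 4 n4106
theorem D6969 : act 4 n4106 = n6969 := rfl
theorem F6807 : act 1 n6969 = n5541 := d6_1 D6969 (iv F6806) F6805
theorem F6808 : act 2 n6969 = n4124 := d8_1 D6969 (iv D4124) F1231 D2021 (iv F5293) (iv D4109) (iv F3090)
theorem F6809 : act 3 n6969 = n5540 := d9_1 D6969 F6798 (iv D6964) D6965 (iv F6801) (iv D4107) D4106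
def n6970 : Q := act 1 n4108
theorem D6970 : act 1 n4108 = n6970 := rfl
def n6971 : Q := act 2 n4108
theorem D6971 : act 2 n4108 = n6971 := rfl
def n6972 : Q := act 4 n4108
theorem D6972 : act 4 n4108 = n6972 := rfl
theorem F6810 : act 0 n6972 = n4109 := d3_1 D6972 (iv D4109) D4108
def n6973 : Q := act 4 n4110
theorem D6973 : act 4 n4110 = n6973 := rfl
theorem F6811 : act 0 n6973 = n6180 := d3_1 D6973 (iv D6180) (iv F3096)
theorem F6812 : act 3 n6973 = n5918 := d12_2 (iv F3095) D6973 (iv D5918) (iv D3215) (iv D1506) D1505 D3213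
def n6974 : Q := act 2 n4111
theorem D6974 : act 2 n4111 = n6974 := rfl
theorem F6813 : act 3 n6974 = n5923 := d7_2 (iv F3099) D6974 F5124
theorem F6814 : act 0 n6974 = n6188 := d10_3 (iv F2492) (iv F3097) D6974 F5509 (iv D3448) F933 D1633
def n6975 : Q := act 4 n4112
theorem D6975 : act 4 n4112 = n6975 := rfl
def n6976 : Q := act 3 n4113
theorem D6976 : act 3 n4113 = n6976 := rfl
def n6977 : Q := act 2 n4114
theorem D6977 : act 2 n4114 = n6977 := rfl
theorem F6815 : act 3 n6977 = n4127 := d7_2 (iv F3102) D6977 (iv D4127)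
def n6978 : Q := act 0 n4115
theorem D6978 : act 0 n4115 = n6978 := rfl
theorem F6816 : act 3 n6978 = n6174 := d10_4 F450 (iv F1229) D4115 D6978 (iv D6174) (iv D3423) (iv D1618)
def n6979 : Q := act 3 n4115
theorem D6979 : act 3 n4115 = n6979 := rfl
theorem F6817 : act 2 n6979 = n4116 := d7_1 D6979 (iv D4116) D4115
def n6980 : Q := act 4 n4115
theorem D6980 : act 4 n4115 = n6980 := rfl
def n6981 : Q := act 4 n4116
theorem D6981 : act 4 n4116 = n6981 := rfl
theorem F6818 : act 1 n6981 = n5925 := d6_1 D6981 (iv D5925) (iv F3103)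
theorem F6819 : act 3 n6981 = n4128 := d9_1 D6981 (iv D4128) (iv F3102) (iv D4114) (iv D2013) D2014 D4116
def n6982 : Q := act 1 n4117
theorem D6982 : act 1 n4117 = n6982 := rfl
def n6983 : Q := act 3 n4117
theorem D6983 : act 3 n4117 = n6983 := rfl
def n6984 : Q := act 4 n4117
theorem D6984 : act 4 n4117 = n6984 := rfl
theorem F6820 : act 0 n6984 = n4118 := d3_1 D6984 (iv D4118) D4117
def n6985 : Q := act 3 n4119
theorem D6985 : act 3 n4119 = n6985 := rfl
theorem F6821 : act 1 n6985 = n4120 := d5_1 D6985 (iv D4120) D4119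
theorem F6822 : act 0 n6985 = n4658 := d10_1 D6985 (iv D4658) (iv F3647) F3649 F2689 D5639 F4683
theorem F6823 : act 4 n4787 = n6985 := d3_0 F6822 F5951 D4787
def n6986 : Q := act 4 n4120
theorem D6986 : act 4 n4120 = n6986 := rfl
theorem F6824 : act 1 n6986 = n4787 := d6_1 D6986 F6823 F6821
theorem F6825 : act 3 n6986 = n6179 := d12_2 D4120 D6986 F5496 (iv F4995) (iv D4124) (iv D2018) D2016
def n6987 : Q := act 3 n4121
theorem D6987 : act 3 n4121 = n6987 := rfl
theorem F6826 : act 1 n6987 = n4776 := d5_1 D6987 (iv F4747) F4745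
theorem F6827 : act 4 n6987 = n6178 := d9_2 D4121 D6987 (iv D6178) D6179 (iv F6825) (iv D6986) (iv D4120)
def n6988 : Q := act 1 n4123
theorem D6988 : act 1 n4123 = n6988 := rfl
def n6989 : Q := act 2 n4123
theorem D6989 : act 2 n4123 = n6989 := rfl
def n6990 : Q := act 3 n4123
theorem D6990 : act 3 n4123 = n6990 := rfl
def n6991 : Q := act 4 n4123
theorem D6991 : act 4 n4123 = n6991 := rfl
theorem F6828 : act 0 n6991 = n4124 := d3_1 D6991 (iv D4124) D4123
def n6992 : Q := act 2 n4126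
theorem D6992 : act 2 n4126 = n6992 := rfl
theorem F6829 : act 3 n6992 = n5920 := d7_2 (iv F3107) D6992 (iv D5920)
theorem F6830 : act 0 n6992 = n6190 := d10_3 D3442 (iv F3106) D6992 (iv D6190) F2493 (iv D1629) (iv F929)
def n6993 : Q := act 4 n4126
theorem D6993 : act 4 n4126 = n6993 := rfl
theorem F6831 : act 0 n6993 = n6191 := d3_1 D6993 (iv D6191) (iv F3106)
theorem F6832 : act 1 n6993 = n4128 := d6_1 D6993 (iv D4128) D4126
theorem F6833 : act 3 n6993 = n5925 := d9_1 D6993 (iv D5925) (iv F3099) (iv D4111) (iv F1568) D3216 (iv F3107)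
def n6994 : Q := act 1 n4127
theorem D6994 : act 1 n4127 = n6994 := rfl
def n6995 : Q := act 4 n4127
theorem D6995 : act 4 n4127 = n6995 := rfl
def n6996 : Q := act 2 n4128
theorem D6996 : act 2 n4128 = n6996 := rfl
def n6997 : Q := act 2 n4130
theorem D6997 : act 2 n4130 = n6997 := rfl
theorem F6834 : act 4 n6997 = n6974 := d17_3 (iv D4133) D4130 D6997 (iv D6974) F3098 F1229 F449 (iv F428) (iv F2045) (iv F2048) (iv F1235) (iv F3110)
def n6998 : Q := act 4 n4130
theorem D6998 : act 4 n4130 = n6998 := rfl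
theorem F6835 : act 1 n6998 = n4133 := d6_1 D6998 (iv D4133) D4130
theorem F6836 : act 2 n6998 = n6973 := d8_1 D6998 (iv D6973) (iv D4110) D4111 D6974 (iv F6834) (iv D6997)
def n6999 : Q := act 0 n4131
theorem D6999 : act 0 n4131 = n6999 := rfl
theorem F6837 : act 3 n6999 = n4507 := d10_4 (iv F454) D2022 D4131 D6999 (iv D4507) (iv D2270) (iv D968)
def n7000 : Q := act 1 n4131
theorem D7000 : act 1 n4131 = n7000 := rfl
theorem F6838 : act 0 n7000 = n4368 := d14_3 (iv D4130) D4131 D7000 F3300 F1716 (iv F1713) D4972 (iv F3962) (iv D4476) (iv F3964) F3963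
theorem F6839 : act 2 n5836 = n7000 := d10_2 D3140 D5836 F6838 (iv D4368) (iv D2155) D2156 F1319
def n7001 : Q := act 3 n4131
theorem D7001 : act 3 n4131 = n7001 := rfl
theorem F6840 : act 2 n7001 = n4132 := d7_1 D7001 (iv D4132) D4131
def n7002 : Q := act 4 n4131
theorem D7002 : act 4 n4131 = n7002 := rfl
def n7003 : Q := act 0 n4132
theorem D7003 : act 0 n4132 = n7003 := rfl
theorem F6841 : act 1 n7003 = n4883 := d0_2 (iv F3966) D7003 F3998 (iv D4305) (iv D2114) (iv F1281) D4297
theorem F6842 : act 3 n7003 = n4511 := d2_2 D4132 D7003 (iv D4511) (iv D2271) (iv D968) (iv F454) D2022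
def n7004 : Q := act 4 n4132
theorem D7004 : act 4 n4132 = n7004 := rfl
theorem F6843 : act 3 n7004 = n4164 := d12_2 D4132 D7004 F3124 F2070 (iv D970) (iv F454) D2022
def n7005 : Q := act 2 n4133
theorem D7005 : act 2 n4133 = n7005 := rfl
def n7006 : Q := act 3 n4133
theorem D7006 : act 3 n4133 = n7006 := rfl
theorem F6844 : act 4 n7006 = n4163 := d9_2 D4133 D7006 (iv D4163) D4164 (iv F6843) (iv D7004) (iv D4132)
def n7007 : Q := act 1 n4134
theorem D7007 : act 1 n4134 = n7007 := rfl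
def n7008 : Q := act 2 n4134
theorem D7008 : act 2 n4134 = n7008 := rfl
def n7009 : Q := act 3 n4134
theorem D7009 : act 3 n4134 = n7009 := rfl
def n7010 : Q := act 4 n4134
theorem D7010 : act 4 n4134 = n7010 := rfl
theorem F6845 : act 0 n7010 = n4135 := d3_1 D7010 (iv D4135) D4134
def n7011 : Q := act 2 n4135
theorem D7011 : act 2 n4135 = n7011 := rfl
theorem F6846 : act 3 n7011 = n4159 := d7_2 (iv F4988) D7011 (iv D4159)
def n7012 : Q := act 0 n4136
theorem D7012 : act 0 n4136 = n7012 := rfl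
def n7013 : Q := act 3 n4139
theorem D7013 : act 3 n4139 = n7013 := rfl
def n7014 : Q := act 3 n4142
theorem D7014 : act 3 n4142 = n7014 := rfl
theorem F6847 : act 1 n7014 = n4626 := d5_1 D7014 (iv F4600) F4599
theorem F6848 : act 2 n7014 = n4143 := d7_1 D7014 (iv D4143) D4142
theorem F6849 : act 4 n6909 = n7014 := d17_3 D2001 (iv F3059) D6909 F6848 F3116 D4149 F3120 (iv D2550) (iv D1108) D1106 F1541 (iv D2000)
def n7015 : Q := act 4 n4143
theorem D7015 : act 4 n4143 = n7015 := rfl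
theorem F6850 : act 1 n7015 = n4150 := d6_1 D7015 (iv D4150) (iv F3116)
theorem F6851 : act 2 n7015 = n6907 := d8_1 D7015 (iv D6907) F3056 D4074 D6909 F6849 F6848
theorem F6852 : act 3 n4506 = n7015 := d5_0 F6850 F3121 (iv F3470)
def n7016 : Q := act 3 n4144
theorem D7016 : act 3 n4144 = n7016 := rfl
theorem F6853 : act 1 n7016 = n4152 := d5_1 D7016 (iv D4152) (iv F3117)
theorem F6854 : act 2 n7016 = n6908 := d7_1 D7016 (iv D6908) (iv F3118)
theorem F6855 : act 4 n7016 = n4505 := d9_2 D4144 D7016 (iv D4505) D4506 F6852 (iv D7015) (iv D4143)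
def n7017 : Q := act 2 n4145
theorem D7017 : act 2 n4145 = n7017 := rfl
theorem F6856 : act 0 n7017 = n4154 := d1_1 D7017 (iv D4154) (iv D2032) (iv D865) D864 D2029 D4145
theorem F6857 : act 1 n7017 = n6842 := d4_1 D7017 (iv D6842) (iv D4003) (iv F2969) F2968 D5486 (iv F4518)
def n7018 : Q := act 3 n4145
theorem D7018 : act 3 n4145 = n7018 := rfl
theorem F6858 : act 0 n7018 = n4162 := d10_1 D7018 (iv D4162) (iv D2035) (iv D866) D864 D2029 D4145
def n7019 : Q := act 4 n4145
theorem D7019 : act 4 n4145 = n7019 := rfl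
theorem F6859 : act 0 n7019 = n4148 := d3_1 D7019 (iv D4148) D4145
theorem F6860 : act 2 n7019 = n6382 := d11_2 (iv D7017) D7019 (iv D6382) F5555 (iv D4156) D4154 (iv F6856)
def n7020 : Q := act 3 n4146
theorem D7020 : act 3 n4146 = n7020 := rfl
theorem F6861 : act 1 n7020 = n4147 := d5_1 D7020 (iv D4147) D4146
theorem F6862 : act 0 n7020 = n4944 := d16_8 F3913 (iv F4761) (iv F4763) (iv D3061) D3062 D5703 F4767 D7020 (iv D4944) (iv D2586) D2585 (iv F3912)
def n7021 : Q := act 4 n4146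
theorem D7021 : act 4 n4146 = n7021 := rfl
theorem F6863 : act 0 n7021 = n6422 := d3_1 D7021 F5892 F4767
theorem F6864 : act 1 n7021 = n4148 := d6_1 D7021 (iv D4148) D4146
theorem F6865 : act 2 n7021 = n5344 := d8_1 D7021 (iv D5344) F1968 D4080 D6917 F6741 (iv F4826)
def n7022 : Q := act 0 n4147
theorem D7022 : act 0 n4147 = n7022 := rfl
theorem F6866 : act 1 n7022 = n5163 := d0_2 F6861 D7022 F4153 F4154 (iv D4943) D4944 (iv F6862)
def n7023 : Q := act 4 n4147
theorem D7023 : act 4 n4147 = n7023 := rfl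
def n7024 : Q := act 2 n4148
theorem D7024 : act 2 n4148 = n7024 := rfl
theorem F6867 : act 0 n7024 = n4159 := d1_1 D7024 (iv D4159) (iv F3123) (iv F5555) D6382 (iv F6860) F6859
def n7025 : Q := act 3 n4148
theorem D7025 : act 3 n4148 = n7025 := rfl
def n7026 : Q := act 2 n4149
theorem D7026 : act 2 n4149 = n7026 := rfl
theorem F6868 : act 0 n7026 = n4155 := d10_3 D2030 D4149 D7026 (iv D4155) (iv D2032) (iv D865) D864
def n7027 : Q := act 3 n4149
theorem D7027 : act 3 n4149 = n7027 := rfl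
theorem F6869 : act 0 n7027 = n4163 := d2_1 D7027 (iv D4163) (iv D2035) (iv D866) D864 D2030 D4149
theorem F6870 : act 1 n7027 = n4885 := d5_1 D7027 (iv D4885) (iv F3120)
def n7028 : Q := act 4 n4149
theorem D7028 : act 4 n4149 = n7028 := rfl
theorem F6871 : act 0 n7028 = n4150 := d3_1 D7028 (iv D4150) D4149
theorem F6872 : act 1 n7028 = n4886 := d6_1 D7028 (iv D4886) (iv F3120)
def n7029 : Q := act 2 n4150
theorem D7029 : act 2 n4150 = n7029 := rfl
theorem F6873 : act 3 n7029 = n4512 := d7_2 (iv F3121) D7029 (iv D4512)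
def n7030 : Q := act 0 n4151
theorem D7030 : act 0 n4151 = n7030 := rfl
def n7031 : Q := act 1 n4151
theorem D7031 : act 1 n4151 = n7031 := rfl
def n7032 : Q := act 3 n4151
theorem D7032 : act 3 n4151 = n7032 := rfl
theorem F6874 : act 2 n7032 = n4152 := d7_1 D7032 (iv D4152) D4151
def n7033 : Q := act 4 n4151
theorem D7033 : act 4 n4151 = n7033 := rfl
def n7034 : Q := act 0 n4152
theorem D7034 : act 0 n4152 = n7034 := rfl
theorem F6875 : act 4 n7034 = n4511 := d3_2 (iv F3122) D7034 (iv D4511)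
theorem F6876 : act 1 n5018 = n7034 := d6_3 F6875 F3472 D5018
def n7035 : Q := act 4 n4153
theorem D7035 : act 4 n4153 = n7035 := rfl
theorem F6877 : act 0 n7035 = n5636 := d3_1 D7035 (iv D5636) (iv F3157)
theorem F6878 : act 1 n7035 = n4156 := d6_1 D7035 (iv D4156) D4153
theorem F6879 : act 2 n7035 = n6369 := d8_1 D7035 (iv F5823) (iv F6121) F4746 (iv F5930) F5931 F4801
def n7036 : Q := act 3 n4154
theorem D7036 : act 3 n4154 = n7036 := rfl
theorem F6880 : act 1 n7036 = n4238 := d5_1 D7036 (iv D4238) (iv F3174)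
theorem F6881 : act 2 n7036 = n4155 := d7_1 D7036 (iv D4155) D4154
def n7037 : Q := act 4 n4154
theorem D7037 : act 4 n4154 = n7037 := rfl
theorem F6882 : act 1 n7037 = n4239 := d6_1 D7037 (iv D4239) (iv F3174)
theorem F6883 : act 2 n7037 = n4166 := d8_1 D7037 (iv F6655) (iv F6658) (iv D6384) F5555 (iv D4156) D4154
def n7038 : Q := act 4 n4155
theorem D7038 : act 4 n4155 = n7038 := rfl
theorem F6884 : act 3 n7038 = n4515 := d12_2 D4155 D7038 F3479 (iv F4989) (iv D4158) (iv D2033) D2032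
theorem F6885 : act 2 n6380 = n7038 := d7_3 F6884 F6503 (iv F5844)
def n7039 : Q := act 3 n4156
theorem D7039 : act 3 n4156 = n7039 := rfl
theorem F6886 : act 2 n7039 = n6383 := d7_1 D7039 (iv D6383) F5555
theorem F6887 : act 4 n7039 = n4514 := d9_2 D4156 D7039 (iv D4514) D4515 (iv F6884) (iv D7038) (iv D4155)
def n7040 : Q := act 1 n4157
theorem D7040 : act 1 n4157 = n7040 := rfl
def n7041 : Q := act 2 n4157
theorem D7041 : act 2 n4157 = n7041 := rfl
def n7042 : Q := act 3 n4157
theorem D7042 : act 3 n4157 = n7042 := rfl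
def n7043 : Q := act 4 n4157
theorem D7043 : act 4 n4157 = n7043 := rfl
theorem F6888 : act 0 n7043 = n4158 := d3_1 D7043 (iv D4158) D4157
def n7044 : Q := act 2 n4158
theorem D7044 : act 2 n4158 = n7044 := rfl
theorem F6889 : act 3 n7044 = n4516 := d7_2 (iv F4989) D7044 (iv D4516)
def n7045 : Q := act 2 n4161
theorem D7045 : act 2 n4161 = n7045 := rfl
theorem F6890 : act 4 n7045 = n6992 := d17_3 (iv D4164) D4161 D7045 (iv D6992) (iv D4126) (iv D2020) F451 (iv F409) D1844 F3394 (iv F1239) (iv F3124)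
def n7046 : Q := act 3 n4161
theorem D7046 : act 3 n4161 = n7046 := rfl
theorem F6891 : act 1 n7046 = n4163 := d5_1 D7046 (iv D4163) D4161
def n7047 : Q := act 4 n4161
theorem D7047 : act 4 n4161 = n7047 := rfl
theorem F6892 : act 1 n7047 = n4164 := d6_1 D7047 (iv D4164) D4161
def n7048 : Q := act 1 n4162
theorem D7048 : act 1 n4162 = n7048 := rfl
def n7049 : Q := act 3 n4162
theorem D7049 : act 3 n4162 = n7049 := rfl
theorem F6893 : act 2 n7049 = n4163 := d7_1 D7049 (iv D4163) D4162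
def n7050 : Q := act 4 n4162
theorem D7050 : act 4 n4162 = n7050 := rfl
def n7051 : Q := act 2 n4164
theorem D7051 : act 2 n4164 = n7051 := rfl
def n7052 : Q := act 0 n4165
theorem D7052 : act 0 n4165 = n7052 := rfl
def n7053 : Q := act 3 n4166
theorem D7053 : act 3 n4166 = n7053 := rfl
theorem F6894 : act 1 n7053 = n4568 := d5_1 D7053 (iv F4632) F4633
def n7054 : Q := act 3 n4175
theorem D7054 : act 3 n4175 = n7054 := rfl
theorem F6895 : act 1 n7054 = n4631 := d5_1 D7054 (iv F4595) (iv F3138)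
theorem F6896 : act 2 n7054 = n4176 := d7_1 D7054 (iv D4176) D4175
theorem F6897 : act 0 n7054 = n4209 := d10_1 D7054 F3162 D4210 F3867 F3112 D4142 (iv F3132)
theorem F6898 : act 4 n7054 = n6417 := d12_1 D7054 F5882 (iv F5393) (iv F6728) F6849 (iv D7014) (iv F3132)
def n7055 : Q := act 4 n4176
theorem D7055 : act 4 n4176 = n7055 := rfl
theorem F6899 : act 0 n7055 = n7015 := d3_1 D7055 (iv D7015) F3866
theorem F6900 : act 1 n7055 = n4182 := d6_1 D7055 (iv D4182) (iv F3133)
theorem F6901 : act 2 n7055 = n6415 := d8_1 D7055 (iv D6415) F2679 D3630 D6417 (iv F6898) F6896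
theorem F6902 : act 3 n7055 = n4436 := d12_2 D4176 D7055 F3357 F3166 (iv D4211) (iv D2060) (iv F1243)
def n7056 : Q := act 3 n4177
theorem D7056 : act 3 n4177 = n7056 := rfl
theorem F6903 : act 1 n7056 = n4184 := d5_1 D7056 (iv D4184) (iv F3135)
theorem F6904 : act 2 n7056 = n6416 := d7_1 D7056 (iv D6416) (iv F3136)
theorem F6905 : act 4 n7056 = n4435 := d9_2 D4177 D7056 (iv D4435) D4436 (iv F6902) (iv D7055) (iv D4176)
theorem F6906 : act 0 n7056 = n7016 := d10_1 D7056 F6854 F6726 (iv D6030) F2398 (iv F1254) (iv F3134)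
def n7057 : Q := act 2 n4180
theorem D7057 : act 2 n4180 = n7057 := rfl
theorem F6907 : act 0 n7057 = n4194 := d11_3 D2045 D4180 D7057 (iv D4194) (iv D2051) (iv D872) D871
def n7058 : Q := act 2 n4181
theorem D7058 : act 2 n4181 = n7058 := rfl
theorem F6908 : act 0 n7058 = n4187 := d1_1 D7058 (iv F6610) (iv D4933) (iv D2580) D2579 F3812 D4181
def n7059 : Q := act 3 n4181
theorem D7059 : act 3 n4181 = n7059 := rfl
theorem F6909 : act 0 n7059 = n4198 := d2_1 D7059 (iv D4198) (iv D2052) (iv D873) D871 D2046 D4181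
theorem F6910 : act 1 n7059 = n4894 := d5_1 D7059 F3881 F3865
def n7060 : Q := act 4 n4181
theorem D7060 : act 4 n4181 = n7060 := rfl
theorem F6911 : act 0 n7060 = n4182 := d3_1 D7060 (iv D4182) D4181
def n7061 : Q := act 2 n4182
theorem D7061 : act 2 n4182 = n7061 := rfl
theorem F6912 : act 3 n7061 = n4462 := d7_2 (iv F3140) D7061 (iv D4462)
def n7062 : Q := act 0 n4183
theorem D7062 : act 0 n4183 = n7062 := rfl
def n7063 : Q := act 1 n4183
theorem D7063 : act 1 n4183 = n7063 := rfl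
def n7064 : Q := act 3 n4183
theorem D7064 : act 3 n4183 = n7064 := rfl
theorem F6913 : act 2 n7064 = n4184 := d7_1 D7064 (iv D4184) D4183
def n7065 : Q := act 4 n4183
theorem D7065 : act 4 n4183 = n7065 := rfl
def n7066 : Q := act 0 n4184
theorem D7066 : act 0 n4184 = n7066 := rfl
theorem F6914 : act 4 n7066 = n4461 := d3_2 (iv F3141) D7066 (iv D4461)
def n7067 : Q := act 3 n4185
theorem D7067 : act 3 n4185 = n7067 := rfl
theorem F6915 : act 1 n7067 = n4187 := d5_1 D7067 (iv D4187) D4185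
def n7068 : Q := act 4 n4185
theorem D7068 : act 4 n4185 = n7068 := rfl
theorem F6916 : act 1 n7068 = n4188 := d6_1 D7068 (iv D4188) D4185
theorem F6917 : act 2 n7068 = n5470 := d11_2 F4796 D7068 (iv F6717) (iv D6902) (iv D4059) D4057 (iv F4797)
def n7069 : Q := act 4 n4186
theorem D7069 : act 4 n4186 = n7069 := rfl
theorem F6918 : act 2 n7069 = n4201 := d11_2 D4186 D7069 (iv D4201) (iv D2054) (iv D874) D872 D2048
def n7070 : Q := act 4 n4187
theorem D7070 : act 4 n4187 = n7070 := rfl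
def n7071 : Q := act 3 n4188
theorem D7071 : act 3 n4188 = n7071 := rfl
def n7072 : Q := act 4 n4189
theorem D7072 : act 4 n4189 = n7072 := rfl
theorem F6919 : act 0 n7072 = n4191 := d3_1 D7072 (iv D4191) D4189
theorem F6920 : act 1 n7072 = n5361 := d6_1 D7072 (iv F4880) F4878
theorem F6921 : act 2 n7072 = n5677 := d8_1 D7072 (iv F4725) F2818 D6561 F6110 (iv D5767) (iv F3143)
theorem F6922 : act 3 n5857 = n7072 := d7_0 F6921 (iv F4727) (iv F5020)
def n7073 : Q := act 0 n4190
theorem D7073 : act 0 n4190 = n7073 := rfl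
theorem F6923 : act 2 n7073 = n5772 := d1_2 F6166 D7073 F4893 F3051 (iv F2222) (iv F4902) (iv F6164)
theorem F6924 : act 3 n7073 = n5771 := d2_2 D4190 D7073 F4892 F3220 (iv F3114) (iv F3144) (iv D4189)
theorem F6925 : act 4 n5850 = n7073 := d12_1 D5850 F6924 F4892 F3220 F4865 (iv D4322) (iv F2276)
def n7074 : Q := act 4 n4190
theorem D7074 : act 4 n4190 = n7074 := rfl
theorem F6926 : act 0 n7074 = n5850 := d3_1 D7074 F6925 (iv D7073)
theorem F6927 : act 1 n7074 = n4193 := d6_1 D7074 (iv D4193) (iv F3145)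
theorem F6928 : act 2 n7074 = n5845 := d8_1 D7074 (iv F6493) F6116 D6566 (iv F6132) F6167 F6166
theorem F6929 : act 3 n4470 = n7074 := d7_0 F6928 (iv F6491) F6492
theorem E847 : n4474 = n4193 := ((c5_2 F6929 F6927 (iv D4474) (iv F3447))).symm
theorem F6930 : act 3 n4193 = n2223 := (sb E847 (iv D4474))
theorem E848 : n4472 = n4195 := (c9_5 D4193 F6930 (iv D2223) D2222 D4472 (iv D4195) (iv D2051) D2050)
theorem F6931 : act 4 n4195 = n2222 := (sb E848 (iv D4472))
theorem F6932 : act 3 n4466 = n7070 := d12_4 D2050 D4193 F6930 (iv F3438) (iv D7070) (iv D4187) (iv D2048)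
theorem F6933 : act 4 n7071 = n4465 := d9_6 D4466 F6932 (iv D7070) (iv D4187) D4188 D7071 (iv D4465)
def n7075 : Q := act 3 n4191
theorem D7075 : act 3 n4191 = n7075 := rfl
theorem F6934 : act 1 n7075 = n4195 := d5_1 D7075 (iv D4195) (iv F3146)
theorem F6935 : act 2 n7075 = n5843 := d7_1 D7075 F6125 F6119
theorem F6936 : act 4 n7075 = n4469 := d9_2 D4191 D7075 (iv D4469) D4470 F6929 (iv D7074) (iv D4190)
theorem F6937 : act 0 n7075 = n5849 := d10_1 D7075 F5001 (iv F4991) F4990 (iv F4724) (iv F6921) F6919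
def n7076 : Q := act 1 n4192
theorem D7076 : act 1 n4192 = n7076 := rfl
def n7077 : Q := act 2 n4192
theorem D7077 : act 2 n4192 = n7077 := rfl
def n7078 : Q := act 3 n4192
theorem D7078 : act 3 n4192 = n7078 := rfl
def n7079 : Q := act 4 n4192
theorem D7079 : act 4 n4192 = n7079 := rfl
theorem F6938 : act 0 n7079 = n4193 := d3_1 D7079 (iv D4193) D4192
def n7080 : Q := act 2 n4193
theorem D7080 : act 2 n4193 = n7080 := rfl
theorem F6939 : act 3 n7080 = n4473 := d7_2 (iv F6930) D7080 (iv D4473)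
theorem F6940 : act 1 n7080 = n5533 := d16_11 (iv D6885) F3036 (iv D2946) (iv F1364) (iv D2126) (iv F1294) (iv F2276) D5850 (iv F6926) F6927 D7080 (iv F6689)
def n7081 : Q := act 3 n4194
theorem D7081 : act 3 n4194 = n7081 := rfl
theorem F6941 : act 1 n7081 = n5521 := d5_1 D7081 (iv D5521) (iv F4441)
theorem F6942 : act 2 n7081 = n4195 := d7_1 D7081 (iv D4195) D4194
def n7082 : Q := act 4 n4194
theorem D7082 : act 4 n4194 = n7082 := rfl
theorem F6943 : act 1 n7082 = n5522 := d6_1 D7082 (iv D5522) (iv F4441)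
theorem F6944 : act 2 n7082 = n4204 := d8_1 D7082 (iv D4204) (iv D2054) (iv D874) D872 D2051 D4194
def n7083 : Q := act 0 n4195
theorem D7083 : act 0 n4195 = n7083 := rfl
theorem F6945 : act 4 n7083 = n4471 := d3_2 (iv F6931) D7083 (iv D4471)
def n7084 : Q := act 2 n4196
theorem D7084 : act 2 n4196 = n7084 := rfl
theorem F6946 : act 4 n7084 = n6190 := d11_1 D7084 F5511 (iv F3106) D6992 (iv F6890) (iv D7045) (iv F3147)
theorem F6947 : act 0 n7084 = n7045 := d15_1 D7084 (iv D7045) (iv D4161) (iv D2035) F457 F157 F55 (iv F157) (iv F457) D2035 D4161 (iv F3147)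
theorem F6948 : act 3 n6196 = n7084 := d12_0 F6946 (iv D6190) F2493 D3444 F3415 F3414 (iv F5520)
def n7085 : Q := act 3 n4196
theorem D7085 : act 3 n4196 = n7085 := rfl
theorem F6949 : act 1 n7085 = n4198 := d5_1 D7085 (iv D4198) D4196
theorem F6950 : act 2 n7085 = n6196 := d7_1 D7085 F6948 (iv D7084)
theorem F6951 : act 0 n7085 = n4256 := d10_1 D7085 (iv F3413) (iv F5520) F6948 F6947 (iv D7045) (iv F3147)
theorem F6952 : act 4 n4361 = n7085 := d3_0 F6951 (iv F3208) D4361
def n7086 : Q := act 4 n4196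
theorem D7086 : act 4 n4196 = n7086 := rfl
theorem F6953 : act 0 n7086 = n7047 := d3_1 D7086 (iv D7047) (iv F3147)
theorem F6954 : act 1 n7086 = n4199 := d6_1 D7086 (iv D4199) D4196
theorem F6955 : act 3 n7086 = n4360 := d12_2 (iv D7085) D7086 F3284 (iv F3210) (iv D4257) D4256 (iv F6951)
theorem F6956 : act 2 n6181 = n7086 := d7_3 F6955 F3285 D6181
def n7087 : Q := act 1 n4197
theorem D7087 : act 1 n4197 = n7087 := rfl
def n7088 : Q := act 4 n4197
theorem D7088 : act 4 n4197 = n7088 := rfl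
def n7089 : Q := act 4 n4198
theorem D7089 : act 4 n4198 = n7089 := rfl
theorem F6957 : act 1 n7089 = n4361 := d6_1 D7089 F6952 F6949
theorem F6958 : act 3 n7089 = n4205 := d12_2 D4198 D7089 (iv D4205) (iv D2055) (iv D874) D873 D2052
def n7090 : Q := act 2 n4199
theorem D7090 : act 2 n4199 = n7090 := rfl
def n7091 : Q := act 3 n4199
theorem D7091 : act 3 n4199 = n7091 := rfl
theorem F6959 : act 1 n7091 = n4360 := d5_1 D7091 (iv F6955) F6954
theorem F6960 : act 4 n7091 = n4358 := d9_2 D4199 D7091 F3967 (iv F3151) (iv F6958) (iv D7089) (iv D4198)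
def n7092 : Q := act 0 n4200
theorem D7092 : act 0 n4200 = n7092 := rfl
def n7093 : Q := act 1 n4200
theorem D7093 : act 1 n4200 = n7093 := rfl
theorem F6961 : act 2 n7093 = n5269 := d4_2 D4200 D7093 F6536 (iv D6626) F2845 F3393 (iv F1246)
theorem F6962 : act 3 n7093 = n4479 := d5_2 (iv F3149) D7093 (iv D4479)
theorem F6963 : act 4 n5240 = n7093 := d8_0 F6961 (iv D5269) (iv F2779) D6530 F6056 (iv D5241) D5240
theorem F6964 : act 0 n5289 = n7093 := d11_7 F6961 (iv D5269) (iv F2779) F2777 F1872 D2862 (iv F5302)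
def n7094 : Q := act 4 n4200
theorem D7094 : act 4 n4200 = n7094 := rfl
theorem F6965 : act 1 n7094 = n5240 := d6_1 D7094 F6963 (iv D7093)
theorem F6966 : act 3 n4204 = n7094 := d5_0 F6965 (iv F6041) (iv F6053)
def n7095 : Q := act 1 n4201
theorem D7095 : act 1 n4201 = n7095 := rfl
theorem F6967 : act 0 n7095 = n5600 := d13_3 D2054 D4201 D7095 (iv D5600) (iv F4097) F4098 F2398 (iv F1254) (iv F3134) F3135 F1244
theorem F6968 : act 2 n7095 = n5086 := d14_1 D7095 F4075 F1951 (iv F1958) D5454 (iv F6220) (iv D6627) (iv F6049) (iv F6050) (iv D4202) D4201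
theorem F6969 : act 3 n5098 = n7095 := d7_0 F6968 F4076 D5098
def n7096 : Q := act 3 n4201
theorem D7096 : act 3 n4201 = n7096 := rfl
theorem F6970 : act 1 n7096 = n5098 := d5_1 D7096 F6969 (iv D7095)
def n7097 : Q := act 4 n4201
theorem D7097 : act 4 n4201 = n7097 := rfl
theorem F6971 : act 0 n7097 = n4204 := d3_1 D7097 (iv D4204) D4201
def n7098 : Q := act 0 n4202
theorem D7098 : act 0 n4202 = n7098 := rfl
theorem F6972 : act 4 n7098 = n5300 := d3_2 F6052 D7098 (iv F6040)
theorem F6973 : act 3 n7098 = n5303 := d10_4 (iv F4453) (iv F6047) (iv F6050) D7098 F4426 (iv F4264) F4443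
theorem F6974 : act 2 n7098 = n5365 := d11_4 D3763 D6529 (iv F6050) D7098 F4428 (iv F2767) F2766
def n7099 : Q := act 3 n4202
theorem D7099 : act 3 n4202 = n7099 := rfl
theorem F6975 : act 0 n7099 = n5284 := d2_1 D7099 F4461 F1876 D4347 (iv F4426) (iv F6973) (iv D7098)
theorem F6976 : act 1 n7099 = n4203 := d5_1 D7099 (iv D4203) D4202
theorem F6977 : act 2 n7099 = n5250 := d7_1 D7099 (iv F6048) (iv F6050)
theorem F6978 : act 4 n5226 = n7099 := d8_0 F6977 (iv D5250) (iv F2774) (iv D3762) F1066 D2772 D5226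
def n7100 : Q := act 0 n4203
theorem D7100 : act 0 n4203 = n7100 := rfl
def n7101 : Q := act 4 n4203
theorem D7101 : act 4 n4203 = n7101 := rfl
theorem F6979 : act 1 n7101 = n5226 := d6_1 D7101 F6978 F6976
theorem F6980 : act 3 n7101 = n4480 := d9_1 D7101 (iv D4480) (iv F3149) D7094 (iv F6966) (iv D4204) D4203
def n7102 : Q := act 1 n4205
theorem D7102 : act 1 n4205 = n7102 := rfl
theorem F6981 : act 0 n7102 = n6998 := d0_1 D7102 F6835 F3110 F1235 (iv F2050) (iv F1247) D4205
theorem F6982 : act 3 n7102 = n4361 := d5_2 F6958 D7102 (iv F6957)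
theorem F6983 : act 4 n7102 = n4359 := d6_2 (iv F3151) D7102 F3964
theorem F6984 : act 2 n7102 = n6180 := d15_6 (iv F2056) F1085 F2056 (iv F1247) D4205 D7102 (iv F6811) (iv F6836) F6835 F3110 F1235 (iv F2050)
def n7103 : Q := act 2 n4205
theorem D7103 : act 2 n4205 = n7103 := rfl
def n7104 : Q := act 3 n4208
theorem D7104 : act 3 n4208 = n7104 := rfl
theorem F6985 : act 0 n7104 = n7014 := d2_1 D7104 (iv D7014) (iv F3132) D7054 F6897 (iv D4209) D4208
theorem F6986 : act 2 n7104 = n4210 := d7_1 D7104 F3867 (iv F3155)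
theorem F6987 : act 4 n7104 = n6031 := d9_2 (iv F3156) D7104 F5347 F3403 F4964 (iv F5351) (iv D6033)
def n7105 : Q := act 4 n4210
theorem D7105 : act 4 n4210 = n7105 := rfl
theorem F6988 : act 0 n7105 = n4211 := d3_1 D7105 (iv D4211) D4210
theorem F6989 : act 1 n7105 = n4341 := d6_1 D7105 F3273 F3868
theorem F6990 : act 2 n7105 = n5105 := d8_1 D7105 (iv D5105) F1785 D3298 D6031 (iv F6987) F6986
theorem F6991 : act 3 n7105 = n4335 := d12_2 (iv F3867) D7105 (iv F3469) F6852 (iv D7015) (iv D4143) (iv F3112)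
def n7106 : Q := act 0 n4212
theorem D7106 : act 0 n4212 = n7106 := rfl
theorem F6992 : act 2 n7106 = n6030 := d1_2 (iv F3168) D7106 (iv F6726) (iv F6854) (iv F6906) F6904 F5881
theorem F6993 : act 3 n7106 = n4351 := d2_2 D4212 D7106 F3276 D7016 (iv F6906) (iv D7056) F3134
theorem F6994 : act 4 n7106 = n4334 := d3_2 (iv F3169) D7106 F3995
theorem F6995 : act 1 n4339 = n7106 := d6_3 F6994 F3267 D4339
def n7107 : Q := act 3 n4213
theorem D7107 : act 3 n4213 = n7107 := rfl
theorem F6996 : act 1 n7107 = n4215 := d5_1 D7107 (iv D4215) D4213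
theorem F6997 : act 2 n7107 = n4684 := d7_1 D7107 (iv D4684) F3171
theorem F6998 : act 0 n7107 = n6082 := d10_1 D7107 F5409 F2437 (iv D1591) (iv F890) D3374 (iv F3170)
def n7108 : Q := act 4 n4213
theorem D7108 : act 4 n4213 = n7108 := rfl
theorem F6999 : act 0 n7108 = n6112 := d3_1 D7108 (iv D6112) (iv F3170)
theorem F7000 : act 1 n7108 = n4216 := d6_1 D7108 (iv D4216) D4213
theorem F7001 : act 3 n4363 = n7108 := d5_0 F7000 F4850 (iv F3292)
theorem E849 : n6086 = n6083 := ((c12_6 F7001 (iv D7108) D7107 F6998 (iv D6082) D6083 (iv D6086) (iv F3291))).symm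
theorem F7002 : act 3 n6083 = n3357 := (sb E849 (iv D6086))
def n7109 : Q := act 3 n4214
theorem D7109 : act 3 n4214 = n7109 := rfl
theorem F7003 : act 1 n7109 = n4965 := d5_1 D7109 F3941 (iv F3173)
theorem F7004 : act 2 n7109 = n4215 := d7_1 D7109 (iv D4215) D4214
theorem F7005 : act 0 n7109 = n4244 := d10_1 D7109 (iv D4244) (iv D2074) (iv D882) D881 D2071 (iv F3172)
theorem F7006 : act 1 n4244 = n4244 := d15_5 D4269 F3216 D4965 (iv F7003) F7005 (iv D4244) (iv D2074) F465 F162 D354 D888 D2090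
theorem F7007 : act 0 n4243 = n4640 := d16_12 (iv D4640) D4639 F3621 (iv D4153) D4154 F3174 (iv F3172) D7109 F7005 F7006 (iv D4244) D4243
theorem E850 : n5770 = n4954 := ((c0_4 D4243 F7007 F3623 D4954 (iv D5770) (iv D3100) F783 D2074)).symm
theorem F7008 : act 1 n4954 = n3100 := (sb E850 (iv D5770))
def n7110 : Q := act 4 n4214
theorem D7110 : act 4 n4214 = n7110 := rfl
theorem F7009 : act 0 n7110 = n4239 := d3_1 D7110 (iv D4239) (iv F3172)
theorem F7010 : act 1 n7110 = n5699 := d6_1 D7110 (iv D5699) (iv F3173)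
theorem F7011 : act 2 n7110 = n4229 := d11_2 D4214 D7110 (iv D4229) (iv D2068) (iv D880) D878 D2062
theorem F7012 : act 3 n4365 = n7110 := d7_0 F7011 F3191 (iv F3298)
theorem E851 : n5699 = n4968 := (c5_2 F7012 F7010 (iv D4968) (iv F3297))
theorem F7013 : act 1 n4968 = n7110 := (sb E851 (iv F7010))
theorem F7014 : act 4 n4968 = n3060 := (sb E851 (iv D5699))
def n7111 : Q := act 4 n4215
theorem D7111 : act 4 n4215 = n7111 := rfl
theorem F7015 : act 0 n7111 = n4260 := d3_1 D7111 (iv D4260) (iv F3175)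
theorem F7016 : act 3 n7111 = n4366 := d9_1 D7111 (iv D4366) (iv D2153) D2154 (iv F4850) (iv D4216) D4215
def n7112 : Q := act 4 n4217
theorem D7112 : act 4 n4217 = n7112 := rfl
theorem F7017 : act 0 n7112 = n4220 := d3_1 D7112 (iv D4220) D4217
theorem F7018 : act 2 n7112 = n5648 := d8_1 D7112 (iv D5648) F2122 D3639 D6422 F5892 F4768
def n7113 : Q := act 3 n4218
theorem D7113 : act 3 n4218 = n7113 := rfl
theorem F7019 : act 1 n7113 = n4637 := d5_1 D7113 (iv F4670) F4669
theorem F7020 : act 2 n7113 = n4219 := d7_1 D7113 (iv D4219) D4218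
theorem F7021 : act 4 n6428 = n7113 := d17_3 D1741 (iv F2699) D6428 F7020 F3178 D4221 (iv F3809) (iv D4825) (iv D2510) D2508 F1600 F960
def n7114 : Q := act 0 n4219
theorem D7114 : act 0 n4219 = n7114 := rfl
theorem F7022 : act 3 n7114 = n4944 := d2_2 D4219 D7114 (iv F6862) (iv D7020) (iv F4767) (iv F4769) (iv D4217)
theorem F7023 : act 2 n7114 = n4944 := d10_2 D4219 D7114 (iv F6862) (iv D7020) (iv F4767) F4768 (iv D4217)
theorem F7024 : act 1 n4945 = n7114 := d16_5 (iv F3913) F3912 F3925 F3923 (iv F3929) (iv D7114) (iv D4219) D4217 (iv F4770) F4771 (iv F4760) F4761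
def n7115 : Q := act 4 n4219
theorem D7115 : act 4 n4219 = n7115 := rfl
theorem F7025 : act 1 n7115 = n4222 := d6_1 D7115 (iv D4222) (iv F3178)
theorem F7026 : act 2 n7115 = n6425 := d8_1 D7115 (iv D6425) F2695 D3643 D6428 F7021 F7020
theorem F7027 : act 3 n4443 = n7115 := d5_0 F7025 F4854 (iv F3428)
def n7116 : Q := act 3 n4220
theorem D7116 : act 3 n4220 = n7116 := rfl
theorem F7028 : act 1 n7116 = n4224 := d5_1 D7116 (iv D4224) (iv F3179)
theorem F7029 : act 2 n7116 = n6426 := d7_1 D7116 (iv D6426) (iv F3180)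
theorem F7030 : act 4 n7116 = n4442 := d9_2 D4220 D7116 (iv D4442) D4443 F7027 (iv D7115) (iv D4219)
def n7117 : Q := act 3 n4221
theorem D7117 : act 3 n4221 = n7117 := rfl
theorem F7031 : act 0 n7117 = n4259 := d2_1 D7117 (iv D4259) (iv F3175) (iv D4215) (iv D2062) D2064 D4221
theorem F7032 : act 4 n4381 = n7117 := d3_0 F7031 F4852 D4381
def n7118 : Q := act 4 n4221
theorem D7118 : act 4 n4221 = n7118 := rfl
theorem F7033 : act 0 n7118 = n4222 := d3_1 D7118 (iv D4222) D4221
theorem F7034 : act 3 n7118 = n4376 := d12_2 (iv D7117) D7118 F3309 (iv F4853) (iv D4260) D4259 (iv F7031)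
def n7119 : Q := act 2 n4222
theorem D7119 : act 2 n4222 = n7119 := rfl
theorem F7035 : act 3 n7119 = n4423 := d7_2 (iv F4854) D7119 F3351
def n7120 : Q := act 1 n4223
theorem D7120 : act 1 n4223 = n7120 := rfl
def n7121 : Q := act 3 n4223
theorem D7121 : act 3 n4223 = n7121 := rfl
theorem F7036 : act 2 n7121 = n4224 := d7_1 D7121 (iv D4224) D4223
def n7122 : Q := act 0 n4224
theorem D7122 : act 0 n4224 = n7122 := rfl
theorem F7037 : act 3 n7122 = n4381 := d2_2 D4224 D7122 (iv D4381) (iv D2162) (iv F1316) (iv F4850) F3176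
theorem F7038 : act 4 n7122 = n4375 := d3_2 (iv F4851) D7122 F3308
def n7123 : Q := act 3 n4225
theorem D7123 : act 3 n4225 = n7123 := rfl
theorem F7039 : act 0 n7123 = n4245 := d2_1 D7123 (iv D4245) (iv D2074) (iv D882) D881 D2072 (iv F3183)
theorem F7040 : act 1 n7123 = n4926 := d5_1 D7123 (iv D4926) (iv F3182)
theorem F7041 : act 2 n7123 = n4226 := d7_1 D7123 (iv D4226) D4225
theorem F7042 : act 4 n6345 = n6467 := d17_3 F4856 (iv F3340) (iv F5777) (iv D6467) F2722 (iv F2607) (iv F5712) (iv F5714) (iv D4929) (iv F3909) (iv F7040) F7039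
theorem F7043 : act 1 n6467 = n6347 := d6_1 F7042 (iv D6347) (iv F5776)
theorem F7044 : act 4 n4411 = n7123 := d17_0 F7040 F3909 D4929 F5714 F5712 F2607 (iv F2722) D6467 (iv F7042) F5777 F3340 D4411
def n7124 : Q := act 4 n4225
theorem D7124 : act 4 n4225 = n7124 := rfl
theorem F7045 : act 0 n7124 = n4240 := d3_1 D7124 (iv D4240) (iv F3183)
theorem F7046 : act 1 n7124 = n4927 := d6_1 D7124 (iv D4927) (iv F3182)
theorem F7047 : act 3 n7124 = n4387 := d12_2 (iv D7123) D7124 F3318 (iv F4839) (iv D4246) D4245 (iv F7039)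
def n7125 : Q := act 2 n4227
theorem D7125 : act 2 n4227 = n7125 := rfl
theorem F7048 : act 3 n7125 = n4388 := d7_2 (iv F3189) D7125 (iv D4388)
theorem F7049 : act 0 n7125 = n4450 := d10_3 (iv F2084) (iv F3187) D7125 (iv D4450) (iv D2204) (iv D936) (iv F488)
theorem F7050 : act 4 n4912 = n7125 := d3_0 F7049 F5742 F4357
theorem F7051 : act 1 n7125 = n4914 := d6_1 F7050 (iv D4914) D4912
def n7126 : Q := act 0 n4228
theorem D7126 : act 0 n4228 = n7126 := rfl
theorem F7052 : act 3 n7126 = n4389 := d10_4 (iv F3189) F3187 D4228 D7126 (iv D4389) (iv D2167) (iv F1332)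
def n7127 : Q := act 1 n4228
theorem D7127 : act 1 n4228 = n7127 := rfl
theorem F7053 : act 3 n7127 = n4447 := d5_2 (iv F3190) D7127 (iv D4447)
def n7128 : Q := act 4 n4228
theorem D7128 : act 4 n4228 = n7128 := rfl
def n7129 : Q := act 1 n4229
theorem D7129 : act 1 n4229 = n7129 := rfl
theorem F7054 : act 3 n7129 = n4392 := d5_2 (iv F3191) D7129 (iv D4392)
theorem F7055 : act 0 n7129 = n6130 := d13_3 D2068 D4229 D7129 (iv D6130) F2451 F898 (iv F405) F406 F161 (iv F163) (iv F464)
def n7130 : Q := act 4 n4229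
theorem D7130 : act 4 n4229 = n7130 := rfl
theorem F7056 : act 0 n7130 = n4232 := d3_1 D7130 (iv D4232) D4229
theorem F7057 : act 2 n7130 = n4676 := d8_1 D7130 F5807 F5805 (iv D4216) D4214 D7110 F7011
theorem F7058 : act 1 n4688 = n7130 := d4_7 F7057 (iv D4676) (iv D2417) F557 D1046 D2428 D4688
theorem F7059 : act 4 n7129 = n4688 := d6_0 F7058 (iv D7130) D7129
def n7131 : Q := act 0 n4230
theorem D7131 : act 0 n4230 = n7131 := rfl
def n7132 : Q := act 2 n4230
theorem D7132 : act 2 n4230 = n7132 := rfl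
theorem F7060 : act 1 n7132 = n5608 := d4_1 D7132 (iv D5608) F2039 (iv F1254) F1253 D2068 D4230
theorem F7061 : act 4 n7132 = n6445 := d17_3 (iv D4232) D4230 D7132 (iv D6445) F2705 (iv F2796) (iv F4177) F4178 (iv F1819) D4688 F7058 F7056
def n7133 : Q := act 3 n4230
theorem D7133 : act 3 n4230 = n7133 := rfl
theorem F7062 : act 1 n7133 = n4231 := d5_1 D7133 (iv D4231) D4230
def n7134 : Q := act 4 n4230
theorem D7134 : act 4 n4230 = n7134 := rfl
theorem F7063 : act 1 n7134 = n4232 := d6_1 D7134 (iv D4232) D4230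
theorem F7064 : act 2 n7134 = n6442 := d8_1 D7134 (iv D6442) (iv D3652) D3654 D6445 (iv F7061) (iv D7132)
def n7135 : Q := act 0 n4231
theorem D7135 : act 0 n4231 = n7135 := rfl
theorem F7065 : act 3 n7135 = n4398 := d2_2 D4231 D7135 (iv D4398) (iv D2171) D2169 (iv F3191) (iv D4229)
def n7136 : Q := act 4 n4231
theorem D7136 : act 4 n4231 = n7136 := rfl
def n7137 : Q := act 3 n4232
theorem D7137 : act 3 n4232 = n7137 := rfl
def n7138 : Q := act 2 n4233
theorem D7138 : act 2 n4233 = n7138 := rfl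
theorem F7066 : act 3 n7138 = n4402 := d7_2 (iv F3193) D7138 (iv D4402)
theorem F7067 : act 0 n7138 = n4266 := d10_3 D2069 D4233 D7138 (iv D4266) (iv D2084) (iv D886) (iv F464)
theorem F7068 : act 4 n5198 = n7138 := d3_0 F7067 (iv F4390) F4389
theorem F7069 : act 1 n7138 = n5199 := d6_1 F7068 (iv D5199) D5198
def n7139 : Q := act 3 n4234
theorem D7139 : act 3 n4234 = n7139 := rfl
theorem F7070 : act 1 n7139 = n6847 := d5_1 D7139 (iv D6847) (iv F3196)
theorem F7071 : act 2 n7139 = n5594 := d7_1 D7139 (iv D5594) F3197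
def n7140 : Q := act 4 n4234
theorem D7140 : act 4 n4234 = n7140 := rfl
theorem F7072 : act 0 n7140 = n4237 := d3_1 D7140 (iv D4237) D4234
theorem F7073 : act 1 n7140 = n6848 := d6_1 D7140 (iv D6848) (iv F3196)
def n7141 : Q := act 3 n4235
theorem D7141 : act 3 n4235 = n7141 := rfl
theorem F7074 : act 2 n7141 = n4236 := d7_1 D7141 (iv D4236) D4235
theorem F7075 : act 4 n6481 = n7141 := d17_3 F2785 (iv F2734) (iv F5990) F7074 F3199 (iv F3183) F3182 (iv D2574) D2576 D4930 (iv F5658) F5656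
theorem F7076 : act 2 n6482 = n4629 := d11_4 (iv F7074) (iv F7075) F5990 D6482 (iv D4629) D4627 (iv F4601)
def n7142 : Q := act 4 n4236
theorem D7142 : act 4 n4236 = n7142 := rfl
theorem F7077 : act 1 n7142 = n4240 := d6_1 D7142 (iv D4240) (iv F3199)
theorem F7078 : act 3 n4416 = n7142 := d5_0 F7077 F4855 (iv F3346)
def n7143 : Q := act 2 n4237
theorem D7143 : act 2 n4237 = n7143 := rfl
theorem F7079 : act 1 n7143 = n6948 := d4_1 D7143 (iv D6948) F3080 D4097 (iv F4465) (iv D4241) (iv F3200)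
theorem F7080 : act 4 n7143 = n6454 := d8_2 D4237 D7143 (iv D6454) (iv D3661) D3659 (iv F3198) (iv D4235)
theorem F7081 : act 0 n6857 = n6454 := d17_12 (iv F7080) F7079 (iv D6948) (iv D4095) F1954 F1952 D3581 F2642 (iv D1947) D1949 D4016 D6857
def n7144 : Q := act 3 n4237
theorem D7144 : act 3 n4237 = n7144 := rfl
theorem F7082 : act 1 n7144 = n4242 := d5_1 D7144 (iv D4242) (iv F3200)
theorem F7083 : act 4 n7144 = n4415 := d9_2 D4237 D7144 (iv D4415) D4416 F7078 (iv D7142) (iv D4236)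
def n7145 : Q := act 4 n4238
theorem D7145 : act 4 n4238 = n7145 := rfl
theorem F7084 : act 2 n7145 = n4450 := d11_2 (iv F3201) D7145 (iv F7049) (iv D7125) (iv D4227) D4225 F3183
theorem F7085 : act 3 n4419 = n7145 := d7_0 F7084 (iv D4450) (iv F3349)
def n7146 : Q := act 3 n4239
theorem D7146 : act 3 n4239 = n7146 := rfl
theorem F7086 : act 2 n7146 = n4266 := d7_1 D7146 (iv D4266) (iv F3202)
theorem F7087 : act 4 n7146 = n4418 := d9_2 D4239 D7146 (iv D4418) D4419 F7085 (iv D7145) (iv D4238)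
def n7147 : Q := act 2 n4240
theorem D7147 : act 2 n4240 = n7147 := rfl
theorem F7088 : act 3 n7147 = n4421 := d7_2 (iv F4855) D7147 (iv D4421)
def n7148 : Q := act 3 n4241
theorem D7148 : act 3 n4241 = n7148 := rfl
theorem F7089 : act 1 n7148 = n6951 := d5_1 D7148 (iv D6951) (iv F4465)
theorem F7090 : act 2 n7148 = n4242 := d7_1 D7148 (iv D4242) D4241
def n7149 : Q := act 0 n4242
theorem D7149 : act 0 n4242 = n7149 := rfl
theorem F7091 : act 3 n7149 = n4411 := d2_2 D4242 D7149 (iv D4411) (iv D2182) F487 F4837 (iv F1257)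
theorem F7092 : act 4 n7149 = n4386 := d3_2 (iv F4838) D7149 F3315
theorem F7093 : act 1 n5029 = n7149 := d6_3 F7092 F3316 D5029
def n7150 : Q := act 2 n4243
theorem D7150 : act 2 n4243 = n7150 := rfl
theorem F7094 : act 1 n7150 = n7150 := d4_1 D7150 (iv D7150) (iv D4243) D4244 F7006 (iv D4244) D4243
theorem F7095 : act 4 n7150 = n6462 := d11_1 D7150 (iv D6462) D6461 F5948 (iv D4643) (iv F3624) (iv F7007)
theorem F7096 : act 0 n7150 = n5787 := d14_3 D4243 D7150 F7094 (iv D5787) (iv D3112) (iv D1413) (iv D585) (iv F285) (iv F784) F783 D2074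
theorem F7097 : act 3 n6466 = n7150 := d16_2 D5735 F6297 F7094 (iv D7150) (iv D4243) (iv D2074) (iv D882) D881 D2070 D4235 (iv F4802) (iv D5734)
def n7151 : Q := act 3 n4243
theorem D7151 : act 3 n4243 = n7151 := rfl
theorem F7098 : act 0 n7151 = n5635 := d2_1 D7151 (iv D5635) (iv F3157) (iv F3621) (iv D4639) D4640 (iv F7007)
theorem F7099 : act 1 n7151 = n4245 := d5_1 D7151 (iv D4245) D4243
theorem F7100 : act 2 n7151 = n6466 := d7_1 D7151 F7097 (iv D7150)
theorem F7101 : act 4 n4406 = n7151 := d8_0 F7100 (iv D6466) F2721 D3686 D6467 (iv F7042) F5777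
theorem E852 : n4655 = n4641 := ((c12_6 D4406 F7101 (iv D7151) F7007 (iv D4640) D4641 (iv D4655) F1490)).symm
theorem E853 : n2621 = n2591 := (((F3625).symm.trans (sb E852 F3646))).symm
theorem F7102 : act 3 n4641 = n2394 := (sb E852 (iv D4655))
theorem E855 : n4995 = n4956 := (((D4956).symm.trans (sb E853 (iv F3971)))).symm
theorem E856 : n4957 = n1149 := ((D4957).symm.trans (sb E853 (iv D2621)))
theorem F7103 : act 1 n4956 = n6720 := (sb E855 (iv F6387))
theorem F7104 : act 3 n4956 = n2620 := (sb E855 (iv D4995))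
theorem F7105 : act 3 n1149 = n2591 := (sb E856 (iv D4957))
theorem E858 : n4994 = n4955 := ((c9_5 D1149 F7105 (iv D2591) D2590 D4955 (iv D4994) (iv D2619) (iv D1148))).symm
theorem F7106 : act 3 n4955 = n2619 := (sb E858 (iv D4994))
def n7152 : Q := act 4 n4243
theorem D7152 : act 4 n4243 = n7152 := rfl
theorem F7107 : act 1 n7152 = n4246 := d6_1 D7152 (iv D4246) D4243
theorem F7108 : act 3 n7152 = n4405 := d9_1 D7152 (iv D4405) (iv D2176) D2177 D4406 F7101 (iv D7151)
def n7153 : Q := act 3 n4244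
theorem D7153 : act 3 n4244 = n7153 := rfl
theorem F7109 : act 1 n7153 = n7153 := d5_1 D7153 (iv D7153) F7006
theorem F7110 : act 2 n7153 = n4245 := d7_1 D7153 (iv D4245) D4244
theorem F7111 : act 4 n7153 = n4408 := d12_1 D7153 (iv D4408) (iv F3296) F7012 (iv D7110) D7109 F7005
theorem F7112 : act 2 n4456 = n6356 := d8_3 F7111 F3343 D4456 (iv D6356) F2636 (iv F4856) (iv F7110)
def n7154 : Q := act 4 n4244
theorem D7154 : act 4 n4244 = n7154 := rfl
theorem F7113 : act 1 n7154 = n7154 := d6_1 D7154 (iv D7154) F7006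
theorem F7114 : act 3 n7154 = n4407 := d9_1 D7154 (iv D4407) (iv D2178) D2179 D4408 (iv F7111) (iv D7153)
theorem F7115 : act 2 n7154 = n4262 := d11_2 D4244 D7154 (iv D4262) (iv D2082) (iv D885) (iv F465) D2074
def n7155 : Q := act 0 n4247
theorem D7155 : act 0 n4247 = n7155 := rfl
theorem F7116 : act 2 n7155 = n4260 := d10_2 (iv F4841) D7155 (iv F7015) F7016 F3299 (iv F3351) (iv D4423)
theorem F7117 : act 3 n4377 = n7155 := d7_0 F7116 F4853 D4377
theorem F7118 : act 4 n5399 = n4377 := d12_1 D5399 F7117 (iv D7155) F4841 F5730 (iv D2868) D2867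
theorem E859 : n4400 = n4391 := ((c8_7 F7118 (iv D4377) (iv D2160) F486 D921 D2167 D4391 (iv F4386))).symm
theorem F7119 : act 2 n4391 = n5399 := (sb E859 (iv F4386))
theorem F7120 : act 3 n4391 = n2172 := (sb E859 (iv D4400))
def n7156 : Q := act 2 n4254
theorem D7156 : act 2 n4254 = n7156 := rfl
theorem F7121 : act 0 n7156 = n4255 := d10_3 (iv D4256) D4254 D7156 F3414 (iv F5520) (iv F6950) F6951
theorem F7122 : act 4 n7156 = n5921 := d11_1 D7156 F5119 F2315 (iv F2496) F3415 (iv D4255) D4254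
theorem F7123 : act 1 n7156 = n5783 := d14_2 (iv F3206) D7156 F4913 (iv D4644) (iv F3492) F3491 F2437 F891 F326 D888 D2090
theorem F7124 : act 3 n5924 = n7156 := d9_7 F7122 (iv D5921) (iv F4926) (iv D4296) F1276 D3219 D5924
def n7157 : Q := act 3 n4254
theorem D7157 : act 3 n4254 = n7157 := rfl
theorem F7125 : act 0 n7157 = n7046 := d2_1 D7157 (iv D7046) (iv F3147) D7085 F6951 (iv D4256) D4254
theorem F7126 : act 1 n7157 = n4270 := d5_1 D7157 (iv D4270) (iv F3206)
theorem F7127 : act 2 n7157 = n5924 := d7_1 D7157 F7124 (iv D7156)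
theorem F7128 : act 4 n7157 = n4299 := d12_1 D7157 (iv D4299) F1282 D2150 F3208 (iv D4256) D4254
theorem E860 : n5926 = n5919 := ((c8_3 F7128 F3238 D5919 (iv D5926) (iv D3221) (iv F2316) D5924 (iv F7127))).symm
theorem E861 : n5067 = n5046 := (((F5117).symm.trans (sb E860 F6645))).symm
theorem F7129 : act 2 n5919 = n3221 := (sb E860 (iv D5926))
theorem F7130 : act 2 n5046 = n2672 := (sb E861 (iv D5067))
def n7158 : Q := act 4 n4254
theorem D7158 : act 4 n4254 = n7158 := rfl
theorem F7131 : act 0 n7158 = n4257 := d3_1 D7158 (iv D4257) D4254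
theorem F7132 : act 1 n7158 = n4271 := d6_1 D7158 (iv D4271) (iv F3206)
theorem F7133 : act 3 n7158 = n4298 := d9_1 D7158 (iv D4298) (iv D2109) D2110 D4299 (iv F7128) (iv D7157)
theorem F7134 : act 2 n7158 = n5917 := d11_2 (iv D7156) D7158 F5116 F3211 (iv D4257) D4255 (iv F7121)
def n7159 : Q := act 0 n4258
theorem D7159 : act 0 n4258 = n7159 := rfl
theorem F7135 : act 2 n7159 = n7159 := d13_4 F7004 F3175 D4258 D7159 (iv D7159) (iv D4258) (iv F3175) (iv F7004) F7005 F7006 (iv F7005)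
theorem F7136 : act 1 n7159 = n4959 := d15_5 F465 D884 D2079 D4258 D7159 (iv D4959) (iv D2592) (iv F1697) (iv F3623) (iv F7007) (iv D4243) (iv D2074)
def n7160 : Q := act 2 n4258
theorem D7160 : act 2 n4258 = n7160 := rfl
theorem F7137 : act 0 n7160 = n5776 := d15_7 F4157 (iv F3671) (iv F6997) F6996 F3175 D4258 D7160 F4901 (iv D5776) (iv F4818) F4816 (iv F4158)
def n7161 : Q := act 3 n4258
theorem D7161 : act 3 n4258 = n7161 := rfl
theorem F7138 : act 1 n7161 = n4259 := d5_1 D7161 (iv D4259) D4258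
theorem F7139 : act 4 n4372 = n7161 := d6_0 F7138 F4852 (iv F3305)
theorem F7140 : act 2 n7161 = n6239 := d8_1 F7139 (iv D6239) F2538 D3479 (iv F5636) (iv D6228) (iv F3306)
theorem F7141 : act 3 n6239 = n7160 := d7_2 D7161 F7140 (iv D7160)
theorem F7142 : act 4 n7160 = n6234 := d9_2 D6239 F7141 (iv D6234) F3808 (iv D4369) F1320 D3477
def n7162 : Q := act 4 n4258
theorem D7162 : act 4 n4258 = n7162 := rfl
theorem F7143 : act 1 n7162 = n4260 := d6_1 D7162 (iv D4260) D4258
theorem F7144 : act 3 n7162 = n4371 := d9_1 D7162 (iv D4371) (iv D2157) D2158 D4372 F7139 (iv D7161)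
theorem F7145 : act 2 n6226 = n7162 := d7_3 F7144 (iv F3807) D6226
def n7163 : Q := act 0 n4261
theorem D7163 : act 0 n4261 = n7163 := rfl
theorem F7146 : act 3 n7163 = n4446 := d2_2 (iv F3213) D7163 (iv D4446) (iv F3190) D7126 F7052 (iv D4389)
def n7164 : Q := act 1 n4261
theorem D7164 : act 1 n4261 = n7164 := rfl
theorem F7147 : act 3 n7164 = n4390 := d5_2 (iv F3213) D7164 (iv D4390)
def n7165 : Q := act 4 n4261
theorem D7165 : act 4 n4261 = n7165 := rfl
theorem F7148 : act 3 n7165 = n4399 := d9_1 D7165 (iv D4399) (iv D2171) D2172 (iv F7120) (iv D4391) (iv F3213)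
def n7166 : Q := act 1 n4262
theorem D7166 : act 1 n4262 = n7166 := rfl
theorem F7149 : act 3 n7166 = n6334 := d5_2 F5723 D7166 (iv F5719)
theorem F7150 : act 0 n7166 = n4564 := d13_3 D2082 D4262 D7166 F3524 (iv F3508) F3507 (iv F5116) (iv F7134) F7131 F3209 F1258
theorem F7151 : act 2 n7166 = n6335 := d14_1 D7166 F5762 F5763 F4060 (iv F4079) (iv F6324) (iv D6691) (iv F5739) F5288 F5731 D4262
theorem E862 : n4570 = n4565 := ((c12_6 D5394 (iv F5720) (iv F7149) F7150 (iv D4564) D4565 (iv D4570) (iv F1925))).symm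
theorem F7152 : act 1 n4565 = n2594 := (sb E862 F3528)
theorem F7153 : act 3 n4565 = n2328 := (sb E862 (iv D4570))
theorem E863 : n4964 = n4563 := (c6_3 D4565 F7152 D4964 (iv D4563))
theorem F7154 : act 4 n4563 = n2594 := (sb E863 (iv D4964))
theorem F7155 : act 4 n4956 = n6713 := d8_6 F7154 (iv D2594) (iv D1133) D1131 D2591 D4956 F6379
theorem E864 : n6720 = n6714 := ((c6_3 F7155 (iv D6713) D6714 (iv F7103))).symm
theorem F7156 : act 1 n6714 = n4956 := (sb E864 (iv F7103))
theorem F7157 : act 3 n6714 = n3888 := (sb E864 (iv D6720))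
def n7167 : Q := act 3 n4265
theorem D7167 : act 3 n4265 = n7167 := rfl
theorem F7158 : act 1 n7167 = n4266 := d5_1 D7167 (iv D4266) D4265
theorem F7159 : act 2 n7167 = n6366 := d7_1 D7167 (iv D6366) (iv F4468)
def n7168 : Q := act 1 n4269
theorem D7168 : act 1 n4269 = n7168 := rfl
theorem F7160 : act 0 n7168 = n4958 := d0_1 D7168 (iv D4958) (iv D2592) F628 D1134 D2595 (iv F3216)
theorem F7161 : act 2 n7168 = n5775 := d4_2 D4269 D7168 F4900 D5783 (iv F7123) (iv D7156) F3206
def n7169 : Q := act 3 n4269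
theorem D7169 : act 3 n4269 = n7169 := rfl
theorem F7162 : act 2 n7169 = n4270 := d7_1 D7169 (iv D4270) D4269
theorem F7163 : act 4 n7169 = n4304 := d12_1 D7169 (iv D4304) F1288 D2605 (iv F1711) (iv F1701) (iv F3216)
theorem F7164 : act 0 n7169 = n6850 := d16_8 (iv D6860) F3005 D4684 F3670 F1505 D2595 (iv F3216) D7169 (iv D6850) D6851 (iv F6629) (iv F6639)
def n7170 : Q := act 4 n4269
theorem D7170 : act 4 n4269 = n7170 := rfl
theorem F7165 : act 0 n7170 = n4966 := d3_1 D7170 (iv D4966) (iv F3216)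
theorem F7166 : act 3 n7170 = n4302 := d9_1 D7170 (iv D4302) (iv D2112) D2113 D4304 (iv F7163) (iv D7169)
def n7171 : Q := act 0 n4270
theorem D7171 : act 0 n4270 = n7171 := rfl
theorem F7167 : act 1 n7171 = n4892 := d0_2 F7126 D7171 F3879 (iv F6870) F6869 (iv F6891) (iv F7125)
theorem F7168 : act 3 n7171 = n4891 := d2_2 D4270 D7171 F3878 (iv D4138) (iv D2025) (iv F468) D2090
theorem F7169 : act 4 n7171 = n4314 := d3_2 (iv F3217) D7171 (iv D4314)
def n7172 : Q := act 2 n4271
theorem D7172 : act 2 n4271 = n7172 := rfl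
theorem F7170 : act 3 n7172 = n4309 := d7_2 (iv F3219) D7172 (iv D4309)
def n7173 : Q := act 1 n4272
theorem D7173 : act 1 n4272 = n7173 := rfl
theorem F7171 : act 2 n7173 = n5786 := d15_6 D3105 (iv F4818) F4817 (iv D4273) D4272 D7173 (iv D5786) (iv D3112) (iv D1413) (iv D585) (iv F285) D1409
def n7174 : Q := act 2 n4272
theorem D7174 : act 2 n4272 = n7174 := rfl
theorem F7172 : act 0 n7174 = n4965 := d1_1 D7174 (iv D4965) (iv F3216) (iv D4269) (iv D2090) D2091 D4272
theorem F7173 : act 1 n7174 = n7174 := d4_1 D7174 (iv D7174) D7173 F7171 F4918 (iv F7171) (iv D7173)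
def n7175 : Q := act 3 n4272
theorem D7175 : act 3 n4272 = n7175 := rfl
theorem F7174 : act 4 n7175 = n4320 := d12_1 D7175 (iv D4320) F1292 D2127 (iv F4868) (iv F1262) D4272
def n7176 : Q := act 4 n4272
theorem D7176 : act 4 n4272 = n7176 := rfl
theorem F7175 : act 0 n7176 = n4274 := d3_1 D7176 (iv D4274) D4272
theorem F7176 : act 3 n7176 = n4319 := d9_1 D7176 (iv D4319) (iv D2120) D2121 D4320 (iv F7174) (iv D7175)
def n7177 : Q := act 4 n4273
theorem D7177 : act 4 n4273 = n7177 := rfl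
theorem F7177 : act 1 n7177 = n4274 := d6_1 D7177 (iv D4274) D4273
theorem F7178 : act 3 n7177 = n4321 := d9_1 D7177 (iv D4321) (iv D2122) D2123 D4322 (iv F4865) (iv F3220)
def n7178 : Q := act 2 n4274
theorem D7178 : act 2 n4274 = n7178 := rfl
theorem F7179 : act 3 n7178 = n4327 := d7_2 (iv F4869) D7178 (iv D4327)
theorem F7180 : act 1 n7178 = n5523 := d16_5 (iv F6922) F5019 (iv F7178) F7177 D7178 (iv D5523) (iv D2938) D2937 (iv F4441) (iv D4194) (iv F3146) (iv F6919)
def n7179 : Q := act 0 n4275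
theorem D7179 : act 0 n4275 = n7179 := rfl
def n7180 : Q := act 1 n4275
theorem D7180 : act 1 n4275 = n7180 := rfl
theorem F7181 : act 3 n7180 = n4343 := d5_2 (iv F3221) D7180 (iv D4343)
def n7181 : Q := act 4 n4275
theorem D7181 : act 4 n4275 = n7181 := rfl
theorem F7182 : act 3 n7181 = n4349 := d9_1 D7181 (iv D4349) (iv D2136) D2137 (iv F5113) (iv D4344) (iv F3221)
def n7182 : Q := act 0 n4296
theorem D7182 : act 0 n4296 = n7182 := rfl
theorem F7183 : act 4 n7182 = n5920 := d3_2 (iv F4926) D7182 F5118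
theorem F7184 : act 2 n7182 = n4297 := d10_2 D4296 D7182 (iv D4297) (iv D2109) F473 D913 (iv F1278)
theorem F7185 : act 3 n7182 = n6997 := d12_4 (iv D3219) (iv F1276) D4296 D7182 F6834 F6813 (iv D5923)
def n7183 : Q := act 4 n4297
theorem D7183 : act 4 n4297 = n7183 := rfl
theorem F7186 : act 0 n7183 = n4298 := d3_1 D7183 (iv D4298) D4297
theorem F7187 : act 1 n7183 = n7004 := d6_1 D7183 (iv D7004) F3966
theorem F7188 : act 2 n7183 = n5916 := d8_1 D7183 (iv D5916) F2310 D3216 D5920 (iv F7183) F7184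
theorem F7189 : act 3 n7183 = n7047 := d12_2 (iv F3965) D7183 (iv F6953) F6955 (iv D4360) D4359 F3963
def n7184 : Q := act 0 n4299
theorem D7184 : act 0 n4299 = n7184 := rfl
theorem F7190 : act 3 n7184 = n6998 := d2_2 D4299 D7184 (iv F6981) F6982 (iv D4361) (iv D2150) (iv F1282)
theorem F7191 : act 4 n7184 = n7046 := d3_2 F7128 D7184 (iv F7125)
theorem F7192 : act 2 n7184 = n5918 := d10_2 D4299 D7184 (iv D5918) (iv D3215) F832 (iv F485) (iv F1282)
theorem F7193 : act 1 n7006 = n7184 := d6_3 F7191 F6891 (iv F6844)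
def n7185 : Q := act 0 n4300
theorem D7185 : act 0 n4300 = n7185 := rfl
theorem F7194 : act 1 n7185 = n5691 := d0_2 (iv F3239) D7185 F4753 (iv D4001) D4000 (iv F3999) (iv D4301)
theorem F7195 : act 2 n7185 = n7185 := d1_2 (iv F3240) D7185 (iv D7185) F3240 D5790 F4920 (iv D5790)
theorem F7196 : act 3 n7185 = n5689 := d16_2 D4300 D7185 (iv D5689) D5690 F4752 (iv D4370) (iv D2157) D2155 F1318 (iv D1144) D1143 (iv F1285)
def n7186 : Q := act 2 n4301
theorem D7186 : act 2 n4301 = n7186 := rfl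
theorem F7197 : act 0 n7186 = n4317 := d1_1 D7186 F3253 (iv F3242) (iv D4306) (iv D2114) (iv F1287) D4301
def n7187 : Q := act 3 n4301
theorem D7187 : act 3 n4301 = n7187 := rfl
theorem F7198 : act 0 n7187 = n4337 := d2_1 D7187 (iv D4337) F1295 (iv D1139) (iv F474) D2112 D4301
theorem F7199 : act 1 n7187 = n4666 := d5_1 D7187 F3658 (iv F3999)
def n7188 : Q := act 4 n4301
theorem D7188 : act 4 n4301 = n7188 := rfl
theorem F7200 : act 0 n7188 = n4302 := d3_1 D7188 (iv D4302) D4301
theorem F7201 : act 1 n7188 = n6839 := d6_1 D7188 (iv D6839) (iv F3999)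
def n7189 : Q := act 2 n4302
theorem D7189 : act 2 n4302 = n7189 := rfl
def n7190 : Q := act 3 n4303
theorem D7190 : act 3 n4303 = n7190 := rfl
theorem F7202 : act 2 n7190 = n4304 := d7_1 D7190 (iv D4304) D4303
def n7191 : Q := act 4 n4303
theorem D7191 : act 4 n4303 = n7191 := rfl
theorem F7203 : act 0 n7191 = n4330 := d3_1 D7191 (iv D4330) (iv F3241)
theorem F7204 : act 2 n7191 = n4313 := d8_1 D7191 (iv D4313) (iv D2116) (iv D900) D898 D2113 D4303
def n7192 : Q := act 0 n4304
theorem D7192 : act 0 n4304 = n7192 := rfl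
theorem F7205 : act 4 n7192 = n6850 := d3_2 F7163 D7192 (iv F7164)
theorem F7206 : act 1 n6852 = n7192 := d6_3 F7205 (iv D6850) D6852
def n7193 : Q := act 4 n4305
theorem D7193 : act 4 n4305 = n7193 := rfl
theorem F7207 : act 1 n7193 = n4308 := d6_1 D7193 (iv D4308) D4305
theorem F7208 : act 3 n7193 = n4893 := d12_2 (iv F3997) D7193 F3880 F3312 (iv D4384) (iv F1328) D2639
def n7194 : Q := act 1 n4306
theorem D7194 : act 1 n4306 = n7194 := rfl
def n7195 : Q := act 3 n4306
theorem D7195 : act 3 n4306 = n7195 := rfl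
theorem F7209 : act 0 n7195 = n4325 := d2_1 D7195 (iv D4325) (iv D2124) (iv D903) D901 D2120 (iv F3242)
theorem F7210 : act 2 n7195 = n4307 := d7_1 D7195 (iv D4307) D4306
def n7196 : Q := act 4 n4306
theorem D7196 : act 4 n4306 = n7196 := rfl
theorem F7211 : act 0 n7196 = n4319 := d3_1 D7196 (iv D4319) (iv F3242)
def n7197 : Q := act 4 n4307
theorem D7197 : act 4 n4307 = n7197 := rfl
theorem F7212 : act 0 n7197 = n4339 := d3_1 D7197 (iv D4339) (iv F3243)
theorem F7213 : act 1 n7197 = n5021 := d6_1 D7197 (iv D5021) F3996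
theorem F7214 : act 3 n7197 = n4314 := d12_2 D4307 D7197 (iv D4314) (iv D2117) (iv D900) D899 D2114
def n7198 : Q := act 2 n4308
theorem D7198 : act 2 n4308 = n7198 := rfl
def n7199 : Q := act 3 n4308
theorem D7199 : act 3 n4308 = n7199 := rfl
theorem F7215 : act 0 n7199 = n4341 := d2_1 D7199 (iv D4341) F1296 (iv F2080) (iv F3218) F3219 (iv F3244)
theorem F7216 : act 1 n7199 = n4893 := d5_1 D7199 (iv F7208) F7207
theorem F7217 : act 4 n7199 = n4891 := d9_2 D4308 D7199 (iv F7168) F7169 (iv F7214) (iv D7197) (iv D4307)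
def n7200 : Q := act 0 n4309
theorem D7200 : act 0 n4309 = n7200 := rfl
def n7201 : Q := act 1 n4309
theorem D7201 : act 1 n4309 = n7201 := rfl
def n7202 : Q := act 4 n4309
theorem D7202 : act 4 n4309 = n7202 := rfl
def n7203 : Q := act 3 n4310
theorem D7203 : act 3 n4310 = n7203 := rfl
theorem F7218 : act 1 n7203 = n6669 := d5_1 D7203 F6281 (iv F3246)
theorem F7219 : act 2 n7203 = n4968 := d7_1 D7203 (iv D4968) (iv F3245)
theorem F7220 : act 0 n7203 = n4352 := d10_1 D7203 (iv D4352) (iv D2138) (iv D908) (iv F475) D2116 D4310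
def n7204 : Q := act 0 n4311
theorem D7204 : act 0 n4311 = n7204 := rfl
theorem F7221 : act 1 n7204 = n6716 := d0_2 D4311 D7204 (iv D6716) (iv D3886) D3885 (iv F3246) (iv D4310)
theorem F7222 : act 2 n7204 = n7204 := d1_2 F4017 D7204 (iv D7204) (iv F4017) (iv F4237) F4239 F4237
def n7205 : Q := act 3 n4311
theorem D7205 : act 3 n4311 = n7205 := rfl
theorem F7223 : act 1 n7205 = n4312 := d5_1 D7205 (iv D4312) D4311
def n7206 : Q := act 4 n4311
theorem D7206 : act 4 n4311 = n7206 := rfl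
theorem F7224 : act 1 n7206 = n4313 := d6_1 D7206 (iv D4313) D4311
theorem F7225 : act 2 n7206 = n5975 := d8_1 D7206 (iv D5975) (iv D3251) D3253 (iv F4232) F4233 F4017
def n7207 : Q := act 0 n4312
theorem D7207 : act 0 n4312 = n7207 := rfl
def n7208 : Q := act 4 n4312
theorem D7208 : act 4 n4312 = n7208 := rfl
def n7209 : Q := act 3 n4313
theorem D7209 : act 3 n4313 = n7209 := rfl
def n7210 : Q := act 1 n4314
theorem D7210 : act 1 n4314 = n7210 := rfl
theorem F7226 : act 3 n7210 = n5021 := d5_2 F7214 D7210 (iv F7213)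
theorem F7227 : act 4 n7210 = n4892 := d6_2 F7169 D7210 (iv F7167)
def n7211 : Q := act 2 n4314
theorem D7211 : act 2 n4314 = n7211 := rfl
theorem F7228 : act 0 n7211 = n4345 := d10_3 D2117 D4314 D7211 (iv D4345) (iv D2134) (iv D907) (iv F475)
def n7212 : Q := act 0 n4315
theorem D7212 : act 0 n4315 = n7212 := rfl
theorem F7229 : act 2 n7212 = n5792 := d1_2 (iv F3249) D7212 (iv D5792) F2231 D3117 D5795 F4930
theorem F7230 : act 3 n7212 = n5892 := d2_2 D4315 D7212 F5081 (iv F4946) F4945 (iv D4647) F1483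
def n7213 : Q := act 4 n4315
theorem D7213 : act 4 n4315 = n7213 := rfl
theorem F7231 : act 1 n7213 = n4319 := d6_1 D7213 (iv D4319) (iv F3248)
def n7214 : Q := act 3 n4316
theorem D7214 : act 3 n4316 = n7214 := rfl
theorem F7232 : act 1 n7214 = n4320 := d5_1 D7214 (iv D4320) (iv F3250)
theorem F7233 : act 2 n7214 = n5125 := d7_1 D7214 (iv D5125) (iv F3251)
def n7215 : Q := act 4 n4317
theorem D7215 : act 4 n4317 = n7215 := rfl
theorem F7234 : act 1 n7215 = n7215 := d6_1 D7215 (iv D7215) F3252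
def n7216 : Q := act 3 n4318
theorem D7216 : act 3 n4318 = n7216 := rfl
theorem F7235 : act 1 n7216 = n7216 := d5_1 D7216 (iv D7216) F3255
theorem F7236 : act 2 n7216 = n4345 := d7_1 D7216 (iv D4345) (iv F3256)
def n7217 : Q := act 2 n4319
theorem D7217 : act 2 n4319 = n7217 := rfl
def n7218 : Q := act 0 n4320
theorem D7218 : act 0 n4320 = n7218 := rfl
def n7219 : Q := act 0 n4323
theorem D7219 : act 0 n4323 = n7219 := rfl
theorem F7237 : act 2 n7219 = n5869 := d1_2 (iv F3259) D7219 (iv D5869) (iv D3177) (iv D1467) D1468 D3180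
def n7220 : Q := act 3 n4323
theorem D7220 : act 3 n4323 = n7220 := rfl
theorem F7238 : act 1 n7220 = n4325 := d5_1 D7220 (iv D4325) D4323
theorem F7239 : act 2 n7220 = n5807 := d7_1 D7220 F4951 (iv F3259)
theorem F7240 : act 0 n7220 = n4660 := d10_1 D7220 (iv D4660) D4659 F5047 D5869 (iv F7237) (iv D7219)
def n7221 : Q := act 4 n4323
theorem D7221 : act 4 n4323 = n7221 := rfl
theorem F7241 : act 1 n7221 = n4326 := d6_1 D7221 (iv D4326) D4323
theorem F7242 : act 2 n7221 = n5882 := d11_2 (iv F3259) D7221 (iv D5882) (iv D3185) (iv D1470) D1468 D3180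
def n7222 : Q := act 3 n4324
theorem D7222 : act 3 n4324 = n7222 := rfl
theorem F7243 : act 2 n7222 = n4325 := d7_1 D7222 (iv D4325) D4324
theorem F7244 : act 1 n5009 = n7222 := d15_5 (iv F1350) (iv F3308) (iv F3985) (iv D5010) D5009 F7243 (iv F7209) F7210 (iv F3996) (iv D2639) (iv F1331) F1330
theorem F7245 : act 2 n5009 = n4465 := d4_2 (iv F7243) (iv F7244) F4947 (iv D5808) D5807 (iv F7239) F7238
theorem F7246 : act 3 n4464 = n5009 := d7_0 F7245 (iv D4465) D4464
def n7223 : Q := act 4 n4324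
theorem D7223 : act 4 n4324 = n7223 := rfl
theorem F7247 : act 0 n7223 = n4967 := d3_1 D7223 (iv D4967) (iv F3260)
theorem F7248 : act 2 n7223 = n4342 := d11_2 D4324 D7223 (iv D4342) (iv D2132) (iv D906) (iv F476) D2124
def n7224 : Q := act 4 n4325
theorem D7224 : act 4 n4325 = n7224 := rfl
theorem F7249 : act 3 n7224 = n4331 := d12_2 D4325 D7224 (iv D4331) (iv D2127) (iv D904) D903 D2124
def n7225 : Q := act 2 n4326
theorem D7225 : act 2 n4326 = n7225 := rfl
theorem F7250 : act 0 n7225 = n4969 := d11_3 (iv D4324) D4326 D7225 (iv D4969) (iv D2603) (iv F1708) (iv F3260)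
def n7226 : Q := act 3 n4326
theorem D7226 : act 3 n4326 = n7226 := rfl
theorem F7251 : act 4 n7226 = n7013 := d9_2 D4326 D7226 (iv D7013) (iv F4867) (iv F7249) (iv D7224) (iv D4325)
def n7227 : Q := act 0 n4327
theorem D7227 : act 0 n4327 = n7227 := rfl
theorem F7252 : act 2 n7227 = n4338 := d1_2 D4327 D7227 F3271 D4969 (iv F7250) (iv D7225) F3261
def n7228 : Q := act 1 n4327
theorem D7228 : act 1 n4327 = n7228 := rfl
theorem F7253 : act 3 n7228 = n5523 := d5_2 F7179 D7228 (iv F7180)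
theorem F7254 : act 0 n7228 = n5543 := d13_3 (iv F7252) (iv D7227) D7228 (iv D5543) F2004 F749 (iv F751) (iv F2170) (iv F634) (iv F1709) (iv F3271)
theorem F7255 : act 4 n5530 = n7228 := d12_1 D5530 F7253 (iv D5523) (iv D2938) D2939 (iv F4847) (iv F1999)
def n7229 : Q := act 4 n4327
theorem D7229 : act 4 n4327 = n7229 := rfl
theorem F7256 : act 1 n7229 = n5530 := d6_1 D7229 F7255 (iv D7228)
theorem F7257 : act 2 n7229 = n4344 := d8_1 D7229 (iv D4344) (iv D2132) (iv D906) (iv F476) D2125 D4327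
theorem F7258 : act 3 n4330 = n7229 := d7_0 F7257 F5113 (iv F3265)
def n7230 : Q := act 0 n4329
theorem D7230 : act 0 n4329 = n7230 := rfl
theorem F7259 : act 2 n7230 = n4971 := d1_2 (iv F3263) D7230 (iv D4971) (iv F3944) (iv F6037) (iv F6038) (iv D4331)
def n7231 : Q := act 4 n4329
theorem D7231 : act 4 n4329 = n7231 := rfl
theorem F7260 : act 1 n7231 = n5529 := d6_1 D7231 (iv D5529) (iv F3262)
theorem F7261 : act 2 n7231 = n4349 := d8_1 D7231 (iv D4349) F1298 (iv F2067) D2026 F4868 (iv F3263)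
def n7232 : Q := act 1 n4331
theorem D7232 : act 1 n4331 = n7232 := rfl
theorem F7262 : act 2 n7232 = n5745 := d4_2 (iv F6038) D7232 F4809 F4130 F2763 D3758 D6522
theorem F7263 : act 4 n7232 = n5731 := d6_2 (iv F4867) D7232 F4798
def n7233 : Q := act 2 n4335
theorem D7233 : act 2 n4335 = n7233 := rfl
theorem F7264 : act 3 n7233 = n5105 := d7_2 F6991 D7233 (iv F6990)
theorem F7265 : act 4 n7233 = n6068 := d8_2 D4335 D7233 (iv D6068) (iv D3342) D3341 F3403 (iv D4333)
theorem F7266 : act 0 n7233 = n4439 := d10_3 (iv F6852) F3469 D7233 F3425 (iv F5878) (iv F6901) F6899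
theorem F7267 : act 1 n5107 = n7233 := d16_3 (iv D4530) (iv F1790) D5107 (iv D7233) F3268 F1296 (iv F2080) (iv F3218) (iv F7132) F7134 F5115 F4016
def n7234 : Q := act 4 n4336
theorem D7234 : act 4 n4336 = n7234 := rfl
theorem F7268 : act 0 n7234 = n5902 := d3_1 D7234 (iv D5902) (iv F3269)
theorem F7269 : act 1 n7234 = n4338 := d6_1 D7234 (iv D4338) D4336
theorem F7270 : act 2 n7234 = n5104 := d11_2 F4958 D7234 F4095 (iv F2295) (iv D3168) D3167 F4959
theorem F7271 : act 3 n7234 = n5103 := d12_2 F4956 D7234 F4093 (iv F3978) (iv D5000) F3976 (iv F4953)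
def n7235 : Q := act 4 n4337
theorem D7235 : act 4 n4337 = n7235 := rfl
theorem F7272 : act 1 n7235 = n5145 := d6_1 D7235 (iv F4954) (iv F4955)
theorem F7273 : act 3 n7235 = n4971 := d12_2 D4337 D7235 (iv D4971) (iv D2605) (iv D1140) D1139 (iv F1295)
def n7236 : Q := act 3 n4338
theorem D7236 : act 3 n4338 = n7236 := rfl
theorem F7274 : act 1 n7236 = n5103 := d5_1 D7236 (iv F7271) F7269
theorem F7275 : act 4 n7236 = n5697 := d9_2 D4338 D7236 (iv D5697) (iv F3945) (iv F7273) (iv D7235) (iv D4337)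
def n7237 : Q := act 2 n4339
theorem D7237 : act 2 n4339 = n7237 := rfl
theorem F7276 : act 3 n7237 = n4352 := d7_2 (iv F3272) D7237 (iv D4352)
def n7238 : Q := act 0 n4340
theorem D7238 : act 0 n4340 = n7238 := rfl
theorem F7277 : act 2 n7238 = n4967 := d1_2 D4340 D7238 (iv F7247) F7248 (iv D4342) (iv D2132) (iv F1296)
theorem F7278 : act 1 n7238 = n6746 := d13_2 D4340 D7238 (iv D6746) (iv D3914) F1120 F425 (iv F429) F3391 F176 (iv F477) (iv F1296)
theorem F7279 : act 2 n6747 = n5911 := d17_8 (iv D1141) (iv F632) (iv F1708) D4967 (iv F7277) F7278 (iv D6746) D6747 (iv D5911) (iv D3210) F826 (iv F634)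
theorem F7280 : act 1 n6748 = n5909 := d17_1 D6748 (iv D5909) (iv D3209) (iv D1492) (iv D617) (iv F223) (iv F632) (iv F1708) D4967 (iv F7277) F7278 (iv D6746)
theorem F7281 : act 4 n5909 = n6747 := d6_2 D6748 F7280 (iv D6747)
def n7239 : Q := act 1 n4340
theorem D7239 : act 1 n4340 = n7239 := rfl
def n7240 : Q := act 3 n4340
theorem D7240 : act 3 n4340 = n7240 := rfl
theorem F7282 : act 2 n7240 = n4341 := d7_1 D7240 (iv D4341) D4340
def n7241 : Q := act 4 n4340
theorem D7241 : act 4 n4340 = n7241 := rfl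
def n7242 : Q := act 1 n4342
theorem D7242 : act 1 n4342 = n7242 := rfl
def n7243 : Q := act 3 n4342
theorem D7243 : act 3 n4342 = n7243 := rfl
def n7244 : Q := act 4 n4342
theorem D7244 : act 4 n4342 = n7244 := rfl
theorem F7283 : act 0 n7244 = n4344 := d3_1 D7244 (iv D4344) D4342
def n7245 : Q := act 4 n4345
theorem D7245 : act 4 n4345 = n7245 := rfl
def n7246 : Q := act 3 n4346
theorem D7246 : act 3 n4346 = n7246 := rfl
def n7247 : Q := act 2 n4348
theorem D7247 : act 2 n4348 = n7247 := rfl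
theorem F7284 : act 0 n7247 = n4968 := d1_1 D7247 (iv F7219) F7220 (iv D4352) (iv D2138) (iv F1298) D4348
theorem F7285 : act 1 n7247 = n7069 := d4_1 D7247 F6918 D7095 F6968 F4075 D5450 F4478
theorem F7286 : act 4 n7247 = n5698 := d11_1 D7247 F4758 (iv D4139) (iv D2026) F2067 (iv F1298) D4348
def n7248 : Q := act 3 n4348
theorem D7248 : act 3 n4348 = n7248 := rfl
def n7249 : Q := act 4 n4348
theorem D7249 : act 4 n4348 = n7249 := rfl
theorem F7287 : act 0 n7249 = n4349 := d3_1 D7249 (iv D4349) D4348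
def n7250 : Q := act 1 n4352
theorem D7250 : act 1 n4352 = n7250 := rfl
def n7251 : Q := act 4 n4352
theorem D7251 : act 4 n4352 = n7251 := rfl
def n7252 : Q := act 3 n4357
theorem D7252 : act 3 n4357 = n7252 := rfl
theorem F7288 : act 0 n7252 = n6997 := d2_1 D7252 (iv F7185) (iv D7182) (iv D4296) F1278 D2147 D4357
theorem F7289 : act 2 n7252 = n4359 := d7_1 D7252 (iv D4359) (iv F3283)
theorem F7290 : act 4 n7252 = n6188 := d9_2 (iv F3282) D7252 F5509 D6196 F6948 F6946 (iv D6190)
def n7253 : Q := act 0 n4358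
theorem D7253 : act 0 n4358 = n7253 := rfl
theorem F7291 : act 1 n7253 = n4383 := d0_2 D4358 D7253 (iv D4383) (iv D2163) (iv D920) (iv F483) D2148
theorem F7292 : act 3 n7253 = n4461 := d2_2 (iv F3967) D7253 (iv D4461) (iv D2218) (iv D944) D946 D2224
def n7254 : Q := act 4 n4362
theorem D7254 : act 4 n4362 = n7254 := rfl
theorem F7293 : act 0 n7254 = n6122 := d3_1 D7254 (iv D6122) (iv F3289)
theorem F7294 : act 1 n7254 = n4366 := d6_1 D7254 (iv D4366) (iv F3287)
def n7255 : Q := act 4 n4364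
theorem D7255 : act 4 n4364 = n7255 := rfl
theorem F7295 : act 0 n7255 = n4419 := d3_1 D7255 (iv D4419) (iv F3295)
theorem F7296 : act 1 n7255 = n4967 := d6_1 D7255 (iv D4967) (iv F3293)
theorem F7297 : act 2 n7255 = n4446 := d11_2 (iv F3294) D7255 (iv D4446) (iv D2202) (iv D935) D933 (iv F1315)
def n7256 : Q := act 2 n4366
theorem D7256 : act 2 n4366 = n7256 := rfl
theorem F7298 : act 0 n7256 = n4421 := d1_1 D7256 (iv D4421) F1344 D2187 D4423 F3351 (iv F3299)
theorem F7299 : act 1 n7256 = n4681 := d17_11 (iv D6028) D6027 (iv F5745) (iv D4466) D4464 F3437 F3260 (iv F3293) F3294 D4366 D7256 (iv F5342)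
theorem F7300 : act 4 n4680 = n7256 := d6_0 F7299 (iv D4681) (iv F3669)
def n7257 : Q := act 0 n4369
theorem D7257 : act 0 n4369 = n7257 := rfl
theorem F7301 : act 2 n7257 = n7257 := d1_2 (iv F3302) D7257 (iv D7257) F3302 D4370 F3303 (iv D4370)
theorem F7302 : act 4 n7257 = n6232 := d3_2 F3808 D7257 (iv D6232)
def n7258 : Q := act 3 n4370
theorem D7258 : act 3 n4370 = n7258 := rfl
theorem F7303 : act 2 n7258 = n7258 := d7_1 D7258 (iv D7258) F3303
def n7259 : Q := act 4 n4373
theorem D7259 : act 4 n4373 = n7259 := rfl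
theorem F7304 : act 1 n7259 = n4376 := d6_1 D7259 (iv D4376) D4373
def n7260 : Q := act 4 n4374
theorem D7260 : act 4 n4374 = n7260 := rfl
theorem F7305 : act 0 n7260 = n4407 := d3_1 D7260 (iv D4407) (iv F3307)
theorem F7306 : act 2 n7260 = n4389 := d11_2 D4374 D7260 (iv D4389) (iv D2167) (iv D921) (iv F486) D2159
def n7261 : Q := act 0 n4377
theorem D7261 : act 0 n4377 = n7261 := rfl
theorem F7307 : act 2 n7261 = n4387 := d1_2 D4377 D7261 F3318 (iv F5725) D6351 F5799 F3309
def n7262 : Q := act 1 n4377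
theorem D7262 : act 1 n4377 = n7262 := rfl
def n7263 : Q := act 0 n4379
theorem D7263 : act 0 n4379 = n7263 := rfl
theorem F7308 : act 1 n7263 = n7191 := d0_2 D4379 D7263 F7203 F3264 F1999 F1363 (iv F1324)
theorem F7309 : act 4 n7263 = n5059 := d3_2 F4385 D7263 (iv F4384)
theorem F7310 : act 2 n7263 = n6262 := d13_4 D930 (iv F1324) D4379 D7263 (iv D6262) (iv F5588) F5587 (iv D4654) F1490 F1339 F487
def n7264 : Q := act 2 n4379
theorem D7264 : act 2 n4379 = n7264 := rfl
theorem F7311 : act 0 n7264 = n5061 := d1_1 D7264 F4039 (iv D3491) D3492 D6262 (iv F7310) (iv D7263)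
theorem F7312 : act 1 n7264 = n4544 := d4_1 D7264 (iv D4544) F1426 (iv F1323) F1322 D2161 D4379
theorem F7313 : act 4 n7264 = n5058 := d8_2 F4385 D7264 F4035 (iv D3494) D3492 D6264 F5623
def n7265 : Q := act 3 n4379
theorem D7265 : act 3 n4379 = n7265 := rfl
theorem F7314 : act 1 n7265 = n4380 := d5_1 D7265 (iv D4380) D4379
def n7266 : Q := act 0 n4380
theorem D7266 : act 0 n4380 = n7266 := rfl
theorem F7315 : act 2 n7266 = n4411 := d1_2 (iv F3310) D7266 (iv D4411) (iv F2636) D6355 F5808 (iv D4381)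
def n7267 : Q := act 4 n4380
theorem D7267 : act 4 n4380 = n7267 := rfl
theorem F7316 : act 2 n7267 = n4399 := d8_1 D7267 (iv D4399) F1334 (iv F2085) (iv F3212) F4852 (iv F3310)
def n7268 : Q := act 1 n4381
theorem D7268 : act 1 n4381 = n7268 := rfl
def n7269 : Q := act 4 n4383
theorem D7269 : act 4 n4383 = n7269 := rfl
theorem F7317 : act 0 n7269 = n4384 := d3_1 D7269 (iv D4384) D4383
def n7270 : Q := act 0 n4385
theorem D7270 : act 0 n4385 = n7270 := rfl
theorem F7318 : act 1 n7270 = n5693 := d0_2 D4385 D7270 (iv D5693) (iv F3338) (iv D4404) F1338 (iv F1329)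
def n7271 : Q := act 4 n4385
theorem D7271 : act 4 n4385 = n7271 := rfl
theorem F7319 : act 1 n7271 = n4387 := d6_1 D7271 (iv D4387) D4385
theorem F7320 : act 3 n4927 = n7271 := d5_0 F7319 (iv F7047) F7046
def n7272 : Q := act 1 n4388
theorem D7272 : act 1 n4388 = n7272 := rfl
theorem F7321 : act 3 n7272 = n4914 := d5_2 F7048 D7272 (iv F7051)
theorem F7322 : act 4 n7272 = n4910 := d6_2 (iv F5722) D7272 (iv F4383)
def n7273 : Q := act 1 n4389
theorem D7273 : act 1 n4389 = n7273 := rfl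
def n7274 : Q := act 4 n4389
theorem D7274 : act 4 n4389 = n7274 := rfl
theorem F7323 : act 0 n7274 = n4391 := d3_1 D7274 (iv D4391) D4389
def n7275 : Q := act 0 n4390
theorem D7275 : act 0 n4390 = n7275 := rfl
theorem F7324 : act 2 n7275 = n7275 := d13_4 F7306 (iv D4389) D4390 D7275 (iv D7275) (iv D4390) D4389 (iv F7306) F7305 F3341 (iv F7305)
def n7276 : Q := act 2 n4390
theorem D7276 : act 2 n4390 = n7276 := rfl
theorem F7325 : act 1 n7276 = n4546 := d4_1 D7276 (iv D4546) F1427 (iv F1327) F1307 D2167 D4390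
def n7277 : Q := act 4 n4390
theorem D7277 : act 4 n4390 = n7277 := rfl
theorem F7326 : act 1 n7277 = n4391 := d6_1 D7277 (iv D4391) D4390
theorem F7327 : act 3 n4397 = n7277 := d5_0 F7326 F7120 (iv F3329)
theorem F7328 : act 2 n7277 = n6318 := d7_1 F7327 (iv D6318) (iv F3330)
def n7278 : Q := act 3 n4393
theorem D7278 : act 3 n4393 = n7278 := rfl
theorem F7329 : act 1 n7278 = n4692 := d5_1 D7278 (iv D4692) F3322
theorem F7330 : act 2 n7278 = n4680 := d7_1 D7278 (iv D4680) (iv F3321)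
theorem F7331 : act 0 n7278 = n4448 := d10_1 D7278 F5760 (iv D5400) (iv D2868) D2867 F1933 (iv F3320)
theorem F7332 : act 4 n7278 = n4446 := d12_1 D7278 (iv F7146) (iv D7163) F3213 D4391 F7120 (iv F3320)
theorem F7333 : act 3 n4448 = n7136 := d12_4 F3191 D4393 D7278 F7331 (iv D7136) (iv D4231) D4229
theorem E865 : n7137 = n7128 := (c9_6 D4448 F7333 (iv D7136) (iv D4231) D4232 D7137 (iv D7128) F3190)
theorem F7334 : act 3 n7128 = n4232 := (sb E865 (iv D7137))
def n7279 : Q := act 3 n4394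
theorem D7279 : act 3 n4394 = n7279 := rfl
theorem F7335 : act 2 n7279 = n7279 := d7_1 D7279 (iv D7279) F3324
def n7280 : Q := act 3 n4395
theorem D7280 : act 3 n4395 = n7280 := rfl
theorem F7336 : act 1 n7280 = n4548 := d5_1 D7280 (iv D4548) (iv F3325)
theorem F7337 : act 2 n7280 = n4396 := d7_1 D7280 (iv D4396) D4395
def n7281 : Q := act 0 n4396
theorem D7281 : act 0 n4396 = n7281 := rfl
theorem F7338 : act 2 n7281 = n7281 := d10_2 D4396 D7281 (iv D7281) (iv D4396) D4394 F3324 (iv D4394)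
def n7282 : Q := act 4 n4396
theorem D7282 : act 4 n4396 = n7282 := rfl
theorem F7339 : act 1 n7282 = n4399 := d6_1 D7282 (iv D4399) (iv F3328)
def n7283 : Q := act 1 n4398
theorem D7283 : act 1 n4398 = n7283 := rfl
def n7284 : Q := act 2 n4398
theorem D7284 : act 2 n4398 = n7284 := rfl
theorem F7340 : act 0 n7284 = n4408 := d1_1 D7284 F3343 (iv F3333) (iv D4402) (iv D2173) (iv F1334) D4398
def n7285 : Q := act 4 n4398
theorem D7285 : act 4 n4398 = n7285 := rfl
theorem F7341 : act 0 n7285 = n4399 := d3_1 D7285 (iv D4399) D4398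
def n7286 : Q := act 0 n4401
theorem D7286 : act 0 n4401 = n7286 := rfl
theorem F7342 : act 4 n7286 = n4894 := d3_2 (iv F3332) D7286 (iv D4894)
def n7287 : Q := act 1 n4402
theorem D7287 : act 1 n4402 = n7287 := rfl
theorem F7343 : act 3 n7287 = n5199 := d5_2 F7066 D7287 (iv F7069)
theorem F7344 : act 4 n4913 = n7287 := d9_0 F7343 (iv D5199) (iv F3899) (iv F7322) F7321 (iv D4914) D4913
def n7288 : Q := act 4 n4402
theorem D7288 : act 4 n4402 = n7288 := rfl
theorem F7345 : act 0 n7288 = n4456 := d3_1 D7288 (iv D4456) (iv F3333)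
theorem F7346 : act 1 n7288 = n4913 := d6_1 D7288 F7344 (iv D7287)
theorem F7347 : act 3 n7288 = n4912 := d9_1 D7288 F7050 F7048 F5722 F4382 F7068 F7066
def n7289 : Q := act 4 n4403
theorem D7289 : act 4 n4403 = n7289 := rfl
theorem F7348 : act 1 n7289 = n7289 := d6_1 D7289 (iv D7289) F3334
theorem F7349 : act 2 n7289 = n6289 := d8_1 D7289 F5661 (iv F4114) F5767 F5766 (iv D4405) (iv F3335)
theorem F7350 : act 3 n7289 = n6462 := d9_1 D7289 (iv F7095) (iv F7097) (iv D6466) (iv D3684) (iv F1336) D4403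
def n7290 : Q := act 4 n4404
theorem D7290 : act 4 n4404 = n7290 := rfl
theorem F7351 : act 0 n7290 = n4405 := d3_1 D7290 (iv D4405) D4404
theorem F7352 : act 1 n7290 = n5694 := d6_1 D7290 (iv D5694) (iv F3338)
theorem F7353 : act 3 n5636 = n7290 := d5_0 F7352 F5015 (iv F4674)
def n7291 : Q := act 0 n4406
theorem D7291 : act 0 n4406 = n7291 := rfl
theorem F7354 : act 4 n7291 = n5635 := d3_2 (iv F7101) D7291 (iv F7098)
theorem F7355 : act 3 n7291 = n5896 := d12_4 (iv D2176) D2177 D4406 D7291 (iv D5896) (iv F3337) (iv D4404)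
theorem F7356 : act 1 n5712 = n7291 := d5_3 F7355 F5088 (iv F5016)
def n7292 : Q := act 1 n4411
theorem D7292 : act 1 n4411 = n7292 := rfl
theorem F7357 : act 3 n7292 = n5029 := d5_2 F7091 D7292 F7093
theorem F7358 : act 4 n7292 = n4926 := d6_2 (iv F7044) D7292 (iv F7040)
def n7293 : Q := act 3 n4413
theorem D7293 : act 3 n4413 = n7293 := rfl
theorem F7359 : act 1 n7293 = n6840 := d5_1 D7293 F6605 F3477
theorem F7360 : act 2 n7293 = n5589 := d7_1 D7293 F4593 (iv F3478)
def n7294 : Q := act 4 n4413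
theorem D7294 : act 4 n4413 = n7294 := rfl
theorem F7361 : act 0 n7294 = n4416 := d3_1 D7294 (iv D4416) D4413
def n7295 : Q := act 0 n4414
theorem D7295 : act 0 n4414 = n7295 := rfl
theorem F7362 : act 1 n7295 = n4494 := d0_2 F5057 D7295 (iv F4948) F4950 (iv D3180) D3181 D5874
theorem F7363 : act 4 n7295 = n6479 := d3_2 F4739 D7295 (iv D6479)
theorem F7364 : act 2 n7295 = n6118 := d15_2 D4414 D7295 (iv D6118) (iv D3381) (iv F2244) F2245 (iv F2282) (iv D3158) D3157 F3476 F3477 (iv D4413)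
def n7296 : Q := act 3 n4414
theorem D7296 : act 3 n4414 = n7296 := rfl
theorem F7365 : act 1 n7296 = n5804 := d5_1 D7296 (iv F5058) F5057
theorem F7366 : act 2 n7296 = n4415 := d7_1 D7296 (iv D4415) D4414
theorem F7367 : act 4 n7296 = n6451 := d9_2 F4739 D7296 (iv D6451) (iv F3198) D7141 (iv F7075) (iv D6481)
theorem F7368 : act 2 n6452 = n4672 := d11_4 (iv F7366) F7367 F5933 D6452 (iv D4672) D4671 (iv F5076)
def n7297 : Q := act 2 n4416
theorem D7297 : act 2 n4416 = n7297 := rfl
theorem F7369 : act 4 n7297 = n6483 := d8_2 D4416 D7297 (iv D6483) (iv D3707) D3705 F4739 (iv D4414)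
def n7298 : Q := act 0 n4417
theorem D7298 : act 0 n4417 = n7298 := rfl
theorem F7370 : act 2 n7298 = n4507 := d1_2 (iv F3347) D7298 (iv D4507) (iv D2270) (iv D968) D969 D2273
def n7299 : Q := act 3 n4417
theorem D7299 : act 3 n4417 = n7299 := rfl
theorem F7371 : act 1 n7299 = n4418 := d5_1 D7299 (iv D4418) D4417
theorem F7372 : act 2 n7299 = n4514 := d7_1 D7299 (iv D4514) (iv F3347)
def n7300 : Q := act 4 n4417
theorem D7300 : act 4 n4417 = n7300 := rfl
theorem F7373 : act 1 n7300 = n4419 := d6_1 D7300 (iv D4419) D4417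
theorem F7374 : act 2 n7300 = n4518 := d11_2 (iv F3347) D7300 (iv D4518) (iv D2275) (iv D970) D969 D2273
def n7301 : Q := act 1 n4421
theorem D7301 : act 1 n4421 = n7301 := rfl
theorem F7375 : act 2 n7301 = n6950 := d15_6 F5338 (iv F5195) F5196 (iv F7299) F7298 D7301 F6777 (iv F6797) F6796 (iv F5334) F5335 (iv F5337)
theorem F7376 : act 3 n6949 = n7301 := d7_0 F7375 (iv D6950) D6949
theorem F7377 : act 1 n7147 = n6949 := d5_3 F7376 (iv D7301) (iv F7088)
def n7302 : Q := act 1 n4423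
theorem D7302 : act 1 n4423 = n7302 := rfl
def n7303 : Q := act 3 n4434
theorem D7303 : act 3 n4434 = n7303 := rfl
theorem F7378 : act 1 n7303 = n4659 := d5_1 D7303 F5047 (iv F3435)
theorem F7379 : act 2 n7303 = n4435 := d7_1 D7303 (iv D4435) D4434
theorem F7380 : act 4 n7303 = n6418 := d9_2 F3405 D7303 (iv D6418) (iv F3131) D7054 F6898 F5882
theorem F7381 : act 0 n7303 = n4437 := d10_1 D7303 F3360 (iv F3995) (iv D4334) (iv F1397) D4504 F3467
def n7304 : Q := act 2 n4436
theorem D7304 : act 2 n4436 = n7304 := rfl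
theorem F7382 : act 3 n7304 = n6415 := d7_2 F6902 D7304 (iv F6901)
theorem F7383 : act 4 n7304 = n6485 := d8_2 D4436 D7304 (iv D6485) (iv D3723) D3722 F3405 (iv D4434)
def n7305 : Q := act 4 n4440
theorem D7305 : act 4 n4440 = n7305 := rfl
theorem F7384 : act 0 n7305 = n4443 := d3_1 D7305 (iv D4443) D4440
theorem F7385 : act 3 n6422 = n7305 := d12_2 F4769 (iv F5892) F7384 F7027 (iv D7115) (iv D4219) D4217
theorem F7386 : act 2 n7305 = n6423 := d7_1 F7385 (iv D6423) D6422
def n7306 : Q := act 3 n4441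
theorem D7306 : act 3 n4441 = n7306 := rfl
theorem F7387 : act 1 n7306 = n4656 := d5_1 D7306 (iv F5087) F5086
theorem F7388 : act 2 n7306 = n4442 := d7_1 D7306 (iv D4442) D4441
theorem F7389 : act 4 n7306 = n6430 := d12_1 D7306 (iv D6430) (iv F4347) F5034 (iv D5864) F5032 F5031
def n7307 : Q := act 4 n4441
theorem D7307 : act 4 n4441 = n7307 := rfl
theorem F7390 : act 3 n7307 = n6428 := d9_1 D7307 F7021 (iv D7113) F3177 D6430 (iv F7389) (iv D7306)
theorem F7391 : act 2 n7307 = n6216 := d17_10 D3464 (iv F5540) (iv F5541) (iv D4685) (iv F3288) F3287 F1315 D2198 D4441 D7307 (iv D6216) (iv D3463)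
def n7308 : Q := act 0 n4442
theorem D7308 : act 0 n4442 = n7308 := rfl
theorem F7392 : act 1 n7308 = n5002 := d14_4 F1348 (iv F1350) (iv F3427) D7308 F3980 (iv F3974) (iv F4953) (iv F4955) F3270 (iv F3267) F3995
theorem F7393 : act 2 n7308 = n5001 := d15_8 (iv D5175) (iv D2733) (iv F1808) (iv F4161) F4163 (iv F7387) F7388 D7308 (iv D5001) (iv F3948) F3947 (iv F4166)
theorem F7394 : act 3 n7308 = n5001 := d16_2 D4442 D7308 (iv D5001) (iv D2623) D2622 D4998 (iv F3973) (iv F5094) F5095 (iv F5105) F5104 (iv D4440)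
def n7309 : Q := act 2 n4443
theorem D7309 : act 2 n4443 = n7309 := rfl
theorem F7395 : act 3 n7309 = n6425 := d7_2 (iv F7027) D7309 (iv F7026)
theorem F7396 : act 4 n7309 = n6494 := d8_2 D4443 D7309 (iv D6494) (iv F5564) (iv F7391) (iv D7307) (iv D4441)
theorem F7397 : act 0 n7309 = n5347 := d10_3 F7385 F7384 D7309 (iv D5347) (iv F4344) (iv F6865) F6863
def n7310 : Q := act 1 n4446
theorem D7310 : act 1 n4446 = n7310 := rfl
theorem F7398 : act 4 n7310 = n4692 := d6_2 F7332 D7310 (iv F7329)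
theorem F7399 : act 0 n7310 = n6171 := d13_3 D2202 D4446 D7310 (iv D6171) F2478 F910 (iv F432) F3390 F174 (iv F170) (iv F488)
def n7311 : Q := act 0 n4447
theorem D7311 : act 0 n4447 = n7311 := rfl
def n7312 : Q := act 2 n4447
theorem D7312 : act 2 n4447 = n7312 := rfl
theorem F7400 : act 4 n7312 = n6492 := d17_3 (iv D4448) D4447 D7312 (iv D6492) F2746 (iv F2591) (iv F5695) (iv F6499) (iv D4694) (iv F3683) (iv F7329) F7331
def n7313 : Q := act 4 n4447
theorem D7313 : act 4 n4447 = n7313 := rfl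
theorem F7401 : act 1 n7313 = n4448 := d6_1 D7313 (iv D4448) D4447
theorem F7402 : act 2 n7313 = n6491 := d8_1 D7313 (iv D6491) (iv D3728) D3729 D6492 (iv F7400) (iv D7312)
def n7314 : Q := act 0 n4449
theorem D7314 : act 0 n4449 = n7314 := rfl
def n7315 : Q := act 2 n4449
theorem D7315 : act 2 n4449 = n7315 := rfl
theorem F7403 : act 4 n7315 = n6410 := d8_2 F5761 D7315 (iv D6410) (iv D3621) D3620 D6409 F5874
def n7316 : Q := act 3 n4449
theorem D7316 : act 3 n4449 = n7316 := rfl
theorem F7404 : act 1 n7316 = n4450 := d5_1 D7316 (iv D4450) D4449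
theorem F7405 : act 0 n4620 = n7316 := d13_1 D4620 F7404 (iv F7049) (iv D7125) F3187 (iv F3164) (iv F6988) F6990 (iv F6724) F6725 F3595
theorem F7406 : act 2 n6365 = n7316 := d16_10 F7048 F5721 F5723 D7166 F7151 F5762 F5763 (iv D5078) (iv F4057) (iv F5818) F7404 (iv F7049)
theorem F7407 : act 3 n7315 = n6365 := d7_0 F7406 (iv D7316) D7315
def n7317 : Q := act 4 n4455
theorem D7317 : act 4 n4455 = n7317 := rfl
theorem F7408 : act 1 n7317 = n4456 := d6_1 D7317 (iv D4456) (iv F3431)
theorem F7409 : act 2 n7317 = n6347 := d8_1 D7317 (iv D6347) F2619 D3565 (iv F5782) (iv D6336) (iv F3432)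
def n7318 : Q := act 2 n4457
theorem D7318 : act 2 n4457 = n7318 := rfl
theorem F7410 : act 0 n7318 = n4464 := d1_1 D7318 (iv D4464) (iv D2220) (iv D945) D944 D2217 D4457
theorem F7411 : act 1 n7318 = n7298 := d4_1 D7318 F7370 F5068 (iv D5885) (iv F3452) (iv D4484) (iv F3433)
def n7319 : Q := act 4 n4457
theorem D7319 : act 4 n4457 = n7319 := rfl
theorem F7412 : act 0 n7319 = n4460 := d3_1 D7319 (iv D4460) D4457
theorem F7413 : act 1 n7319 = n4485 := d6_1 D7319 (iv D4485) (iv F3433)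
def n7320 : Q := act 2 n4460
theorem D7320 : act 2 n4460 = n7320 := rfl
theorem F7414 : act 0 n7320 = n4473 := d11_3 D2217 D4460 D7320 (iv D4473) (iv D2223) (iv D945) D944
def n7321 : Q := act 2 n4461
theorem D7321 : act 2 n4461 = n7321 := rfl
theorem F7415 : act 0 n7321 = n4465 := d1_1 D7321 (iv F7245) (iv D5009) (iv D2628) D2627 F3805 D4461
def n7322 : Q := act 0 n4462
theorem D7322 : act 0 n4462 = n7322 := rfl
def n7323 : Q := act 1 n4462
theorem D7323 : act 1 n4462 = n7323 := rfl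
def n7324 : Q := act 4 n4462
theorem D7324 : act 4 n4462 = n7324 := rfl
def n7325 : Q := act 4 n4463
theorem D7325 : act 4 n4463 = n7325 := rfl
theorem F7416 : act 1 n7325 = n4466 := d6_1 D7325 (iv D4466) D4463
theorem F7417 : act 2 n7325 = n5559 := d17_4 (iv D5873) (iv F4950) F4949 D7325 (iv D5559) (iv D2967) D2968 D5563 (iv F6529) F6528 F5063 (iv F5055)
def n7326 : Q := act 4 n4464
theorem D7326 : act 4 n4464 = n7326 := rfl
theorem F7418 : act 1 n7326 = n7223 := d6_1 D7326 (iv D7223) (iv F3437)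
theorem F7419 : act 2 n7326 = n4478 := d11_2 D4464 D7326 (iv D4478) (iv D2226) (iv D947) D945 D2220
def n7327 : Q := act 4 n4467
theorem D7327 : act 4 n4467 = n7327 := rfl
theorem F7420 : act 0 n7327 = n4470 := d3_1 D7327 (iv D4470) D4467
theorem F7421 : act 1 n7327 = n5409 := d6_1 D7327 F5755 F5012
theorem F7422 : act 2 n7327 = n5782 := d8_1 D7327 F4911 (iv F2950) D6787 F6484 F4890 F3440
theorem F7423 : act 3 n7327 = n5766 := d9_1 D7327 (iv D5766) (iv F3144) D7072 (iv F6922) (iv D5857) (iv F3439)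
def n7328 : Q := act 1 n4471
theorem D7328 : act 1 n4471 = n7328 := rfl
def n7329 : Q := act 2 n4471
theorem D7329 : act 2 n4471 = n7329 := rfl
def n7330 : Q := act 3 n4471
theorem D7330 : act 3 n4471 = n7330 := rfl
def n7331 : Q := act 4 n4473
theorem D7331 : act 4 n4473 = n7331 := rfl
theorem F7424 : act 1 n7331 = n5534 := d6_1 D7331 (iv D5534) (iv F5744)
theorem F7425 : act 2 n7331 = n4480 := d8_1 D7331 (iv D4480) (iv D2226) (iv D947) D945 D2223 D4473
def n7332 : Q := act 4 n4476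
theorem D7332 : act 4 n4476 = n7332 := rfl
theorem F7426 : act 1 n7332 = n5202 := d6_1 D7332 F4186 (iv F3962)
def n7333 : Q := act 1 n4478
theorem D7333 : act 1 n4478 = n7333 := rfl
def n7334 : Q := act 3 n4478
theorem D7334 : act 3 n4478 = n7334 := rfl
def n7335 : Q := act 4 n4478
theorem D7335 : act 4 n4478 = n7335 := rfl
theorem F7427 : act 0 n7335 = n4480 := d3_1 D7335 (iv D4480) D4478
def n7336 : Q := act 0 n4479
theorem D7336 : act 0 n4479 = n7336 := rfl
theorem F7428 : act 2 n7336 = n5364 := d10_2 F6962 D7336 (iv F5746) (iv F5748) F4273 (iv F5302) F6964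
theorem F7429 : act 3 n7336 = n5332 := d10_4 (iv F4454) (iv F6533) F6532 D7336 (iv F5110) F5304 F4262
theorem F7430 : act 4 n5302 = n7336 := d9_0 F7429 (iv D5332) (iv F4302) (iv F6972) F6973 (iv D5303) D5302
def n7337 : Q := act 4 n4479
theorem D7337 : act 4 n4479 = n7337 := rfl
theorem F7431 : act 0 n7337 = n5302 := d3_1 D7337 F7430 (iv D7336)
theorem F7432 : act 1 n7337 = n4480 := d6_1 D7337 (iv D4480) D4479
theorem F7433 : act 2 n7337 = n5227 := d8_1 D7337 F6514 (iv D6793) F6070 F6044 F6534 F6532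
theorem F7434 : act 3 n7337 = n5226 := d9_1 D7337 F6978 (iv D7099) (iv F6052) F6041 F6963 F6962
def n7338 : Q := act 4 n4482
theorem D7338 : act 4 n4482 = n7338 := rfl
def n7339 : Q := act 2 n4483
theorem D7339 : act 2 n4483 = n7339 := rfl
theorem F7435 : act 1 n7339 = n6399 := d4_1 D7339 (iv D6399) F5324 (iv D3947) (iv F2952) D6790 (iv F6507)
def n7340 : Q := act 4 n4484
theorem D7340 : act 4 n4484 = n7340 := rfl
theorem F7436 : act 0 n7340 = n4498 := d3_1 D7340 (iv D4498) (iv F3451)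
theorem F7437 : act 1 n7340 = n5577 := d6_1 D7340 F4578 (iv F3452)
theorem F7438 : act 2 n7340 = n4490 := d11_2 D4484 D7340 (iv D4490) (iv D2257) (iv D963) D962 D2254
def n7341 : Q := act 4 n4486
theorem D7341 : act 4 n4486 = n7341 := rfl
theorem F7439 : act 0 n7341 = n5855 := d3_1 D7341 (iv D5855) F3476
theorem F7440 : act 1 n7341 = n7294 := d6_1 D7341 (iv D7294) (iv F3477)
def n7342 : Q := act 2 n4491
theorem D7342 : act 2 n4491 = n7342 := rfl
theorem F7441 : act 0 n7342 = n5330 := d10_3 (iv F4705) (iv F4706) D7342 F5790 (iv D5914) (iv D3212) D3211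
theorem F7442 : act 1 n6406 = n7342 := d0_0 F7441 F4328 F1900 F710 (iv F1017) (iv F2677) (iv F5869)
theorem F7443 : act 4 n5328 = n7342 := d3_0 F7441 (iv D5330) D5328
theorem F7444 : act 2 n5891 = n6406 := d16_4 (iv F4620) F4619 F4622 D5891 F7442 F7441 F5790 (iv D5914) (iv F5093) (iv D5900) (iv D3202) D3201
def n7343 : Q := act 4 n4494
theorem D7343 : act 4 n4494 = n7343 := rfl
theorem F7445 : act 0 n7343 = n6782 := d3_1 D7343 F6473 F4948
theorem F7446 : act 1 n7343 = n6479 := d6_1 D7343 (iv F7363) F7362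
theorem F7447 : act 2 n7343 = n6758 := d17_4 (iv D2261) D2258 D4494 D7343 (iv D6758) (iv D3922) D3923 F2939 F4566 (iv D4501) F1396 (iv F1394)
def n7344 : Q := act 2 n4496
theorem D7344 : act 2 n4496 = n7344 := rfl
theorem F7448 : act 0 n7344 = n5559 := d10_3 (iv F4971) F4969 D7344 (iv F4976) (iv D5828) F2243 D3136
def n7345 : Q := act 4 n4497
theorem D7345 : act 4 n4497 = n7345 := rfl
theorem F7449 : act 0 n7345 = n4685 := d3_1 D7345 (iv D4685) (iv F3459)
theorem F7450 : act 1 n7345 = n4498 := d6_1 D7345 (iv D4498) D4497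
theorem F7451 : act 2 n7345 = n6104 := d11_2 F3463 D7345 F5426 F5309 (iv D1595) (iv F892) D3381
def n7346 : Q := act 2 n4502
theorem D7346 : act 2 n4502 = n7346 := rfl
def n7347 : Q := act 3 n4504
theorem D7347 : act 3 n4504 = n7347 := rfl
theorem F7452 : act 0 n7347 = n5818 := d2_1 D7347 (iv F4964) F3266 D4437 (iv F7381) (iv D7303) (iv F3467)
theorem F7453 : act 1 n7347 = n4670 := d5_1 D7347 (iv F5075) F5074
theorem F7454 : act 2 n7347 = n4505 := d7_1 D7347 (iv D4505) D4504
theorem F7455 : act 4 n7347 = n6911 := d9_2 F5394 D7347 (iv D6911) (iv F3115) D7014 (iv F6849) F6728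
def n7348 : Q := act 2 n4506
theorem D7348 : act 2 n4506 = n7348 := rfl
theorem F7456 : act 0 n7348 = n7304 := d1_1 D7348 (iv D7304) F3357 D4439 (iv F7266) (iv D7233) (iv F3469)
theorem F7457 : act 3 n7348 = n6907 := d7_2 (iv F6852) D7348 (iv F6851)
def n7349 : Q := act 4 n4507
theorem D7349 : act 4 n4507 = n7349 := rfl
theorem F7458 : act 0 n7349 = n4510 := d3_1 D7349 (iv D4510) D4507
theorem F7459 : act 2 n7349 = n6411 := d11_2 F7370 D7349 (iv D6411) (iv F6503) (iv D4515) (iv F3347) D7298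
def n7350 : Q := act 3 n4508
theorem D7350 : act 3 n4508 = n7350 := rfl
theorem F7460 : act 0 n7350 = n5001 := d2_1 D7350 (iv F7394) (iv D7308) (iv D4442) D4440 F5103 F5101
theorem F7461 : act 1 n7350 = n4509 := d5_1 D7350 (iv D4509) D4508
def n7351 : Q := act 4 n4508
theorem D7351 : act 4 n4508 = n7351 := rfl
theorem F7462 : act 1 n7351 = n4510 := d6_1 D7351 (iv D4510) D4508
def n7352 : Q := act 0 n4509
theorem D7352 : act 0 n4509 = n7352 := rfl
theorem F7463 : act 1 n7352 = n5175 := d0_2 F7461 D7352 F4166 (iv F3947) F3948 D5001 (iv F7460)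
def n7353 : Q := act 4 n4509
theorem D7353 : act 4 n4509 = n7353 := rfl
def n7354 : Q := act 2 n4510
theorem D7354 : act 2 n4510 = n7354 := rfl
theorem F7464 : act 0 n7354 = n4516 := d1_1 D7354 (iv D4516) (iv F3479) F6503 D6411 (iv F7459) F7458
def n7355 : Q := act 3 n4510
theorem D7355 : act 3 n4510 = n7355 := rfl
def n7356 : Q := act 2 n4511
theorem D7356 : act 2 n4511 = n7356 := rfl
theorem F7465 : act 0 n7356 = n4514 := d10_3 D2271 D4511 D7356 (iv D4514) (iv D2273) (iv D969) D968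
def n7357 : Q := act 0 n4512
theorem D7357 : act 0 n4512 = n7357 := rfl
def n7358 : Q := act 1 n4512
theorem D7358 : act 1 n4512 = n7358 := rfl
def n7359 : Q := act 4 n4512
theorem D7359 : act 4 n4512 = n7359 := rfl
def n7360 : Q := act 4 n4513
theorem D7360 : act 4 n4513 = n7360 := rfl
theorem F7466 : act 0 n7360 = n5896 := d3_1 D7360 (iv D5896) (iv F3473)
theorem F7467 : act 1 n7360 = n4515 := d6_1 D7360 (iv D4515) D4513
theorem F7468 : act 2 n6408 = n7360 := d4_0 F7467 F6503 (iv D3622) (iv D1725) D1724 D3620 D6408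
def n7361 : Q := act 1 n4516
theorem D7361 : act 1 n4516 = n7361 := rfl
theorem F7469 : act 2 n7361 = n6398 := d4_2 D4516 D7361 (iv F6455) (iv D6765) (iv F6453) F6454 F3465
theorem F7470 : act 0 n7361 = n5530 := d14_3 F3465 D4516 D7361 (iv F7256) F7257 F5112 F4212 D5331 F5109 F5107 (iv F4891)
theorem F7471 : act 4 n5543 = n7361 := d17_0 (iv D7361) (iv D4516) (iv D2274) (iv D969) (iv D386) F62 (iv F166) (iv F476) D2125 D4327 D7228 F7254
def n7362 : Q := act 4 n4516
theorem D7362 : act 4 n4516 = n7362 := rfl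
theorem F7472 : act 1 n7362 = n5543 := d6_1 D7362 F7471 (iv D7361)
theorem F7473 : act 2 n7362 = n4520 := d8_1 D7362 (iv D4520) (iv D2275) (iv D970) D969 D2274 D4516
def n7363 : Q := act 1 n4518
theorem D7363 : act 1 n4518 = n7363 := rfl
def n7364 : Q := act 3 n4518
theorem D7364 : act 3 n4518 = n7364 := rfl
def n7365 : Q := act 4 n4518
theorem D7365 : act 4 n4518 = n7365 := rfl
theorem F7474 : act 0 n7365 = n4520 := d3_1 D7365 (iv D4520) D4518
theorem F7475 : act 2 n7365 = n6413 := d8_1 D7365 (iv D6413) (iv F6503) (iv D4515) (iv F3347) D7300 F7374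
def n7366 : Q := act 2 n4521
theorem D7366 : act 2 n4521 = n7366 := rfl
theorem F7476 : act 0 n7366 = n6485 := d1_1 D7366 (iv D6485) F2744 D3726 (iv F5397) (iv D6068) (iv F3480)
theorem F7477 : act 4 n7366 = n7348 := d8_2 (iv F3481) D7366 (iv D7348) (iv D4506) D4504 (iv F5394) (iv D6066)
def n7367 : Q := act 0 n4522
theorem D7367 : act 0 n4522 = n7367 := rfl
def n7368 : Q := act 1 n4522
theorem D7368 : act 1 n4522 = n7368 := rfl
def n7369 : Q := act 4 n4522
theorem D7369 : act 4 n4522 = n7369 := rfl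
def n7370 : Q := act 1 n4523
theorem D7370 : act 1 n4523 = n7370 := rfl
theorem F7478 : act 0 n7370 = n5900 := d0_1 D7370 F5093 D5914 (iv F5789) F5285 F3466 D4523
def n7371 : Q := act 4 n4525
theorem D7371 : act 4 n4525 = n7371 := rfl
theorem F7479 : act 0 n7371 = n4745 := d3_1 D7371 (iv D4745) (iv F3484)
theorem F7480 : act 1 n7371 = n4527 := d6_1 D7371 (iv D4527) (iv F3482)
theorem F7481 : act 2 n7371 = n4768 := d11_2 (iv F3483) D7371 (iv D4768) (iv D2479) (iv D1072) D1070 (iv F1551)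
def n7372 : Q := act 3 n4526
theorem D7372 : act 3 n4526 = n7372 := rfl
theorem F7482 : act 1 n7372 = n4528 := d5_1 D7372 (iv D4528) (iv F3486)
theorem F7483 : act 2 n7372 = n4724 := d7_1 D7372 (iv D4724) (iv F3487)
theorem F7484 : act 0 n7372 = n4790 := d10_1 D7372 (iv D4790) (iv D2489) (iv D1077) D1075 (iv F1572) (iv F3485)
def n7373 : Q := act 3 n4527
theorem D7373 : act 3 n4527 = n7373 := rfl
theorem F7485 : act 0 n7373 = n5990 := d10_1 D7373 F5223 (iv D5121) (iv D2703) D2701 (iv F4073) F4071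
def n7374 : Q := act 4 n4528
theorem D7374 : act 4 n4528 = n7374 := rfl
theorem F7486 : act 2 n7374 = n4535 := d11_2 F4031 D7374 (iv F4135) (iv D5149) (iv D2718) D2717 (iv F4032)
def n7375 : Q := act 1 n4529
theorem D7375 : act 1 n4529 = n7375 := rfl
def n7376 : Q := act 3 n4529
theorem D7376 : act 3 n4529 = n7376 := rfl
theorem F7487 : act 2 n7376 = n4530 := d7_1 D7376 (iv D4530) D4529
def n7377 : Q := act 4 n4529
theorem D7377 : act 4 n4529 = n7377 := rfl
def n7378 : Q := act 4 n4530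
theorem D7378 : act 4 n4530 = n7378 := rfl
theorem F7488 : act 1 n7378 = n4539 := d6_1 D7378 (iv D4539) (iv F3488)
theorem F7489 : act 3 n7378 = n4535 := d9_1 D7378 (iv D4535) (iv D2305) (iv D984) D983 D2303 D4530
def n7379 : Q := act 3 n4531
theorem D7379 : act 3 n4531 = n7379 := rfl
theorem F7490 : act 1 n7379 = n4532 := d5_1 D7379 (iv D4532) D4531
def n7380 : Q := act 4 n4532
theorem D7380 : act 4 n4532 = n7380 := rfl
def n7381 : Q := act 3 n4533
theorem D7381 : act 3 n4533 = n7381 := rfl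
def n7382 : Q := act 4 n4536
theorem D7382 : act 4 n4536 = n7382 := rfl
theorem F7491 : act 0 n7382 = n7382 := d3_1 D7382 (iv D7382) F3493
theorem F7492 : act 1 n7382 = n6084 := d6_1 D7382 (iv D6084) (iv F3491)
theorem F7493 : act 2 n7382 = n4539 := d8_1 D7382 (iv D4539) (iv F3496) F5460 F5458 (iv D4645) (iv F3492)
theorem F7494 : act 3 n7382 = n4537 := d9_1 D7382 (iv D4537) (iv D2307) (iv D986) D985 D2306 D4536
def n7383 : Q := act 0 n4541
theorem D7383 : act 0 n4541 = n7383 := rfl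
theorem F7495 : act 1 n7383 = n6908 := d0_2 D4541 D7383 F6726 F5346 (iv D4534) F1418 D2311
theorem F7496 : act 3 n7383 = n5580 := d12_4 D2365 D4619 (iv F3602) D7383 (iv D5580) F2016 (iv D2363)
def n7384 : Q := act 2 n4541
theorem D7384 : act 2 n4541 = n7384 := rfl
theorem F7497 : act 0 n7384 = n7167 := d10_3 (iv F7496) (iv D7383) D7384 (iv D7167) (iv F4588) (iv D5583) (iv F4583)
def n7385 : Q := act 4 n4542
theorem D7385 : act 4 n4542 = n7385 := rfl
theorem F7498 : act 0 n7385 = n4543 := d3_1 D7385 (iv D4543) D4542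
theorem F7499 : act 1 n7385 = n5489 := d6_1 D7385 (iv D5489) (iv F3503)
theorem F7500 : act 2 n7385 = n6339 := d11_2 (iv F3501) D7385 (iv D6339) (iv D3558) (iv D1691) (iv F989) (iv F1956)
def n7386 : Q := act 2 n4543
theorem D7386 : act 2 n4543 = n7386 := rfl
theorem F7501 : act 0 n7386 = n6337 := d1_1 D7386 (iv D6337) F2610 D3558 D6339 (iv F7500) F7498
def n7387 : Q := act 3 n4543
theorem D7387 : act 3 n4543 = n7387 := rfl
theorem F7502 : act 1 n7387 = n6226 := d5_1 D7387 (iv D6226) (iv F3504)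
def n7388 : Q := act 3 n4544
theorem D7388 : act 3 n4544 = n7388 := rfl
theorem F7503 : act 2 n7388 = n4545 := d7_1 D7388 (iv D4545) D4544
theorem F7504 : act 0 n7388 = n6348 := d10_1 D7388 (iv D6348) (iv D3564) (iv D1693) (iv F529) D2320 (iv F3505)
def n7389 : Q := act 4 n4544
theorem D7389 : act 4 n4544 = n7389 := rfl
theorem F7505 : act 0 n7389 = n4556 := d3_1 D7389 (iv D4556) (iv F3505)
theorem F7506 : act 1 n7389 = n5058 := d6_1 D7389 (iv F7313) F7312
theorem F7507 : act 2 n7389 = n4549 := d8_1 D7389 (iv D4549) (iv D2316) (iv D992) D990 D2314 D4544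
def n7390 : Q := act 0 n4545
theorem D7390 : act 0 n4545 = n7390 := rfl
theorem F7508 : act 2 n7390 = n6346 := d1_2 F7503 D7390 (iv D6346) F2619 D3564 D6348 (iv F7504)
theorem F7509 : act 3 n7390 = n5452 := d12_4 (iv D2313) D2314 D4545 D7390 (iv D5452) (iv F3502) (iv D4542)
theorem F7510 : act 1 n5491 = n7390 := d5_3 F7509 F4482 D5491
def n7391 : Q := act 4 n4545
theorem D7391 : act 4 n4545 = n7391 := rfl
theorem F7511 : act 1 n7391 = n6228 := d6_1 D7391 (iv D6228) (iv F3506)
theorem F7512 : act 2 n7391 = n4550 := d11_2 F7503 D7391 (iv F4636) F5781 (iv D6349) D6348 (iv F7504)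
def n7392 : Q := act 0 n4546
theorem D7392 : act 0 n4546 = n7392 := rfl
theorem F7513 : act 2 n7392 = n5453 := d1_2 D4546 D7392 F4483 D6334 F5718 (iv D5610) F2091
def n7393 : Q := act 3 n4546
theorem D7393 : act 3 n4546 = n7393 := rfl
theorem F7514 : act 2 n7393 = n4547 := d7_1 D7393 (iv D4547) D4546
def n7394 : Q := act 4 n4546
theorem D7394 : act 4 n4546 = n7394 := rfl
def n7395 : Q := act 4 n4547
theorem D7395 : act 4 n4547 = n7395 := rfl
theorem F7515 : act 0 n7395 = n4566 := d3_1 D7395 (iv D4566) (iv F3508)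
theorem F7516 : act 1 n7395 = n6182 := d6_1 D7395 (iv D6182) (iv F3507)
theorem F7517 : act 3 n7395 = n4550 := d9_1 D7395 (iv D4550) (iv D2317) (iv D992) D991 D2315 D4547
def n7396 : Q := act 0 n4548
theorem D7396 : act 0 n4548 = n7396 := rfl
theorem F7518 : act 2 n7396 = n5455 := d1_2 (iv F3509) D7396 F4485 (iv F3432) (iv F4634) F4635 F2093
theorem F7519 : act 3 n7396 = n5454 := d2_2 D4548 D7396 (iv F4627) F4626 (iv F4062) (iv D5079) F1766
def n7397 : Q := act 4 n4548
theorem D7397 : act 4 n4548 = n7397 := rfl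
def n7398 : Q := act 3 n4549
theorem D7398 : act 3 n4549 = n7398 := rfl
theorem F7520 : act 1 n7398 = n5263 := d5_1 D7398 (iv D5263) (iv F3510)
def n7399 : Q := act 2 n4551
theorem D7399 : act 2 n4551 = n7399 := rfl
def n7400 : Q := act 3 n4551
theorem D7400 : act 3 n4551 = n7400 := rfl
theorem F7521 : act 0 n7400 = n6338 := d2_1 D7400 (iv D6338) F2610 D3559 (iv F3515) (iv D4553) (iv F3512)
theorem F7522 : act 1 n7400 = n6950 := d5_1 D7400 (iv D6950) (iv F3513)
theorem F7523 : act 4 n7370 = n7400 := d6_0 F7522 (iv F6778) D7370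
def n7401 : Q := act 0 n4552
theorem D7401 : act 0 n4552 = n7401 := rfl
theorem F7524 : act 2 n7401 = n4559 := d11_4 (iv F528) D2319 D4552 D7401 (iv D4559) (iv D2322) (iv D995)
def n7402 : Q := act 1 n4552
theorem D7402 : act 1 n4552 = n7402 := rfl
def n7403 : Q := act 3 n4552
theorem D7403 : act 3 n4552 = n7403 := rfl
theorem F7525 : act 2 n7403 = n4553 := d7_1 D7403 (iv D4553) D4552
def n7404 : Q := act 4 n4552
theorem D7404 : act 4 n4552 = n7404 := rfl
theorem F7526 : act 2 n7404 = n4565 := d8_1 D7404 (iv D4565) (iv D2324) (iv D996) (iv F528) D2319 D4552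
theorem F7527 : act 1 n4849 = n7404 := d4_7 F7526 F7152 (iv D2594) F629 (iv F600) (iv F1627) D4849
theorem F7528 : act 3 n4556 = n7404 := d7_0 F7526 F7153 (iv F3517)
theorem F7529 : act 4 n7402 = n4849 := d6_0 F7527 (iv D7404) D7402
def n7405 : Q := act 4 n4553
theorem D7405 : act 4 n4553 = n7405 := rfl
theorem F7530 : act 0 n7405 = n6343 := d3_1 D7405 (iv D6343) (iv F3515)
theorem F7531 : act 1 n7405 = n4753 := d6_1 D7405 (iv D4753) (iv F3514)
theorem F7532 : act 3 n7405 = n4558 := d9_1 D7405 (iv D4558) (iv D2321) (iv D994) D993 D2319 D4553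
theorem F7533 : act 2 n4566 = n7405 := d7_3 F7532 F6314 (iv F3526)
def n7406 : Q := act 0 n4554
theorem D7406 : act 0 n4554 = n7406 := rfl
theorem F7534 : act 1 n7406 = n5057 := d0_2 D4554 D7406 F4033 (iv F4038) (iv F7311) F7312 F3505
theorem F7535 : act 4 n7406 = n4850 := d3_2 (iv F3519) D7406 (iv D4850)
def n7407 : Q := act 3 n4554
theorem D7407 : act 3 n4554 = n7407 := rfl
theorem F7536 : act 1 n7407 = n4555 := d5_1 D7407 (iv D4555) D4554
def n7408 : Q := act 0 n4555
theorem D7408 : act 0 n4555 = n7408 := rfl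
def n7409 : Q := act 4 n4555
theorem D7409 : act 4 n4555 = n7409 := rfl
theorem F7537 : act 2 n7409 = n4569 := d8_1 D7409 (iv D4569) F1435 D2330 (iv F6314) (iv D4558) (iv F3516)
def n7410 : Q := act 2 n4557
theorem D7410 : act 2 n4557 = n7410 := rfl
theorem F7538 : act 3 n7410 = n6948 := d7_2 (iv F3520) D7410 (iv D6948)
theorem F7539 : act 0 n7410 = n6344 := d10_3 D2321 D4557 D7410 (iv D6344) (iv D3560) (iv D1692) (iv F529)
def n7411 : Q := act 4 n4557
theorem D7411 : act 4 n4557 = n7411 := rfl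
theorem F7540 : act 0 n7411 = n4558 := d3_1 D7411 (iv D4558) D4557
theorem F7541 : act 1 n7411 = n6954 := d6_1 D7411 (iv D6954) F3521
theorem F7542 : act 3 n7411 = n7370 := d9_1 D7411 F7523 (iv D7400) (iv D4551) F1429 D4095 (iv F3520)
def n7412 : Q := act 3 n4559
theorem D7412 : act 3 n4559 = n7412 := rfl
theorem F7543 : act 1 n7412 = n7309 := d5_1 D7412 F7395 F5897
def n7413 : Q := act 1 n4560
theorem D7413 : act 1 n4560 = n7413 := rfl
theorem F7544 : act 2 n7413 = n7127 := d4_2 D4560 D7413 (iv D7127) (iv D4228) (iv F3164) F3165 F2685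
theorem F7545 : act 3 n7312 = n7413 := d7_0 F7544 F7053 D7312
def n7414 : Q := act 3 n4560
theorem D7414 : act 3 n4560 = n7414 := rfl
theorem F7546 : act 1 n7414 = n7312 := d5_1 D7414 F7545 (iv D7413)
theorem F7547 : act 2 n7414 = n4561 := d7_1 D7414 (iv D4561) D4560
def n7415 : Q := act 4 n4560
theorem D7415 : act 4 n4560 = n7415 := rfl
def n7416 : Q := act 1 n4562
theorem D7416 : act 1 n4562 = n7416 := rfl
def n7417 : Q := act 3 n4562
theorem D7417 : act 3 n4562 = n7417 := rfl
def n7418 : Q := act 4 n4562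
theorem D7418 : act 4 n4562 = n7418 := rfl
theorem F7548 : act 0 n7418 = n4565 := d3_1 D7418 (iv D4565) D4562
def n7419 : Q := act 0 n4563
theorem D7419 : act 0 n4563 = n7419 := rfl
theorem F7549 : act 4 n7419 = n4963 := d3_2 (iv F7154) D7419 (iv D4963)
def n7420 : Q := act 3 n4563
theorem D7420 : act 3 n4563 = n7420 := rfl
theorem F7550 : act 1 n7420 = n4564 := d5_1 D7420 (iv D4564) D4563
def n7421 : Q := act 4 n4564
theorem D7421 : act 4 n4564 = n7421 := rfl
theorem F7551 : act 3 n7421 = n4569 := d9_1 D7421 (iv D4569) (iv D2327) D2328 (iv F7153) (iv D4565) D4564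
theorem F7552 : act 1 n7421 = n4962 := d17_1 D7421 (iv D4962) (iv D2593) (iv F1697) (iv F3623) (iv F7007) (iv D4243) D4244 D7154 F7115 D7166 F7150
theorem F7553 : act 4 n7420 = n4962 := d6_2 (iv D7421) (iv F7550) (iv F7552)
theorem E866 : n5007 = n4567 := (c9_3 F7553 F3940 D5007 (iv D4567) F1437 (iv F1700) (iv F7154) D7420)
theorem F7554 : act 4 n4567 = n2626 := (sb E866 (iv D5007))
theorem E867 : n5006 = n4569 := (c6_2 F7554 D5006 (iv D4569) (iv F3527))
theorem F7555 : act 1 n4569 = n2626 := (sb E867 (iv D5006))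
theorem F7556 : act 4 n4993 = n6717 := d8_6 F7554 (iv D2626) (iv D1151) (iv F637) D2619 D4993 F6386
theorem F7557 : act 1 n6719 = n4993 := d6_3 F7556 F6385 D6719
theorem F7558 : act 1 n4863 = n7409 := d4_7 F7537 F7555 (iv D2626) F638 F2169 (iv F1634) D4863
theorem F7559 : act 4 n7407 = n4863 := d6_0 F7558 (iv D7409) (iv F7536)
def n7422 : Q := act 0 n4567
theorem D7422 : act 0 n4567 = n7422 := rfl
theorem F7560 : act 4 n7422 = n5005 := d3_2 (iv F7554) D7422 (iv D5005)
def n7423 : Q := act 4 n4568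
theorem D7423 : act 4 n4568 = n7423 := rfl
theorem F7561 : act 0 n7423 = n4569 := d3_1 D7423 (iv D4569) D4568
def n7424 : Q := act 1 n4571
theorem D7424 : act 1 n4571 = n7424 := rfl
theorem F7562 : act 2 n7424 = n7133 := d4_2 D4571 D7424 F7062 F3192 (iv F3167) F3168 F2686
theorem F7563 : act 3 n7424 = n7132 := d5_2 F4626 D7424 F7060
def n7425 : Q := act 4 n4571
theorem D7425 : act 4 n4571 = n7425 := rfl
def n7426 : Q := act 2 n4572
theorem D7426 : act 2 n4572 = n7426 := rfl
def n7427 : Q := act 2 n4574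
theorem D7427 : act 2 n4574 = n7427 := rfl
def n7428 : Q := act 3 n4574
theorem D7428 : act 3 n4574 = n7428 := rfl
theorem F7564 : act 1 n7428 = n7304 := d5_1 D7428 F7382 F5879
theorem F7565 : act 4 n5558 = n7428 := d6_0 F7564 F7383 F6469
def n7429 : Q := act 4 n4575
theorem D7429 : act 4 n4575 = n7429 := rfl
theorem F7566 : act 1 n7429 = n4577 := d6_1 D7429 (iv D4577) D4575
def n7430 : Q := act 4 n4576
theorem D7430 : act 4 n4576 = n7430 := rfl
theorem F7567 : act 0 n7430 = n6531 := d3_1 D7430 (iv D6531) F3536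
def n7431 : Q := act 2 n4577
theorem D7431 : act 2 n4577 = n7431 := rfl
theorem F7568 : act 0 n7431 = n5443 := d10_3 F5250 F5248 D7431 F4473 D5555 (iv F5339) (iv D6025)
def n7432 : Q := act 3 n4577
theorem D7432 : act 3 n4577 = n7432 := rfl
def n7433 : Q := act 4 n4578
theorem D7433 : act 4 n4578 = n7433 := rfl
theorem F7569 : act 0 n7433 = n4579 := d3_1 D7433 (iv D4579) D4578
theorem F7570 : act 1 n7433 = n6180 := d6_1 D7433 (iv D6180) (iv F3535)
theorem F7571 : act 3 n7433 = n6183 := d12_2 (iv F3533) D7433 F5500 F4649 (iv D5440) (iv F2096) F2095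
def n7434 : Q := act 2 n4579
theorem D7434 : act 2 n4579 = n7434 := rfl
theorem F7572 : act 3 n7434 = n4598 := d7_2 F3538 D7434 (iv D4598)
def n7435 : Q := act 0 n4580
theorem D7435 : act 0 n4580 = n7435 := rfl
theorem F7573 : act 2 n7435 = n5084 := d11_4 (iv D2332) D2334 D4580 D7435 (iv D5084) (iv F2372) F2373
def n7436 : Q := act 1 n4580
theorem D7436 : act 1 n4580 = n7436 := rfl
def n7437 : Q := act 3 n4580
theorem D7437 : act 3 n4580 = n7437 := rfl
theorem F7574 : act 2 n7437 = n4581 := d7_1 D7437 (iv D4581) D4580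
def n7438 : Q := act 4 n4580
theorem D7438 : act 4 n4580 = n7438 := rfl
def n7439 : Q := act 0 n4581
theorem D7439 : act 0 n4581 = n7439 := rfl
theorem F7575 : act 3 n7439 = n5465 := d12_4 (iv D2333) D2334 D4581 D7439 (iv D5465) (iv F3533) (iv D4578)
theorem F7576 : act 1 n7439 = n6181 := d14_4 F6216 F3555 (iv F3539) D7439 F6956 F6954 F3148 F1246 (iv F3393) (iv F2845) (iv F6215)
def n7440 : Q := act 4 n4581
theorem D7440 : act 4 n4581 = n7440 := rfl
theorem F7577 : act 1 n7440 = n4591 := d6_1 D7440 (iv D4591) (iv F3539)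
theorem F7578 : act 3 n7440 = n4599 := d9_1 D7440 (iv D4599) F3538 (iv D4579) (iv D2333) D2334 D4581
def n7441 : Q := act 2 n4582
theorem D7441 : act 2 n4582 = n7441 := rfl
theorem F7579 : act 0 n7441 = n4821 := d1_1 D7441 (iv D4821) (iv D2507) D2508 (iv F3542) (iv D4583) D4582
theorem F7580 : act 1 n7441 = n4897 := d4_1 D7441 (iv F6020) (iv D6502) (iv D3746) (iv F1644) D4878 F3857
theorem F7581 : act 3 n7441 = n5488 := d7_2 (iv F3540) D7441 F4519
def n7442 : Q := act 4 n4582
theorem D7442 : act 4 n4582 = n7442 := rfl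
theorem F7582 : act 0 n7442 = n4584 := d3_1 D7442 (iv D4584) D4582
theorem F7583 : act 3 n7442 = n6580 := d12_2 (iv F3540) D7442 (iv D6580) (iv D3799) (iv D1823) D1822 D3796
def n7443 : Q := act 4 n4583
theorem D7443 : act 4 n4583 = n7443 := rfl
theorem F7584 : act 0 n7443 = n4823 := d3_1 D7443 (iv D4823) (iv F3542)
def n7444 : Q := act 2 n4584
theorem D7444 : act 2 n4584 = n7444 := rfl
theorem F7585 : act 3 n7444 = n6598 := d7_2 (iv F3544) D7444 (iv D6598)
theorem F7586 : act 0 n7444 = n4825 := d11_3 (iv D4583) D4584 D7444 (iv D4825) (iv D2510) D2508 (iv F3542)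
def n7445 : Q := act 4 n4586
theorem D7445 : act 4 n4586 = n7445 := rfl
theorem F7587 : act 0 n7445 = n7445 := d3_1 D7445 (iv D7445) F3549
theorem F7588 : act 1 n7445 = n6599 := d6_1 D7445 (iv D6599) (iv F3550)
theorem F7589 : act 2 n7445 = n4591 := d8_1 D7445 (iv D4591) (iv F3555) (iv F6212) F6210 (iv D4635) (iv F3551)
theorem F7590 : act 3 n7445 = n4602 := d9_1 D7445 F3570 (iv F3548) (iv D4585) (iv D2336) D2337 D4586
def n7446 : Q := act 0 n4588
theorem D7446 : act 0 n4588 = n7446 := rfl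
def n7447 : Q := act 2 n4588
theorem D7447 : act 2 n4588 = n7447 := rfl
def n7448 : Q := act 0 n4592
theorem D7448 : act 0 n4592 = n7448 := rfl
def n7449 : Q := act 2 n4592
theorem D7449 : act 2 n4592 = n7449 := rfl
def n7450 : Q := act 0 n4594
theorem D7450 : act 0 n4594 = n7450 := rfl
def n7451 : Q := act 2 n4594
theorem D7451 : act 2 n4594 = n7451 := rfl
def n7452 : Q := act 2 n4597
theorem D7452 : act 2 n4597 = n7452 := rfl
theorem F7591 : act 3 n7452 = n5441 := d7_2 (iv F3565) D7452 (iv D5441)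
def n7453 : Q := act 4 n4597
theorem D7453 : act 4 n4597 = n7453 := rfl
theorem F7592 : act 0 n7453 = n4599 := d3_1 D7453 (iv D4599) D4597
theorem F7593 : act 3 n7453 = n5558 := d9_1 D7453 F7565 (iv D7428) (iv D4574) F1944 D2889 (iv F3565)
theorem F7594 : act 2 n5449 = n7453 := d7_3 F7593 (iv D5558) (iv F4477)
def n7454 : Q := act 0 n4598
theorem D7454 : act 0 n4598 = n7454 := rfl
theorem F7595 : act 2 n7454 = n5097 := d15_2 D4598 D7454 (iv D5097) (iv D2690) (iv F1767) (iv F4061) F4062 (iv D4571) (iv F2686) (iv F5881) F5880 (iv D4597)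
theorem F7596 : act 3 n5450 = n7454 := d7_0 F7595 F4084 D5450
theorem F7597 : act 1 n7248 = n7454 := d16_3 D2136 D4348 D7248 F7595 (iv D5097) (iv D2690) (iv D1187) (iv F651) F652 D2674 (iv F1757) (iv D2134)
def n7455 : Q := act 1 n4598
theorem D7455 : act 1 n4598 = n7455 := rfl
def n7456 : Q := act 4 n4598
theorem D7456 : act 4 n4598 = n7456 := rfl
def n7457 : Q := act 2 n4599
theorem D7457 : act 2 n4599 = n7457 := rfl
def n7458 : Q := act 0 n4600
theorem D7458 : act 0 n4600 = n7458 := rfl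
def n7459 : Q := act 2 n4600
theorem D7459 : act 2 n4600 = n7459 := rfl
def n7460 : Q := act 1 n4602
theorem D7460 : act 1 n4602 = n7460 := rfl
theorem F7598 : act 3 n7460 = n6599 := d5_2 F7590 D7460 (iv F7588)
theorem F7599 : act 4 n7460 = n4663 := d6_2 (iv F3570) D7460 (iv D4663)
def n7461 : Q := act 4 n4603
theorem D7461 : act 4 n4603 = n7461 := rfl
theorem F7600 : act 0 n7461 = n4901 := d3_1 D7461 (iv D4901) (iv F3572)
theorem F7601 : act 1 n7461 = n4604 := d6_1 D7461 (iv D4604) D4603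
theorem F7602 : act 3 n6867 = n7461 := d5_0 F7601 F3574 D6867
def n7462 : Q := act 2 n4604
theorem D7462 : act 2 n4604 = n7462 := rfl
theorem F7603 : act 3 n7462 = n6830 := d7_2 (iv F3574) D7462 F6589
theorem F7604 : act 0 n7462 = n4609 := d10_3 (iv F3025) (iv F3573) D7462 F3590 (iv D4045) F1200 D1967
def n7463 : Q := act 1 n4605
theorem D7463 : act 1 n4605 = n7463 := rfl
theorem F7605 : act 3 n7463 = n6853 := d5_2 (iv F3575) D7463 (iv D6853)
theorem F7606 : act 0 n7463 = n4923 := d16_6 D2551 F1655 (iv D2551) (iv F1458) D4605 D7463 (iv D4923) (iv D2573) (iv D1123) (iv D455) (iv F213) (iv F609)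
def n7464 : Q := act 4 n4605
theorem D7464 : act 4 n4605 = n7464 := rfl
theorem F7607 : act 0 n7464 = n6898 := d3_1 D7464 F6709 (iv F3576)
theorem F7608 : act 3 n7464 = n6838 := d12_2 (iv F3575) D7464 F6603 (iv D4061) (iv D1982) D1981 (iv F2999)
def n7465 : Q := act 2 n4606
theorem D7465 : act 2 n4606 = n7465 := rfl
theorem F7609 : act 0 n7465 = n6876 := d1_1 D7465 (iv D6876) (iv F3573) D7462 F7604 (iv D4609) (iv F3577)
theorem F7610 : act 3 n7465 = n6832 := d7_2 (iv F3578) D7465 (iv D6832)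
theorem F7611 : act 1 n7465 = n5181 := d14_2 F5140 D7465 F4168 F1814 F1198 (iv F796) D3136 D5831 F4979 F4088 (iv F5139)
theorem F7612 : act 4 n5178 = n7465 := d6_0 F7611 (iv D5181) D5178
def n7466 : Q := act 4 n4607
theorem D7466 : act 4 n4607 = n7466 := rfl
theorem F7613 : act 0 n7466 = n4746 := d3_1 D7466 (iv D4746) (iv F3581)
theorem F7614 : act 1 n7466 = n4617 := d6_1 D7466 (iv D4617) (iv F3579)
theorem F7615 : act 3 n7466 = n4738 := d12_2 (iv F3580) D7466 (iv D4738) (iv D2462) (iv D1064) D1063 (iv F1555)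
def n7467 : Q := act 2 n4608
theorem D7467 : act 2 n4608 = n7467 := rfl
theorem F7616 : act 3 n7467 = n4730 := d7_2 (iv F3586) D7467 (iv D4730)
theorem F7617 : act 0 n7467 = n4791 := d10_3 (iv F1582) (iv F3584) D7467 (iv D4791) (iv D2489) F585 D1079
def n7468 : Q := act 1 n4611
theorem D7468 : act 1 n4611 = n7468 := rfl
theorem F7618 : act 3 n7468 = n6850 := d5_2 (iv F3592) D7468 (iv D6850)
theorem F7619 : act 0 n7468 = n5697 := d13_3 D2361 D4611 D7468 F4757 (iv F3878) (iv D4891) (iv D2555) (iv D1113) (iv F609) (iv F1458) F1457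
def n7469 : Q := act 4 n4611
theorem D7469 : act 4 n4611 = n7469 := rfl
theorem F7620 : act 0 n7469 = n4613 := d3_1 D7469 (iv D4613) D4611
theorem F7621 : act 2 n7469 = n5178 := d8_1 D7469 F7612 (iv D7465) (iv D4606) (iv F1802) D5159 F4148
theorem F7622 : act 3 n7469 = n6839 := d12_2 (iv F3592) D7469 F6604 F6584 (iv D1943) D1942 D4009
def n7470 : Q := act 2 n4612
theorem D7470 : act 2 n4612 = n7470 := rfl
theorem F7623 : act 1 n7470 = n4627 := d4_1 D7470 (iv D4627) (iv D2371) (iv D1016) (iv F538) D2361 D4612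
theorem F7624 : act 3 n7470 = n6906 := d7_2 (iv F3593) D7470 (iv D6906)
theorem F7625 : act 0 n7470 = n4952 := d10_3 D2587 (iv F3594) D7470 (iv D4952) (iv D2589) (iv D1131) D1130
theorem F7626 : act 1 n4925 = n4952 := d15_11 (iv D7470) F3594 (iv F3929) F7024 (iv D7114) F3178 F1255 D2066 D4225 F3182 D4925 (iv F7625)
theorem F7627 : act 3 n4950 = n4925 := d5_0 F7626 (iv D4952) D4950
def n7471 : Q := act 4 n4612
theorem D7471 : act 4 n4612 = n7471 := rfl
theorem F7628 : act 0 n7471 = n4947 := d3_1 D7471 (iv D4947) (iv F3594)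
theorem F7629 : act 1 n7471 = n4613 := d6_1 D7471 (iv D4613) D4612
theorem F7630 : act 3 n7471 = n4980 := d12_2 (iv F3593) D7471 F3953 (iv F3939) (iv D4961) D4960 F3936
def n7472 : Q := act 0 n4614
theorem D7472 : act 0 n4614 = n7472 := rfl
theorem F7631 : act 1 n7472 = n4821 := d0_2 F4341 D7472 (iv F7579) F7580 (iv D4897) D4898 (iv F4343)
theorem F7632 : act 2 n7472 = n6364 := d1_2 D4614 D7472 (iv D6364) F2645 F2017 (iv D2364) D2363
theorem F7633 : act 3 n7472 = n6582 := d10_4 (iv D2365) D2363 D4614 D7472 F6145 F4216 (iv D4618)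
def n7473 : Q := act 4 n4614
theorem D7473 : act 4 n4614 = n7473 := rfl
def n7474 : Q := act 2 n4615
theorem D7474 : act 2 n4615 = n7474 := rfl
def n7475 : Q := act 3 n4615
theorem D7475 : act 3 n4615 = n7475 := rfl
theorem F7634 : act 1 n7475 = n7348 := d5_1 D7475 F7457 F6725
def n7476 : Q := act 4 n4616
theorem D7476 : act 4 n4616 = n7476 := rfl
theorem F7635 : act 0 n7476 = n6956 := d3_1 D7476 (iv D6956) F3598
theorem F7636 : act 1 n7476 = n4716 := d6_1 D7476 (iv D4716) (iv F3596)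
theorem F7637 : act 3 n7476 = n6372 := d12_2 D4616 D7476 (iv D6372) (iv D3586) (iv D1706) D1705 F2017
def n7477 : Q := act 2 n4617
theorem D7477 : act 2 n4617 = n7477 := rfl
def n7478 : Q := act 3 n4617
theorem D7478 : act 3 n4617 = n7478 := rfl
theorem F7638 : act 1 n7478 = n4738 := d5_1 D7478 (iv F7615) F7614
theorem F7639 : act 0 n6970 = n7478 := d0_7 F7638 (iv D4738) F1574 D2808 (iv F1879) D4108 D6970
def n7479 : Q := act 4 n4618
theorem D7479 : act 4 n4618 = n7479 := rfl
theorem F7640 : act 0 n7479 = n4619 := d3_1 D7479 (iv D4619) D4618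
theorem F7641 : act 1 n7479 = n6973 := d6_1 D7479 (iv D6973) (iv F3600)
def n7480 : Q := act 2 n4619
theorem D7480 : act 2 n4619 = n7480 := rfl
theorem F7642 : act 3 n7480 = n7384 := d7_2 F3602 D7480 (iv D7384)
def n7481 : Q := act 1 n4620
theorem D7481 : act 1 n4620 = n7481 := rfl
def n7482 : Q := act 3 n4620
theorem D7482 : act 3 n4620 = n7482 := rfl
theorem F7643 : act 2 n7482 = n4621 := d7_1 D7482 (iv D4621) D4620
def n7483 : Q := act 4 n4620
theorem D7483 : act 4 n4620 = n7483 := rfl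
def n7484 : Q := act 0 n4621
theorem D7484 : act 0 n4621 = n7484 := rfl
def n7485 : Q := act 4 n4621
theorem D7485 : act 4 n4621 = n7485 := rfl
theorem F7644 : act 1 n7485 = n4622 := d6_1 D7485 (iv D4622) (iv F3603)
theorem F7645 : act 3 n7485 = n4673 := d9_1 D7485 F3664 F3602 (iv D4619) (iv D2365) D2366 D4621
def n7486 : Q := act 0 n4623
theorem D7486 : act 0 n4623 = n7486 := rfl
theorem F7646 : act 1 n7486 = n6997 := d14_4 (iv F1528) D2369 D4623 D7486 (iv D6997) (iv D4130) (iv D2022) (iv D860) (iv D341) (iv F147) (iv F441)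
def n7487 : Q := act 2 n4623
theorem D7487 : act 2 n4623 = n7487 := rfl
theorem F7647 : act 1 n7487 = n4979 := d4_1 D7487 (iv D4979) F1717 (iv D1976) (iv F1528) D2369 D4623
theorem F7648 : act 3 n7487 = n4671 := d7_2 (iv F3607) D7487 (iv D4671)
theorem F7649 : act 0 n7487 = n7007 := d13_1 D7487 (iv D7007) (iv D4134) (iv D2023) D2022 D4130 (iv F3963) (iv F7289) F7288 (iv F7646) (iv D7486)
def n7488 : Q := act 4 n4623
theorem D7488 : act 4 n4623 = n7488 := rfl
theorem F7650 : act 1 n7488 = n4624 := d6_1 D7488 (iv D4624) D4623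
theorem F7651 : act 3 n4629 = n7488 := d5_0 F7650 F3608 (iv F3610)
def n7489 : Q := act 0 n4625
theorem D7489 : act 0 n4625 = n7489 := rfl
theorem F7652 : act 1 n7489 = n7104 := d0_2 D4625 D7489 F6985 F6847 (iv D4626) (iv D2371) D2370
theorem F7653 : act 2 n7489 = n4919 := d10_2 F3629 D7489 (iv D4919) F1682 D3111 D5783 F4913
theorem F7654 : act 3 n7489 = n5628 := d16_2 F3629 D7489 F4660 F3155 (iv D4137) (iv D2025) (iv F468) D2090 (iv F3206) D7156 F7123 F4913
def n7490 : Q := act 2 n4625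
theorem D7490 : act 2 n4625 = n7490 := rfl
theorem F7655 : act 0 n7490 = n7067 := d10_3 (iv F7654) (iv D7489) D7490 (iv D7067) (iv F4662) (iv D5629) D5628
def n7491 : Q := act 2 n4626
theorem D7491 : act 2 n4626 = n7491 := rfl
def n7492 : Q := act 4 n4626
theorem D7492 : act 4 n4626 = n7492 := rfl
theorem F7656 : act 0 n7492 = n4629 := d3_1 D7492 (iv D4629) D4626
theorem F7657 : act 1 n7492 = n6909 := d6_1 D7492 F6849 F6847
def n7493 : Q := act 3 n4627
theorem D7493 : act 3 n4627 = n7493 := rfl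
theorem F7658 : act 1 n7493 = n6906 := d5_1 D7493 (iv F7624) F7623
theorem F7659 : act 2 n7493 = n4628 := d7_1 D7493 (iv D4628) D4627
def n7494 : Q := act 4 n4627
theorem D7494 : act 4 n4627 = n7494 := rfl
theorem F7660 : act 0 n7494 = n7142 := d3_1 D7494 (iv D7142) F4601
def n7495 : Q := act 0 n4628
theorem D7495 : act 0 n4628 = n7495 := rfl
theorem F7661 : act 1 n7495 = n7045 := d14_4 (iv F1533) (iv F1473) (iv F3609) D7495 (iv D7045) (iv D4161) (iv D2035) F457 F157 (iv F149) D846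
theorem F7662 : act 0 n7493 = n7040 := d13_5 D7084 F6947 (iv F7661) (iv D7495) (iv F7659) (iv D7040) (iv D4157) F1238 D2035 D4161 (iv F3147)
def n7496 : Q := act 4 n4628
theorem D7496 : act 4 n4628 = n7496 := rfl
theorem F7663 : act 1 n7496 = n4630 := d6_1 D7496 (iv D4630) (iv F3609)
theorem F7664 : act 3 n7496 = n4672 := d9_1 D7496 (iv D4672) (iv F3607) D7488 (iv F7651) (iv D4629) D4628
def n7497 : Q := act 4 n4631
theorem D7497 : act 4 n4631 = n7497 := rfl
theorem F7665 : act 0 n7497 = n4634 := d3_1 D7497 (iv D4634) D4631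
theorem F7666 : act 1 n7497 = n6417 := d6_1 D7497 (iv F6898) F6895
theorem F7667 : act 3 n5870 = n7497 := d5_0 F7666 F5882 (iv F5050)
def n7498 : Q := act 0 n4632
theorem D7498 : act 0 n4632 = n7498 := rfl
def n7499 : Q := act 1 n4632
theorem D7499 : act 1 n4632 = n7499 := rfl
def n7500 : Q := act 3 n4632
theorem D7500 : act 3 n4632 = n7500 := rfl
theorem F7668 : act 2 n7500 = n4633 := d7_1 D7500 (iv D4633) D4632
def n7501 : Q := act 4 n4632
theorem D7501 : act 4 n4632 = n7501 := rfl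
def n7502 : Q := act 0 n4633
theorem D7502 : act 0 n4633 = n7502 := rfl
theorem F7669 : act 1 n7502 = n7084 := d0_2 (iv F3612) D7502 F6947 (iv F7661) (iv D7495) F3609 (iv F1476)
theorem F7670 : act 3 n7502 = n5741 := d2_2 D4633 D7502 F4805 F4685 F4594 F4595 (iv D4631)
theorem F7671 : act 2 n7502 = n5742 := d10_2 D4633 D7502 F4806 F4793 (iv D5726) (iv F4596) (iv D4631)
theorem F7672 : act 0 n7076 = n7500 := d13_11 F7668 D7502 F7669 F6947 (iv D7045) (iv F3147) (iv D4196) (iv D2052) (iv F1245) D4192 D7076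
def n7503 : Q := act 4 n4633
theorem D7503 : act 4 n4633 = n7503 := rfl
theorem F7673 : act 1 n7503 = n4635 := d6_1 D7503 (iv D4635) (iv F3612)
theorem F7674 : act 3 n4662 = n7503 := d5_0 F7673 F3615 (iv F3651)
def n7504 : Q := act 2 n4634
theorem D7504 : act 2 n4634 = n7504 := rfl
theorem F7675 : act 0 n7504 = n6064 := d13_1 D7504 F5391 (iv F5176) (iv D5956) F2337 (iv F2400) F2399 D3635 (iv F5883) (iv F7666) F7665
def n7505 : Q := act 3 n4634
theorem D7505 : act 3 n4634 = n7505 := rfl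
theorem F7676 : act 1 n7505 = n4636 := d5_1 D7505 (iv D4636) (iv F3613)
theorem F7677 : act 4 n7505 = n4661 := d9_2 D4634 D7505 (iv D4661) D4662 F7674 (iv D7503) (iv D4633)
def n7506 : Q := act 4 n4637
theorem D7506 : act 4 n4637 = n7506 := rfl
theorem F7678 : act 1 n7506 = n6428 := d6_1 D7506 F7021 F7019
def n7507 : Q := act 2 n4638
theorem D7507 : act 2 n4638 = n7507 := rfl
theorem F7679 : act 1 n7507 = n6434 := d4_1 D7507 (iv D6434) (iv D3647) (iv D1743) (iv F1023) D3635 (iv F3619)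
theorem F7680 : act 3 n7507 = n6486 := d7_2 F3620 D7507 (iv D6486)
theorem F7681 : act 0 n7507 = n6157 := d10_3 (iv F1660) (iv F3618) D7507 (iv D6157) (iv F2499) (iv D3446) F932
def n7508 : Q := act 2 n4639
theorem D7508 : act 2 n4639 = n7508 := rfl
theorem F7682 : act 1 n7508 = n7141 := d4_1 D7508 F7074 F3199 (iv F3201) (iv F6880) F6881 F3622
theorem F7683 : act 3 n7508 = n5734 := d7_2 (iv F3621) D7508 F4801
def n7509 : Q := act 4 n4639
theorem D7509 : act 4 n4639 = n7509 := rfl
theorem F7684 : act 0 n7509 = n4641 := d3_1 D7509 (iv D4641) D4639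
theorem F7685 : act 1 n7509 = n7038 := d6_1 D7509 (iv D7038) F3622
theorem F7686 : act 3 n7509 = n7360 := d12_2 (iv F3621) D7509 F7466 (iv F7355) F7354 (iv D5635) (iv F3157)
def n7510 : Q := act 4 n4640
theorem D7510 : act 4 n4640 = n7510 := rfl
theorem F7687 : act 0 n7510 = n7152 := d3_1 D7510 (iv D7152) F7007
theorem F7688 : act 1 n7510 = n4955 := d6_1 D7510 (iv D4955) (iv F3623)
theorem F7689 : act 3 n7510 = n4653 := d9_1 D7510 (iv D4653) (iv D2393) D2394 (iv F7102) (iv D4641) D4640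
def n7511 : Q := act 2 n4641
theorem D7511 : act 2 n4641 = n7511 := rfl
theorem F7690 : act 3 n7511 = n4654 := d7_2 (iv F7102) D7511 (iv D4654)
theorem F7691 : act 4 n7511 = n4777 := d8_2 D4641 D7511 (iv D4777) (iv F3783) F2719 (iv D2381) D2379
theorem F7692 : act 1 n4847 = n7511 := d6_3 F7691 F3762 D4847
theorem E868 : n4858 = n4847 := (c5_1 D4858 F7692 F7690 (iv F3645))
theorem F7693 : act 3 n4847 = n2530 := (sb E868 (iv D4858))
def n7512 : Q := act 2 n4642
theorem D7512 : act 2 n4642 = n7512 := rfl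
theorem F7694 : act 1 n7512 = n7160 := d4_1 D7512 (iv D7160) (iv D4258) (iv D2079) D2078 D4255 (iv F3626)
def n7513 : Q := act 2 n4644
theorem D7513 : act 2 n4644 = n7513 := rfl
theorem F7695 : act 0 n7513 = n7173 := d1_1 D7513 F7171 (iv D5786) (iv D3112) D3111 D5783 F4913
theorem F7696 : act 3 n7513 = n7490 := d7_2 (iv F3629) D7513 (iv D7490)
def n7514 : Q := act 4 n4644
theorem D7514 : act 4 n4644 = n7514 := rfl
theorem F7697 : act 1 n7514 = n4645 := d6_1 D7514 (iv D4645) D4644
theorem F7698 : act 3 n7514 = n4649 := d9_1 D7514 (iv D4649) (iv D2387) D2388 D4650 (iv F3638) (iv F3629)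
def n7515 : Q := act 3 n4646
theorem D7515 : act 3 n4646 = n7515 := rfl
theorem F7699 : act 1 n7515 = n4647 := d5_1 D7515 (iv D4647) D4646
theorem F7700 : act 2 n7515 = n4973 := d7_1 D7515 (iv D4973) (iv F3633)
theorem F7701 : act 0 n7515 = n4990 := d10_1 D7515 (iv D4990) (iv D2618) (iv D1148) D1147 D2615 (iv F3632)
def n7516 : Q := act 4 n4647
theorem D7516 : act 4 n4647 = n7516 := rfl
def n7517 : Q := act 3 n4648
theorem D7517 : act 3 n4648 = n7517 := rfl
def n7518 : Q := act 2 n4649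
theorem D7518 : act 2 n4649 = n7518 := rfl
theorem F7702 : act 0 n7518 = n6557 := d10_3 F5353 F4968 D7518 (iv D6557) D6555 F6100 (iv F5348)
theorem F7703 : act 2 n6557 = n5810 := d11_4 F3634 D4649 D7518 F7702 (iv D5810) D5808 F4945
theorem F7704 : act 3 n5810 = n6556 := d7_2 D6557 F7703 (iv D6556)
def n7519 : Q := act 0 n4650
theorem D7519 : act 0 n4650 = n7519 := rfl
theorem F7705 : act 1 n7519 = n6031 := d0_2 (iv F3637) D7519 (iv F6727) (iv F7657) F7656 F3610 (iv F1667)
theorem F7706 : act 2 n7519 = n6724 := d1_2 F5383 D7519 (iv D6724) F2921 D5813 (iv F6477) F6475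
theorem F7707 : act 4 n7519 = n7489 := d3_2 F3638 D7519 (iv D7489)
theorem F7708 : act 3 n7519 = n6067 := d10_4 D6783 F6475 F5383 D7519 F5395 (iv F6470) (iv D6781)
def n7520 : Q := act 0 n4651
theorem D7520 : act 0 n4651 = n7520 := rfl
theorem F7709 : act 2 n7520 = n5876 := d1_2 (iv F3640) D7520 F5061 F3335 D4404 F3336 F2106
theorem F7710 : act 3 n7520 = n5875 := d2_2 D4651 D7520 (iv F5085) F5087 (iv F4163) (iv D5170) F1806
theorem F7711 : act 1 n7520 = n5492 := d14_4 (iv F1321) (iv F3302) (iv F3639) D7520 (iv D5492) F1972 (iv F1609) (iv F3802) (iv F3804) (iv D4373) (iv D2159)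
def n7521 : Q := act 4 n4652
theorem D7521 : act 4 n4652 = n7521 := rfl
theorem F7712 : act 0 n7521 = n4653 := d3_1 D7521 (iv D4653) D4652
theorem F7713 : act 1 n7521 = n7039 := d6_1 D7521 F6887 F3642
theorem F7714 : act 3 n7521 = n7035 := d9_1 D7521 (iv D7035) (iv F3621) D7509 F7686 (iv D7360) (iv F3641)
def n7522 : Q := act 2 n4653
theorem D7522 : act 2 n4653 = n7522 := rfl
theorem F7715 : act 4 n7522 = n4786 := d8_2 D4653 D7522 F3767 (iv F5951) (iv D4658) (iv D2396) (iv F1489)
theorem F7716 : act 1 n4856 = n7522 := d6_3 F7715 F3766 D4856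
def n7523 : Q := act 4 n4656
theorem D7523 : act 4 n4656 = n7523 := rfl
theorem F7717 : act 1 n7523 = n6430 := d6_1 D7523 (iv F7389) F7387
theorem F7718 : act 3 n6429 = n7523 := d5_0 F7717 (iv D6430) D6429
def n7524 : Q := act 2 n4657
theorem D7524 : act 2 n4657 = n7524 := rfl
theorem F7719 : act 1 n7524 = n6441 := d4_1 D7524 F5920 F2704 F1029 (iv F1025) (iv F2690) (iv F3648)
theorem F7720 : act 3 n7524 = n6421 := d7_2 (iv F3649) D7524 (iv D6421)
def n7525 : Q := act 4 n4659
theorem D7525 : act 4 n4659 = n7525 := rfl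
theorem F7721 : act 0 n7525 = n4662 := d3_1 D7525 (iv D4662) D4659
theorem F7722 : act 1 n7525 = n6418 := d6_1 D7525 (iv F7380) F7378
theorem F7723 : act 3 n7525 = n5725 := d9_1 D7525 (iv D5725) F4595 D7497 (iv F7667) (iv D5870) (iv F5047)
def n7526 : Q := act 1 n4660
theorem D7526 : act 1 n4660 = n7526 := rfl
def n7527 : Q := act 3 n4660
theorem D7527 : act 3 n4660 = n7527 := rfl
theorem F7724 : act 2 n7527 = n4661 := d7_1 D7527 (iv D4661) D4660
def n7528 : Q := act 4 n4660
theorem D7528 : act 4 n4660 = n7528 := rfl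
def n7529 : Q := act 0 n4661
theorem D7529 : act 0 n4661 = n7529 := rfl
theorem F7725 : act 1 n7529 = n7252 := d0_2 (iv F3650) D7529 F7288 (iv F7646) (iv D7486) (iv D4623) (iv F1495)
theorem F7726 : act 3 n7529 = n5881 := d2_2 D4661 D7529 F5065 F5049 (iv D5869) (iv F5047) (iv D4659)
theorem F7727 : act 2 n7529 = n5833 := d10_2 D4661 D7529 F4980 F5052 (iv D5871) F5048 (iv D4659)
theorem F7728 : act 0 n7328 = n7527 := d13_11 F7724 D7529 F7725 F7288 (iv D6997) (iv F3963) F3964 (iv D2224) (iv F1369) D4471 D7328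
def n7530 : Q := act 2 n4662
theorem D7530 : act 2 n4662 = n7530 := rfl
theorem F7729 : act 0 n7530 = n6045 := d13_1 D7530 F5367 (iv F5180) F5181 F2340 (iv F2403) F2404 (iv F2690) (iv F5885) (iv F7722) F7721
def n7531 : Q := act 0 n4663
theorem D7531 : act 0 n4663 = n7531 := rfl
theorem F7730 : act 3 n7531 = n6576 := d2_2 (iv F3652) D7531 F6139 F2828 (iv D2228) F1079 (iv F2832)
def n7532 : Q := act 2 n4663
theorem D7532 : act 2 n4663 = n7532 := rfl
theorem F7731 : act 3 n7532 = n6592 := d7_2 (iv F3652) D7532 (iv D6592)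
theorem F7732 : act 0 n7532 = n5016 := d10_3 (iv F7730) (iv D7531) D7532 F3991 (iv F6142) (iv D6577) (iv F6139)
def n7533 : Q := act 1 n4664
theorem D7533 : act 1 n4664 = n7533 := rfl
theorem F7733 : act 3 n7533 = n6837 := d5_2 (iv F3653) D7533 (iv D6837)
theorem F7734 : act 0 n7533 = n5026 := d16_6 (iv F1654) F1652 F1654 (iv F1497) D4664 D7533 (iv D5026) (iv D2642) (iv D1165) (iv D473) D472 D1162
def n7534 : Q := act 4 n4664
theorem D7534 : act 4 n4664 = n7534 := rfl
theorem F7735 : act 0 n7534 = n6897 := d3_1 D7534 (iv D6897) (iv F3654)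
theorem F7736 : act 3 n7534 = n6854 := d9_1 D7534 (iv D6854) (iv F3575) D7464 F7608 (iv D6838) (iv F3653)
def n7535 : Q := act 2 n4665
theorem D7535 : act 2 n4665 = n7535 := rfl
theorem F7737 : act 3 n7535 = n6855 := d7_2 (iv F3657) D7535 (iv D6855)
theorem F7738 : act 0 n7535 = n6880 := d10_3 (iv F1535) (iv F3655) D7535 F6676 F3043 F2206 (iv F1213)
theorem F7739 : act 4 n6836 = n7535 := d3_0 F7738 (iv D6880) (iv F6602)
def n7536 : Q := act 4 n4666
theorem D7536 : act 4 n4666 = n7536 := rfl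
theorem F7740 : act 0 n7536 = n4668 := d3_1 D7536 (iv D4668) D4666
theorem F7741 : act 3 n7536 = n6852 := d9_1 D7536 (iv D6852) (iv F3592) D7469 F7622 (iv D6839) (iv F3658)
theorem F7742 : act 2 n7536 = n5191 := d17_4 (iv D5176) D5174 F4165 D7536 (iv D5191) (iv D2747) F673 F240 D499 (iv F2188) (iv F1810) (iv F4167)
def n7537 : Q := act 2 n4667
theorem D7537 : act 2 n4667 = n7537 := rfl
theorem F7743 : act 1 n7537 = n4671 := d4_1 D7537 (iv D4671) (iv D2409) (iv D1034) D1033 D2407 D4667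
theorem F7744 : act 3 n7537 = n4979 := d7_2 (iv F3659) D7537 (iv D4979)
theorem F7745 : act 0 n7537 = n4991 := d10_3 D2624 (iv F3660) D7537 (iv D4991) (iv D2618) F637 D1150
theorem F7746 : act 1 n4991 = n5028 := d13_2 D7537 F7745 (iv D5028) (iv D2643) D2642 D5024 F4003 D5815 F4953 F3974 (iv F3660)
theorem F7747 : act 3 n5028 = n4989 := d5_2 D4991 F7746 (iv D4989)
def n7538 : Q := act 4 n4667
theorem D7538 : act 4 n4667 = n7538 := rfl
theorem F7748 : act 0 n7538 = n4949 := d3_1 D7538 F3933 (iv F3660)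
theorem F7749 : act 1 n7538 = n4668 := d6_1 D7538 (iv D4668) D4667
theorem F7750 : act 3 n7538 = n4985 := d9_1 D7538 F3958 (iv F3593) D7471 F7630 (iv D4980) (iv F3659)
def n7539 : Q := act 0 n4669
theorem D7539 : act 0 n4669 = n7539 := rfl
theorem F7751 : act 3 n7539 = n6833 := d2_2 (iv F3661) D7539 F6594 F4710 D4490 (iv F6557) F6556
theorem F7752 : act 4 n7539 = n6823 := d3_2 F3662 D7539 F6571
def n7540 : Q := act 1 n4669
theorem D7540 : act 1 n4669 = n7540 := rfl
theorem F7753 : act 3 n7540 = n4731 := d5_2 (iv F3661) D7540 F3728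
theorem F7754 : act 4 n7540 = n4718 := d6_2 F3662 D7540 F3716
theorem F7755 : act 0 n7540 = n4772 := d16_6 (iv F1475) F1474 F1475 (iv F1498) D4669 D7540 F3760 F1588 F586 (iv F2176) (iv F191) (iv F555)
def n7541 : Q := act 2 n4670
theorem D7541 : act 2 n4670 = n7541 := rfl
def n7542 : Q := act 4 n4670
theorem D7542 : act 4 n4670 = n7542 := rfl
theorem F7756 : act 0 n7542 = n4672 := d3_1 D7542 (iv D4672) D4670
theorem F7757 : act 1 n7542 = n6911 := d6_1 D7542 (iv F7455) F7453
theorem F7758 : act 3 n6910 = n7542 := d5_0 F7757 (iv D6911) D6910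
def n7543 : Q := act 4 n4671
theorem D7543 : act 4 n4671 = n7543 := rfl
theorem F7759 : act 0 n7543 = n7144 := d3_1 D7543 F7083 F5076
def n7544 : Q := act 0 n4673
theorem D7544 : act 0 n4673 = n7544 := rfl
theorem F7760 : act 4 n7544 = n7383 := d3_2 (iv F3664) D7544 (iv D7383)
def n7545 : Q := act 2 n4673
theorem D7545 : act 2 n4673 = n7545 := rfl
def n7546 : Q := act 4 n4674
theorem D7546 : act 4 n4674 = n7546 := rfl
theorem F7761 : act 3 n7546 = n4675 := d9_1 D7546 (iv D4675) (iv D2416) (iv D1038) D1037 D2415 D4674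
theorem F7762 : act 2 n7546 = n4679 := d11_2 (iv F5193) D7546 (iv F5150) F5152 (iv D3247) (iv F2341) D5969
def n7547 : Q := act 3 n4676
theorem D7547 : act 3 n4676 = n7547 := rfl
theorem F7763 : act 1 n7547 = n4677 := d5_1 D7547 (iv D4677) D4676
def n7548 : Q := act 4 n4677
theorem D7548 : act 4 n4677 = n7548 := rfl
theorem F7764 : act 3 n7548 = n4681 := d9_1 D7548 (iv D4681) (iv D2420) D2421 (iv F5201) (iv D4678) D4677
def n7549 : Q := act 0 n4683
theorem D7549 : act 0 n4683 = n7549 := rfl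
theorem F7765 : act 1 n7549 = n4695 := d0_2 D4683 D7549 (iv D4695) (iv D2435) (iv D1051) (iv F558) D2422
theorem F7766 : act 3 n7549 = n5643 := d2_2 (iv F4089) D7549 F4690 (iv F3771) (iv D4797) F3755 (iv F4087)
theorem F7767 : act 4 n7549 = n5912 := d3_2 F5400 D7549 (iv F5399)
def n7550 : Q := act 4 n4684
theorem D7550 : act 4 n4684 = n7550 := rfl
theorem F7768 : act 0 n7550 = n5169 := d3_1 D7550 (iv D5169) (iv F3671)
theorem F7769 : act 1 n7550 = n4686 := d6_1 D7550 (iv D4686) (iv F3670)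
theorem F7770 : act 3 n7550 = n4685 := d9_1 D7550 (iv D4685) (iv D2425) (iv D1043) D1042 D2424 D4684
def n7551 : Q := act 2 n4687
theorem D7551 : act 2 n4687 = n7551 := rfl
theorem F7771 : act 0 n7551 = n5351 := d13_1 D7551 (iv D5351) (iv D2843) (iv D1266) F253 F87 (iv F89) D538 (iv F566) D2428 D4687
theorem F7772 : act 4 n6144 = n7551 := d3_0 F7771 F4450 D6144
def n7552 : Q := act 3 n4687
theorem D7552 : act 3 n4687 = n7552 := rfl
theorem F7773 : act 1 n7552 = n6864 := d5_1 D7552 (iv F6650) (iv F3677)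
theorem F7774 : act 4 n6862 = n7552 := d6_0 F7773 (iv D6864) D6862
def n7553 : Q := act 0 n4688
theorem D7553 : act 0 n4688 = n7553 := rfl
theorem F7775 : act 4 n7553 = n6130 := d3_2 F7059 D7553 (iv F7055)
def n7554 : Q := act 3 n4688
theorem D7554 : act 3 n4688 = n7554 := rfl
theorem F7776 : act 2 n7554 = n4689 := d7_1 D7554 (iv D4689) D4688
def n7555 : Q := act 2 n4691
theorem D7555 : act 2 n4691 = n7555 := rfl
theorem F7777 : act 0 n7555 = n5259 := d1_1 D7555 (iv D5259) F1857 (iv D2749) F674 D2432 D4691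
theorem F7778 : act 1 n7555 = n4852 := d4_1 D7555 (iv D4852) D4851 F3845 (iv F4366) F4367 F3955
theorem F7779 : act 4 n7555 = n6148 := d8_2 (iv F3682) D7555 (iv D6148) (iv D3403) (iv D1605) D1607 D3406
def n7556 : Q := act 3 n4691
theorem D7556 : act 3 n4691 = n7556 := rfl
def n7557 : Q := act 0 n4692
theorem D7557 : act 0 n4692 = n7557 := rfl
theorem F7780 : act 4 n7557 = n6171 := d3_2 F7398 D7557 (iv F7399)
def n7558 : Q := act 2 n4693
theorem D7558 : act 2 n4693 = n7558 := rfl
theorem F7781 : act 0 n7558 = n5260 := d10_3 D2433 D4693 D7558 (iv D5260) F1857 (iv D2749) F674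
theorem F7782 : act 4 n6172 = n7558 := d3_0 F7781 (iv F5313) D6172
def n7559 : Q := act 3 n4693
theorem D7559 : act 3 n4693 = n7559 := rfl
theorem F7783 : act 1 n7559 = n6866 := d5_1 D7559 F6654 (iv F3684)
theorem F7784 : act 4 n7559 = n6865 := d12_1 D7559 (iv D6865) F3013 (iv D2743) F672 D2433 D4693
def n7560 : Q := act 4 n4693
theorem D7560 : act 4 n4693 = n7560 := rfl
theorem F7785 : act 0 n7560 = n4694 := d3_1 D7560 (iv D4694) D4693
theorem F7786 : act 1 n7560 = n6863 := d6_1 D7560 (iv F6648) (iv F3684)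
theorem F7787 : act 3 n7560 = n6862 := d9_1 D7560 F7774 (iv D7552) F3676 D6865 (iv F7784) (iv D7559)
theorem F7788 : act 2 n6164 = n7560 := d11_2 (iv D6162) D6164 F7785 F6499 (iv D6313) (iv F5690) F5691
theorem F7789 : act 0 n6137 = n5183 := d10_5 F4170 (iv F7785) (iv F7788) F5485 (iv F5454) F4169 D5185
theorem F7790 : act 4 n5183 = n6136 := d3_2 D6137 F7789 (iv D6136)
theorem E869 : n5184 = n3410 := (c12_6 D1609 D3412 (iv F5454) F7789 (iv D5183) D5184 (iv D3410) (iv D1608))
theorem E870 : n6160 = n2737 := ((D6160).symm.trans (sb E869 (iv D5184)))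
theorem F7791 : act 4 n2737 = n3410 := (sb E870 (iv D6160))
theorem F7792 : act 4 n6150 = n5182 := d3_2 F7791 (iv F5471) (iv D5182)
theorem F7793 : act 4 n6157 = n5118 := d6_2 F7791 (iv F5479) F4106
def n7561 : Q := act 2 n4695
theorem D7561 : act 2 n4695 = n7561 := rfl
theorem F7794 : act 3 n7561 = n5652 := d7_2 (iv F3687) D7561 (iv D5652)
def n7562 : Q := act 0 n4696
theorem D7562 : act 0 n4696 = n7562 := rfl
theorem F7795 : act 4 n7562 = n6476 := d3_2 F6427 D7562 (iv F6426)
theorem F7796 : act 3 n7562 = n5781 := d10_4 (iv F3687) (iv D4695) D4696 D7562 F4909 (iv D3986) (iv F2126)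
theorem F7797 : act 1 n7562 = n5782 := d13_2 D4696 D7562 F4912 (iv D4501) (iv F2216) F2214 D5428 F4412 D7549 F7765 (iv D4695)
theorem F7798 : act 2 n7562 = n5412 := d15_2 D4696 D7562 (iv D5412) F1937 F859 (iv F872) D3290 F2393 D4683 D7549 F7765 (iv D4695)
def n7563 : Q := act 1 n4696
theorem D7563 : act 1 n4696 = n7563 := rfl
theorem F7799 : act 2 n7563 = n5551 := d4_2 D4696 D7563 (iv D5551) (iv D2958) (iv D1326) (iv F572) D2435
theorem F7800 : act 3 n7563 = n5675 := d5_2 (iv F3688) D7563 (iv D5675)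
theorem F7801 : act 4 n7563 = n5897 := d6_2 F6427 D7563 (iv F6425)
def n7564 : Q := act 4 n4697
theorem D7564 : act 4 n4697 = n7564 := rfl
theorem F7802 : act 0 n7564 = n5668 := d3_1 D7564 (iv D5668) (iv F3689)
theorem F7803 : act 1 n7564 = n4813 := d6_1 D7564 (iv D4813) (iv F3690)
theorem F7804 : act 3 n7564 = n4702 := d12_2 D4697 D7564 (iv D4702) (iv D2441) (iv D1054) D1053 D2438
def n7565 : Q := act 3 n4698
theorem D7565 : act 3 n4698 = n7565 := rfl
theorem F7805 : act 0 n7565 = n5685 := d2_1 D7565 F5128 F5126 D5928 F5130 (iv D4700) (iv F3692)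
theorem F7806 : act 1 n7565 = n4819 := d5_1 D7565 F3794 (iv F3693)
def n7566 : Q := act 3 n4699
theorem D7566 : act 3 n4699 = n7566 := rfl
theorem F7807 : act 1 n7566 = n4961 := d5_1 D7566 F3939 F3695
theorem F7808 : act 2 n7566 = n4700 := d7_1 D7566 (iv D4700) D4699
theorem F7809 : act 4 n4958 = n7566 := d17_3 (iv D4961) D4958 F3935 F7808 F3696 F1558 F584 (iv F598) D2525 F2165 (iv F1698) (iv F3938)
def n7567 : Q := act 4 n4700
theorem D7567 : act 4 n4700 = n7567 := rfl
theorem F7810 : act 1 n7567 = n4723 := d6_1 D7567 (iv D4723) (iv F3696)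
theorem F7811 : act 2 n7567 = n7567 := d8_1 D7567 (iv D7567) (iv F7808) (iv F7809) F3935 F7809 F7808
theorem F7812 : act 3 n7567 = n4703 := d9_1 D7567 (iv D4703) (iv D2441) (iv D1054) D1053 D2439 D4700
def n7568 : Q := act 4 n4701
theorem D7568 : act 4 n4701 = n7568 := rfl
theorem F7813 : act 1 n7568 = n4960 := d6_1 D7568 F3937 (iv F3697)
theorem F7814 : act 2 n7568 = n7568 := d8_1 D7568 (iv D7568) F3698 D4703 F3729 (iv D4703) (iv F3698)
theorem F7815 : act 3 n7568 = n4958 := d9_1 D7568 F7809 (iv D7566) F3694 (iv D2607) (iv F1548) D4701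
theorem F7816 : act 0 n7087 = n7568 := d16_6 D4256 (iv F6951) (iv D7085) (iv D4196) D4197 D7087 F7815 (iv F7160) (iv D7168) (iv D4269) (iv F3206) (iv D4254)
theorem F7817 : act 4 n5211 = n7087 := d3_0 F7816 (iv D7568) (iv F4205)
theorem F7818 : act 1 n7088 = n5211 := d6_3 F7817 (iv D7087) D7088
def n7569 : Q := act 1 n4702
theorem D7569 : act 1 n4702 = n7569 := rfl
theorem F7819 : act 0 n7569 = n6499 := d0_1 D7569 F6013 (iv F3587) F3588 (iv D2456) (iv F1549) D4702
theorem F7820 : act 3 n7569 = n4813 := d5_2 F7804 D7569 (iv F7803)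
theorem F7821 : act 2 n6542 = n7569 := d15_8 D4730 F3726 (iv F3732) F3731 (iv F2777) F2778 (iv F2811) D6542 (iv D7569) (iv D4702) F1549 D2456
theorem F7822 : act 4 n7569 = n6574 := d11_1 F7821 (iv D6574) F2822 (iv F6071) (iv D3775) (iv F2811) D6542
def n7570 : Q := act 4 n4702
theorem D7570 : act 4 n4702 = n7570 := rfl
theorem F7823 : act 0 n7570 = n4703 := d3_1 D7570 (iv D4703) D4702
theorem F7824 : act 1 n7570 = n6574 := d6_1 D7570 (iv F7822) (iv D7569)
theorem F7825 : act 2 n7570 = n5212 := d11_2 F4199 D7570 F4206 F2212 (iv D2764) (iv F1833) D5208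
def n7571 : Q := act 2 n4704
theorem D7571 : act 2 n4704 = n7571 := rfl
theorem F7826 : act 0 n7571 = n4747 := d1_1 D7571 (iv D4747) F1575 D2467 D4749 F3747 (iv F3700)
def n7572 : Q := act 3 n4704
theorem D7572 : act 3 n4704 = n7572 := rfl
theorem F7827 : act 1 n7572 = n6074 := d5_1 D7572 (iv D6074) (iv F3701)
theorem F7828 : act 0 n7572 = n4711 := d12_3 D2442 D4704 D7572 (iv D4711) (iv D2445) (iv D1056) D1055
def n7573 : Q := act 3 n4705
theorem D7573 : act 3 n4705 = n7573 := rfl
theorem F7829 : act 2 n7573 = n4706 := d7_1 D7573 (iv D4706) D4705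
theorem F7830 : act 0 n7573 = n4757 := d10_1 D7573 (iv D4757) (iv D2470) (iv D1068) (iv F581) D2461 (iv F3702)
def n7574 : Q := act 0 n4706
theorem D7574 : act 0 n4706 = n7574 := rfl
theorem F7831 : act 2 n7574 = n4754 := d1_2 F7829 D7574 (iv D4754) F1576 D2470 D4757 (iv F7830)
theorem F7832 : act 3 n7574 = n4765 := d12_4 (iv D2442) D2443 D4706 D7574 (iv D4765) (iv D2476) (iv F1551)
theorem F7833 : act 4 n4802 = n7574 := d11_1 D4802 F7831 (iv D4754) F1576 D2471 (iv F6315) (iv F1588)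
def n7575 : Q := act 4 n4706
theorem D7575 : act 4 n4706 = n7575 := rfl
theorem F7834 : act 0 n7575 = n4802 := d3_1 D7575 F7833 (iv D7574)
theorem F7835 : act 1 n7575 = n6079 := d6_1 D7575 (iv D6079) (iv F3703)
def n7576 : Q := act 4 n4707
theorem D7576 : act 4 n4707 = n7576 := rfl
theorem F7836 : act 0 n7576 = n4733 := d3_1 D7576 (iv D4733) (iv F3704)
theorem F7837 : act 1 n7576 = n7430 := d6_1 D7576 (iv D7430) (iv F3705)
theorem F7838 : act 2 n7576 = n4719 := d11_2 D4707 D7576 (iv D4719) (iv D2450) (iv D1059) (iv F578) D2444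
def n7577 : Q := act 4 n4708
theorem D7577 : act 4 n4708 = n7577 := rfl
theorem F7839 : act 0 n7577 = n4765 := d3_1 D7577 (iv D4765) (iv F3707)
theorem F7840 : act 1 n7577 = n7443 := d6_1 D7577 (iv D7443) (iv F3708)
theorem F7841 : act 3 n7577 = n4714 := d12_2 D4708 D7577 (iv D4714) (iv D2447) (iv D1057) D1056 D2444
def n7578 : Q := act 2 n4709
theorem D7578 : act 2 n4709 = n7578 := rfl
theorem F7842 : act 0 n7578 = n4735 := d11_3 (iv D4707) D4709 D7578 (iv D4735) (iv D2460) (iv F1564) (iv F3704)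
def n7579 : Q := act 3 n4709
theorem D7579 : act 3 n4709 = n7579 := rfl
theorem F7843 : act 0 n7579 = n4766 := d2_1 D7579 (iv D4766) (iv F3700) D7572 F7828 (iv D4711) (iv F3710)
def n7580 : Q := act 0 n4710
theorem D7580 : act 0 n4710 = n7580 := rfl
theorem F7844 : act 2 n7580 = n4716 := d1_2 D4710 D7580 F3714 D4735 (iv F7842) (iv D7578) F3710
def n7581 : Q := act 1 n4710
theorem D7581 : act 1 n4710 = n7581 := rfl
theorem F7845 : act 4 n7581 = n5973 := d6_2 (iv F6353) D7581 (iv F6351)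
def n7582 : Q := act 3 n4710
theorem D7582 : act 3 n4710 = n7582 := rfl
theorem F7846 : act 2 n7582 = n4711 := d7_1 D7582 (iv D4711) D4710
theorem F7847 : act 0 n7582 = n4751 := d10_1 D7582 F3748 (iv F3734) (iv D4736) (iv F3714) (iv F7844) (iv D7580)
def n7583 : Q := act 4 n4711
theorem D7583 : act 4 n4711 = n7583 := rfl
theorem F7848 : act 3 n7583 = n4715 := d9_1 D7583 (iv D4715) (iv D2447) (iv D1057) D1056 D2445 D4711
theorem F7849 : act 2 n7583 = n4723 := d11_2 F7846 D7583 F3718 (iv F6313) (iv D4753) (iv F3748) (iv F7847)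
theorem E871 : n4732 = n4715 := (c7_4 (iv F7848) F7849 F3719 D4732)
theorem F7850 : act 2 n4715 = n2457 := (sb E871 (iv D4732))
theorem F7851 : act 2 n6223 = n6223 := d4_6 F7850 (iv F3699) F3729 F3699 (iv F7850) (iv F5574) F5574
def n7584 : Q := act 2 n4712
theorem D7584 : act 2 n4712 = n7584 := rfl
theorem F7852 : act 0 n7584 = n7206 := d1_1 D7584 F7225 F5204 (iv D5234) D5233 F4232 (iv F3711)
theorem F7853 : act 1 n7584 = n4977 := d4_1 D7584 (iv D4977) F2531 (iv D3467) F953 D2446 D4712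
theorem F7854 : act 4 n7584 = n7204 := d11_1 D7584 F7222 (iv D7204) (iv F4017) (iv F4233) F4232 (iv F3711)
def n7585 : Q := act 3 n4712
theorem D7585 : act 3 n4712 = n7585 := rfl
theorem F7855 : act 1 n7585 = n4713 := d5_1 D7585 (iv D4713) D4712
def n7586 : Q := act 0 n4713
theorem D7586 : act 0 n4713 = n7586 := rfl
theorem F7856 : act 2 n7586 = n4738 := d10_2 D4713 D7586 (iv D4738) (iv D2462) F581 D1067 (iv F1554)
def n7587 : Q := act 4 n4713
theorem D7587 : act 4 n4713 = n7587 := rfl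
theorem F7857 : act 2 n7587 = n4728 := d8_1 D7587 (iv D4728) F1561 D2457 (iv F7850) (iv D4715) (iv F3713)
def n7588 : Q := act 1 n4714
theorem D7588 : act 1 n4714 = n7588 := rfl
theorem F7858 : act 3 n7588 = n7443 := d5_2 F7841 D7588 (iv F7840)
def n7589 : Q := act 2 n4714
theorem D7589 : act 2 n4714 = n7589 := rfl
theorem F7859 : act 0 n7589 = n4737 := d1_1 D7589 F3735 D4738 (iv F7856) (iv D7586) F3713 D4714
def n7590 : Q := act 4 n4714
theorem D7590 : act 4 n4714 = n7590 := rfl
theorem F7860 : act 0 n7590 = n4715 := d3_1 D7590 (iv D4715) D4714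
def n7591 : Q := act 3 n4716
theorem D7591 : act 3 n4716 = n7591 := rfl
theorem F7861 : act 0 n7591 = n4748 := d2_1 D7591 (iv D4748) F1575 D2468 (iv F3734) (iv D4736) (iv F3714)
theorem F7862 : act 1 n7591 = n6372 := d5_1 D7591 (iv F7637) F7636
def n7592 : Q := act 1 n4717
theorem D7592 : act 1 n4717 = n7592 := rfl
def n7593 : Q := act 3 n4717
theorem D7593 : act 3 n4717 = n7593 := rfl
theorem F7863 : act 0 n7593 = n4774 := d2_1 D7593 (iv D4774) (iv D2481) D2483 D4780 (iv F5965) (iv F5966)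
theorem F7864 : act 2 n7593 = n4718 := d7_1 D7593 (iv D4718) D4717
def n7594 : Q := act 1 n4719
theorem D7594 : act 1 n4719 = n7594 := rfl
def n7595 : Q := act 3 n4719
theorem D7595 : act 3 n4719 = n7595 := rfl
theorem F7865 : act 0 n7595 = n4770 := d10_1 D7595 F3759 (iv F3715) (iv D4718) F1556 D2450 D4719
def n7596 : Q := act 4 n4719
theorem D7596 : act 4 n4719 = n7596 := rfl
theorem F7866 : act 0 n7596 = n4722 := d3_1 D7596 (iv D4722) D4719
theorem F7867 : act 1 n6601 = n7596 := d16_5 D3400 (iv F3556) F6173 (iv D6600) D6601 F7866 F5699 (iv F2464) (iv D3401) (iv D1605) D1604 F904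
theorem F7868 : act 4 n7594 = n6601 := d6_0 F7867 (iv D7596) D7594
def n7597 : Q := act 0 n4720
theorem D7597 : act 0 n4720 = n7597 := rfl
theorem F7869 : act 4 n7597 = n6314 := d3_2 F5697 D7597 (iv D6314)
theorem F7870 : act 2 n7597 = n5251 := d13_4 F7838 (iv D4719) D4720 D7597 (iv D5251) (iv D2784) D2783 (iv F2774) F2772 (iv F3730) (iv F7836)
theorem F7871 : act 1 n6980 = n7597 := d6_3 F7869 F5696 D6980
def n7598 : Q := act 2 n4720
theorem D7598 : act 2 n4720 = n7598 := rfl
theorem F7872 : act 1 n7598 = n4981 := d4_1 D7598 (iv D4981) F3695 (iv D4699) F1546 D2450 D4720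
def n7599 : Q := act 3 n4720
theorem D7599 : act 3 n4720 = n7599 := rfl
theorem F7873 : act 1 n7599 = n4721 := d5_1 D7599 (iv D4721) D4720
theorem F7874 : act 0 n7599 = n6308 := d12_3 D3531 F5697 D7599 F5685 (iv D3536) (iv D1679) D1677
theorem F7875 : act 4 n6307 = n7599 := d3_0 F7874 (iv D6308) D6307
def n7600 : Q := act 0 n4721
theorem D7600 : act 0 n4721 = n7600 := rfl
theorem F7876 : act 3 n7600 = n4768 := d2_2 D4721 D7600 (iv D4768) D4770 (iv F7865) (iv D7595) (iv D4719)
def n7601 : Q := act 4 n4721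
theorem D7601 : act 4 n4721 = n7601 := rfl
theorem F7877 : act 1 n7601 = n6307 := d6_1 D7601 F7875 F7873
theorem F7878 : act 3 n7601 = n4728 := d9_1 D7601 (iv D4728) (iv D2454) D2455 (iv F5699) (iv D4722) D4721
def n7602 : Q := act 4 n4724
theorem D7602 : act 4 n4724 = n7602 := rfl
theorem F7879 : act 0 n7602 = n4801 := d3_1 D7602 (iv D4801) (iv F3720)
def n7603 : Q := act 3 n4725
theorem D7603 : act 3 n4725 = n7603 := rfl
theorem F7880 : act 1 n7603 = n4983 := d5_1 D7603 (iv D4983) (iv F3722)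
theorem F7881 : act 2 n7603 = n4726 := d7_1 D7603 (iv D4726) D4725
def n7604 : Q := act 0 n4726
theorem D7604 : act 0 n4726 = n7604 := rfl
theorem F7882 : act 2 n7604 = n5265 := d10_2 D4726 D7604 (iv D5265) (iv D2793) D2791 (iv F2471) (iv F1559)
def n7605 : Q := act 4 n4726
theorem D7605 : act 4 n4726 = n7605 := rfl
theorem F7883 : act 1 n7605 = n4728 := d6_1 D7605 (iv D4728) (iv F3724)
theorem F7884 : act 3 n7605 = n6307 := d9_1 D7605 F7875 (iv D7599) (iv F5697) (iv D3531) F1560 D4726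
theorem F7885 : act 2 n7605 = n7605 := d7_3 F7884 F5683 (iv F7884)
theorem F7886 : act 0 n6994 = n7605 := d16_12 F7884 (iv D6307) (iv D3521) (iv D1670) (iv D704) (iv F337) (iv F929) D3442 (iv F3106) (iv D4126) D4127 D6994
theorem F7887 : act 4 n7604 = n6994 := d3_0 F7886 (iv D7605) D7604
theorem F7888 : act 1 n6995 = n7604 := d6_3 F7887 (iv D6994) D6995
def n7606 : Q := act 1 n4727
theorem D7606 : act 1 n4727 = n7606 := rfl
def n7607 : Q := act 2 n4727
theorem D7607 : act 2 n4727 = n7607 := rfl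
theorem F7889 : act 0 n7607 = n4734 := d1_1 D7607 F3732 (iv F3726) (iv D4730) (iv D2456) (iv F1561) D4727
theorem F7890 : act 3 n7429 = n7607 := d12_2 (iv F3706) D7429 F7889 (iv D4734) (iv D2459) D2458 (iv F3704)
theorem F7891 : act 1 n7607 = n7432 := d5_1 F7890 (iv D7432) (iv F7566)
theorem F7892 : act 0 n7432 = n6544 := d0_1 F7891 (iv D6544) (iv D3774) (iv F2778) F2777 (iv F3731) (iv F7889)
def n7608 : Q := act 3 n4727
theorem D7608 : act 3 n4727 = n7608 := rfl
theorem F7893 : act 0 n7608 = n4767 := d2_1 D7608 F3758 (iv F3720) (iv D4724) (iv D2452) D2454 D4727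
theorem F7894 : act 2 n7608 = n7429 := d7_1 D7608 F7890 (iv D7607)
def n7609 : Q := act 4 n4727
theorem D7609 : act 4 n4727 = n7609 := rfl
theorem F7895 : act 0 n7609 = n4728 := d3_1 D7609 (iv D4728) D4727
def n7610 : Q := act 1 n4730
theorem D7610 : act 1 n4730 = n7610 := rfl
def n7611 : Q := act 4 n4730
theorem D7611 : act 4 n4730 = n7611 := rfl
theorem F7896 : act 0 n7611 = n4784 := d3_1 D7611 (iv D4784) (iv F3726)
def n7612 : Q := act 2 n4731
theorem D7612 : act 2 n4731 = n7612 := rfl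
theorem F7897 : act 4 n7612 = n4738 := d11_1 D7612 (iv F7856) (iv D7586) F3713 D4715 F7850 (iv F3727)
theorem F7898 : act 0 n7612 = n4739 := d13_1 D7612 F3736 (iv F5290) (iv D5276) F1870 (iv F1834) (iv F4206) (iv F7825) F7823 F3699 (iv F3727)
def n7613 : Q := act 3 n4733
theorem D7613 : act 3 n4733 = n7613 := rfl
theorem F7899 : act 1 n7613 = n5280 := d5_1 D7613 (iv D5280) (iv F3730)
theorem F7900 : act 2 n7613 = n4780 := d7_1 D7613 (iv F5965) F5964
def n7614 : Q := act 4 n4734
theorem D7614 : act 4 n4734 = n7614 := rfl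
theorem F7901 : act 1 n7614 = n5281 := d6_1 D7614 (iv D5281) (iv F3731)
theorem F7902 : act 2 n7614 = n4739 := d11_2 (iv F3732) D7614 (iv F7898) (iv D7612) (iv D4731) D4730 F3726
def n7615 : Q := act 3 n4735
theorem D7615 : act 3 n4735 = n7615 := rfl
theorem F7903 : act 2 n7615 = n4736 := d7_1 D7615 (iv D4736) D4735
def n7616 : Q := act 4 n4736
theorem D7616 : act 4 n4736 = n7616 := rfl
theorem F7904 : act 0 n7616 = n4753 := d3_1 D7616 (iv D4753) (iv F3734)
theorem F7905 : act 1 n7616 = n5285 := d6_1 D7616 (iv D5285) (iv F3733)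
theorem F7906 : act 3 n7616 = n4739 := d9_1 D7616 (iv D4739) (iv D2462) (iv D1064) D1063 D2460 D4736
def n7617 : Q := act 4 n4737
theorem D7617 : act 4 n4737 = n7617 := rfl
theorem F7907 : act 1 n7617 = n6565 := d6_1 D7617 (iv F6128) F5007
theorem F7908 : act 2 n7617 = n4784 := d8_1 D7617 (iv D4784) (iv F3732) D7614 F7902 (iv D4739) (iv F3735)
def n7618 : Q := act 4 n4740
theorem D7618 : act 4 n4740 = n7618 := rfl
theorem F7909 : act 0 n7618 = n4742 := d3_1 D7618 (iv D4742) D4740
theorem F7910 : act 1 n7618 = n6929 := d6_1 D7618 (iv D6929) (iv F3737)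
def n7619 : Q := act 4 n4741
theorem D7619 : act 4 n4741 = n7619 := rfl
def n7620 : Q := act 2 n4742
theorem D7620 : act 2 n4742 = n7620 := rfl
def n7621 : Q := act 3 n4742
theorem D7621 : act 3 n4742 = n7621 := rfl
theorem F7911 : act 1 n7621 = n4748 := d5_1 D7621 (iv D4748) (iv F3739)
theorem F7912 : act 0 n7621 = n6285 := d12_3 F3583 D4742 D7621 (iv D6285) (iv D3507) (iv F967) D2563
def n7622 : Q := act 4 n4743
theorem D7622 : act 4 n4743 = n7622 := rfl
theorem F7913 : act 1 n7622 = n4745 := d6_1 D7622 (iv D4745) D4743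
theorem F7914 : act 2 n7622 = n4911 := d11_2 (iv F3740) D7622 (iv D4911) (iv D2567) (iv D1118) D1116 D2563
def n7623 : Q := act 4 n4744
theorem D7623 : act 4 n4744 = n7623 := rfl
theorem F7915 : act 0 n7623 = n7429 := d3_1 D7623 (iv D7429) (iv F3742)
theorem F7916 : act 1 n7623 = n7619 := d6_1 D7623 (iv D7619) (iv F3743)
theorem F7917 : act 2 n7623 = n4791 := d11_2 (iv F3744) D7623 (iv F7617) (iv D7467) (iv D4608) D4607 F3581
theorem F7918 : act 3 n7623 = n4790 := d12_2 D4744 D7623 (iv F7484) (iv D7372) (iv D4526) D4525 F3484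
def n7624 : Q := act 3 n4745
theorem D7624 : act 3 n4745 = n7624 := rfl
theorem F7919 : act 2 n7624 = n4774 := d7_1 D7624 (iv D4774) (iv F3745)
def n7625 : Q := act 2 n4746
theorem D7625 : act 2 n4746 = n7625 := rfl
theorem F7920 : act 3 n7625 = n4757 := d7_2 (iv F3746) D7625 (iv D4757)
def n7626 : Q := act 1 n4747
theorem D7626 : act 1 n4747 = n7626 := rfl
def n7627 : Q := act 3 n4747
theorem D7627 : act 3 n4747 = n7627 := rfl
theorem F7921 : act 2 n7627 = n4748 := d7_1 D7627 (iv D4748) D4747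
def n7628 : Q := act 4 n4747
theorem D7628 : act 4 n4747 = n7628 := rfl
theorem F7922 : act 2 n7628 = n4775 := d8_1 D7628 (iv D4775) (iv F3745) (iv D4745) (iv D2464) D2466 D4747
def n7629 : Q := act 4 n4748
theorem D7629 : act 4 n4748 = n7629 := rfl
theorem F7923 : act 3 n7629 = n4758 := d9_1 D7629 (iv D4758) (iv F3746) (iv D4746) (iv D2465) D2466 D4748
def n7630 : Q := act 1 n4749
theorem D7630 : act 1 n4749 = n7630 := rfl
def n7631 : Q := act 3 n4749
theorem D7631 : act 3 n4749 = n7631 := rfl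
theorem F7924 : act 2 n7631 = n4766 := d7_1 D7631 (iv D4766) (iv F3747)
def n7632 : Q := act 1 n4754
theorem D7632 : act 1 n4754 = n7632 := rfl
def n7633 : Q := act 3 n4754
theorem D7633 : act 3 n4754 = n7633 := rfl
theorem F7925 : act 2 n7633 = n4765 := d7_1 D7633 (iv F7832) F7831
def n7634 : Q := act 4 n4754
theorem D7634 : act 4 n4754 = n7634 := rfl
theorem F7926 : act 0 n7634 = n4755 := d3_1 D7634 (iv D4755) D4754
theorem F7927 : act 2 n7634 = n4801 := d8_1 D7634 (iv D4801) (iv D2493) D2494 D4802 F7833 F7831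
def n7635 : Q := act 0 n4756
theorem D7635 : act 0 n4756 = n7635 := rfl
theorem F7928 : act 1 n7635 = n6953 := d0_2 D4756 D7635 (iv D6953) F3521 (iv D4557) F1432 D2470
def n7636 : Q := act 2 n4756
theorem D7636 : act 2 n4756 = n7636 := rfl
def n7637 : Q := act 4 n4756
theorem D7637 : act 4 n4756 = n7637 := rfl
theorem F7929 : act 1 n7637 = n4758 := d6_1 D7637 (iv D4758) D4756
def n7638 : Q := act 1 n4757
theorem D7638 : act 1 n4757 = n7638 := rfl
def n7639 : Q := act 4 n4757
theorem D7639 : act 4 n4757 = n7639 := rfl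
theorem F7930 : act 2 n7639 = n4792 := d11_2 D4757 D7639 F3769 (iv F6316) (iv D4755) F1576 D2470
def n7640 : Q := act 2 n4758
theorem D7640 : act 2 n4758 = n7640 := rfl
theorem F7931 : act 4 n7640 = n4790 := d8_2 D4758 D7640 (iv D4790) D4792 (iv F7930) (iv D7639) (iv D4757)
def n7641 : Q := act 2 n4760
theorem D7641 : act 2 n4760 = n7641 := rfl
theorem F7932 : act 4 n7641 = n5723 := d11_1 D7641 F4787 F3912 D4941 F3924 (iv D4762) (iv F3752)
theorem F7933 : act 1 n5727 = n7641 := d17_1 D5727 (iv D7641) (iv D4760) (iv F1902) F1901 D2890 F1946 (iv F3023) D6874 F6667 (iv F4792) (iv D5726)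
theorem F7934 : act 3 n7641 = n5861 := d5_2 (iv F4794) F7933 F5029
def n7642 : Q := act 3 n4760
theorem D7642 : act 3 n4760 = n7642 := rfl
theorem F7935 : act 0 n7642 = n5645 := d2_1 D7642 (iv D5645) (iv F2405) D6035 F5359 (iv D4763) (iv F3752)
theorem F7936 : act 1 n7642 = n4806 := d5_1 D7642 (iv D4806) (iv F3753)
theorem F7937 : act 2 n7642 = n5861 := d7_1 D7642 (iv F7934) (iv D7641)
theorem F7938 : act 4 n6779 = n7642 := d8_0 F7937 (iv D5861) F3434 (iv F4408) (iv D5426) D5427 F6468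
theorem E872 : n6780 = n4806 := (c17_1 D6780 (iv F7936) F7937 (iv D5861) F3434 (iv D4458) D4457 F3433 D4484 D7340 F7438 (iv F6467) (iv D6778))
theorem F7939 : act 4 n4806 = n3939 := (sb E872 (iv D6780))
theorem E873 : n6519 = n4869 := (c9_2 F7939 (iv F6033) (iv D4869) F1638 (iv D1792) F1606 D2498 D4806)
theorem F7940 : act 2 n4869 = n3754 := (sb E873 (iv D6519))
theorem F7941 : act 3 n4869 = n3939 := (sb E873 F6033)
def n7643 : Q := act 4 n4763
theorem D7643 : act 4 n4763 = n7643 := rfl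
theorem F7942 : act 1 n7643 = n4772 := d6_1 D7643 (iv D4772) (iv F3756)
theorem F7943 : act 2 n7643 = n4799 := d8_1 D7643 (iv D4799) D4798 (iv F3975) (iv D4999) D5000 (iv F3979)
theorem F7944 : act 3 n7643 = n4799 := d9_1 D7643 (iv D4799) F3755 (iv D4761) (iv F1579) D2474 D4763
def n7644 : Q := act 2 n4764
theorem D7644 : act 2 n4764 = n7644 := rfl
theorem F7945 : act 0 n7644 = n7115 := d11_3 F2697 D4764 D7644 F7026 (iv D6425) F2695 D3642
theorem F7946 : act 4 n7644 = n7114 := d17_3 D2477 (iv F3757) D7644 F7023 (iv D4944) D4943 (iv F4154) (iv D3354) (iv D1580) (iv F889) (iv F1550) F1551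
def n7645 : Q := act 4 n4766
theorem D7645 : act 4 n4766 = n7645 := rfl
theorem F7947 : act 3 n7645 = n4802 := d9_1 D7645 F7833 F7832 (iv D4765) (iv D2476) D2477 D4766
theorem F7948 : act 2 n4772 = n7645 := d7_3 F7947 (iv D4802) (iv F3760)
def n7646 : Q := act 1 n4767
theorem D7646 : act 1 n4767 = n7646 := rfl
theorem F7949 : act 3 n7646 = n4800 := d5_2 (iv F3758) D7646 (iv D4800)
theorem F7950 : act 0 n7646 = n6435 := d16_6 (iv F3771) (iv D4797) F3755 F3754 D4767 D7646 (iv F5908) (iv F5916) F5917 (iv D5652) (iv F4691) F4690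
theorem F7951 : act 4 n6433 = n7646 := d17_0 (iv D7646) (iv D4767) (iv D2478) (iv F1581) (iv F2696) (iv D3642) F1026 F379 D738 D1743 D3647 D6433
def n7647 : Q := act 4 n4767
theorem D7647 : act 4 n4767 = n7647 := rfl
theorem F7952 : act 1 n7647 = n6433 := d6_1 D7647 F7951 (iv D7646)
theorem F7953 : act 3 n7647 = n4771 := d12_2 (iv F3758) D7647 (iv F6356) (iv D6145) (iv F2465) D4724 F3720
def n7648 : Q := act 0 n4769
theorem D7648 : act 0 n4769 = n7648 := rfl
theorem F7954 : act 3 n7648 = n6940 := d16_7 D6035 F5359 (iv D4763) F1580 D2479 D4769 D7648 F6766 (iv D5654) (iv D3038) (iv F2119) (iv F2405)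
theorem F7955 : act 4 n7648 = n6934 := d17_0 (iv D6934) (iv D4088) (iv D2001) (iv F1219) (iv F3067) F3066 (iv D2475) (iv D1070) D1072 D2479 D4769 D7648
theorem F7956 : act 1 n6935 = n7648 := d6_3 F7955 (iv D6934) D6935
theorem E874 : n6943 = n6935 := (c5_1 D6943 F7956 F7954 F6767)
theorem F7957 : act 3 n6935 = n4092 := (sb E874 (iv D6943))
theorem F7958 : act 3 n6942 = n6176 := d9_5 D6935 F7957 (iv D4092) D4091 D6942 (iv D6176) (iv F3076)
def n7649 : Q := act 2 n4769
theorem D7649 : act 2 n4769 = n7649 := rfl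
def n7650 : Q := act 3 n4769
theorem D7650 : act 3 n4769 = n7650 := rfl
theorem F7959 : act 0 n7650 = n6444 := d2_1 D7650 F5923 (iv F5996) (iv F5997) (iv F6766) (iv F7954) (iv D7648)
theorem F7960 : act 1 n7650 = n4770 := d5_1 D7650 (iv D4770) D4769
theorem F7961 : act 4 n6443 = n7650 := d3_0 F7959 (iv D6444) D6443
def n7651 : Q := act 4 n4769
theorem D7651 : act 4 n4769 = n7651 := rfl
theorem F7962 : act 0 n7651 = n6934 := d3_1 D7651 (iv F7955) (iv D7648)
theorem F7963 : act 1 n7651 = n4771 := d6_1 D7651 (iv D4771) D4769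
theorem F7964 : act 3 n7651 = n6433 := d12_2 (iv D7650) D7651 (iv D6433) F2701 D3729 (iv F5923) (iv F7959)
theorem F7965 : act 1 n6146 = n6933 := d0_4 F7963 (iv F6356) F5467 D6146 (iv D6933) D6934 (iv F7962)
theorem F7966 : act 2 n6433 = n7651 := d16_4 D6145 F6356 (iv F7953) F7952 F7963 (iv F6356) (iv D6145) F2464 F1562 F982 (iv F1562) (iv F2464)
def n7652 : Q := act 4 n4770
theorem D7652 : act 4 n4770 = n7652 := rfl
theorem F7967 : act 1 n7652 = n6443 := d6_1 D7652 F7961 F7960
theorem F7968 : act 3 n7652 = n4801 := d9_1 D7652 (iv D4801) (iv F3758) D7647 F7953 (iv D4771) D4770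
def n7653 : Q := act 0 n4773
theorem D7653 : act 0 n4773 = n7653 := rfl
def n7654 : Q := act 2 n4773
theorem D7654 : act 2 n4773 = n7654 := rfl
def n7655 : Q := act 3 n4773
theorem D7655 : act 3 n4773 = n7655 := rfl
theorem F7969 : act 1 n7655 = n4774 := d5_1 D7655 (iv D4774) D4773
def n7656 : Q := act 4 n4773
theorem D7656 : act 4 n4773 = n7656 := rfl
theorem F7970 : act 1 n7656 = n4775 := d6_1 D7656 (iv D4775) D4773
def n7657 : Q := act 4 n4774
theorem D7657 : act 4 n4774 = n7657 := rfl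
theorem F7971 : act 3 n7657 = n4792 := d12_2 D4774 D7657 F3769 (iv F3788) (iv D4781) (iv D2483) D2481
def n7658 : Q := act 3 n4775
theorem D7658 : act 3 n4775 = n7658 := rfl
theorem F7972 : act 4 n7658 = n4791 := d9_2 D4775 D7658 (iv D4791) D4792 (iv F7971) (iv D7657) (iv D4774)
def n7659 : Q := act 0 n4777
theorem D7659 : act 0 n4777 = n7659 := rfl
def n7660 : Q := act 3 n4777
theorem D7660 : act 3 n4777 = n7660 := rfl
theorem F7973 : act 1 n7660 = n4846 := d5_1 D7660 (iv D4846) (iv F3762)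
theorem F7974 : act 2 n7660 = n4778 := d7_1 D7660 (iv D4778) D4777
def n7661 : Q := act 3 n4785
theorem D7661 : act 3 n4785 = n7661 := rfl
def n7662 : Q := act 0 n4786
theorem D7662 : act 0 n4786 = n7662 := rfl
def n7663 : Q := act 3 n4787
theorem D7663 : act 3 n4787 = n7663 := rfl
theorem F7975 : act 0 n7663 = n7563 := d2_1 D7663 F7800 F4723 (iv D3687) F1041 D2488 D4787
theorem F7976 : act 1 n7663 = n6179 := d5_1 D7663 (iv F6825) F6824
theorem F7977 : act 2 n7663 = n5562 := d7_1 D7663 F4572 F4120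
theorem F7978 : act 4 n7663 = n6177 := d9_2 (iv F6823) D7663 (iv F5957) F5958 (iv F4747) F4746 D6985
def n7664 : Q := act 0 n4789
theorem D7664 : act 0 n4789 = n7664 := rfl
def n7665 : Q := act 2 n4789
theorem D7665 : act 2 n4789 = n7665 := rfl
def n7666 : Q := act 3 n4789
theorem D7666 : act 3 n4789 = n7666 := rfl
theorem F7979 : act 1 n7666 = n4791 := d5_1 D7666 (iv D4791) D4789
theorem F7980 : act 0 n7666 = n4930 := d17_12 F5659 (iv D6287) (iv D3510) (iv D1666) (iv F970) F969 D2563 (iv F3582) (iv F3744) D7623 F7917 (iv F7979)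
def n7667 : Q := act 4 n4789
theorem D7667 : act 4 n4789 = n7667 := rfl
theorem F7981 : act 1 n7667 = n4792 := d6_1 D7667 (iv D4792) D4789
def n7668 : Q := act 1 n4790
theorem D7668 : act 1 n4790 = n7668 := rfl
theorem F7982 : act 3 n7668 = n7619 := d5_2 F7918 D7668 (iv F7916)
theorem F7983 : act 2 n7668 = n5197 := d15_6 D2717 (iv F4032) F4031 (iv F7482) F7484 D7668 (iv D5197) (iv D2752) (iv D1218) (iv D498) (iv F235) D1198
def n7669 : Q := act 2 n4797
theorem D7669 : act 2 n4797 = n7669 := rfl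
theorem F7984 : act 3 n7669 = n5724 := d7_2 (iv F3771) D7669 F4790
theorem F7985 : act 4 n7669 = n5860 := d11_1 D7669 F5027 (iv D4998) D4999 F3975 (iv D4798) D4797
theorem F7986 : act 1 n5729 = n7669 := d6_3 F7985 F5026 (iv F4795)
def n7670 : Q := act 4 n4797
theorem D7670 : act 4 n4797 = n7670 := rfl
theorem F7987 : act 0 n7670 = n4799 := d3_1 D7670 (iv D4799) D4797
theorem F7988 : act 1 n7670 = n4869 := d6_1 D7670 (iv D4869) (iv F3770)
theorem F7989 : act 3 n7670 = n6779 := d9_1 D7670 F7938 (iv D7642) (iv D4760) F1607 D3744 (iv F3771)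
def n7671 : Q := act 0 n4800
theorem D7671 : act 0 n4800 = n7671 := rfl
def n7672 : Q := act 2 n4800
theorem D7672 : act 2 n4800 = n7672 := rfl
def n7673 : Q := act 4 n4800
theorem D7673 : act 4 n4800 = n7673 := rfl
theorem F7990 : act 1 n7673 = n4801 := d6_1 D7673 (iv D4801) D4800
theorem F7991 : act 3 n7673 = n6443 := d9_1 D7673 F7961 (iv D7650) D7651 F7964 F7951 F7949
theorem F7992 : act 0 n6939 = n7673 := d2_7 F7991 (iv D6443) (iv D3653) D3651 F5912 F5911 D6939
theorem F7993 : act 4 n7671 = n6939 := d3_0 F7992 (iv D7673) D7671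
theorem F7994 : act 2 n7673 = n6443 := d10_2 D6939 F7992 (iv D6443) (iv D3653) D3651 D6438 F5911
theorem F7995 : act 1 n6942 = n7671 := d6_3 F7993 F6765 D6942
def n7674 : Q := act 1 n4802
theorem D7674 : act 1 n4802 = n7674 := rfl
def n7675 : Q := act 0 n4805
theorem D7675 : act 0 n4805 = n7675 := rfl
theorem F7996 : act 2 n7675 = n6503 := d1_2 D4805 D7675 F6021 (iv F3792) (iv D4815) (iv D2505) (iv F1589)
def n7676 : Q := act 1 n4805
theorem D7676 : act 1 n4805 = n7676 := rfl
def n7677 : Q := act 3 n4805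
theorem D7677 : act 3 n4805 = n7677 := rfl
theorem F7997 : act 2 n7677 = n4806 := d7_1 D7677 (iv D4806) D4805
theorem F7998 : act 0 n7677 = n6538 := d10_1 D7677 F6066 (iv F6036) (iv D6521) (iv F6021) (iv F7996) (iv D7675)
theorem F7999 : act 4 n6776 = n7677 := d3_0 F7998 F6068 (iv F6465)
def n7678 : Q := act 4 n4805
theorem D7678 : act 4 n4805 = n7678 := rfl
theorem F8000 : act 2 n7678 = n6506 := d8_1 D7678 (iv D6506) (iv D3748) (iv D1794) F1605 D2498 D4805
theorem F8001 : act 3 n7678 = n6501 := d12_2 (iv D7677) D7678 F6016 F6077 (iv D6539) D6538 (iv F7998)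
theorem E875 : n6516 = n6506 := (c7_3 F8001 F6018 D6516 (iv F8000))
theorem F8002 : act 3 n6506 = n3752 := (sb E875 (iv D6516))
theorem E876 : n6777 = n6515 := ((c9_5 D6506 F8002 (iv D3752) D3751 D6515 (iv D6777) (iv D3938) (iv F2760))).symm
theorem F8003 : act 3 n6515 = n3938 := (sb E876 (iv D6777))
def n7679 : Q := act 0 n4806
theorem D7679 : act 0 n4806 = n7679 := rfl
theorem F8004 : act 1 n7679 = n6812 := d0_2 F7936 D7679 F6552 F4704 (iv D5657) (iv F4693) (iv F7935)
theorem F8005 : act 3 n7679 = n6497 := d2_2 D4806 D7679 F6008 (iv F3794) (iv D4819) (iv D2506) (iv F1589)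
theorem F8006 : act 4 n7679 = n6778 := d3_2 (iv F7939) D7679 (iv D6778)
def n7680 : Q := act 4 n4809
theorem D7680 : act 4 n4809 = n7680 := rfl
theorem F8007 : act 0 n7680 = n4810 := d3_1 D7680 (iv D4810) D4809
theorem F8008 : act 1 n7680 = n7680 := d6_1 D7680 (iv D7680) F3778
def n7681 : Q := act 2 n4810
theorem D7681 : act 2 n4810 = n7681 := rfl
theorem F8009 : act 0 n7681 = n6187 := d11_3 (iv F1594) D4810 D7681 (iv D6187) (iv D3439) (iv F1595) (iv D2503)
theorem F8010 : act 1 n7681 = n6661 := d16_5 D3591 (iv F5596) (iv D6247) (iv F3779) D7681 (iv D6661) (iv D3844) D3842 F2866 F2409 (iv F2510) F2509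
theorem F8011 : act 3 n6514 = n7681 := d2_0 F8009 F5508 (iv F6025) (iv D6508) (iv D3749) D3751 D6514
def n7682 : Q := act 3 n4810
theorem D7682 : act 3 n4810 = n7682 := rfl
theorem F8012 : act 1 n7682 = n6247 := d5_1 D7682 (iv D6247) (iv F3779)
theorem F8013 : act 2 n7682 = n6514 := d7_1 D7682 F8011 (iv D7681)
theorem F8014 : act 0 n7682 = n6520 := d12_3 D2501 D4810 D7682 (iv D6520) (iv D3756) F2379 (iv D2499)
theorem F8015 : act 4 n4873 = n7682 := d11_1 D4873 F8013 (iv D6514) F2761 D3754 (iv F7940) F3852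
def n7683 : Q := act 3 n4811
theorem D7683 : act 3 n4811 = n7683 := rfl
theorem F8016 : act 0 n7683 = n6198 := d2_1 D7683 F5525 D6547 F6089 (iv D3936) (iv F2760) (iv F3780)
theorem F8017 : act 1 n7683 = n6702 := d5_1 D7683 (iv D6702) (iv F3781)
theorem F8018 : act 2 n7683 = n4812 := d7_1 D7683 (iv D4812) D4811
def n7684 : Q := act 4 n4811
theorem D7684 : act 4 n4811 = n7684 := rfl
theorem F8019 : act 0 n7684 = n6506 := d3_1 D7684 (iv D6506) (iv F3780)
theorem F8020 : act 1 n7684 = n6703 := d6_1 D7684 (iv D6703) (iv F3781)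
theorem F8021 : act 2 n7684 = n4818 := d8_1 D7684 (iv D4818) (iv D2505) (iv D1084) D1082 D2502 D4811
def n7685 : Q := act 0 n4812
theorem D7685 : act 0 n4812 = n7685 := rfl
theorem F8022 : act 1 n7685 = n7685 := d0_2 (iv F3789) D7685 (iv D7685) F3789 F2601 F998 (iv F2601)
theorem F8023 : act 3 n7685 = n6532 := d12_4 (iv D2501) D2502 D4812 D7685 (iv D6532) (iv F4490) (iv D4809)
theorem F8024 : act 2 n6551 = n7685 := d7_3 F8023 F6059 D6551
def n7686 : Q := act 4 n4812
theorem D7686 : act 4 n4812 = n7686 := rfl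
theorem F8025 : act 1 n7686 = n6275 := d6_1 D7686 F5634 (iv F3789)
theorem F8026 : act 3 n7686 = n4873 := d9_1 D7686 F8015 (iv D7682) (iv D4810) (iv D2501) D2502 D4812
theorem F8027 : act 2 n7686 = n4820 := d17_10 (iv D1384) (iv F773) (iv F2134) D5683 (iv F6434) F6433 (iv F6362) (iv F8017) F8018 D7686 F3795 F1620
def n7687 : Q := act 2 n4813
theorem D7687 : act 2 n4813 = n7687 := rfl
theorem F8028 : act 3 n7687 = n6542 := d7_2 F7820 D7687 F7821
def n7688 : Q := act 0 n4814
theorem D7688 : act 0 n4814 = n7688 := rfl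
theorem F8029 : act 2 n7688 = n6533 := d11_4 F1594 D2504 D4814 D7688 (iv D6533) F4489 (iv D4809)
theorem F8030 : act 3 n6545 = n7688 := d7_0 F8029 F6060 D6545
def n7689 : Q := act 1 n4814
theorem D7689 : act 1 n4814 = n7689 := rfl
theorem F8031 : act 3 n7689 = n4871 := d5_2 (iv F3791) D7689 (iv D4871)
theorem F8032 : act 0 n7689 = n5395 := d14_3 (iv F1597) D4814 D7689 F4379 F2807 (iv F2723) (iv F4723) (iv D5675) (iv D3049) F772 (iv F593)
theorem F8033 : act 4 n6351 = n7689 := d17_0 (iv D7689) (iv D4814) (iv D2504) (iv F1594) F1593 F959 F369 F370 D717 D1696 D3568 D6351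
theorem F8034 : act 2 n7689 = n7274 := d8_1 F8033 (iv D7274) (iv F7306) (iv D7260) (iv D4374) D4376 (iv F5799)
def n7690 : Q := act 4 n4814
theorem D7690 : act 4 n4814 = n7690 := rfl
theorem F8035 : act 1 n7690 = n6351 := d6_1 D7690 F8033 (iv D7689)
def n7691 : Q := act 1 n4815
theorem D7691 : act 1 n4815 = n7691 := rfl
def n7692 : Q := act 3 n4815
theorem D7692 : act 3 n4815 = n7692 := rfl
theorem F8036 : act 2 n7692 = n6521 := d7_1 D7692 (iv D6521) (iv F3792)
theorem F8037 : act 4 n6786 = n7692 := d8_0 F8036 (iv F6069) (iv F6480) (iv D6785) (iv D3941) D3943 D6786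
theorem F8038 : act 1 n7225 = n7692 := d15_5 F5275 (iv F2591) (iv F5562) F6500 (iv F7250) F8036 F6036 (iv F6066) F6065 (iv D5544) (iv F5274) (iv F2676)
theorem F8039 : act 3 n7691 = n7225 := d5_0 F8038 (iv D7692) D7691
theorem F8040 : act 2 n7226 = n7691 := d7_3 F8039 (iv D7225) D7226
def n7693 : Q := act 4 n4815
theorem D7693 : act 4 n4815 = n7693 := rfl
theorem F8041 : act 0 n7693 = n4818 := d3_1 D7693 (iv D4818) D4815
theorem F8042 : act 2 n7693 = n6560 := d8_1 D7693 F6106 (iv F5258) (iv D4807) F2378 D3757 (iv F3792)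
theorem F8043 : act 3 n6523 = n7693 := d7_0 F8042 (iv D6560) (iv F6039)
theorem F8044 : act 3 n4818 = n7690 := d12_4 (iv F6011) D6523 F8043 F8041 (iv D7690) F3791 D4870
def n7694 : Q := act 0 n4816
theorem D7694 : act 0 n4816 = n7694 := rfl
theorem F8045 : act 3 n7694 = n5367 := d16_7 D571 (iv F596) (iv D1090) (iv F588) D2505 D4816 D7694 F4356 (iv D4676) (iv D2417) F557 F199
theorem F8046 : act 4 n7694 = n7147 := d17_0 F7377 (iv D6949) (iv D4096) (iv F2651) F2650 (iv F1590) (iv D2500) (iv D1082) D1084 D2505 D4816 D7694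
theorem F8047 : act 2 n5368 = n7694 := d8_7 F8046 (iv D7147) (iv D4240) (iv F3201) D7145 F7084 F5742
def n7695 : Q := act 2 n4816
theorem D7695 : act 2 n4816 = n7695 := rfl
theorem F8048 : act 1 n7695 = n4831 := d4_1 D7695 (iv D4831) (iv D2514) (iv D1089) (iv F588) D2505 D4816
theorem F8049 : act 0 n7695 = n7128 := d10_3 (iv F8045) (iv D7694) D7695 F7334 (iv F7056) F7057 (iv F4356)
theorem F8050 : act 4 n7126 = n7695 := d3_0 F8049 (iv D7128) D7126
theorem F8051 : act 3 n7285 = n7695 := d12_2 F7065 D7285 F8049 F7334 (iv D4232) D4231 D7135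
def n7696 : Q := act 3 n4816
theorem D7696 : act 3 n4816 = n7696 := rfl
theorem F8052 : act 1 n7696 = n4817 := d5_1 D7696 (iv D4817) D4816
theorem F8053 : act 2 n7696 = n7285 := d7_1 D7696 F8051 (iv D7695)
theorem F8054 : act 0 n7696 = n6356 := d10_1 D7696 (iv F7112) (iv F7345) F7347 (iv F4357) F8047 (iv D7694)
theorem F8055 : act 4 n6355 = n7696 := d3_0 F8054 (iv D6356) D6355
def n7697 : Q := act 4 n4816
theorem D7697 : act 4 n4816 = n7697 := rfl
theorem F8056 : act 0 n7697 = n7147 := d3_1 D7697 (iv F8046) (iv D7694)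
theorem F8057 : act 1 n7697 = n4818 := d6_1 D7697 (iv D4818) D4816
theorem F8058 : act 3 n6351 = n7697 := d5_0 F8057 F8044 F8035
theorem F8059 : act 2 n7697 = n7118 := d7_1 F8058 F7034 (iv F5799)
def n7698 : Q := act 0 n4817
theorem D7698 : act 0 n4817 = n7698 := rfl
def n7699 : Q := act 4 n4817
theorem D7699 : act 4 n4817 = n7699 := rfl
theorem F8060 : act 1 n7699 = n6355 := d6_1 D7699 F8055 F8052
theorem F8061 : act 3 n7699 = n4872 := d9_1 D7699 (iv D4872) (iv F3791) D7690 (iv F8044) (iv D4818) D4817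
def n7700 : Q := act 2 n4819
theorem D7700 : act 2 n4819 = n7700 := rfl
theorem F8062 : act 3 n7700 = n6536 := d7_2 (iv F3794) D7700 F6061
def n7701 : Q := act 4 n4819
theorem D7701 : act 4 n4819 = n7701 := rfl
theorem F8063 : act 0 n7701 = n4820 := d3_1 D7701 (iv D4820) D4819
theorem F8064 : act 3 n7701 = n6574 := d9_1 D7701 (iv F7822) F7820 (iv D4813) (iv F1596) D3776 (iv F3794)
theorem F8065 : act 2 n6199 = n7701 := d7_3 F8064 (iv D6574) (iv F5527)
def n7702 : Q := act 4 n4821
theorem D7702 : act 4 n4821 = n7702 := rfl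
theorem F8066 : act 3 n7702 = n6589 := d12_2 (iv F3797) D7702 (iv D6589) (iv D3803) (iv D1825) D1824 D3800
def n7703 : Q := act 2 n4822
theorem D7703 : act 2 n4822 = n7703 := rfl
theorem F8067 : act 3 n7703 = n6596 := d7_2 F6721 D7703 F6723
def n7704 : Q := act 2 n4823
theorem D7704 : act 2 n4823 = n7704 := rfl
theorem F8068 : act 3 n7704 = n6271 := d7_2 F3800 D7704 (iv D6271)
def n7705 : Q := act 3 n4825
theorem D7705 : act 3 n4825 = n7705 := rfl
theorem F8069 : act 1 n7705 = n7117 := d5_1 D7705 (iv D7117) (iv F3809)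
theorem F8070 : act 2 n7705 = n4826 := d7_1 D7705 (iv D4826) D4825
theorem F8071 : act 0 n7705 = n6578 := d10_1 D7705 F6143 D6580 (iv F7583) F7582 D7444 F7586
theorem F8072 : act 4 n7268 = n7705 := d6_0 F8069 (iv F7032) D7268
def n7706 : Q := act 4 n4825
theorem D7706 : act 4 n4825 = n7706 := rfl
theorem F8073 : act 1 n7706 = n7118 := d6_1 D7706 (iv D7118) (iv F3809)
theorem F8074 : act 3 n7259 = n7706 := d5_0 F8073 F7034 (iv F7304)
def n7707 : Q := act 4 n4826
theorem D7707 : act 4 n4826 = n7707 := rfl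
theorem F8075 : act 0 n7707 = n5496 := d3_1 D7707 (iv D5496) (iv F3811)
theorem F8076 : act 1 n7707 = n4827 := d6_1 D7707 (iv D4827) (iv F3810)
theorem F8077 : act 3 n7707 = n4877 := d9_1 D7707 F3854 F3803 (iv D4824) (iv D2509) D2510 D4826
theorem F8078 : act 2 n7707 = n6272 := d17_4 F7032 (iv F8069) F8070 D7707 F5630 F2562 (iv F2539) (iv F5636) (iv D6228) (iv F3306) F3305 D4381
def n7708 : Q := act 2 n4828
theorem D7708 : act 2 n4828 = n7708 := rfl
theorem F8079 : act 1 n7708 = n7274 := d4_1 D7708 (iv F8034) (iv D7689) (iv D4814) F1597 D2513 D4828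
theorem F8080 : act 3 n7708 = n4875 := d7_2 (iv F3817) D7708 (iv D4875)
theorem E877 : n6318 = n6306 := (c17_9 D3518 (iv F5671) (iv F5672) F4527 D7708 F8079 F7323 (iv F7326) F7328 (iv D6306) (iv D3520) (iv D1670) D1669)
theorem F8081 : act 2 n6306 = n7277 := (sb E877 (iv F7328))
theorem F8082 : act 3 n6306 = n3534 := (sb E877 (iv D6318))
theorem F8083 : act 4 n7276 = n5263 := d17_3 (iv D4391) D4390 D7276 F4265 F2585 (iv F2582) (iv F5671) (iv F5672) F4527 D7708 F8079 F7323
theorem E878 : n7398 = n7394 := (c6_2 F8083 (iv F7520) (iv D7394) (iv F7325))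
theorem F8084 : act 1 n7394 = n5263 := (sb E878 F7520)
theorem F8085 : act 3 n7394 = n4549 := (sb E878 (iv D7398))
theorem F8086 : act 4 n7273 = n7708 := d6_0 F8079 (iv D7274) D7273
def n7709 : Q := act 1 n4830
theorem D7709 : act 1 n4830 = n7709 := rfl
theorem F8087 : act 0 n7709 = n5178 := d0_1 D7709 (iv D5178) (iv D2736) (iv D1208) (iv F595) D2514 D4830
theorem F8088 : act 2 n7709 = n6898 := d17_8 (iv D2510) (iv D1085) (iv D437) D439 D1089 D2514 D4830 D7709 F6709 (iv F6667) F6666 F3798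
theorem F8089 : act 3 n6879 = n7709 := d7_0 F8088 (iv D6898) (iv F6675)
theorem F8090 : act 4 n6876 = n7709 := d8_0 F8088 F6709 (iv F6667) (iv D6874) F3023 D4036 D6876
def n7710 : Q := act 2 n4830
theorem D7710 : act 2 n4830 = n7710 := rfl
def n7711 : Q := act 3 n4830
theorem D7711 : act 3 n4830 = n7711 := rfl
theorem F8091 : act 1 n7711 = n6879 := d5_1 D7711 F8089 (iv D7709)
theorem F8092 : act 4 n6877 = n7711 := d6_0 F8091 (iv D6879) D6877
def n7712 : Q := act 4 n4830
theorem D7712 : act 4 n4830 = n7712 := rfl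
theorem F8093 : act 0 n7712 = n4833 := d3_1 D7712 (iv D4833) D4830
theorem F8094 : act 1 n7712 = n6876 := d6_1 D7712 F8090 (iv D7709)
theorem F8095 : act 3 n6891 = n7712 := d5_0 F8094 F6672 D6891
def n7713 : Q := act 0 n4831
theorem D7713 : act 0 n4831 = n7713 := rfl
def n7714 : Q := act 3 n4831
theorem D7714 : act 3 n4831 = n7714 := rfl
theorem F8096 : act 1 n7714 = n7285 := d5_1 D7714 F8051 F8048
theorem F8097 : act 2 n7714 = n4832 := d7_1 D7714 (iv D4832) D4831
theorem F8098 : act 4 n6322 = n7280 := d17_9 D7285 (iv F8096) F8097 F4541 (iv F6501) F5706 F2603 (iv F2599) D6322 F7337 F3328 D4398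
theorem F8099 : act 2 n6317 = n7282 := d17_4 (iv D1682) (iv F983) (iv F2596) D6317 F7339 (iv F7341) (iv F8096) F8097 F4541 (iv F6501) F5706 F2603
theorem F8100 : act 1 n7397 = n6322 := d6_3 F8098 F7336 D7397
theorem F8101 : act 4 n7283 = n7714 := d6_0 F8096 (iv D7285) D7283
def n7715 : Q := act 4 n4831
theorem D7715 : act 4 n4831 = n7715 := rfl
theorem F8102 : act 1 n7715 = n7126 := d6_1 D7715 F8050 F8048
theorem F8103 : act 3 n7273 = n7715 := d5_0 F8102 F7052 D7273
def n7716 : Q := act 2 n4833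
theorem D7716 : act 2 n4833 = n7716 := rfl
theorem F8104 : act 3 n7716 = n6298 := d7_2 (iv F4528) D7716 (iv F5672)
theorem F8105 : act 1 n7716 = n6300 := d16_5 (iv F1980) (iv F3818) F3820 (iv F3822) D7716 F5675 F2802 (iv F2796) (iv F4177) F4178 F1818 F1511
theorem F8106 : act 4 n6325 = n7716 := d6_0 F8105 F5676 (iv F5705)
def n7717 : Q := act 1 n4835
theorem D7717 : act 1 n4835 = n7717 := rfl
theorem F8107 : act 0 n7717 = n4841 := d0_1 D7717 (iv D4841) (iv D2521) (iv D1092) D1091 D2518 D4835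
theorem F8108 : act 2 n7717 = n7464 := d15_6 (iv D493) (iv F216) (iv F597) D2518 D4835 D7717 F7607 (iv F8088) (iv D7709) (iv D4830) (iv D2514) F595
theorem F8109 : act 4 n7462 = n7717 := d8_0 F8108 (iv D7464) (iv D4605) (iv D2354) D2352 D4604 D7462
def n7718 : Q := act 2 n4835
theorem D7718 : act 2 n4835 = n7718 := rfl
def n7719 : Q := act 3 n4835
theorem D7719 : act 3 n4835 = n7719 := rfl
def n7720 : Q := act 4 n4835
theorem D7720 : act 4 n4835 = n7720 := rfl
theorem F8110 : act 0 n7720 = n4838 := d3_1 D7720 (iv D4838) D4835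
theorem F8111 : act 1 n7720 = n7462 := d6_1 D7720 F8109 (iv D7717)
def n7721 : Q := act 0 n4836
theorem D7721 : act 0 n4836 = n7721 := rfl
def n7722 : Q := act 1 n4836
theorem D7722 : act 1 n4836 = n7722 := rfl
theorem F8112 : act 2 n7722 = n4912 := d4_2 D4836 D7722 (iv D4912) (iv D2567) F614 (iv F597) D2518
def n7723 : Q := act 3 n4836
theorem D7723 : act 3 n4836 = n7723 := rfl
theorem F8113 : act 2 n7723 = n4837 := d7_1 D7723 (iv D4837) D4836
def n7724 : Q := act 4 n4836
theorem D7724 : act 4 n4836 = n7724 := rfl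
def n7725 : Q := act 0 n4837
theorem D7725 : act 0 n4837 = n7725 := rfl
theorem F8114 : act 1 n7725 = n4839 := d0_2 (iv F3826) D7725 F3828 (iv F4547) (iv D5516) F1985 (iv F1622)
theorem F8115 : act 4 n7725 = n4837 := d17_0 F3826 F1623 D2569 F2184 (iv F1670) F1669 F1670 (iv F2184) (iv D2569) (iv F1623) (iv F3826) D7725
theorem F8116 : act 3 n4867 = n7725 := d5_0 F8114 F3830 (iv F3850)
def n7726 : Q := act 2 n4838
theorem D7726 : act 2 n4838 = n7726 := rfl
def n7727 : Q := act 3 n4838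
theorem D7727 : act 3 n4838 = n7727 := rfl
theorem F8117 : act 1 n7727 = n4840 := d5_1 D7727 (iv D4840) (iv F3827)
theorem F8118 : act 4 n7727 = n4866 := d9_2 D4838 D7727 (iv D4866) D4867 F8116 F8115 (iv D4837)
theorem F8119 : act 0 n7727 = n4866 := d12_3 (iv D4837) D4838 D7727 (iv D4866) D4867 F8116 (iv D7725)
def n7728 : Q := act 0 n4842
theorem D7728 : act 0 n4842 = n7728 := rfl
theorem F8120 : act 1 n7728 = n5109 := d13_2 D4842 D7728 (iv D5109) (iv D2699) F658 F234 (iv F216) (iv F597) (iv D1091) D1092 D2521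
def n7729 : Q := act 1 n4842
theorem D7729 : act 1 n4842 = n7729 := rfl
theorem F8121 : act 2 n7729 = n7483 := d17_8 (iv D987) (iv F515) (iv F1415) D4527 (iv F4101) (iv F8120) (iv D7728) D7729 (iv D7483) (iv D4620) F1467 F541
theorem F8122 : act 4 n7477 = n7729 := d8_0 F8121 (iv D7483) (iv D4620) (iv D2366) D2364 D4617 D7477
def n7730 : Q := act 3 n4842
theorem D7730 : act 3 n4842 = n7730 := rfl
theorem F8123 : act 2 n7730 = n4843 := d7_1 D7730 (iv D4843) D4842
def n7731 : Q := act 4 n4842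
theorem D7731 : act 4 n4842 = n7731 := rfl
theorem F8124 : act 1 n7731 = n7477 := d6_1 D7731 F8122 (iv D7729)
def n7732 : Q := act 2 n4844
theorem D7732 : act 2 n4844 = n7732 := rfl
theorem F8125 : act 0 n7732 = n4853 := d10_3 F1628 (iv F3836) D7732 (iv D4853) (iv D2528) (iv D1097) D1096
def n7733 : Q := act 1 n4845
theorem D7733 : act 1 n4845 = n7733 := rfl
theorem F8126 : act 2 n7733 = n7501 := d17_8 D1021 (iv F1480) (iv F2719) F3783 D4777 F3762 D4845 D7733 (iv D7501) (iv D4632) (iv D2375) (iv D1018)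
def n7734 : Q := act 2 n4845
theorem D7734 : act 2 n4845 = n7734 := rfl
def n7735 : Q := act 3 n4845
theorem D7735 : act 3 n4845 = n7735 := rfl
def n7736 : Q := act 4 n4845
theorem D7736 : act 4 n4845 = n7736 := rfl
theorem F8127 : act 0 n7736 = n4847 := d3_1 D7736 (iv D4847) D4845
def n7737 : Q := act 0 n4846
theorem D7737 : act 0 n4846 = n7737 := rfl
def n7738 : Q := act 4 n4846
theorem D7738 : act 4 n4846 = n7738 := rfl
theorem F8128 : act 3 n7738 = n4856 := d9_1 D7738 (iv D4856) (iv D2529) D2530 (iv F7693) (iv D4847) D4846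
def n7739 : Q := act 2 n4847
theorem D7739 : act 2 n4847 = n7739 := rfl
theorem F8129 : act 3 n7739 = n4857 := d7_2 (iv F7693) D7739 (iv D4857)
def n7740 : Q := act 2 n4848
theorem D7740 : act 2 n4848 = n7740 := rfl
theorem F8130 : act 3 n7740 = n4863 := d7_2 (iv F3840) D7740 (iv D4863)
def n7741 : Q := act 0 n4849
theorem D7741 : act 0 n4849 = n7741 := rfl
theorem F8131 : act 1 n7741 = n7431 := d13_2 D4849 D7741 F7568 (iv D5443) (iv F4470) F4471 (iv F3573) D7462 F7604 (iv F3837) F3836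
def n7742 : Q := act 2 n4850
theorem D7742 : act 2 n4850 = n7742 := rfl
theorem F8132 : act 0 n7742 = n4852 := d1_1 D7742 (iv D4852) (iv D2528) (iv D1097) D1096 D2527 D4850
theorem F8133 : act 1 n7742 = n6148 := d4_1 D7742 (iv D6148) F2467 (iv F3487) F3486 (iv F1751) (iv F3843)
theorem F8134 : act 4 n7742 = n4852 := d11_1 D7742 (iv D4852) (iv D2528) (iv D1097) (iv F603) D2527 D4850
def n7743 : Q := act 3 n4850
theorem D7743 : act 3 n4850 = n7743 := rfl
theorem F8135 : act 1 n7743 = n5056 := d5_1 D7743 (iv D5056) (iv F3843)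
theorem F8136 : act 0 n7743 = n4860 := d10_1 D7743 (iv D4860) (iv D2531) (iv D1098) D1096 D2527 D4850
def n7744 : Q := act 3 n4851
theorem D7744 : act 3 n4851 = n7744 := rfl
theorem F8137 : act 1 n7744 = n4853 := d5_1 D7744 (iv D4853) D4851
theorem F8138 : act 2 n7744 = n7517 := d7_1 D7744 (iv D7517) (iv F3845)
theorem F8139 : act 0 n7744 = n5832 := d10_1 D7744 (iv D5832) (iv D3136) (iv D1433) (iv F792) D3119 (iv F3844)
theorem F8140 : act 4 n7490 = n7517 := d11_1 D7490 (iv F8138) F8139 (iv D5832) (iv F3905) (iv F7653) (iv D7489)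
def n7745 : Q := act 4 n4851
theorem D7745 : act 4 n4851 = n7745 := rfl
theorem F8141 : act 0 n7745 = n5800 := d3_1 D7745 (iv D5800) (iv F3844)
theorem F8142 : act 1 n7745 = n4854 := d6_1 D7745 (iv D4854) D4851
theorem F8143 : act 2 n7745 = n6057 := d8_1 D7745 (iv D6057) F2417 (iv D2388) D2386 D4648 (iv F3845)
def n7746 : Q := act 3 n4852
theorem D7746 : act 3 n4852 = n7746 := rfl
theorem F8144 : act 2 n7746 = n4853 := d7_1 D7746 (iv D4853) D4852
def n7747 : Q := act 4 n4853
theorem D7747 : act 4 n4853 = n7747 := rfl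
def n7748 : Q := act 3 n4854
theorem D7748 : act 3 n4854 = n7748 := rfl
def n7749 : Q := act 1 n4855
theorem D7749 : act 1 n4855 = n7749 := rfl
theorem F8145 : act 2 n7749 = n7528 := d17_8 D1031 (iv F1492) D4658 F5951 (iv F3767) F3766 D4855 D7749 (iv D7528) (iv D4660) (iv D2398) (iv D1030)
def n7750 : Q := act 2 n4855
theorem D7750 : act 2 n4855 = n7750 := rfl
def n7751 : Q := act 3 n4855
theorem D7751 : act 3 n4855 = n7751 := rfl
def n7752 : Q := act 4 n4855
theorem D7752 : act 4 n4855 = n7752 := rfl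
theorem F8146 : act 0 n7752 = n4856 := d3_1 D7752 (iv D4856) D4855
def n7753 : Q := act 2 n4856
theorem D7753 : act 2 n4856 = n7753 := rfl
def n7754 : Q := act 0 n4859
theorem D7754 : act 0 n4859 = n7754 := rfl
theorem F8147 : act 1 n7754 = n4864 := d0_2 D4859 D7754 (iv D4864) (iv D2533) (iv D1099) (iv F604) D2531
theorem F8148 : act 2 n7754 = n7534 := d10_2 F6700 D7754 F7735 F6708 F3053 (iv F3041) (iv F6697)
def n7755 : Q := act 1 n4860
theorem D7755 : act 1 n4860 = n7755 := rfl
def n7756 : Q := act 3 n4860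
theorem D7756 : act 3 n4860 = n7756 := rfl
theorem F8149 : act 2 n7756 = n4861 := d7_1 D7756 (iv D4861) D4860
def n7757 : Q := act 4 n4860
theorem D7757 : act 4 n4860 = n7757 := rfl
def n7758 : Q := act 2 n4862
theorem D7758 : act 2 n4862 = n7758 := rfl
def n7759 : Q := act 0 n4863
theorem D7759 : act 0 n4863 = n7759 := rfl
def n7760 : Q := act 2 n4864
theorem D7760 : act 2 n4864 = n7760 := rfl
def n7761 : Q := act 3 n4864
theorem D7761 : act 3 n4864 = n7761 := rfl
def n7762 : Q := act 4 n4864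
theorem D7762 : act 4 n4864 = n7762 := rfl
theorem F8150 : act 0 n7762 = n4867 := d3_1 D7762 (iv D4867) D4864
def n7763 : Q := act 0 n4865
theorem D7763 : act 0 n4865 = n7763 := rfl
def n7764 : Q := act 1 n4865
theorem D7764 : act 1 n4865 = n7764 := rfl
theorem F8151 : act 2 n7764 = n5198 := d4_2 D4865 D7764 (iv D5198) (iv D2752) (iv D1218) (iv F605) D2533
def n7765 : Q := act 3 n4865
theorem D7765 : act 3 n4865 = n7765 := rfl
theorem F8152 : act 2 n7765 = n4866 := d7_1 D7765 (iv D4866) D4865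
def n7766 : Q := act 4 n4865
theorem D7766 : act 4 n4865 = n7766 := rfl
def n7767 : Q := act 2 n4867
theorem D7767 : act 2 n4867 = n7767 := rfl
def n7768 : Q := act 0 n4868
theorem D7768 : act 0 n4868 = n7768 := rfl
theorem F8153 : act 2 n7768 = n6524 := d1_2 D4868 D7768 (iv D6524) (iv F6012) (iv D4870) (iv D2538) D2537
def n7769 : Q := act 1 n4868
theorem D7769 : act 1 n4868 = n7769 := rfl
theorem F8154 : act 3 n7769 = n6500 := d5_2 (iv F3851) D7769 (iv D6500)
def n7770 : Q := act 4 n4868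
theorem D7770 : act 4 n4868 = n7770 := rfl
theorem F8155 : act 2 n7770 = n6515 := d8_1 D7770 (iv D6515) F2761 D3754 (iv F7940) (iv D4869) D4868
theorem F8156 : act 3 n7770 = n6776 := d9_1 D7770 F7999 (iv D7677) D7678 F8001 (iv D6501) (iv F3851)
def n7771 : Q := act 1 n4870
theorem D7771 : act 1 n4870 = n7771 := rfl
theorem F8157 : act 3 n7771 = n6522 := d5_2 F6011 D7771 (iv D6522)
theorem F8158 : act 2 n7224 = n7771 := d7_3 F8157 (iv F6038) (iv F7249)
def n7772 : Q := act 4 n4870
theorem D7772 : act 4 n4870 = n7772 := rfl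
theorem F8159 : act 0 n7772 = n4872 := d3_1 D7772 (iv D4872) D4870
theorem F8160 : act 3 n7772 = n6786 := d9_1 D7772 F8037 (iv D7692) D7693 (iv F8043) (iv D6523) F6011
theorem F8161 : act 2 n6559 = n7772 := d7_3 F8160 (iv D6786) (iv F6105)
def n7773 : Q := act 0 n4871
theorem D7773 : act 0 n4871 = n7773 := rfl
theorem F8162 : act 3 n7773 = n5403 := d2_2 F8031 D7773 F4388 (iv D4680) (iv F1928) D5395 (iv F8032)
theorem F8163 : act 2 n7773 = n5404 := d10_2 F8031 D7773 F4389 (iv F4382) (iv D5396) (iv F4380) (iv F8032)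
theorem F8164 : act 4 n7148 = n7773 := d8_0 F8163 F4390 (iv F7086) F7087 F3348 (iv F4838) (iv F7090)
def n7774 : Q := act 2 n4871
theorem D7774 : act 2 n4871 = n7774 := rfl
theorem F8165 : act 1 n7774 = n4875 := d4_1 D7774 (iv D4875) (iv D2540) (iv D1103) D1102 D2538 D4871
theorem F8166 : act 3 n7774 = n7274 := d7_2 F8031 D7774 (iv F8034)
theorem F8167 : act 0 n7774 = n7136 := d10_3 (iv F8162) (iv D7773) D7774 (iv F7333) (iv F7331) F7330 (iv F4388)
theorem F8168 : act 4 n7135 = n7774 := d3_0 F8167 (iv D7136) D7135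
def n7775 : Q := act 4 n4871
theorem D7775 : act 4 n4871 = n7775 := rfl
theorem F8169 : act 0 n7775 = n7148 := d3_1 D7775 F8164 (iv D7773)
theorem F8170 : act 1 n7775 = n4872 := d6_1 D7775 (iv D4872) D4871
theorem F8171 : act 3 n7775 = n6355 := d9_1 D7775 F8055 (iv D7696) D7697 (iv F8058) F8033 F8031
theorem F8172 : act 2 n7122 = n7775 := d7_3 F8171 F5808 (iv F7037)
def n7776 : Q := act 2 n4872
theorem D7776 : act 2 n4872 = n7776 := rfl
theorem F8173 : act 4 n7776 = n6514 := d8_2 D4872 D7776 (iv F8013) (iv F8015) (iv D4873) (iv D2539) D2538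
theorem F8174 : act 0 n7776 = n6515 := d11_3 D2538 D4872 D7776 (iv F8155) (iv D7770) (iv D4868) (iv D2537)
theorem F8175 : act 1 n7776 = n6707 := d14_2 F8170 D7776 (iv D6707) F2909 F1576 (iv F1432) D4557 (iv F3521) (iv F6779) (iv F7089) (iv F8169)
def n7777 : Q := act 0 n4873
theorem D7777 : act 0 n4873 = n7777 := rfl
theorem F8176 : act 4 n7777 = n6520 := d3_2 (iv F8015) D7777 (iv F8014)
theorem F8177 : act 2 n7777 = n6525 := d11_4 (iv D2538) D2539 D4873 D7777 (iv D6525) (iv F6012) (iv D4870)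
theorem F8178 : act 3 n7777 = n6785 := d12_4 D4812 D7686 F8026 D7777 (iv D6785) F5257 F3773
def n7778 : Q := act 1 n4873
theorem D7778 : act 1 n4873 = n7778 := rfl
theorem F8179 : act 3 n7778 = n6275 := d5_2 F8026 D7778 (iv F8025)
theorem F8180 : act 4 n7778 = n6247 := d6_2 (iv F8015) D7778 (iv F8012)
theorem F8181 : act 0 n7778 = n6379 := d16_6 (iv F2190) (iv F1620) F1621 (iv F1639) D4873 D7778 F5842 (iv F5545) F5546 F3665 F1502 F2193
theorem F8182 : act 2 n6252 = n7778 := d1_0 F8181 F5843 (iv F5650) F5652 F2579 (iv F5327) (iv F5604)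
def n7779 : Q := act 1 n4874
theorem D7779 : act 1 n4874 = n7779 := rfl
theorem F8183 : act 0 n7779 = n5191 := d0_1 D7779 (iv D5191) (iv D2747) F673 (iv F607) D2540 D4874
theorem F8184 : act 2 n7779 = n6897 := d15_6 F209 D445 D1103 D2540 D4874 D7779 (iv F7735) (iv F8148) F8147 (iv D4864) (iv D2533) (iv D1099)
theorem F8185 : act 3 n6892 = n7779 := d7_0 F8184 F6708 (iv F6703)
theorem F8186 : act 4 n7779 = n6878 := d9_2 D6892 F8185 (iv D6878) D6879 F8089 (iv F8090) F6672
def n7780 : Q := act 2 n4874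
theorem D7780 : act 2 n4874 = n7780 := rfl
def n7781 : Q := act 3 n4874
theorem D7781 : act 3 n4874 = n7781 := rfl
theorem F8187 : act 1 n7781 = n6892 := d5_1 D7781 F8185 (iv D7779)
theorem F8188 : act 4 n7781 = n6891 := d12_1 D7781 F8095 F8093 F4528 F4527 F3817 D4874
def n7782 : Q := act 4 n4874
theorem D7782 : act 4 n4874 = n7782 := rfl
theorem F8189 : act 0 n7782 = n4876 := d3_1 D7782 (iv D4876) D4874
theorem F8190 : act 1 n7782 = n6878 := d6_1 D7782 (iv F8186) (iv D7779)
theorem F8191 : act 3 n7782 = n6877 := d9_1 D7782 F8092 (iv D7711) D7712 (iv F8095) (iv F8188) (iv D7781)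
def n7783 : Q := act 0 n4875
theorem D7783 : act 0 n4875 = n7783 := rfl
def n7784 : Q := act 4 n4875
theorem D7784 : act 4 n4875 = n7784 := rfl
theorem F8192 : act 1 n7784 = n7135 := d6_1 D7784 F8168 F8165
theorem F8193 : act 3 n7784 = n7283 := d9_1 D7784 F8101 (iv D7714) D7715 (iv F8103) F8086 F8080
def n7785 : Q := act 2 n4876
theorem D7785 : act 2 n4876 = n7785 := rfl
theorem F8194 : act 3 n7785 = n6326 := d7_2 F4539 D7785 F6501
theorem F8195 : act 1 n7785 = n6299 := d16_5 (iv F1983) (iv F3823) F3825 (iv F3853) D7785 F5673 F2803 (iv F2591) (iv F5695) (iv F6499) F3685 F1517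
theorem F8196 : act 4 n6297 = n7785 := d6_0 F8195 (iv D6299) (iv F5670)
def n7786 : Q := act 0 n4877
theorem D7786 : act 0 n4877 = n7786 := rfl
theorem F8197 : act 4 n7786 = n5015 := d3_2 (iv F3854) D7786 (iv D5015)
def n7787 : Q := act 2 n4877
theorem D7787 : act 2 n4877 = n7787 := rfl
theorem F8198 : act 1 n7787 = n6252 := d4_1 D7787 F8182 (iv D7778) (iv D4873) F1639 D2542 D4877
theorem F8199 : act 3 n7787 = n6272 := d7_2 F8077 D7787 (iv F8078)
theorem F8200 : act 4 n6246 = n7787 := d9_0 F8199 (iv D6272) F3800 (iv D4823) (iv F1601) D3481 D6246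
def n7788 : Q := act 4 n4878
theorem D7788 : act 4 n4878 = n7788 := rfl
theorem F8201 : act 0 n7788 = n4888 := d3_1 D7788 (iv D4888) (iv F3855)
theorem F8202 : act 1 n7788 = n7442 := d6_1 D7788 (iv D7442) (iv F3857)
theorem F8203 : act 2 n7788 = n4884 := d11_2 D4878 D7788 (iv D4884) (iv D2550) (iv D1108) D1106 D2546
def n7789 : Q := act 2 n4879
theorem D7789 : act 2 n4879 = n7789 := rfl
theorem F8204 : act 0 n7789 = n4889 := d1_1 D7789 (iv D4889) F1658 D2554 (iv F3862) (iv D4881) (iv F3858)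
theorem F8205 : act 3 n7789 = n6327 := d7_2 (iv F3860) D7789 (iv D6327)
def n7790 : Q := act 2 n4880
theorem D7790 : act 2 n4880 = n7790 := rfl
theorem F8206 : act 0 n7790 = n7790 := d1_1 D7790 (iv D7790) F3861 D5948 F5162 (iv D5948) (iv F3861)
theorem F8207 : act 1 n7790 = n6632 := d15_3 (iv D5948) (iv F3861) D7790 (iv D6632) (iv F6222) F6223 (iv F4667) (iv F5441) F5440 D6128 F5446 F5162
theorem F8208 : act 0 n5962 = n6630 := d13_7 (iv D7790) F3861 F2333 F844 D1521 D3243 D5962 F6226 D6632 (iv F8207) F8206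
def n7791 : Q := act 1 n4881
theorem D7791 : act 1 n4881 = n7791 := rfl
theorem F8209 : act 0 n7791 = n6693 := d0_1 D7791 (iv D6693) (iv D3871) F1110 D1867 (iv F1659) (iv F3862)
theorem F8210 : act 3 n6756 = n7791 := d16_2 D3920 D6756 (iv D7791) (iv D4881) (iv F3075) F3074 F1220 (iv D1618) (iv D679) (iv F141) D803 D1891
theorem F8211 : act 4 n7448 = n7791 := d17_0 (iv D7791) (iv D4881) (iv D2548) (iv D1106) (iv F536) (iv D1008) (iv D404) D405 D1014 (iv F1448) D4592 D7448
def n7792 : Q := act 3 n4881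
theorem D7792 : act 3 n4881 = n7792 := rfl
theorem F8212 : act 0 n7792 = n7792 := d2_1 D7792 (iv D7792) F3862 (iv F2604) F2605 F2604 (iv F3862)
theorem F8213 : act 1 n7792 = n6756 := d5_1 D7792 F8210 (iv D7791)
theorem F8214 : act 2 n7792 = n4882 := d7_1 D7792 (iv D4882) D4881
theorem F8215 : act 0 n5978 = n6754 := d13_7 F8214 F3863 (iv D3257) (iv D1527) (iv F847) D3254 D5978 F6450 D6756 (iv F8213) F8212
def n7793 : Q := act 4 n4881
theorem D7793 : act 4 n4881 = n7793 := rfl
theorem F8216 : act 0 n7793 = n4890 := d3_1 D7793 (iv D4890) (iv F3862)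
theorem F8217 : act 1 n7793 = n7448 := d6_1 D7793 F8211 (iv D7791)
theorem F8218 : act 2 n7793 = n4886 := d8_1 D7793 (iv D4886) (iv D2550) (iv D1108) D1106 D2548 D4881
def n7794 : Q := act 4 n4882
theorem D7794 : act 4 n4882 = n7794 := rfl
theorem F8219 : act 0 n7794 = n5983 := d3_1 D7794 (iv D5983) (iv F3863)
theorem F8220 : act 3 n7794 = n5019 := d9_1 D7794 (iv F6775) F6771 (iv D4880) (iv D2547) D2548 D4882
theorem F8221 : act 2 n7794 = n4887 := d17_10 (iv D1945) (iv F756) (iv F2022) D5596 (iv F6418) F6417 D6756 (iv F8213) F8214 D7794 F3871 F3000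
def n7795 : Q := act 4 n4883
theorem D7795 : act 4 n4883 = n7795 := rfl
theorem F8222 : act 0 n7795 = n7193 := d3_1 D7795 (iv D7193) (iv F3998)
theorem F8223 : act 3 n4886 = n7795 := d12_2 (iv D4885) D4886 F8222 F7208 (iv D4893) D4892 F3879
def n7796 : Q := act 4 n4884
theorem D7796 : act 4 n4884 = n7796 := rfl
theorem F8224 : act 0 n7796 = n4886 := d3_1 D7796 (iv D4886) D4884
theorem F8225 : act 1 n7796 = n7060 := d6_1 D7796 (iv D7060) (iv F3865)
theorem F8226 : act 3 n7796 = n7269 := d12_2 F3881 D7796 F7317 (iv F3312) (iv D2557) D2556 D4894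
def n7797 : Q := act 4 n4885
theorem D7797 : act 4 n4885 = n7797 := rfl
theorem F8227 : act 0 n7797 = n7210 := d3_1 D7797 F7227 F3879
theorem F8228 : act 3 n7797 = n5018 := d9_1 D7797 (iv D5018) (iv F3864) D7795 (iv F8223) (iv D4886) D4885
def n7798 : Q := act 3 n4888
theorem D7798 : act 3 n4888 = n7798 := rfl
theorem F8229 : act 1 n7798 = n6081 := d5_1 D7798 (iv D6081) (iv F3873)
theorem F8230 : act 2 n7798 = n4892 := d7_1 D7798 (iv D4892) (iv F3874)
theorem F8231 : act 0 n7798 = n7798 := d10_1 D7798 F8230 F3879 (iv D4885) D4884 (iv F8203) F8201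
def n7799 : Q := act 4 n4889
theorem D7799 : act 4 n4889 = n7799 := rfl
theorem F8232 : act 1 n7799 = n6152 := d6_1 D7799 (iv D6152) (iv F3875)
theorem F8233 : act 2 n7799 = n4893 := d8_1 D7799 (iv D4893) (iv F3874) (iv D4888) (iv D2552) D2553 D4889
def n7800 : Q := act 2 n4891
theorem D7800 : act 2 n4891 = n7800 := rfl
theorem F8234 : act 0 n7800 = n7013 := d10_3 D4138 (iv F3878) D7800 (iv D7013) (iv D4139) (iv D2026) D2025
theorem F8235 : act 1 n7013 = n7498 := d13_2 D7800 F8234 (iv D7498) (iv D4632) D4631 (iv F6895) F6897 F3162 D4210 (iv F3868) (iv F3878)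
theorem F8236 : act 3 n7498 = n5731 := d5_2 D7013 F8235 F4798
theorem F8237 : act 2 n5732 = n7498 := d7_3 F8236 (iv D5731) D5732
def n7801 : Q := act 2 n4894
theorem D7801 : act 2 n4894 = n7801 := rfl
theorem F8238 : act 0 n7801 = n7801 := d1_1 D7801 (iv D7801) (iv D4894) F1668 F920 (iv F1668) D4894
theorem F8239 : act 3 n7801 = n7788 := d7_2 (iv F3881) D7801 F8203
theorem F8240 : act 1 n7801 = n6580 := d13_2 D7801 F8238 (iv D6580) (iv F6143) (iv F8071) F8069 F7031 F3212 (iv F3184) F3185 D4894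
def n7802 : Q := act 4 n4895
theorem D7802 : act 4 n4895 = n7802 := rfl
theorem F8241 : act 0 n7802 = n5337 := d3_1 D7802 (iv D5337) (iv F3882)
theorem F8242 : act 1 n7802 = n4901 := d6_1 D7802 (iv D4901) (iv F3883)
theorem F8243 : act 3 n7802 = n5144 := d12_2 F3884 D7802 (iv D5144) F4092 (iv D5102) (iv D2693) (iv F1672)
def n7803 : Q := act 2 n4896
theorem D7803 : act 2 n4896 = n7803 := rfl
theorem F8244 : act 0 n7803 = n7641 := d1_1 D7803 (iv D7641) F3752 D4762 (iv F4093) (iv D5103) (iv F3885)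
def n7804 : Q := act 3 n4896
theorem D7804 : act 3 n4896 = n7804 := rfl
theorem F8245 : act 0 n7804 = n5339 := d2_1 D7804 (iv D5339) F1903 D2836 (iv F4095) (iv D5104) (iv F3885)
theorem F8246 : act 1 n7804 = n4903 := d5_1 D7804 (iv D4903) (iv F3886)
def n7805 : Q := act 3 n4897
theorem D7805 : act 3 n4897 = n7805 := rfl
theorem F8247 : act 1 n7805 = n5488 := d5_1 D7805 (iv F7581) F7580
theorem F8248 : act 0 n7805 = n4907 := d10_1 D7805 (iv D4907) (iv D2565) (iv D1117) D1115 D2560 D4897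
def n7806 : Q := act 4 n4897
theorem D7806 : act 4 n4897 = n7806 := rfl
theorem F8249 : act 0 n7806 = n4900 := d3_1 D7806 (iv D4900) D4897
def n7807 : Q := act 4 n4898
theorem D7807 : act 4 n4898 = n7807 := rfl
theorem F8250 : act 1 n7807 = n4900 := d6_1 D7807 (iv D4900) D4898
def n7808 : Q := act 4 n4899
theorem D7808 : act 4 n4899 = n7808 := rfl
def n7809 : Q := act 2 n4900
theorem D7809 : act 2 n4900 = n7809 := rfl
theorem F8251 : act 0 n7809 = n4905 := d11_3 D2560 D4900 D7809 (iv D4905) (iv D2564) (iv D1116) D1115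
def n7810 : Q := act 3 n4900
theorem D7810 : act 3 n4900 = n7810 := rfl
def n7811 : Q := act 2 n4901
theorem D7811 : act 2 n4901 = n7811 := rfl
theorem F8252 : act 3 n7811 = n5196 := d7_2 (iv F3888) D7811 (iv D5196)
def n7812 : Q := act 0 n4902
theorem D7812 : act 0 n4902 = n7812 := rfl
def n7813 : Q := act 1 n4902
theorem D7813 : act 1 n4902 = n7813 := rfl
def n7814 : Q := act 3 n4902
theorem D7814 : act 3 n4902 = n7814 := rfl
theorem F8253 : act 2 n7814 = n4903 := d7_1 D7814 (iv D4903) D4902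
def n7815 : Q := act 4 n4902
theorem D7815 : act 4 n4902 = n7815 := rfl
def n7816 : Q := act 0 n4903
theorem D7816 : act 0 n4903 = n7816 := rfl
theorem F8254 : act 1 n7816 = n6836 := d0_2 F8246 D7816 F6602 F4476 (iv D5448) (iv F4333) (iv F8245)
theorem F8255 : act 3 n7816 = n6835 := d12_4 (iv D2561) D2562 D4903 D7816 (iv D6835) (iv F3571) F3572
def n7817 : Q := act 4 n4903
theorem D7817 : act 4 n4903 = n7817 := rfl
theorem F8256 : act 3 n7817 = n5031 := d9_1 D7817 F4005 (iv F3888) (iv D4901) (iv D2561) D2562 D4903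
def n7818 : Q := act 2 n4904
theorem D7818 : act 2 n4904 = n7818 := rfl
theorem F8257 : act 3 n7818 = n7636 := d7_2 F3891 D7818 (iv D7636)
def n7819 : Q := act 1 n4905
theorem D7819 : act 1 n4905 = n7819 := rfl
theorem F8258 : act 0 n7819 = n5316 := d16_6 D719 D1701 (iv F2571) F2570 D4905 D7819 (iv D5316) (iv D2822) (iv D1254) (iv D516) F86 (iv F121)
theorem F8259 : act 4 n6711 = n7819 := d17_0 (iv D7819) (iv D4905) (iv D2564) (iv D1116) (iv D451) F73 (iv F78) (iv F233) D1185 D2686 D5090 (iv F6378)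
def n7820 : Q := act 4 n4905
theorem D7820 : act 4 n4905 = n7820 := rfl
theorem F8260 : act 1 n7820 = n6711 := d6_1 D7820 F8259 (iv D7819)
theorem F8261 : act 2 n7820 = n4914 := d8_1 D7820 (iv D4914) (iv D2567) (iv D1118) D1116 D2564 D4905
def n7821 : Q := act 4 n4906
theorem D7821 : act 4 n4906 = n7821 := rfl
theorem F8262 : act 0 n7821 = n5201 := d3_1 D7821 (iv D5201) (iv F3892)
theorem F8263 : act 1 n7821 = n4909 := d6_1 D7821 (iv D4909) D4906
theorem F8264 : act 3 n7821 = n5037 := d12_2 F3894 D7821 (iv D5037) (iv D2658) (iv D1172) D1171 D2655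
def n7822 : Q := act 3 n4907
theorem D7822 : act 3 n4907 = n7822 := rfl
theorem F8265 : act 0 n7822 = n5951 := d2_1 D7822 (iv F5167) F4140 (iv D4899) D4897 D7805 F8248
theorem F8266 : act 1 n7822 = n6224 := d5_1 D7822 (iv D6224) (iv F3895)
theorem F8267 : act 2 n7822 = n4908 := d7_1 D7822 (iv D4908) D4907
def n7823 : Q := act 4 n4907
theorem D7823 : act 4 n4907 = n7823 := rfl
theorem F8268 : act 1 n7823 = n6225 := d6_1 D7823 (iv D6225) (iv F3895)
def n7824 : Q := act 4 n4908
theorem D7824 : act 4 n4908 = n7824 := rfl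
theorem F8269 : act 0 n7824 = n6835 := d3_1 D7824 (iv D6835) (iv F3896)
theorem F8270 : act 1 n7824 = n5033 := d6_1 D7824 (iv D5033) (iv F3897)
theorem F8271 : act 3 n7824 = n4915 := d12_2 D4908 D7824 (iv D4915) (iv D2568) (iv D1118) D1117 D2565
def n7825 : Q := act 2 n4909
theorem D7825 : act 2 n4909 = n7825 := rfl
def n7826 : Q := act 3 n4909
theorem D7826 : act 3 n4909 = n7826 := rfl
theorem F8272 : act 0 n7826 = n6867 := d2_1 D7826 F7602 F7600 F3888 (iv D2751) F1675 (iv F3898)
theorem F8273 : act 1 n7826 = n5037 := d5_1 D7826 (iv F8264) F8263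
def n7827 : Q := act 0 n4910
theorem D7827 : act 0 n4910 = n7827 := rfl
def n7828 : Q := act 1 n4911
theorem D7828 : act 1 n4911 = n7828 := rfl
def n7829 : Q := act 3 n4911
theorem D7829 : act 3 n4911 = n7829 := rfl
def n7830 : Q := act 4 n4911
theorem D7830 : act 4 n4911 = n7830 := rfl
theorem F8274 : act 0 n7830 = n4914 := d3_1 D7830 (iv D4914) D4911
def n7831 : Q := act 0 n4913
theorem D7831 : act 0 n4913 = n7831 := rfl
def n7832 : Q := act 1 n4915
theorem D7832 : act 1 n4915 = n7832 := rfl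
theorem F8275 : act 0 n7832 = n5203 := d0_1 D7832 F4188 (iv D2910) F730 (iv F617) (iv F1676) D4915
theorem F8276 : act 3 n7832 = n5033 := d5_2 F8271 D7832 (iv F8270)
def n7833 : Q := act 2 n4915
theorem D7833 : act 2 n4915 = n7833 := rfl
def n7834 : Q := act 4 n4915
theorem D7834 : act 4 n4915 = n7834 := rfl
theorem F8277 : act 0 n7834 = n4916 := d3_1 D7834 (iv D4916) D4915
def n7835 : Q := act 1 n4917
theorem D7835 : act 1 n4917 = n7835 := rfl
theorem F8278 : act 0 n7835 = n5834 := d0_1 D7835 F5054 (iv D3184) F815 (iv F619) D2570 D4917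
theorem F8279 : act 2 n7835 = n7835 := d14_1 D7835 (iv D7835) (iv D4917) (iv D2570) (iv D1121) (iv F610) F919 F610 D1121 D2570 D4917
theorem F8280 : act 3 n5790 = n7835 := d2_0 F8278 (iv D5834) (iv D3137) (iv D1438) (iv F790) D3114 D5790
def n7836 : Q := act 2 n4917
theorem D7836 : act 2 n4917 = n7836 := rfl
theorem F8281 : act 1 n7836 = n7257 := d14_2 (iv D7835) D7836 (iv D7257) (iv F3639) F3640 F1487 D4357 (iv F5066) (iv D5881) (iv F5054) (iv F8278)
def n7837 : Q := act 3 n4917
theorem D7837 : act 3 n4917 = n7837 := rfl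
theorem F8282 : act 0 n7837 = n6837 := d2_1 D7837 (iv F7733) F7734 (iv D5026) (iv D2642) (iv F1679) D4917
theorem F8283 : act 1 n7837 = n5790 := d5_1 D7837 F8280 (iv D7835)
def n7838 : Q := act 4 n4917
theorem D7838 : act 4 n4917 = n7838 := rfl
theorem F8284 : act 0 n7838 = n4918 := d3_1 D7838 (iv D4918) D4917
def n7839 : Q := act 1 n4919
theorem D7839 : act 1 n4919 = n7839 := rfl
theorem F8285 : act 0 n7839 = n4921 := d0_1 D7839 (iv D4921) (iv D2573) (iv D1123) D1122 D2572 D4919
theorem F8286 : act 3 n7839 = n5750 := d5_2 (iv F3906) D7839 F4813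
theorem F8287 : act 4 n7839 = n5831 := d6_2 (iv F3905) D7839 (iv D5831)
def n7840 : Q := act 0 n4920
theorem D7840 : act 0 n4920 = n7840 := rfl
theorem F8288 : act 2 n7840 = n7067 := d1_2 D4920 D7840 (iv F7655) (iv D7490) D7489 F7653 (iv D4919)
theorem F8289 : act 4 n7840 = n5813 := d3_2 (iv F6369) D7840 (iv D5813)
theorem F8290 : act 3 n7840 = n5730 := d10_4 (iv F3906) (iv D4919) D4920 D7840 F4797 (iv D4057) D4056
theorem F8291 : act 1 n5732 = n7840 := d16_5 F1262 D4139 D7013 F8235 (iv F8237) (iv D7840) F3907 D5786 F4918 (iv F7171) (iv D7173) (iv D4272)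
def n7841 : Q := act 1 n4920
theorem D7841 : act 1 n4920 = n7841 := rfl
theorem F8292 : act 2 n7841 = n5166 := d4_2 D4920 D7841 (iv D5166) (iv D2728) F664 (iv F620) D2572
theorem F8293 : act 3 n7841 = n5787 := d5_2 (iv F3907) D7841 (iv D5787)
theorem F8294 : act 4 n7841 = n5806 := d6_2 (iv F6369) D7841 F4944
theorem F8295 : act 0 n7841 = n7508 := d14_3 D2572 D4920 D7841 F7682 F7074 F3199 (iv F3183) F3182 (iv D2574) (iv D1123) D1122
def n7842 : Q := act 2 n4921
theorem D7842 : act 2 n4921 = n7842 := rfl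
theorem F8296 : act 0 n7842 = n5723 := d10_3 (iv F8286) F8285 D7842 (iv D5723) F2147 D3087 D5750
theorem F8297 : act 1 n7842 = n4923 := d14_2 D4921 D7842 (iv F7606) (iv D7463) (iv D4605) F1458 F609 F213 D455 D1123 D2573
theorem F8298 : act 4 n7842 = n7803 := d17_3 (iv D4924) D4921 D7842 (iv D7803) F3886 F1673 F614 (iv F597) D2520 F1625 (iv F1685) (iv F3908)
theorem F8299 : act 3 n4921 = n7842 := d5_0 F8297 (iv D4923) D4921
def n7843 : Q := act 4 n4921
theorem D7843 : act 4 n4921 = n7843 := rfl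
theorem F8300 : act 0 n7843 = n5831 := d3_1 D7843 (iv F8287) F8285
theorem F8301 : act 1 n7843 = n4924 := d6_1 D7843 (iv D4924) D4921
theorem F8302 : act 2 n7843 = n7802 := d8_1 D7843 (iv D7802) (iv D4895) D4896 D7803 (iv F8298) (iv D7842)
def n7844 : Q := act 0 n4922
theorem D7844 : act 0 n4922 = n7844 := rfl
def n7845 : Q := act 1 n4922
theorem D7845 : act 1 n4922 = n7845 := rfl
def n7846 : Q := act 3 n4922
theorem D7846 : act 3 n4922 = n7846 := rfl
theorem F8303 : act 2 n7846 = n4923 := d7_1 D7846 (iv D4923) D4922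
def n7847 : Q := act 4 n4922
theorem D7847 : act 4 n4922 = n7847 := rfl
def n7848 : Q := act 4 n4923
theorem D7848 : act 4 n4923 = n7848 := rfl
theorem F8304 : act 1 n7848 = n7803 := d6_1 D7848 (iv F8298) F8297
theorem F8305 : act 3 n7848 = n5027 := d12_2 D4923 D7848 F4004 (iv F3911) (iv D4929) (iv D2575) D2573
def n7849 : Q := act 2 n4924
theorem D7849 : act 2 n4924 = n7849 := rfl
def n7850 : Q := act 3 n4924
theorem D7850 : act 3 n4924 = n7850 := rfl
theorem F8306 : act 4 n7850 = n5026 := d9_2 D4924 D7850 (iv D5026) D5027 (iv F8305) (iv D7848) (iv D4923)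
def n7851 : Q := act 2 n4925
theorem D7851 : act 2 n4925 = n7851 := rfl
def n7852 : Q := act 4 n4925
theorem D7852 : act 4 n4925 = n7852 := rfl
theorem F8307 : act 0 n7852 = n4927 := d3_1 D7852 (iv D4927) D4925
def n7853 : Q := act 0 n4926
theorem D7853 : act 0 n4926 = n7853 := rfl
theorem F8308 : act 1 n7853 = n5711 := d0_2 F7040 D7853 (iv D5711) (iv F4672) (iv F7098) F7099 (iv F7039)
def n7854 : Q := act 2 n4927
theorem D7854 : act 2 n4927 = n7854 := rfl
theorem F8309 : act 4 n7854 = n6708 := d8_2 D4927 D7854 F6368 (iv F5659) (iv D4930) (iv D2576) D2574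
theorem F8310 : act 1 n7854 = n6710 := d16_5 F4839 (iv F3318) (iv F7047) F7046 D7854 F6377 (iv F6308) F6307 F4899 (iv D5774) F2219 (iv F3203)
def n7855 : Q := act 1 n4928
theorem D7855 : act 1 n4928 = n7855 := rfl
theorem F8311 : act 0 n7855 = n5740 := d0_1 D7855 (iv D5740) (iv D3082) F779 (iv F622) (iv F1684) D4928
theorem F8312 : act 2 n7855 = n7855 := d14_1 D7855 (iv D7855) (iv D4928) F1684 F623 (iv F612) F920 F612 (iv F623) (iv F1684) D4928
def n7856 : Q := act 2 n4928
theorem D7856 : act 2 n4928 = n7856 := rfl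
def n7857 : Q := act 3 n4928
theorem D7857 : act 3 n4928 = n7857 := rfl
theorem F8313 : act 0 n7857 = n6853 := d2_1 D7857 (iv F7605) F7606 (iv D4923) (iv D2573) D2575 D4928
def n7858 : Q := act 4 n4928
theorem D7858 : act 4 n4928 = n7858 := rfl
theorem F8314 : act 0 n7858 = n4929 := d3_1 D7858 (iv D4929) D4928
def n7859 : Q := act 4 n4931
theorem D7859 : act 4 n4931 = n7859 := rfl
theorem F8315 : act 0 n7859 = n4942 := d3_1 D7859 (iv D4942) (iv F3912)
theorem F8316 : act 1 n7859 = n4932 := d6_1 D7859 (iv D4932) D4931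
theorem F8317 : act 2 n7859 = n5337 := d8_1 D7859 (iv D5337) F1902 D4760 D7641 F7932 F4787
theorem F8318 : act 3 n5426 = n7859 := d7_0 F8317 F4330 D5426
def n7860 : Q := act 2 n4932
theorem D7860 : act 2 n4932 = n7860 := rfl
theorem F8319 : act 3 n7860 = n7320 := d7_2 F3922 D7860 (iv D7320)
def n7861 : Q := act 1 n4933
theorem D7861 : act 1 n4933 = n7861 := rfl
theorem F8320 : act 2 n7861 = n7013 := d4_2 (iv F6610) D7861 F8235 (iv F8237) F8291 F8288 F6915
theorem F8321 : act 3 n7861 = n5698 := d5_2 F6609 D7861 F4759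
def n7862 : Q := act 4 n4933
theorem D7862 : act 4 n4933 = n7862 := rfl
theorem F8322 : act 0 n7862 = n4936 := d3_1 D7862 (iv D4936) D4933
def n7863 : Q := act 3 n4934
theorem D7863 : act 3 n4934 = n7863 := rfl
theorem F8323 : act 0 n7863 = n7153 := d2_1 D7863 (iv D7153) (iv F7005) (iv D7109) F3172 D4238 (iv F3916)
theorem F8324 : act 1 n7863 = n4935 := d5_1 D7863 (iv D4935) D4934
theorem F8325 : act 2 n7863 = n7117 := d7_1 D7863 (iv D7117) (iv F3915)
theorem F8326 : act 4 n7284 = n7863 := d8_0 F8325 (iv F7032) (iv F5808) F8055 F8053 (iv D7285) D7284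
def n7864 : Q := act 4 n4934
theorem D7864 : act 4 n4934 = n7864 := rfl
theorem F8327 : act 0 n7864 = n7145 := d3_1 D7864 (iv D7145) (iv F3916)
theorem F8328 : act 1 n7864 = n4936 := d6_1 D7864 (iv D4936) D4934
theorem F8329 : act 2 n7864 = n7126 := d8_1 D7864 F8050 (iv D7695) D7697 F8059 (iv D7118) (iv F3915)
theorem F8330 : act 3 n7864 = n7260 := d12_2 (iv D7863) D7864 F7305 (iv F7114) (iv D7154) D7153 (iv F8323)
def n7865 : Q := act 0 n4935
theorem D7865 : act 0 n4935 = n7865 := rfl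
theorem F8331 : act 1 n7865 = n7865 := d0_2 F8324 D7865 (iv D7865) (iv F8324) F8323 F7109 (iv F8323)
def n7866 : Q := act 4 n4935
theorem D7866 : act 4 n4935 = n7866 := rfl
theorem F8332 : act 1 n7866 = n7284 := d6_1 D7866 F8326 F8324
def n7867 : Q := act 2 n4936
theorem D7867 : act 2 n4936 = n7867 := rfl
theorem F8333 : act 0 n7867 = n7061 := d11_3 D2580 D4936 D7867 (iv D7061) (iv D4182) (iv F3812) (iv D2579)
theorem F8334 : act 1 n7867 = n6712 := d17_5 (iv D1129) D1127 D2580 D4936 D7867 (iv D6712) D6713 F6379 F7154 (iv D2594) F629 (iv F627)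
def n7868 : Q := act 3 n4936
theorem D7868 : act 3 n4936 = n7868 := rfl
theorem F8335 : act 1 n7868 = n7260 := d5_1 D7868 (iv F8330) F8328
theorem F8336 : act 4 n5011 = n7868 := d6_0 F8335 (iv D7260) (iv F3986)
theorem F8337 : act 3 n7866 = n5012 := d9_5 F8336 (iv D7868) (iv D4936) D4935 D7866 (iv D5012) D5011
theorem F8338 : act 3 n7862 = n7326 := d12_4 D5011 F8336 (iv D7868) (iv F8322) (iv D7326) F7246 (iv D5009)
theorem F8339 : act 2 n7334 = n7862 := d7_3 F8338 F7419 D7334
def n7869 : Q := act 1 n4937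
theorem D7869 : act 1 n4937 = n7869 := rfl
theorem F8340 : act 0 n7869 = n5715 := d0_1 D7869 (iv D5715) (iv D3068) F776 (iv F626) (iv F1690) D4937
theorem F8341 : act 2 n7869 = n5740 := d4_2 F6614 D7869 (iv D5740) D5741 F5521 (iv F6950) F6949
theorem F8342 : act 3 n7869 = n7087 := d5_2 (iv F6613) D7869 (iv D7087)
def n7870 : Q := act 4 n4937
theorem D7870 : act 4 n4937 = n7870 := rfl
theorem F8343 : act 0 n7870 = n4938 := d3_1 D7870 (iv D4938) D4937
theorem F8344 : act 3 n7332 = n7870 := d12_2 (iv F3989) D7332 F8343 (iv F3919) (iv D2630) D2629 D5013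
def n7871 : Q := act 2 n4938
theorem D7871 : act 2 n4938 = n7871 := rfl
theorem F8345 : act 1 n7871 = n6274 := d4_1 D7871 F5632 (iv F5706) F6501 F4540 F3824 (iv F3918)
theorem F8346 : act 3 n7871 = n5014 := d7_2 F3919 D7871 (iv D5014)
theorem F8347 : act 4 n6273 = n7871 := d6_0 F8345 (iv D6274) D6273
def n7872 : Q := act 0 n4939
theorem D7872 : act 0 n4939 = n7872 := rfl
theorem F8348 : act 2 n7872 = n7070 := d11_4 (iv D2580) D2582 D4939 D7872 (iv D7070) (iv F6610) (iv D4933)
theorem F8349 : act 3 n6027 = n7872 := d7_0 F8348 (iv F6932) F5745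
theorem F8350 : act 1 n7872 = n6009 := d5_1 F8349 F5260 D6027
def n7873 : Q := act 1 n4939
theorem D7873 : act 1 n4939 = n7873 := rfl
theorem F8351 : act 2 n7873 = n6300 := d4_2 D4939 D7873 (iv F8105) (iv D7716) F3822 F1619 (iv F1691)
theorem F8352 : act 0 n7873 = n6381 := d16_6 (iv F1193) (iv F1694) (iv D2584) (iv F1691) D4939 D7873 F5846 (iv F5550) (iv F5553) F3944 F1710 F1187
theorem F8353 : act 3 n6251 = n7873 := d16_2 (iv F2808) (iv F5602) (iv D7873) (iv D4939) F1691 F627 (iv F1191) (iv F224) (iv F633) D2604 (iv F2522) F2521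
theorem F8354 : act 4 n6248 = n7873 := d17_0 (iv D7873) (iv D4939) (iv D2582) D2580 D4934 F3916 (iv F6880) F6881 D7038 (iv F6885) (iv D6380) (iv F5599)
def n7874 : Q := act 3 n4939
theorem D7874 : act 3 n4939 = n7874 := rfl
theorem F8355 : act 1 n7874 = n6251 := d5_1 D7874 F8353 (iv D7873)
theorem F8356 : act 2 n7874 = n4940 := d7_1 D7874 (iv D4940) D4939
theorem F8357 : act 4 n6249 = n7874 := d6_0 F8355 (iv D6251) D6249
def n7875 : Q := act 4 n4939
theorem D7875 : act 4 n4939 = n7875 := rfl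
theorem F8358 : act 1 n7875 = n6248 := d6_1 D7875 F8354 (iv D7873)
theorem F8359 : act 3 n6273 = n7875 := d5_0 F8358 F5598 D6273
def n7876 : Q := act 0 n4940
theorem D7876 : act 0 n4940 = n7876 := rfl
theorem F8360 : act 4 n7876 = n5013 := d3_2 (iv F3921) D7876 (iv D5013)
theorem F8361 : act 3 n7876 = n7088 := d12_4 (iv D2581) D2582 D4940 D7876 (iv D7088) (iv F6613) (iv D4937)
def n7877 : Q := act 0 n4941
theorem D7877 : act 0 n4941 = n7877 := rfl
theorem F8362 : act 1 n7877 = n5697 := d0_2 (iv F3923) D7877 (iv F7619) (iv D7468) (iv D4611) D4612 F3594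
theorem F8363 : act 2 n7877 = n7839 := d1_2 D4941 D7877 F8285 D7842 F8296 F4787 F3912
theorem F8364 : act 3 n7877 = n5696 := d2_2 F3925 D7877 F4756 F4763 F4761 (iv F3913) F3912
theorem F8365 : act 4 n7877 = n5103 := d3_2 (iv F3924) D7877 F4093
def n7878 : Q := act 2 n4943
theorem D7878 : act 2 n4943 = n7878 := rfl
theorem F8366 : act 0 n7878 = n4951 := d1_1 D7878 (iv D4951) (iv D2589) (iv D1131) D1130 D2586 D4943
theorem F8367 : act 1 n7878 = n7490 := d4_1 D7878 (iv D7490) (iv D4625) F1472 F1419 D3354 F4154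
theorem F8368 : act 1 n7851 = n4951 := d14_10 F8367 (iv D7490) (iv D4625) (iv D2370) D2371 D4627 (iv F7623) F7625 (iv F7626) D7851 (iv F8366)
def n7879 : Q := act 3 n4943
theorem D7879 : act 3 n4943 = n7879 := rfl
theorem F8369 : act 1 n7879 = n6082 := d5_1 D7879 (iv D6082) F4154
theorem F8370 : act 0 n7879 = n4959 := d10_1 D7879 (iv D4959) (iv D2592) (iv D1132) D1130 D2586 D4943
def n7880 : Q := act 4 n4943
theorem D7880 : act 4 n4943 = n7880 := rfl
theorem F8371 : act 0 n7880 = n4946 := d3_1 D7880 (iv D4946) D4943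
theorem F8372 : act 1 n7880 = n6083 := d6_1 D7880 (iv D6083) F4154
theorem F8373 : act 3 n4974 = n7880 := d5_0 F8372 F7002 (iv F3950)
def n7881 : Q := act 4 n4944
theorem D7881 : act 4 n4944 = n7881 := rfl
theorem F8374 : act 1 n7881 = n4946 := d6_1 D7881 (iv D4946) D4944
theorem F8375 : act 2 n7881 = n6427 := d8_1 D7881 (iv D6427) F2697 D4764 D7644 F7946 F7023
def n7882 : Q := act 0 n4945
theorem D7882 : act 0 n4945 = n7882 := rfl
theorem F8376 : act 1 n7882 = n7444 := d0_2 (iv F7024) D7882 F7586 F3809 (iv D4221) (iv F3178) D7114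
theorem F8377 : act 2 n7882 = n7499 := d15_8 (iv D7800) F3878 (iv F4757) (iv F8362) (iv D7877) F3923 (iv F3929) D7882 (iv D7499) D7498 (iv F8235) (iv F8234)
def n7883 : Q := act 4 n4945
theorem D7883 : act 4 n4945 = n7883 := rfl
theorem F8378 : act 1 n7883 = n7644 := d6_1 D7883 F7946 (iv F7024)
def n7884 : Q := act 2 n4946
theorem D7884 : act 2 n4946 = n7884 := rfl
theorem F8379 : act 0 n7884 = n4956 := d10_3 F8373 F8371 D7884 F7104 (iv F3951) (iv D4977) (iv F3949)
def n7885 : Q := act 3 n4946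
theorem D7885 : act 3 n4946 = n7885 := rfl
theorem F8380 : act 4 n7885 = n5002 := d12_1 D7885 (iv D5002) (iv F3948) (iv D4973) D4974 F8373 F8371
theorem F8381 : act 3 n7883 = n5003 := d9_5 (iv F8380) (iv D7885) (iv D4946) D4945 D7883 (iv D5003) D5002
def n7886 : Q := act 2 n4947
theorem D7886 : act 2 n4947 = n7886 := rfl
theorem F8382 : act 1 n7886 = n7649 := d4_1 D7886 (iv D7649) (iv D4769) (iv D2479) (iv F1580) D4762 (iv F3930)
theorem F8383 : act 3 n7886 = n5004 := d7_2 (iv F3931) D7886 (iv D5004)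
def n7887 : Q := act 0 n4948
theorem D7887 : act 0 n4948 = n7887 := rfl
theorem F8384 : act 3 n7887 = n4982 := d10_4 (iv F1190) (iv F1696) D4948 D7887 (iv D4982) (iv D2613) F636
theorem F8385 : act 1 n7556 = n7887 := d5_3 F8384 F3955 D7556
def n7888 : Q := act 1 n4948
theorem D7888 : act 1 n4948 = n7888 := rfl
theorem F8386 : act 2 n7888 = n7646 := d4_2 D4948 D7888 (iv D7646) (iv D4767) (iv F3754) (iv F3927) F3926
theorem F8387 : act 3 n7672 = n7888 := d7_0 F8386 F7949 D7672
def n7889 : Q := act 3 n4948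
theorem D7889 : act 3 n4948 = n7889 := rfl
theorem F8388 : act 1 n7889 = n7672 := d5_1 D7889 F8387 (iv D7888)
theorem F8389 : act 2 n7889 = n4949 := d7_1 D7889 (iv D4949) D4948
def n7890 : Q := act 4 n4948
theorem D7890 : act 4 n4948 = n7890 := rfl
def n7891 : Q := act 0 n4950
theorem D7891 : act 0 n4950 = n7891 := rfl
theorem F8390 : act 1 n7891 = n7026 := d0_2 D4950 D7891 F6868 F3622 (iv D4639) F1478 D2589
theorem F8391 : act 2 n7891 = n7463 := d10_2 (iv F7627) D7891 F7606 (iv D4923) (iv D2573) D2574 D4925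
def n7892 : Q := act 2 n4950
theorem D7892 : act 2 n4950 = n7892 := rfl
theorem F8392 : act 3 n7892 = n7851 := d7_2 (iv F7627) D7892 (iv D7851)
theorem F8393 : act 4 n7892 = n7654 := d17_3 (iv D4953) D4950 D7892 (iv D7654) (iv D4773) (iv D2481) D2482 D4777 (iv F7691) (iv D7511) F3625 (iv F3934)
def n7893 : Q := act 4 n4950
theorem D7893 : act 4 n4950 = n7893 := rfl
theorem F8394 : act 1 n7893 = n4953 := d6_1 D7893 (iv D4953) D4950
def n7894 : Q := act 3 n4951
theorem D7894 : act 3 n4951 = n7894 := rfl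
theorem F8395 : act 1 n7894 = n7892 := d5_1 D7894 F8392 F8368
theorem F8396 : act 2 n7894 = n4952 := d7_1 D7894 (iv D4952) D4951
theorem F8397 : act 0 n7894 = n7499 := d10_1 D7894 (iv F8377) (iv D7882) (iv D4945) D4943 D7878 F8366
def n7895 : Q := act 4 n4951
theorem D7895 : act 4 n4951 = n7895 := rfl
theorem F8398 : act 2 n7895 = n4963 := d11_2 D4951 D7895 (iv D4963) (iv D2594) (iv D1133) D1131 D2589
def n7896 : Q := act 4 n4952
theorem D7896 : act 4 n4952 = n7896 := rfl
theorem F8399 : act 1 n7896 = n7852 := d6_1 D7896 (iv D7852) F7626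
theorem F8400 : act 3 n7896 = n4992 := d12_2 D4952 D7896 F3970 (iv F7106) (iv D4955) (iv D2590) D2589
def n7897 : Q := act 2 n4953
theorem D7897 : act 2 n4953 = n7897 := rfl
def n7898 : Q := act 3 n4953
theorem D7898 : act 3 n4953 = n7898 := rfl
theorem F8401 : act 4 n7898 = n4991 := d9_2 D4953 D7898 (iv D4991) D4992 (iv F8400) (iv D7896) (iv D4952)
def n7899 : Q := act 2 n4954
theorem D7899 : act 2 n4954 = n7899 := rfl
theorem F8402 : act 1 n7899 = n5771 := d14_2 (iv F7008) D7899 F4892 (iv D4273) (iv D2091) (iv D888) (iv D354) (iv F162) (iv F465) (iv F783) D3100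
def n7900 : Q := act 3 n4954
theorem D7900 : act 3 n4954 = n7900 := rfl
theorem F8403 : act 0 n7900 = n6906 := d2_1 D7900 (iv F7624) F7625 (iv D4952) (iv D2589) D2590 D4954
theorem F8404 : act 1 n7900 = n5772 := d5_1 D7900 (iv D5772) (iv F7008)
theorem F8405 : act 4 n7900 = n4988 := d12_1 D7900 (iv D4988) F1720 F7105 (iv D2591) D2590 D4954
def n7901 : Q := act 4 n4954
theorem D7901 : act 4 n4954 = n7901 := rfl
theorem F8406 : act 0 n7901 = n4955 := d3_1 D7901 (iv D4955) D4954
theorem F8407 : act 1 n7901 = n5773 := d6_1 D7901 (iv D5773) (iv F7008)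
theorem F8408 : act 3 n7901 = n4987 := d9_1 D7901 (iv D4987) (iv D2616) D2617 D4988 (iv F8405) (iv D7900)
def n7902 : Q := act 2 n4955
theorem D7902 : act 2 n4955 = n7902 := rfl
theorem F8409 : act 3 n7902 = n4993 := d7_2 (iv F7106) D7902 (iv D4993)
def n7903 : Q := act 3 n4959
theorem D7903 : act 3 n4959 = n7903 := rfl
theorem F8410 : act 2 n7903 = n4960 := d7_1 D7903 (iv D4960) D4959
theorem F8411 : act 4 n7903 = n4978 := d12_1 D7903 (iv D4978) (iv F3949) F8373 (iv D7880) D7879 F8370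
def n7904 : Q := act 4 n4959
theorem D7904 : act 4 n4959 = n7904 := rfl
theorem F8412 : act 3 n7904 = n4976 := d9_1 D7904 (iv D4976) (iv D2609) D2610 D4978 (iv F8411) (iv D7903)
def n7905 : Q := act 2 n4961
theorem D7905 : act 2 n4961 = n7905 := rfl
theorem F8413 : act 3 n7905 = n4981 := d7_2 (iv F3939) D7905 (iv D4981)
def n7906 : Q := act 0 n4962
theorem D7906 : act 0 n4962 = n7906 := rfl
def n7907 : Q := act 1 n4963
theorem D7907 : act 1 n4963 = n7907 := rfl
theorem F8414 : act 2 n7907 = n7619 := d14_1 D7907 (iv F7916) F7915 F7566 D7431 (iv F8131) (iv D7741) F7527 F7526 F7152 D4963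
theorem F8415 : act 3 n5197 = n7907 := d7_0 F8414 (iv F7982) F7983
def n7908 : Q := act 3 n4963
theorem D7908 : act 3 n4963 = n7908 := rfl
theorem F8416 : act 1 n7908 = n5197 := d5_1 D7908 F8415 (iv D7907)
def n7909 : Q := act 4 n4965
theorem D7909 : act 4 n4965 = n7909 := rfl
theorem F8417 : act 3 n7909 = n4967 := d9_1 D7909 (iv D4967) (iv D2601) D2602 D4968 F7014 (iv F3941)
def n7910 : Q := act 2 n4966
theorem D7910 : act 2 n4966 = n7910 := rfl
theorem F8418 : act 3 n7910 = n4969 := d7_2 (iv F3943) D7910 (iv D4969)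
def n7911 : Q := act 1 n4971
theorem D7911 : act 1 n4971 = n7911 := rfl
theorem F8419 : act 0 n7911 = n5701 := d0_1 D7911 F4764 F2141 F777 (iv F1187) (iv F1710) D4971
theorem F8420 : act 3 n7911 = n5145 := d5_2 F7273 D7911 (iv F7272)
theorem F8421 : act 4 n7911 = n5696 := d6_2 (iv F3945) D7911 (iv D5696)
theorem F8422 : act 2 n7911 = n5102 := d14_1 D7911 F4091 F1791 F1162 D1954 D4023 F3013 F1818 F1512 (iv F1710) D4971
def n7912 : Q := act 3 n4972
theorem D7912 : act 3 n4972 = n7912 := rfl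
theorem F8423 : act 0 n7912 = n5689 := d2_1 D7912 (iv F7196) (iv D7185) (iv D4300) F1285 D2607 D4972
theorem F8424 : act 1 n7912 = n5013 := d5_1 D7912 (iv F3989) F3962
theorem F8425 : act 2 n7912 = n5834 := d7_1 D7912 (iv D5834) (iv F3946)
def n7913 : Q := act 4 n4973
theorem D7913 : act 4 n4973 = n7913 := rfl
theorem F8426 : act 0 n7913 = n5003 := d3_1 D7913 (iv D5003) (iv F3948)
theorem F8427 : act 1 n7913 = n6085 := d6_1 D7913 (iv D6085) (iv F3947)
def n7914 : Q := act 2 n4975
theorem D7914 : act 2 n4975 = n7914 := rfl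
theorem F8428 : act 0 n7914 = n4986 := d1_1 D7914 F3961 (iv F3952) (iv D4979) (iv D2611) (iv F1716) D4975
theorem F8429 : act 1 n7914 = n7527 := d4_1 D7914 F7724 F3650 (iv F3547) F3546 D6592 F6159
theorem F8430 : act 3 n7526 = n7914 := d5_0 F8429 (iv D7527) D7526
def n7915 : Q := act 3 n4975
theorem D7915 : act 3 n4975 = n7915 := rfl
theorem F8431 : act 0 n7915 = n5002 := d2_1 D7915 (iv D5002) (iv F3948) (iv D4973) (iv D2608) D2609 D4975
theorem F8432 : act 1 n7915 = n7532 := d5_1 D7915 F7731 F6159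
theorem F8433 : act 2 n7915 = n7526 := d7_1 D7915 F8430 (iv D7914)
def n7916 : Q := act 4 n4975
theorem D7916 : act 4 n4975 = n7916 := rfl
theorem F8434 : act 0 n7916 = n4976 := d3_1 D7916 (iv D4976) D4975
def n7917 : Q := act 2 n4976
theorem D7917 : act 2 n4976 = n7917 := rfl
def n7918 : Q := act 3 n4977
theorem D7918 : act 3 n4977 = n7918 := rfl
theorem F8435 : act 2 n7918 = n4978 := d7_1 D7918 (iv D4978) D4977
def n7919 : Q := act 0 n4978
theorem D7919 : act 0 n4978 = n7919 := rfl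
def n7920 : Q := act 4 n4979
theorem D7920 : act 4 n4979 = n7920 := rfl
theorem F8436 : act 0 n7920 = n4987 := d3_1 D7920 (iv D4987) (iv F3952)
def n7921 : Q := act 2 n4980
theorem D7921 : act 2 n4980 = n7921 := rfl
def n7922 : Q := act 0 n4981
theorem D7922 : act 0 n4981 = n7922 := rfl
def n7923 : Q := act 4 n4981
theorem D7923 : act 4 n4981 = n7923 := rfl
def n7924 : Q := act 0 n4983
theorem D7924 : act 0 n4983 = n7924 := rfl
def n7925 : Q := act 4 n4983
theorem D7925 : act 4 n4983 = n7925 := rfl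
def n7926 : Q := act 3 n4984
theorem D7926 : act 3 n4984 = n7926 := rfl
theorem F8437 : act 1 n7926 = n7279 := d5_1 D7926 (iv D7279) (iv F3957)
def n7927 : Q := act 4 n4986
theorem D7927 : act 4 n4986 = n7927 := rfl
theorem F8438 : act 1 n7927 = n5849 := d6_1 D7927 (iv D5849) (iv F3960)
def n7928 : Q := act 0 n4988
theorem D7928 : act 0 n4988 = n7928 := rfl
theorem F8439 : act 4 n7928 = n6906 := d3_2 F8405 D7928 (iv F8403)
def n7929 : Q := act 0 n4989
theorem D7929 : act 0 n4989 = n7929 := rfl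
theorem F8440 : act 1 n7929 = n7356 := d0_2 D4989 D7929 F7465 F3642 (iv D4652) F1488 D2618
theorem F8441 : act 2 n7929 = n7533 := d10_2 F7747 D7929 F7734 (iv D5026) (iv D2642) D2643 D5028
def n7930 : Q := act 2 n4989
theorem D7930 : act 2 n4989 = n7930 := rfl
theorem F8442 : act 4 n7930 = n7665 := d17_3 (iv D4992) D4989 D7930 (iv D7665) (iv D4789) (iv D2489) (iv F1587) (iv F3767) (iv F7715) (iv D7522) F3643 (iv F3970)
def n7931 : Q := act 4 n4989
theorem D7931 : act 4 n4989 = n7931 := rfl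
theorem F8443 : act 1 n7931 = n4992 := d6_1 D7931 (iv D4992) D4989
theorem F8444 : act 3 n7931 = n7852 := d12_2 F7747 D7931 F8307 F7320 (iv D7271) (iv F3314) D5028
def n7932 : Q := act 1 n4990
theorem D7932 : act 1 n4990 = n7932 := rfl
theorem F8445 : act 2 n7932 = n5028 := d14_1 D7932 (iv F7746) (iv F7745) F7743 (iv D4671) (iv D2409) F554 (iv F1484) (iv F3634) (iv F7699) F7701
theorem F8446 : act 3 n7930 = n7932 := d7_0 F8445 F7747 D7930
def n7933 : Q := act 3 n4990
theorem D7933 : act 3 n4990 = n7933 := rfl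
theorem F8447 : act 0 n7933 = n7526 := d2_1 D7933 F8430 F8428 (iv D4986) (iv F3632) D7515 F7701
theorem F8448 : act 1 n7933 = n7930 := d5_1 D7933 F8446 (iv D7932)
theorem F8449 : act 2 n7933 = n4991 := d7_1 D7933 (iv D4991) D4990
def n7934 : Q := act 4 n4990
theorem D7934 : act 4 n4990 = n7934 := rfl
theorem F8450 : act 2 n7934 = n5005 := d11_2 D4990 D7934 (iv D5005) (iv D2626) (iv D1151) (iv F637) D2618
def n7935 : Q := act 2 n4992
theorem D7935 : act 2 n4992 = n7935 := rfl
def n7936 : Q := act 0 n4993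
theorem D7936 : act 0 n4993 = n7936 := rfl
theorem F8451 : act 2 n7936 = n5003 := d11_4 (iv F637) D2619 D4993 D7936 (iv D5003) (iv D2623) (iv D1150)
def n7937 : Q := act 4 n4998
theorem D7937 : act 4 n4998 = n7937 := rfl
theorem F8452 : act 0 n7937 = n5000 := d3_1 D7937 (iv D5000) D4998
theorem F8453 : act 1 n7937 = n5008 := d6_1 D7937 (iv D5008) (iv F3972)
theorem F8454 : act 3 n7937 = n5338 := d9_1 D7937 F4331 (iv F3913) D7859 (iv F8318) F4408 F3973
theorem F8455 : act 2 n5339 = n7937 := d7_3 F8454 (iv D5338) D5339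
def n7938 : Q := act 4 n5001
theorem D7938 : act 4 n5001 = n7938 := rfl
theorem F8456 : act 1 n7938 = n5003 := d6_1 D7938 (iv D5003) D5001
theorem F8457 : act 2 n7938 = n6431 := d11_2 F7393 D7938 (iv D6431) (iv F5901) (iv F7389) F7388 D7308
theorem F8458 : act 3 n7938 = n7644 := d12_2 F7394 D7938 F7945 (iv F7027) (iv D4443) D4442 D7308
def n7939 : Q := act 0 n5004
theorem D7939 : act 0 n5004 = n7939 := rfl
def n7940 : Q := act 1 n5004
theorem D7940 : act 1 n5004 = n7940 := rfl
theorem F8459 : act 2 n7940 = n7650 := d4_2 D5004 D7940 F7960 F3759 (iv F3756) F3979 F3977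
theorem F8460 : act 3 n7940 = n7649 := d5_2 F8383 D7940 (iv F8382)
def n7941 : Q := act 4 n5004
theorem D7941 : act 4 n5004 = n7941 := rfl
def n7942 : Q := act 1 n5005
theorem D7942 : act 1 n5005 = n7942 := rfl
def n7943 : Q := act 3 n5005
theorem D7943 : act 3 n5005 = n7943 := rfl
def n7944 : Q := act 2 n5008
theorem D7944 : act 2 n5008 = n7944 := rfl
theorem F8461 : act 3 n7944 = n7057 := d7_2 (iv F3982) D7944 (iv D7057)
def n7945 : Q := act 4 n5009
theorem D7945 : act 4 n5009 = n7945 := rfl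
theorem F8462 : act 0 n7945 = n5012 := d3_1 D7945 (iv D5012) D5009
theorem F8463 : act 3 n7945 = n7069 := d9_1 D7945 (iv D7069) F6609 D7862 F8338 (iv D7326) F7246
theorem F8464 : act 2 n7096 = n7945 := d7_3 F8463 F6918 D7096
def n7946 : Q := act 4 n5010
theorem D7946 : act 4 n5010 = n7946 := rfl
theorem F8465 : act 0 n7946 = n7146 := d3_1 D7946 F7087 (iv F3983)
theorem F8466 : act 1 n7946 = n5012 := d6_1 D7946 (iv D5012) D5010
theorem F8467 : act 2 n7946 = n7135 := d8_1 D7946 F8168 (iv D7774) D7775 (iv F8172) F7038 (iv F3985)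
theorem F8468 : act 3 n7946 = n7284 := d9_1 D7946 F8326 (iv D7863) D7864 F8330 (iv D7260) F3984
def n7947 : Q := act 0 n5011
theorem D7947 : act 0 n5011 = n7947 := rfl
theorem F8469 : act 1 n7947 = n7947 := d0_2 (iv F3986) D7947 (iv D7947) F3986 F3307 F1340 (iv F3307)
def n7948 : Q := act 2 n5012
theorem D7948 : act 2 n5012 = n7948 := rfl
theorem F8470 : act 0 n7948 = n7064 := d11_3 D2628 D5012 D7948 F6913 F3141 (iv F3805) (iv D2627)
theorem F8471 : act 1 n7948 = n6718 := d16_5 D4408 (iv F7340) (iv F8468) F8466 D7948 (iv D6718) (iv D3887) D3885 (iv F3246) F3245 (iv F3297) F3296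
def n7949 : Q := act 0 n5014
theorem D7949 : act 0 n5014 = n7949 := rfl
theorem F8472 : act 2 n7949 = n7071 := d11_4 (iv D2628) D2630 D5014 D7949 F6933 (iv F7245) (iv D5009)
theorem F8473 : act 3 n6010 = n7949 := d7_0 F8472 (iv D7071) F5261
theorem F8474 : act 1 n7949 = n6011 := d5_1 F8473 (iv D6011) D6010
def n7950 : Q := act 1 n5014
theorem D7950 : act 1 n5014 = n7950 := rfl
theorem F8475 : act 2 n7950 = n6299 := d4_2 D5014 D7950 (iv F8195) (iv D7785) F3853 F2201 (iv F1724)
theorem F8476 : act 3 n7950 = n6274 := d5_2 F8346 D7950 (iv F8345)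
theorem F8477 : act 0 n7950 = n6385 := d16_6 (iv F1194) (iv F1692) F1693 (iv F1724) D5014 D7950 F5850 (iv F5561) F6500 (iv D4969) F1709 F634
theorem F8478 : act 4 n6250 = n7950 := d17_0 (iv D7950) (iv D5014) (iv D2630) D2628 D5010 F3983 (iv F7371) F7372 (iv F6887) F6886 F5847 (iv F5600)
def n7951 : Q := act 4 n5014
theorem D7951 : act 4 n5014 = n7951 := rfl
theorem F8479 : act 1 n7951 = n6250 := d6_1 D7951 F8478 (iv D7950)
theorem F8480 : act 3 n7951 = n6249 := d9_1 D7951 F8357 (iv D7874) D7875 (iv F8359) F8347 F8346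
def n7952 : Q := act 2 n5015
theorem D7952 : act 2 n5015 = n7952 := rfl
theorem F8481 : act 3 n7952 = n6593 := d7_2 F6664 D7952 (iv F6663)
def n7953 : Q := act 4 n5016
theorem D7953 : act 4 n5016 = n7953 := rfl
theorem F8482 : act 1 n7953 = n7122 := d6_1 D7953 F7038 (iv F3990)
theorem F8483 : act 3 n7953 = n7268 := d9_1 D7953 F8072 (iv D7705) D7706 (iv F8074) (iv D7259) (iv F3991)
def n7954 : Q := act 2 n5017
theorem D7954 : act 2 n5017 = n7954 := rfl
theorem F8484 : act 0 n7954 = n5020 := d1_1 D7954 (iv D5020) (iv D2639) (iv D1163) D1162 D2637 D5017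
theorem F8485 : act 3 n7954 = n6276 := d7_2 (iv F3992) D7954 F5638
theorem F8486 : act 1 n7954 = n7531 := d14_2 (iv F3993) D7954 (iv D7531) (iv D4663) (iv D2399) D2398 D4659 (iv F7378) F7379 F3356 D4461
def n7955 : Q := act 4 n5017
theorem D7955 : act 4 n5017 = n7955 := rfl
theorem F8487 : act 0 n7955 = n5018 := d3_1 D7955 (iv D5018) D5017
theorem F8488 : act 1 n7955 = n7066 := d6_1 D7955 F6914 (iv F3993)
theorem F8489 : act 3 n7955 = n7286 := d9_1 D7955 F7342 F3881 D7796 F8226 (iv D7269) (iv F3992)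
def n7956 : Q := act 2 n5018
theorem D7956 : act 2 n5018 = n7956 := rfl
theorem F8490 : act 0 n7956 = n5022 := d10_3 (iv F8489) F8487 D7956 (iv F5711) F5709 F5710 D7286
theorem F8491 : act 1 n7956 = n7450 := d14_2 (iv F6876) D7956 (iv D7450) (iv D4594) F1453 D4541 D7383 F7495 (iv F6854) F6853 D7034
def n7957 : Q := act 0 n5019
theorem D7957 : act 0 n5019 = n7957 := rfl
theorem F8492 : act 1 n7957 = n6518 := d0_2 (iv F6774) D7957 F6032 (iv F5886) (iv F6733) F6734 (iv F6773)
theorem F8493 : act 3 n7957 = n6328 := d2_2 F8220 D7957 F5708 F3407 D5023 (iv F5213) (iv F8219)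
theorem F8494 : act 4 n7957 = n6278 := d3_2 F6775 D7957 (iv F6770)
def n7958 : Q := act 4 n5020
theorem D7958 : act 4 n5020 = n7958 := rfl
theorem F8495 : act 1 n7958 = n6087 := d6_1 D7958 (iv D6087) (iv F4000)
theorem F8496 : act 2 n7958 = n5023 := d11_2 D5020 D7958 (iv D5023) (iv D2641) (iv D1164) D1163 D2639
def n7959 : Q := act 2 n5021
theorem D7959 : act 2 n5021 = n7959 := rfl
theorem F8497 : act 1 n7959 = n6156 := d14_2 F7213 D7959 (iv D6156) F2473 F1423 (iv F1418) D4534 (iv F5346) (iv F6992) (iv F6995) (iv F7212)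
def n7960 : Q := act 2 n5024
theorem D7960 : act 2 n5024 = n7960 := rfl
theorem F8498 : act 0 n7960 = n5860 := d1_1 D7960 F5027 (iv D4998) D4999 (iv F4953) (iv D5815) (iv F4003)
theorem F8499 : act 1 n7960 = n5026 := d14_2 D5024 D7960 (iv F7734) (iv D7533) (iv D4664) F1497 (iv D1162) (iv D472) D473 D1165 D2642
theorem F8500 : act 3 n5024 = n7960 := d5_0 F8499 (iv D5026) D5024
def n7961 : Q := act 4 n5024
theorem D7961 : act 4 n5024 = n7961 := rfl
theorem F8501 : act 0 n7961 = n5817 := d3_1 D7961 (iv D5817) (iv F4003)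
theorem F8502 : act 1 n7961 = n5027 := d6_1 D7961 (iv D5027) D5024
theorem F8503 : act 2 n7961 = n7804 := d11_2 (iv D7960) D7961 F8245 F8455 (iv D7937) (iv F5027) (iv F8498)
theorem F8504 : act 3 n7961 = n7803 := d12_2 (iv F8500) D7961 F8244 F7934 (iv D5861) D5860 (iv F8498)
theorem F8505 : act 0 n5030 = n7655 := d13_5 F5358 (iv F8501) F8502 F4004 D5030 F7969 (iv F7863) F7864 F3715 (iv F3756) (iv F5359)
def n7962 : Q := act 0 n5025
theorem D7962 : act 0 n5025 = n7962 := rfl
def n7963 : Q := act 1 n5025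
theorem D7963 : act 1 n5025 = n7963 := rfl
def n7964 : Q := act 3 n5025
theorem D7964 : act 3 n5025 = n7964 := rfl
theorem F8506 : act 2 n7964 = n5026 := d7_1 D7964 (iv D5026) D5025
def n7965 : Q := act 4 n5025
theorem D7965 : act 4 n5025 = n7965 := rfl
def n7966 : Q := act 2 n5027
theorem D7966 : act 2 n5027 = n7966 := rfl
def n7967 : Q := act 4 n5028
theorem D7967 : act 4 n5028 = n7967 := rfl
theorem F8507 : act 0 n7967 = n5029 := d3_1 D7967 (iv D5029) D5028
theorem F8508 : act 1 n7967 = n7898 := d6_1 D7967 F8401 F7746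
theorem F8509 : act 3 n7967 = n7893 := d9_1 D7967 (iv D7893) F7627 D7852 (iv F8444) (iv D7931) (iv F7747)
theorem F8510 : act 2 n7967 = n7638 := d16_4 F7105 (iv F3934) D7898 (iv F8508) (iv D7638) (iv F7830) (iv D7573) F3702 (iv F2280) (iv D3155) (iv F1721) F1720
def n7968 : Q := act 2 n5029
theorem D7968 : act 2 n5029 = n7968 := rfl
theorem F8511 : act 1 n7968 = n6731 := d16_5 D2182 D4411 (iv F7091) (iv F7093) D7968 (iv D6731) (iv D3897) F1119 F870 (iv D1453) F294 (iv F487)
def n7969 : Q := act 1 n5031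
theorem D7969 : act 1 n5031 = n7969 := rfl
theorem F8512 : act 0 n7969 = n5146 := d0_1 D7969 F4134 F1800 F661 (iv F2191) D2646 D5031
theorem F8513 : act 4 n7969 = n5144 := d6_2 (iv F4005) D7969 F4132
def n7970 : Q := act 2 n5031
theorem D7970 : act 2 n5031 = n7970 := rfl
def n7971 : Q := act 0 n5032
theorem D7971 : act 0 n5032 = n7971 := rfl
theorem F8514 : act 4 n7971 = n7621 := d3_2 F5654 D7971 F7912
theorem F8515 : act 3 n7971 = n7637 := d12_4 (iv F2638) (iv F5717) F5716 D7971 (iv D7637) F3891 F3889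
theorem F8516 : act 1 n7629 = n7971 := d5_3 F8515 F7929 (iv F7923)
def n7972 : Q := act 2 n5033
theorem D7972 : act 2 n5033 = n7972 := rfl
theorem F8517 : act 4 n7972 = n5790 := d11_1 D7972 F4920 (iv D5790) (iv F3240) (iv F4007) (iv D5034) (iv F4006)
theorem F8518 : act 0 n7972 = n5791 := d11_3 F1737 D5033 D7972 F4922 (iv D3223) F838 D2655
def n7973 : Q := act 0 n5034
theorem D7973 : act 0 n5034 = n7973 := rfl
theorem F8519 : act 2 n7973 = n5927 := d1_2 D5034 D7973 F5126 (iv F4922) (iv F8518) (iv D7972) F4006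
theorem F8520 : act 4 n7973 = n7185 := d3_2 (iv F4007) D7973 (iv D7185)
def n7974 : Q := act 3 n5034
theorem D7974 : act 3 n5034 = n7974 := rfl
theorem F8521 : act 1 n7974 = n7170 := d5_1 D7974 F7166 F4008
theorem F8522 : act 2 n7974 = n5035 := d7_1 D7974 (iv D5035) D5034
theorem F8523 : act 0 n7974 = n7566 := d10_1 D7974 F7808 (iv F5130) (iv D5928) (iv F5126) (iv F8519) (iv D7973)
theorem F8524 : act 4 n7168 = n7974 := d3_0 F8523 (iv F7809) (iv F7160)
theorem E879 : n7906 = n5377 := (c13_6 (iv F8522) F8523 F7807 F3938 D4962 D7906 (iv D5377) (iv D2855) F718 (iv F696) (iv F1827) (iv F4010))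
theorem F8525 : act 0 n5377 = n4962 := (sb E879 (iv D7906))
def n7975 : Q := act 4 n5035
theorem D7975 : act 4 n5035 = n7975 := rfl
theorem F8526 : act 0 n7975 = n5206 := d3_1 D7975 (iv D5206) (iv F4010)
theorem F8527 : act 1 n7975 = n5055 := d6_1 D7975 (iv D5055) (iv F4009)
theorem F8528 : act 3 n7975 = n5038 := d9_1 D7975 (iv D5038) (iv D2658) (iv D1172) D1171 D2656 D5035
def n7976 : Q := act 0 n5036
theorem D7976 : act 0 n5036 = n7976 := rfl
theorem F8529 : act 2 n7976 = n5929 := d10_2 D5036 D7976 (iv D5929) (iv D3224) F839 D2440 (iv F1740)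
def n7977 : Q := act 4 n5036
theorem D7977 : act 4 n5036 = n7977 := rfl
theorem F8530 : act 1 n7977 = n7169 := d6_1 D7977 F7163 (iv F4011)
theorem F8531 : act 3 n7977 = n7168 := d9_1 D7977 F8524 (iv D7974) F4007 (iv D4300) (iv F1739) D5036
def n7978 : Q := act 2 n5037
theorem D7978 : act 2 n5037 = n7978 := rfl
theorem F8532 : act 0 n7978 = n5207 := d1_1 D7978 F4198 D5929 (iv F8529) (iv D7976) F4012 D5037
def n7979 : Q := act 4 n5037
theorem D7979 : act 4 n5037 = n7979 := rfl
theorem F8533 : act 0 n7979 = n5038 := d3_1 D7979 (iv D5038) D5037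
theorem F8534 : act 2 n7979 = n7979 := d11_2 (iv D7978) D7979 F8533 F6644 (iv D5930) (iv F4198) (iv F8532)
def n7980 : Q := act 2 n5039
theorem D7980 : act 2 n5039 = n7980 := rfl
theorem F8535 : act 0 n7980 = n5068 := d11_3 F2354 D5039 D7980 (iv D5068) (iv D2673) (iv F849) D3261
def n7981 : Q := act 3 n5039
theorem D7981 : act 3 n5039 = n7981 := rfl
theorem F8536 : act 0 n7981 = n5107 := d2_1 D7981 (iv D5107) F1790 D4530 (iv F4016) (iv D5041) (iv F4014)
theorem F8537 : act 1 n7981 = n5604 := d5_1 D7981 (iv D5604) (iv F4015)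
theorem F8538 : act 4 n5898 = n7981 := d6_0 F8537 (iv F4616) D5898
def n7982 : Q := act 0 n5040
theorem D7982 : act 0 n5040 = n7982 := rfl
theorem F8539 : act 2 n7982 = n5048 := d1_2 D5040 D7982 F4024 D5068 (iv F8535) (iv D7980) F4014
def n7983 : Q := act 1 n5040
theorem D7983 : act 1 n5040 = n7983 := rfl
theorem F8540 : act 2 n7983 = n7201 := d4_2 D5040 D7983 (iv D7201) (iv D4309) (iv F3236) (iv F4925) F2311
def n7984 : Q := act 3 n5040
theorem D7984 : act 3 n5040 = n7984 := rfl
theorem F8541 : act 2 n7984 = n5041 := d7_1 D7984 (iv D5041) D5040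
theorem F8542 : act 0 n7984 = n5091 := d10_1 D7984 F4079 (iv F4046) (iv D5069) (iv F4024) (iv F8539) (iv D7982)
def n7985 : Q := act 4 n5040
theorem D7985 : act 4 n5040 = n7985 := rfl
theorem F8543 : act 2 n7985 = n5054 := d8_1 D7985 (iv D5054) (iv D2665) (iv D1176) (iv F648) D2660 D5040
theorem F8544 : act 3 n7985 = n5044 := d12_2 (iv D7984) D7985 F4019 (iv F6328) (iv D5092) D5091 (iv F8542)
theorem E880 : n5064 = n5054 := (c7_3 F8544 F4020 D5064 (iv F8543))
theorem F8545 : act 3 n5054 = n2670 := (sb E880 (iv D5064))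
def n7986 : Q := act 4 n5041
theorem D7986 : act 4 n5041 = n7986 := rfl
theorem F8546 : act 0 n7986 = n7378 := d3_1 D7986 (iv D7378) (iv F4016)
theorem F8547 : act 3 n7986 = n5046 := d9_1 D7986 (iv D5046) (iv D2662) (iv D1174) D1173 D2660 D5041
theorem F8548 : act 2 n7986 = n5055 := d11_2 F8541 D7986 F4029 (iv F4138) (iv D5093) (iv F4079) (iv F8542)
def n7987 : Q := act 3 n5042
theorem D7987 : act 3 n5042 = n7987 := rfl
theorem F8549 : act 1 n7987 = n5043 := d5_1 D7987 (iv D5043) D5042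
theorem F8550 : act 2 n7987 = n7205 := d7_1 D7987 (iv D7205) (iv F4017)
def n7988 : Q := act 0 n5043
theorem D7988 : act 0 n5043 = n7988 := rfl
theorem F8551 : act 2 n7988 = n5072 := d10_2 D5043 D7988 (iv D5072) (iv D2675) F651 D1186 (iv F1745)
theorem F8552 : act 3 n6856 = n7988 := d7_0 F8551 F4052 D6856
def n7989 : Q := act 4 n5043
theorem D7989 : act 4 n5043 = n7989 := rfl
theorem F8553 : act 2 n7989 = n5063 := d8_1 D7989 (iv D5063) F1752 D2672 (iv F7130) (iv D5046) (iv F4018)
def n7990 : Q := act 2 n5045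
theorem D7990 : act 2 n5045 = n7990 := rfl
theorem F8554 : act 0 n7990 = n5070 := d1_1 D7990 F4048 D5072 (iv F8551) (iv D7988) F4018 D5045
theorem F8555 : act 3 n7990 = n5600 := d7_2 (iv F4021) D7990 (iv D5600)
def n7991 : Q := act 4 n5045
theorem D7991 : act 4 n5045 = n7991 := rfl
theorem F8556 : act 0 n7991 = n5046 := d3_1 D7991 (iv D5046) D5045
theorem F8557 : act 1 n7991 = n5606 := d6_1 D7991 (iv D5606) F4022
theorem F8558 : act 3 n7991 = n5898 := d9_1 D7991 F8538 (iv D7981) (iv D5039) F1744 D2997 (iv F4021)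
def n7992 : Q := act 0 n5047
theorem D7992 : act 0 n5047 = n7992 := rfl
theorem F8559 : act 1 n7992 = n7992 := d0_2 D5047 D7992 (iv D7992) (iv D5047) F1747 F650 (iv F1747)
theorem F8560 : act 3 n7992 = n6955 := d2_2 (iv F4023) D7992 F6783 F6660 (iv D6364) (iv D3582) D3581
theorem F8561 : act 2 n7992 = n6359 := d10_2 (iv F4023) D7992 (iv D6359) (iv D3579) (iv D1703) D1704 D3581
def n7993 : Q := act 4 n5047
theorem D7993 : act 4 n5047 = n7993 := rfl
theorem F8562 : act 1 n7993 = n5048 := d6_1 D7993 (iv D5048) D5047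
def n7994 : Q := act 3 n5048
theorem D7994 : act 3 n5048 = n7994 := rfl
theorem F8563 : act 0 n7994 = n5088 := d2_1 D7994 (iv D5088) F1775 D2687 (iv F4046) (iv D5069) (iv F4024)
def n7995 : Q := act 1 n5049
theorem D7995 : act 1 n5049 = n7995 := rfl
def n7996 : Q := act 3 n5049
theorem D7996 : act 3 n5049 = n7996 := rfl
theorem F8564 : act 0 n7996 = n5115 := d2_1 D7996 (iv D5115) (iv D2701) D2703 D5121 F5221 F5220
theorem F8565 : act 2 n7996 = n5050 := d7_1 D7996 (iv D5050) D5049
theorem F8566 : act 1 n5882 = n5115 := d13_10 F8565 F4025 (iv F4094) F4095 (iv F2295) (iv F5028) F5029 F2298 D3185 D5882 (iv F8564)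
theorem F8567 : act 3 n5114 = n5882 := d5_0 F8566 (iv D5115) D5114
def n7997 : Q := act 4 n5049
theorem D7997 : act 4 n5049 = n7997 := rfl
theorem F8568 : act 0 n7997 = n5128 := d3_1 D7997 (iv F6332) F5220
theorem F8569 : act 3 n6858 = n7997 := d12_2 F4040 D6858 F8568 (iv D5128) (iv D2708) D2707 (iv F4041)
def n7998 : Q := act 1 n5051
theorem D7998 : act 1 n5051 = n7998 := rfl
def n7999 : Q := act 3 n5051
theorem D7999 : act 3 n5051 = n7999 := rfl
theorem F8570 : act 0 n7999 = n5111 := d10_1 D7999 F4102 (iv F4025) (iv D5050) F1748 D2665 D5051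
def n8000 : Q := act 4 n5051
theorem D8000 : act 4 n5051 = n8000 := rfl
theorem F8571 : act 0 n8000 = n5054 := d3_1 D8000 (iv D5054) D5051
def n8001 : Q := act 0 n5052
theorem D8001 : act 0 n5052 = n8001 := rfl
def n8002 : Q := act 2 n5052
theorem D8002 : act 2 n5052 = n8002 := rfl
theorem F8572 : act 1 n8002 = n7189 := d4_1 D8002 (iv D7189) F4008 (iv D5034) F1738 D2665 D5052
def n8003 : Q := act 3 n5052
theorem D8003 : act 3 n5052 = n8003 := rfl
theorem F8573 : act 1 n8003 = n5053 := d5_1 D8003 (iv D5053) D5052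
def n8004 : Q := act 4 n5052
theorem D8004 : act 4 n5052 = n8004 := rfl
theorem F8574 : act 1 n8004 = n5054 := d6_1 D8004 (iv D5054) D5052
theorem F8575 : act 3 n5061 = n8004 := d5_0 F8574 F8545 (iv F4038)
theorem F8576 : act 2 n8004 = n6261 := d7_1 F8575 (iv D6261) (iv F4039)
def n8005 : Q := act 0 n5053
theorem D8005 : act 0 n5053 = n8005 := rfl
theorem F8577 : act 2 n8005 = n7373 := d1_2 (iv F4028) D8005 F7485 F5223 (iv D5121) F1793 (iv F1750)
theorem F8578 : act 3 n8005 = n5109 := d2_2 D5053 D8005 (iv D5109) D5111 (iv F8570) (iv D7999) (iv D5051)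
def n8006 : Q := act 4 n5053
theorem D8006 : act 4 n5053 = n8006 := rfl
theorem F8579 : act 3 n8006 = n5063 := d9_1 D8006 (iv D5063) (iv D2669) D2670 (iv F8545) (iv D5054) D5053
def n8007 : Q := act 4 n5056
theorem D8007 : act 4 n5056 = n8007 := rfl
theorem F8580 : act 0 n8007 = n5148 := d3_1 D8007 (iv D5148) (iv F4032)
theorem F8581 : act 2 n8007 = n7380 := d8_1 D8007 (iv D7380) F3489 D4535 (iv F7486) (iv D7374) (iv F4031)
def n8008 : Q := act 3 n5057
theorem D8008 : act 3 n5057 = n8008 := rfl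
theorem F8582 : act 2 n8008 = n7381 := d7_1 D8008 (iv D7381) (iv F4034)
theorem F8583 : act 4 n8008 = n5109 := d12_1 D8008 (iv F8578) (iv D8005) (iv D5053) D5054 F8545 (iv F4033)
theorem F8584 : act 0 n5112 = n8008 := d3_3 F8583 (iv D5109) D5112
theorem E881 : n7381 = n7377 := ((c8_7 F8583 F4101 (iv D4527) F1415 D2303 D4529 D7377 (iv F8582))).symm
theorem F8585 : act 2 n7377 = n8008 := (sb E881 (iv F8582))
theorem F8586 : act 3 n7377 = n4533 := (sb E881 (iv D7381))
def n8009 : Q := act 3 n5058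
theorem D8009 : act 3 n5058 = n8009 := rfl
theorem F8587 : act 2 n8009 = n6259 := d7_1 D8009 (iv F5612) (iv F4035)
def n8010 : Q := act 3 n5059
theorem D8010 : act 3 n5059 = n8010 := rfl
theorem F8588 : act 1 n8010 = n7190 := d5_1 D8010 (iv D7190) (iv F4036)
theorem F8589 : act 2 n8010 = n5060 := d7_1 D8010 (iv D5060) D5059
def n8011 : Q := act 0 n5060
theorem D8011 : act 0 n5060 = n8011 := rfl
def n8012 : Q := act 4 n5060
theorem D8012 : act 4 n5060 = n8012 := rfl
theorem F8590 : act 1 n8012 = n5063 := d6_1 D8012 (iv D5063) (iv F4037)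
def n8013 : Q := act 1 n5062
theorem D8013 : act 1 n5062 = n8013 := rfl
def n8014 : Q := act 3 n5062
theorem D8014 : act 3 n5062 = n8014 := rfl
theorem F8591 : act 0 n8014 = n5108 := d2_1 D8014 F4100 (iv F4032) (iv D5056) (iv D2667) D2669 D5062
theorem F8592 : act 2 n8014 = n5599 := d7_1 D8014 (iv F5225) F5224
def n8015 : Q := act 4 n5062
theorem D8015 : act 4 n5062 = n8015 := rfl
theorem F8593 : act 0 n8015 = n5063 := d3_1 D8015 (iv D5063) D5062
def n8016 : Q := act 1 n5065
theorem D8016 : act 1 n5065 = n8016 := rfl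
theorem F8594 : act 3 n8016 = n6857 := d5_2 (iv F4040) D8016 (iv D6857)
def n8017 : Q := act 4 n5065
theorem D8017 : act 4 n5065 = n8017 := rfl
theorem F8595 : act 0 n8017 = n5127 := d3_1 D8017 (iv D5127) (iv F4041)
def n8018 : Q := act 2 n5066
theorem D8018 : act 2 n5066 = n8018 := rfl
theorem F8596 : act 3 n8018 = n7346 := d7_2 (iv F4044) D8018 (iv D7346)
theorem F8597 : act 4 n8018 = n5072 := d11_1 D8018 (iv F8551) (iv D7988) F4018 D5046 F7130 (iv F4042)
theorem F8598 : act 0 n5073 = n8018 := d3_3 F8597 (iv D5072) D5073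
theorem F8599 : act 4 n7994 = n7346 := d9_6 F8597 F4052 (iv D4015) (iv F1746) D5048 D7994 (iv F8596)
theorem F8600 : act 2 n5992 = n5073 := d11_2 (iv F2358) D5992 F8598 (iv D8018) (iv D5066) D5065 F4041
def n8019 : Q := act 1 n5068
theorem D8019 : act 1 n5068 = n8019 := rfl
theorem F8601 : act 0 n8019 = n7198 := d13_3 D7980 F8535 D8019 (iv D7198) F3244 (iv F3236) (iv F7186) F7188 F5114 F2311 (iv F4014)
theorem F8602 : act 3 n7179 = n8019 := d10_0 F8601 (iv D7198) F3244 (iv F3219) F3218 D4275 D7179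
theorem F8603 : act 2 n7215 = n8019 := d11_2 (iv F3253) D7215 F8601 (iv D7198) (iv D4308) D4306 F3242
theorem F8604 : act 4 n8019 = n7246 := d12_1 F8602 (iv D7246) F3274 (iv F5113) (iv D4344) (iv F3221) D7179
def n8020 : Q := act 3 n5068
theorem D8020 : act 3 n5068 = n8020 := rfl
theorem F8605 : act 1 n8020 = n7179 := d5_1 D8020 F8602 (iv D8019)
theorem F8606 : act 2 n8020 = n5069 := d7_1 D8020 (iv D5069) D5068
theorem F8607 : act 0 n8020 = n7376 := d10_1 D8020 F7487 (iv F4016) (iv D5041) (iv F4014) D7980 F8535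
theorem F8608 : act 1 n7243 = n7435 := d16_3 F3221 D4342 D7243 F7573 F4070 F1775 D2687 (iv F4046) F4045 (iv F8606) F8605 (iv D7179)
theorem F8609 : act 3 n7435 = n7242 := d5_2 D7243 F8608 (iv D7242)
def n8021 : Q := act 4 n5068
theorem D8021 : act 4 n5068 = n8021 := rfl
theorem F8610 : act 1 n8021 = n7246 := d6_1 D8021 (iv F8604) (iv D8019)
theorem F8611 : act 2 n8021 = n5128 := d8_1 D8021 (iv F6332) (iv D5989) (iv D3262) F849 D2673 D5068
theorem F8612 : act 3 n8021 = n5071 := d12_2 (iv D8020) D8021 F4049 (iv F8586) (iv D7377) D7376 (iv F8607)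
def n8022 : Q := act 4 n5069
theorem D8022 : act 4 n5069 = n8022 := rfl
theorem F8613 : act 0 n8022 = n5093 := d3_1 D8022 (iv D5093) (iv F4046)
theorem F8614 : act 1 n8022 = n8022 := d6_1 D8022 (iv D8022) F4045
theorem F8615 : act 3 n8022 = n5073 := d9_1 D8022 (iv D5073) (iv D2675) (iv D1180) D1179 D2673 D5069
def n8023 : Q := act 4 n5070
theorem D8023 : act 4 n5070 = n8023 := rfl
theorem F8616 : act 1 n8023 = n7245 := d6_1 D8023 (iv D7245) (iv F4047)
theorem F8617 : act 2 n8023 = n5127 := d8_1 D8023 (iv D5127) (iv F2358) D5992 F8600 (iv D5073) (iv F4048)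
def n8024 : Q := act 1 n5072
theorem D8024 : act 1 n5072 = n8024 := rfl
theorem F8618 : act 3 n8024 = n6363 := d5_2 (iv F4052) D8024 F5816
def n8025 : Q := act 2 n5074
theorem D8025 : act 2 n5074 = n8025 := rfl
theorem F8619 : act 0 n8025 = n7399 := d1_1 D8025 (iv D7399) F3512 D4552 D7401 F7524 (iv F4054)
theorem F8620 : act 1 n5829 = n8025 := d17_1 D5829 (iv D8025) (iv D5074) F1760 F655 D1184 D2682 (iv F2372) D6005 (iv F5251) F4977 (iv D5828)
theorem F8621 : act 1 n5153 = n6729 := d4_5 F6395 F8620 (iv D8025) F4055 D5153 (iv D6729) (iv F6394)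
theorem F8622 : act 4 n8025 = n5827 := d6_2 D5829 F8620 F4975
def n8026 : Q := act 3 n5074
theorem D8026 : act 3 n5074 = n8026 := rfl
theorem F8623 : act 1 n8026 = n5154 := d5_1 D8026 (iv D5154) (iv F4055)
theorem F8624 : act 0 n8026 = n7387 := d12_3 D2676 D5074 D8026 (iv D7387) (iv D4543) (iv D2313) (iv F653)
def n8027 : Q := act 0 n5075
theorem D8027 : act 0 n5075 = n8027 := rfl
theorem F8625 : act 2 n8027 = n7408 := d1_2 F5775 D8027 (iv D7408) F3516 D4557 D7410 F7539
theorem F8626 : act 3 n8027 = n5607 := d2_2 D5075 D8027 F4624 (iv F7509) (iv D7390) (iv D4545) (iv F1762)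
theorem F8627 : act 1 n8027 = n6426 := d16_9 F7037 (iv D4381) (iv D2162) (iv F1322) F1323 (iv F1426) (iv F1762) D5075 D8027 (iv F7029) F7028 D7122
theorem F8628 : act 4 n7426 = n8027 := d11_1 D7426 F8625 (iv D7408) F3516 D4558 F6314 (iv F3529)
def n8028 : Q := act 4 n5075
theorem D8028 : act 4 n5075 = n8028 := rfl
theorem F8629 : act 0 n8028 = n7426 := d3_1 D8028 F8628 (iv D8027)
theorem F8630 : act 1 n8028 = n5158 := d6_1 D8028 (iv D5158) (iv F4056)
theorem E882 : n5177 = n5158 := ((c17_2 D8028 F8630 (iv D5177) (iv D2734) (iv F1808) (iv F4161) F4163 (iv F7387) F7388 (iv F7030) F7029 (iv F8627) (iv D8027))).symm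
theorem F8631 : act 2 n5158 = n2734 := (sb E882 (iv D5177))
theorem F8632 : act 2 n5082 = n8028 := d4_6 F8631 F1810 F2188 (iv F661) F4137 (iv F4067) F8630
def n8029 : Q := act 3 n5076
theorem D8029 : act 3 n5076 = n8029 := rfl
theorem F8633 : act 1 n8029 = n7315 := d5_1 D8029 F7407 F5818
theorem F8634 : act 2 n8029 = n7417 := d7_1 D8029 (iv D7417) (iv F4058)
theorem E883 : n7417 = n7363 := (c4_1 F8634 (iv D7363) (iv F7374) F7373 F3349 D4449 D7315 (iv F8633))
theorem F8635 : act 2 n7363 = n8029 := (sb E883 (iv F8634))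
theorem F8636 : act 3 n7363 = n4562 := (sb E883 (iv D7417))
theorem E884 : n7416 = n7364 := (c5_2 F8636 D7416 (iv D7364) D7363)
theorem F8637 : act 1 n7364 = n4562 := (sb E884 (iv D7416))
def n8030 : Q := act 1 n5077
theorem D8030 : act 1 n5077 = n8030 := rfl
def n8031 : Q := act 3 n5077
theorem D8031 : act 3 n5077 = n8031 := rfl
theorem F8638 : act 2 n8031 = n5078 := d7_1 D8031 (iv D5078) D5077
theorem F8639 : act 0 n8031 = n7393 := d10_1 D8031 F7514 F3508 (iv D2325) (iv F1433) D4560 (iv F4059)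
def n8032 : Q := act 4 n5077
theorem D8032 : act 4 n5077 = n8032 := rfl
theorem F8640 : act 0 n8032 = n7415 := d3_1 D8032 (iv D7415) (iv F4059)
theorem F8641 : act 2 n8032 = n5827 := d8_1 D8032 (iv F8622) (iv D8025) (iv D5074) F1760 D2679 D5077
theorem F8642 : act 3 n8032 = n5080 := d12_2 (iv D8031) D8032 F4063 (iv F8085) (iv D7394) D7393 (iv F8639)
theorem F8643 : act 1 n5187 = n8032 := d5_3 F8642 F4064 (iv F4176)
theorem F8644 : act 4 n8030 = n5187 := d6_0 F8643 (iv D8032) D8030
def n8033 : Q := act 4 n5078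
theorem D8033 : act 4 n5078 = n8033 := rfl
theorem F8645 : act 1 n8033 = n5093 := d6_1 D8033 (iv D5093) (iv F4060)
theorem F8646 : act 3 n8033 = n5082 := d9_1 D8033 (iv D5082) (iv D2681) (iv D1183) D1182 D2679 D5078
def n8034 : Q := act 4 n5079
theorem D8034 : act 4 n5079 = n8034 := rfl
theorem F8647 : act 0 n8034 = n7425 := d3_1 D8034 (iv D7425) (iv F4062)
theorem F8648 : act 2 n8034 = n5825 := d8_1 D8034 (iv F6402) F5775 D8028 (iv F8632) (iv D5082) (iv F4061)
theorem F8649 : act 1 n5195 = n8034 := d4_7 F8648 (iv D5825) (iv D3132) F795 (iv F2200) (iv F1821) D5195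
theorem F8650 : act 4 n6173 = n5195 := d6_0 F8649 (iv D8034) (iv F5494)
def n8035 : Q := act 4 n5081
theorem D8035 : act 4 n5081 = n8035 := rfl
theorem F8651 : act 0 n8035 = n5082 := d3_1 D8035 (iv D5082) D5081
theorem F8652 : act 2 n8035 = n7411 := d11_2 (iv F4066) D8035 F7540 F6314 (iv D2330) (iv F1435) D4568
def n8036 : Q := act 4 n5083
theorem D8036 : act 4 n5083 = n8036 := rfl
theorem F8653 : act 0 n8036 = n5084 := d3_1 D8036 (iv D5084) D5083
def n8037 : Q := act 3 n5084
theorem D8037 : act 3 n5084 = n8037 := rfl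
theorem F8654 : act 1 n8037 = n5088 := d5_1 D8037 (iv D5088) (iv F4070)
theorem F8655 : act 2 n8037 = n7242 := d7_1 D8037 (iv F8609) F7573
theorem F8656 : act 0 n8037 = n5460 := d12_3 (iv F1774) D5084 D8037 (iv D5460) (iv D2900) (iv D1292) D1290
theorem F8657 : act 4 n5567 = n8037 := d3_0 F8656 F6444 D5567
theorem F8658 : act 2 n7333 = n5088 := d4_6 F8655 (iv D7242) (iv F7248) (iv F7418) F7419 D7333 (iv F8654)
theorem F8659 : act 3 n5087 = n7333 := d7_0 F8658 (iv D5088) D5087
theorem F8660 : act 1 n7334 = n5087 := d5_3 F8659 (iv D7333) D7334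
def n8038 : Q := act 3 n5085
theorem D8038 : act 3 n5085 = n8038 := rfl
theorem F8661 : act 1 n8038 = n6521 := d5_1 D8038 (iv D6521) (iv F4072)
theorem F8662 : act 2 n8038 = n5115 := d7_1 D8038 (iv D5115) (iv F4073)
theorem F8663 : act 4 n6791 = n8038 := d6_0 F8661 (iv F6069) D6791
def n8039 : Q := act 4 n5087
theorem D8039 : act 4 n5087 = n8039 := rfl
theorem F8664 : act 0 n8039 = n7377 := d3_1 D8039 (iv D7377) (iv F4077)
theorem F8665 : act 2 n8039 = n5116 := d8_1 D8039 (iv D5116) (iv F4073) (iv D5085) (iv D2683) D2685 D5087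
def n8040 : Q := act 4 n5088
theorem D8040 : act 4 n5088 = n8040 := rfl
theorem F8666 : act 0 n8040 = n7346 := d3_1 D8040 (iv F8599) F8563
theorem F8667 : act 1 n8040 = n5567 := d6_1 D8040 F8657 F8654
theorem F8668 : act 3 n8040 = n5099 := d9_1 D8040 (iv D5099) (iv F4076) (iv D5086) (iv D2684) D2685 D5088
theorem F8669 : act 2 n8040 = n6791 := d17_4 (iv D7335) D7333 F8658 D8040 (iv D6791) (iv D3949) D3950 D6793 (iv F6514) (iv F7433) F7432 (iv F7427)
def n8041 : Q := act 1 n5089
theorem D8041 : act 1 n5089 = n8041 := rfl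
def n8042 : Q := act 3 n5089
theorem D8042 : act 3 n5089 = n8042 := rfl
theorem F8670 : act 2 n8042 = n5107 := d7_1 D8042 (iv D5107) (iv F4078)
def n8043 : Q := act 4 n5089
theorem D8043 : act 4 n5089 = n8043 := rfl
theorem F8671 : act 0 n8043 = n5092 := d3_1 D8043 (iv D5092) D5089
theorem F8672 : act 2 n8043 = n5112 := d8_1 D8043 (iv D5112) (iv D2699) (iv D1191) D1189 D2697 (iv F4078)
def n8044 : Q := act 4 n5091
theorem D8044 : act 4 n5091 = n8044 := rfl
theorem F8673 : act 2 n8044 = n5122 := d8_1 D8044 (iv D5122) F1793 D2705 (iv F4138) (iv D5093) (iv F4079)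
theorem F8674 : act 3 n8044 = n5095 := d9_1 D8044 (iv D5095) (iv D2688) D2689 (iv F6328) (iv D5092) D5091
def n8045 : Q := act 1 n5094
theorem D8045 : act 1 n5094 = n8045 := rfl
def n8046 : Q := act 3 n5094
theorem D8046 : act 3 n5094 = n8046 := rfl
theorem F8675 : act 0 n8046 = n6856 := d2_1 D8046 F8552 (iv D7988) (iv D5043) F1745 D2688 D5094
theorem F8676 : act 2 n8046 = n5106 := d7_1 D8046 F4099 (iv F4082)
def n8047 : Q := act 4 n5094
theorem D8047 : act 4 n5094 = n8047 := rfl
theorem F8677 : act 0 n8047 = n5095 := d3_1 D8047 (iv D5095) D5094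
theorem F8678 : act 2 n8047 = n5148 := d8_1 D8047 (iv D5148) (iv D2717) D2718 D5149 (iv F4136) (iv F4082)
def n8048 : Q := act 0 n5097
theorem D8048 : act 0 n5097 = n8048 := rfl
theorem F8679 : act 3 n8048 = n6871 := d12_4 F1774 D2894 (iv F4084) D8048 (iv D6871) F4069 (iv D5083)
def n8049 : Q := act 4 n5097
theorem D8049 : act 4 n5097 = n8049 := rfl
theorem F8680 : act 1 n8049 = n5099 := d6_1 D8049 (iv D5099) D5097
theorem F8681 : act 3 n8049 = n5567 := d9_1 D8049 F8657 (iv D8037) (iv D5084) F1774 D2894 (iv F4084)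
def n8050 : Q := act 4 n5098
theorem D8050 : act 4 n5098 = n8050 := rfl
theorem F8682 : act 0 n8050 = n7380 := d3_1 D8050 (iv D7380) (iv F4085)
theorem F8683 : act 2 n8050 = n5139 := d11_2 D5098 D8050 F4131 (iv F4139) (iv D5095) F1776 D2690
def n8051 : Q := act 2 n5099
theorem D8051 : act 2 n5099 = n8051 := rfl
theorem F8684 : act 0 n8051 = n7374 := d1_1 D8051 F7486 (iv F4135) (iv D5149) F1800 F4137 (iv F4086)
theorem F8685 : act 3 n8051 = n6791 := d7_2 F8668 D8051 (iv F8669)
theorem F8686 : act 4 n8051 = n5137 := d8_2 D5099 D8051 (iv D5137) D5139 (iv F8683) (iv D8050) (iv D5098)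
theorem F8687 : act 1 n6525 = n8051 := d6_3 F8686 F4128 D6525
def n8052 : Q := act 4 n5104
theorem D8052 : act 4 n5104 = n8052 := rfl
theorem F8688 : act 0 n8052 = n5341 := d3_1 D8052 (iv D5341) (iv F4095)
theorem F8689 : act 1 n8052 = n5113 := d6_1 D8052 (iv D5113) (iv F4094)
theorem F8690 : act 2 n8052 = n6072 := d8_1 D8052 F5400 (iv F4412) F4960 F4958 D7234 F7270
theorem F8691 : act 3 n8052 = n5146 := d9_1 D8052 (iv D5146) F4092 (iv D5102) (iv D2693) D2694 D5104
def n8053 : Q := act 4 n5107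
theorem D8053 : act 4 n5107 = n8053 := rfl
theorem F8692 : act 0 n8053 = n5898 := d3_1 D8053 F8538 F8536
theorem F8693 : act 1 n8053 = n6068 := d6_1 D8053 (iv F7265) (iv F7267)
theorem F8694 : act 3 n8053 = n5149 := d9_1 D8053 (iv F4136) (iv F4099) (iv D5106) (iv D2696) D2697 D5107
theorem F8695 : act 2 n5113 = n8053 := d7_3 F8694 (iv D5149) (iv F4104)
def n8054 : Q := act 1 n5108
theorem D8054 : act 1 n5108 = n8054 := rfl
theorem F8696 : act 3 n8054 = n5147 := d5_2 (iv F4100) D8054 (iv D5147)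
def n8055 : Q := act 4 n5108
theorem D8055 : act 4 n5108 = n8055 := rfl
theorem F8697 : act 3 n8055 = n5112 := d12_2 (iv F4100) D8055 F8584 (iv D8008) (iv D5057) D5056 F4032
def n8056 : Q := act 0 n5110
theorem D8056 : act 0 n5110 = n8056 := rfl
def n8057 : Q := act 2 n5110
theorem D8057 : act 2 n5110 = n8057 := rfl
def n8058 : Q := act 3 n5110
theorem D8058 : act 3 n5110 = n8058 := rfl
theorem F8698 : act 1 n8058 = n5111 := d5_1 D8058 (iv D5111) D5110
def n8059 : Q := act 4 n5110
theorem D8059 : act 4 n5110 = n8059 := rfl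
theorem F8699 : act 1 n8059 = n5112 := d6_1 D8059 (iv D5112) D5110
def n8060 : Q := act 4 n5111
theorem D8060 : act 4 n5111 = n8060 := rfl
theorem F8700 : act 3 n8060 = n5148 := d9_1 D8060 (iv D5148) (iv F4100) D8055 F8697 (iv D5112) D5111
def n8061 : Q := act 0 n5114
theorem D8061 : act 0 n5114 = n8061 := rfl
def n8062 : Q := act 2 n5114
theorem D8062 : act 2 n5114 = n8062 := rfl
theorem F8701 : act 1 n8062 = n7226 := d4_1 D8062 F8040 (iv D7691) F3792 (iv F4072) F4073 D5114
theorem F8702 : act 3 n8062 = n7221 := d7_2 (iv F8567) D8062 F7242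
theorem F8703 : act 4 n8062 = n7498 := d17_9 F6369 (iv F4944) (iv F5480) F7793 (iv D5118) (iv D2702) D2701 D5114 D8062 (iv F8237) F8291 (iv D7840)
theorem F8704 : act 0 n7501 = n8062 := d15_7 F6122 (iv D4776) D4777 F3762 D4845 D7733 F8126 (iv D8062) (iv D5114) (iv D2701) D2702 D5117
def n8063 : Q := act 4 n5114
theorem D8063 : act 4 n5114 = n8063 := rfl
theorem F8705 : act 1 n8063 = n5116 := d6_1 D8063 (iv D5116) D5114
def n8064 : Q := act 4 n5115
theorem D8064 : act 4 n5115 = n8064 := rfl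
theorem F8706 : act 3 n8064 = n5139 := d12_2 D5115 D8064 F4131 (iv F6331) (iv D5122) (iv D2703) D2701
def n8065 : Q := act 3 n5116
theorem D8065 : act 3 n5116 = n8065 := rfl
theorem F8707 : act 0 n8065 = n6858 := d2_1 D8065 F8569 F8568 (iv D5128) F1796 F6330 (iv F4105)
theorem F8708 : act 4 n8065 = n5138 := d9_2 D5116 D8065 (iv D5138) D5139 (iv F8706) (iv D8064) (iv D5115)
def n8066 : Q := act 1 n5117
theorem D8066 : act 1 n5117 = n8066 := rfl
theorem F8709 : act 3 n8066 = n6371 := d5_2 F4505 D8066 F5825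
def n8067 : Q := act 4 n5117
theorem D8067 : act 4 n5117 = n8067 := rfl
theorem F8710 : act 0 n8067 = n5120 := d3_1 D8067 (iv D5120) D5117
theorem F8711 : act 2 n8067 = n7509 := d11_2 (iv F6122) D8067 F7684 D7511 F7691 (iv D4777) D4776
theorem F8712 : act 1 n8067 = n6367 := d17_1 D8067 (iv D6367) (iv D3584) (iv F2645) F2644 (iv D2678) F655 F233 D485 D1192 D2702 D5117
theorem F8713 : act 4 n8066 = n6367 := d6_2 (iv D8067) D8066 (iv F8712)
theorem F8714 : act 3 n6408 = n8067 := d5_0 F8712 F5820 D6408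
def n8068 : Q := act 0 n5118
theorem D8068 : act 0 n5118 = n8068 := rfl
theorem F8715 : act 2 n8068 = n7659 := d1_2 D5118 D8068 (iv D7659) (iv D4777) D4776 (iv F6122) (iv D5117)
theorem F8716 : act 4 n8068 = n7507 := d3_2 F7793 D8068 F7681
def n8069 : Q := act 3 n5118
theorem D8069 : act 3 n5118 = n8069 := rfl
theorem F8717 : act 1 n8069 = n5183 := d5_1 D8069 (iv D5183) (iv F4106)
theorem F8718 : act 2 n8069 = n5119 := d7_1 D8069 (iv D5119) D5118
def n8070 : Q := act 0 n5119
theorem D8070 : act 0 n5119 = n8070 := rfl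
theorem F8719 : act 3 n8070 = n6467 := d2_2 D5119 D8070 (iv F6123) (iv D5475) D5473 F4505 (iv D5117)
theorem F8720 : act 2 n8070 = n6463 := d10_2 D5119 D8070 F5954 (iv D4778) D4776 (iv F6122) (iv D5117)
def n8071 : Q := act 4 n5119
theorem D8071 : act 4 n5119 = n8071 := rfl
theorem F8721 : act 1 n8071 = n5122 := d6_1 D8071 (iv D5122) (iv F4107)
theorem F8722 : act 3 n8071 = n5133 := d9_1 D8071 (iv D5133) (iv D2711) D2712 (iv F6329) (iv D5120) D5119
def n8072 : Q := act 2 n5120
theorem D8072 : act 2 n5120 = n8072 := rfl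
theorem F8723 : act 3 n8072 = n5134 := d7_2 (iv F6329) D8072 (iv D5134)
theorem F8724 : act 4 n8072 = n5166 := d8_2 D5120 D8072 (iv F8292) F8294 (iv F5480) F7793 (iv D5118)
theorem F8725 : act 0 n7506 = n8072 := d3_3 F8724 F4156 D7506
theorem F8726 : act 1 n5168 = n8072 := d6_3 F8724 (iv D5166) D5168
def n8073 : Q := act 1 n5121
theorem D8073 : act 1 n5121 = n8073 := rfl
theorem F8727 : act 0 n8073 = n5789 := d16_6 (iv D5955) F2336 D3267 (iv F5222) F5223 D8073 F4919 D5824 (iv F6719) (iv F5253) F5252 (iv F5174)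
def n8074 : Q := act 4 n5121
theorem D8074 : act 4 n5121 = n8074 := rfl
theorem F8728 : act 0 n8074 = n5122 := d3_1 D8074 (iv D5122) D5121
theorem F8729 : act 3 n8074 = n5127 := d9_1 D8074 (iv D5127) (iv D2707) D2708 D5128 (iv F6332) (iv F5221)
def n8075 : Q := act 0 n5125
theorem D8075 : act 0 n5125 = n8075 := rfl
theorem F8730 : act 3 n8075 = n7344 := d2_2 D5125 D8075 F7448 (iv F4976) (iv D5828) (iv D3134) F1831
theorem F8731 : act 2 n8075 = n5801 := d10_2 D5125 D8075 (iv D5801) (iv D3120) F792 D1432 F1831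
def n8076 : Q := act 4 n5125
theorem D8076 : act 4 n5125 = n8076 := rfl
theorem F8732 : act 1 n8076 = n5127 := d6_1 D8076 (iv D5127) (iv F4110)
def n8077 : Q := act 3 n5126
theorem D8077 : act 3 n5126 = n8077 := rfl
theorem F8733 : act 1 n8077 = n5128 := d5_1 D8077 (iv D5128) (iv F4112)
theorem F8734 : act 2 n8077 = n6060 := d7_1 D8077 (iv D6060) (iv F4113)
def n8078 : Q := act 3 n5130
theorem D8078 : act 3 n5130 = n8078 := rfl
theorem F8735 : act 1 n8078 = n6306 := d5_1 D8078 F8082 (iv F4115)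
theorem F8736 : act 2 n8078 = n7661 := d7_1 D8078 (iv D7661) (iv F4116)
theorem F8737 : act 4 n6192 = n8078 := d6_0 F8735 (iv D6306) (iv F5514)
def n8079 : Q := act 0 n5131
theorem D8079 : act 0 n5131 = n8079 := rfl
theorem F8738 : act 2 n8079 = n7662 := d1_2 (iv F4119) D8079 (iv D7662) F3767 D4787 (iv F4120) (iv D5132)
theorem F8739 : act 4 n7524 = n8079 := d11_1 D7524 F8738 (iv D7662) F3767 (iv F5951) (iv D4658) (iv F3647)
def n8080 : Q := act 4 n5131
theorem D8080 : act 4 n5131 = n8080 := rfl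
theorem F8740 : act 0 n8080 = n7524 := d3_1 D8080 F8739 (iv D8079)
theorem F8741 : act 1 n8080 = n5190 := d6_1 D8080 (iv D5190) (iv F4118)
theorem F8742 : act 2 n8080 = n5805 := d16_4 D3392 D6136 F5453 (iv F8741) F4943 (iv F4952) F7704 (iv F6714) F6715 F5929 (iv D6132) (iv D3391)
def n8081 : Q := act 1 n5132
theorem D8081 : act 1 n5132 = n8081 := rfl
theorem F8743 : act 3 n8081 = n6409 := d5_2 F4572 D8081 F5873
theorem F8744 : act 4 n6370 = n8081 := d9_0 F8743 (iv D6409) (iv F5820) (iv F8713) F8709 (iv D6371) D6370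
def n8082 : Q := act 4 n5132
theorem D8082 : act 4 n5132 = n8082 := rfl
theorem F8745 : act 0 n8082 = n5133 := d3_1 D8082 (iv D5133) D5132
theorem F8746 : act 1 n8082 = n6370 := d6_1 D8082 F8744 (iv D8081)
theorem F8747 : act 3 n8082 = n6369 := d9_1 D8082 (iv F5823) F4505 D8067 (iv F8714) (iv F5872) F4572
theorem F8748 : act 2 n8082 = n7521 := d11_2 (iv F4120) D8082 F7712 D7522 F7715 F3767 D4787
def n8083 : Q := act 2 n5133
theorem D8083 : act 2 n5133 = n8083 := rfl
theorem F8749 : act 4 n8083 = n5170 := d8_2 D5133 D8083 F4162 D5805 (iv F8742) (iv D8080) F4119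
theorem F8750 : act 0 n7523 = n8083 := d3_3 F8749 F4163 D7523
theorem F8751 : act 1 n5172 = n8083 := d6_3 F8749 F4161 D5172
def n8084 : Q := act 0 n5136
theorem D8084 : act 0 n5136 = n8084 := rfl
def n8085 : Q := act 2 n5136
theorem D8085 : act 2 n5136 = n8085 := rfl
theorem F8752 : act 1 n8085 = n7224 := d4_1 D8085 F8158 (iv D7771) F6012 (iv F4128) (iv D5137) D5136
theorem F8753 : act 3 n8085 = n7232 := d7_2 (iv F4810) D8085 F7262
theorem F8754 : act 0 n8085 = n7528 := d15_7 (iv F8738) (iv D8079) F4119 F1798 D2713 D5136 D8085 (iv F8145) (iv D7749) (iv D4855) (iv F3766) D7662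
theorem F8755 : act 4 n8085 = n7220 := d17_3 (iv D5139) D5136 D8085 F7239 (iv D5807) (iv D3125) (iv F2238) (iv F4162) (iv F8749) (iv D8083) F4121 (iv F4131)
def n8086 : Q := act 4 n5136
theorem D8086 : act 4 n5136 = n8086 := rfl
theorem F8756 : act 1 n8086 = n5139 := d6_1 D8086 (iv D5139) D5136
def n8087 : Q := act 2 n5144
theorem D8087 : act 2 n5144 = n8087 := rfl
theorem F8757 : act 0 n8087 = n7669 := d1_1 D8087 (iv D7669) (iv D4797) D4798 (iv F4133) (iv D5145) D5144
theorem F8758 : act 3 n8087 = n7843 := d7_2 F8243 D8087 F8302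
theorem F8759 : act 4 n8087 = n7960 := d11_1 D8087 (iv D7960) F4003 D5815 F4954 (iv D5145) D5144
theorem F8760 : act 1 n7850 = n8087 := d6_3 F8759 F8499 (iv F8306)
def n8088 : Q := act 2 n5146
theorem D8088 : act 2 n5146 = n8088 := rfl
theorem F8761 : act 3 n8088 = n6072 := d7_2 F8691 D8088 (iv F8690)
theorem F8762 : act 4 n8088 = n6035 := d8_2 D5146 D8088 F5358 (iv D5817) D5815 F4954 (iv D5145)
theorem F8763 : act 0 n8088 = n7643 := d11_3 (iv D5145) D5146 D8088 F7943 (iv D4799) D4798 (iv F4133)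
theorem F8764 : act 1 n6036 = n8088 := d16_5 F6735 F3480 (iv F5356) F5355 F5361 F8763 F7944 (iv F7987) F7988 F7940 (iv F5886) (iv F6733)
def n8089 : Q := act 0 n5147
theorem D8089 : act 0 n5147 = n8089 := rfl
def n8090 : Q := act 2 n5147
theorem D8090 : act 2 n5147 = n8090 := rfl
def n8091 : Q := act 4 n5147
theorem D8091 : act 4 n5147 = n8091 := rfl
theorem F8765 : act 1 n8091 = n5148 := d6_1 D8091 (iv D5148) D5147
def n8092 : Q := act 1 n5149
theorem D8092 : act 1 n5149 = n8092 := rfl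
theorem F8766 : act 2 n8092 = n6034 := d4_2 D5149 D8092 F5355 F5361 F8764 (iv D8088) F4134
theorem F8767 : act 3 n8092 = n6068 := d5_2 F8694 D8092 (iv F8693)
theorem F8768 : act 4 n8092 = n6030 := d6_2 F4136 D8092 F5346
def n8093 : Q := act 4 n5150
theorem D8093 : act 4 n5150 = n8093 := rfl
theorem F8769 : act 0 n8093 = n7808 := d3_1 D8093 (iv D7808) (iv F4140)
theorem F8770 : act 1 n8093 = n5152 := d6_1 D8093 (iv D5152) D5150
def n8094 : Q := act 4 n5151
theorem D8094 : act 4 n5151 = n8094 := rfl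
theorem F8771 : act 0 n8094 = n6091 := d3_1 D8094 (iv D6091) (iv F4141)
theorem F8772 : act 3 n8094 = n5157 := d12_2 D5151 D8094 (iv D5157) (iv D2723) (iv D1201) D1200 D2720
def n8095 : Q := act 2 n5152
theorem D8095 : act 2 n5152 = n8095 := rfl
theorem F8773 : act 0 n8095 = n6073 := d11_3 (iv F1801) D5152 D8095 (iv D6073) (iv D3349) F889 D1579
def n8096 : Q := act 3 n5152
theorem D8096 : act 3 n5152 = n8096 := rfl
theorem F8774 : act 0 n8096 = n6093 := d2_1 D8096 (iv D6093) F2439 D3364 (iv F4144) (iv D5154) (iv F4143)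
def n8097 : Q := act 0 n5153
theorem D8097 : act 0 n5153 = n8097 := rfl
theorem F8775 : act 2 n8097 = n5161 := d1_2 D5153 D8097 F4151 D6073 (iv F8773) (iv D8095) F4143
def n8098 : Q := act 3 n5153
theorem D8098 : act 3 n5153 = n8098 := rfl
theorem F8776 : act 2 n8098 = n5154 := d7_1 D8098 (iv D5154) D5153
def n8099 : Q := act 4 n5153
theorem D8099 : act 4 n5153 = n8099 := rfl
theorem F8777 : act 2 n8099 = n5168 := d8_1 D8099 (iv D5168) (iv D2728) (iv D1203) (iv F662) D2721 D5153
theorem F8778 : act 3 n5156 = n8099 := d7_0 F8777 F4824 (iv F4146)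
def n8100 : Q := act 4 n5154
theorem D8100 : act 4 n5154 = n8100 := rfl
theorem F8779 : act 0 n8100 = n6098 := d3_1 D8100 (iv D6098) (iv F4144)
theorem F8780 : act 3 n8100 = n5158 := d9_1 D8100 (iv D5158) (iv D2723) (iv D1201) D1200 D2721 D5154
theorem F8781 : act 2 n5169 = n8100 := d7_3 F8780 F8631 (iv F4160)
def n8101 : Q := act 0 n5155
theorem D8101 : act 0 n5155 = n8101 := rfl
theorem F8782 : act 2 n8101 = n6078 := d10_2 D5155 D8101 (iv D6078) (iv D3351) (iv F939) D3454 F2507
def n8102 : Q := act 4 n5155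
theorem D8102 : act 4 n5155 = n8102 := rfl
theorem F8783 : act 2 n8102 = n5172 := d8_1 D8102 (iv D5172) F1808 D2734 (iv F8631) (iv D5158) (iv F4145)
def n8103 : Q := act 1 n5157
theorem D8103 : act 1 n5157 = n8103 := rfl
def n8104 : Q := act 2 n5157
theorem D8104 : act 2 n5157 = n8104 := rfl
theorem F8784 : act 0 n8104 = n6076 := d1_1 D8104 F5402 D6078 (iv F8782) (iv D8101) F4145 D5157
def n8105 : Q := act 4 n5157
theorem D8105 : act 4 n5157 = n8105 := rfl
theorem F8785 : act 0 n8105 = n5158 := d3_1 D8105 (iv D5158) D5157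
theorem F8786 : act 2 n6087 = n8105 := d10_2 F5411 (iv F5412) F8785 (iv F8780) F8779 (iv F5422) (iv F5410)
theorem E885 : n6088 = n6079 := ((c11_6 F8786 (iv D8105) D8104 F8784 F5402 D6079 (iv D6088) (iv F5412))).symm
theorem F8787 : act 2 n6079 = n3359 := (sb E885 (iv D6088))
def n8106 : Q := act 4 n5160
theorem D8106 : act 4 n5160 = n8106 := rfl
theorem F8788 : act 0 n8106 = n6107 := d3_1 D8106 (iv D6107) (iv F4149)
theorem F8789 : act 3 n8106 = n6078 := d12_2 D5160 D8106 (iv D6078) (iv D3351) (iv D1578) D1577 (iv F1803)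
def n8107 : Q := act 3 n5161
theorem D8107 : act 3 n5161 = n8107 := rfl
theorem F8790 : act 0 n8107 = n6108 := d2_1 D8107 (iv D6108) (iv F2505) D6201 F5530 (iv D6074) (iv F4151)
def n8108 : Q := act 2 n5162
theorem D8108 : act 2 n5162 = n8108 := rfl
theorem F8791 : act 3 n8108 = n5175 := d7_2 (iv F4152) D8108 (iv D5175)
theorem F8792 : act 0 n8108 = n6109 := d10_3 (iv F6637) F6635 D8108 F5432 (iv F3289) F3288 (iv F3459)
def n8109 : Q := act 3 n5163
theorem D8109 : act 3 n5163 = n8109 := rfl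
theorem F8793 : act 0 n8109 = n6111 := d2_1 D8109 (iv D6111) (iv F3170) D7107 F6998 (iv D6082) (iv F4153)
theorem F8794 : act 2 n8109 = n5164 := d7_1 D8109 (iv D5164) D5163
def n8110 : Q := act 4 n5163
theorem D8110 : act 4 n5163 = n8110 := rfl
theorem F8795 : act 0 n8110 = n6083 := d3_1 D8110 (iv D6083) (iv F4153)
def n8111 : Q := act 4 n5164
theorem D8111 : act 4 n5164 = n8111 := rfl
theorem F8796 : act 3 n8111 = n5176 := d9_1 D8111 (iv D5176) (iv F4152) (iv D5162) (iv D2726) D2727 D5164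
def n8112 : Q := act 1 n5165
theorem D8112 : act 1 n5165 = n8112 := rfl
theorem F8797 : act 0 n8112 = n7846 := d13_3 D2728 D5165 D8112 F8303 (iv F7606) (iv D7463) F3576 (iv F6667) F6665 F4147 F1804
def n8113 : Q := act 3 n5165
theorem D8113 : act 3 n5165 = n8113 := rfl
theorem F8798 : act 0 n8113 = n6115 := d2_1 D8113 (iv D6115) (iv D3376) D3378 (iv F4158) (iv D5167) D5165
theorem F8799 : act 2 n8113 = n6081 := d7_1 D8113 (iv D6081) (iv F4155)
def n8114 : Q := act 4 n5165
theorem D8114 : act 4 n5165 = n8114 := rfl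
theorem F8800 : act 0 n8114 = n5168 := d3_1 D8114 (iv D5168) D5165
def n8115 : Q := act 3 n5166
theorem D8115 : act 3 n5166 = n8115 := rfl
theorem F8801 : act 1 n8115 = n5167 := d5_1 D8115 (iv D5167) D5166
theorem F8802 : act 2 n8115 = n5787 := d7_1 D8115 (iv F8293) F8292
theorem F8803 : act 0 n8115 = n7512 := d10_1 D8115 (iv D7512) (iv D4642) (iv D2380) D2378 D4637 (iv F4156)
def n8116 : Q := act 4 n5167
theorem D8116 : act 4 n5167 = n8116 := rfl
theorem F8804 : act 0 n8116 = n6117 := d3_1 D8116 (iv D6117) (iv F4158)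
theorem F8805 : act 3 n8116 = n5172 := d9_1 D8116 (iv D5172) (iv D2731) D2732 (iv F4824) (iv D5168) D5167
def n8117 : Q := act 1 n5171
theorem D8117 : act 1 n5171 = n8117 := rfl
theorem F8806 : act 0 n8117 = n7964 := d13_3 (iv F1808) D5171 D8117 F8506 (iv F7734) (iv D7533) F3654 (iv F6671) F6669 (iv D5174) (iv D2733)
def n8118 : Q := act 3 n5171
theorem D8118 : act 3 n5171 = n8118 := rfl
theorem F8807 : act 0 n8118 = n6119 := d2_1 D8118 (iv D6119) (iv D3381) (iv D1592) (iv F665) D2731 D5171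
theorem F8808 : act 2 n8118 = n6080 := d7_1 D8118 F5407 (iv F4164)
def n8119 : Q := act 4 n5171
theorem D8119 : act 4 n5171 = n8119 := rfl
theorem F8809 : act 0 n8119 = n5172 := d3_1 D8119 (iv D5172) D5171
def n8120 : Q := act 4 n5174
theorem D8120 : act 4 n5174 = n8120 := rfl
theorem F8810 : act 1 n8120 = n5176 := d6_1 D8120 (iv D5176) D5174
theorem F8811 : act 2 n8120 = n7539 := d11_2 (iv F4165) D8120 (iv D7539) (iv D4669) (iv D2408) D2407 D4666
def n8121 : Q := act 4 n5175
theorem D8121 : act 4 n5175 = n8121 := rfl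
theorem F8812 : act 0 n8121 = n6085 := d3_1 D8121 (iv D6085) (iv F4166)
def n8122 : Q := act 2 n5176
theorem D8122 : act 2 n5176 = n8122 := rfl
theorem F8813 : act 0 n8122 = n6079 := d1_1 D8122 F8787 (iv F5412) F8786 F8785 F8631 (iv F4167)
theorem F8814 : act 4 n8122 = n6078 := d11_1 D8122 (iv F8782) (iv D8101) F4145 D5158 F8631 (iv F4167)
def n8123 : Q := act 3 n5178
theorem D8123 : act 3 n5178 = n8123 := rfl
theorem F8815 : act 1 n8123 = n5180 := d5_1 D8123 (iv D5180) D5178
theorem F8816 : act 2 n8123 = n6839 := d7_1 D8123 (iv F7622) F7621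
theorem F8817 : act 0 n8123 = n6864 := d10_1 D8123 F6649 (iv F6603) (iv F7608) F7607 (iv F8088) F8087
theorem F8818 : act 4 n6822 = n8123 := d3_0 F8817 (iv D6864) (iv F6570)
def n8124 : Q := act 1 n5179
theorem D8124 : act 1 n5179 = n8124 := rfl
theorem F8819 : act 0 n8124 = n6935 := d0_1 D8124 F7956 (iv D7648) (iv D4769) D4768 (iv F6358) (iv F6359)
theorem F8820 : act 4 n8124 = n6933 := d6_2 F6360 D8124 (iv F7965)
def n8125 : Q := act 3 n5179
theorem D8125 : act 3 n5179 = n8125 := rfl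
theorem F8821 : act 2 n8125 = n5180 := d7_1 D8125 (iv D5180) D5179
def n8126 : Q := act 4 n5180
theorem D8126 : act 4 n5180 = n8126 := rfl
theorem F8822 : act 0 n8126 = n7552 := d3_1 D8126 (iv F7774) F6646
theorem F8823 : act 1 n8126 = n6822 := d6_1 D8126 F8818 F8815
theorem F8824 : act 3 n8126 = n5194 := d12_2 D5180 D8126 F4180 (iv F4175) (iv D5186) (iv D2738) D2736
def n8127 : Q := act 2 n5181
theorem D8127 : act 2 n5181 = n8127 := rfl
theorem F8825 : act 0 n8127 = n7556 := d10_3 F1815 (iv F4168) D8127 (iv D7556) (iv D4691) (iv D2432) (iv F674)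
def n8128 : Q := act 3 n5181
theorem D8128 : act 3 n5181 = n8128 := rfl
theorem F8826 : act 0 n8128 = n7559 := d2_1 D8128 (iv D7559) (iv D4693) (iv D2433) (iv F674) F1815 (iv F4168)
theorem F8827 : act 1 n8128 = n6832 := d5_1 D8128 (iv F7610) F7611
theorem F8828 : act 4 n8128 = n5193 := d9_2 D5181 D8128 (iv D5193) D5194 (iv F8824) (iv D8126) (iv D5180)
def n8129 : Q := act 1 n5182
theorem D8129 : act 1 n5182 = n8129 := rfl
def n8130 : Q := act 2 n5182
theorem D8130 : act 2 n5182 = n8130 := rfl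
def n8131 : Q := act 3 n5182
theorem D8131 : act 3 n5182 = n8131 := rfl
def n8132 : Q := act 2 n5185
theorem D8132 : act 2 n5185 = n8132 := rfl
theorem F8829 : act 3 n8132 = n6313 := d7_2 (iv F4170) D8132 (iv F6499)
theorem F8830 : act 1 n8132 = n6310 := d16_5 F1983 (iv F1517) (iv F3681) (iv F4171) D8132 F5688 F2801 (iv F2603) (iv F5706) F6501 F4540 F3823
theorem F8831 : act 4 n6309 = n8132 := d6_0 F8830 (iv D6310) D6309
def n8133 : Q := act 2 n5186
theorem D8133 : act 2 n5186 = n8133 := rfl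
theorem F8832 : act 3 n8133 = n5195 := d7_2 (iv F4175) D8133 (iv D5195)
def n8134 : Q := act 0 n5187
theorem D8134 : act 0 n5187 = n8134 := rfl
def n8135 : Q := act 1 n5189
theorem D8135 : act 1 n5189 = n8135 := rfl
def n8136 : Q := act 2 n5189
theorem D8136 : act 2 n5189 = n8136 := rfl
def n8137 : Q := act 3 n5189
theorem D8137 : act 3 n5189 = n8137 := rfl
def n8138 : Q := act 4 n5189
theorem D8138 : act 4 n5189 = n8138 := rfl
theorem F8833 : act 0 n8138 = n5190 := d3_1 D8138 (iv D5190) D5189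
def n8139 : Q := act 2 n5190
theorem D8139 : act 2 n5190 = n8139 := rfl
def n8140 : Q := act 3 n5191
theorem D8140 : act 3 n5191 = n8140 := rfl
theorem F8834 : act 1 n8140 = n5193 := d5_1 D8140 (iv D5193) D5191
theorem F8835 : act 2 n8140 = n6852 := d7_1 D8140 (iv F7741) F7742
theorem F8836 : act 0 n8140 = n6866 := d10_1 D8140 F6653 (iv F6631) (iv F7736) F7735 (iv F8184) F8183
theorem F8837 : act 4 n8140 = n6832 := d12_1 D8140 (iv F7610) F7609 F6672 D6892 F8185 F8183
def n8141 : Q := act 4 n5191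
theorem D8141 : act 4 n5191 = n8141 := rfl
theorem F8838 : act 0 n8141 = n6878 := d3_1 D8141 (iv F8186) F8183
theorem F8839 : act 1 n8141 = n5194 := d6_1 D8141 (iv D5194) D5191
theorem F8840 : act 2 n8141 = n6823 := d8_1 D8141 (iv F7752) (iv F8811) (iv D8120) F4165 D7536 F7742
theorem F8841 : act 3 n8141 = n6822 := d9_1 D8141 F8818 (iv D8123) F7612 F7610 (iv F8837) (iv D8140)
def n8142 : Q := act 1 n5192
theorem D8142 : act 1 n5192 = n8142 := rfl
theorem F8842 : act 0 n8142 = n6942 := d0_1 D8142 F7995 (iv D7671) (iv D4800) (iv F3720) (iv F5469) F5470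
theorem F8843 : act 4 n6941 = n8142 := d3_0 F8842 (iv D6942) D6941
def n8143 : Q := act 3 n5192
theorem D8143 : act 3 n5192 = n8143 := rfl
theorem F8844 : act 2 n8143 = n5193 := d7_1 D8143 (iv D5193) D5192
def n8144 : Q := act 4 n5192
theorem D8144 : act 4 n5192 = n8144 := rfl
theorem F8845 : act 1 n8144 = n6941 := d6_1 D8144 F8843 (iv D8142)
def n8145 : Q := act 2 n5194
theorem D8145 : act 2 n5194 = n8145 := rfl
def n8146 : Q := act 0 n5195
theorem D8146 : act 0 n5195 = n8146 := rfl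
def n8147 : Q := act 0 n5196
theorem D8147 : act 0 n5196 = n8147 := rfl
def n8148 : Q := act 1 n5196
theorem D8148 : act 1 n5196 = n8148 := rfl
def n8149 : Q := act 4 n5196
theorem D8149 : act 4 n5196 = n8149 := rfl
def n8150 : Q := act 4 n5197
theorem D8150 : act 4 n5197 = n8150 := rfl
theorem F8846 : act 0 n8150 = n5199 := d3_1 D8150 (iv D5199) D5197
def n8151 : Q := act 2 n5199
theorem D8151 : act 2 n5199 = n8151 := rfl
theorem F8847 : act 1 n8151 = n6721 := d4_1 D8151 (iv D6721) (iv F4002) (iv D5022) F3195 D7138 F7069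
def n8152 : Q := act 2 n5200
theorem D8152 : act 2 n5200 = n8152 := rfl
theorem F8848 : act 3 n8152 = n5480 := d7_2 (iv F4183) D8152 (iv D5480)
def n8153 : Q := act 2 n5201
theorem D8153 : act 2 n5201 = n8153 := rfl
theorem F8849 : act 3 n8153 = n5211 := d7_2 (iv F4185) D8153 (iv D5211)
theorem F8850 : act 1 n8153 = n7876 := d14_2 (iv F4184) D8153 (iv D7876) F3920 (iv F3819) (iv F4526) (iv D5497) (iv D2921) (iv D1304) (iv F728) (iv F1961)
theorem F8851 : act 4 n8153 = n7912 := d17_3 D2904 (iv F4184) D8153 F8425 F5054 (iv D3184) F815 (iv F733) (iv D1302) F259 (iv F257) D1294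
def n8154 : Q := act 3 n5202
theorem D8154 : act 3 n5202 = n8154 := rfl
theorem F8852 : act 1 n8154 = n7870 := d5_1 D8154 (iv F8344) F7426
theorem F8853 : act 2 n8154 = n5203 := d7_1 D8154 (iv D5203) D5202
theorem F8854 : act 4 n8154 = n7869 := d9_2 (iv F4186) D8154 F8342 (iv F7817) (iv F8849) F8851 (iv D7912)
def n8155 : Q := act 4 n5203
theorem D8155 : act 4 n5203 = n8155 := rfl
theorem F8855 : act 1 n8155 = n5481 := d6_1 D8155 (iv D5481) (iv F4188)
theorem F8856 : act 3 n8155 = n5212 := d9_1 D8155 (iv D5212) (iv F4185) (iv D5201) (iv D2757) D2758 D5203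
def n8156 : Q := act 1 n5204
theorem D8156 : act 1 n5204 = n8156 := rfl
theorem F8857 : act 0 n8156 = n6896 := d0_1 D8156 F6707 F3045 (iv F2258) F2257 F1826 D5204
theorem F8858 : act 4 n8156 = n5833 := d6_2 (iv F4190) D8156 (iv D5833)
theorem F8859 : act 3 n5743 = n8156 := d16_2 F2151 (iv F4807) (iv D8156) F4189 F3693 (iv F6008) (iv F8005) (iv D7679) (iv F7936) F7937 F5029 F2298
def n8157 : Q := act 3 n5204
theorem D8157 : act 3 n5204 = n8157 := rfl
theorem F8860 : act 1 n8157 = n5743 := d5_1 D8157 F8859 (iv D8156)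
theorem F8861 : act 2 n8157 = n7565 := d7_1 D8157 (iv D7565) (iv F4189)
theorem F8862 : act 4 n5740 = n8157 := d17_3 (iv D7870) D7869 F8341 F8861 F7806 (iv D4819) F1599 (iv F1617) D4834 F3824 (iv F3918) (iv F8343)
def n8158 : Q := act 0 n5205
theorem D8158 : act 0 n5205 = n8158 := rfl
theorem F8863 : act 1 n8158 = n5785 := d0_2 (iv F4191) D8158 F4916 F2228 F788 (iv F786) (iv F2224)
theorem F8864 : act 2 n8158 = n5928 := d1_2 (iv F4192) D8158 F5130 (iv F7808) (iv F8523) F8522 F4010
theorem F8865 : act 4 n8158 = n5775 := d3_2 F4193 D8158 (iv D5775)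
theorem F8866 : act 3 n8158 = n5791 := d10_4 D5035 F4010 (iv F4192) D8158 (iv F8518) (iv D7972) F4006
def n8159 : Q := act 4 n5207
theorem D8159 : act 4 n5207 = n8159 := rfl
theorem F8867 : act 1 n8159 = n5784 := d6_1 D8159 F4915 (iv F4197)
theorem F8868 : act 2 n8159 = n7977 := d8_1 D8159 (iv D7977) F4012 D5038 F6644 (iv D5930) (iv F4198)
theorem F8869 : act 3 n8159 = n5775 := d9_1 D8159 (iv F8865) F8866 (iv D5791) (iv D3114) (iv F1830) D5207
def n8160 : Q := act 1 n5208
theorem D8160 : act 1 n5208 = n8160 := rfl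
theorem F8870 : act 0 n8160 = n6904 := d0_1 D8160 F6720 F3053 F2274 (iv D3151) (iv F1832) D5208
theorem F8871 : act 3 n5749 = n8160 := d16_2 D3085 D5749 (iv D8160) F4199 D7569 F7819 (iv D6499) F2754 (iv F2756) (iv F4790) F4789 F2148
theorem F8872 : act 4 n8160 = n5742 := d9_2 (iv F4812) F8871 (iv D5742) D5743 F8859 F8858 (iv F5053)
def n8161 : Q := act 3 n5208
theorem D8161 : act 3 n5208 = n8161 := rfl
theorem F8873 : act 1 n8161 = n5749 := d5_1 D8161 F8871 (iv D8160)
theorem F8874 : act 2 n8161 = n7564 := d7_1 D8161 F7804 (iv F4199)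
theorem F8875 : act 4 n8161 = n5834 := d12_1 D8161 (iv D5834) (iv D3137) (iv D1438) (iv F680) D2762 D5208
def n8162 : Q := act 4 n5208
theorem D8162 : act 4 n5208 = n8162 := rfl
theorem F8876 : act 0 n8162 = n5209 := d3_1 D8162 (iv D5209) D5208
theorem F8877 : act 1 n8162 = n5742 := d6_1 D8162 (iv F8872) (iv D8160)
theorem F8878 : act 2 n8162 = n7087 := d8_1 D8162 (iv F7817) (iv D5211) D5212 (iv F7825) (iv D7570) (iv F4199)
theorem F8879 : act 3 n8162 = n5740 := d9_1 D8162 F8862 (iv D8157) F4190 D5834 (iv F8875) (iv D8161)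
def n8163 : Q := act 2 n5210
theorem D8163 : act 2 n5210 = n8163 := rfl
theorem F8880 : act 3 n8163 = n5466 := d7_2 (iv F4204) D8163 (iv D5466)
def n8164 : Q := act 4 n5210
theorem D8164 : act 4 n5210 = n8164 := rfl
theorem F8881 : act 0 n8164 = n6890 := d3_1 D8164 (iv D6890) (iv F4203)
theorem F8882 : act 1 n8164 = n5212 := d6_1 D8164 (iv D5212) D5210
theorem F8883 : act 3 n8164 = n5481 := d9_1 D8164 (iv D5481) (iv F4183) (iv D5200) (iv F1948) D2904 (iv F4204)
def n8165 : Q := act 3 n5213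
theorem D8165 : act 3 n5213 = n8165 := rfl
theorem F8884 : act 0 n8165 = n5283 := d2_1 D8165 (iv D5283) (iv F4224) (iv F7434) F7431 (iv D5302) (iv F4207)
theorem F8885 : act 1 n8165 = n7181 := d5_1 D8165 F7182 F4452
theorem F8886 : act 2 n8165 = n5214 := d7_1 D8165 (iv D5214) D5213
theorem F8887 : act 4 n8165 = n7180 := d9_2 (iv F4451) D8165 F7181 (iv F5111) (iv D5215) F1839 D4347
def n8166 : Q := act 4 n5214
theorem D8166 : act 4 n5214 = n8166 := rfl
theorem F8888 : act 0 n8166 = n5232 := d3_1 D8166 (iv D5232) (iv F4209)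
theorem F8889 : act 1 n8166 = n6098 := d6_1 D8166 (iv D6098) (iv F4208)
theorem F8890 : act 3 n8166 = n5217 := d9_1 D8166 (iv D5217) (iv D2767) (iv D1226) D1225 D2765 D5214
theorem F8891 : act 2 n6003 = n8166 := d7_3 F8890 F5308 (iv F5245)
def n8167 : Q := act 1 n5216
theorem D8167 : act 1 n5216 = n8167 := rfl
theorem F8892 : act 3 n8167 = n5345 := d5_2 (iv F4214) D8167 F4346
theorem F8893 : act 4 n8167 = n5434 := d6_2 (iv F5310) D8167 (iv D5434)
def n8168 : Q := act 3 n5218
theorem D8168 : act 3 n5218 = n8168 := rfl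
theorem F8894 : act 0 n8168 = n6089 := d2_1 D8168 (iv D6089) (iv F4338) (iv F4340) D7472 F7633 F6145
theorem F8895 : act 1 n8168 = n5219 := d5_1 D8168 (iv D5219) D5218
theorem F8896 : act 2 n8168 = n5581 := d7_1 D8168 F4586 (iv F4216)
def n8169 : Q := act 4 n5218
theorem D8169 : act 4 n5218 = n8169 := rfl
theorem F8897 : act 1 n8169 = n5220 := d6_1 D8169 (iv D5220) D5218
def n8170 : Q := act 4 n5219
theorem D8170 : act 4 n5219 = n8170 := rfl
theorem F8898 : act 3 n8170 = n5224 := d12_2 D5219 D8170 (iv D5224) (iv D2771) (iv D1228) D1227 D2768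
def n8171 : Q := act 2 n5220
theorem D8171 : act 2 n5220 = n8171 := rfl
theorem F8899 : act 4 n8171 = n7000 := d11_1 D8171 (iv F6839) (iv D5836) F2251 (iv F4218) (iv D5221) (iv F4217)
theorem F8900 : act 0 n8171 = n6219 := d11_3 F2526 D5220 D8171 (iv D6219) (iv D3466) F951 D3465
theorem F8901 : act 1 n7002 = n8171 := d6_3 F8899 (iv D7000) D7002
def n8172 : Q := act 3 n5220
theorem D8172 : act 3 n5220 = n8172 := rfl
def n8173 : Q := act 0 n5221
theorem D8173 : act 0 n5221 = n8173 := rfl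
theorem F8902 : act 2 n8173 = n6218 := d1_2 D5221 D8173 F5568 D6219 (iv F8900) (iv D8171) F4217
theorem F8903 : act 4 n8173 = n5836 := d3_2 (iv F4218) D8173 (iv D5836)
def n8174 : Q := act 3 n5221
theorem D8174 : act 3 n5221 = n8174 := rfl
theorem F8904 : act 1 n8174 = n5778 := d5_1 D8174 F4904 F4219
theorem F8905 : act 2 n8174 = n5222 := d7_1 D8174 (iv D5222) D5221
theorem F8906 : act 0 n8174 = n6234 := d10_1 D8174 F5584 (iv F5571) (iv D6220) (iv F5568) (iv F8902) (iv D8173)
theorem F8907 : act 4 n5776 = n8174 := d3_0 F8906 (iv F7142) F7137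
def n8175 : Q := act 4 n5222
theorem D8175 : act 4 n5222 = n8175 := rfl
theorem F8908 : act 1 n8175 = n5232 := d6_1 D8175 (iv D5232) (iv F4220)
theorem F8909 : act 2 n8175 = n8175 := d8_1 D8175 (iv D8175) (iv F8905) (iv F8907) F4901 F8907 F8905
theorem F8910 : act 3 n8175 = n5225 := d9_1 D8175 (iv D5225) (iv D2771) (iv D1228) D1227 D2769 D5222
def n8176 : Q := act 0 n5223
theorem D8176 : act 0 n5223 = n8176 := rfl
theorem F8911 : act 2 n8176 = n6222 := d10_2 D5223 D8176 (iv D6222) (iv D3468) F952 D1648 (iv F1843)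
def n8177 : Q := act 4 n5223
theorem D8177 : act 4 n5223 = n8177 := rfl
theorem F8912 : act 1 n8177 = n5777 := d6_1 D8177 F4903 (iv F4221)
theorem F8913 : act 2 n8177 = n8177 := d8_1 D8177 (iv D8177) F4222 D5225 F5296 (iv D5225) (iv F4222)
theorem F8914 : act 3 n8177 = n5776 := d9_1 D8177 F8907 (iv D8174) F4218 (iv D3140) (iv F1842) D5223
def n8178 : Q := act 1 n5224
theorem D8178 : act 1 n5224 = n8178 := rfl
def n8179 : Q := act 2 n5224
theorem D8179 : act 2 n5224 = n8179 := rfl
theorem F8915 : act 0 n8179 = n6221 := d1_1 D8179 F5573 D6222 (iv F8911) (iv D8176) F4222 D5224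
def n8180 : Q := act 4 n5224
theorem D8180 : act 4 n5224 = n8180 := rfl
theorem F8916 : act 0 n8180 = n5225 := d3_1 D8180 (iv D5225) D5224
def n8181 : Q := act 1 n5228
theorem D8181 : act 1 n5228 = n8181 := rfl
def n8182 : Q := act 3 n5228
theorem D8182 : act 3 n5228 = n8182 := rfl
theorem F8917 : act 0 n8182 = n5306 := d2_1 D8182 (iv D5306) (iv D2817) D2819 (iv F4228) (iv D5230) D5228
theorem F8918 : act 2 n8182 = n5243 := d7_1 D8182 (iv D5243) (iv F4226)
theorem F8919 : act 4 n6769 = n8182 := d8_0 F8918 (iv F5300) (iv D4503) (iv F2210) (iv F4250) (iv F5749) (iv F6456)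
theorem F8920 : act 1 n8182 = n6770 := d6_1 F8919 (iv D6770) D6769
theorem F8921 : act 3 n6770 = n8181 := d5_2 D8182 F8920 (iv D8181)
def n8183 : Q := act 4 n5228
theorem D8183 : act 4 n5228 = n8183 := rfl
theorem F8922 : act 0 n8183 = n5231 := d3_1 D8183 (iv D5231) D5228
theorem F8923 : act 2 n8183 = n5247 := d8_1 D8183 (iv D5247) (iv D2781) (iv D1234) D1233 D2780 (iv F4226)
theorem F8924 : act 1 n6653 = n8183 := d4_7 F8923 F4458 (iv D4136) F1235 F2048 (iv F2859) (iv F6249)
theorem F8925 : act 3 n6652 = n8183 := d7_0 F8923 F4459 (iv F6247)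
theorem F8926 : act 4 n8181 = n6653 := d6_0 F8924 (iv D8183) D8181
def n8184 : Q := act 0 n5229
theorem D8184 : act 0 n5229 = n8184 := rfl
def n8185 : Q := act 2 n5229
theorem D8185 : act 2 n5229 = n8185 := rfl
theorem F8927 : act 1 n8185 = n5838 := d4_1 D8185 (iv D5838) F4219 (iv D5221) F1841 D2773 D5229
theorem F8928 : act 4 n8185 = n6471 := d17_3 (iv D5231) D5229 D8185 F5977 F5976 (iv F5970) F5968 F2940 (iv F2860) (iv F6249) F8924 F8922
def n8186 : Q := act 3 n5229
theorem D8186 : act 3 n5229 = n8186 := rfl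
theorem F8929 : act 1 n8186 = n5230 := d5_1 D8186 (iv D5230) D5229
def n8187 : Q := act 4 n5229
theorem D8187 : act 4 n5229 = n8187 := rfl
theorem F8930 : act 1 n8187 = n5231 := d6_1 D8187 (iv D5231) D5229
theorem F8931 : act 2 n8187 = n8187 := d8_1 D8187 (iv D8187) D8185 F8928 F5977 (iv F8928) (iv D8185)
theorem F8932 : act 3 n5236 = n8187 := d5_0 F8930 F4445 (iv F4238)
def n8188 : Q := act 4 n5230
theorem D8188 : act 4 n5230 = n8188 := rfl
theorem F8933 : act 0 n8188 = n5312 := d3_1 D8188 (iv D5312) (iv F4228)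
theorem F8934 : act 2 n8188 = n5256 := d8_1 D8188 (iv D5256) F1854 D2787 (iv F5295) (iv D5232) (iv F4227)
theorem F8935 : act 3 n8188 = n5238 := d9_1 D8188 (iv D5238) (iv D2776) D2777 (iv F4445) (iv D5231) D5230
def n8189 : Q := act 3 n5233
theorem D8189 : act 3 n5233 = n8189 := rfl
theorem F8936 : act 1 n8189 = n7985 := d5_1 D8189 F8544 (iv F4231)
theorem F8937 : act 2 n8189 = n5968 := d7_1 D8189 (iv F5191) (iv F4232)
theorem F8938 : act 4 n7983 = n8189 := d6_0 F8936 (iv D7985) D7983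
def n8190 : Q := act 3 n5234
theorem D8190 : act 3 n5234 = n8190 := rfl
theorem F8939 : act 1 n8190 = n5839 := d5_1 D8190 (iv D5839) (iv F4234)
theorem F8940 : act 2 n8190 = n5235 := d7_1 D8190 (iv D5235) D5234
def n8191 : Q := act 0 n5235
theorem D8191 : act 0 n5235 = n8191 := rfl
def n8192 : Q := act 4 n5235
theorem D8192 : act 4 n5235 = n8192 := rfl
theorem F8941 : act 1 n8192 = n5238 := d6_1 D8192 (iv D5238) (iv F4236)
theorem F8942 : act 2 n8192 = n8192 := d4_0 F8941 F5298 (iv F4268) F6538 F4268 (iv F5298) (iv F8941)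
def n8193 : Q := act 1 n5237
theorem D8193 : act 1 n5237 = n8193 := rfl
theorem F8943 : act 3 n8193 = n6654 := d5_2 F4241 D8193 F6250
theorem F8944 : act 4 n6650 = n8193 := d9_0 F8943 (iv D6654) D6653 (iv F8926) (iv F8921) (iv D6770) (iv F6246)
def n8194 : Q := act 4 n5237
theorem D8194 : act 4 n5237 = n8194 := rfl
theorem F8945 : act 0 n8194 = n5238 := d3_1 D8194 (iv D5238) D5237
theorem F8946 : act 1 n8194 = n6650 := d6_1 D8194 F8944 (iv D8193)
theorem F8947 : act 2 n8194 = n5275 := d8_1 D8194 (iv D5275) (iv D2798) D2799 D5276 F5291 (iv F4240)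
theorem F8948 : act 3 n8194 = n6769 := d9_1 D8194 F8919 (iv D8182) D8183 (iv F8925) (iv F6248) F4241
def n8195 : Q := act 1 n5244
theorem D8195 : act 1 n5244 = n8195 := rfl
theorem F8949 : act 2 n8195 = n7927 := d4_2 (iv F4247) D8195 F8438 F5001 (iv F5963) F5964 F3730
theorem F8950 : act 3 n8195 = n5377 := d5_2 (iv F4248) D8195 (iv D5377)
theorem F8951 : act 4 n8195 = n5389 := d6_2 (iv F4456) D8195 F4372
theorem F8952 : act 0 n8195 = n7921 := d13_3 D2781 D5244 D8195 (iv D7921) F3953 F3695 (iv F4187) (iv D5202) F1824 F678 (iv F694)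
def n8196 : Q := act 0 n5245
theorem D8196 : act 0 n5245 = n8196 := rfl
theorem F8953 : act 4 n8196 = n7012 := d3_2 F4462 D8196 (iv D7012)
def n8197 : Q := act 2 n5245
theorem D8197 : act 2 n5245 = n8197 := rfl
theorem F8954 : act 1 n8197 = n6884 := d4_1 D8197 (iv D6884) (iv D4040) (iv D1962) (iv F695) D2781 D5245
theorem F8955 : act 3 n8197 = n7362 := d7_2 F5751 D8197 F7473
theorem F8956 : act 4 n8197 = n7011 := d8_2 F4462 D8197 (iv D7011) (iv D4135) (iv D2023) D2024 D4136
def n8198 : Q := act 0 n5248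
theorem D8198 : act 0 n5248 = n8198 := rfl
def n8199 : Q := act 2 n5248
theorem D8199 : act 2 n5248 = n8199 := rfl
def n8200 : Q := act 1 n5251
theorem D8200 : act 1 n5251 = n8200 := rfl
def n8201 : Q := act 3 n5251
theorem D8201 : act 3 n5251 = n8201 := rfl
def n8202 : Q := act 4 n5251
theorem D8202 : act 4 n5251 = n8202 := rfl
theorem F8957 : act 0 n8202 = n5254 := d3_1 D8202 (iv D5254) D5251
def n8203 : Q := act 0 n5252
theorem D8203 : act 0 n5252 = n8203 := rfl
def n8204 : Q := act 3 n5252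
theorem D8204 : act 3 n5252 = n8204 := rfl
theorem F8958 : act 1 n8204 = n5779 := d5_1 D8204 F4905 (iv F4253)
theorem F8959 : act 2 n8204 = n5253 := d7_1 D8204 (iv D5253) D5252
def n8205 : Q := act 0 n5253
theorem D8205 : act 0 n5253 = n8205 := rfl
theorem F8960 : act 2 n8205 = n6308 := d10_2 D5253 D8205 (iv F7874) (iv D7599) D7597 F7870 (iv D5251)
theorem F8961 : act 3 n8205 = n6322 := d12_4 (iv F4447) (iv D5254) D5253 D8205 F8098 (iv D7280) (iv F3327)
def n8206 : Q := act 4 n5253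
theorem D8206 : act 4 n5253 = n8206 := rfl
theorem F8962 : act 1 n8206 = n5256 := d6_1 D8206 (iv D5256) (iv F4254)
theorem F8963 : act 3 n8206 = n5266 := d9_1 D8206 (iv D5266) (iv D2793) D2794 (iv F4447) (iv D5254) D5253
theorem F8964 : act 2 n8206 = n8206 := d7_3 F8963 F6538 (iv F8963)
def n8207 : Q := act 1 n5255
theorem D8207 : act 1 n5255 = n8207 := rfl
theorem F8965 : act 3 n8207 = n5351 := d5_2 (iv F4256) D8207 (iv D5351)
theorem F8966 : act 0 n8207 = n8133 := d13_3 (iv F1854) D5255 D8207 (iv D8133) F4173 F3678 F1510 F668 F239 (iv F254) (iv F696)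
theorem F8967 : act 4 n6143 = n8207 := d9_0 F8965 F4450 F2456 (iv F1863) D5260 (iv F5313) (iv F5466)
def n8208 : Q := act 4 n5255
theorem D8208 : act 4 n5255 = n8208 := rfl
theorem F8968 : act 0 n8208 = n5256 := d3_1 D8208 (iv D5256) D5255
theorem F8969 : act 1 n8208 = n6143 := d6_1 D8208 F8967 (iv D8207)
theorem F8970 : act 2 n8208 = n7180 := d8_1 D8208 (iv F8887) F8886 D8166 (iv F8891) (iv D6003) F4257
theorem F8971 : act 3 n8208 = n5261 := d9_1 D8208 (iv D5261) (iv D2789) D2790 D5262 F4444 (iv F4256)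
def n8209 : Q := act 3 n5259
theorem D8209 : act 3 n5259 = n8209 := rfl
theorem F8972 : act 1 n8209 = n6020 := d5_1 D8209 (iv D6020) (iv F4259)
theorem F8973 : act 2 n8209 = n5260 := d7_1 D8209 (iv D5260) D5259
theorem F8974 : act 4 n6165 = n8209 := d8_0 F8973 (iv F5313) (iv D3419) (iv D1612) (iv F909) D3412 D6165
def n8210 : Q := act 0 n5263
theorem D8210 : act 0 n5263 = n8210 := rfl
theorem F8975 : act 1 n8210 = n7825 := d16_9 F4185 (iv D2763) (iv D1224) F244 D508 D1238 D2791 D5263 D8210 (iv D7825) (iv F8263) F8262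
def n8211 : Q := act 0 n5264
theorem D8211 : act 0 n5264 = n8211 := rfl
def n8212 : Q := act 4 n5264
theorem D8212 : act 4 n5264 = n8212 := rfl
theorem F8976 : act 1 n8212 = n5846 := d6_1 D8212 (iv D5846) (iv F4266)
theorem F8977 : act 2 n8212 = n8212 := d8_1 D8212 (iv D8212) F4267 D5266 F6538 (iv D5266) (iv F4267)
def n8213 : Q := act 1 n5265
theorem D8213 : act 1 n5265 = n8213 := rfl
def n8214 : Q := act 3 n5265
theorem D8214 : act 3 n5265 = n8214 := rfl
def n8215 : Q := act 4 n5265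
theorem D8215 : act 4 n5265 = n8215 := rfl
theorem F8978 : act 0 n8215 = n5266 := d3_1 D8215 (iv D5266) D5265
def n8216 : Q := act 0 n5268
theorem D8216 : act 0 n5268 = n8216 := rfl
def n8217 : Q := act 2 n5268
theorem D8217 : act 2 n5268 = n8217 := rfl
def n8218 : Q := act 0 n5274
theorem D8218 : act 0 n5274 = n8218 := rfl
theorem F8979 : act 4 n8218 = n7052 := d3_2 (iv F5752) D8218 (iv D7052)
def n8219 : Q := act 2 n5274
theorem D8219 : act 2 n5274 = n8219 := rfl
theorem F8980 : act 1 n8219 = n6885 := d4_1 D8219 F6690 F3038 F1200 F700 D2798 D5274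
theorem F8981 : act 3 n8219 = n6869 := d7_2 (iv F4272) D8219 (iv D6869)
theorem F8982 : act 4 n8219 = n7044 := d8_2 (iv F5752) D8219 (iv D7044) (iv D4158) F1238 D2036 D4165
def n8220 : Q := act 4 n5280
theorem D8220 : act 4 n5280 = n8220 := rfl
theorem F8983 : act 0 n8220 = n6003 := d3_1 D8220 (iv D6003) (iv F4278)
theorem F8984 : act 3 n8220 = n5281 := d9_1 D8220 (iv D5281) (iv D2802) (iv D1244) D1243 D2801 D5280
theorem F8985 : act 2 n8220 = n5285 := d11_2 (iv F4277) D8220 F4280 (iv F5289) (iv D1272) (iv F718) D2855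
def n8221 : Q := act 0 n5282
theorem D8221 : act 0 n5282 = n8221 := rfl
theorem F8986 : act 2 n8221 = n7916 := d11_4 F3961 D4987 (iv F5006) D8221 (iv D7916) D7914 F8428
def n8222 : Q := act 3 n5282
theorem D8222 : act 3 n5282 = n8222 := rfl
theorem F8987 : act 1 n8222 = n5283 := d5_1 D8222 (iv D5283) D5282
theorem F8988 : act 2 n8222 = n7901 := d7_1 D8222 F8408 (iv F5006)
def n8223 : Q := act 4 n5282
theorem D8223 : act 4 n5282 = n8223 := rfl
theorem F8989 : act 1 n8223 = n5284 := d6_1 D8223 (iv D5284) D5282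
theorem F8990 : act 2 n8223 = n5389 := d8_1 D8223 (iv F8951) F8949 (iv D7927) F3961 D4987 (iv F5006)
theorem F8991 : act 3 n5288 = n8223 := d7_0 F8990 (iv D5389) (iv F4289)
def n8224 : Q := act 4 n5283
theorem D8224 : act 4 n5283 = n8224 := rfl
theorem F8992 : act 0 n8224 = n7180 := d3_1 D8224 (iv F8887) F8884
theorem F8993 : act 2 n8224 = n5378 := d8_1 D8224 (iv D5378) (iv F4277) D8220 F8985 (iv D5285) (iv F4279)
theorem F8994 : act 3 n8224 = n5289 := d9_1 D8224 (iv D5289) (iv D2806) D2807 (iv F4461) (iv D5284) D5283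
def n8225 : Q := act 3 n5286
theorem D8225 : act 3 n5286 = n8225 := rfl
theorem F8995 : act 1 n8225 = n7377 := d5_1 D8225 F8586 (iv F4282)
theorem F8996 : act 2 n8225 = n7880 := d7_1 D8225 (iv F8373) (iv F4283)
theorem F8997 : act 0 n8225 = n7897 := d10_1 D8225 (iv D7897) F3934 (iv F7105) (iv F1720) F1874 D5286
theorem F8998 : act 1 n7897 = n7818 := d16_9 F7615 (iv D4738) (iv D2462) F582 D1246 D2805 D5286 D8225 F8997 (iv D7818) F3890 (iv F7613)
theorem F8999 : act 4 n8225 = n7375 := d17_0 (iv D7375) (iv D4529) (iv D2303) (iv F1415) (iv F3482) F3484 D4743 F3740 D4904 D7818 (iv F8998) (iv F8997)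
def n8226 : Q := act 0 n5287
theorem D8226 : act 0 n5287 = n8226 := rfl
theorem F9000 : act 2 n8226 = n7919 := d10_2 D5287 D8226 (iv D7919) (iv D4978) (iv F3949) (iv F4283) (iv D5286)
def n8227 : Q := act 4 n5287
theorem D8227 : act 4 n5287 = n8227 := rfl
theorem F9001 : act 1 n8227 = n5289 := d6_1 D8227 (iv D5289) (iv F4285)
theorem F9002 : act 2 n8227 = n5388 := d17_4 F4894 (iv F3969) (iv F4286) D8227 F4371 (iv F4273) (iv F5747) (iv D4165) (iv D2036) (iv F1238) (iv F3050) (iv F4893)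
def n8228 : Q := act 4 n5293
theorem D8228 : act 4 n5293 = n8228 := rfl
theorem F9003 : act 0 n8228 = n5294 := d3_1 D8228 (iv D5294) D5293
theorem F9004 : act 1 n8228 = n5599 := d6_1 D8228 (iv D5599) (iv F4293)
def n8229 : Q := act 0 n5295
theorem D8229 : act 0 n5295 = n8229 := rfl
theorem F9005 : act 2 n8229 = n6106 := d11_4 (iv D2810) D2811 D5295 D8229 (iv D6106) (iv F4294) (iv D5293)
def n8230 : Q := act 3 n5295
theorem D8230 : act 3 n5295 = n8230 := rfl
theorem F9006 : act 1 n8230 = n5858 := d5_1 D8230 (iv F6109) F6108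
theorem F9007 : act 2 n8230 = n5296 := d7_1 D8230 (iv D5296) D5295
theorem F9008 : act 4 n8230 = n6062 := d9_2 F5940 D8230 F5982 F5981 (iv F4711) (iv F5371) (iv F5939)
def n8231 : Q := act 3 n5297
theorem D8231 : act 3 n5297 = n8231 := rfl
theorem F9009 : act 1 n8231 = n5617 := d5_1 D8231 F4640 (iv F4297)
theorem F9010 : act 2 n8231 = n5646 := d7_1 D8231 (iv D5646) (iv F4298)
theorem F9011 : act 0 n8231 = n5660 := d10_1 D8231 (iv D5660) (iv D3041) (iv D1378) D1377 (iv F1882) D5297
def n8232 : Q := act 4 n5297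
theorem D8232 : act 4 n5297 = n8232 := rfl
theorem F9012 : act 0 n8232 = n5298 := d3_1 D8232 (iv D5298) D5297
theorem F9013 : act 1 n8232 = n6004 := d6_1 D8232 (iv D6004) (iv F4297)
theorem F9014 : act 2 n8232 = n5653 := d11_2 (iv F4298) D8232 (iv D5653) (iv D3038) (iv D1376) D1374 D3033
def n8233 : Q := act 3 n5298
theorem D8233 : act 3 n5298 = n8233 := rfl
theorem F9015 : act 1 n8233 = n5299 := d5_1 D8233 (iv D5299) (iv F4299)
theorem F9016 : act 2 n8233 = n5678 := d7_1 D8233 (iv D5678) (iv F4300)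
def n8234 : Q := act 1 n5300
theorem D8234 : act 1 n5300 = n8234 := rfl
theorem F9017 : act 2 n8234 = n5765 := d4_2 D5300 D8234 F4881 D5768 F4889 (iv D5659) F2128
theorem F9018 : act 3 n8234 = n5331 := d5_2 (iv F4302) D8234 (iv D5331)
def n8235 : Q := act 0 n5301
theorem D8235 : act 0 n5301 = n8235 := rfl
def n8236 : Q := act 3 n5301
theorem D8236 : act 3 n5301 = n8236 := rfl
theorem F9019 : act 1 n8236 = n5302 := d5_1 D8236 (iv D5302) D5301
theorem F9020 : act 2 n8236 = n5855 := d7_1 D8236 (iv F5014) F4781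
def n8237 : Q := act 4 n5301
theorem D8237 : act 4 n5301 = n8237 := rfl
theorem F9021 : act 1 n8237 = n5303 := d6_1 D8237 (iv D5303) D5301
def n8238 : Q := act 0 n5305
theorem D8238 : act 0 n5305 = n8238 := rfl
def n8239 : Q := act 2 n5305
theorem D8239 : act 2 n5305 = n8239 := rfl
def n8240 : Q := act 3 n5305
theorem D8240 : act 3 n5305 = n8240 := rfl
theorem F9022 : act 1 n8240 = n5306 := d5_1 D8240 (iv D5306) D5305
def n8241 : Q := act 4 n5305
theorem D8241 : act 4 n5305 = n8241 := rfl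
theorem F9023 : act 1 n8241 = n5307 := d6_1 D8241 (iv D5307) D5305
def n8242 : Q := act 4 n5306
theorem D8242 : act 4 n5306 = n8242 := rfl
theorem F9024 : act 0 n8242 = n6769 := d3_1 D8242 F8919 F8917
theorem F9025 : act 2 n8242 = n5357 := d8_1 D8242 (iv D5357) F1914 D2847 (iv F5311) (iv D5348) (iv F4306)
theorem F9026 : act 3 n8242 = n5323 := d12_2 D5306 D8242 F4325 (iv F4442) (iv D5312) (iv D2819) D2817
def n8243 : Q := act 3 n5307
theorem D8243 : act 3 n5307 = n8243 := rfl
theorem F9027 : act 0 n8243 = n6652 := d2_1 D8243 F8925 F8922 F4445 F1848 F4436 (iv F4307)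
theorem F9028 : act 2 n8243 = n5350 := d7_1 D8243 F4453 (iv F4308)
theorem F9029 : act 4 n8243 = n5322 := d9_2 D5307 D8243 (iv D5322) D5323 (iv F9026) (iv D8242) (iv D5306)
def n8244 : Q := act 2 n5308
theorem D8244 : act 2 n5308 = n8244 := rfl
theorem F9030 : act 4 n8244 = n6680 := d8_2 (iv F4439) D8244 (iv D6680) (iv D3853) D3851 D6678 F6302
def n8245 : Q := act 3 n5308
theorem D8245 : act 3 n5308 = n8245 := rfl
theorem F9031 : act 4 n8245 = n6750 := d12_1 D8245 (iv D6750) (iv D3915) (iv F2890) F5738 (iv D5310) D5308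
def n8246 : Q := act 0 n5309
theorem D8246 : act 0 n5309 = n8246 := rfl
theorem F9032 : act 4 n8246 = n6663 := d3_2 F4440 D8246 F6268
theorem F9033 : act 2 n8246 = n6672 := d11_4 D1855 (iv F4438) D5309 D8246 (iv D6672) (iv D3848) F1102
def n8247 : Q := act 3 n5309
theorem D8247 : act 3 n5309 = n8247 := rfl
theorem F9034 : act 1 n8247 = n6395 := d5_1 D8247 (iv D6395) (iv F4309)
theorem F9035 : act 2 n8247 = n5310 := d7_1 D8247 (iv D5310) D5309
theorem F9036 : act 4 n8247 = n6686 := d9_2 F4440 D8247 F6309 F5737 (iv D5318) F1896 (iv F4844)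
def n8248 : Q := act 0 n5310
theorem D8248 : act 0 n5310 = n8248 := rfl
theorem F9037 : act 4 n8248 = n6691 := d3_2 F5738 D8248 (iv D6691)
theorem F9038 : act 3 n8248 = n6751 := d12_4 (iv F2042) (iv F4438) D5310 D8248 (iv D6751) (iv D3918) (iv D1885)
theorem F9039 : act 1 n8248 = n8044 := d17_7 D544 (iv F719) F5289 (iv D2821) (iv F1889) (iv F4310) D8248 F8673 (iv D5122) F1793 F659 F239
def n8249 : Q := act 3 n5315
theorem D8249 : act 3 n5315 = n8249 := rfl
theorem F9040 : act 1 n8249 = n8099 := d5_1 D8249 (iv F8778) (iv F4314)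
theorem F9041 : act 2 n8249 = n5316 := d7_1 D8249 (iv D5316) D5315
theorem F9042 : act 4 n6729 = n8249 := d8_0 F9041 F6326 (iv F6403) (iv D6727) F2924 D3895 D6729
def n8250 : Q := act 3 n5317
theorem D8250 : act 3 n5317 = n8250 := rfl
theorem F9043 : act 1 n8250 = n7739 := d5_1 D8250 F8129 (iv F4319)
theorem F9044 : act 2 n8250 = n6714 := d7_1 D8250 F7157 (iv F4318)
theorem F9045 : act 4 n6704 = n8250 := d8_0 F9044 (iv D6714) (iv D3884) (iv D1868) (iv F1115) D3878 D6704
def n8251 : Q := act 0 n5318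
theorem D8251 : act 0 n5318 = n8251 := rfl
theorem F9046 : act 4 n8251 = n6739 := d3_2 F5737 D8251 (iv D6739)
theorem F9047 : act 2 n8251 = n6748 := d11_4 D1883 (iv F5735) (iv F4321) D8251 (iv D6748) (iv D3914) F1120
def n8252 : Q := act 2 n5319
theorem D8252 : act 2 n5319 = n8252 := rfl
theorem F9048 : act 4 n8252 = n6738 := d8_2 F5736 D8252 (iv D6738) (iv D3901) D3899 D6737 F6414
def n8253 : Q := act 3 n5319
theorem D8253 : act 3 n5319 = n8253 := rfl
theorem F9049 : act 4 n8253 = n6692 := d9_2 F5736 D8253 (iv D6692) (iv F4439) D8245 F9031 (iv D6750)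
def n8254 : Q := act 0 n5321
theorem D8254 : act 0 n5321 = n8254 := rfl
def n8255 : Q := act 2 n5321
theorem D8255 : act 2 n5321 = n8255 := rfl
def n8256 : Q := act 3 n5321
theorem D8256 : act 3 n5321 = n8256 := rfl
theorem F9050 : act 1 n8256 = n5322 := d5_1 D8256 (iv D5322) D5321
def n8257 : Q := act 4 n5321
theorem D8257 : act 4 n5321 = n8257 := rfl
theorem F9051 : act 1 n8257 = n5323 := d6_1 D8257 (iv D5323) D5321
def n8258 : Q := act 2 n5328
theorem D8258 : act 2 n5328 = n8258 := rfl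
theorem F9052 : act 4 n8258 = n6753 := d11_1 D8258 F6449 (iv D6474) D6475 F5981 (iv D5329) D5328
theorem F9053 : act 1 n6755 = n8258 := d6_3 F9052 (iv D6753) D6755
def n8259 : Q := act 0 n5329
theorem D8259 : act 0 n5329 = n8259 := rfl
def n8260 : Q := act 2 n5330
theorem D8260 : act 2 n5330 = n8260 := rfl
theorem F9054 : act 4 n8260 = n8233 := d8_2 D5330 D8260 F9016 (iv F4741) D6475 F5981 (iv D5329)
theorem F9055 : act 1 n8260 = n6792 := d14_2 (iv F4328) D8260 (iv D6792) (iv D3950) (iv D1911) F431 F144 (iv F125) F5279 (iv F710) (iv F1900)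
def n8261 : Q := act 0 n5331
theorem D8261 : act 0 n5331 = n8261 := rfl
def n8262 : Q := act 4 n5331
theorem D8262 : act 4 n5331 = n8262 := rfl
theorem F9056 : act 1 n8262 = n5332 := d6_1 D8262 (iv D5332) D5331
def n8263 : Q := act 1 n5333
theorem D8263 : act 1 n5333 = n8263 := rfl
theorem F9057 : act 2 n8263 = n5914 := d4_2 D5333 D8263 (iv F5789) (iv F6509) (iv F9055) (iv D8260) F4328
theorem F9058 : act 3 n8263 = n8260 := d5_2 F6510 D8263 F9055
theorem F9059 : act 4 n8263 = n5412 := d6_2 (iv F5284) D8263 (iv D5412)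
def n8264 : Q := act 4 n5339
theorem D8264 : act 4 n5339 = n8264 := rfl
theorem F9060 : act 1 n8264 = n5449 := d6_1 D8264 (iv D5449) (iv F4333)
theorem F9061 : act 2 n8264 = n7670 := d8_1 D8264 (iv D7670) D7669 F7985 F5027 D7937 (iv F8455)
theorem F9062 : act 3 n8264 = n5427 := d9_1 D8264 (iv D5427) (iv F4330) (iv D5337) (iv D2832) D2833 D5339
def n8265 : Q := act 4 n5342
theorem D8265 : act 4 n5342 = n8265 := rfl
theorem F9063 : act 0 n8265 = n6090 := d3_1 D8265 (iv D6090) (iv F4338)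
theorem F9064 : act 1 n8265 = n5344 := d6_1 D8265 (iv D5344) D5342
def n8266 : Q := act 4 n5343
theorem D8266 : act 4 n5343 = n8266 := rfl
theorem F9065 : act 0 n8266 = n7807 := d3_1 D8266 (iv D7807) (iv F4343)
theorem F9066 : act 1 n8266 = n7473 := d6_1 D8266 (iv D7473) (iv F4341)
def n8267 : Q := act 3 n5344
theorem D8267 : act 3 n5344 = n8267 := rfl
def n8268 : Q := act 4 n5347
theorem D8268 : act 4 n5347 = n8268 := rfl
theorem F9067 : act 0 n8268 = n6494 := d3_1 D8268 (iv F7396) F7397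
theorem F9068 : act 1 n8268 = n5348 := d6_1 D8268 (iv D5348) (iv F4348)
theorem F9069 : act 3 n8268 = n5434 := d9_1 D8268 (iv F8893) F8892 (iv D5345) (iv F1910) D2839 D5347
theorem F9070 : act 2 n8268 = n5434 := d17_4 D3171 (iv F5033) F5035 D8268 (iv D5434) (iv F5307) F4215 F5309 (iv D1595) (iv F892) (iv F2244) F2246
def n8269 : Q := act 4 n5349
theorem D8269 : act 4 n5349 = n8269 := rfl
theorem F9071 : act 0 n8269 = n7132 := d3_1 D8269 F7061 F5924
theorem F9072 : act 1 n8269 = n5350 := d6_1 D8269 (iv D5350) D5349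
theorem F9073 : act 2 n8269 = n5356 := d17_4 (iv D5763) D5761 F4872 D8269 F4352 (iv F4443) F4263 (iv D3396) (iv D1600) D1598 (iv F2413) (iv F4876)
theorem F9074 : act 3 n5356 = n8269 := d5_0 F9072 F4453 (iv F4352)
def n8270 : Q := act 2 n5351
theorem D8270 : act 2 n5351 = n8270 := rfl
theorem F9075 : act 1 n8270 = n6017 := d4_1 D8270 (iv D6017) (iv D3284) (iv D1542) (iv F858) (iv F1913) D5351
theorem F9076 : act 4 n8270 = n6138 := d8_2 (iv F4450) D8270 (iv D6138) (iv D3393) (iv D1598) D1600 D3396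
def n8271 : Q := act 1 n5353
theorem D8271 : act 1 n5353 = n8271 := rfl
def n8272 : Q := act 3 n5353
theorem D8272 : act 3 n5353 = n8272 := rfl
theorem F9077 : act 2 n8272 = n7648 := d7_1 D8272 F7954 F6768
theorem F9078 : act 0 n8272 = n7813 := d16_8 D5104 F4095 (iv D2836) F714 D1266 D2844 D5353 D8272 (iv D7813) (iv D4902) (iv F3886) F3885
def n8273 : Q := act 4 n5353
theorem D8273 : act 4 n5353 = n8273 := rfl
theorem F9079 : act 0 n8273 = n5356 := d3_1 D8273 (iv D5356) D5353
def n8274 : Q := act 4 n5355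
theorem D8274 : act 4 n5355 = n8274 := rfl
theorem F9080 : act 0 n8274 = n7312 := d3_1 D8274 F7400 (iv F6769)
theorem F9081 : act 1 n8274 = n5357 := d6_1 D8274 (iv D5357) (iv F4351)
theorem F9082 : act 3 n8274 = n5431 := d9_1 D8274 (iv D5431) (iv F4349) D8269 (iv F9074) (iv D5356) D5355
theorem F9083 : act 2 n8274 = n5431 := d17_4 (iv D5867) D5866 F5039 D8274 F4413 (iv F4262) F5306 (iv D3419) (iv D1612) (iv F909) (iv F2423) (iv F5041)
def n8275 : Q := act 1 n5360
theorem D8275 : act 1 n5360 = n8275 := rfl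
theorem F9084 : act 0 n8275 = n5366 := d0_1 D8275 (iv D5366) (iv D2851) (iv D1269) D1268 D2848 D5360
theorem F9085 : act 4 n5583 = n8275 := d17_0 (iv D8275) F4775 (iv D4008) D4006 (iv F3196) (iv D4234) (iv D2070) D2071 D4239 F3202 D4265 (iv F4588)
def n8276 : Q := act 3 n5360
theorem D8276 : act 3 n5360 = n8276 := rfl
theorem F9086 : act 2 n8276 = n6841 := d7_1 D8276 F6607 (iv F4775)
def n8277 : Q := act 4 n5360
theorem D8277 : act 4 n5360 = n8277 := rfl
theorem F9087 : act 0 n8277 = n5363 := d3_1 D8277 (iv D5363) D5360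
theorem F9088 : act 1 n8277 = n5583 := d6_1 D8277 F9085 (iv D8275)
def n8278 : Q := act 0 n5361
theorem D8278 : act 0 n5361 = n8278 := rfl
def n8279 : Q := act 3 n5361
theorem D8279 : act 3 n5361 = n8279 := rfl
theorem F9089 : act 1 n8279 = n5857 := d5_1 D8279 F6922 F6920
theorem F9090 : act 2 n8279 = n5362 := d7_1 D8279 (iv D5362) D5361
theorem F9091 : act 4 n5856 = n8279 := d11_1 (iv F5017) F9090 (iv F4776) (iv D3210) (iv D1493) D1492 D3208
def n8280 : Q := act 4 n5362
theorem D8280 : act 4 n5362 = n8280 := rfl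
theorem F9092 : act 0 n8280 = n5911 := d3_1 D8280 (iv D5911) F4776
theorem F9093 : act 1 n8280 = n5364 := d6_1 D8280 (iv D5364) (iv F4354)
theorem F9094 : act 2 n8280 = n8262 := d8_1 D8280 (iv D8262) F5109 (iv D5908) (iv F5017) F9091 F9090
theorem F9095 : act 3 n5411 = n8280 := d5_0 F9093 F4455 (iv F4395)
def n8281 : Q := act 2 n5363
theorem D8281 : act 2 n5363 = n8281 := rfl
theorem F9096 : act 4 n8281 = n8234 := d8_2 D5363 D8281 F9017 (iv D5765) D5764 F4880 (iv D5361)
theorem F9097 : act 1 n8281 = n7098 := d14_2 (iv F4355) D8281 (iv D7098) (iv D4202) (iv D2054) F461 F161 (iv F163) D886 F4423 (iv F1916)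
theorem F9098 : act 3 n8237 = n8281 := d5_0 F9097 F6973 (iv F9021)
def n8282 : Q := act 3 n5363
theorem D8282 : act 3 n5363 = n8282 := rfl
theorem F9099 : act 1 n8282 = n5365 := d5_1 D8282 (iv D5365) (iv F4355)
theorem F9100 : act 2 n8282 = n8237 := d7_1 D8282 F9098 (iv D8281)
theorem F9101 : act 4 n8282 = n5410 := d9_2 D5363 D8282 (iv D5410) D5411 F9095 (iv D8280) (iv D5362)
theorem F9102 : act 0 n8282 = n5613 := d16_8 D3002 F2034 (iv D2989) (iv F2019) D5583 (iv F9088) F9087 D8282 (iv D5613) (iv D3007) F764 (iv F758)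
def n8283 : Q := act 3 n5366
theorem D8283 : act 3 n5366 = n8283 := rfl
theorem F9103 : act 1 n8283 = n5368 := d5_1 D8283 (iv D5368) D5366
theorem F9104 : act 2 n8283 = n8066 := d7_1 D8283 F8709 F5826
theorem F9105 : act 4 n7316 = n8283 := d8_0 F9104 F8713 (iv D6367) (iv D3584) (iv F2645) D6365 F7406
theorem F9106 : act 0 n7483 = n8283 := d11_7 F9104 F8713 (iv D6367) (iv F3599) D7477 F8122 F8121
def n8284 : Q := act 1 n5370
theorem D8284 : act 1 n5370 = n8284 := rfl
theorem F9107 : act 4 n8284 = n7120 := d6_2 (iv F4463) D8284 (iv D7120)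
def n8285 : Q := act 3 n5370
theorem D8285 : act 3 n5370 = n8285 := rfl
theorem F9108 : act 2 n8285 = n7128 := d7_1 D8285 F7334 F4466
theorem F9109 : act 0 n8285 = n7722 := d10_1 D8285 F8112 (iv F4357) (iv D5368) (iv D2851) D2852 D5370
theorem F9110 : act 4 n8285 = n7119 := d12_1 D8285 F7035 (iv D4423) (iv F4841) F5741 (iv D5371) D5370
def n8286 : Q := act 0 n5371
theorem D8286 : act 0 n5371 = n8286 := rfl
theorem F9111 : act 4 n8286 = n7155 := d3_2 F5741 D8286 (iv D7155)
theorem F9112 : act 2 n8286 = n7165 := d11_4 D2082 (iv F5733) (iv F4360) D8286 (iv D7165) (iv D4261) F1258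
theorem F9113 : act 3 n8286 = n7267 := d12_4 F4843 F4430 D5371 D8286 (iv D7267) (iv D4380) F1324
def n8287 : Q := act 1 n5373
theorem D8287 : act 1 n5373 = n8287 := rfl
theorem F9114 : act 0 n8287 = n7421 := d0_1 D8287 F7552 (iv F8525) (iv D5377) (iv D2855) (iv F1918) D5373
theorem F9115 : act 3 n8287 = n7317 := d5_2 (iv F4469) D8287 F7408
theorem F9116 : act 4 n8287 = n7166 := d6_2 F5726 D8287 (iv D7166)
def n8288 : Q := act 2 n5373
theorem D8288 : act 2 n5373 = n8288 := rfl
theorem F9117 : act 3 n8288 = n6356 := d7_2 (iv F4469) D8288 (iv F7112)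
theorem F9118 : act 4 n8288 = n6352 := d8_2 F5726 D8288 F5801 (iv D4246) D4244 D7154 F7115
theorem F9119 : act 0 n8288 = n7547 := d10_3 D2853 D5373 D8288 (iv D7547) (iv F4356) (iv D5367) (iv D2851)
theorem F9120 : act 1 n6353 = n8288 := d14_2 F5955 (iv F5802) F9119 F7763 F3666 F1500 F567 (iv F584) (iv F1583) (iv F3763) (iv F5954)
def n8289 : Q := act 2 n5377
theorem D8289 : act 2 n5377 = n8289 := rfl
theorem F9121 : act 3 n8289 = n7927 := d7_2 F8950 D8289 (iv F8949)
theorem F9122 : act 4 n8289 = n7899 := d11_1 D8289 (iv D7899) (iv D4954) F1697 D2593 D4962 (iv F8525)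
def n8290 : Q := act 4 n5377
theorem D8290 : act 4 n5377 = n8290 := rfl
theorem F9123 : act 0 n8290 = n7420 := d3_1 D8290 F7553 (iv F8525)
theorem F9124 : act 1 n8290 = n5378 := d6_1 D8290 (iv D5378) D5377
theorem F9125 : act 3 n8290 = n5388 := d9_1 D8290 (iv D5388) (iv D2860) D2861 D5389 (iv F8951) F8950
def n8291 : Q := act 3 n5385
theorem D8291 : act 3 n5385 = n8291 := rfl
theorem F9126 : act 1 n8291 = n7517 := d5_1 D8291 (iv D7517) (iv F4366)
theorem F9127 : act 2 n8291 = n7887 := d7_1 D8291 F8384 (iv F4367)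
theorem F9128 : act 0 n8291 = n7895 := d10_1 D8291 F8398 (iv D4963) F1700 (iv F1438) D2859 D5385
theorem F9129 : act 4 n7878 = n8291 := d3_0 F9128 (iv D7895) (iv F8366)
def n8292 : Q := act 0 n5386
theorem D8292 : act 0 n5386 = n8292 := rfl
theorem F9130 : act 2 n8292 = n7924 := d1_2 (iv F4369) D8292 (iv D7924) F3956 D4985 (iv F4370) (iv D5387)
def n8293 : Q := act 4 n5386
theorem D8293 : act 4 n5386 = n8293 := rfl
theorem F9131 : act 1 n8293 = n7073 := d6_1 D8293 (iv F6925) F5002
theorem F9132 : act 2 n8293 = n7900 := d8_1 D8293 F8405 (iv F4286) D8227 F9002 (iv D5388) (iv F4369)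
theorem F9133 : act 3 n8293 = n7899 := d9_1 D8293 (iv F9122) F9121 (iv D7927) (iv D4986) (iv F1921) D5386
def n8294 : Q := act 1 n5387
theorem D8294 : act 1 n5387 = n8294 := rfl
def n8295 : Q := act 3 n5387
theorem D8295 : act 3 n5387 = n8295 := rfl
theorem F9134 : act 0 n8295 = n7908 := d2_1 D8295 (iv D7908) (iv D4963) F1700 (iv F1438) D2860 D5387
theorem F9135 : act 2 n8295 = n7538 := d7_1 D8295 F7750 (iv F4370)
def n8296 : Q := act 4 n5387
theorem D8296 : act 4 n5387 = n8296 := rfl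
theorem F9136 : act 0 n8296 = n5388 := d3_1 D8296 (iv D5388) D5387
theorem F9137 : act 1 n7482 = n8296 := d16_5 (iv D2309) (iv F541) D2368 (iv F3603) (iv F7643) F9136 (iv F9125) F9123 F7550 F3524 F1434 (iv F1422)
theorem F9138 : act 3 n8296 = n7481 := d16_2 F9125 (iv F9136) (iv D7481) (iv D4620) F1467 F541 D2309 F1422 (iv F1434) (iv F3524) (iv F7550) (iv F9123)
theorem F9139 : act 4 n8294 = n7482 := d6_0 F9137 (iv D8296) D8294
def n8297 : Q := act 0 n5389
theorem D8297 : act 0 n5389 = n8297 := rfl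
theorem F9140 : act 4 n8297 = n7921 := d3_2 F8951 D8297 (iv F8952)
theorem F9141 : act 1 n8297 = n7480 := d16_9 F1446 (iv D1006) (iv D403) (iv F183) D997 D2326 (iv F1923) D5389 D8297 (iv D7480) F3601 F1468
def n8298 : Q := act 0 n5394
theorem D8298 : act 0 n5394 = n8298 := rfl
theorem F9142 : act 4 n8298 = n5610 := d3_2 F5720 D8298 (iv F5718)
theorem F9143 : act 3 n8298 = n5615 := d12_4 (iv D4455) (iv F1926) D5394 D8298 (iv D5615) D5614 F4634
theorem F9144 : act 1 n8298 = n5695 := d14_4 (iv F4379) F4380 (iv F4378) D8298 (iv D5695) F2137 (iv F1694) (iv F3920) (iv F8356) F8355 F5602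
def n8299 : Q := act 2 n5396
theorem D8299 : act 2 n5396 = n8299 := rfl
theorem F9145 : act 0 n8299 = n5399 := d1_1 D8299 (iv F7119) (iv F7323) (iv F8034) F8032 F4380 D5396
theorem F9146 : act 1 n8299 = n7765 := d4_1 D8299 F8152 F3849 F1636 (iv F1674) D4910 (iv F4383)
theorem F9147 : act 3 n8299 = n7764 := d7_2 (iv F4382) D8299 F8151
theorem F9148 : act 4 n8299 = n7261 := d8_2 F5722 D8299 F7307 (iv D4387) (iv D2164) D2166 D4388
def n8300 : Q := act 3 n5398
theorem D8300 : act 3 n5398 = n8300 := rfl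
theorem F9149 : act 1 n8300 = n5399 := d5_1 D8300 (iv D5399) D5398
theorem F9150 : act 4 n7262 = n8300 := d6_0 F9149 F7118 D7262
def n8301 : Q := act 1 n5400
theorem D8301 : act 1 n5400 = n8301 := rfl
theorem F9151 : act 4 n8301 = n7302 := d6_2 (iv F5753) D8301 (iv D7302)
def n8302 : Q := act 3 n5400
theorem D8302 : act 3 n5400 = n8302 := rfl
theorem F9152 : act 0 n8302 = n7764 := d2_1 D8302 (iv F9147) F9145 (iv D5399) (iv D2867) D2868 D5400
theorem F9153 : act 2 n8302 = n7136 := d7_1 D8302 (iv F7333) F5760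
theorem F9154 : act 4 n8302 = n7121 := d9_2 (iv F5753) D8302 (iv D7121) (iv F4463) D8285 F9110 F7035
def n8303 : Q := act 0 n5402
theorem D8303 : act 0 n5402 = n8303 := rfl
theorem F9155 : act 1 n8303 = n5408 := d0_2 D5402 D8303 (iv D5408) (iv D2871) (iv D1280) (iv F723) D2869
theorem F9156 : act 4 n8303 = n7314 := d3_2 (iv F5761) D8303 (iv D7314)
def n8304 : Q := act 3 n5402
theorem D8304 : act 3 n5402 = n8304 := rfl
theorem F9157 : act 1 n8304 = n5404 := d5_1 D8304 (iv D5404) D5402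
theorem F9158 : act 2 n8304 = n8081 := d7_1 D8304 F8743 F5874
theorem F9159 : act 4 n8304 = n7167 := d9_2 (iv F5761) D8304 (iv D7167) (iv F4467) D8283 (iv F9105) (iv D7316)
def n8305 : Q := act 1 n5403
theorem D8305 : act 1 n5403 = n8305 := rfl
theorem F9160 : act 2 n8305 = n6179 := d4_2 D5403 D8305 (iv F7976) F7977 (iv F5873) F5874 (iv D5402)
theorem F9161 : act 4 n8305 = n7301 := d6_2 (iv F5754) D8305 (iv D7301)
def n8306 : Q := act 3 n5408
theorem D8306 : act 3 n5408 = n8306 := rfl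
theorem F9162 : act 2 n8306 = n6849 := d7_1 D8306 F6626 F5756
def n8307 : Q := act 4 n5408
theorem D8307 : act 4 n5408 = n8307 := rfl
theorem F9163 : act 0 n8307 = n5411 := d3_1 D8307 (iv D5411) D5408
theorem F9164 : act 1 n8307 = n7314 := d6_1 D8307 (iv F9156) F9155
def n8308 : Q := act 0 n5409
theorem D8308 : act 0 n5409 = n8308 := rfl
def n8309 : Q := act 3 n5409
theorem D8309 : act 3 n5409 = n8309 := rfl
theorem F9165 : act 1 n8309 = n5766 := d5_1 D8309 (iv F7423) F7421
theorem F9166 : act 2 n8309 = n5410 := d7_1 D8309 (iv D5410) D5409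
theorem F9167 : act 4 n8309 = n5709 := d9_2 (iv F5755) D8309 (iv F4879) F4880 D8279 (iv F9091) F5018
def n8310 : Q := act 2 n5411
theorem D8310 : act 2 n5411 = n8310 := rfl
theorem F9168 : act 1 n8310 = n7336 := d4_1 D8310 F7428 (iv F9093) F9094 F9056 F5303 (iv F4395)
theorem F9169 : act 3 n8310 = n8262 := d7_2 (iv F9095) D8310 (iv F9094)
theorem F9170 : act 4 n8310 = n8236 := d8_2 D5411 D8310 F9020 (iv D5855) D5854 (iv F5755) (iv D5409)
def n8311 : Q := act 0 n5412
theorem D8311 : act 0 n5412 = n8311 := rfl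
theorem F9171 : act 1 n8311 = n6025 := d0_2 D5412 D8311 (iv D6025) (iv D3293) (iv D1547) (iv F859) (iv F1937)
def n8312 : Q := act 0 n5426
theorem D8312 : act 0 n5426 = n8312 := rfl
theorem F9172 : act 1 n8312 = n5708 := d0_2 F4409 D8312 F4778 F3454 (iv F3453) (iv F7413) F7412
theorem F9173 : act 2 n8312 = n7549 := d1_2 D5426 D8312 (iv D7549) (iv F4412) (iv D5428) (iv D2880) D2879
theorem F9174 : act 3 n8312 = n5701 := d2_2 (iv F8318) D8312 (iv F8419) F8420 F4133 F3928 (iv F8315)
theorem F9175 : act 4 n8312 = n5901 := d3_2 (iv F4408) D8312 F5094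
def n8313 : Q := act 1 n5429
theorem D8313 : act 1 n5429 = n8313 := rfl
def n8314 : Q := act 2 n5429
theorem D8314 : act 2 n5429 = n8314 := rfl
def n8315 : Q := act 3 n5429
theorem D8315 : act 3 n5429 = n8315 := rfl
theorem F9176 : act 0 n8315 = n8148 := d16_8 F4092 F4090 (iv F1906) (iv D1283) D1284 D2882 D5429 D8315 (iv D8148) (iv D5196) (iv F4132) (iv D5144)
def n8316 : Q := act 4 n5429
theorem D8316 : act 4 n5429 = n8316 := rfl
theorem F9177 : act 0 n8316 = n5431 := d3_1 D8316 (iv D5431) D5429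
def n8317 : Q := act 0 n5434
theorem D8317 : act 0 n5434 = n8317 := rfl
def n8318 : Q := act 2 n5440
theorem D8318 : act 2 n5440 = n8318 := rfl
theorem F9178 : act 0 n8318 = n5450 := d1_1 D8318 (iv D5450) F1951 D2901 (iv F4421) (iv D5441) (iv F4419)
def n8319 : Q := act 1 n5441
theorem D8319 : act 1 n5441 = n8319 := rfl
theorem F9179 : act 0 n8319 = n8241 := d0_1 D8319 F9023 F4307 (iv F4435) D3863 (iv F4422) (iv F4421)
theorem F9180 : act 2 n8319 = n7063 := d4_2 D5441 D8319 (iv D7063) (iv D4183) (iv F3135) F3136 F2681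
theorem F9181 : act 4 n8238 = n8319 := d17_0 (iv D8319) (iv D5441) (iv D2889) (iv D1287) (iv F711) (iv D1259) (iv D518) D519 D1264 (iv F1888) D5305 D8238
def n8320 : Q := act 4 n5441
theorem D8320 : act 4 n5441 = n8320 := rfl
theorem F9182 : act 0 n8320 = n5462 := d3_1 D8320 (iv D5462) (iv F4421)
theorem F9183 : act 1 n8320 = n8238 := d6_1 D8320 F9181 (iv D8319)
theorem F9184 : act 2 n8320 = n5447 := d8_1 D8320 (iv D5447) (iv D2892) (iv D1289) D1287 D2889 D5441
theorem F9185 : act 2 n8238 = n6513 := d17_2 D8320 F9183 (iv D6513) D6511 (iv F6289) (iv D6674) (iv D3850) D3851 D6678 F6302 (iv F4422) (iv F4421)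
def n8321 : Q := act 2 n5442
theorem D8321 : act 2 n5442 = n8321 := rfl
theorem F9186 : act 0 n8321 = n5560 := d1_1 D8321 F5251 F5248 D7431 F7568 (iv D5443) (iv F4470)
theorem F9187 : act 3 n8321 = n6889 := d7_2 (iv F4472) D8321 (iv D6889)
def n8322 : Q := act 1 n5443
theorem D8322 : act 1 n5443 = n8322 := rfl
theorem F9188 : act 3 n8322 = n5556 := d5_2 (iv F4473) D8322 (iv D5556)
def n8323 : Q := act 4 n5443
theorem D8323 : act 4 n5443 = n8323 := rfl
def n8324 : Q := act 1 n5444
theorem D8324 : act 1 n5444 = n8324 := rfl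
theorem F9189 : act 0 n8324 = n5510 := d13_3 D2892 D5444 D8324 (iv D5510) (iv D2929) (iv D1309) (iv D540) (iv D206) (iv F89) (iv F258) (iv F726)
def n8325 : Q := act 3 n5444
theorem D8325 : act 3 n5444 = n8325 := rfl
theorem F9190 : act 0 n8325 = n5480 := d10_1 D8325 (iv D5480) (iv D2910) (iv D1297) (iv F726) D2892 D5444
def n8326 : Q := act 4 n5444
theorem D8326 : act 4 n5444 = n8326 := rfl
theorem F9191 : act 0 n8326 = n5447 := d3_1 D8326 (iv D5447) D5444
def n8327 : Q := act 0 n5445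
theorem D8327 : act 0 n5445 = n8327 := rfl
theorem F9192 : act 3 n8327 = n8056 := d16_7 D7804 F8245 (iv D5339) F1904 D2892 D5445 D8327 (iv D8056) (iv D5110) (iv D2699) (iv F1784) (iv F3885)
def n8328 : Q := act 2 n5445
theorem D8328 : act 2 n5445 = n8328 := rfl
theorem F9193 : act 1 n8328 = n7057 := d4_1 D8328 (iv D7057) F4332 (iv D5338) F1904 D2892 D5445
theorem F9194 : act 0 n8284 = n8328 := d0_7 F9193 F6907 F4441 (iv D2937) (iv F1917) D5370 D8284
def n8329 : Q := act 3 n5445
theorem D8329 : act 3 n5445 = n8329 := rfl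
theorem F9195 : act 1 n8329 = n5446 := d5_1 D8329 (iv D5446) D5445
def n8330 : Q := act 4 n5445
theorem D8330 : act 4 n5445 = n8330 := rfl
theorem F9196 : act 1 n8330 = n5447 := d6_1 D8330 (iv D5447) D5445
theorem F9197 : act 2 n8330 = n6386 := d17_10 (iv D3773) D3771 D6540 F6081 (iv D5520) (iv F4441) (iv F6907) (iv F9193) (iv D8328) D8330 (iv F6017) F6016
def n8331 : Q := act 0 n5446
theorem D8331 : act 0 n5446 = n8331 := rfl
def n8332 : Q := act 4 n5446
theorem D8332 : act 4 n5446 = n8332 := rfl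
def n8333 : Q := act 3 n5447
theorem D8333 : act 3 n5447 = n8333 := rfl
def n8334 : Q := act 2 n5448
theorem D8334 : act 2 n5448 = n8334 := rfl
theorem F9198 : act 3 n8334 = n6872 := d7_2 (iv F4475) D8334 (iv D6872)
theorem F9199 : act 0 n8334 = n5471 := d10_3 D2893 D5448 D8334 (iv D5471) (iv D2906) (iv D1296) (iv F726)
def n8335 : Q := act 4 n5448
theorem D8335 : act 4 n5448 = n8335 := rfl
theorem F9200 : act 0 n8335 = n5449 := d3_1 D8335 (iv D5449) D5448
theorem F9201 : act 1 n8335 = n6880 := d6_1 D8335 (iv D6880) F4476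
theorem F9202 : act 3 n8335 = n6890 := d9_1 D8335 (iv D6890) (iv F4472) (iv D5442) (iv F1947) D4032 (iv F4475)
def n8336 : Q := act 4 n5450
theorem D8336 : act 4 n5450 = n8336 := rfl
theorem F9203 : act 1 n8336 = n7249 := d6_1 D8336 (iv D7249) (iv F4478)
theorem F9204 : act 2 n8336 = n5472 := d8_1 D8336 (iv D5472) (iv F2375) (iv D3277) F860 D2894 D5450
def n8337 : Q := act 2 n5452
theorem D8337 : act 2 n5452 = n8337 := rfl
theorem F9205 : act 3 n8337 = n6346 := d7_2 F7509 D8337 (iv F7508)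
theorem F9206 : act 0 n8337 = n6948 := d10_3 F8626 F4624 D8337 (iv F7538) F7539 F5775 D8027
theorem F9207 : act 1 n5748 = n8337 := d17_1 D5748 (iv D8337) (iv D5452) (iv D2896) (iv D1291) D1290 (iv F1773) F1772 D3755 (iv F4130) (iv F4809) (iv D5745)
theorem F9208 : act 1 n5490 = n6680 := d4_5 F6300 F9207 (iv D8337) F4482 D5490 (iv D6680) (iv F6299)
theorem F9209 : act 4 n8337 = n5746 := d6_2 D5748 F9207 (iv D5746)
def n8338 : Q := act 3 n5453
theorem D8338 : act 3 n5453 = n8338 := rfl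
theorem F9210 : act 0 n8338 = n8029 := d2_1 D8338 (iv D8029) F4057 D5078 (iv F5763) (iv D6335) (iv F4483)
theorem F9211 : act 1 n8338 = n5460 := d5_1 D8338 (iv D5460) (iv F4484)
theorem F9212 : act 4 n5568 = n8338 := d6_0 F9211 F6444 D5568
def n8339 : Q := act 4 n5454
theorem D8339 : act 4 n5454 = n8339 := rfl
theorem F9213 : act 1 n8339 = n5509 := d6_1 D8339 (iv F6219) F6220
theorem F9214 : act 2 n8339 = n5746 := d8_1 D8339 (iv F9209) (iv D8337) (iv D5452) (iv D2896) D2898 D5454
def n8340 : Q := act 4 n5455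
theorem D8340 : act 4 n5455 = n8340 := rfl
theorem F9215 : act 0 n8340 = n6336 := d3_1 D8340 (iv D6336) (iv F4485)
theorem F9216 : act 1 n8340 = n5464 := d6_1 D8340 (iv D5464) (iv F4486)
theorem F9217 : act 3 n8340 = n5568 := d9_1 D8340 F9212 (iv D8338) (iv D5453) (iv D2897) D2898 D5455
def n8341 : Q := act 4 n5456
theorem D8341 : act 4 n5456 = n8341 := rfl
theorem F9218 : act 1 n8341 = n6533 := d6_1 D8341 (iv D6533) F4487
theorem F9219 : act 2 n8341 = n5467 := d11_2 D5456 D8341 (iv D5467) (iv D2905) (iv D1295) (iv F727) D2899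
theorem F9220 : act 3 n8341 = n6544 := d12_2 (iv F4488) D8341 (iv F7892) (iv D7432) (iv D4577) D4576 (iv F3536)
def n8342 : Q := act 4 n5457
theorem D8342 : act 4 n5457 = n8342 := rfl
theorem F9221 : act 0 n8342 = n6871 := d3_1 D8342 (iv D6871) (iv F4492)
theorem F9222 : act 1 n8342 = n8342 := d6_1 D8342 (iv D8342) F4493
theorem F9223 : act 3 n8342 = n5463 := d12_2 D5457 D8342 (iv D5463) (iv D2902) (iv D1293) D1292 D2899
def n8343 : Q := act 2 n5458
theorem D8343 : act 2 n5458 = n8343 := rfl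
def n8344 : Q := act 3 n5458
theorem D8344 : act 3 n5458 = n8344 := rfl
theorem F9224 : act 1 n8344 = n8344 := d5_1 D8344 (iv D8344) F4496
def n8345 : Q := act 0 n5459
theorem D8345 : act 0 n5459 = n8345 := rfl
theorem F9225 : act 2 n8345 = n5465 := d11_4 (iv F727) D2900 D5459 D8345 (iv D5465) (iv D2903) (iv D1294)
def n8346 : Q := act 4 n5459
theorem D8346 : act 4 n5459 = n8346 := rfl
theorem F9226 : act 1 n8346 = n8245 := d6_1 D8346 F9031 F6441
theorem F9227 : act 2 n8346 = n5469 := d8_1 D8346 (iv D5469) (iv D2905) (iv D1295) (iv F727) D2900 D5459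
theorem F9228 : act 3 n5462 = n8346 := d5_0 F9226 (iv D8245) (iv F4498)
theorem E886 : n5479 = n5469 := ((c7_2 F9228 F9227 (iv D5479) (iv F4499))).symm
theorem F9229 : act 3 n5469 = n2909 := (sb E886 (iv D5479))
theorem E887 : n5566 = n5478 := ((c9_5 D5469 F9229 (iv D2909) D2908 D5478 (iv D5566) (iv D2969) (iv F1962))).symm
theorem F9230 : act 3 n5478 = n2969 := (sb E887 (iv D5566))
def n8347 : Q := act 0 n5461
theorem D8347 : act 0 n5461 = n8347 := rfl
theorem F9231 : act 2 n8347 = n6183 := d10_2 D5461 D8347 F5500 F4649 F4419 D5441 F4421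
def n8348 : Q := act 4 n5461
theorem D8348 : act 4 n5461 = n8348 := rfl
theorem F9232 : act 1 n8348 = n8253 := d6_1 D8348 F9049 F6333
theorem F9233 : act 2 n8348 = n5478 := d8_1 D8348 (iv D5478) F1963 D2911 (iv F6445) (iv D5464) (iv F4497)
theorem F9234 : act 3 n8348 = n5565 := d9_1 D8348 (iv F6439) F6442 D8346 (iv F9228) (iv D5462) D5461
def n8349 : Q := act 2 n5463
theorem D8349 : act 2 n5463 = n8349 := rfl
def n8350 : Q := act 4 n5463
theorem D8350 : act 4 n5463 = n8350 := rfl
theorem F9235 : act 0 n8350 = n5464 := d3_1 D8350 (iv D5464) D5463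
theorem F9236 : act 1 n8350 = n8350 := d6_1 D8350 (iv D8350) F4500
def n8351 : Q := act 0 n5466
theorem D8351 : act 0 n5466 = n8351 := rfl
theorem F9237 : act 3 n8351 = n5555 := d10_4 F729 (iv F1961) D5466 D8351 (iv D5555) (iv D2965) (iv D1333)
def n8352 : Q := act 1 n5466
theorem D8352 : act 1 n5466 = n8352 := rfl
theorem F9238 : act 0 n8352 = n8009 := d16_6 D1224 D2763 (iv F4185) F4184 D5466 D8352 (iv D8009) (iv D5058) (iv D2668) (iv D1177) (iv F647) F646
def n8353 : Q := act 4 n5466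
theorem D8353 : act 4 n5466 = n8353 := rfl
def n8354 : Q := act 1 n5467
theorem D8354 : act 1 n5467 = n8354 := rfl
theorem F9239 : act 0 n8354 = n5747 := d16_6 D1808 D3774 (iv F6060) (iv F9218) F9219 D8354 (iv D5747) D5745 F4809 F4130 F2763 F1058
def n8355 : Q := act 3 n5467
theorem D8355 : act 3 n5467 = n8355 := rfl
theorem F9240 : act 0 n8355 = n6889 := d2_1 D8355 (iv F9187) F9186 (iv D5560) (iv D2967) (iv F1962) D5467
theorem F9241 : act 2 n8355 = n6544 := d7_1 D8355 (iv F9220) F9219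
def n8356 : Q := act 4 n5467
theorem D8356 : act 4 n5467 = n8356 := rfl
theorem F9242 : act 0 n8356 = n5469 := d3_1 D8356 (iv D5469) D5467
def n8357 : Q := act 2 n5468
theorem D8357 : act 2 n5468 = n8357 := rfl
theorem F9243 : act 1 n8357 = n5498 := d4_1 D8357 (iv D5498) (iv D2921) (iv D1304) (iv F728) D2905 D5468
theorem F9244 : act 3 n8357 = n5563 := d7_2 (iv F4502) D8357 (iv D5563)
theorem F9245 : act 0 n8357 = n8078 := d10_3 D5129 (iv F4503) D8357 (iv D8078) (iv D5130) (iv D2710) D2709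
def n8358 : Q := act 4 n5468
theorem D8358 : act 4 n5468 = n8358 := rfl
theorem F9246 : act 0 n8358 = n6340 := d3_1 D8358 (iv F5767) (iv F4503)
theorem F9247 : act 1 n8358 = n5469 := d6_1 D8358 (iv D5469) D5468
theorem F9248 : act 3 n8358 = n5476 := d12_2 (iv F4502) D8358 (iv F5822) (iv F8747) (iv D8082) (iv F4572) (iv D5562)
def n8359 : Q := act 4 n5470
theorem D8359 : act 4 n5470 = n8359 := rfl
theorem F9249 : act 1 n8359 = n5472 := d6_1 D8359 (iv D5472) D5470
theorem F9250 : act 2 n8359 = n6558 := d8_1 D8359 (iv D6558) D6556 F6102 F4796 D7068 F6917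
def n8360 : Q := act 4 n5471
theorem D8360 : act 4 n5471 = n8360 := rfl
theorem F9251 : act 3 n8360 = n5561 := d12_2 D5471 D8360 F4571 (iv F9230) (iv D5478) (iv D2908) D2906
def n8361 : Q := act 3 n5472
theorem D8361 : act 3 n5472 = n8361 := rfl
theorem F9252 : act 4 n8361 = n5560 := d9_2 D5472 D8361 (iv D5560) D5561 (iv F9251) (iv D8360) (iv D5471)
def n8362 : Q := act 0 n5474
theorem D8362 : act 0 n5474 = n8362 := rfl
theorem F9253 : act 1 n8362 = n6442 := d0_2 (iv F4506) D8362 F5921 (iv F4860) (iv F6117) F6118 F6120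
theorem F9254 : act 4 n8362 = n6421 := d3_2 F6204 D8362 (iv F6203)
theorem F9255 : act 3 n8362 = n8068 := d10_4 (iv F4505) (iv D5473) D5474 D8362 (iv D8068) (iv D5118) D5117
def n8363 : Q := act 3 n5474
theorem D8363 : act 3 n5474 = n8363 := rfl
theorem F9256 : act 1 n8363 = n5505 := d5_1 D8363 (iv D5505) (iv F4506)
theorem F9257 : act 2 n8363 = n5475 := d7_1 D8363 (iv D5475) D5474
def n8364 : Q := act 4 n5475
theorem D8364 : act 4 n5475 = n8364 := rfl
theorem F9258 : act 0 n8364 = n6345 := d3_1 D8364 F7042 (iv F6123)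
theorem F9259 : act 1 n8364 = n5478 := d6_1 D8364 (iv D5478) (iv F4507)
theorem F9260 : act 3 n8364 = n5564 := d9_1 D8364 (iv D5564) (iv F4502) D8358 F9248 (iv D5476) D5475
def n8365 : Q := act 2 n5476
theorem D8365 : act 2 n5476 = n8365 := rfl
theorem F9261 : act 4 n8365 = n5493 := d8_2 D5476 D8365 F4521 D5736 (iv F6205) F6204 (iv D5474)
theorem F9262 : act 0 n8365 = n6429 := d10_3 F8747 F5822 D8365 F7718 F8750 (iv D8083) (iv F8745)
theorem F9263 : act 1 n8365 = n5495 := d14_2 (iv F4508) D8365 F4523 F6136 (iv D6567) F2821 (iv F2816) (iv F6104) (iv F9250) F9249 F4504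
def n8366 : Q := act 1 n5477
theorem D8366 : act 1 n5477 = n8366 := rfl
def n8367 : Q := act 2 n5477
theorem D8367 : act 2 n5477 = n8367 := rfl
def n8368 : Q := act 3 n5477
theorem D8368 : act 3 n5477 = n8368 := rfl
theorem F9264 : act 0 n8368 = n6872 := d2_1 D8368 (iv F9198) F9199 (iv D5471) (iv D2906) D2908 D5477
theorem F9265 : act 2 n6531 = n8368 := d11_2 F4494 D6531 F9264 (iv D6872) (iv D4032) D4031 (iv F4492)
theorem F9266 : act 3 n8367 = n6531 := d7_0 F9265 (iv D8368) D8367
theorem F9267 : act 1 n6535 = n8367 := d5_3 F9266 F6057 D6535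
theorem F9268 : act 0 n8366 = n5744 := d16_6 (iv D3770) (iv F2780) D6535 F9267 (iv D8367) D8366 F4808 D5882 F8566 (iv F8662) F8661 F6036
def n8369 : Q := act 4 n5477
theorem D8369 : act 4 n5477 = n8369 := rfl
theorem F9269 : act 0 n8369 = n5478 := d3_1 D8369 (iv D5478) D5477
def n8370 : Q := act 1 n5480
theorem D8370 : act 1 n5480 = n8370 := rfl
def n8371 : Q := act 4 n5480
theorem D8371 : act 4 n5480 = n8371 := rfl
def n8372 : Q := act 2 n5481
theorem D8372 : act 2 n5481 = n8372 := rfl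
theorem F9270 : act 4 n8372 = n6183 := d11_1 D8372 (iv F9231) (iv D8347) F4497 D5464 F6445 (iv F4509)
theorem F9271 : act 1 n8372 = n6184 := d15_9 F5781 F5779 (iv F5782) F5764 (iv F9215) F9216 F6445 (iv F4509) D8372 F5501 (iv F3511) (iv F4636)
def n8373 : Q := act 4 n5483
theorem D8373 : act 4 n5483 = n8373 := rfl
theorem F9272 : act 0 n8373 = n6591 := d3_1 D8373 (iv D6591) (iv F4511)
theorem F9273 : act 1 n8373 = n6913 := d6_1 D8373 (iv D6913) (iv F4512)
def n8374 : Q := act 2 n5484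
theorem D8374 : act 2 n5484 = n8374 := rfl
theorem F9274 : act 0 n8374 = n5490 := d1_1 D8374 (iv D5490) F1971 D3802 (iv F6138) (iv D6575) (iv F4514)
def n8375 : Q := act 3 n5484
theorem D8375 : act 3 n5484 = n8375 := rfl
theorem F9275 : act 0 n8375 = n7588 := d2_1 D8375 F7858 F7584 (iv F3800) D6270 F5629 (iv F4514)
theorem F9276 : act 1 n8375 = n6915 := d5_1 D8375 (iv D6915) (iv F4515)
def n8376 : Q := act 2 n5485
theorem D8376 : act 2 n5485 = n8376 := rfl
theorem F9277 : act 0 n8376 = n6592 := d1_1 D8376 (iv D6592) F2832 D3806 D6593 (iv F6663) F6661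
theorem F9278 : act 3 n8376 = n5885 := d7_2 (iv F4516) D8376 (iv D5885)
theorem F9279 : act 1 n8376 = n6999 := d15_3 (iv F6663) F6661 D8376 (iv D6999) D7000 (iv F6839) (iv D5836) F2251 F2250 D3141 (iv F2834) D6593
def n8377 : Q := act 3 n5486
theorem D8377 : act 3 n5486 = n8377 := rfl
theorem F9280 : act 0 n8377 = n6598 := d2_1 D8377 (iv F7585) F7586 D7705 F8071 (iv D6578) (iv F4517)
theorem F9281 : act 1 n8377 = n7018 := d5_1 D8377 (iv D7018) F4518
theorem F9282 : act 2 n8377 = n5487 := d7_1 D8377 (iv D5487) D5486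
def n8378 : Q := act 4 n5486
theorem D8378 : act 4 n5486 = n8378 := rfl
theorem F9283 : act 0 n8378 = n6579 := d3_1 D8378 (iv D6579) (iv F4517)
theorem F9284 : act 1 n8378 = n7019 := d6_1 D8378 (iv D7019) F4518
def n8379 : Q := act 4 n5487
theorem D8379 : act 4 n5487 = n8379 := rfl
theorem F9285 : act 3 n8379 = n5577 := d9_1 D8379 F4578 (iv F4516) (iv D5485) (iv D2913) D2914 D5487
def n8380 : Q := act 4 n5488
theorem D8380 : act 4 n5488 = n8380 := rfl
theorem F9286 : act 0 n8380 = n5489 := d3_1 D8380 (iv D5489) D5488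
def n8381 : Q := act 2 n5489
theorem D8381 : act 2 n5489 = n8381 := rfl
theorem F9287 : act 0 n8381 = n6245 := d11_3 (iv F1970) D5489 D8381 (iv D6245) (iv D3481) (iv F1603) (iv F1604)
def n8382 : Q := act 3 n5489
theorem D8382 : act 3 n5489 = n8382 := rfl
theorem F9288 : act 0 n8382 = n6585 := d12_3 D2915 D5489 D8382 (iv D6585) (iv D3801) (iv D1824) (iv F938)
theorem F9289 : act 4 n5578 = n8382 := d3_0 F9288 (iv F6157) (iv F4579)
def n8383 : Q := act 3 n5490
theorem D8383 : act 3 n5490 = n8383 := rfl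
theorem F9290 : act 2 n8383 = n5491 := d7_1 D8383 (iv D5491) D5490
theorem F9291 : act 0 n8383 = n6271 := d10_1 D8383 (iv D6271) D6270 F5629 (iv F4514) D8374 F9274
def n8384 : Q := act 4 n5490
theorem D8384 : act 4 n5490 = n8384 := rfl
theorem F9292 : act 1 n8384 = n8244 := d6_1 D8384 F9030 (iv F9208)
theorem F9293 : act 2 n8384 = n5495 := d8_1 D8384 (iv D5495) (iv D2918) (iv D1301) D1299 D2916 D5490
def n8385 : Q := act 0 n5491
theorem D8385 : act 0 n5491 = n8385 := rfl
def n8386 : Q := act 4 n5491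
theorem D8386 : act 4 n5491 = n8386 := rfl
theorem F9294 : act 3 n8386 = n5578 := d9_1 D8386 F9289 (iv D8382) (iv D5489) (iv D2915) D2916 D5491
theorem F9295 : act 2 n8386 = n5496 := d11_2 F9290 D8386 (iv F8075) F8078 (iv D6272) D6271 (iv F9291)
def n8387 : Q := act 0 n5492
theorem D8387 : act 0 n5492 = n8387 := rfl
theorem F9296 : act 2 n8387 = n6576 := d1_2 D5492 D8387 F6139 D6577 F6142 F3804 F3801
def n8388 : Q := act 4 n5492
theorem D8388 : act 4 n5492 = n8388 := rfl
theorem F9297 : act 3 n8388 = n5495 := d12_2 (iv F4520) D8388 F4523 F6163 (iv D6594) F2833 (iv F3290)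
def n8389 : Q := act 3 n5493
theorem D8389 : act 3 n5493 = n8389 := rfl
theorem F9298 : act 1 n8389 = n5494 := d5_1 D8389 (iv D5494) D5493
theorem F9299 : act 2 n8389 = n5735 := d7_1 D8389 (iv D5735) (iv F4521)
def n8390 : Q := act 0 n5494
theorem D8390 : act 0 n5494 = n8390 := rfl
theorem F9300 : act 2 n8390 = n6580 := d1_2 (iv F4522) D8390 (iv D6580) (iv F6143) (iv F8071) F8070 F3811
def n8391 : Q := act 4 n5494
theorem D8391 : act 4 n5494 = n8391 := rfl
theorem F9301 : act 3 n8391 = n5886 := d9_1 D8391 (iv D5886) (iv F4520) D8388 F9297 (iv D5495) D5494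
def n8392 : Q := act 0 n5498
theorem D8392 : act 0 n5498 = n8392 := rfl
def n8393 : Q := act 2 n5499
theorem D8393 : act 2 n5499 = n8393 := rfl
theorem F9302 : act 3 n8393 = n5509 := d7_2 F4532 D8393 (iv D5509)
def n8394 : Q := act 3 n5500
theorem D8394 : act 3 n5500 = n8394 := rfl
theorem F9303 : act 0 n8394 = n6879 := d2_1 D8394 F8089 F8087 D8123 F8817 (iv F6650) (iv F4533)
theorem F9304 : act 1 n8394 = n5502 := d5_1 D8394 (iv D5502) D5500
theorem F9305 : act 2 n8394 = n6846 := d7_1 D8394 (iv D6846) (iv F4534)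
theorem F9306 : act 4 n6811 = n8394 := d8_0 F9305 F6621 (iv F6546) (iv D6809) F2965 D3980 D6811
def n8395 : Q := act 3 n5501
theorem D8395 : act 3 n5501 = n8395 := rfl
theorem F9307 : act 2 n8395 = n5502 := d7_1 D8395 (iv D5502) D5501
theorem F9308 : act 0 n7594 = n8395 := d13_11 F9307 (iv F6673) (iv D6877) (iv F6551) (iv D6811) F2972 (iv F1557) F1556 D2450 D4719 D7594
def n8396 : Q := act 4 n5502
theorem D8396 : act 4 n5502 = n8396 := rfl
theorem F9309 : act 0 n8396 = n7711 := d3_1 D8396 (iv F8092) F6673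
theorem F9310 : act 1 n8396 = n6811 := d6_1 D8396 F9306 F9304
theorem F9311 : act 3 n8396 = n5573 := d12_2 D5502 D8396 F4577 (iv F4544) (iv D5508) (iv D2925) D2923
theorem F9312 : act 2 n8198 = n7711 := d13_0 (iv F9309) F9310 F6551 (iv D4037) F1171 (iv F695) F694 D1235 D2783 D5248 D8198
theorem F9313 : act 3 n7710 = n8198 := d7_0 F9312 (iv D7711) D7710
theorem F9314 : act 0 n5576 = n6806 := d10_7 F6540 D8198 F9312 (iv F9309) F9311 F4577 D5576
theorem F9315 : act 4 n6804 = n5576 := d3_0 F9314 (iv D6806) D6804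
def n8397 : Q := act 2 n5503
theorem D8397 : act 2 n5503 = n8397 := rfl
def n8398 : Q := act 3 n5503
theorem D8398 : act 3 n5503 = n8398 := rfl
theorem F9316 : act 0 n8398 = n7781 := d2_1 D8398 (iv D7781) (iv D4874) (iv F3817) (iv F4530) (iv F4532) (iv F4536)
theorem F9317 : act 1 n8398 = n6813 := d5_1 D8398 (iv D6813) (iv F4537)
theorem F9318 : act 4 n8398 = n5572 := d9_2 D5503 D8398 (iv D5572) D5573 (iv F9311) (iv D8396) (iv D5502)
theorem F9319 : act 2 n7781 = n8216 := d10_2 D8398 F9316 (iv D8216) (iv F6045) F6046 (iv D5509) (iv F4536)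
theorem F9320 : act 3 n8216 = n7780 := d7_2 D7781 F9319 (iv D7780)
def n8399 : Q := act 0 n5505
theorem D8399 : act 0 n5505 = n8399 := rfl
def n8400 : Q := act 2 n5508
theorem D8400 : act 2 n5508 = n8400 := rfl
theorem F9321 : act 3 n8400 = n5576 := d7_2 (iv F4544) D8400 (iv D5576)
def n8401 : Q := act 1 n5510
theorem D8401 : act 1 n5510 = n8401 := rfl
theorem F9322 : act 2 n8401 = n8275 := d4_2 D5510 D8401 (iv D8275) F4775 F2998 (iv F2990) F2989
theorem F9323 : act 4 n6361 = n8401 := d8_0 F9322 (iv F9085) (iv D5583) (iv D2986) (iv F1226) D3580 D6361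
def n8402 : Q := act 3 n5510
theorem D8402 : act 3 n5510 = n8402 := rfl
theorem F9324 : act 2 n8402 = n5511 := d7_1 D8402 (iv D5511) D5510
theorem F9325 : act 0 n7998 = n8402 := d13_11 F9324 (iv F6574) (iv D6825) D6824 F6573 F2991 (iv F1749) F1748 D2665 D5051 D7998
def n8403 : Q := act 4 n5510
theorem D8403 : act 4 n5510 = n8403 := rfl
theorem F9326 : act 1 n8403 = n6361 := d6_1 D8403 F9323 (iv D8401)
def n8404 : Q := act 1 n5512
theorem D8404 : act 1 n5512 = n8404 := rfl
def n8405 : Q := act 2 n5512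
theorem D8405 : act 2 n5512 = n8405 := rfl
def n8406 : Q := act 3 n5512
theorem D8406 : act 3 n5512 = n8406 := rfl
def n8407 : Q := act 4 n5512
theorem D8407 : act 4 n5512 = n8407 := rfl
theorem F9327 : act 0 n8407 = n5515 := d3_1 D8407 (iv D5515) D5512
def n8408 : Q := act 0 n5513
theorem D8408 : act 0 n5513 = n8408 := rfl
theorem F9328 : act 2 n8408 = n8362 := d1_2 (iv F4545) D8408 (iv D8362) (iv D5474) D5473 (iv F6121) (iv D5680)
theorem F9329 : act 3 n8408 = n7659 := d10_4 (iv F4747) (iv D5680) (iv F4545) D8408 (iv D7659) (iv D4777) D4776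
def n8409 : Q := act 3 n5513
theorem D8409 : act 3 n5513 = n8409 := rfl
theorem F9330 : act 1 n8409 = n5514 := d5_1 D8409 (iv D5514) D5513
theorem F9331 : act 2 n8409 = n5681 := d7_1 D8409 (iv D5681) (iv F4545)
def n8410 : Q := act 4 n5513
theorem D8410 : act 4 n5513 = n8410 := rfl
theorem F9332 : act 1 n8410 = n5515 := d6_1 D8410 (iv D5515) D5513
theorem F9333 : act 2 n8410 = n5636 := d8_1 D8410 (iv D5636) (iv D3024) D3026 D5639 F4684 (iv F4545)
def n8411 : Q := act 0 n5514
theorem D8411 : act 0 n5514 = n8411 := rfl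
def n8412 : Q := act 4 n5514
theorem D8412 : act 4 n5514 = n8412 := rfl
def n8413 : Q := act 2 n5515
theorem D8413 : act 2 n5515 = n8413 := rfl
theorem F9334 : act 1 n8413 = n8246 := d4_1 D8413 F9033 F6285 (iv D5713) (iv F4674) (iv F9333) F9332
def n8414 : Q := act 3 n5515
theorem D8414 : act 3 n5515 = n8414 := rfl
def n8415 : Q := act 2 n5516
theorem D8415 : act 2 n5516 = n8415 := rfl
theorem F9335 : act 3 n8415 = n5554 := d7_2 F4549 D8415 (iv D5554)
def n8416 : Q := act 0 n5517
theorem D8416 : act 0 n5517 = n8416 := rfl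
theorem F9336 : act 1 n8416 = n8014 := d13_2 D5517 D8416 F8591 (iv D5108) F1791 F1162 F437 D835 (iv F1153) D3992 F2985
theorem F9337 : act 3 n8013 = n8416 := d5_0 F9336 (iv D8014) D8013
def n8417 : Q := act 1 n5517
theorem D8417 : act 1 n5517 = n8417 := rfl
theorem F9338 : act 2 n8417 = n5615 := d4_2 D5517 D8417 F5759 (iv D3070) F777 (iv F742) (iv F1986)
theorem F9339 : act 4 n5609 = n8417 := d8_0 F9338 (iv D5615) (iv D3007) (iv D1357) D1355 D3005 D5609
def n8418 : Q := act 3 n5517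
theorem D8418 : act 3 n5517 = n8418 := rfl
theorem F9340 : act 2 n8418 = n5518 := d7_1 D8418 (iv D5518) D5517
def n8419 : Q := act 4 n5517
theorem D8419 : act 4 n5517 = n8419 := rfl
theorem F9341 : act 1 n8419 = n5609 := d6_1 D8419 F9339 (iv D8417)
def n8420 : Q := act 3 n5520
theorem D8420 : act 3 n5520 = n8420 := rfl
theorem F9342 : act 2 n8420 = n5521 := d7_1 D8420 (iv D5521) D5520
def n8421 : Q := act 4 n5521
theorem D8421 : act 4 n5521 = n8421 := rfl
theorem F9343 : act 3 n8421 = n5534 := d12_2 D5521 D8421 F4560 (iv F4848) (iv D5524) (iv D2938) D2937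
def n8422 : Q := act 3 n5522
theorem D8422 : act 3 n5522 = n8422 := rfl
theorem F9344 : act 4 n8422 = n5533 := d9_2 D5522 D8422 (iv D5533) D5534 (iv F9343) (iv D8421) (iv D5521)
def n8423 : Q := act 2 n5523
theorem D8423 : act 2 n5523 = n8423 := rfl
def n8424 : Q := act 4 n5523
theorem D8424 : act 4 n5523 = n8424 := rfl
theorem F9345 : act 0 n8424 = n5524 := d3_1 D8424 (iv D5524) D5523
theorem F9346 : act 3 n8424 = n5529 := d9_1 D8424 (iv D5529) (iv D2946) D2947 D5530 F7255 F7253
def n8425 : Q := act 2 n5524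
theorem D8425 : act 2 n5524 = n8425 := rfl
theorem F9347 : act 1 n8425 = n6686 := d4_1 D8425 (iv D6686) F4899 (iv D5774) F2219 D4247 (iv F5743)
theorem F9348 : act 3 n8425 = n5535 := d7_2 (iv F4848) D8425 (iv D5535)
theorem F9349 : act 4 n8425 = n6395 := d8_2 D5524 D8425 F5858 (iv F5318) (iv D5527) (iv F1993) (iv F1990)
theorem F9350 : act 0 n8425 = n6395 := d10_3 (iv F9346) F9345 D8425 (iv D6395) D6394 (iv F6693) F6691
def n8426 : Q := act 3 n5532
theorem D8426 : act 3 n5532 = n8426 := rfl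
theorem F9351 : act 2 n8426 = n5533 := d7_1 D8426 (iv D5533) D5532
def n8427 : Q := act 4 n5532
theorem D8427 : act 4 n5532 = n8427 := rfl
theorem F9352 : act 2 n8427 = n5544 := d11_2 D5532 D8427 (iv D5544) (iv D2956) (iv D1325) (iv F748) D2948
def n8428 : Q := act 2 n5534
theorem D8428 : act 2 n5534 = n8428 := rfl
theorem F9353 : act 4 n8428 = n6399 := d8_2 D5534 D8428 (iv D6399) (iv F5325) (iv F9352) (iv D8427) (iv D5532)
def n8429 : Q := act 0 n5535
theorem D8429 : act 0 n5535 = n8429 := rfl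
theorem F9354 : act 4 n8429 = n6398 := d3_2 F5329 D8429 (iv D6398)
theorem F9355 : act 2 n8429 = n5542 := d10_2 F9348 D8429 (iv F5334) (iv F5860) (iv D6396) (iv F5858) (iv F9350)
def n8430 : Q := act 0 n5540
theorem D8430 : act 0 n5540 = n8430 := rfl
theorem F9356 : act 2 n8430 = n6176 := d11_4 D1619 D3427 (iv F4564) D8430 (iv D6176) (iv D3423) (iv D1618)
def n8431 : Q := act 0 n5547
theorem D8431 : act 0 n5547 = n8431 := rfl
theorem F9357 : act 1 n8431 = n5555 := d13_2 D5547 D8431 (iv D5555) (iv D2965) (iv D1333) (iv D551) (iv D211) (iv F90) D548 D1326 D2957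
def n8432 : Q := act 1 n5547
theorem D8432 : act 1 n5547 = n8432 := rfl
theorem F9358 : act 2 n8432 = n8303 := d4_2 D5547 D8432 F9155 (iv F5756) F3454 D4488 F3456
theorem F9359 : act 4 n6405 = n8432 := d11_1 D6405 F9358 (iv D8303) (iv F5874) (iv D6409) (iv D3620) D3619
def n8433 : Q := act 3 n5547
theorem D8433 : act 3 n5547 = n8433 := rfl
theorem F9360 : act 2 n8433 = n5548 := d7_1 D8433 (iv D5548) D5547
theorem F9361 : act 0 n8433 = n8013 := d16_1 D8433 F9337 F9336 F8592 (iv F9004) F9003 (iv F4396) D8311 F9171 F5339 (iv F9357) (iv D8431)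
def n8434 : Q := act 4 n5547
theorem D8434 : act 4 n5547 = n8434 := rfl
theorem F9362 : act 1 n8434 = n6405 := d6_1 D8434 F9359 (iv D8432)
def n8435 : Q := act 2 n5549
theorem D8435 : act 2 n5549 = n8435 := rfl
def n8436 : Q := act 1 n5550
theorem D8436 : act 1 n5550 = n8436 := rfl
def n8437 : Q := act 2 n5550
theorem D8437 : act 2 n5550 = n8437 := rfl
def n8438 : Q := act 3 n5550
theorem D8438 : act 3 n5550 = n8438 := rfl
def n8439 : Q := act 4 n5550
theorem D8439 : act 4 n5550 = n8439 := rfl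
theorem F9363 : act 0 n8439 = n5553 := d3_1 D8439 (iv D5553) D5550
def n8440 : Q := act 0 n5551
theorem D8440 : act 0 n5551 = n8440 := rfl
theorem F9364 : act 3 n8440 = n7662 := d10_4 D7663 F7975 F7799 D8440 (iv D7662) F3767 D4787
def n8441 : Q := act 3 n5551
theorem D8441 : act 3 n5551 = n8441 := rfl
theorem F9365 : act 0 n8441 = n7661 := d2_1 D8441 (iv D7661) (iv D4785) D4786 D7662 (iv F9364) (iv D8440)
theorem F9366 : act 1 n8441 = n5552 := d5_1 D8441 (iv D5552) D5551
theorem F9367 : act 2 n8441 = n5675 := d7_1 D8441 (iv F7800) F7799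
def n8442 : Q := act 4 n5551
theorem D8442 : act 4 n5551 = n8442 := rfl
theorem F9368 : act 1 n8442 = n5553 := d6_1 D8442 (iv D5553) D5551
theorem F9369 : act 2 n8442 = n5896 := d8_1 D8442 (iv D5896) (iv D3197) D3198 D5897 (iv F7801) F7799
def n8443 : Q := act 0 n5552
theorem D8443 : act 0 n5552 = n8443 := rfl
def n8444 : Q := act 4 n5552
theorem D8444 : act 4 n5552 = n8444 := rfl
def n8445 : Q := act 2 n5553
theorem D8445 : act 2 n5553 = n8445 := rfl
theorem F9370 : act 1 n8445 = n8251 := d4_1 D8445 F9047 F7280 (iv D5909) (iv F5088) (iv F9369) F9368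
def n8446 : Q := act 3 n5553
theorem D8446 : act 3 n5553 = n8446 := rfl
def n8447 : Q := act 0 n5554
theorem D8447 : act 0 n5554 = n8447 := rfl
theorem F9371 : act 3 n8447 = n7998 := d10_4 (iv F6576) F4569 D5554 D8447 F9325 F9324 (iv F6574)
theorem F9372 : act 1 n8447 = n7999 := d13_2 D5554 D8447 F8570 F4102 (iv F4025) F4026 F3011 (iv F3031) (iv F6579) F6577 F4569
def n8448 : Q := act 1 n5554
theorem D8448 : act 1 n5554 = n8448 := rfl
theorem F9373 : act 2 n8448 = n5910 := d4_2 D5554 D8448 (iv D5910) (iv D3210) F826 F2170 (iv F2006)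
def n8449 : Q := act 4 n5554
theorem D8449 : act 4 n5554 = n8449 := rfl
def n8450 : Q := act 4 n5555
theorem D8450 : act 4 n5555 = n8450 := rfl
theorem F9374 : act 0 n8450 = n5557 := d3_1 D8450 (iv D5557) D5555
def n8451 : Q := act 0 n5556
theorem D8451 : act 0 n5556 = n8451 := rfl
theorem F9375 : act 3 n8451 = n8089 := d16_7 (iv F8243) F8241 F4330 F1941 D2965 D5556 D8451 (iv D8089) (iv D5147) (iv D2717) D2716 D5144
def n8452 : Q := act 2 n5556
theorem D8452 : act 2 n5556 = n8452 := rfl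
theorem F9376 : act 1 n8452 = n7320 := d4_1 D8452 (iv D7320) F4409 (iv D5426) F1941 D2965 D5556
theorem F9377 : act 0 n8301 = n8452 := d0_7 F9376 F7414 F5744 (iv D2948) (iv F1934) D5400 D8301
def n8453 : Q := act 4 n5556
theorem D8453 : act 4 n5556 = n8453 := rfl
theorem F9378 : act 1 n8453 = n5557 := d6_1 D8453 (iv D5557) D5556
theorem F9379 : act 2 n8453 = n6401 := d17_10 (iv F6068) F6065 (iv F9352) (iv D8427) (iv D5532) (iv F5744) (iv F7414) (iv F9376) (iv D8452) D8453 (iv F6466) F6465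
def n8454 : Q := act 2 n5557
theorem D8454 : act 2 n5557 = n8454 := rfl
theorem F9380 : act 0 n8454 = n5565 := d11_3 D2965 D5557 D8454 (iv D5565) (iv D2969) (iv D1334) D1333
theorem F9381 : act 1 n8454 = n8254 := d17_5 (iv D5427) F1941 D2965 D5557 D8454 (iv D8254) (iv D5321) (iv F4213) F5310 (iv D2884) (iv F1942) (iv F4410)
theorem F9382 : act 2 n6775 = n8254 := d4_6 (iv D8454) (iv F9378) F9379 (iv F6466) (iv D6776) (iv F6464) (iv F9381)
def n8455 : Q := act 3 n5557
theorem D8455 : act 3 n5557 = n8455 := rfl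
def n8456 : Q := act 0 n5558
theorem D8456 : act 0 n5558 = n8456 := rfl
theorem F9383 : act 1 n8456 = n5890 := d13_2 D5558 D8456 (iv D5890) (iv D3191) F824 F299 F104 F2175 (iv F270) (iv F752) (iv F2009)
def n8457 : Q := act 4 n5559
theorem D8457 : act 4 n5559 = n8457 := rfl
theorem F9384 : act 1 n8457 = n5561 := d6_1 D8457 (iv D5561) D5559
theorem F9385 : act 2 n8457 = n6784 := d8_1 D8457 (iv D6784) D6782 F6473 F4949 D7325 F7417
def n8458 : Q := act 2 n5561
theorem D8458 : act 2 n5561 = n8458 := rfl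
theorem F9386 : act 4 n8458 = n7242 := d8_2 D5561 D8458 (iv F8655) (iv F8657) (iv F5341) (iv D6026) F2395
theorem F9387 : act 1 n8458 = n7244 := d15_3 (iv D5565) (iv F4571) D8458 F7283 F5112 F4211 D5216 F4213 D5321 D8254 (iv F9381) F9380
def n8459 : Q := act 0 n5563
theorem D8459 : act 0 n5563 = n8459 := rfl
theorem F9388 : act 1 n8459 = n6491 := d0_2 (iv F4573) D8459 F6001 (iv F4874) (iv F6489) F6490 F6496
theorem F9389 : act 2 n8459 = n8440 := d1_2 D5563 D8459 (iv D8440) (iv F7799) (iv F7975) F7977 (iv D5562)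
theorem F9390 : act 3 n8459 = n8079 := d2_2 F9244 D8459 (iv D8079) (iv D5131) D5130 D8078 (iv F9245)
theorem F9391 : act 4 n8459 = n6486 := d3_2 F6529 D8459 (iv F6527)
def n8460 : Q := act 2 n5564
theorem D8460 : act 2 n5564 = n8460 := rfl
theorem F9392 : act 4 n8460 = n5875 := d8_2 D5564 D8460 (iv D5875) D5877 (iv F6528) F6529 (iv D5563)
theorem F9393 : act 1 n8460 = n5886 := d14_2 (iv F4574) D8460 F5070 F6507 (iv D6790) F2952 (iv F2948) (iv F6478) (iv F9385) F9384 F4571
def n8461 : Q := act 0 n5568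
theorem D8461 : act 0 n5568 = n8461 := rfl
theorem F9394 : act 4 n8461 = n8029 := d3_2 (iv F9212) D8461 (iv F9210)
theorem F9395 : act 2 n8461 = n7370 := d10_2 F9217 D8461 F7478 (iv F5785) F5779 (iv F5782) (iv F9215)
theorem F9396 : act 3 n8461 = n8035 := d12_4 D5455 D8340 F9217 D8461 (iv D8035) (iv F4481) F4479
theorem F9397 : act 1 n8461 = n6410 := d14_4 (iv F752) D2970 D5568 D8461 (iv D6410) F2677 F1017 (iv F710) (iv F5281) F256 (iv F270)
def n8462 : Q := act 2 n5568
theorem D8462 : act 2 n5568 = n8462 := rfl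
theorem F9398 : act 1 n8462 = n5578 := d4_1 D8462 (iv D5578) (iv D2974) (iv D1338) (iv F752) D2970 D5568
def n8463 : Q := act 3 n5570
theorem D8463 : act 3 n5570 = n8463 := rfl
theorem F9399 : act 0 n8463 = n6892 := d2_1 D8463 F8185 F8183 D8140 F8836 F6654 (iv F4575)
theorem F9400 : act 1 n8463 = n5572 := d5_1 D8463 (iv D5572) D5570
theorem F9401 : act 2 n8463 = n6845 := d7_1 D8463 F6618 (iv F4576)
theorem F9402 : act 4 n8463 = n6813 := d12_1 D8463 (iv D6813) F2973 D4024 D6866 F6654 (iv F4575)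
def n8464 : Q := act 4 n5570
theorem D8464 : act 4 n5570 = n8464 := rfl
theorem F9403 : act 0 n8464 = n6863 := d3_1 D8464 (iv F6648) (iv F4575)
theorem F9404 : act 1 n8464 = n5573 := d6_1 D8464 (iv D5573) D5570
theorem F9405 : act 2 n8464 = n6812 := d8_1 D8464 (iv F6553) (iv F7438) (iv D7340) (iv D4484) D4485 (iv F4576)
theorem F9406 : act 3 n8464 = n6811 := d9_1 D8464 F9306 (iv D8394) (iv F4535) D6813 (iv F9402) (iv D8463)
def n8465 : Q := act 0 n5571
theorem D8465 : act 0 n5571 = n8465 := rfl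
def n8466 : Q := act 1 n5571
theorem D8466 : act 1 n5571 = n8466 := rfl
theorem F9407 : act 0 n8466 = n6176 := d16_6 (iv F8185) (iv F9399) (iv D8463) (iv D5570) D5571 D8466 (iv F7958) (iv F8842) (iv D8142) (iv D5192) D5191 (iv F8183)
theorem F9408 : act 1 n8314 = n6176 := d15_3 (iv D5430) D5429 D8314 (iv F9407) (iv D8466) (iv D5571) (iv D2971) D2972 (iv F4573) D8459 F9388 F6001
theorem F9409 : act 3 n7671 = n8314 := d5_0 F9408 (iv F7958) F7995
theorem F9410 : act 4 n6175 = n8314 := d6_0 F9408 (iv D6176) D6175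
theorem F9411 : act 2 n8315 = n7671 := d7_3 F9409 (iv D8314) D8315
theorem F9412 : act 4 n6174 = n8466 := d3_0 F9407 (iv D6176) D6174
theorem F9413 : act 4 n5571 = n6796 := d6_2 F9412 (iv D8466) F6523
theorem E888 : n8465 = n6798 := ((c3_3 F9413 (iv D6796) D6798 (iv D8465))).symm
theorem F9414 : act 0 n6798 = n5571 := (sb E888 (iv D8465))
def n8467 : Q := act 3 n5571
theorem D8467 : act 3 n5571 = n8467 := rfl
theorem F9415 : act 2 n8467 = n5572 := d7_1 D8467 (iv D5572) D5571
theorem F9416 : act 0 n7606 = n8467 := d13_11 F9415 (iv F6702) (iv D6891) (iv F6555) F6554 (iv F3587) F3588 (iv D2456) (iv F1561) D4727 D7606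
def n8468 : Q := act 2 n5573
theorem D8468 : act 2 n5573 = n8468 := rfl
def n8469 : Q := act 1 n5576
theorem D8469 : act 1 n5576 = n8469 := rfl
theorem F9417 : act 2 n8469 = n5883 := d4_2 D5576 D8469 (iv D5883) (iv D3185) F816 (iv F2172) (iv F2010)
def n8470 : Q := act 2 n5577
theorem D8470 : act 2 n5577 = n8470 := rfl
theorem F9418 : act 0 n8470 = n6808 := d1_1 D8470 (iv D6808) (iv D3959) D3960 (iv F4579) (iv D5578) D5577
theorem F9419 : act 1 n7367 = n8470 := d13_2 D4522 D7367 F9418 (iv D6808) (iv D3959) (iv D1916) F3372 F3369 (iv F3368) D973 D2280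
theorem F9420 : act 2 n8317 = n7368 := d15_8 (iv D6808) (iv D3959) D3960 (iv F6512) F6511 (iv F9068) F9070 D8317 (iv D7368) D7367 F9419 F9418
def n8471 : Q := act 2 n5580
theorem D8471 : act 2 n5580 = n8471 := rfl
theorem F9421 : act 1 n8471 = n8273 := d14_2 (iv F4584) D8471 F9079 F4352 (iv F4308) (iv F9023) (iv F9179) (iv D8319) (iv D5441) (iv F2681) (iv F3057)
theorem F9422 : act 2 n7031 = n8273 := d4_6 (iv D8471) F4584 (iv F3118) F3117 D4151 D7031 (iv F9421)
theorem F9423 : act 4 n8271 = n8471 := d6_0 F9421 (iv D8273) D8271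
def n8472 : Q := act 4 n5581
theorem D8472 : act 4 n5581 = n8472 := rfl
theorem F9424 : act 0 n8472 = n5582 := d3_1 D8472 (iv D5582) D5581
theorem F9425 : act 1 n8472 = n5916 := d6_1 D8472 (iv D5916) (iv F4585)
theorem F9426 : act 3 n8472 = n7484 := d12_2 (iv F4586) D8472 (iv D7484) (iv D4621) (iv D2366) D2365 D4618
def n8473 : Q := act 2 n5582
theorem D8473 : act 2 n5582 = n8473 := rfl
def n8474 : Q := act 3 n5582
theorem D8474 : act 3 n5582 = n8474 := rfl
theorem F9427 : act 0 n8474 = n7475 := d2_1 D8474 (iv D7475) F3595 D4621 D7484 (iv F9426) F9424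
theorem F9428 : act 1 n8474 = n5586 := d5_1 D8474 (iv D5586) (iv F4587)
theorem F9429 : act 4 n5891 = n8474 := d6_0 F9428 F4623 D5891
theorem F9430 : act 2 n8474 = n7314 := d8_1 F9429 (iv F9156) (iv F9358) (iv F9359) (iv D6405) D6406 (iv F7444)
theorem F9431 : act 3 n7314 = n8473 := d7_2 D8474 F9430 (iv D8473)
def n8475 : Q := act 3 n5583
theorem D8475 : act 3 n5583 = n8475 := rfl
theorem F9432 : act 2 n8475 = n5584 := d7_1 D8475 (iv D5584) D5583
def n8476 : Q := act 0 n5584
theorem D8476 : act 0 n5584 = n8476 := rfl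
theorem F9433 : act 1 n8476 = n5918 := d0_2 (iv F4589) D8476 (iv D5918) F2312 D5045 (iv F4022) F2034
theorem F9434 : act 3 n8476 = n7479 := d2_2 D5584 D8476 F7640 (iv F3602) D7383 F7496 F4583
def n8477 : Q := act 4 n5584
theorem D8477 : act 4 n5584 = n8477 := rfl
theorem F9435 : act 1 n8477 = n5588 := d6_1 D8477 (iv D5588) (iv F4589)
theorem F9436 : act 3 n8477 = n5891 := d9_1 D8477 F9429 (iv D8474) (iv D5582) (iv D2985) D2986 D5584
def n8478 : Q := act 0 n5589
theorem D8478 : act 0 n5589 = n8478 := rfl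
theorem F9437 : act 1 n8478 = n7182 := d0_2 D5589 D8478 (iv D7182) F3234 D5792 F4923 F2302
theorem F9438 : act 3 n8478 = n7486 := d2_2 (iv F4593) D8478 (iv D7486) F3607 D4670 (iv F5075) (iv D5888)
def n8479 : Q := act 4 n5589
theorem D8479 : act 4 n5589 = n8479 := rfl
theorem F9439 : act 1 n8479 = n5590 := d6_1 D8479 (iv D5590) D5589
theorem F9440 : act 3 n8479 = n5595 := d12_2 (iv F4593) D8479 (iv F6730) F7758 (iv D7542) (iv F5075) (iv D5888)
theorem F9441 : act 2 n6447 = n8479 := d7_3 F9440 F4604 D6447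
def n8480 : Q := act 2 n5591
theorem D8480 : act 2 n5591 = n8480 := rfl
theorem F9442 : act 0 n8480 = n5731 := d1_1 D8480 (iv D5731) (iv D3078) (iv D1397) D1396 D3075 (iv F4594)
def n8481 : Q := act 4 n5591
theorem D8481 : act 4 n5591 = n8481 := rfl
theorem F9443 : act 0 n8481 = n5725 := d3_1 D8481 (iv D5725) (iv F4594)
theorem F9444 : act 1 n8481 = n5592 := d6_1 D8481 (iv D5592) D5591
theorem F9445 : act 2 n8481 = n6044 := d11_2 (iv D8480) D8481 (iv D6044) (iv F4800) (iv D5733) D5731 (iv F9442)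
def n8482 : Q := act 2 n5593
theorem D8482 : act 2 n5593 = n8482 := rfl
theorem F9446 : act 0 n8482 = n6114 := d1_1 D8482 (iv F6711) F6710 (iv D4235) D4234 (iv F3197) D5593
theorem F9447 : act 1 n8482 = n5753 := d4_1 D8482 (iv F4826) (iv D4146) (iv D2029) D2028 D4142 (iv F4599)
theorem F9448 : act 3 n8482 = n7491 := d7_2 (iv F4600) D8482 (iv D7491)
def n8483 : Q := act 0 n5594
theorem D8483 : act 0 n5594 = n8483 := rfl
theorem F9449 : act 3 n8483 = n7495 := d2_2 D5594 D8483 (iv D7495) (iv D4628) D4626 (iv F4600) (iv D5593)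
def n8484 : Q := act 4 n5594
theorem D8484 : act 4 n5594 = n8484 := rfl
theorem F9450 : act 1 n8484 = n5596 := d6_1 D8484 (iv D5596) (iv F4602)
theorem F9451 : act 3 n8484 = n5889 := d9_1 D8484 (iv D5889) (iv F4593) D8479 F9440 (iv D5595) D5594
theorem F9452 : act 2 n6477 = n8484 := d7_3 F9451 F5078 D6477
def n8485 : Q := act 1 n5600
theorem D8485 : act 1 n5600 = n8485 := rfl
theorem F9453 : act 0 n8485 = n8281 := d0_1 D8485 F9097 (iv D7098) (iv D4202) D4201 D7095 F6967
def n8486 : Q := act 4 n5600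
theorem D8486 : act 4 n5600 = n8486 := rfl
def n8487 : Q := act 4 n5602
theorem D8487 : act 4 n5602 = n8487 := rfl
theorem F9454 : act 0 n8487 = n8487 := d3_1 D8487 (iv D8487) F4613
theorem F9455 : act 1 n8487 = n6113 := d6_1 D8487 (iv D6113) (iv F4611)
theorem F9456 : act 2 n8487 = n5606 := d8_1 D8487 (iv D5606) (iv F4617) F5489 F5487 (iv D5632) (iv F4612)
theorem F9457 : act 3 n8487 = n5894 := d9_1 D8487 (iv D5894) F4610 (iv D5601) (iv D2998) D2999 D5602
def n8488 : Q := act 2 n5607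
theorem D8488 : act 2 n5607 = n8488 := rfl
theorem F9458 : act 0 n8488 = n5609 := d1_1 D8488 (iv D5609) (iv F3079) D6948 (iv F9206) (iv D8337) (iv F4624)
theorem F9459 : act 3 n8488 = n7408 := d7_2 F8626 D8488 (iv F8625)
def n8489 : Q := act 4 n5608
theorem D8489 : act 4 n5608 = n8489 := rfl
theorem F9460 : act 0 n8489 = n8339 := d3_1 D8489 (iv D8339) (iv F4627)
theorem F9461 : act 1 n8489 = n6445 := d6_1 D8489 (iv F7061) F7060
theorem F9462 : act 3 n8489 = n7415 := d12_2 (iv F4626) D8489 (iv F8640) F8642 (iv D5080) D5079 F4062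
def n8490 : Q := act 1 n5610
theorem D8490 : act 1 n5610 = n8490 := rfl
theorem F9463 : act 4 n8490 = n5695 := d6_2 F9142 D8490 (iv F9144)
theorem F9464 : act 3 n5911 = n8490 := d16_2 F9095 F9092 (iv D8490) (iv D5610) F2092 (iv F2100) D5621 F4648 (iv F9428) F9430 (iv F9164) F9163
def n8491 : Q := act 3 n5610
theorem D8491 : act 3 n5610 = n8491 := rfl
theorem F9465 : act 0 n8491 = n7363 := d2_1 D8491 F8636 (iv D4562) D4564 (iv F7150) F7149 F5718
theorem F9466 : act 1 n8491 = n5911 := d5_1 D8491 F9464 (iv D8490)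
theorem F9467 : act 2 n8491 = n5611 := d7_1 D8491 (iv D5611) D5610
theorem F9468 : act 4 n5910 = n8491 := d6_0 F9466 (iv D5911) D5910
def n8492 : Q := act 4 n5612
theorem D8492 : act 4 n5612 = n8492 := rfl
theorem F9469 : act 0 n8492 = n5615 := d3_1 D8492 (iv D5615) D5612
theorem F9470 : act 1 n8492 = n6868 := d6_1 D8492 F6655 (iv F4633)
theorem F9471 : act 3 n8492 = n7418 := d12_2 (iv F4632) D8492 F7548 F7153 (iv D2328) D2327 D4568
def n8493 : Q := act 3 n5613
theorem D8493 : act 3 n5613 = n8493 := rfl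
theorem F9472 : act 1 n8493 = n5614 := d5_1 D8493 (iv D5614) D5613
theorem F9473 : act 4 n8493 = n5719 := d9_2 (iv F5758) D8493 F4785 D5911 F9464 F9463 F4755
def n8494 : Q := act 4 n5614
theorem D8494 : act 4 n5614 = n8494 := rfl
theorem F9474 : act 0 n8494 = n7317 := d3_1 D8494 (iv D7317) (iv F4634)
theorem F9475 : act 1 n8494 = n5719 := d6_1 D8494 (iv F9473) F9472
theorem F9476 : act 3 n8494 = n5910 := d9_1 D8494 F9468 (iv D8491) (iv F9142) F9143 (iv D5615) D5614
def n8495 : Q := act 4 n5617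
theorem D8495 : act 4 n5617 = n8495 := rfl
theorem F9477 : act 0 n8495 = n8341 := d3_1 D8495 (iv D8341) (iv F4639)
theorem F9478 : act 2 n8495 = n8351 := d11_2 D5617 D8495 (iv D8351) (iv D5466) (iv D2904) D2903 (iv F2095)
theorem F9479 : act 3 n8495 = n6025 := d12_2 (iv F4640) D8495 (iv D6025) F5250 (iv D6005) (iv D3276) D3275
def n8496 : Q := act 2 n5618
theorem D8496 : act 2 n5618 = n8496 := rfl
theorem F9480 : act 0 n8496 = n8343 := d1_1 D8496 (iv D8343) F4495 D5459 D8345 F9225 (iv F4641)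
def n8497 : Q := act 3 n5618
theorem D8497 : act 3 n5618 = n8497 := rfl
theorem F9481 : act 0 n8497 = n7428 := d2_1 D8497 (iv D7428) F3531 D4581 D7439 F7575 (iv F4641)
theorem F9482 : act 1 n8497 = n5621 := d5_1 D8497 (iv D5621) (iv F4642)
theorem F9483 : act 4 n8456 = n8497 := d6_0 F9482 (iv F5080) (iv F9383)
def n8498 : Q := act 2 n5622
theorem D8498 : act 2 n5622 = n8498 := rfl
theorem F9484 : act 0 n8498 = n8349 := d1_1 D8498 (iv D8349) (iv D5463) (iv F4497) D8347 F9231 F5500
theorem F9485 : act 3 n8498 = n8318 := d7_2 (iv F4649) D8498 (iv D8318)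
def n8499 : Q := act 4 n5622
theorem D8499 : act 4 n5622 = n8499 := rfl
theorem F9486 : act 0 n8499 = n8372 := d3_1 D8499 F9270 F5500
theorem F9487 : act 1 n8499 = n5624 := d6_1 D8499 (iv D5624) D5622
theorem F9488 : act 3 n8499 = n8456 := d9_1 D8499 F9483 (iv D8497) (iv D5618) F2096 D5440 (iv F4649)
def n8500 : Q := act 2 n5624
theorem D8500 : act 2 n5624 = n8500 := rfl
theorem F9489 : act 0 n8500 = n8500 := d1_1 D8500 (iv D8500) F4652 F3411 F923 (iv F3411) (iv F4652)
theorem F9490 : act 3 n8500 = n6807 := d7_2 F5079 D8500 F6543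
theorem F9491 : act 4 n8500 = n5641 := d8_2 D5624 D8500 (iv D5641) D5642 (iv F6517) F6518 (iv D5623)
theorem F9492 : act 1 n6581 = n8500 := d6_3 F9491 (iv F4688) D6581
def n8501 : Q := act 2 n5625
theorem D8501 : act 2 n5625 = n8501 := rfl
theorem F9493 : act 3 n8501 = n7219 := d7_2 (iv F5049) D8501 F7237
def n8502 : Q := act 4 n5625
theorem D8502 : act 4 n5625 = n8502 := rfl
theorem F9494 : act 0 n8502 = n6189 := d3_1 D8502 F5510 F5065
theorem F9495 : act 1 n8502 = n5626 := d6_1 D8502 (iv D5626) D5625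
theorem F9496 : act 3 n8502 = n8481 := d12_2 (iv F5049) D8502 F9443 (iv F7723) (iv D7525) F5047 D5869
def n8503 : Q := act 2 n5627
theorem D8503 : act 2 n5627 = n8503 := rfl
theorem F9497 : act 1 n8503 = n5676 := d4_1 D8503 F6429 F6266 F2869 (iv F2863) (iv F2872) (iv F4658)
theorem F9498 : act 3 n8503 = n5639 := d7_2 (iv F4659) D8503 (iv D5639)
theorem F9499 : act 0 n8503 = n6289 := d10_3 (iv D6193) (iv F4657) D8503 F5660 D6461 F5948 (iv F5515)
theorem F9500 : act 4 n8503 = n5675 := d11_1 D8503 (iv F9367) F9365 (iv F8736) (iv F8737) (iv D6192) (iv F4657)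
def n8504 : Q := act 1 n5629
theorem D8504 : act 1 n5629 = n8504 := rfl
theorem F9501 : act 0 n8504 = n5764 := d0_1 D8504 F4878 (iv D4189) (iv D2049) D2048 D4185 (iv F4662)
theorem F9502 : act 2 n8504 = n6110 := d4_2 D5629 D8504 (iv D6110) (iv D3374) (iv F2031) F2032 D3020
theorem F9503 : act 4 n8278 = n8504 := d3_0 F9501 F4880 D8278
def n8505 : Q := act 3 n5629
theorem D8505 : act 3 n5629 = n8505 := rfl
theorem F9504 : act 2 n8505 = n5630 := d7_1 D8505 (iv D5630) D5629
def n8506 : Q := act 4 n5629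
theorem D8506 : act 4 n5629 = n8506 := rfl
theorem F9505 : act 0 n8506 = n7068 := d3_1 D8506 (iv D7068) (iv F4662)
theorem F9506 : act 1 n8506 = n8278 := d6_1 D8506 F9503 (iv D8504)
theorem F9507 : act 2 n8506 = n8404 := d17_4 (iv D3022) D3020 D5629 D8506 (iv D8404) (iv D5512) D5513 F4545 (iv F4684) (iv D5639) F2113 (iv F2108)
def n8507 : Q := act 0 n5630
theorem D8507 : act 0 n5630 = n8507 := rfl
theorem F9508 : act 3 n8507 = n5783 := d2_2 D5630 D8507 F4913 F3629 D7489 F7654 (iv D5628)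
theorem F9509 : act 2 n8507 = n5784 := d10_2 D5630 D8507 F4914 (iv D4058) D4056 (iv F4661) (iv D5628)
theorem F9510 : act 1 n8507 = n5924 := d14_4 (iv F4611) F4612 (iv F4663) D8507 (iv F7127) F7126 D7171 F7167 (iv F8230) F8229 F5408
theorem F9511 : act 4 n8507 = n5794 := d17_0 F4928 F2316 D3221 (iv F7129) F5117 (iv F8556) F8557 (iv F9456) (iv D8487) F4612 (iv F4663) D8507
def n8508 : Q := act 4 n5630
theorem D8508 : act 4 n5630 = n8508 := rfl
theorem F9512 : act 0 n8508 = n5794 := d3_1 D8508 (iv F9511) (iv D8507)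
theorem F9513 : act 1 n8508 = n5632 := d6_1 D8508 (iv D5632) (iv F4663)
theorem F9514 : act 3 n8508 = n5893 := d12_2 D5630 D8508 (iv F5395) (iv F7708) F7707 F7654 (iv D5628)
theorem F9515 : act 2 n6058 = n8508 := d7_3 F9514 (iv F6470) F6471
def n8509 : Q := act 3 n5631
theorem D8509 : act 3 n5631 = n8509 := rfl
theorem F9516 : act 1 n8509 = n5633 := d5_1 D8509 (iv D5633) (iv F4664)
theorem F9517 : act 4 n8509 = n5792 := d9_2 D5631 D8509 F4924 D5893 (iv F9514) (iv D8508) (iv D5630)
theorem F9518 : act 0 n8509 = n5793 := d16_8 D3242 F2340 (iv D1557) (iv F876) D3299 D6032 F5348 D8509 F4927 (iv D3217) F834 (iv F844)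
def n8510 : Q := act 2 n5637
theorem D8510 : act 2 n5637 = n8510 := rfl
theorem F9519 : act 0 n8510 = n8389 := d1_1 D8510 F9299 F6297 (iv F7100) F7098 F4673 D5637
theorem F9520 : act 1 n8510 = n6239 := d4_1 D8510 (iv F7140) F7138 F3212 (iv F3207) (iv F3413) (iv F4676)
theorem F9521 : act 3 n8510 = n7512 := d7_2 (iv F4675) D8510 (iv D7512)
theorem F9522 : act 4 n6237 = n8510 := d12_1 D6237 F9521 (iv F8803) (iv D8115) (iv F8724) F8723 F4123
def n8511 : Q := act 2 n5640
theorem D8511 : act 2 n5640 = n8511 := rfl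
theorem F9523 : act 3 n8511 = n8480 := d7_2 (iv F4685) D8511 (iv D8480)
def n8512 : Q := act 4 n5640
theorem D8512 : act 4 n5640 = n8512 := rfl
theorem F9524 : act 0 n8512 = n6195 := d3_1 D8512 F5522 F4805
theorem F9525 : act 1 n8512 = n5642 := d6_1 D8512 (iv D5642) D5640
def n8513 : Q := act 4 n5645
theorem D8513 : act 4 n5645 = n8513 := rfl
theorem F9526 : act 0 n8513 = n6779 := d3_1 D8513 F7938 F7935
theorem F9527 : act 1 n8513 = n5658 := d6_1 D8513 (iv D5658) (iv F4693)
theorem F9528 : act 2 n8513 = n5912 := d8_1 D8513 (iv F7767) (iv F9173) F9175 (iv D5901) D5902 F5098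
theorem F9529 : act 3 n8513 = n5912 := d9_1 D8513 (iv F7767) F7766 (iv D5643) (iv F2118) D3032 D5645
def n8514 : Q := act 4 n5646
theorem D8514 : act 4 n5646 = n8514 := rfl
theorem F9530 : act 0 n8514 = n5670 := d3_1 D8514 (iv D5670) (iv F4695)
theorem F9531 : act 1 n8514 = n6244 := d6_1 D8514 (iv D6244) (iv F4694)
def n8515 : Q := act 2 n5647
theorem D8515 : act 2 n5647 = n8515 := rfl
theorem F9532 : act 0 n8515 = n5659 := d1_1 D8515 (iv D5659) F2127 D3043 (iv F4701) (iv D5650) (iv F4696)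
def n8516 : Q := act 3 n5647
theorem D8516 : act 3 n5647 = n8516 := rfl
theorem F9533 : act 1 n8516 = n6270 := d5_1 D8516 F5629 (iv F4697)
theorem F9534 : act 0 n6240 = n8516 := d0_7 F9533 (iv D6270) (iv D3498) (iv D1659) (iv F958) D3478 D6240
def n8517 : Q := act 3 n5648
theorem D8517 : act 3 n5648 = n8517 := rfl
theorem F9535 : act 1 n8517 = n5651 := d5_1 D8517 (iv D5651) (iv F4699)
theorem F9536 : act 0 n8517 = n6216 := d12_3 F2123 D5648 D8517 F5563 (iv D3643) (iv D1739) D1737
theorem F9537 : act 4 n6493 = n8517 := d3_0 F9536 F5564 D6493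
def n8518 : Q := act 2 n5649
theorem D8518 : act 2 n5649 = n8518 := rfl
theorem F9538 : act 0 n8518 = n6816 := d1_1 D8518 (iv D6816) F2976 D5295 D8229 F9005 F5430
def n8519 : Q := act 3 n5649
theorem D8519 : act 3 n5649 = n8519 := rfl
theorem F9539 : act 1 n8519 = n6423 := d5_1 D8519 (iv D6423) (iv F4700)
def n8520 : Q := act 1 n5650
theorem D8520 : act 1 n5650 = n8520 := rfl
theorem F9540 : act 0 n8520 = n6042 := d0_1 D8520 F5365 F5199 (iv F6260) F6259 F2870 (iv F4701)
theorem F9541 : act 4 n8520 = n6039 := d6_2 F6263 D8520 (iv F6262)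
def n8521 : Q := act 3 n5650
theorem D8521 : act 3 n5650 = n8521 := rfl
theorem F9542 : act 2 n8521 = n5651 := d7_1 D8521 (iv D5651) D5650
theorem F9543 : act 0 n8521 = n8258 := d10_1 D8521 (iv D8258) (iv D5328) F2129 F2127 D3043 (iv F4701)
def n8522 : Q := act 0 n5651
theorem D8522 : act 0 n5651 = n8522 := rfl
theorem F9544 : act 1 n8522 = n6205 := d0_2 F9535 D8522 (iv D6205) F2508 D3463 D6216 (iv F9536)
theorem F9545 : act 2 n8522 = n8259 := d1_2 F9542 D8522 (iv D8259) (iv D5329) D5328 D8258 (iv F9543)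
def n8523 : Q := act 4 n5651
theorem D8523 : act 4 n5651 = n8523 := rfl
theorem F9546 : act 1 n8523 = n6493 := d6_1 D8523 F9537 F9535
theorem F9547 : act 2 n8523 = n5658 := d11_2 F9542 D8523 (iv F4706) D7342 (iv F7443) D8258 (iv F9543)
theorem F9548 : act 3 n5913 = n8523 := d7_0 F9547 F4705 D5913
theorem F9549 : act 4 n8519 = n5913 := d9_0 F9548 (iv D8523) (iv D5651) (iv D3036) D3035 D5649 D8519
def n8524 : Q := act 0 n5652
theorem D8524 : act 0 n5652 = n8524 := rfl
theorem F9550 : act 1 n8524 = n6127 := d0_2 F5917 D8524 F5445 F4177 F2796 (iv F2705) (iv F5916)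
theorem F9551 : act 2 n8524 = n8228 := d1_2 D5652 D8524 F9003 (iv F4910) F4909 (iv D3986) (iv F2126)
theorem F9552 : act 4 n8524 = n6125 := d3_2 F5918 D8524 (iv F5910)
def n8525 : Q := act 3 n5653
theorem D8525 : act 3 n5653 = n8525 := rfl
theorem F9553 : act 0 n8525 = n5686 := d10_1 D8525 (iv D5686) (iv D3054) (iv D1383) (iv F770) D3038 D5653
def n8526 : Q := act 2 n5654
theorem D8526 : act 2 n5654 = n8526 := rfl
theorem F9554 : act 0 n8526 = n7134 := d1_1 D8526 F7064 F5921 (iv D5354) D5353 (iv F6768) F6766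
theorem F9555 : act 4 n7131 = n8526 := d3_0 F9554 (iv D7134) D7131
def n8527 : Q := act 0 n5655
theorem D8527 : act 0 n5655 = n8527 := rfl
theorem F9556 : act 1 n8527 = n6170 := d0_2 F5998 D8527 (iv F5694) F5695 F2591 (iv F2746) (iv F5996)
theorem F9557 : act 4 n8527 = n6168 := d3_2 (iv F5999) D8527 (iv F5993)
def n8528 : Q := act 2 n5657
theorem D8528 : act 2 n5657 = n8528 := rfl
theorem F9558 : act 3 n8528 = n6818 := d7_2 (iv F4703) D8528 (iv D6818)
theorem F9559 : act 4 n8528 = n6474 := d8_2 (iv F4707) D8528 (iv F6449) (iv F9052) (iv D8258) F7443 (iv D7342)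
theorem F9560 : act 0 n8528 = n5678 := d10_3 D3039 D5657 D8528 (iv D5678) (iv D3050) (iv D1382) (iv F770)
theorem F9561 : act 1 n8528 = n6478 := d15_3 F4702 D5657 D8528 F5985 F2735 (iv F5322) (iv F5561) F5562 (iv F5695) F5694 (iv F9556) (iv D8527)
def n8529 : Q := act 3 n5660
theorem D8529 : act 3 n5660 = n8529 := rfl
theorem F9562 : act 0 n8529 = n5987 := d2_1 D8529 F5217 (iv D5293) (iv F1883) D5297 D8231 F9011
theorem F9563 : act 1 n8529 = n5950 := d5_1 D8529 (iv F6599) F6600
theorem F9564 : act 2 n8529 = n5661 := d7_1 D8529 (iv D5661) D5660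
def n8530 : Q := act 4 n5660
theorem D8530 : act 4 n5660 = n8530 := rfl
theorem F9565 : act 2 n8530 = n5674 := d11_2 D5660 D8530 (iv D5674) (iv D3049) (iv D1381) (iv F771) D3041
def n8531 : Q := act 4 n5661
theorem D8531 : act 4 n5661 = n8531 := rfl
theorem F9566 : act 0 n8531 = n6815 := d3_1 D8531 (iv D6815) (iv F4712)
theorem F9567 : act 3 n8531 = n5666 := d12_2 D5661 D8531 (iv D5666) (iv D3044) (iv D1379) D1378 D3041
def n8532 : Q := act 2 n5662
theorem D8532 : act 2 n5662 = n8532 := rfl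
def n8533 : Q := act 3 n5662
theorem D8533 : act 3 n5662 = n8533 := rfl
theorem F9568 : act 0 n8533 = n6817 := d2_1 D8533 (iv D6817) F2976 D5296 (iv F4714) (iv D5664) (iv F4713)
def n8534 : Q := act 0 n5663
theorem D8534 : act 0 n5663 = n8534 := rfl
theorem F9569 : act 2 n8534 = n5670 := d11_4 (iv F771) D3042 D5663 D8534 (iv D5670) (iv D3046) (iv D1380)
def n8535 : Q := act 0 n5665
theorem D8535 : act 0 n5665 = n8535 := rfl
theorem F9570 : act 2 n8535 = n6240 := d10_2 D5665 D8535 F9534 (iv D8516) F4696 D5650 F4701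
def n8536 : Q := act 2 n5666
theorem D8536 : act 2 n5666 = n8536 := rfl
def n8537 : Q := act 4 n5666
theorem D8537 : act 4 n5666 = n8537 := rfl
theorem F9571 : act 0 n8537 = n5667 := d3_1 D8537 (iv D5667) D5666
def n8538 : Q := act 2 n5668
theorem D8538 : act 2 n5668 = n8538 := rfl
theorem F9572 : act 3 n8538 = n7976 := d7_2 F5131 D8538 F8529
theorem F9573 : act 0 n8538 = n8153 := d10_3 (iv F7804) F7802 D8538 F8849 F4205 F3698 D4702
theorem F9574 : act 4 n8538 = n5689 := d11_1 D8538 F4751 (iv F8423) F8425 (iv F8875) F8874 F7802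
theorem F9575 : act 1 n8538 = n5692 := d14_2 (iv F4716) D8538 F4754 F2137 (iv F1988) (iv F4550) F4552 F2005 F750 (iv F772) (iv F2133)
def n8539 : Q := act 4 n5669
theorem D8539 : act 4 n5669 = n8539 := rfl
theorem F9576 : act 1 n8539 = n6229 := d6_1 D8539 (iv D6229) (iv F4717)
theorem F9577 : act 3 n8539 = n6240 := d12_2 D5669 D8539 F9534 (iv D8516) (iv D5647) D5646 F4695
def n8540 : Q := act 3 n5670
theorem D8540 : act 3 n5670 = n8540 := rfl
theorem F9578 : act 1 n8540 = n6231 := d5_1 D8540 (iv D6231) (iv F4719)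
def n8541 : Q := act 2 n5671
theorem D8541 : act 2 n5671 = n8541 := rfl
theorem F9579 : act 3 n8541 = n5686 := d7_2 (iv F4721) D8541 (iv D5686)
def n8542 : Q := act 0 n5672
theorem D8542 : act 0 n5672 = n8542 := rfl
def n8543 : Q := act 3 n5672
theorem D8543 : act 3 n5672 = n8543 := rfl
theorem F9580 : act 2 n8543 = n5673 := d7_1 D8543 (iv D5673) D5672
def n8544 : Q := act 4 n5673
theorem D8544 : act 4 n5673 = n8544 := rfl
theorem F9581 : act 0 n8544 = n6820 := d3_1 D8544 (iv D6820) (iv F4722)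
theorem F9582 : act 3 n8544 = n5687 := d9_1 D8544 (iv D5687) (iv F4721) (iv D5671) (iv D3047) D3048 D5673
def n8545 : Q := act 1 n5674
theorem D8545 : act 1 n5674 = n8545 := rfl
theorem F9583 : act 0 n8545 = n6293 := d0_1 D8545 F5663 F2806 (iv F2723) (iv F4723) (iv D5675) D5674
theorem F9584 : act 4 n6290 = n8545 := d17_0 (iv D8545) (iv F9565) (iv D8530) (iv D5660) (iv F2567) (iv D3506) (iv D1663) (iv D701) D703 D1667 D3512 D6290
def n8546 : Q := act 3 n5674
theorem D8546 : act 3 n5674 = n8546 := rfl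
theorem F9585 : act 0 n8546 = n6819 := d2_1 D8546 (iv D6819) (iv F4909) (iv F7796) (iv D7562) F3688 D5674
def n8547 : Q := act 4 n5674
theorem D8547 : act 4 n5674 = n8547 := rfl
theorem F9586 : act 0 n8547 = n5676 := d3_1 D8547 (iv D5676) D5674
theorem F9587 : act 1 n8547 = n6290 := d6_1 D8547 F9584 (iv D8545)
def n8548 : Q := act 1 n5682
theorem D8548 : act 1 n5682 = n8548 := rfl
theorem F9588 : act 0 n8548 = n6332 := d0_1 D8548 F5712 F2607 (iv F2722) (iv F5791) F4748 D5682
theorem F9589 : act 4 n6330 = n8548 := d3_0 F9588 (iv D6332) D6330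
def n8549 : Q := act 2 n5682
theorem D8549 : act 2 n5682 = n8549 := rfl
def n8550 : Q := act 3 n5682
theorem D8550 : act 3 n5682 = n8550 := rfl
theorem F9590 : act 0 n8550 = n6818 := d2_1 D8550 (iv F9558) F9560 (iv D5678) (iv D3050) D3052 D5682
def n8551 : Q := act 4 n5682
theorem D8551 : act 4 n5682 = n8551 := rfl
theorem F9591 : act 0 n8551 = n5683 := d3_1 D8551 (iv D5683) D5682
theorem F9592 : act 1 n8551 = n6330 := d6_1 D8551 F9589 (iv D8548)
def n8552 : Q := act 2 n5685
theorem D8552 : act 2 n5685 = n8552 := rfl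
theorem F9593 : act 3 n8552 = n7973 := d7_2 (iv F5128) D8552 F8519
theorem F9594 : act 0 n8552 = n8154 := d10_3 D7565 F7805 D8552 (iv D8154) F4187 (iv D4699) (iv F3692)
theorem F9595 : act 4 n8552 = n5715 := d11_1 D8552 F4782 (iv F8340) F8341 F8862 F8861 F7805
theorem F9596 : act 1 n8552 = n5718 := d14_2 D5685 D8552 F4784 F2143 (iv F2171) (iv F4547) (iv D5516) F1985 F740 (iv F773) D3054
def n8553 : Q := act 4 n5685
theorem D8553 : act 4 n5685 = n8553 := rfl
theorem F9597 : act 1 n8553 = n5687 := d6_1 D8553 (iv D5687) D5685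
theorem F9598 : act 2 n8553 = n8553 := d8_1 D8553 (iv D8553) D8552 F9595 F4782 (iv F9595) (iv D8552)
def n8554 : Q := act 2 n5687
theorem D8554 : act 2 n5687 = n8554 := rfl
theorem F9599 : act 4 n8554 = n6240 := d11_1 D8554 (iv F9570) (iv D8535) F4715 D5667 F5783 (iv F4749)
theorem F9600 : act 1 n8554 = n6242 := d15_9 D6275 F5633 F5320 (iv F2625) (iv F5779) F5780 F5783 (iv F4749) D8554 F5593 F2539 (iv F2562)
def n8555 : Q := act 0 n5690
theorem D8555 : act 0 n5690 = n8555 := rfl
theorem F9601 : act 1 n8555 = n6577 := d0_2 (iv F4752) D8555 F6142 (iv D4373) (iv D2159) (iv F1321) D4370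
theorem F9602 : act 3 n8555 = n5903 := d10_4 (iv F774) D3056 D5690 D8555 (iv D5903) (iv D3205) (iv D1491)
def n8556 : Q := act 3 n5690
theorem D8556 : act 3 n5690 = n8556 := rfl
theorem F9603 : act 1 n8556 = n7258 := d5_1 D8556 (iv D7258) (iv F4752)
theorem F9604 : act 2 n8556 = n5691 := d7_1 D8556 (iv D5691) D5690
def n8557 : Q := act 4 n5690
theorem D8557 : act 4 n5690 = n8557 := rfl
theorem F9605 : act 1 n8557 = n6230 := d6_1 D8557 F5580 (iv F4752)
def n8558 : Q := act 4 n5691
theorem D8558 : act 4 n5691 = n8558 := rfl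
theorem F9606 : act 0 n8558 = n6841 := d3_1 D8558 (iv D6841) (iv F4753)
theorem F9607 : act 1 n8558 = n7973 := d6_1 D8558 F8520 F7194
theorem F9608 : act 3 n8558 = n5718 := d12_2 D5691 D8558 F4784 F2144 (iv D1493) (iv F774) D3056
def n8559 : Q := act 2 n5692
theorem D8559 : act 2 n5692 = n8559 := rfl
def n8560 : Q := act 3 n5692
theorem D8560 : act 3 n5692 = n8560 := rfl
theorem F9609 : act 0 n8560 = n6849 := d2_1 D8560 F6626 (iv F4778) (iv D5708) F2141 F2138 (iv F4754)
theorem F9610 : act 1 n8560 = n7976 := d5_1 D8560 (iv F9572) F9575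
theorem F9611 : act 4 n8560 = n5717 := d9_2 D5692 D8560 (iv D5717) D5718 (iv F9608) (iv D8558) (iv D5691)
def n8561 : Q := act 2 n5693
theorem D8561 : act 2 n5693 = n8561 := rfl
def n8562 : Q := act 3 n5693
theorem D8562 : act 3 n5693 = n8562 := rfl
theorem F9612 : act 0 n8562 = n6840 := d2_1 D8562 F6605 (iv F3476) (iv F3475) (iv D3208) (iv F2136) D5693
def n8563 : Q := act 4 n5693
theorem D8563 : act 4 n5693 = n8563 := rfl
theorem F9613 : act 0 n8563 = n5694 := d3_1 D8563 (iv D5694) D5693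
def n8564 : Q := act 2 n5694
theorem D8564 : act 2 n5694 = n8564 := rfl
theorem F9614 : act 3 n8564 = n5713 := d7_2 (iv F5015) D8564 (iv D5713)
def n8565 : Q := act 0 n5695
theorem D8565 : act 0 n5695 = n8565 := rfl
theorem F9615 : act 1 n8565 = n7827 := d0_2 F9144 D8565 (iv D7827) (iv F4383) (iv D5396) (iv F4378) D8298
def n8566 : Q := act 2 n5702
theorem D8566 : act 2 n5702 = n8566 := rfl
theorem F9616 : act 0 n8566 = n5709 := d1_1 D8566 (iv D5709) (iv D3065) (iv D1390) D1389 D3062 D5702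
theorem F9617 : act 1 n8566 = n8480 := d4_1 D8566 (iv D8480) (iv D5591) (iv F2826) F2825 D3798 (iv F4766)
def n8567 : Q := act 3 n5702
theorem D8567 : act 3 n5702 = n8567 := rfl
theorem F9618 : act 1 n8567 = n6578 := d5_1 D8567 (iv D6578) (iv F4766)
theorem F9619 : act 0 n8567 = n5716 := d10_1 D8567 (iv D5716) (iv D3068) (iv D1391) D1389 D3062 D5702
def n8568 : Q := act 4 n5702
theorem D8568 : act 4 n5702 = n8568 := rfl
theorem F9620 : act 0 n8568 = n5705 := d3_1 D8568 (iv D5705) D5702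
theorem F9621 : act 1 n8568 = n6579 := d6_1 D8568 (iv D6579) (iv F4766)
theorem F9622 : act 2 n8568 = n8235 := d11_2 (iv D8566) D8568 (iv D8235) (iv F4781) (iv D5710) D5709 (iv F9616)
def n8569 : Q := act 4 n5704
theorem D8569 : act 4 n5704 = n8569 := rfl
theorem F9623 : act 1 n8569 = n7112 := d6_1 D8569 (iv D7112) (iv F4770)
def n8570 : Q := act 2 n5705
theorem D8570 : act 2 n5705 = n8570 := rfl
theorem F9624 : act 0 n8570 = n5713 := d1_1 D8570 (iv D5713) (iv F4780) F4781 D8235 (iv F9622) F9620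
def n8571 : Q := act 3 n5705
theorem D8571 : act 3 n5705 = n8571 := rfl
theorem F9625 : act 1 n8571 = n7305 := d5_1 D8571 (iv F7385) (iv F5893)
theorem F9626 : act 4 n5905 = n8571 := d6_0 F9625 (iv D7305) (iv F5104)
theorem F9627 : act 3 n8569 = n5906 := d9_5 F9626 (iv D8571) (iv D5705) D5704 D8569 (iv D5906) D5905
def n8572 : Q := act 2 n5706
theorem D8572 : act 2 n5706 = n8572 := rfl
theorem F9628 : act 1 n8572 = n8526 := d4_1 D8572 (iv D8526) (iv D5654) (iv D3038) (iv F2119) D5644 (iv F4773)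
theorem F9629 : act 3 n8572 = n5907 := d7_2 (iv F4774) D8572 (iv D5907)
def n8573 : Q := act 0 n5707
theorem D8573 : act 0 n5707 = n8573 := rfl
def n8574 : Q := act 1 n5707
theorem D8574 : act 1 n5707 = n8574 := rfl
theorem F9630 : act 2 n8574 = n6439 := d4_2 D5707 D8574 F5917 (iv D5652) (iv F4691) (iv F4765) F4764
def n8575 : Q := act 3 n5707
theorem D8575 : act 3 n5707 = n8575 := rfl
theorem F9631 : act 2 n8575 = n5708 := d7_1 D8575 (iv D5708) D5707
def n8576 : Q := act 4 n5707
theorem D8576 : act 4 n5707 = n8576 := rfl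
def n8577 : Q := act 2 n5711
theorem D8577 : act 2 n5711 = n8577 := rfl
def n8578 : Q := act 3 n5711
theorem D8578 : act 3 n5711 = n8578 := rfl
theorem F9632 : act 0 n8578 = n6847 := d2_1 D8578 (iv D6847) F3160 F3159 (iv D3065) D3066 D5711
def n8579 : Q := act 4 n5711
theorem D8579 : act 4 n5711 = n8579 := rfl
theorem F9633 : act 0 n8579 = n5712 := d3_1 D8579 (iv D5712) D5711
def n8580 : Q := act 2 n5712
theorem D8580 : act 2 n5712 = n8580 := rfl
theorem F9634 : act 3 n8580 = n5909 := d7_2 (iv F5016) D8580 (iv D5909)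
def n8581 : Q := act 3 n5715
theorem D8581 : act 3 n5715 = n8581 := rfl
theorem F9635 : act 0 n8581 = n7977 := d2_1 D8581 F8531 F7160 (iv F7815) (iv F7816) (iv F8342) F8340
theorem F9636 : act 1 n8581 = n5717 := d5_1 D8581 (iv D5717) D5715
theorem F9637 : act 2 n8581 = n8581 := d7_1 D8581 (iv D8581) F4782
theorem F9638 : act 4 n8581 = n7976 := d9_2 F9595 D8581 (iv F9572) F9574 (iv F7196) (iv F8520) (iv F9593)
def n8582 : Q := act 1 n5716
theorem D8582 : act 1 n5716 = n8582 := rfl
theorem F9639 : act 0 n8582 = n7161 := d0_1 D8582 F7138 (iv F7031) (iv F8069) F8071 (iv F9618) F9619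
theorem F9640 : act 2 n8582 = n8582 := d4_2 D5716 D8582 (iv D8582) (iv D5716) D5715 F4782 (iv D5715)
theorem F9641 : act 4 n8582 = n6241 := d11_1 F9640 (iv D6241) (iv D3478) (iv F2538) D6239 (iv F7140) (iv F9639)
def n8583 : Q := act 3 n5716
theorem D8583 : act 3 n5716 = n8583 := rfl
theorem F9642 : act 2 n8583 = n5717 := d7_1 D8583 (iv D5717) D5716
def n8584 : Q := act 4 n5716
theorem D8584 : act 4 n5716 = n8584 := rfl
theorem F9643 : act 1 n8584 = n6241 := d6_1 D8584 (iv F9641) (iv D8582)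
def n8585 : Q := act 2 n5718
theorem D8585 : act 2 n5718 = n8585 := rfl
def n8586 : Q := act 0 n5719
theorem D8586 : act 0 n5719 = n8586 := rfl
theorem F9644 : act 1 n8586 = n7831 := d0_2 F9475 D8586 (iv D7831) (iv F7346) F7345 (iv F7408) (iv F9474)
def n8587 : Q := act 2 n5726
theorem D8587 : act 2 n5726 = n8587 := rfl
theorem F9645 : act 0 n8587 = n5732 := d1_1 D8587 F8237 (iv D7498) (iv D4632) D4631 F4596 D5726
theorem F9646 : act 3 n8587 = n6903 := d7_2 F4793 D8587 (iv D6903)
def n8588 : Q := act 4 n5726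
theorem D8588 : act 4 n5726 = n8588 := rfl
theorem F9647 : act 0 n8588 = n5727 := d3_1 D8588 (iv D5727) D5726
theorem F9648 : act 1 n8588 = n6898 := d6_1 D8588 F6709 (iv F4792)
theorem F9649 : act 2 n8588 = n8061 := d11_2 (iv D8587) D8588 (iv D8061) D8062 F8703 (iv F8237) (iv F9645)
theorem F9650 : act 3 n8588 = n6896 := d12_2 F4793 D8588 (iv F8857) (iv F8859) (iv D5743) D5742 F4806
def n8589 : Q := act 2 n5727
theorem D8589 : act 2 n5727 = n8589 := rfl
theorem F9651 : act 0 n8589 = n7733 := d1_1 D8589 F8126 F8704 (iv D8062) D8061 (iv F9649) F9647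
theorem F9652 : act 3 n8589 = n5872 := d7_2 (iv F4794) D8589 (iv D5872)
def n8590 : Q := act 0 n5728
theorem D8590 : act 0 n5728 = n8590 := rfl
def n8591 : Q := act 1 n5728
theorem D8591 : act 1 n5728 = n8591 := rfl
theorem F9653 : act 2 n8591 = n6500 := d4_2 D5728 D8591 (iv D6500) (iv D3745) (iv F2756) (iv F4790) F4789
def n8592 : Q := act 3 n5728
theorem D8592 : act 3 n5728 = n8592 := rfl
theorem F9654 : act 2 n8592 = n5729 := d7_1 D8592 (iv D5729) D5728
theorem F9655 : act 0 n7749 = n8592 := d11_7 F9654 F4795 F5048 (iv D4659) D4660 D7528 (iv F8145)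
def n8593 : Q := act 4 n5728
theorem D8593 : act 4 n5728 = n8593 := rfl
def n8594 : Q := act 0 n5729
theorem D8594 : act 0 n5729 = n8594 := rfl
theorem F9656 : act 2 n8594 = n8084 := d1_2 F9654 D8594 (iv D8084) D8085 F8754 (iv F8145) F9655
theorem F9657 : act 3 n8594 = n6904 := d2_2 D5729 D8594 (iv F8870) (iv F8871) (iv D5749) (iv D3085) (iv F2148)
theorem F9658 : act 4 n8594 = n5871 := d3_2 (iv F4795) D8594 (iv D5871)
theorem F9659 : act 1 n8594 = n6897 := d13_2 F9654 D8594 (iv F7735) (iv F8148) (iv D7754) (iv D4859) (iv D2531) (iv F1633) D4855 D7749 F9655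
def n8595 : Q := act 4 n5732
theorem D8595 : act 4 n5732 = n8595 := rfl
theorem F9660 : act 1 n8595 = n5813 := d6_1 D8595 (iv F8289) (iv F8291)
theorem F9661 : act 2 n8595 = n6064 := d11_2 (iv F8237) D8595 (iv F7675) (iv D7504) (iv D4634) D4632 D7498
theorem F9662 : act 3 n8595 = n5873 := d12_2 D5732 D8595 F5055 (iv F6295) (iv D5738) (iv D3080) D3078
def n8596 : Q := act 3 n5733
theorem D8596 : act 3 n5733 = n8596 := rfl
theorem F9663 : act 1 n8596 = n5810 := d5_1 D8596 F7704 F6101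
theorem F9664 : act 2 n8596 = n6045 := d7_1 D8596 (iv D6045) (iv F4800)
theorem F9665 : act 4 n8596 = n5807 := d9_2 D5733 D8596 F4951 D5873 (iv F9662) (iv D8595) (iv D5732)
def n8597 : Q := act 3 n5736
theorem D8597 : act 3 n5736 = n8597 := rfl
theorem F9666 : act 1 n8597 = n5739 := d5_1 D8597 (iv D5739) (iv F4804)
theorem F9667 : act 4 n8597 = n5876 := d9_2 D5736 D8597 (iv D5876) D5877 (iv F5960) F6296 (iv D5735)
theorem F9668 : act 0 n8597 = n7289 := d10_1 D8597 F7349 (iv F9499) F9498 F4683 (iv F5930) F5932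
def n8598 : Q := act 2 n5737
theorem D8598 : act 2 n5737 = n8598 := rfl
theorem F9669 : act 0 n8598 = n8511 := d1_1 D8598 (iv D8511) (iv F4805) (iv D5741) (iv D3082) (iv F2149) D5737
theorem F9670 : act 1 n7078 = n8598 := d16_3 D2050 D4192 D7078 (iv D8598) F6298 (iv D5737) (iv D3080) D3078 D5730 F4796 (iv D4185) (iv D2048)
theorem F9671 : act 3 n8598 = n7076 := d5_2 D7078 F9670 (iv D7076)
theorem F9672 : act 2 n7865 = n7078 := d16_10 F9523 F9442 (iv F8236) (iv F8235) (iv F8320) (iv D7861) (iv D4933) D4935 D7865 F8331 F9670 F9669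
theorem F9673 : act 3 n7077 = n7865 := d7_0 F9672 (iv D7078) D7077
theorem F9674 : act 1 n7077 = n7077 := d5_3 F9673 F8331 (iv F9673)
def n8599 : Q := act 3 n5737
theorem D8599 : act 3 n5737 = n8599 := rfl
theorem F9675 : act 0 n8599 = n6903 := d2_1 D8599 (iv F9646) F9645 (iv D5732) (iv D3078) D3080 D5737
theorem F9676 : act 1 n8599 = n8599 := d5_1 D8599 (iv D8599) F6298
theorem F9677 : act 2 n8599 = n7076 := d7_1 D8599 (iv F9671) (iv D8598)
def n8600 : Q := act 4 n5737
theorem D8600 : act 4 n5737 = n8600 := rfl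
theorem F9678 : act 0 n8600 = n5738 := d3_1 D8600 (iv D5738) D5737
theorem F9679 : act 1 n8600 = n8600 := d6_1 D8600 (iv D8600) F6298
def n8601 : Q := act 0 n5739
theorem D8601 : act 0 n5739 = n8601 := rfl
theorem F9680 : act 1 n8601 = n8601 := d0_2 F9666 D8601 (iv D8601) (iv F9666) F9668 F7348 (iv F9668)
theorem F9681 : act 4 n8601 = n5878 := d3_2 (iv F6293) D8601 (iv D5878)
def n8602 : Q := act 2 n5743
theorem D8602 : act 2 n5743 = n8602 := rfl
def n8603 : Q := act 1 n5744
theorem D8603 : act 1 n5744 = n8603 := rfl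
theorem F9682 : act 0 n8603 = n6347 := d0_1 D8603 (iv F7043) (iv F6123) F4507 D5477 D8366 F9268
theorem F9683 : act 3 n8603 = n5883 := d5_2 (iv F4808) D8603 (iv D5883)
theorem F9684 : act 4 n6346 = n8603 := d17_0 (iv D8603) (iv D5744) (iv D3083) (iv F2149) (iv F4803) F6297 F5962 (iv F7100) (iv F7101) (iv F5777) F5776 D6346
def n8604 : Q := act 4 n5744
theorem D8604 : act 4 n5744 = n8604 := rfl
theorem F9685 : act 1 n8604 = n6346 := d6_1 D8604 F9684 (iv D8603)
theorem F9686 : act 3 n5748 = n8604 := d5_0 F9685 (iv F9205) (iv F9207)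
def n8605 : Q := act 4 n5745
theorem D8605 : act 4 n5745 = n8605 := rfl
theorem F9687 : act 0 n8605 = n5748 := d3_1 D8605 (iv D5748) D5745
theorem F9688 : act 1 n8605 = n8065 := d6_1 D8605 F8708 (iv F4809)
theorem F9689 : act 2 n8605 = n6046 := d8_1 D8605 (iv D6046) (iv F4800) (iv D5733) D5731 (iv F7263) F7262
theorem F9690 : act 3 n8063 = n8605 := d5_0 F9688 (iv D8065) (iv F8705)
def n8606 : Q := act 0 n5746
theorem D8606 : act 0 n5746 = n8606 := rfl
theorem F9691 : act 1 n8606 = n6454 := d0_2 D5746 D8606 (iv F7081) (iv D6857) (iv F4129) (iv F4809) (iv D5745)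
theorem F9692 : act 4 n8606 = n6948 := d3_2 F9209 D8606 (iv F9206)
theorem F9693 : act 2 n8606 = n8492 := d11_4 D5454 D8339 F9214 D8606 (iv D8492) F4631 F4479
def n8607 : Q := act 3 n5746
theorem D8607 : act 3 n5746 = n8607 := rfl
theorem F9694 : act 1 n8607 = n5747 := d5_1 D8607 (iv D5747) D5746
theorem F9695 : act 0 n8607 = n6342 := d10_1 D8607 F5770 D8298 F9143 (iv F9469) (iv F9693) (iv D8606)
theorem F9696 : act 4 n6339 = n8607 := d3_0 F9695 (iv D6342) D6339
def n8608 : Q := act 4 n5747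
theorem D8608 : act 4 n5747 = n8608 := rfl
theorem F9697 : act 1 n8608 = n6339 := d6_1 D8608 F9696 F9694
theorem F9698 : act 3 n8608 = n5884 := d9_1 D8608 (iv D5884) (iv F4808) D8604 (iv F9686) (iv D5748) D5747
def n8609 : Q := act 2 n5749
theorem D8609 : act 2 n5749 = n8609 := rfl
def n8610 : Q := act 4 n5751
theorem D8610 : act 4 n5751 = n8610 := rfl
theorem F9699 : act 0 n8610 = n5778 := d3_1 D8610 (iv D5778) (iv F4818)
theorem F9700 : act 1 n8610 = n6117 := d6_1 D8610 (iv D6117) (iv F4816)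
theorem F9701 : act 3 n8610 = n5835 := d9_1 D8610 (iv D5835) (iv D3138) D3139 F4822 (iv D5752) D5751
theorem F9702 : act 2 n6052 = n8610 := d7_3 F9701 F5023 (iv F5377)
def n8611 : Q := act 3 n5753
theorem D8611 : act 3 n5753 = n8611 := rfl
theorem F9703 : act 1 n8611 = n7491 := d5_1 D8611 (iv F9448) F9447
theorem F9704 : act 2 n8611 = n7020 := d7_1 D8611 (iv D7020) F4826
theorem F9705 : act 0 n8611 = n7845 := d16_8 F8286 (iv D5750) (iv F2157) (iv D1402) D1403 D3090 D5753 D8611 (iv D7845) (iv D4922) D4921 (iv F8285)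
def n8612 : Q := act 3 n5755
theorem D8612 : act 3 n5755 = n8612 := rfl
theorem F9706 : act 1 n8612 = n5758 := d5_1 D8612 (iv D5758) (iv F4830)
theorem F9707 : act 2 n8612 = n8167 := d7_1 D8612 F8892 (iv F4831)
theorem F9708 : act 4 n8612 = n5863 := d9_2 D5755 D8612 (iv F5032) D5864 (iv F5034) (iv F4828) (iv F4829)
theorem F9709 : act 0 n8612 = n7307 := d10_1 D8612 F7391 (iv F9536) (iv D8517) F4698 D6917 F6740
def n8613 : Q := act 2 n5756
theorem D8613 : act 2 n5756 = n8613 := rfl
theorem F9710 : act 0 n8613 = n6641 := d1_1 D8613 F6235 (iv F4884) (iv F6110) F6107 D6567 F6135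
theorem F9711 : act 1 n8613 = n8239 := d4_1 D8613 (iv D8239) (iv D5305) F1888 (iv F1911) D5346 (iv F4832)
theorem F9712 : act 3 n8613 = n5859 := d7_2 (iv F4859) D8613 F5024
theorem F9713 : act 4 n8613 = n6458 := d8_2 D5756 D8613 (iv F6111) F6114 (iv D5759) (iv D3093) (iv F2161)
def n8614 : Q := act 1 n5757
theorem D8614 : act 1 n5757 = n8614 := rfl
theorem F9714 : act 2 n8614 = n8256 := d4_2 D5757 D8614 F9050 F4324 (iv F4346) (iv F4831) F4830
theorem F9715 : act 4 n8614 = n6457 := d6_2 (iv F4857) D8614 (iv D6457)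
theorem F9716 : act 3 n8255 = n8614 := d7_0 F9714 (iv D8256) D8255
def n8615 : Q := act 3 n5757
theorem D8615 : act 3 n5757 = n8615 := rfl
theorem F9717 : act 1 n8615 = n8255 := d5_1 D8615 F9716 (iv D8614)
theorem F9718 : act 2 n8615 = n5758 := d7_1 D8615 (iv D5758) D5757
theorem F9719 : act 4 n8615 = n6473 := d9_2 (iv F4857) D8615 (iv D6473) (iv F5025) (iv F9712) F9713 (iv D6458)
theorem F9720 : act 0 n8615 = n6762 := d10_1 D8615 F6454 F4891 (iv D5769) F2218 D3102 F4834
def n8616 : Q := act 0 n5761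
theorem D8616 : act 0 n5761 = n8616 := rfl
def n8617 : Q := act 4 n5761
theorem D8617 : act 4 n5761 = n8617 := rfl
theorem F9721 : act 1 n8617 = n5763 := d6_1 D8617 (iv D5763) D5761
theorem F9722 : act 2 n8617 = n6440 := d8_1 D8617 F5919 (iv D5354) D5356 (iv F9073) (iv D8269) (iv F4872)
theorem F9723 : act 0 n6938 = n8617 := d1_7 F9722 (iv D6440) (iv D3652) D3651 D6438 F5911 D6938
theorem F9724 : act 4 n8616 = n6938 := d3_0 F9723 (iv D8617) D8616
theorem F9725 : act 3 n8617 = n6440 := d10_4 F5912 F5911 D6938 F9723 (iv D6440) (iv D3652) D3651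
def n8618 : Q := act 4 n5771
theorem D8618 : act 4 n5771 = n8618 := rfl
theorem F9726 : act 0 n8618 = n7177 := d3_1 D8618 (iv D7177) (iv F4892)
theorem F9727 : act 1 n8618 = n8289 := d6_1 D8618 F9122 F8402
theorem F9728 : act 3 n8618 = n5849 := d9_1 D8618 (iv D5849) (iv D3152) D3153 D5850 F6925 F6924
theorem F9729 : act 2 n8618 = n5780 := d11_2 D5771 D8618 (iv D5780) (iv D3108) (iv D1410) (iv F784) D3100
def n8619 : Q := act 2 n5773
theorem D8619 : act 2 n5773 = n8619 := rfl
theorem F9730 : act 1 n8619 = n7615 := d4_1 D8619 F7903 F3733 (iv F4279) (iv F8987) F8988 F8407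
theorem F9731 : act 3 n8619 = n5851 := d7_2 (iv F4896) D8619 (iv D5851)
theorem F9732 : act 4 n8619 = n6051 := d8_2 D5773 D8619 F5375 (iv F4906) (iv F9729) (iv D8618) (iv D5771)
theorem F9733 : act 0 n8619 = n6052 := d10_3 (iv F4840) (iv F4895) D8619 F5377 F5022 (iv D5858) F2284
def n8620 : Q := act 0 n5774
theorem D8620 : act 0 n5774 = n8620 := rfl
theorem F9734 : act 2 n8620 = n5778 := d1_2 D5774 D8620 (iv F9699) (iv F9702) (iv F9733) (iv D8619) F4895
theorem F9735 : act 4 n8620 = n6459 := d3_2 (iv F4898) D8620 (iv D6459)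
theorem F9736 : act 3 n8620 = n5838 := d12_4 D1769 (iv F4737) (iv F4897) D8620 (iv F5974) (iv D3696) (iv D1768)
def n8621 : Q := act 0 n5779
theorem D8621 : act 0 n5779 = n8621 := rfl
theorem F9737 : act 2 n8621 = n7177 := d1_2 D5779 D8621 (iv F9726) F9729 (iv D5780) (iv D3108) (iv F2224)
theorem F9738 : act 3 n8621 = n5865 := d2_2 (iv F4905) D8621 (iv D5865) (iv F4861) (iv F6117) (iv F6125) (iv D5843)
theorem F9739 : act 1 n8621 = n6137 := d13_2 D5779 D8621 F7789 F4169 D5185 F4171 F3679 (iv F2202) F788 (iv F786) (iv F2224)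
theorem F9740 : act 4 n8621 = n6050 := d17_0 F5373 F2453 D3395 D6143 (iv F8969) F8968 (iv F8962) F8964 (iv D8206) (iv F8959) F8958 D8621
def n8622 : Q := act 4 n5779
theorem D8622 : act 4 n5779 = n8622 := rfl
theorem F9741 : act 0 n8622 = n6050 := d3_1 D8622 (iv F9740) (iv D8621)
theorem F9742 : act 2 n8622 = n6459 := d8_1 D8622 (iv F9735) F9734 (iv D5778) (iv D3105) D3107 D5779
theorem F9743 : act 3 n8622 = n5846 := d9_1 D8622 (iv D5846) (iv D3149) D3150 (iv F5973) (iv D5844) (iv F4905)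
def n8623 : Q := act 4 n5783
theorem D8623 : act 4 n5783 = n8623 := rfl
theorem F9744 : act 0 n8623 = n7514 := d3_1 D8623 (iv D7514) (iv F4913)
theorem F9745 : act 1 n8623 = n5921 := d6_1 D8623 (iv F7122) F7123
theorem F9746 : act 3 n8623 = n5793 := d9_1 D8623 (iv D5793) (iv D3115) D3116 D5794 (iv F9511) F9508
def n8624 : Q := act 2 n5785
theorem D8624 : act 2 n5785 = n8624 := rfl
theorem F9747 : act 3 n8624 = n5797 := d7_2 (iv F4917) D8624 (iv D5797)
def n8625 : Q := act 3 n5786
theorem D8625 : act 3 n5786 = n8625 := rfl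
theorem F9748 : act 0 n8625 = n6900 := d2_1 D8625 (iv D6900) (iv F4797) (iv F8290) (iv D7840) F3907 D5786
theorem F9749 : act 1 n8625 = n8625 := d5_1 D8625 (iv D8625) F4918
theorem F9750 : act 4 n8625 = n5803 := d12_1 D8625 (iv D5803) F2235 D3127 (iv F6369) F3907 D5786
def n8626 : Q := act 4 n5786
theorem D8626 : act 4 n5786 = n8626 := rfl
theorem F9751 : act 0 n8626 = n5788 := d3_1 D8626 (iv D5788) D5786
theorem F9752 : act 1 n8626 = n8626 := d6_1 D8626 (iv D8626) F4918
theorem F9753 : act 3 n8626 = n5802 := d9_1 D8626 (iv D5802) (iv D3121) D3122 D5803 (iv F9750) (iv D8625)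
theorem F9754 : act 2 n8626 = n6053 := d17_4 (iv D7176) D7173 F7171 D8626 (iv D6053) (iv D3317) (iv F2414) (iv F5374) (iv F9740) F9737 F7177 (iv F7175)
def n8627 : Q := act 4 n5787
theorem D8627 : act 4 n5787 = n8627 := rfl
theorem F9755 : act 0 n8627 = n6462 := d3_1 D8627 (iv F7095) F7096
theorem F9756 : act 1 n8627 = n5788 := d6_1 D8627 (iv D5788) D5787
theorem F9757 : act 3 n8627 = n5805 := d9_1 D8627 (iv D5805) (iv D3123) D3124 D5806 (iv F8294) F8293
def n8628 : Q := act 1 n5789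
theorem D8628 : act 1 n5789 = n8628 := rfl
theorem F9758 : act 3 n8628 = n5825 := d5_2 (iv F4919) D8628 (iv D5825)
def n8629 : Q := act 4 n5789
theorem D8629 : act 4 n5789 = n8629 := rfl
theorem F9759 : act 3 n8629 = n5829 := d9_1 D8629 (iv D5829) (iv D3134) D3135 (iv F6401) (iv D5826) (iv F4919)
def n8630 : Q := act 2 n5793
theorem D8630 : act 2 n5793 = n8630 := rfl
theorem F9760 : act 1 n8630 = n5966 := d4_1 D8630 (iv D5966) (iv D3244) (iv D1521) (iv F834) D3217 (iv F4927)
def n8631 : Q := act 1 n5795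
theorem D8631 : act 1 n5795 = n8631 := rfl
theorem F9761 : act 3 n8631 = n7295 := d5_2 (iv F4929) D8631 F7362
def n8632 : Q := act 4 n5795
theorem D8632 : act 4 n5795 = n8632 := rfl
theorem F9762 : act 0 n8632 = n5802 := d3_1 D8632 (iv D5802) (iv F4930)
theorem F9763 : act 3 n8632 = n6901 := d12_2 (iv F4929) D8632 F6714 (iv F7704) (iv D5810) D5809 F4948
def n8633 : Q := act 2 n5796
theorem D8633 : act 2 n5796 = n8633 := rfl
theorem F9764 : act 3 n8633 = n6902 := d7_2 F4933 D8633 (iv D6902)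
def n8634 : Q := act 0 n5797
theorem D8634 : act 0 n5797 = n8634 := rfl
def n8635 : Q := act 1 n5797
theorem D8635 : act 1 n5797 = n8635 := rfl
theorem F9765 : act 2 n8635 = n5938 := d4_2 D5797 D8635 (iv D5938) (iv D3228) (iv F2321) (iv F4922) F4921
def n8636 : Q := act 4 n5797
theorem D8636 : act 4 n5797 = n8636 := rfl
def n8637 : Q := act 3 n5798
theorem D8637 : act 3 n5798 = n8637 := rfl
theorem F9766 : act 1 n8637 = n5799 := d5_1 D8637 (iv D5799) D5798
theorem F9767 : act 2 n8637 = n5942 := d7_1 D8637 (iv D5942) (iv F4934)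
def n8638 : Q := act 0 n5799
theorem D8638 : act 0 n5799 = n8638 := rfl
def n8639 : Q := act 4 n5799
theorem D8639 : act 4 n5799 = n8639 := rfl
def n8640 : Q := act 3 n5800
theorem D8640 : act 3 n5800 = n8640 := rfl
def n8641 : Q := act 2 n5802
theorem D8641 : act 2 n5802 = n8641 := rfl
theorem F9768 : act 3 n8641 = n6053 := d7_2 F9753 D8641 (iv F9754)
theorem F9769 : act 1 n8641 = n5957 := d16_5 (iv F6370) (iv F9751) F9753 F4939 D8641 (iv D5957) D5959 F5180 (iv F5367) (iv F9664) F9663 F4952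
theorem F9770 : act 4 n6060 = n8641 := d6_0 F9769 (iv F5179) (iv F5387)
def n8642 : Q := act 0 n5803
theorem D8642 : act 0 n5803 = n8642 := rfl
theorem F9771 : act 3 n8642 = n7343 := d2_2 D5803 D8642 F7445 (iv F6474) (iv D5813) (iv D3127) (iv F2235)
theorem F9772 : act 4 n8642 = n6900 := d3_2 F9750 D8642 (iv F9748)
def n8643 : Q := act 4 n5804
theorem D8643 : act 4 n5804 = n8643 := rfl
theorem F9773 : act 0 n8643 = n5805 := d3_1 D8643 (iv D5805) D5804
theorem F9774 : act 1 n8643 = n6451 := d6_1 D8643 (iv F7367) F7365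
theorem F9775 : act 2 n8643 = n6985 := d8_1 D8643 (iv F6823) (iv F4120) D8082 F8748 (iv D7521) (iv F4942)
theorem F9776 : act 3 n8643 = n6450 := d12_2 F5058 D8643 F5932 D8597 F9667 (iv D5876) D5874
def n8644 : Q := act 0 n5806
theorem D8644 : act 0 n5806 = n8644 := rfl
theorem F9777 : act 2 n8644 = n6464 := d1_2 F5480 D8644 (iv D6464) F2719 (iv F3618) D7507 F7681
theorem F9778 : act 3 n8644 = n6480 := d2_2 D5806 D8644 F5989 (iv F5960) (iv D6465) (iv D3684) (iv F2239)
theorem F9779 : act 4 n8644 = n7508 := d3_2 F8294 D8644 (iv F8295)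
theorem F9780 : act 1 n8644 = n6481 := d14_4 (iv F2920) F2921 (iv F4944) D8644 F5990 F2734 (iv F2574) D6287 (iv F6368) (iv D6708) F2910
def n8645 : Q := act 0 n5807
theorem D8645 : act 0 n5807 = n8645 := rfl
theorem F9781 : act 2 n8645 = n5871 := d1_2 F7239 D8645 (iv D5871) F5048 (iv D4659) D4660 (iv F7240)
theorem F9782 : act 3 n6895 = n8645 := d7_0 F9781 (iv F5052) D6895
def n8646 : Q := act 4 n5808
theorem D8646 : act 4 n5808 = n8646 := rfl
theorem F9783 : act 0 n8646 = n7516 := d3_1 D8646 (iv D7516) (iv F4945)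
theorem F9784 : act 1 n8646 = n7071 := d6_1 D8646 F6933 F4947
theorem F9785 : act 2 n8646 = n5824 := d11_2 D5808 D8646 (iv D5824) (iv D3132) (iv D1431) (iv F794) D3125
theorem F9786 : act 3 n7068 = n8646 := d7_0 F9785 F6718 (iv F6917)
def n8647 : Q := act 0 n5811
theorem D8647 : act 0 n5811 = n8647 := rfl
theorem F9787 : act 2 n8647 = n5820 := d1_2 D5811 D8647 F4968 D7518 F7702 F7703 F4952
def n8648 : Q := act 2 n5821
theorem D8648 : act 2 n5821 = n8648 := rfl
theorem F9788 : act 3 n8648 = n5832 := d7_2 (iv F4971) D8648 (iv D5832)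
theorem F9789 : act 0 n8648 = n8436 := d13_1 D8648 (iv D8436) (iv D5550) (iv D2958) D2957 (iv F3456) F3455 (iv D2264) (iv F1394) (iv F3458) (iv F4969)
theorem F9790 : act 3 n8638 = n8436 := d10_0 (iv F9789) (iv D8648) F4969 (iv F4937) (iv D5801) (iv F4935) D8638
theorem F9791 : act 1 n8438 = n8638 := d5_3 F9790 (iv D8436) D8438
def n8649 : Q := act 0 n5822
theorem D8649 : act 0 n5822 = n8649 := rfl
theorem F9792 : act 2 n8649 = n7516 := d1_2 D5822 D8649 (iv F9783) F9785 (iv D5824) (iv D3132) (iv F2242)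
def n8650 : Q := act 1 n5822
theorem D8650 : act 1 n5822 = n8650 := rfl
def n8651 : Q := act 3 n5822
theorem D8651 : act 3 n5822 = n8651 := rfl
theorem F9793 : act 2 n8651 = n5823 := d7_1 D8651 (iv D5823) D5822
theorem F9794 : act 0 n8651 = n8404 := d10_1 D8651 (iv F9507) F9505 F9786 F9783 (iv F9792) (iv D8649)
theorem F9795 : act 3 n8404 = n8634 := d10_4 (iv F4933) (iv F4972) (iv F9793) F9794 (iv D8634) (iv D5797) (iv F4931)
theorem F9796 : act 1 n8634 = n8406 := d5_1 F9795 (iv D8406) D8404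
def n8652 : Q := act 4 n5822
theorem D8652 : act 4 n5822 = n8652 := rfl
def n8653 : Q := act 4 n5824
theorem D8653 : act 4 n5824 = n8653 := rfl
theorem F9797 : act 0 n8653 = n5826 := d3_1 D8653 (iv D5826) D5824
theorem F9798 : act 1 n8653 = n8360 := d6_1 D8653 (iv D8360) F6719
theorem F9799 : act 3 n8457 = n8653 := d5_0 F9798 F9251 (iv F9384)
def n8654 : Q := act 0 n5825
theorem D8654 : act 0 n5825 = n8654 := rfl
theorem F9800 : act 4 n8654 = n7410 := d3_2 F6402 D8654 F7539
theorem F9801 : act 2 n8654 = n7423 := d11_4 (iv F4061) D8034 F8648 D8654 (iv D7423) (iv F4066) (iv D5081)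
def n8655 : Q := act 0 n5827
theorem D8655 : act 0 n5827 = n8655 := rfl
theorem F9802 : act 3 n8655 = n8606 := d2_2 D5827 D8655 (iv D8606) D8607 F9695 (iv F5771) F2620
theorem F9803 : act 4 n8655 = n7399 := d3_2 F8622 D8655 (iv F8619)
theorem F9804 : act 2 n8655 = n7418 := d10_2 D5827 D8655 F7548 F7153 (iv F1925) (iv F2622) F2620
def n8656 : Q := act 2 n5828
theorem D8656 : act 2 n5828 = n8656 := rfl
theorem F9805 : act 0 n8656 = n7517 := d1_1 D8656 (iv F8138) F8139 (iv D5832) (iv D3136) (iv F2243) D5828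
theorem F9806 : act 1 n8656 = n7070 := d4_1 D8656 (iv F8348) F8350 (iv D6009) (iv F5249) (iv F5251) F4977
theorem F9807 : act 3 n8656 = n7325 := d7_2 (iv F4976) D8656 F7417
theorem F9808 : act 4 n8656 = n7067 := d11_1 D8656 (iv F8288) (iv D7840) (iv D4920) F1683 (iv F2243) D5828
def n8657 : Q := act 4 n5828
theorem D8657 : act 4 n5828 = n8657 := rfl
theorem F9809 : act 0 n8657 = n5829 := d3_1 D8657 (iv D5829) D5828
theorem F9810 : act 1 n8657 = n8361 := d6_1 D8657 F9252 F4977
theorem F9811 : act 3 n8657 = n8359 := d9_1 D8657 (iv D8359) (iv F6718) D8653 (iv F9799) (iv D8457) (iv F4976)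
def n8658 : Q := act 1 n5832
theorem D8658 : act 1 n5832 = n8658 := rfl
def n8659 : Q := act 4 n5832
theorem D8659 : act 4 n5832 = n8659 := rfl
def n8660 : Q := act 1 n5836
theorem D8660 : act 1 n5836 = n8660 := rfl
theorem F9812 : act 2 n8660 = n7486 := d4_2 (iv F6839) D8660 F7646 (iv D6997) (iv D4130) D4131 D7000
def n8661 : Q := act 3 n5836
theorem D8661 : act 3 n5836 = n8661 := rfl
def n8662 : Q := act 0 n5838
theorem D8662 : act 0 n5838 = n8662 := rfl
theorem F9813 : act 2 n8662 = n5841 := d1_2 D5838 D8662 F4985 D5851 (iv F6096) F6098 F4983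
theorem F9814 : act 3 n8662 = n6641 := d2_2 F9736 D8662 (iv F9710) F9712 (iv D5859) (iv F4897) D8620
theorem F9815 : act 4 n8662 = n6470 := d3_2 F5974 D8662 F5970
theorem F9816 : act 1 n6764 = n8662 := d6_3 F9815 F5968 D6764
theorem E889 : n6764 = n6645 := ((c5_1 D6645 F9816 F9814 F6234)).symm
theorem F9817 : act 1 n6645 = n8662 := (sb E889 F9816)
theorem F9818 : act 4 n6645 = n3924 := (sb E889 (iv D6764))
theorem E890 : n6766 = n6643 := (c9_4 F9818 (iv D3924) D3925 D6766 (iv D6643) (iv D3834) D3835 D6645)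
theorem F9819 : act 3 n6643 = n3925 := (sb E890 (iv D6766))
def n8663 : Q := act 0 n5839
theorem D8663 : act 0 n5839 = n8663 := rfl
theorem F9820 : act 2 n8663 = n5853 := d1_2 (iv F4984) D8663 (iv D5853) (iv F5008) (iv F6129) (iv F6132) (iv D5840)
theorem F9821 : act 3 n8663 = n6762 := d2_2 D5839 D8663 (iv F9720) (iv D8615) (iv F4834) F4835 (iv F2252)
theorem F9822 : act 4 n8663 = n6640 := d17_0 F6232 F2856 D3837 D6650 (iv F8946) F8945 (iv F8941) F8942 (iv D8192) (iv F8940) F8939 D8663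
theorem F9823 : act 1 n6643 = n8663 := d6_3 F9822 F6232 D6643
def n8664 : Q := act 4 n5839
theorem D8664 : act 4 n5839 = n8664 := rfl
theorem F9824 : act 0 n8664 = n6640 := d3_1 D8664 (iv F9822) (iv D8663)
theorem F9825 : act 2 n8664 = n5846 := d8_1 D8664 (iv D5846) F2269 (iv F2223) (iv F4902) F4903 (iv F4984)
theorem F9826 : act 3 n8664 = n6459 := d9_1 D8664 (iv F9735) F9736 (iv F5974) (iv D3696) F2253 D5839
def n8665 : Q := act 0 n5854
theorem D8665 : act 0 n5854 = n8665 := rfl
theorem F9827 : act 1 n8665 = n5892 := d0_2 (iv F5012) D8665 F5081 (iv D4463) (iv D2220) D2221 D4467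
theorem F9828 : act 2 n8665 = n6121 := d1_2 D5854 D8665 F5439 F5105 F2308 D4486 (iv F3476)
theorem F9829 : act 4 n8665 = n8308 := d3_2 F5755 D8665 (iv D8308)
def n8666 : Q := act 0 n5856
theorem D8666 : act 0 n5856 = n8666 := rfl
theorem F9830 : act 1 n8666 = n7219 := d0_2 D5856 D8666 (iv D7219) (iv D4323) (iv D2124) (iv F1293) (iv F2282)
theorem F9831 : act 2 n8666 = n5903 := d1_2 (iv F5017) D8666 (iv D5903) (iv D3205) (iv D1491) D1492 D3208
def n8667 : Q := act 1 n5859
theorem D8667 : act 1 n5859 = n8667 := rfl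
theorem F9832 : act 2 n8667 = n8240 := d4_2 (iv F5024) D8667 F9022 F4306 (iv F4348) (iv F5035) F5033
theorem F9833 : act 3 n8667 = n8239 := d5_2 F9712 D8667 (iv F9711)
theorem F9834 : act 4 n8667 = n6472 := d6_2 (iv F5025) D8667 (iv D6472)
def n8668 : Q := act 1 n5862
theorem D8668 : act 1 n5862 = n8668 := rfl
theorem F9835 : act 0 n8668 = n6118 := d0_1 D8668 (iv D6118) (iv D3381) (iv F2244) F2246 D3169 D5862
theorem F9836 : act 2 n8668 = n5888 := d4_2 (iv F5069) D8668 F5074 (iv D4504) (iv D2269) D2270 D4508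
theorem F9837 : act 3 n7541 = n8668 := d7_0 F9836 F5075 D7541
def n8669 : Q := act 3 n5862
theorem D8669 : act 3 n5862 = n8669 := rfl
theorem F9838 : act 1 n8669 = n7541 := d5_1 D8669 F9837 (iv D8668)
theorem F9839 : act 2 n8669 = n7350 := d7_1 D8669 (iv D7350) (iv F5069)
theorem F9840 : act 0 n8669 = n7963 := d16_8 D5816 (iv F4959) (iv F2292) (iv D1455) D1456 D3169 D5862 D8669 (iv D7963) (iv D5025) D5024 F4003
def n8670 : Q := act 4 n5862
theorem D8670 : act 4 n5862 = n8670 := rfl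
theorem F9841 : act 0 n8670 = n5864 := d3_1 D8670 (iv D5864) D5862
def n8671 : Q := act 0 n5866
theorem D8671 : act 0 n5866 = n8671 := rfl
def n8672 : Q := act 4 n5866
theorem D8672 : act 4 n5866 = n8672 := rfl
theorem F9842 : act 1 n8672 = n5867 := d6_1 D8672 (iv D5867) D5866
theorem F9843 : act 2 n8672 = n6490 := d8_1 D8672 F6000 (iv D5430) D5431 (iv F9083) (iv D8274) (iv F5039)
theorem F9844 : act 3 n8672 = n6490 := d9_1 D8672 F6000 F4873 D8617 F9725 F5919 (iv F5040)
def n8673 : Q := act 4 n5869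
theorem D8673 : act 4 n5869 = n8673 := rfl
theorem F9845 : act 0 n8673 = n5870 := d3_1 D8673 (iv D5870) D5869
theorem F9846 : act 1 n8673 = n5887 := d6_1 D8673 (iv D5887) (iv F5046)
theorem F9847 : act 3 n8673 = n8512 := d9_1 D8673 (iv D8512) F4685 D8481 (iv F9496) (iv D8502) F5049
theorem F9848 : act 2 n8673 = n6063 := d11_2 F7237 D8673 (iv D6063) (iv F5056) (iv D5873) (iv F3259) D7219
def n8674 : Q := act 0 n5872
theorem D8674 : act 0 n5872 = n8674 := rfl
def n8675 : Q := act 1 n5872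
theorem D8675 : act 1 n5872 = n8675 := rfl
def n8676 : Q := act 4 n5872
theorem D8676 : act 4 n5872 = n8676 := rfl
def n8677 : Q := act 2 n5878
theorem D8677 : act 2 n5878 = n8677 := rfl
theorem F9849 : act 0 n8677 = n8501 := d1_1 D8677 (iv D8501) (iv F5065) (iv D5881) (iv D3184) (iv F2299) D5878
theorem F9850 : act 1 n7330 = n8677 := d16_3 D2222 D4471 D7330 (iv D8677) F5064 (iv D5878) (iv D3182) D3180 (iv F4950) F4949 (iv D4463) (iv D2220)
theorem F9851 : act 3 n8677 = n7328 := d5_2 D7330 F9850 (iv D7328)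
theorem F9852 : act 2 n7947 = n7330 := d16_10 F9493 (iv D7219) D7220 F7238 (iv F7243) (iv F7244) (iv D5009) D5011 D7947 F8469 F9850 F9849
theorem F9853 : act 3 n7329 = n7947 := d7_0 F9852 (iv D7330) D7329
theorem F9854 : act 1 n7329 = n7329 := d5_3 F9853 F8469 (iv F9853)
def n8678 : Q := act 3 n5878
theorem D8678 : act 3 n5878 = n8678 := rfl
theorem F9855 : act 0 n8678 = n6895 := d2_1 D8678 F9782 (iv D8645) F4951 (iv D3180) D3182 D5878
theorem F9856 : act 1 n8678 = n8678 := d5_1 D8678 (iv D8678) F5064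
theorem F9857 : act 2 n8678 = n7328 := d7_1 D8678 (iv F9851) (iv D8677)
def n8679 : Q := act 4 n5882
theorem D8679 : act 4 n5882 = n8679 := rfl
theorem F9858 : act 0 n8679 = n5884 := d3_1 D8679 (iv D5884) D5882
theorem F9859 : act 1 n8679 = n8064 := d6_1 D8679 (iv D8064) (iv F8566)
theorem F9860 : act 2 n8679 = n6065 := d8_1 D8679 (iv D6065) (iv F5056) (iv D5873) (iv F3259) D7221 F7242
theorem F9861 : act 3 n8679 = n8086 := d9_1 D8679 (iv D8086) F4810 D8605 (iv F9690) (iv D8063) F8567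
def n8680 : Q := act 0 n5883
theorem D8680 : act 0 n5883 = n8680 := rfl
theorem F9862 : act 3 n8680 = n8654 := d12_4 F9205 F9684 F9683 D8680 F9800 F7538 (iv F9206)
theorem F9863 : act 1 n8680 = n6483 := d14_4 (iv F816) D3185 D5883 D8680 (iv D6483) F2735 F1049 F4729 (iv D1459) F295 (iv F297)
def n8681 : Q := act 4 n5883
theorem D8681 : act 4 n5883 = n8681 := rfl
theorem F9864 : act 1 n8681 = n5884 := d6_1 D8681 (iv D5884) D5883
theorem F9865 : act 3 n8681 = n6339 := d9_1 D8681 F9696 (iv D8607) (iv F9209) F9205 F9684 F9683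
def n8682 : Q := act 4 n5885
theorem D8682 : act 4 n5885 = n8682 := rfl
theorem F9866 : act 0 n8682 = n7338 := d3_1 D8682 (iv D7338) (iv F5067)
theorem F9867 : act 1 n8682 = n7349 := d6_1 D8682 (iv D7349) F5068
def n8683 : Q := act 2 n5886
theorem D8683 : act 2 n5886 = n8683 := rfl
theorem F9868 : act 1 n8683 = n8252 := d4_1 D8683 (iv D8252) (iv F5305) (iv D5565) (iv F4574) D8460 F9393
def n8684 : Q := act 4 n5888
theorem D8684 : act 4 n5888 = n8684 := rfl
theorem F9869 : act 0 n8684 = n5889 := d3_1 D8684 (iv D5889) D5888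
theorem F9870 : act 1 n8684 = n6066 := d6_1 D8684 F5394 (iv F5074)
theorem F9871 : act 3 n8684 = n7492 := d9_1 D8684 (iv D7492) (iv F4600) (iv F6729) F7758 (iv D7542) (iv F5075)
def n8685 : Q := act 0 n5891
theorem D8685 : act 0 n5891 = n8685 := rfl
theorem F9872 : act 1 n8685 = n7366 := d0_2 D5891 D8685 F7476 F6469 D8456 F9383 (iv D5890)
theorem F9873 : act 4 n8685 = n7475 := d3_2 (iv F9429) D8685 (iv F9427)
theorem F9874 : act 3 n8685 = n7544 := d12_4 D5584 D8477 F9436 D8685 F7760 F7496 F4583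
theorem F9875 : act 0 n6373 = n7545 := d10_5 (iv F9874) (iv D8685) F7444 F5869 (iv F5828) (iv D7545) D7544
theorem F9876 : act 4 n7545 = n6372 := d3_2 D6373 F9875 (iv D6372)
def n8686 : Q := act 4 n5892
theorem D8686 : act 4 n5892 = n8686 := rfl
theorem F9877 : act 0 n8686 = n7325 := d3_1 D8686 (iv D7325) (iv F5081)
theorem F9878 : act 1 n8686 = n8308 := d6_1 D8686 (iv F9829) F9827
theorem F9879 : act 2 n8686 = n8436 := d11_2 D5892 D8686 (iv F9789) (iv D8648) (iv D5821) (iv F4967) F4965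
def n8687 : Q := act 4 n5895
theorem D8687 : act 4 n5895 = n8687 := rfl
theorem F9880 : act 0 n8687 = n8460 := d3_1 D8687 F9392 (iv F5085)
theorem F9881 : act 1 n8687 = n7307 := d6_1 D8687 (iv D7307) (iv F5086)
theorem F9882 : act 3 n8687 = n7506 := d9_1 D8687 (iv D7506) (iv F4670) (iv F5900) F7718 (iv D7523) (iv F5087)
def n8688 : Q := act 2 n5898
theorem D8688 : act 2 n5898 = n8688 := rfl
theorem F9883 : act 0 n8688 = n6791 := d1_1 D8688 (iv F8669) F8666 (iv D7346) (iv F4103) F8695 F8692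
def n8689 : Q := act 2 n5899
theorem D8689 : act 2 n5899 = n8689 := rfl
theorem F9884 : act 0 n8689 = n8462 := d1_1 D8689 (iv D8462) D8461 F9395 F7478 (iv D5900) D5899
theorem F9885 : act 1 n8689 = n6494 := d4_1 D8689 (iv D6494) (iv D3732) (iv D1785) (iv F1051) D3726 (iv F5092)
theorem F9886 : act 3 n8689 = n7426 := d7_2 (iv F5091) D8689 (iv D7426)
theorem F9887 : act 4 n7412 = n8689 := d9_0 F9886 F8628 F8626 (iv D5607) F2037 D4559 D7412
def n8690 : Q := act 4 n5903
theorem D8690 : act 4 n5903 = n8690 := rfl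
theorem F9888 : act 0 n8690 = n5906 := d3_1 D8690 (iv D5906) D5903
theorem F9889 : act 1 n8690 = n7338 := d6_1 D8690 (iv D7338) (iv F5100)
theorem F9890 : act 2 n8690 = n8261 := d11_2 F9831 D8690 (iv D8261) F5109 (iv D5908) (iv F5017) D8666
def n8691 : Q := act 4 n5904
theorem D8691 : act 4 n5904 = n8691 := rfl
theorem F9891 : act 0 n8691 = n7351 := d3_1 D8691 (iv D7351) (iv F5101)
theorem F9892 : act 1 n8691 = n5906 := d6_1 D8691 (iv D5906) D5904
theorem F9893 : act 3 n8691 = n7112 := d9_1 D8691 (iv D7112) F4769 (iv F5892) F7385 (iv D7305) F5103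
theorem F9894 : act 2 n8691 = n8517 := d11_2 (iv F5102) D8691 F9536 (iv F7391) (iv D7307) (iv D4441) D4440
def n8692 : Q := act 2 n5906
theorem D8692 : act 2 n5906 = n8692 := rfl
theorem F9895 : act 0 n8692 = n5909 := d1_1 D8692 (iv D5909) (iv F5106) (iv F5109) D8261 (iv F9890) F9888
def n8693 : Q := act 0 n5907
theorem D8693 : act 0 n5907 = n8693 := rfl
def n8694 : Q := act 1 n5907
theorem D8694 : act 1 n5907 = n8694 := rfl
theorem F9896 : act 2 n8694 = n6489 := d4_2 D5907 D8694 F5998 F4702 (iv F4693) (iv F5098) F5097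
theorem F9897 : act 3 n8694 = n8526 := d5_2 F9629 D8694 (iv F9628)
def n8695 : Q := act 4 n5907
theorem D8695 : act 4 n5907 = n8695 := rfl
def n8696 : Q := act 0 n5910
theorem D8696 : act 0 n5910 = n8696 := rfl
theorem F9898 : act 1 n8696 = n7365 := d0_2 D5910 D8696 F7474 (iv F5750) F4249 (iv F4354) (iv F4776)
theorem F9899 : act 3 n8696 = n7423 := d2_2 F9476 D8696 F7561 (iv F7551) (iv F9114) F9115 (iv F9474)
theorem F9900 : act 4 n8696 = n7363 := d3_2 (iv F9468) D8696 (iv F9465)
theorem F9901 : act 2 n8696 = n8680 := d10_2 F9476 D8696 (iv D8680) (iv F9683) F9682 (iv F7409) (iv F9474)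
def n8697 : Q := act 0 n5913
theorem D8697 : act 0 n5913 = n8697 := rfl
theorem F9902 : act 1 n8697 = n6808 := d13_2 D5913 D8697 (iv F9418) (iv D8470) (iv D5577) (iv D2974) (iv F2180) (iv F2194) F2193 D1496 D3211
def n8698 : Q := act 1 n5913
theorem D8698 : act 1 n5913 = n8698 := rfl
theorem F9903 : act 0 n8698 = n7368 := d0_1 D8698 (iv D7368) D7367 F9419 F9418 (iv F9902) (iv D8697)
theorem F9904 : act 2 n8698 = n6493 := d4_2 D5913 D8698 (iv F9546) F9547 (iv F9527) F9528 (iv D5912)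
theorem F9905 : act 3 n8698 = n6493 := d5_2 (iv F9548) D8698 (iv F9546)
theorem F9906 : act 4 n8698 = n6423 := d6_2 F9549 D8698 (iv F9539)
def n8699 : Q := act 3 n5916
theorem D8699 : act 3 n5916 = n8699 := rfl
theorem F9907 : act 0 n8699 = n6181 := d2_1 D8699 (iv D6181) F2486 D3435 (iv F5116) (iv D5917) (iv F5114)
theorem F9908 : act 1 n8699 = n7484 := d5_1 D8699 (iv F9426) F9425
theorem F9909 : act 2 n8699 = n7047 := d7_1 D8699 (iv F7189) F7188
def n8700 : Q := act 4 n5917
theorem D8700 : act 4 n5917 = n8700 := rfl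
theorem F9910 : act 0 n8700 = n6182 := d3_1 D8700 (iv D6182) (iv F5116)
theorem F9911 : act 1 n8700 = n7986 := d6_1 D8700 (iv D7986) (iv F5115)
theorem F9912 : act 2 n8700 = n5922 := d8_1 D8700 (iv D5922) (iv F5119) (iv F7122) (iv D7156) D7158 F7134
theorem F9913 : act 3 n8700 = n5919 := d9_1 D8700 (iv D5919) (iv D3215) (iv D1506) D1505 D3214 D5917
def n8701 : Q := act 4 n5918
theorem D8701 : act 4 n5918 = n8701 := rfl
theorem F9914 : act 0 n8701 = n5919 := d3_1 D8701 (iv D5919) D5918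
theorem F9915 : act 2 n8701 = n5925 := d11_2 F7192 D8701 F5125 (iv F7129) (iv D5919) (iv F3238) D7184
def n8702 : Q := act 1 n5920
theorem D8702 : act 1 n5920 = n8702 := rfl
theorem F9916 : act 0 n8702 = n8479 := d0_1 D8702 F9439 (iv F4667) (iv F9516) F9518 F4927 (iv F5118)
theorem F9917 : act 4 n8702 = n8478 := d6_2 F7183 D8702 F9437
def n8703 : Q := act 1 n5923
theorem D8703 : act 1 n5923 = n8703 := rfl
theorem F9918 : act 0 n8703 = n8484 := d0_1 D8703 F9450 (iv F4665) (iv F9513) F9512 F4928 D5923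
theorem F9919 : act 4 n8483 = n8703 := d3_0 F9918 (iv D8484) D8483
def n8704 : Q := act 4 n5923
theorem D8704 : act 4 n5923 = n8704 := rfl
theorem F9920 : act 0 n8704 = n5924 := d3_1 D8704 (iv D5924) D5923
theorem F9921 : act 1 n8704 = n8483 := d6_1 D8704 F9919 (iv D8703)
theorem F9922 : act 2 n8704 = n7046 := d8_1 D8704 (iv F7191) F7192 D8701 F9915 (iv D5925) (iv F5124)
theorem F9923 : act 3 n8704 = n7045 := d9_1 D8704 F6890 F6829 (iv F7183) F7185 F6834 F6813
def n8705 : Q := act 4 n5928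
theorem D8705 : act 4 n5928 = n8705 := rfl
theorem F9924 : act 0 n8705 = n7567 := d3_1 D8705 (iv D7567) (iv F5130)
theorem F9925 : act 1 n8705 = n5941 := d6_1 D8705 (iv D5941) (iv F5129)
theorem F9926 : act 2 n8705 = n7975 := d8_1 D8705 (iv D7975) (iv F8522) (iv F8524) F7161 (iv F8865) F8864
theorem F9927 : act 3 n8705 = n5930 := d9_1 D8705 (iv D5930) (iv D3224) (iv D1512) D1511 D3223 D5928
def n8706 : Q := act 4 n5929
theorem D8706 : act 4 n5929 = n8706 := rfl
theorem F9928 : act 0 n8706 = n5930 := d3_1 D8706 (iv D5930) D5929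
theorem F9929 : act 1 n8706 = n8544 := d6_1 D8706 (iv D8544) F5132
theorem F9930 : act 2 n8706 = n8706 := d8_1 D8706 (iv D8706) (iv F8529) (iv F9638) F9637 F9638 F8529
theorem F9931 : act 3 n8706 = n8553 := d9_1 D8706 (iv D8553) F5128 (iv D5927) F2320 D5668 (iv F5131)
def n8707 : Q := act 4 n5931
theorem D8707 : act 4 n5931 = n8707 := rfl
theorem F9932 : act 1 n8707 = n5933 := d6_1 D8707 (iv D5933) D5931
def n8708 : Q := act 4 n5932
theorem D8708 : act 4 n5932 = n8708 := rfl
theorem F9933 : act 0 n8708 = n6007 := d3_1 D8708 (iv D6007) (iv F5135)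
theorem F9934 : act 2 n8708 = n5980 := d11_2 (iv F5136) D8708 F5208 (iv D3304) (iv D1555) (iv F878) (iv F2324)
theorem F9935 : act 3 n8708 = n5979 := d12_2 D5932 D8708 F5207 (iv D3265) (iv D1532) D1531 (iv F2323)
def n8709 : Q := act 3 n5933
theorem D8709 : act 3 n5933 = n8709 := rfl
theorem F9936 : act 0 n8709 = n6008 := d2_1 D8709 (iv D6008) F2380 D4674 (iv F5229) (iv D5993) (iv F5137)
theorem F9937 : act 2 n8709 = n5963 := d7_1 D8709 (iv D5963) (iv F5138)
def n8710 : Q := act 2 n5934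
theorem D8710 : act 2 n5934 = n8710 := rfl
theorem F9938 : act 3 n8710 = n5945 := d7_2 (iv F5141) D8710 (iv D5945)
theorem F9939 : act 0 n8710 = n6009 := d10_3 (iv F2407) (iv F5139) D8710 F5260 F2396 F1501 D2422
def n8711 : Q := act 1 n5935
theorem D8711 : act 1 n5935 = n8711 := rfl
def n8712 : Q := act 3 n5935
theorem D8712 : act 3 n5935 = n8712 := rfl
theorem F9940 : act 0 n8712 = n6011 := d2_1 D8712 (iv D6011) F2383 D4677 (iv F5233) (iv D5996) (iv F5142)
theorem F9941 : act 2 n8712 = n5936 := d7_1 D8712 (iv D5936) D5935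
def n8713 : Q := act 4 n5935
theorem D8713 : act 4 n5935 = n8713 := rfl
theorem F9942 : act 0 n8713 = n5997 := d3_1 D8713 (iv D5997) (iv F5142)
theorem F9943 : act 2 n8713 = n5964 := d8_1 D8713 (iv D5964) (iv F5138) (iv D5933) (iv D3225) D3227 D5935
def n8714 : Q := act 4 n5936
theorem D8714 : act 4 n5936 = n8714 := rfl
theorem F9944 : act 0 n8714 = n6036 := d3_1 D8714 (iv D6036) (iv F5143)
theorem F9945 : act 1 n8714 = n7539 := d6_1 D8714 F7752 F6572
theorem F9946 : act 3 n8714 = n5946 := d9_1 D8714 (iv D5946) (iv F5141) (iv D5934) (iv D3226) D3227 D5936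
def n8715 : Q := act 1 n5937
theorem D8715 : act 1 n5937 = n8715 := rfl
def n8716 : Q := act 3 n5937
theorem D8716 : act 3 n5937 = n8716 := rfl
theorem F9947 : act 0 n8716 = n6015 := d2_1 D8716 (iv D6015) (iv D3283) D3285 (iv F5146) (iv D5939) D5937
theorem F9948 : act 2 n8716 = n5955 := d7_1 D8716 (iv D5955) (iv F5144)
def n8717 : Q := act 4 n5937
theorem D8717 : act 4 n5937 = n8717 := rfl
theorem F9949 : act 0 n8717 = n5940 := d3_1 D8717 (iv D5940) D5937
theorem F9950 : act 2 n8717 = n5960 := d8_1 D8717 (iv D5960) (iv D3241) (iv D1520) D1518 D3239 (iv F5144)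
def n8718 : Q := act 0 n5938
theorem D8718 : act 0 n5938 = n8718 := rfl
theorem F9951 : act 2 n8718 = n8001 := d13_4 (iv F5144) (iv D5937) D5938 D8718 (iv D8001) (iv D5052) D5051 (iv F5219) F5218 F2356 (iv F2336)
def n8719 : Q := act 3 n5938
theorem D8719 : act 3 n5938 = n8719 := rfl
theorem F9952 : act 1 n8719 = n5939 := d5_1 D8719 (iv D5939) D5938
def n8720 : Q := act 4 n5939
theorem D8720 : act 4 n5939 = n8720 := rfl
theorem F9953 : act 0 n8720 = n6019 := d3_1 D8720 (iv D6019) (iv F5146)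
theorem F9954 : act 2 n8720 = n5970 := d8_1 D8720 (iv D5970) F2341 D3247 (iv F5152) (iv D5941) (iv F5145)
theorem F9955 : act 3 n8720 = n5944 := d9_1 D8720 (iv D5944) (iv D3231) D3232 (iv F5148) (iv D5940) D5939
def n8721 : Q := act 0 n5942
theorem D8721 : act 0 n5942 = n8721 := rfl
theorem F9956 : act 2 n8721 = n8011 := d10_2 D5942 D8721 (iv D8011) (iv D5060) D5058 F4035 F2557
def n8722 : Q := act 4 n5942
theorem D8722 : act 4 n5942 = n8722 := rfl
theorem F9957 : act 1 n8722 = n5944 := d6_1 D8722 (iv D5944) (iv F5154)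
def n8723 : Q := act 1 n5943
theorem D8723 : act 1 n5943 = n8723 := rfl
def n8724 : Q := act 3 n5943
theorem D8724 : act 3 n5943 = n8724 := rfl
theorem F9958 : act 0 n8724 = n6023 := d2_1 D8724 (iv D6023) (iv D3290) (iv D1545) (iv F841) D3231 D5943
theorem F9959 : act 2 n8724 = n5954 := d7_1 D8724 F5173 (iv F5155)
def n8725 : Q := act 4 n5943
theorem D8725 : act 4 n5943 = n8725 := rfl
theorem F9960 : act 0 n8725 = n5944 := d3_1 D8725 (iv D5944) D5943
theorem F9961 : act 2 n8725 = n5985 := d8_1 D8725 (iv D5985) (iv D3258) D3259 D5986 F5215 (iv F5155)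
def n8726 : Q := act 1 n5945
theorem D8726 : act 1 n5945 = n8726 := rfl
def n8727 : Q := act 4 n5945
theorem D8727 : act 4 n5945 = n8727 := rfl
theorem F9962 : act 0 n8727 = n6001 := d3_1 D8727 (iv D6001) (iv F5157)
theorem F9963 : act 2 n8727 = n5981 := d11_2 D5945 D8727 F5209 (iv F5156) (iv D5944) F2328 D3233
def n8728 : Q := act 2 n5946
theorem D8728 : act 2 n5946 = n8728 := rfl
theorem F9964 : act 0 n8728 = n5994 := d1_1 D8728 F5231 F5216 (iv D5986) F2353 (iv F5153) (iv F5158)
theorem F9965 : act 4 n8728 = n5979 := d8_2 D5946 D8728 (iv D5979) D5981 (iv F9963) (iv D8727) (iv D5945)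
def n8729 : Q := act 3 n5948
theorem D8729 : act 3 n5948 = n8729 := rfl
theorem F9966 : act 2 n8729 = n5949 := d7_1 D8729 (iv D5949) D5948
theorem F9967 : act 4 n7959 = n8729 := d8_0 F9966 (iv F5165) (iv F8496) (iv D7958) (iv D5020) D5021 D7959
def n8730 : Q := act 4 n5948
theorem D8730 : act 4 n5948 = n8730 := rfl
theorem F9968 : act 0 n8730 = n8730 := d3_1 D8730 (iv D8730) F5162
theorem F9969 : act 2 n8730 = n7193 := d8_1 D8730 (iv D7193) (iv F5160) (iv D5947) (iv D3235) D3236 D5948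
theorem F9970 : act 3 n7799 = n8730 := d7_0 F9969 F7208 (iv F8233)
def n8731 : Q := act 4 n5950
theorem D8731 : act 4 n5950 = n8731 := rfl
theorem F9971 : act 0 n8731 = n5953 := d3_1 D8731 (iv D5953) D5950
def n8732 : Q := act 4 n5951
theorem D8732 : act 4 n5951 = n8732 := rfl
theorem F9972 : act 1 n8732 = n8094 := d6_1 D8732 (iv D8094) (iv F5166)
theorem F9973 : act 3 n8103 = n8732 := d5_0 F9972 F8772 D8103
theorem F9974 : act 0 n7810 = n8103 := d12_7 F9973 (iv D8732) (iv F5167) F4140 (iv D4899) D4900 D7810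
def n8733 : Q := act 4 n5952
theorem D8733 : act 4 n5952 = n8733 := rfl
theorem F9975 : act 0 n8733 = n7619 := d3_1 D8733 (iv D7619) F5170
theorem F9976 : act 1 n8733 = n5954 := d6_1 D8733 (iv D5954) (iv F5168)
theorem F9977 : act 3 n6002 = n8733 := d5_0 F9976 F5173 D6002
def n8734 : Q := act 2 n5953
theorem D8734 : act 2 n5953 = n8734 := rfl
def n8735 : Q := act 3 n5953
theorem D8735 : act 3 n5953 = n8735 := rfl
theorem F9978 : act 1 n8735 = n5955 := d5_1 D8735 (iv D5955) (iv F5171)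
def n8736 : Q := act 4 n5955
theorem D8736 : act 4 n5955 = n8736 := rfl
theorem F9979 : act 0 n8736 = n6013 := d3_1 D8736 (iv D6013) (iv F5174)
theorem F9980 : act 3 n8736 = n5986 := d9_1 D8736 F5215 (iv F5173) (iv D5954) (iv D3238) D3239 D5955
theorem F9981 : act 2 n8736 = n5961 := d11_2 F9948 D8736 F5183 F5361 (iv D6036) (iv F5266) (iv F9947)
def n8737 : Q := act 1 n5956
theorem D8737 : act 1 n5956 = n8737 := rfl
theorem F9982 : act 3 n8737 = n5984 := d5_2 (iv F5175) D8737 (iv D5984)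
def n8738 : Q := act 4 n5956
theorem D8738 : act 4 n5956 = n8738 := rfl
theorem F9983 : act 0 n8738 = n6048 := d3_1 D8738 F5370 (iv F5176)
theorem F9984 : act 3 n8738 = n5960 := d12_2 (iv F5175) D8738 F5182 (iv D3325) (iv D1565) D1564 (iv F2352)
def n8739 : Q := act 0 n5958
theorem D8739 : act 0 n5958 = n8739 := rfl
def n8740 : Q := act 2 n5958
theorem D8740 : act 2 n5958 = n8740 := rfl
def n8741 : Q := act 3 n5958
theorem D8741 : act 3 n5958 = n8741 := rfl
theorem F9985 : act 1 n8741 = n5959 := d5_1 D8741 (iv D5959) D5958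
def n8742 : Q := act 4 n5958
theorem D8742 : act 4 n5958 = n8742 := rfl
theorem F9986 : act 1 n8742 = n5960 := d6_1 D8742 (iv D5960) D5958
def n8743 : Q := act 4 n5959
theorem D8743 : act 4 n5959 = n8743 := rfl
theorem F9987 : act 0 n8743 = n6047 := d3_1 D8743 (iv D6047) (iv F5180)
theorem F9988 : act 3 n8743 = n5985 := d9_1 D8743 (iv D5985) (iv F5175) D8738 F9984 (iv D5960) D5959
def n8744 : Q := act 2 n5962
theorem D8744 : act 2 n5962 = n8744 := rfl
def n8745 : Q := act 3 n5962
theorem D8745 : act 3 n5962 = n8745 := rfl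
theorem F9989 : act 1 n8745 = n5963 := d5_1 D8745 (iv D5963) D5962
def n8746 : Q := act 4 n5962
theorem D8746 : act 4 n5962 = n8746 := rfl
theorem F9990 : act 1 n8746 = n5964 := d6_1 D8746 (iv D5964) D5962
def n8747 : Q := act 4 n5963
theorem D8747 : act 4 n5963 = n8747 := rfl
theorem F9991 : act 0 n8747 = n6043 := d3_1 D8747 (iv D6043) (iv F5186)
theorem F9992 : act 3 n8747 = n5981 := d12_2 D5963 D8747 F5209 (iv F5194) (iv D5970) (iv D3245) D3243
def n8748 : Q := act 3 n5964
theorem D8748 : act 3 n5964 = n8748 := rfl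
theorem F9993 : act 0 n8748 = n6038 := d2_1 D8748 F5363 F5199 (iv D5972) F2346 (iv F5149) (iv F5187)
theorem F9994 : act 4 n8748 = n5980 := d9_2 D5964 D8748 (iv D5980) D5981 (iv F9992) (iv D8747) (iv D5963)
def n8749 : Q := act 1 n5965
theorem D8749 : act 1 n5965 = n8749 := rfl
def n8750 : Q := act 3 n5965
theorem D8750 : act 3 n5965 = n8750 := rfl
theorem F9995 : act 2 n8750 = n8750 := d7_1 D8750 (iv D8750) F5188
def n8751 : Q := act 4 n5965
theorem D8751 : act 4 n5965 = n8751 := rfl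
theorem F9996 : act 0 n8751 = n5968 := d3_1 D8751 (iv D5968) D5965
def n8752 : Q := act 0 n5966
theorem D8752 : act 0 n5966 = n8752 := rfl
theorem F9997 : act 2 n8752 = n8752 := d1_2 D5966 D8752 (iv D8752) (iv D5966) D5965 F5188 (iv D5965)
def n8753 : Q := act 3 n5966
theorem D8753 : act 3 n5966 = n8753 := rfl
theorem F9998 : act 2 n8753 = n5967 := d7_1 D8753 (iv D5967) D5966
def n8754 : Q := act 4 n5966
theorem D8754 : act 4 n5966 = n8754 := rfl
def n8755 : Q := act 0 n5967
theorem D8755 : act 0 n5967 = n8755 := rfl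
theorem F9999 : act 2 n8755 = n8755 := d10_2 D5967 D8755 (iv D8755) (iv D5967) D5965 F5188 (iv D5965)
def n8756 : Q := act 4 n5967
theorem D8756 : act 4 n5967 = n8756 := rfl
theorem F10000 : act 1 n8756 = n5970 := d6_1 D8756 (iv D5970) (iv F5189)
theorem F10001 : act 3 n8756 = n5977 := d9_1 D8756 (iv D5977) (iv D3252) D3253 F5191 (iv D5968) D5967
def n8757 : Q := act 4 n5969
theorem D8757 : act 4 n5969 = n8757 := rfl
theorem F10002 : act 0 n8757 = n5970 := d3_1 D8757 (iv D5970) D5969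
theorem F10003 : act 2 n8757 = n7548 := d8_1 D8757 (iv D7548) F3666 D4679 (iv F7762) (iv D7546) F5193
theorem F10004 : act 3 n8757 = n5971 := d9_1 D8757 (iv D5971) (iv D3248) D3249 D5972 F5198 (iv F5192)
def n8758 : Q := act 0 n5974
theorem D8758 : act 0 n5974 = n8758 := rfl
theorem F10005 : act 2 n8758 = n8758 := d1_2 (iv F5203) D8758 (iv D8758) F5203 D5976 F5205 (iv D5976)
def n8759 : Q := act 4 n5974
theorem D8759 : act 4 n5974 = n8759 := rfl
def n8760 : Q := act 3 n5975
theorem D8760 : act 3 n5975 = n8760 := rfl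
def n8761 : Q := act 1 n5976
theorem D8761 : act 1 n5976 = n8761 := rfl
def n8762 : Q := act 3 n5976
theorem D8762 : act 3 n5976 = n8762 := rfl
theorem F10006 : act 2 n8762 = n8762 := d7_1 D8762 (iv D8762) F5205
def n8763 : Q := act 4 n5976
theorem D8763 : act 4 n5976 = n8763 := rfl
theorem F10007 : act 0 n8763 = n5977 := d3_1 D8763 (iv D5977) D5976
def n8764 : Q := act 2 n5977
theorem D8764 : act 2 n5977 = n8764 := rfl
def n8765 : Q := act 2 n5978
theorem D8765 : act 2 n5978 = n8765 := rfl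
def n8766 : Q := act 3 n5978
theorem D8766 : act 3 n5978 = n8766 := rfl
theorem F10008 : act 1 n8766 = n5980 := d5_1 D8766 (iv D5980) D5978
def n8767 : Q := act 4 n5978
theorem D8767 : act 4 n5978 = n8767 := rfl
theorem F10009 : act 1 n8767 = n5981 := d6_1 D8767 (iv D5981) D5978
def n8768 : Q := act 1 n5979
theorem D8768 : act 1 n5979 = n8768 := rfl
def n8769 : Q := act 4 n5982
theorem D8769 : act 4 n5982 = n8769 := rfl
theorem F10010 : act 0 n8769 = n8769 := d3_1 D8769 (iv D8769) F5211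
theorem F10011 : act 3 n8769 = n7959 := d9_1 D8769 F9967 (iv D8729) D8730 (iv F9970) (iv D7799) (iv F5210)
theorem F10012 : act 2 n8769 = n7210 := d17_4 (iv D3259) D3257 D5982 D8769 (iv D7210) (iv D4314) (iv F3237) F3238 D5919 F7129 F2317 (iv F2353)
def n8770 : Q := act 2 n5983
theorem D8770 : act 2 n5983 = n8770 := rfl
theorem F10013 : act 0 n8770 = n8770 := d1_1 D8770 (iv D8770) (iv F8219) F8221 F3870 (iv F8221) F8219
theorem F10014 : act 3 n8770 = n7958 := d7_2 (iv F5213) D8770 F8496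
theorem F10015 : act 4 n8770 = n7798 := d8_2 D5983 D8770 F8230 (iv F7227) (iv F10012) (iv D8769) (iv D5982)
def n8771 : Q := act 0 n5984
theorem D8771 : act 0 n5984 = n8771 := rfl
def n8772 : Q := act 2 n5984
theorem D8772 : act 2 n5984 = n8772 := rfl
def n8773 : Q := act 4 n5984
theorem D8773 : act 4 n5984 = n8773 := rfl
theorem F10016 : act 1 n8773 = n5985 := d6_1 D8773 (iv D5985) D5984
def n8774 : Q := act 1 n5986
theorem D8774 : act 1 n5986 = n8774 := rfl
theorem F10017 : act 4 n8774 = n6002 := d6_2 (iv F5215) D8774 (iv D6002)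
def n8775 : Q := act 4 n5987
theorem D8775 : act 4 n5987 = n8775 := rfl
theorem F10018 : act 1 n8775 = n5988 := d6_1 D8775 (iv D5988) D5987
def n8776 : Q := act 3 n5988
theorem D8776 : act 3 n5988 = n8776 := rfl
theorem F10019 : act 0 n8776 = n8038 := d2_1 D8776 (iv D8038) F4071 D7373 F7485 (iv D5990) (iv F5218)
theorem F10020 : act 2 n8776 = n7999 := d7_1 D8776 (iv D7999) (iv F5219)
theorem F10021 : act 4 n8688 = n8776 := d11_1 D8688 F10020 F8570 F4102 D5113 F8695 F8692
def n8777 : Q := act 1 n5989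
theorem D8777 : act 1 n5989 = n8777 := rfl
theorem F10022 : act 3 n8777 = n8073 := d5_2 F5221 D8777 (iv D8073)
theorem F10023 : act 4 n8777 = n8077 := d6_2 (iv F6332) D8777 F8733
theorem F10024 : act 0 n8777 = n8633 := d13_3 D5049 (iv F5220) D8777 (iv D8633) F4931 (iv F4921) (iv F8518) (iv D7972) F4006 F1738 (iv F1748)
theorem F10025 : act 2 n7213 = n8777 := d16_4 (iv F4869) (iv F7175) F7176 (iv F7231) (iv D8777) F5220 D7996 F8564 (iv F8566) (iv F7242) F7241 F3261
theorem E891 : n7217 = n5995 := ((c4_6 F10025 (iv D8777) (iv D5989) F2356 D3266 D5995 (iv D7217) (iv F7231))).symm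
theorem F10026 : act 2 n5995 = n4319 := (sb E891 (iv D7217))
def n8778 : Q := act 4 n5990
theorem D8778 : act 4 n5990 = n8778 := rfl
theorem F10027 : act 1 n8778 = n5998 := d6_1 D8778 (iv D5998) (iv F5222)
theorem F10028 : act 3 n8778 = n5992 := d9_1 D8778 (iv D5992) (iv D3263) (iv D1530) D1529 D3262 D5990
theorem F10029 : act 2 n8778 = n8022 := d11_2 (iv F5223) D8778 F8613 F4138 (iv D2705) (iv F1793) D5121
def n8779 : Q := act 1 n5991
theorem D8779 : act 1 n5991 = n8779 := rfl
theorem F10030 : act 3 n8779 = n8228 := d5_2 (iv F5225) D8779 F9004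
def n8780 : Q := act 4 n5991
theorem D8780 : act 4 n5991 = n8780 := rfl
theorem F10031 : act 0 n8780 = n5992 := d3_1 D8780 (iv D5992) D5991
theorem F10032 : act 3 n8780 = n8688 := d9_1 D8780 F10021 (iv D8776) (iv D5988) F2355 D5599 (iv F5225)
theorem F10033 : act 2 n8780 = n7991 := d11_2 (iv F5224) D8780 F8556 F7130 (iv D2672) (iv F1752) D5062
def n8781 : Q := act 4 n5993
theorem D8781 : act 4 n5993 = n8781 := rfl
theorem F10034 : act 0 n8781 = n7546 := d3_1 D8781 (iv D7546) (iv F5229)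
theorem F10035 : act 1 n8781 = n8781 := d6_1 D8781 (iv D8781) F5227
theorem F10036 : act 3 n8781 = n5994 := d9_1 D8781 (iv D5994) (iv D3265) (iv D1532) D1531 D3264 D5993
theorem F10037 : act 2 n8781 = n5998 := d11_2 (iv F5228) D8781 F5236 F3421 (iv D1562) (iv F881) D3317
def n8782 : Q := act 0 n5995
theorem D8782 : act 0 n5995 = n8782 := rfl
theorem F10038 : act 2 n8782 = n7188 := d11_4 F3253 D4319 (iv F10026) D8782 (iv D7188) D7186 F7197
def n8783 : Q := act 3 n5995
theorem D8783 : act 3 n5995 = n8783 := rfl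
theorem F10039 : act 1 n8783 = n5996 := d5_1 D8783 (iv D5996) D5995
theorem F10040 : act 2 n8783 = n7176 := d7_1 D8783 F7176 (iv F10026)
theorem F10041 : act 0 n8783 = n7910 := d10_1 D8783 (iv D7910) (iv F7165) F7166 (iv F7200) (iv F10038) (iv D8782)
def n8784 : Q := act 4 n5995
theorem D8784 : act 4 n5995 = n8784 := rfl
theorem F10042 : act 1 n8784 = n5997 := d6_1 D8784 (iv D5997) D5995
theorem F10043 : act 2 n8784 = n7246 := d8_1 D8784 (iv F8604) (iv F8603) (iv D7215) F3253 D4319 (iv F10026)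
theorem F10044 : act 3 n8784 = n6000 := d12_2 (iv D8783) D8784 F5240 D6214 (iv F6502) (iv F8418) (iv F10041)
def n8785 : Q := act 4 n5996
theorem D8785 : act 4 n5996 = n8785 := rfl
theorem F10045 : act 0 n8785 = n7548 := d3_1 D8785 (iv D7548) (iv F5233)
theorem F10046 : act 2 n8785 = n6054 := d8_1 D8785 (iv D6054) (iv F5228) D8781 F10037 (iv D5998) (iv F5232)
theorem F10047 : act 3 n8785 = n6001 := d9_1 D8785 (iv D6001) (iv D3269) D3270 (iv F5235) (iv D5997) D5996
def n8786 : Q := act 0 n5999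
theorem D8786 : act 0 n5999 = n8786 := rfl
theorem F10048 : act 2 n8786 = n7192 := d10_2 D5999 D8786 (iv D7192) (iv D4304) F1288 D2604 (iv F2363)
def n8787 : Q := act 4 n5999
theorem D8787 : act 4 n5999 = n8787 := rfl
theorem F10049 : act 1 n8787 = n6001 := d6_1 D8787 (iv D6001) (iv F5238)
def n8788 : Q := act 0 n6002
theorem D8788 : act 0 n6002 = n8788 := rfl
def n8789 : Q := act 2 n6002
theorem D8789 : act 2 n6002 = n8789 := rfl
def n8790 : Q := act 3 n6004
theorem D8790 : act 3 n6004 = n8790 := rfl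
theorem F10050 : act 2 n8790 = n8325 := d7_1 D8790 (iv D8325) (iv F5247)
theorem F10051 : act 0 n8790 = n8367 := d10_1 D8790 (iv D8367) (iv D5477) (iv D2908) D2906 (iv F2375) (iv F5246)
def n8791 : Q := act 0 n6006
theorem D8791 : act 0 n6006 = n8791 := rfl
theorem F10052 : act 2 n8791 = n8331 := d1_2 (iv F5253) D8791 (iv D8331) F4474 D5448 D8334 F9199
theorem F10053 : act 3 n8791 = n7430 := d2_2 D6006 D8791 F7567 (iv F9266) (iv F10051) (iv D8790) F5246
theorem F10054 : act 1 n7759 = n8331 := d15_5 F9801 F7561 (iv F7537) (iv F7558) D7759 (iv F10052) (iv D8791) F5253 F6719 (iv D5824) D5825 D8654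
theorem F10055 : act 4 n8791 = n7457 := d17_9 (iv D1007) (iv F532) (iv F1435) D4569 (iv F7537) (iv F7558) D7759 F10054 (iv F10052) (iv D7457) F3566 F1455
def n8792 : Q := act 4 n6006
theorem D8792 : act 4 n6006 = n8792 := rfl
theorem F10056 : act 0 n8792 = n7457 := d3_1 D8792 (iv F10055) (iv D8791)
theorem F10057 : act 1 n8792 = n6013 := d6_1 D8792 (iv D6013) (iv F5252)
theorem F10058 : act 3 n8792 = n6026 := d9_1 D8792 (iv D6026) F5250 (iv D6005) (iv D3276) D3277 D6006
theorem F10059 : act 2 n8792 = n8049 := d17_4 (iv D8653) (iv F6719) (iv F5253) D8792 F8680 F4086 (iv F4067) F8632 (iv D8028) (iv F5775) (iv F6399) (iv F9797)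
def n8793 : Q := act 4 n6008
theorem D8793 : act 4 n6008 = n8793 := rfl
theorem F10060 : act 1 n8793 = n7777 := d6_1 D8793 F8176 F6034
theorem F10061 : act 3 n8793 = n6029 := d9_1 D8793 F5345 (iv F5256) (iv D6007) (iv D3278) D3279 D6008
theorem F10062 : act 2 n8793 = n6013 := d11_2 (iv F5259) D8793 (iv F9979) F9981 (iv D5961) (iv F5181) F5180
def n8794 : Q := act 4 n6009
theorem D8794 : act 4 n6009 = n8794 := rfl
theorem F10063 : act 2 n8794 = n6048 := d8_1 D8794 F5370 (iv F5255) (iv D6007) F2376 D3280 D6009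
theorem F10064 : act 3 n8794 = n6012 := d12_2 (iv F5260) D8794 F5263 F5201 (iv D2421) D2420 (iv F2396)
def n8795 : Q := act 0 n6010
theorem D8795 : act 0 n6010 = n8795 := rfl
theorem F10065 : act 2 n8795 = n6844 := d1_2 F5261 D8795 F6615 D7057 F6907 (iv D4194) (iv F3142)
def n8796 : Q := act 4 n6010
theorem D8796 : act 4 n6010 = n8796 := rfl
theorem F10066 : act 1 n8796 = n6012 := d6_1 D8796 (iv D6012) D6010
theorem F10067 : act 2 n8796 = n7097 := d8_1 D8796 (iv D7097) (iv F6918) (iv D7069) (iv D4186) D4188 F5261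
def n8797 : Q := act 4 n6011
theorem D8797 : act 4 n6011 = n8797 := rfl
theorem F10068 : act 2 n8797 = n6047 := d8_1 D8797 (iv D6047) (iv F5259) D8793 F10062 (iv D6013) (iv F5262)
theorem F10069 : act 3 n8797 = n6028 := d9_1 D8797 (iv D6028) (iv F5260) D8794 F10064 (iv D6012) D6011
def n8798 : Q := act 0 n6014
theorem D8798 : act 0 n6014 = n8798 := rfl
theorem F10070 : act 1 n8798 = n6925 := d0_2 D6014 D8798 F6749 F3091 (iv F2385) (iv D3284) D3283
theorem F10071 : act 2 n8798 = n8327 := d13_4 D1542 D3283 D6014 D8798 (iv D8327) (iv D5445) D5444 (iv F5247) F5246 F2374 F862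
theorem F10072 : act 4 n8798 = n6923 := d17_0 (iv D6923) (iv D4083) (iv D1999) (iv D849) D848 F446 (iv D645) D646 D1554 (iv F2384) D6014 D8798
def n8799 : Q := act 2 n6014
theorem D8799 : act 2 n6014 = n8799 := rfl
theorem F10073 : act 1 n8799 = n8651 := d4_1 D8799 F9793 F4973 F4334 F2406 (iv F2384) D6014
theorem F10074 : act 3 n8650 = n8799 := d5_0 F10073 (iv D8651) D8650
def n8800 : Q := act 3 n6014
theorem D8800 : act 3 n6014 = n8800 := rfl
theorem F10075 : act 1 n8800 = n6015 := d5_1 D8800 (iv D6015) D6014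
theorem F10076 : act 2 n8800 = n8650 := d7_1 D8800 F10074 (iv D8799)
def n8801 : Q := act 4 n6014
theorem D8801 : act 4 n6014 = n8801 := rfl
theorem F10077 : act 0 n8801 = n6923 := d3_1 D8801 (iv F10072) (iv D8798)
theorem F10078 : act 1 n8801 = n6016 := d6_1 D8801 (iv D6016) D6014
def n8802 : Q := act 4 n6015
theorem D8802 : act 4 n6015 = n8802 := rfl
theorem F10079 : act 2 n8802 = n6043 := d8_1 D8802 (iv D6043) F2410 D3309 F5361 (iv D6036) (iv F5266)
theorem F10080 : act 3 n8802 = n6024 := d12_2 D6015 D8802 F5337 (iv F5331) (iv D6019) (iv D3285) D3283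
def n8803 : Q := act 3 n6016
theorem D8803 : act 3 n6016 = n8803 := rfl
theorem F10081 : act 2 n8803 = n6038 := d7_1 D8803 F5363 (iv F5268)
theorem F10082 : act 4 n8803 = n6023 := d9_2 D6016 D8803 (iv D6023) D6024 (iv F10080) (iv D8802) (iv D6015)
def n8804 : Q := act 3 n6017
theorem D8804 : act 3 n6017 = n8804 := rfl
theorem F10083 : act 2 n8804 = n6018 := d7_1 D8804 (iv D6018) D6017
theorem F10084 : act 0 n8804 = n8423 := d10_1 D8804 (iv D8423) (iv D5523) (iv D2938) D2937 D5520 (iv F5269)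
theorem F10085 : act 4 n8423 = n8804 := d11_1 D8423 F10083 F5272 (iv D5527) (iv F1993) (iv F1990) D5523
def n8805 : Q := act 4 n6020
theorem D8805 : act 4 n6020 = n8805 := rfl
theorem F10086 : act 0 n8805 = n8427 := d3_1 D8805 (iv D8427) (iv F5333)
theorem F10087 : act 1 n8805 = n6165 := d6_1 D8805 F8974 F8972
theorem F10088 : act 3 n8805 = n8423 := d9_1 D8805 F10085 (iv D8804) F5270 (iv D5528) (iv F2390) D6020
theorem F10089 : act 2 n8805 = n7228 := d11_2 (iv F5332) D8805 F7254 (iv D5543) (iv D2955) D2953 (iv F2392)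
def n8806 : Q := act 2 n6021
theorem D8806 : act 2 n6021 = n8806 := rfl
theorem F10090 : act 0 n8806 = n8428 := d1_1 D8806 (iv D8428) F4560 D5535 D8429 F9355 (iv F5334)
theorem F10091 : act 1 n8806 = n6101 := d4_1 D8806 F5425 (iv F4982) F5023 F2426 (iv F3422) (iv F5335)
theorem F10092 : act 4 n8806 = n6099 := d8_2 D6021 D8806 F5424 F7255 (iv F10089) (iv D8805) F5332
def n8807 : Q := act 0 n6022
theorem D8807 : act 0 n6022 = n8807 := rfl
theorem F10093 : act 1 n8807 = n8430 := d0_2 D6022 D8807 (iv D8430) (iv D5540) (iv F2392) F2391 D3290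
theorem F10094 : act 2 n8807 = n8451 := d13_4 (iv F872) D3290 D6022 D8807 (iv D8451) (iv D5556) D5555 (iv F5339) (iv D6025) (iv D3293) (iv D1547)
def n8808 : Q := act 2 n6022
theorem D8808 : act 2 n6022 = n8808 := rfl
theorem F10095 : act 1 n8808 = n8648 := d4_1 D8808 (iv D8648) F4970 F4412 (iv D4683) (iv F2393) D6022
theorem F10096 : act 3 n8658 = n8808 := d5_0 F10095 F9788 D8658
def n8809 : Q := act 3 n6022
theorem D8809 : act 3 n6022 = n8809 := rfl
theorem F10097 : act 1 n8809 = n6023 := d5_1 D8809 (iv D6023) D6022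
theorem F10098 : act 2 n8809 = n8658 := d7_1 D8809 F10096 (iv D8808)
def n8810 : Q := act 4 n6022
theorem D8810 : act 4 n6022 = n8810 := rfl
theorem F10099 : act 1 n8810 = n6024 := d6_1 D8810 (iv D6024) D6022
def n8811 : Q := act 4 n6025
theorem D8811 : act 4 n6025 = n8811 := rfl
theorem F10100 : act 0 n8811 = n6026 := d3_1 D8811 (iv D6026) D6025
theorem F10101 : act 2 n8811 = n8456 := d11_2 (iv F5339) D8811 (iv D8456) (iv D5558) (iv D2966) D2965 D5555
def n8812 : Q := act 0 n6027
theorem D8812 : act 0 n6027 = n8812 := rfl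
theorem F10102 : act 2 n8812 = n7319 := d1_2 F5745 D8812 F7412 D7320 F7414 (iv D4473) (iv F3438)
def n8813 : Q := act 4 n6027
theorem D8813 : act 4 n6027 = n8813 := rfl
theorem F10103 : act 1 n8813 = n6028 := d6_1 D8813 (iv D6028) D6027
theorem F10104 : act 2 n8813 = n7335 := d8_1 D8813 (iv D7335) (iv F7419) (iv D7326) (iv D4464) D4466 F5745
def n8814 : Q := act 2 n6032
theorem D8814 : act 2 n6032 = n8814 := rfl
theorem F10105 : act 0 n8814 = n6636 := d1_1 D8814 (iv F6716) F6714 (iv D6556) D6555 F6100 (iv F5348)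
theorem F10106 : act 1 n8814 = n6040 := d4_1 D8814 (iv D6040) (iv D3306) (iv D1556) (iv F876) D3299 D6032
theorem F10107 : act 3 n8814 = n8647 := d7_2 (iv F5353) D8814 F9787
def n8815 : Q := act 0 n6037
theorem D8815 : act 0 n6037 = n8815 := rfl
def n8816 : Q := act 2 n6037
theorem D8816 : act 2 n6037 = n8816 := rfl
theorem F10108 : act 1 n8816 = n6724 := d4_1 D8816 (iv F7706) F7705 (iv D6031) F2400 D3304 D6037
theorem F10109 : act 3 n8816 = n6070 := d7_2 (iv F5362) D8816 (iv D6070)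
def n8817 : Q := act 4 n6037
theorem D8817 : act 4 n6037 = n8817 := rfl
theorem F10110 : act 1 n8817 = n6038 := d6_1 D8817 (iv D6038) D6037
theorem F10111 : act 3 n6042 = n8817 := d5_0 F10110 F5363 (iv F5365)
def n8818 : Q := act 0 n6040
theorem D8818 : act 0 n6040 = n8818 := rfl
theorem F10112 : act 1 n8818 = n6458 := d0_2 F10106 D8818 F5941 (iv D3833) D3832 D6636 (iv F10105)
theorem F10113 : act 2 n8818 = n6457 := d1_2 D6040 D8818 F6265 (iv D6511) D6510 F6027 (iv D6039)
theorem F10114 : act 3 n8818 = n6457 := d10_4 F6028 (iv D6039) D6040 D8818 F6265 (iv D6511) D6510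
theorem F10115 : act 4 n8818 = n8239 := d17_0 (iv F9711) (iv D8613) (iv D5756) F2161 (iv F2155) D5750 F4813 (iv F4661) (iv F5349) D8814 F10106 D8818
def n8819 : Q := act 3 n6040
theorem D8819 : act 3 n6040 = n8819 := rfl
theorem F10116 : act 1 n8819 = n8647 := d5_1 D8819 (iv F10107) F10106
theorem F10117 : act 2 n8819 = n6041 := d7_1 D8819 (iv D6041) D6040
def n8820 : Q := act 4 n6040
theorem D8820 : act 4 n6040 = n8820 := rfl
theorem F10118 : act 0 n8820 = n8239 := d3_1 D8820 (iv F10115) (iv D8818)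
def n8821 : Q := act 0 n6041
theorem D8821 : act 0 n6041 = n8821 := rfl
def n8822 : Q := act 4 n6041
theorem D8822 : act 4 n6041 = n8822 := rfl
theorem F10119 : act 1 n8822 = n6043 := d6_1 D8822 (iv D6043) (iv F5364)
theorem F10120 : act 3 n8822 = n6071 := d9_1 D8822 (iv D6071) (iv F5362) D8817 (iv F10111) (iv D6042) D6041
def n8823 : Q := act 2 n6042
theorem D8823 : act 2 n6042 = n8823 := rfl
theorem F10121 : act 0 n8823 = n8256 := d11_3 (iv D6040) D6042 D8823 (iv F9714) F9715 (iv F10113) (iv D8818)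
def n8824 : Q := act 1 n6044
theorem D8824 : act 1 n6044 = n8824 := rfl
theorem F10122 : act 0 n8824 = n6049 := d0_1 D8824 (iv D6049) (iv D3313) (iv D1559) D1558 D3310 D6044
theorem F10123 : act 2 n8824 = n6609 := d4_2 F9445 D8824 (iv D6609) (iv D3816) D3815 (iv F4598) (iv F9444)
theorem F10124 : act 4 n8515 = n8824 := d17_0 (iv D8824) (iv F9445) (iv D8481) D8480 (iv F9617) F9616 F4779 (iv D3097) D3099 D5768 F4889 (iv F9532)
def n8825 : Q := act 3 n6044
theorem D8825 : act 3 n6044 = n8825 := rfl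
theorem F10125 : act 2 n8825 = n8502 := d7_1 D8825 F9496 F9445
def n8826 : Q := act 4 n6044
theorem D8826 : act 4 n6044 = n8826 := rfl
theorem F10126 : act 0 n8826 = n6046 := d3_1 D8826 (iv D6046) D6044
theorem F10127 : act 1 n8826 = n8515 := d6_1 D8826 F10124 (iv D8824)
def n8827 : Q := act 4 n6045
theorem D8827 : act 4 n6045 = n8827 := rfl
theorem F10128 : act 1 n8827 = n6047 := d6_1 D8827 (iv D6047) (iv F5367)
theorem F10129 : act 2 n8827 = n8086 := d8_1 D8827 (iv D8086) D8085 F8755 F7239 (iv F9665) F9664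
theorem F10130 : act 3 n6065 = n8827 := d7_0 F10129 (iv F9861) F9860
theorem F10131 : act 2 n8076 = n6059 := d16_4 (iv F6331) (iv F8728) F8729 (iv F8732) F5386 (iv F5214) (iv F9988) F9987 (iv F10128) F10129 F8756 F4131
theorem F10132 : act 2 n8787 = n7245 := d4_4 F10131 F5386 (iv F5243) (iv F10049) (iv F8616) F8617 (iv F8732)
def n8828 : Q := act 3 n6046
theorem D8828 : act 3 n6046 = n8828 := rfl
theorem F10133 : act 1 n8828 = n6048 := d5_1 D8828 (iv D6048) (iv F5368)
theorem F10134 : act 2 n8828 = n8063 := d7_1 D8828 F9690 F9689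
theorem F10135 : act 4 n8828 = n6064 := d9_2 D6046 D8828 (iv D6064) D6065 F10130 (iv D8827) (iv D6045)
def n8829 : Q := act 1 n6051
theorem D8829 : act 1 n6051 = n8829 := rfl
theorem F10136 : act 3 n8829 = n7617 := d5_2 F6126 D8829 F7907
theorem F10137 : act 4 n8829 = n7615 := d6_2 F9732 D8829 (iv F9730)
theorem F10138 : act 2 n8829 = n6460 := d14_1 D8829 (iv D6460) (iv D3670) F1033 F381 F123 (iv F114) (iv F319) (iv F881) (iv F2414) D6051
def n8830 : Q := act 0 n6053
theorem D8830 : act 0 n6053 = n8830 := rfl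
theorem F10139 : act 3 n8830 = n7518 := d10_4 (iv F6370) (iv F9751) F9754 D8830 F7702 F7703 F4952
theorem F10140 : act 2 n8830 = n7514 := d11_4 F7171 D8626 F9754 D8830 (iv D7514) D7513 F7695
def n8831 : Q := act 4 n6053
theorem D8831 : act 4 n6053 = n8831 := rfl
theorem F10141 : act 1 n8831 = n6054 := d6_1 D8831 (iv D6054) D6053
theorem F10142 : act 3 n8831 = n6059 := d9_1 D8831 (iv D6059) (iv D3322) D3323 D6060 F9770 F9768
def n8832 : Q := act 3 n6055
theorem D8832 : act 3 n6055 = n8832 := rfl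
theorem F10143 : act 1 n8832 = n6056 := d5_1 D8832 (iv D6056) D6055
theorem F10144 : act 2 n8832 = n6145 := d7_1 D8832 (iv D6145) (iv F5381)
theorem F10145 : act 0 n8832 = n7628 := d10_1 D8832 F7922 F3761 (iv F3786) (iv F1044) (iv F2421) (iv F5380)
theorem F10146 : act 4 n7571 = n8832 := d3_0 F10145 (iv D7628) (iv F7826)
theorem F10147 : act 2 n7626 = n7852 := d17_2 (iv D7628) D7626 (iv D7852) D7851 F8368 (iv F8366) F8367 (iv D7490) F3638 (iv F5383) (iv F10143) F10145
def n8833 : Q := act 4 n6056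
theorem D8833 : act 4 n6056 = n8833 := rfl
theorem F10148 : act 1 n8833 = n7571 := d6_1 D8833 F10146 F10143
def n8834 : Q := act 3 n6057
theorem D8834 : act 3 n6057 = n8834 := rfl
theorem F10149 : act 1 n8834 = n7573 := d5_1 D8834 (iv D7573) (iv F5385)
theorem F10150 : act 4 n8834 = n7518 := d12_1 D8834 (iv F10139) (iv D8830) (iv F9768) (iv F9770) (iv D6060) (iv F5384)
def n8835 : Q := act 1 n6058
theorem D8835 : act 1 n6058 = n8835 := rfl
def n8836 : Q := act 4 n6058
theorem D8836 : act 4 n6058 = n8836 := rfl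
theorem F10151 : act 0 n8836 = n6059 := d3_1 D8836 (iv D6059) D6058
def n8837 : Q := act 0 n6060
theorem D8837 : act 0 n6060 = n8837 := rfl
def n8838 : Q := act 0 n6061
theorem D8838 : act 0 n6061 = n8838 := rfl
theorem F10152 : act 4 n8838 = n7578 := d3_2 F5390 D8838 F7842
theorem F10153 : act 2 n8838 = n7596 := d10_2 D6061 D8838 F7866 F5699 (iv F2464) (iv F5381) F5380
def n8839 : Q := act 0 n6062
theorem D8839 : act 0 n6062 = n8839 := rfl
theorem F10154 : act 1 n8839 = n6063 := d0_2 D6062 D8839 (iv D6063) (iv D3332) (iv D1570) (iv F886) D3329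
theorem F10155 : act 2 n8839 = n6797 := d15_2 F5984 D8839 (iv D6797) D6796 F6523 (iv F5991) (iv D6484) F2736 D6177 F5495 (iv F6425) F6426
def n8840 : Q := act 3 n6063
theorem D8840 : act 3 n6063 = n8840 := rfl
theorem F10156 : act 2 n8840 = n8512 := d7_1 D8840 (iv F9847) F9848
def n8841 : Q := act 4 n6063
theorem D8841 : act 4 n6063 = n8841 := rfl
theorem F10157 : act 0 n8841 = n6065 := d3_1 D8841 (iv D6065) D6063
def n8842 : Q := act 2 n6067
theorem D8842 : act 2 n6067 = n8842 := rfl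
theorem F10158 : act 0 n8842 = n6758 := d1_1 D8842 (iv F7447) F7445 (iv D6782) D6781 F6470 (iv F5395)
theorem F10159 : act 1 n8842 = n6070 := d4_1 D8842 (iv D6070) (iv D3343) (iv D1574) D1573 D3341 D6067
theorem F10160 : act 3 n8842 = n6724 := d7_2 F7708 D8842 (iv F7706)
def n8843 : Q := act 4 n6069
theorem D8843 : act 4 n6069 = n8843 := rfl
theorem F10161 : act 0 n8843 = n6071 := d3_1 D8843 (iv D6071) D6069
def n8844 : Q := act 0 n6070
theorem D8844 : act 0 n6070 = n8844 := rfl
theorem F10162 : act 1 n8844 = n6473 := d0_2 F10159 D8844 F5978 (iv D3923) D3922 D6758 (iv F10158)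
theorem F10163 : act 2 n8844 = n6472 := d1_2 D6070 D8844 F6463 (iv D6774) D6773 F6460 (iv D6069)
theorem F10164 : act 3 n8844 = n6472 := d10_4 F6461 (iv D6069) D6070 D8844 F6463 (iv D6774) D6773
theorem F10165 : act 4 n8844 = n8255 := d17_0 (iv F9717) F9718 F4858 F2296 (iv F2290) F4959 F4957 (iv F4967) (iv F5396) D8842 F10159 D8844
def n8845 : Q := act 4 n6070
theorem D8845 : act 4 n6070 = n8845 := rfl
theorem F10166 : act 0 n8845 = n8255 := d3_1 D8845 (iv F10165) (iv D8844)
def n8846 : Q := act 2 n6071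
theorem D8846 : act 2 n6071 = n8846 := rfl
theorem F10167 : act 0 n8846 = n8240 := d11_3 (iv D6070) D6071 D8846 (iv F9832) F9834 (iv F10163) (iv D8844)
def n8847 : Q := act 1 n6073
theorem D8847 : act 1 n6073 = n8847 := rfl
def n8848 : Q := act 3 n6073
theorem D8848 : act 3 n6073 = n8848 := rfl
theorem F10168 : act 2 n8848 = n6074 := d7_1 D8848 (iv D6074) D6073
theorem F10169 : act 0 n8848 = n6096 := d10_1 D8848 F5418 (iv F4144) (iv D5154) (iv F4143) D8095 F8773
def n8849 : Q := act 4 n6073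
theorem D8849 : act 4 n6073 = n8849 := rfl
theorem F10170 : act 2 n8849 = n6083 := d8_1 D8849 (iv D6083) (iv D3354) (iv D1580) (iv F889) D3349 D6073
theorem F10171 : act 3 n8849 = n6077 := d12_2 (iv D8848) D8849 F5403 F5420 (iv D6097) D6096 (iv F10169)
def n8850 : Q := act 4 n6074
theorem D8850 : act 4 n6074 = n8850 := rfl
theorem F10172 : act 3 n8850 = n6079 := d9_1 D8850 (iv D6079) (iv D3351) (iv D1578) D1577 D3349 D6074
theorem F10173 : act 2 n8850 = n6084 := d11_2 F10168 D8850 F5410 F5422 (iv D6098) (iv F5418) (iv F10169)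
def n8851 : Q := act 0 n6075
theorem D8851 : act 0 n6075 = n8851 := rfl
theorem F10174 : act 1 n8851 = n6077 := d0_2 D6075 D8851 F5403 (iv F2668) F2669 (iv D3365) (iv F2433)
theorem F10175 : act 2 n8851 = n7406 := d1_2 (iv F5401) D8851 (iv D7406) (iv F6365) F6364 (iv D4857) (iv F3846)
theorem F10176 : act 4 n8851 = n6075 := d17_0 (iv D6075) (iv D3350) (iv D1578) (iv D657) (iv F178) F177 F178 D657 D1578 D3350 D6075 D8851
def n8852 : Q := act 3 n6075
theorem D8852 : act 3 n6075 = n8852 := rfl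
theorem F10177 : act 1 n8852 = n6076 := d5_1 D8852 (iv D6076) D6075
theorem F10178 : act 2 n8852 = n7748 := d7_1 D8852 (iv D7748) (iv F5401)
def n8853 : Q := act 4 n6076
theorem D8853 : act 4 n6076 = n8853 := rfl
theorem F10179 : act 2 n8853 = n6085 := d8_1 D8853 (iv D6085) F2438 D3359 (iv F8787) (iv D6079) (iv F5402)
def n8854 : Q := act 1 n6078
theorem D8854 : act 1 n6078 = n8854 := rfl
def n8855 : Q := act 4 n6081
theorem D8855 : act 4 n6081 = n8855 := rfl
theorem F10180 : act 0 n8855 = n6113 := d3_1 D8855 (iv D6113) (iv F5408)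
theorem F10181 : act 1 n8855 = n8770 := d6_1 D8855 F10015 F8229
theorem F10182 : act 3 n8855 = n6087 := d9_1 D8855 (iv D6087) (iv F5407) (iv D6080) (iv D3352) D3353 D6081
def n8856 : Q := act 4 n6082
theorem D8856 : act 4 n6082 = n8856 := rfl
theorem F10183 : act 3 n8856 = n6085 := d9_1 D8856 (iv D6085) (iv D3356) D3357 (iv F7002) (iv D6083) D6082
def n8857 : Q := act 4 n6089
theorem D8857 : act 4 n6089 = n8857 := rfl
theorem F10184 : act 1 n8857 = n6091 := d6_1 D8857 (iv D6091) (iv F5413)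
theorem F10185 : act 3 n6102 = n8857 := d5_0 F10184 F5416 D6102
def n8858 : Q := act 3 n6090
theorem D8858 : act 3 n6090 = n8858 := rfl
theorem F10186 : act 1 n8858 = n6093 := d5_1 D8858 (iv D6093) (iv F5415)
def n8859 : Q := act 2 n6091
theorem D8859 : act 2 n6091 = n8859 := rfl
theorem F10187 : act 3 n8859 = n6103 := d7_2 (iv F5416) D8859 (iv D6103)
def n8860 : Q := act 1 n6092
theorem D8860 : act 1 n6092 = n8860 := rfl
def n8861 : Q := act 3 n6092
theorem D8861 : act 3 n6092 = n8861 := rfl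
theorem F10188 : act 2 n8861 = n6093 := d7_1 D8861 (iv D6093) D6092
def n8862 : Q := act 4 n6092
theorem D8862 : act 4 n6092 = n8862 := rfl
theorem F10189 : act 2 n8862 = n6116 := d8_1 D8862 (iv D6116) (iv F3007) (iv D4018) (iv F1167) D3362 D6092
def n8863 : Q := act 4 n6093
theorem D8863 : act 4 n6093 = n8863 := rfl
theorem F10190 : act 3 n8863 = n6104 := d9_1 D8863 (iv D6104) (iv F5416) (iv D6091) (iv D3361) D3362 D6093
def n8864 : Q := act 1 n6094
theorem D8864 : act 1 n6094 = n8864 := rfl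
theorem F10191 : act 2 n8864 = n8407 := d15_6 (iv F6693) F6691 F5865 (iv D6095) D6094 D8864 F9327 D8413 F9334 (iv D8246) F4309 D6394
def n8865 : Q := act 3 n6094
theorem D8865 : act 3 n6094 = n8865 := rfl
theorem F10192 : act 2 n8865 = n6108 := d7_1 D8865 (iv D6108) (iv F5417)
def n8866 : Q := act 4 n6094
theorem D8866 : act 4 n6094 = n8866 := rfl
theorem F10193 : act 0 n8866 = n6097 := d3_1 D8866 (iv D6097) D6094
theorem F10194 : act 2 n8866 = n6112 := d8_1 D8866 (iv D6112) (iv D3374) (iv D1589) D1587 D3372 (iv F5417)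
def n8867 : Q := act 3 n6095
theorem D8867 : act 3 n6095 = n8867 := rfl
theorem F10195 : act 1 n8867 = n6096 := d5_1 D8867 (iv D6096) D6095
theorem F10196 : act 2 n8867 = n8424 := d7_1 D8867 F9346 F5865
def n8868 : Q := act 4 n6096
theorem D8868 : act 4 n6096 = n8868 := rfl
theorem F10197 : act 2 n8868 = n6117 := d8_1 D8868 (iv D6117) F2445 D3380 F5422 (iv D6098) (iv F5418)
theorem F10198 : act 3 n8868 = n6101 := d9_1 D8868 (iv D6101) (iv D3366) D3367 F5420 (iv D6097) D6096
def n8869 : Q := act 1 n6100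
theorem D8869 : act 1 n6100 = n8869 := rfl
theorem F10199 : act 2 n8869 = n8439 := d15_6 (iv F7469) F7470 (iv F5424) F5423 D6100 D8869 F9363 D8445 F9370 (iv D8251) F4320 D6398
def n8870 : Q := act 3 n6100
theorem D8870 : act 3 n6100 = n8870 := rfl
theorem F10200 : act 2 n8870 = n6107 := d7_1 D8870 (iv F5537) F5536
def n8871 : Q := act 4 n6100
theorem D8871 : act 4 n6100 = n8871 := rfl
theorem F10201 : act 0 n8871 = n6101 := d3_1 D8871 (iv D6101) D6100
theorem F10202 : act 2 n8871 = n6122 := d8_1 D8871 (iv D6122) (iv D3384) D3385 D6123 F5538 F5536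
def n8872 : Q := act 0 n6102
theorem D8872 : act 0 n6102 = n8872 := rfl
theorem F10203 : act 3 n8872 = n7473 := d12_4 D6089 D8857 (iv F10185) D8872 (iv D7473) F4340 F4338
def n8873 : Q := act 4 n6102
theorem D8873 : act 4 n6102 = n8873 := rfl
theorem F10204 : act 1 n8873 = n6104 := d6_1 D8873 (iv D6104) D6102
def n8874 : Q := act 1 n6103
theorem D8874 : act 1 n6103 = n8874 := rfl
def n8875 : Q := act 4 n6103
theorem D8875 : act 4 n6103 = n8875 := rfl
theorem F10205 : act 2 n8875 = n6120 := d8_1 D8875 (iv D6120) F3463 D7345 F7451 (iv D6104) D6103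
def n8876 : Q := act 4 n6105
theorem D8876 : act 4 n6105 = n8876 := rfl
theorem F10206 : act 0 n8876 = n8539 := d3_1 D8876 (iv D8539) (iv F5427)
theorem F10207 : act 1 n8876 = n6107 := d6_1 D8876 (iv D6107) (iv F5428)
theorem F10208 : act 3 n8876 = n8522 := d12_2 D6105 D8876 (iv D8522) (iv D5651) (iv D3036) D3035 (iv F2442)
def n8877 : Q := act 3 n6106
theorem D8877 : act 3 n6106 = n8877 := rfl
theorem F10209 : act 1 n8877 = n6108 := d5_1 D8877 (iv D6108) (iv F5431)
theorem F10210 : act 0 n8877 = n8540 := d12_3 (iv D6105) D6106 D8877 (iv D8540) (iv D5670) D5669 (iv F5427)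
def n8878 : Q := act 4 n6108
theorem D8878 : act 4 n6108 = n8878 := rfl
theorem F10211 : act 3 n8878 = n6123 := d9_1 D8878 F5538 F5537 (iv D6107) (iv D3371) D3372 D6108
theorem F10212 : act 2 n6113 = n8878 := d7_3 F10211 (iv D6123) (iv F5435)
def n8879 : Q := act 1 n6109
theorem D8879 : act 1 n6109 = n8879 := rfl
theorem F10213 : act 3 n8879 = n6121 := d5_2 (iv F5432) D8879 (iv D6121)
theorem F10214 : act 0 n8879 = n8556 := d13_3 D8108 F8792 D8879 F9604 F4753 (iv D4001) D4000 (iv F6568) F6566 (iv F6636) F6635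
def n8880 : Q := act 4 n6109
theorem D8880 : act 4 n6109 = n8880 := rfl
theorem F10215 : act 3 n8880 = n6112 := d12_2 (iv F5432) D8880 (iv F6999) (iv F7001) (iv D4363) D4362 F3289
def n8881 : Q := act 3 n6110
theorem D8881 : act 3 n6110 = n8881 := rfl
theorem F10216 : act 0 n8881 = n8583 := d2_1 D8881 (iv D8583) (iv F9619) (iv D8567) (iv D5702) D5704 (iv F5433)
theorem F10217 : act 1 n8881 = n6111 := d5_1 D8881 (iv D6111) D6110
def n8882 : Q := act 4 n6110
theorem D8882 : act 4 n6110 = n8882 := rfl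
theorem F10218 : act 0 n8882 = n8569 := d3_1 D8882 (iv D8569) (iv F5433)
theorem F10219 : act 1 n8882 = n6112 := d6_1 D8882 (iv D6112) D6110
def n8883 : Q := act 4 n6111
theorem D8883 : act 4 n6111 = n8883 := rfl
theorem F10220 : act 3 n8883 = n6122 := d9_1 D8883 (iv D6122) (iv F5432) D8880 F10215 (iv D6112) D6111
def n8884 : Q := act 3 n6114
theorem D8884 : act 3 n6114 = n8884 := rfl
theorem F10221 : act 1 n8884 = n6115 := d5_1 D8884 (iv D6115) D6114
def n8885 : Q := act 4 n6114
theorem D8885 : act 4 n6114 = n8885 := rfl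
theorem F10222 : act 1 n8885 = n6116 := d6_1 D8885 (iv D6116) D6114
def n8886 : Q := act 4 n6115
theorem D8886 : act 4 n6115 = n8886 := rfl
theorem F10223 : act 3 n8886 = n6120 := d12_2 D6115 D8886 F5438 (iv F5437) (iv D6117) (iv D3378) D3376
def n8887 : Q := act 3 n6116
theorem D8887 : act 3 n6116 = n8887 := rfl
theorem F10224 : act 4 n8887 = n6119 := d9_2 D6116 D8887 (iv D6119) D6120 (iv F10223) (iv D8886) (iv D6115)
def n8888 : Q := act 3 n6118
theorem D8888 : act 3 n6118 = n8888 := rfl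
theorem F10225 : act 1 n8888 = n6119 := d5_1 D8888 (iv D6119) D6118
theorem F10226 : act 2 n8888 = n8631 := d7_1 D8888 F9761 F7364
def n8889 : Q := act 4 n6118
theorem D8889 : act 4 n6118 = n8889 := rfl
theorem F10227 : act 1 n8889 = n6120 := d6_1 D8889 (iv D6120) D6118
def n8890 : Q := act 4 n6121
theorem D8890 : act 4 n6121 = n8890 := rfl
theorem F10228 : act 0 n8890 = n8571 := d3_1 D8890 (iv F9626) (iv F5439)
theorem F10229 : act 1 n8890 = n6122 := d6_1 D8890 (iv D6122) D6121
def n8891 : Q := act 1 n6123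
theorem D8891 : act 1 n6123 = n8891 := rfl
theorem F10230 : act 0 n8891 = n8523 := d0_1 D8891 F9546 (iv D6493) (iv D3732) (iv F5326) (iv F5540) F5539
theorem F10231 : act 4 n8891 = n8522 := d6_2 (iv F5538) D8891 F9544
def n8892 : Q := act 2 n6125
theorem D8892 : act 2 n6125 = n8892 := rfl
theorem F10232 : act 1 n8892 = n6555 := d4_1 D8892 F6100 F4664 (iv F2449) (iv D3387) D3388 D6125
theorem F10233 : act 4 n8892 = n8229 := d8_2 F9552 D8892 F9005 (iv D6106) (iv F4294) D8228 (iv F9551)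
theorem F10234 : act 0 n8892 = n6456 := d10_3 (iv F5915) F5910 D8892 F5939 (iv F10122) F10123 F6190
def n8893 : Q := act 3 n6125
theorem D8893 : act 3 n6125 = n8893 := rfl
theorem F10235 : act 1 n8893 = n6126 := d5_1 D8893 (iv D6126) D6125
def n8894 : Q := act 0 n6126
theorem D8894 : act 0 n6126 = n8894 := rfl
def n8895 : Q := act 4 n6126
theorem D8895 : act 4 n6126 = n8895 := rfl
theorem F10236 : act 3 n8895 = n6170 := d12_2 D6126 D8895 (iv F5694) (iv F8829) (iv F8831) F5686 F2702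
theorem F10237 : act 0 n8125 = n8895 := d10_7 F10236 (iv F5694) (iv F6499) (iv F7785) F7787 F6646 (iv F8821)
theorem F10238 : act 4 n8894 = n8125 := d3_0 F10237 (iv D8895) D8894
def n8896 : Q := act 2 n6127
theorem D8896 : act 2 n6127 = n8896 := rfl
theorem F10239 : act 0 n8896 = n6138 := d1_1 D8896 (iv D6138) (iv F5451) (iv F5452) F3013 (iv F4178) (iv F5445)
def n8897 : Q := act 3 n6127
theorem D8897 : act 3 n6127 = n8897 := rfl
theorem F10240 : act 0 n8897 = n8143 := d2_1 D8897 (iv D8143) (iv F5470) (iv D6149) (iv F2468) D5188 (iv F5445)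
theorem F10241 : act 4 n8897 = n6169 := d9_2 D6127 D8897 (iv D6169) D6170 (iv F10236) (iv D8895) (iv D6126)
theorem F10242 : act 3 n8144 = n8894 := d12_6 (iv D6126) D6127 D8897 F10240 (iv D8143) D8144 (iv D8894)
def n8898 : Q := act 2 n6128
theorem D8898 : act 2 n6128 = n8898 := rfl
theorem F10243 : act 1 n8898 = n8740 := d4_1 D8898 (iv D8740) (iv D5958) (iv D3241) (iv F2333) D5948 (iv F5446)
theorem F10244 : act 0 n8898 = n6134 := d10_3 D3389 D6128 D8898 (iv D6134) (iv D3391) (iv D1598) D1597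
theorem F10245 : act 3 n8138 = n8898 := d2_0 F10244 (iv D6134) (iv D3391) D3392 D6136 F5453 (iv F8833)
theorem F10246 : act 4 n8898 = n8131 := d12_1 F10245 (iv D8131) (iv D5182) D5183 F7790 F5453 (iv F8833)
def n8899 : Q := act 3 n6128
theorem D8899 : act 3 n6128 = n8899 := rfl
theorem F10247 : act 0 n8899 = n6141 := d2_1 D8899 (iv D6141) (iv D3394) (iv D1599) D1597 D3389 D6128
theorem F10248 : act 1 n8899 = n8729 := d5_1 D8899 (iv D8729) (iv F5446)
theorem F10249 : act 2 n8899 = n8138 := d7_1 D8899 F10245 (iv D8898)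
theorem F10250 : act 4 n6156 = n8899 := d6_0 F10248 (iv F9967) F8497
def n8900 : Q := act 4 n6128
theorem D8900 : act 4 n6128 = n8900 := rfl
theorem F10251 : act 0 n8900 = n6129 := d3_1 D8900 (iv D6129) D6128
theorem F10252 : act 1 n8900 = n8730 := d6_1 D8900 (iv D8730) (iv F5446)
theorem F10253 : act 3 n8900 = n6152 := d12_2 (iv D8899) D8900 F5474 (iv F5465) (iv D6142) D6141 (iv F10247)
def n8901 : Q := act 2 n6129
theorem D8901 : act 2 n6129 = n8901 := rfl
theorem F10254 : act 3 n8901 = n6171 := d7_2 (iv F5448) D8901 (iv D6171)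
def n8902 : Q := act 1 n6130
theorem D8902 : act 1 n6130 = n8902 := rfl
theorem F10255 : act 2 n8902 = n8485 := d4_2 D6130 D8902 (iv D8485) (iv D5600) F2027 D3001 (iv F2452)
def n8903 : Q := act 3 n6130
theorem D8903 : act 3 n6130 = n8903 := rfl
theorem F10256 : act 2 n8903 = n6131 := d7_1 D8903 (iv D6131) D6130
def n8904 : Q := act 0 n6131
theorem D8904 : act 0 n6131 = n8904 := rfl
theorem F10257 : act 3 n8904 = n6156 := d2_2 D6131 D8904 (iv D6156) (iv D3407) F907 (iv F2068) (iv F2451)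
theorem F10258 : act 4 n8904 = n6151 := d3_2 (iv F5450) D8904 F5472
theorem F10259 : act 1 n8904 = n8769 := d14_4 (iv F4022) (iv F4617) (iv F5449) D8904 F10012 (iv D7210) (iv D4314) (iv F3237) F3238 F2312 D5045
def n8905 : Q := act 0 n6132
theorem D8905 : act 0 n6132 = n8905 := rfl
theorem F10260 : act 1 n8905 = n6938 := d0_2 D6132 D8905 F9723 F9721 F4876 F2413 D3391
theorem F10261 : act 2 n8905 = n6910 := d1_2 F5929 D8905 F6730 F4604 (iv D3658) D3659 D6449
def n8906 : Q := act 3 n6132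
theorem D8906 : act 3 n6132 = n8906 := rfl
theorem F10262 : act 1 n8906 = n6134 := d5_1 D8906 (iv D6134) D6132
def n8907 : Q := act 4 n6132
theorem D8907 : act 4 n6132 = n8907 := rfl
theorem F10263 : act 1 n8907 = n6135 := d6_1 D8907 (iv D6135) D6132
theorem F10264 : act 2 n8907 = n6857 := d11_2 F5929 D8907 F7081 (iv D6454) (iv D3661) D3659 D6449
def n8908 : Q := act 3 n6133
theorem D8908 : act 3 n6133 = n8908 := rfl
theorem F10265 : act 2 n8908 = n6134 := d7_1 D8908 (iv D6134) D6133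
def n8909 : Q := act 4 n6133
theorem D8909 : act 4 n6133 = n8909 := rfl
theorem F10266 : act 2 n8909 = n6144 := d8_1 D8909 F7772 (iv D7551) F3676 F5452 (iv D6135) D6133
def n8910 : Q := act 4 n6134
theorem D8910 : act 4 n6134 = n8910 := rfl
theorem F10267 : act 0 n8910 = n8131 := d3_1 D8910 (iv F10246) F10244
theorem F10268 : act 3 n8910 = n6164 := d12_2 D6134 D8910 F5485 (iv F5454) (iv D6137) (iv D3392) D3391
theorem F10269 : act 2 n6862 = n8910 := d7_3 F10268 F7788 F7787
def n8911 : Q := act 3 n6135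
theorem D8911 : act 3 n6135 = n8911 := rfl
theorem F10270 : act 0 n8911 = n8137 := d2_1 D8911 (iv D8137) (iv D5189) (iv D2745) (iv F2266) (iv F4871) (iv F5451)
theorem F10271 : act 2 n8911 = n6865 := d7_1 D8911 (iv D6865) F5452
theorem F10272 : act 4 n8911 = n6163 := d9_2 D6135 D8911 (iv D6163) D6164 (iv F10268) (iv D8910) (iv D6134)
def n8912 : Q := act 1 n6136
theorem D8912 : act 1 n6136 = n8912 := rfl
theorem F10273 : act 3 n8912 = n8080 := d5_2 (iv F5453) D8912 F8741
theorem F10274 : act 4 n8912 = n8069 := d6_2 F7790 D8912 F8717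
theorem F10275 : act 2 n8912 = n8627 := d14_1 D8912 F9756 (iv F9751) F9752 F9754 (iv D6053) (iv D3317) (iv F2414) (iv F5374) F5373 D6136
def n8913 : Q := act 2 n6136
theorem D8913 : act 2 n6136 = n8913 := rfl
theorem F10276 : act 1 n8913 = n6683 := d4_1 D8913 (iv D6683) D6682 F6305 (iv F9756) (iv F10275) (iv D8912)
theorem F10277 : act 3 n8913 = n8139 := d7_2 (iv F5453) D8913 (iv D8139)
def n8914 : Q := act 2 n6137
theorem D8914 : act 2 n6137 = n8914 := rfl
theorem F10278 : act 1 n8914 = n8423 := d4_1 D8914 (iv D8423) (iv F7180) (iv D7178) (iv F7177) (iv F9737) F9739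
theorem F10279 : act 3 n8914 = n6165 := d7_2 (iv F5454) D8914 (iv D6165)
def n8915 : Q := act 1 n6140
theorem D8915 : act 1 n6140 = n8915 := rfl
theorem F10280 : act 0 n8915 = n7601 := d0_1 D8915 F7877 (iv D6307) F2584 D3523 D6309 F5687
theorem F10281 : act 1 n7609 = n6623 := d16_9 (iv F6211) F3567 F5459 (iv D6139) D6140 D8915 F10280 F7878 (iv F7895) (iv D6623) D6622 F6209
theorem F10282 : act 4 n6623 = n7606 := d6_2 D7609 F10281 (iv D7606)
theorem F10283 : act 4 n7600 = n8915 := d3_0 F10280 (iv D7601) D7600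
theorem F10284 : act 3 n7602 = n8915 := d12_2 D4724 D7602 F10280 F7878 (iv D4728) (iv D2454) D2452
def n8916 : Q := act 3 n6140
theorem D8916 : act 3 n6140 = n8916 := rfl
theorem F10285 : act 0 n8916 = n8144 := d2_1 D8916 F10242 (iv D8894) (iv D6126) (iv F2702) (iv F5686) F5687
theorem F10286 : act 1 n8916 = n7602 := d5_1 D8916 F10284 (iv D8915)
theorem F10287 : act 2 n8916 = n6141 := d7_1 D8916 (iv D6141) D6140
theorem F10288 : act 4 n8916 = n6149 := d12_1 D8916 (iv D6149) (iv F2468) D5188 (iv F4179) (iv F5686) F5687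
def n8917 : Q := act 4 n6140
theorem D8917 : act 4 n6140 = n8917 := rfl
theorem F10289 : act 0 n8917 = n8132 := d3_1 D8917 (iv F8831) F5687
theorem F10290 : act 1 n8917 = n7600 := d6_1 D8917 F10283 (iv D8915)
theorem F10291 : act 3 n8917 = n6147 := d9_1 D8917 (iv D6147) (iv D3402) D3403 D6149 (iv F10288) (iv D8916)
def n8918 : Q := act 2 n6142
theorem D8918 : act 2 n6142 = n8918 := rfl
theorem F10292 : act 3 n8918 = n6153 := d7_2 (iv F5465) D8918 (iv D6153)
def n8919 : Q := act 0 n6143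
theorem D8919 : act 0 n6143 = n8919 := rfl
theorem F10293 : act 4 n8919 = n8133 := d3_2 (iv F8967) D8919 (iv F8966)
theorem F10294 : act 3 n8919 = n8030 := d12_4 D5260 (iv F5313) (iv F5466) D8919 F8644 F4176 (iv F1857)
theorem F10295 : act 1 n8919 = n8031 := d13_2 D6143 D8919 F8639 F7514 F3508 F1434 (iv F1422) (iv F3496) F3497 (iv F5464) F5463
def n8920 : Q := act 1 n6144
theorem D8920 : act 1 n6144 = n8920 := rfl
theorem F10296 : act 0 n8920 = n8471 := d0_1 D8920 F9421 F9079 F4352 (iv F4443) F4263 D6144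
theorem F10297 : act 2 n8920 = n6363 := d14_1 D8920 F5816 (iv F4074) F4075 D5450 F4478 (iv D4348) (iv F3275) (iv F4264) F4263 D6144
def n8921 : Q := act 3 n6144
theorem D8921 : act 3 n6144 = n8921 := rfl
def n8922 : Q := act 2 n6146
theorem D8922 : act 2 n6146 = n8922 := rfl
theorem F10298 : act 0 n8922 = n6158 := d1_1 D8922 F5482 (iv F5471) (iv D6150) (iv D3404) (iv F2466) D6146
def n8923 : Q := act 3 n6146
theorem D8923 : act 3 n6146 = n8923 := rfl
theorem F10299 : act 0 n8923 = n6169 := d2_1 D8923 (iv D6169) (iv F2590) (iv D3528) F979 D3402 D6146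
theorem F10300 : act 4 n8923 = n8143 := d9_2 (iv F6360) D8923 (iv D8143) D8144 F10242 F10238 (iv D8125)
def n8924 : Q := act 2 n6147
theorem D8924 : act 2 n6147 = n8924 := rfl
theorem F10301 : act 0 n8924 = n8130 := d1_1 D8924 (iv D8130) (iv D5182) (iv D2737) D2736 D5179 F6359
def n8925 : Q := act 3 n6148
theorem D8925 : act 3 n6148 = n8925 := rfl
theorem F10302 : act 2 n8925 = n6149 := d7_1 D8925 (iv D6149) D6148
theorem F10303 : act 0 n8925 = n8136 := d10_1 D8925 (iv D8136) (iv D5189) (iv D2745) (iv F2266) D3413 (iv F5468)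
def n8926 : Q := act 1 n6150
theorem D8926 : act 1 n6150 = n8926 := rfl
theorem F10304 : act 2 n8926 = n8737 := d4_2 D6150 D8926 (iv D8737) (iv D5956) F2338 D4889 F3875
theorem F10305 : act 4 n8926 = n8129 := d6_2 (iv F7792) D8926 (iv D8129)
theorem F10306 : act 3 n8772 = n8926 := d7_0 F10304 F9982 D8772
def n8927 : Q := act 3 n6150
theorem D8927 : act 3 n6150 = n8927 := rfl
theorem F10307 : act 0 n8927 = n6163 := d2_1 D8927 (iv D6163) (iv D3411) (iv D1609) D1608 D3410 (iv F5471)
theorem F10308 : act 1 n8927 = n8772 := d5_1 D8927 F10306 (iv D8926)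
theorem F10309 : act 2 n8927 = n6151 := d7_1 D8927 (iv D6151) D6150
theorem F10310 : act 4 n8927 = n8137 := d9_2 (iv F7792) D8927 (iv D8137) D8138 F10245 F10246 (iv D8131)
def n8928 : Q := act 2 n6152
theorem D8928 : act 2 n6152 = n8928 := rfl
theorem F10311 : act 0 n8928 = n8030 := d10_3 F5465 (iv F5474) D8928 (iv F10294) (iv D8919) (iv D6143) (iv F5463)
theorem F10312 : act 4 n8134 = n8928 := d3_0 F10311 F8644 D8134
def n8929 : Q := act 0 n6153
theorem D8929 : act 0 n6153 = n8929 := rfl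
def n8930 : Q := act 1 n6153
theorem D8930 : act 1 n6153 = n8930 := rfl
theorem F10313 : act 2 n8930 = n7375 := d4_2 D6153 D8930 (iv D7375) (iv D4529) F1417 D2308 (iv F2472)
theorem F10314 : act 0 n8930 = n7890 := d17_12 (iv D7890) D7888 F8386 (iv F7951) F7966 F7963 (iv F6356) F5467 F2466 D3405 D6153 D8930
theorem F10315 : act 4 n7887 = n8930 := d17_0 (iv D8930) (iv D6153) (iv D3405) (iv F2466) (iv F5467) F6356 (iv F7963) (iv F7966) F7951 (iv F8386) (iv D7888) D7887
theorem F10316 : act 4 n6153 = n7556 := d6_2 F10315 (iv D8930) F8385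
theorem F10317 : act 4 n8127 = n8929 := d3_2 F10316 (iv F8825) (iv D8929)
def n8931 : Q := act 3 n6154
theorem D8931 : act 3 n6154 = n8931 := rfl
theorem F10318 : act 1 n8931 = n6155 := d5_1 D8931 (iv D6155) D6154
theorem F10319 : act 2 n8931 = n7379 := d7_1 D8931 (iv D7379) (iv F5476)
theorem F10320 : act 4 n7939 = n8931 := d17_0 F10318 F5478 (iv F5462) (iv F10287) F10286 F7879 (iv F7990) F7994 F7961 (iv F8459) (iv D7940) D7939
theorem F10321 : act 0 n8931 = n7941 := d17_12 (iv D7941) D7940 F8459 (iv F7961) (iv F7994) F7990 (iv F7879) (iv F10286) F10287 F5462 (iv F5478) (iv F10318)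
def n8932 : Q := act 0 n6155
theorem D8932 : act 0 n6155 = n8932 := rfl
def n8933 : Q := act 4 n6155
theorem D8933 : act 4 n6155 = n8933 := rfl
theorem F10322 : act 1 n8933 = n7939 := d6_1 D8933 F10320 F10318
theorem F10323 : act 0 n8145 = n8933 := d13_1 D8145 F10322 (iv D7939) (iv D5004) F1722 F638 (iv F642) (iv F2201) F1640 (iv F1821) (iv F4180)
theorem F10324 : act 4 n8932 = n8145 := d3_0 F10323 (iv D8933) D8932
def n8934 : Q := act 2 n6156
theorem D8934 : act 2 n6156 = n8934 := rfl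
theorem F10325 : act 0 n8934 = n6173 := d10_3 D3407 D6156 D8934 (iv D6173) (iv D3420) (iv D1613) (iv F907)
theorem F10326 : act 4 n8146 = n8934 := d3_0 F10325 F8650 D8146
def n8935 : Q := act 4 n6158
theorem D8935 : act 4 n6158 = n8935 := rfl
theorem F10327 : act 1 n8935 = n6727 := d6_1 D8935 (iv D6727) (iv F5481)
theorem F10328 : act 2 n8935 = n8030 := d8_1 D8935 F8644 (iv D5187) (iv D2739) D2737 F7791 (iv F5482)
def n8936 : Q := act 3 n6159
theorem D8936 : act 3 n6159 = n8936 := rfl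
theorem F10329 : act 1 n8936 = n6728 := d5_1 D8936 (iv D6728) (iv F5483)
theorem F10330 : act 2 n8936 = n6173 := d7_1 D8936 (iv D6173) (iv F5484)
theorem F10331 : act 4 n8139 = n8936 := d8_0 F10330 F8650 (iv D5195) (iv D2748) (iv F1820) D5190 D8139
def n8937 : Q := act 0 n6161
theorem D8937 : act 0 n6161 = n8937 := rfl
theorem F10332 : act 2 n8937 = n8684 := d1_2 F5986 D8937 F9869 F5078 (iv D3704) D3705 D6479
def n8938 : Q := act 3 n6161
theorem D8938 : act 3 n6161 = n8938 := rfl
theorem F10333 : act 1 n8938 = n6163 := d5_1 D8938 (iv D6163) D6161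
def n8939 : Q := act 4 n6161
theorem D8939 : act 4 n6161 = n8939 := rfl
theorem F10334 : act 1 n8939 = n6164 := d6_1 D8939 (iv D6164) D6161
def n8940 : Q := act 3 n6162
theorem D8940 : act 3 n6162 = n8940 := rfl
theorem F10335 : act 2 n8940 = n6163 := d7_1 D8940 (iv D6163) D6162
def n8941 : Q := act 4 n6162
theorem D8941 : act 4 n6162 = n8941 := rfl
theorem F10336 : act 2 n8941 = n6172 := d8_1 D8941 F7782 (iv D7558) D7560 (iv F7788) (iv D6164) D6162
def n8942 : Q := act 0 n6165
theorem D8942 : act 0 n6165 = n8942 := rfl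
theorem F10337 : act 2 n8942 = n6170 := d1_2 D6165 D8942 (iv F5694) (iv F6499) (iv F7785) (iv F7788) F5485
def n8943 : Q := act 2 n6168
theorem D8943 : act 2 n6168 = n8943 := rfl
theorem F10338 : act 1 n8943 = n6781 := d4_1 D8943 F6470 F5082 F3400 (iv D3415) D3416 D6168
theorem F10339 : act 0 n8943 = n6475 := d13_1 D8943 F5980 (iv D3944) D3945 D6788 (iv F6487) (iv D6490) (iv D3728) D3727 D6487 F5993
theorem F10340 : act 4 n8943 = n8259 := d17_3 (iv D6170) D6168 D8943 (iv F9545) F9544 (iv D6205) F2508 (iv F2519) D6215 F5562 (iv F5695) F5694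
theorem F10341 : act 3 n8943 = n8835 := d16_2 F5982 (iv F10339) (iv D8835) F9515 F9513 F4665 F4656 (iv F5071) (iv F9846) F9848 (iv F10154) (iv D8839)
def n8944 : Q := act 3 n6168
theorem D8944 : act 3 n6168 = n8944 := rfl
theorem F10342 : act 1 n8944 = n6169 := d5_1 D8944 (iv D6169) D6168
theorem F10343 : act 2 n8944 = n8835 := d7_1 D8944 (iv F10341) (iv D8943)
def n8945 : Q := act 1 n6171
theorem D8945 : act 1 n6171 = n8945 := rfl
def n8946 : Q := act 1 n6172
theorem D8946 : act 1 n6172 = n8946 := rfl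
def n8947 : Q := act 3 n6172
theorem D8947 : act 3 n6172 = n8947 := rfl
def n8948 : Q := act 2 n6175
theorem D8948 : act 2 n6175 = n8948 := rfl
theorem F10344 : act 0 n8948 = n8672 := d1_1 D8948 F9843 (iv D6490) (iv D3728) D3727 D6488 F5994
theorem F10345 : act 1 n8948 = n8937 := d4_1 D8948 F10332 F9870 (iv D6066) F2430 D3423 D6175
theorem F10346 : act 4 n8671 = n8948 := d17_0 F10345 F10332 (iv D8684) (iv F9836) (iv D8668) (iv D5862) (iv D3169) (iv D1456) D1458 D3172 D5866 D8671
def n8949 : Q := act 4 n6181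
theorem D8949 : act 4 n6181 = n8949 := rfl
theorem F10347 : act 2 n8949 = n6191 := d8_1 D8949 (iv D6191) (iv F5511) (iv F6946) (iv D7084) D7086 (iv F6956)
theorem F10348 : act 3 n8949 = n6184 := d9_1 D8949 (iv D6184) (iv F5497) (iv D6180) (iv D3433) D3434 D6181
def n8950 : Q := act 1 n6185
theorem D8950 : act 1 n6185 = n8950 := rfl
theorem F10349 : act 0 n8950 = n6281 := d0_1 D8950 F6600 (iv F9011) F9009 F4639 (iv F4487) (iv F5503)
theorem F10350 : act 2 n8950 = n7805 := d4_2 D6185 D8950 F8247 F4519 F2827 (iv D3502) (iv F2487)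
theorem F10351 : act 3 n8950 = n6502 := d5_2 (iv F5504) D8950 (iv D6502)
def n8951 : Q := act 4 n6185
theorem D8951 : act 4 n6185 = n8951 := rfl
theorem F10352 : act 0 n8951 = n6533 := d3_1 D8951 (iv D6533) (iv F5503)
theorem F10353 : act 3 n8951 = n6524 := d12_2 (iv F5504) D8951 (iv D6524) (iv D3759) (iv D1800) D1799 (iv F2758)
def n8952 : Q := act 2 n6186
theorem D8952 : act 2 n6186 = n8952 := rfl
theorem F10354 : act 3 n8952 = n6517 := d7_2 (iv F5507) D8952 (iv D6517)
theorem F10355 : act 0 n8952 = n6570 := d10_3 (iv F2490) (iv F5505) D8952 (iv D6570) (iv D3788) F1070 D1818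
theorem F10356 : act 2 n6570 = n7680 := d11_4 (iv D6185) D6186 D8952 F10355 (iv D7680) (iv F4489) (iv F5503)
theorem F10357 : act 3 n7680 = n6569 := d7_2 D6570 F10356 (iv D6569)
theorem F10358 : act 1 n6569 = n6569 := d5_1 F10357 (iv F10357) F8008
def n8953 : Q := act 1 n6187
theorem D8953 : act 1 n6187 = n8953 := rfl
theorem F10359 : act 3 n8953 = n6572 := d5_2 (iv F5508) D8953 (iv D6572)
theorem F10360 : act 0 n8953 = n8750 := d16_6 (iv F3107) F3106 (iv D3442) (iv F2489) D6187 D8953 (iv D8750) (iv D5965) (iv D3244) (iv D1521) (iv F834) (iv F2313)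
def n8954 : Q := act 4 n6187
theorem D8954 : act 4 n6187 = n8954 := rfl
def n8955 : Q := act 1 n6188
theorem D8955 : act 1 n6188 = n8955 := rfl
theorem F10361 : act 3 n8955 = n6195 := d5_2 (iv F5509) D8955 (iv D6195)
theorem F10362 : act 4 n8955 = n7529 := d6_2 F7290 D8955 F7725
theorem F10363 : act 0 n8955 = n7505 := d14_3 (iv F2491) D6188 D8955 F7676 (iv F6172) (iv D6600) (iv D3812) (iv D1831) (iv D777) (iv F391) (iv F1068)
def n8956 : Q := act 2 n6189
theorem D8956 : act 2 n6189 = n8956 := rfl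
theorem F10364 : act 0 n8956 = n6675 := d10_3 (iv F9496) F9494 D8956 (iv D6675) D6674 F6290 (iv F9443)
def n8957 : Q := act 3 n6189
theorem D8957 : act 3 n6189 = n8957 := rfl
theorem F10365 : act 0 n8957 = n7503 := d2_1 D8957 (iv F7674) (iv F7721) F7723 (iv F9443) (iv F9496) F9494
theorem F10366 : act 1 n8957 = n6190 := d5_1 D8957 (iv D6190) D6189
theorem F10367 : act 4 n8957 = n7502 := d9_2 (iv F5510) D8957 F7670 (iv F5522) (iv F10361) F10362 F7726
def n8958 : Q := act 0 n6192
theorem D8958 : act 0 n6192 = n8958 := rfl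
theorem F10368 : act 2 n8958 = n8597 := d1_2 D6192 D8958 F9668 F7349 (iv F9499) (iv D8503) F4657
theorem F10369 : act 4 n8958 = n8357 := d3_2 (iv F8737) D8958 F9245
theorem F10370 : act 3 n8958 = n6616 := d10_4 (iv F4659) F4657 D6192 D8958 F6203 (iv D6421) F2689
theorem F10371 : act 1 n6618 = n8958 := d5_3 F10370 (iv D6616) D6618
def n8959 : Q := act 3 n6192
theorem D8959 : act 3 n6192 = n8959 := rfl
theorem F10372 : act 0 n8959 = n8912 := d2_1 D8959 F10273 F8740 F7720 (iv F6203) (iv F10370) (iv D8958)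
theorem F10373 : act 1 n8959 = n6305 := d5_1 D8959 (iv D6305) (iv F5514)
theorem F10374 : act 2 n8959 = n6193 := d7_1 D8959 (iv D6193) D6192
def n8960 : Q := act 0 n6194
theorem D8960 : act 0 n6194 = n8960 := rfl
theorem F10375 : act 2 n8960 = n6465 := d1_2 (iv F5519) D8960 (iv D6465) F2721 D3685 F4681 F4678
theorem F10376 : act 3 n8960 = n6801 := d2_2 D6194 D8960 F6527 (iv F7680) F7681 (iv D6157) (iv F2499)
theorem F10377 : act 1 n6802 = n8960 := d5_3 F10376 (iv D6801) D6802
theorem F10378 : act 4 n8363 = n8960 := d9_0 F10376 F6529 (iv F9244) (iv F10369) F10370 F6204 D8363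
def n8961 : Q := act 4 n6194
theorem D8961 : act 4 n6194 = n8961 := rfl
theorem F10379 : act 0 n8961 = n8363 := d3_1 D8961 F10378 (iv D8960)
theorem F10380 : act 1 n8961 = n6317 := d6_1 D8961 (iv D6317) (iv F5518)
def n8962 : Q := act 2 n6195
theorem D8962 : act 2 n6195 = n8962 := rfl
theorem F10381 : act 0 n8962 = n6733 := d10_3 F9847 F9524 D8962 (iv D6733) D6732 F6407 (iv F9845)
def n8963 : Q := act 2 n6197
theorem D8963 : act 2 n6197 = n8963 := rfl
theorem F10382 : act 0 n8963 = n6551 := d1_1 D8963 F8024 (iv D7685) (iv F8018) F8016 (iv D6198) D6197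
theorem F10383 : act 3 n8963 = n6504 := d7_2 (iv F5524) D8963 (iv D6504)
def n8964 : Q := act 4 n6197
theorem D8964 : act 4 n6197 = n8964 := rfl
theorem F10384 : act 0 n8964 = n6199 := d3_1 D8964 (iv D6199) D6197
theorem F10385 : act 1 n8964 = n6328 := d6_1 D8964 (iv D6328) (iv F5523)
theorem F10386 : act 3 n8964 = n6518 := d9_1 D8964 (iv D6518) (iv F5507) (iv D6186) F2488 D3747 (iv F5524)
def n8965 : Q := act 1 n6198
theorem D8965 : act 1 n6198 = n8965 := rfl
theorem F10387 : act 3 n8965 = n6548 := d5_2 (iv F5525) D8965 (iv D6548)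
theorem F10388 : act 0 n8965 = n8762 := d16_6 (iv F3099) F3097 F2492 D3450 D6198 D8965 (iv D8762) (iv D5976) F2349 F847 (iv F836) D3220
def n8966 : Q := act 4 n6198
theorem D8966 : act 4 n6198 = n8966 := rfl
def n8967 : Q := act 1 n6200
theorem D8967 : act 1 n6200 = n8967 := rfl
theorem F10389 : act 0 n8967 = n8244 := d13_3 D6092 (iv F5528) D8967 (iv D8244) (iv D5308) (iv D2818) D2817 F1888 (iv F1835) F1836 (iv F2439)
theorem F10390 : act 2 n6639 = n8860 := d15_8 (iv D8244) (iv D5308) D5309 F4309 D6394 (iv F6236) (iv D6644) (iv F6231) (iv D8860) (iv F5528) D8967 F10389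
def n8968 : Q := act 3 n6200
theorem D8968 : act 3 n6200 = n8968 := rfl
theorem F10391 : act 2 n8968 = n6201 := d7_1 D8968 (iv D6201) D6200
theorem F10392 : act 0 n8968 = n8098 := d10_1 D8968 F8776 F4144 (iv D3364) (iv F2439) D6092 (iv F5528)
def n8969 : Q := act 4 n6200
theorem D8969 : act 4 n6200 = n8969 := rfl
theorem F10393 : act 0 n8969 = n8862 := d3_1 D8969 (iv D8862) (iv F5528)
theorem F10394 : act 2 n8969 = n7108 := d8_1 D8969 (iv D7108) (iv F3171) (iv D2424) (iv F936) D3453 D6200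
theorem F10395 : act 3 n8969 = n6204 := d12_2 (iv D8968) D8969 F5534 F8778 (iv D8099) D8098 (iv F10392)
def n8970 : Q := act 4 n6201
theorem D8970 : act 4 n6201 = n8970 := rfl
theorem F10396 : act 0 n8970 = n8850 := d3_1 D8970 (iv D8850) (iv F5530)
theorem F10397 : act 1 n8970 = n6212 := d6_1 D8970 (iv D6212) (iv F5529)
theorem F10398 : act 3 n8970 = n6206 := d9_1 D8970 (iv D6206) (iv D3455) (iv D1636) D1635 D3453 D6201
theorem F10399 : act 2 n8970 = n7550 := d11_2 F10391 D8970 F7768 F8781 (iv D8100) (iv F8776) (iv F10392)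
def n8971 : Q := act 3 n6202
theorem D8971 : act 3 n6202 = n8971 := rfl
theorem F10400 : act 1 n8971 = n6203 := d5_1 D8971 (iv D6203) D6202
theorem F10401 : act 0 n8971 = n8252 := d10_1 D8971 (iv D8252) (iv D5319) (iv D2824) D2822 D5315 (iv F5531)
theorem F10402 : act 2 n6761 = n8874 := d15_8 (iv D8252) (iv D5319) (iv F4321) F4320 D6398 (iv F6455) (iv D6765) (iv F6452) (iv D8874) (iv F5533) (iv F10400) F10401
def n8972 : Q := act 4 n6203
theorem D8972 : act 4 n6203 = n8972 := rfl
theorem F10403 : act 0 n8972 = n8875 := d3_1 D8972 (iv D8875) (iv F5533)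
theorem F10404 : act 2 n8972 = n7254 := d8_1 D8972 (iv D7254) F3288 D4685 F5541 (iv D6206) (iv F5532)
def n8973 : Q := act 4 n6207
theorem D8973 : act 4 n6207 = n8973 := rfl
theorem F10405 : act 0 n8973 = n6350 := d3_1 D8973 (iv D6350) (iv F5544)
theorem F10406 : act 1 n8973 = n7546 := d6_1 D8973 (iv D7546) (iv F5542)
theorem F10407 : act 3 n8973 = n6208 := d9_1 D8973 (iv D6208) (iv D3457) (iv D1638) D1637 D3456 D6207
theorem F10408 : act 2 n8973 = n6212 := d11_2 (iv F5543) D8973 F5556 F5316 (iv D1673) (iv F976) D3523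
def n8974 : Q := act 0 n6209
theorem D8974 : act 0 n6209 = n8974 := rfl
theorem F10409 : act 4 n8974 = n6522 := d3_2 (iv F5554) D8974 F6037
theorem F10410 : act 2 n8974 = n7249 := d13_4 D1711 (iv F2516) D6209 D8974 F7287 F4452 F4207 (iv D2815) F706 F250 (iv F373)
theorem F10411 : act 1 n8974 = n6523 := d15_5 F1009 (iv F948) D3458 D6209 D8974 F6039 F2816 (iv F2813) F2812 (iv D3600) (iv D1714) D1713
def n8975 : Q := act 2 n6209
theorem D8975 : act 2 n6209 = n8975 := rfl
theorem F10412 : act 4 n8975 = n7203 := d8_2 (iv F5554) D8975 F7219 F7014 (iv D3060) F1711 (iv F3944)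
theorem F10413 : act 0 n7251 = n8975 := d3_3 F10412 F7220 D7251
def n8976 : Q := act 3 n6209
theorem D8976 : act 3 n6209 = n8976 := rfl
theorem F10414 : act 1 n8976 = n6210 := d5_1 D8976 (iv D6210) D6209
theorem F10415 : act 4 n8976 = n7910 := d9_2 (iv F5554) D8976 F8418 F6502 (iv D6214) (iv F2518) D4970
def n8977 : Q := act 4 n6210
theorem D8977 : act 4 n6210 = n8977 := rfl
theorem F10416 : act 0 n8977 = n6353 := d3_1 D8977 (iv D6353) (iv F5549)
theorem F10417 : act 1 n8977 = n7910 := d6_1 D8977 (iv F10415) F10414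
theorem F10418 : act 2 n8977 = n6310 := d8_1 D8977 (iv D6310) (iv F5543) D8973 F10408 (iv D6212) (iv F5548)
theorem F10419 : act 3 n8977 = n6215 := d9_1 D8977 (iv D6215) (iv D3461) D3462 (iv F5552) (iv D6211) D6210
def n8978 : Q := act 3 n6213
theorem D8978 : act 3 n6213 = n8978 := rfl
theorem F10420 : act 2 n8978 = n6214 := d7_1 D8978 (iv D6214) D6213
theorem F10421 : act 4 n7238 = n8978 := d8_0 F10420 (iv F6502) (iv D4969) (iv D2603) (iv F1708) D4967 (iv F7277)
theorem F10422 : act 0 n8978 = n7241 := d3_1 F10421 (iv D7241) D7238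
def n8979 : Q := act 0 n6214
theorem D8979 : act 0 n6214 = n8979 := rfl
theorem F10423 : act 4 n8979 = n7225 := d3_2 F6502 D8979 F7250
theorem F10424 : act 2 n8979 = n7244 := d10_2 D6214 D8979 F7283 F5113 (iv F3274) (iv F5242) F5240
theorem F10425 : act 1 n8979 = n6786 := d15_5 (iv F2524) (iv D3463) (iv F2519) (iv F5560) D8979 (iv D6786) F2948 D3947 (iv F5324) (iv D3610) F1015 D1721
def n8980 : Q := act 4 n6217
theorem D8980 : act 4 n6217 = n8980 := rfl
theorem F10426 : act 0 n8980 = n6229 := d3_1 D8980 (iv D6229) (iv F5565)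
theorem F10427 : act 1 n8980 = n6975 := d6_1 D8980 (iv D6975) (iv F5566)
theorem F10428 : act 3 n8980 = n6222 := d12_2 D6217 D8980 (iv D6222) (iv D3468) (iv D1643) D1642 D3465
def n8981 : Q := act 3 n6218
theorem D8981 : act 3 n6218 = n8981 := rfl
theorem F10429 : act 0 n8981 = n6231 := d2_1 D8981 (iv D6231) F2535 D3475 (iv F5571) (iv D6220) (iv F5568)
theorem F10430 : act 1 n8981 = n6976 := d5_1 D8981 (iv D6976) (iv F5569)
def n8982 : Q := act 3 n6219
theorem D8982 : act 3 n6219 = n8982 := rfl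
theorem F10431 : act 1 n8982 = n7904 := d5_1 D8982 F8412 F6161
theorem F10432 : act 2 n8982 = n6220 := d7_1 D8982 (iv D6220) D6219
theorem F10433 : act 0 n8982 = n7162 := d10_1 D8982 (iv F7145) F5578 (iv D5222) (iv F4217) D8171 F8900
theorem F10434 : act 4 n7159 = n8982 := d3_0 F10433 (iv D7162) D7159
def n8983 : Q := act 4 n6220
theorem D8983 : act 4 n6220 = n8983 := rfl
theorem F10435 : act 0 n8983 = n6235 := d3_1 D8983 (iv D6235) (iv F5571)
theorem F10436 : act 1 n8983 = n7583 := d6_1 D8983 (iv D7583) (iv F5570)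
theorem F10437 : act 2 n8983 = n8983 := d8_1 D8983 (iv D8983) (iv F10432) (iv F10434) F7135 F10434 F10432
theorem F10438 : act 3 n8983 = n6223 := d9_1 D8983 (iv D6223) (iv D3468) (iv D1643) D1642 D3466 D6220
def n8984 : Q := act 4 n6221
theorem D8984 : act 4 n6221 = n8984 := rfl
theorem F10439 : act 1 n8984 = n7903 := d6_1 D8984 F8411 (iv F5572)
theorem F10440 : act 2 n8984 = n8984 := d8_1 D8984 (iv D8984) F5573 D6223 F7851 (iv D6223) (iv F5573)
theorem F10441 : act 3 n8984 = n7159 := d9_1 D8984 F10434 (iv D8982) (iv F6160) (iv D4368) (iv F2530) D6221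
theorem F10442 : act 0 n7048 = n8984 := d16_12 F10441 (iv D7159) D7161 F7138 F3212 (iv F3207) (iv F6951) (iv D7085) F3147 (iv D4161) D4162 D7048
theorem F10443 : act 4 n8179 = n7048 := d3_0 F10442 (iv D8984) (iv F8915)
theorem F10444 : act 1 n7050 = n8179 := d6_3 F10443 (iv D7048) D7050
def n8985 : Q := act 1 n6222
theorem D8985 : act 1 n6222 = n8985 := rfl
theorem F10445 : act 0 n8985 = n6915 := d0_1 D8985 (iv F9276) F9275 (iv D7588) (iv D4714) (iv F2532) D6222
theorem F10446 : act 3 n8985 = n6975 := d5_2 F10428 D8985 (iv F10427)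
theorem F10447 : act 2 n8985 = n6968 := d15_6 (iv F7856) (iv D7586) F3713 (iv F2532) D6222 D8985 (iv D6968) F3090 F1879 (iv D2808) (iv F1574) D4738
theorem F10448 : act 4 n6996 = n8985 := d11_1 D6996 F10447 (iv D6968) F3090 D4109 F5293 (iv F3108)
def n8986 : Q := act 4 n6222
theorem D8986 : act 4 n6222 = n8986 := rfl
theorem F10449 : act 0 n8986 = n6223 := d3_1 D8986 (iv D6223) D6222
theorem F10450 : act 1 n8986 = n6996 := d6_1 D8986 F10448 (iv D8985)
theorem F10451 : act 2 n8986 = n8180 := d11_2 F8911 D8986 F8916 F5296 (iv D5225) (iv F4222) D8176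
def n8987 : Q := act 4 n6224
theorem D8987 : act 4 n6224 = n8987 := rfl
theorem F10452 : act 0 n8987 = n8170 := d3_1 D8987 (iv D8170) (iv F5575)
theorem F10453 : act 3 n8987 = n6227 := d12_2 D6224 D8987 (iv D6227) (iv D3471) (iv D1645) D1644 D3469
def n8988 : Q := act 3 n6225
theorem D8988 : act 3 n6225 = n8988 := rfl
theorem F10454 : act 0 n8988 = n8172 := d2_1 D8988 (iv D8172) F4217 D5222 (iv F5578) (iv D6226) (iv F5577)
def n8989 : Q := act 4 n6226
theorem D8989 : act 4 n6226 = n8989 := rfl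
theorem F10455 : act 0 n8989 = n8175 := d3_1 D8989 (iv D8175) (iv F5578)
theorem F10456 : act 2 n8989 = n6235 := d8_1 D8989 (iv D6235) (iv F5584) (iv F7142) (iv D7160) D7162 (iv F7145)
theorem F10457 : act 3 n8989 = n6228 := d9_1 D8989 (iv D6228) (iv D3471) (iv D1645) D1644 D3470 D6226
def n8990 : Q := act 1 n6227
theorem D8990 : act 1 n6227 = n8990 := rfl
def n8991 : Q := act 4 n6227
theorem D8991 : act 4 n6227 = n8991 := rfl
theorem F10458 : act 0 n8991 = n6228 := d3_1 D8991 (iv D6228) D6227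
theorem F10459 : act 2 n8991 = n8991 := d11_2 F5591 D8991 F10458 F5636 (iv D3479) (iv F2538) D6238
def n8992 : Q := act 2 n6229
theorem D8992 : act 2 n6229 = n8992 := rfl
theorem F10460 : act 3 n8992 = n6241 := d7_2 (iv F5579) D8992 (iv D6241)
theorem F10461 : act 4 n8992 = n7258 := d17_3 D8539 F9576 D8992 F7303 (iv F9603) (iv F10214) (iv D8879) (iv D6109) (iv D3373) (iv F2443) (iv F5428) F5427
def n8993 : Q := act 3 n6230
theorem D8993 : act 3 n6230 = n8993 := rfl
theorem F10462 : act 2 n8993 = n6231 := d7_1 D8993 (iv D6231) D6230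
def n8994 : Q := act 4 n6231
theorem D8994 : act 4 n6231 = n8994 := rfl
theorem F10463 : act 3 n8994 = n6242 := d9_1 D8994 (iv D6242) (iv F5579) (iv D6229) (iv D3472) D3473 D6231
theorem F10464 : act 2 n8994 = n8994 := d7_3 F10463 F5635 (iv F10463)
def n8995 : Q := act 1 n6232
theorem D8995 : act 1 n6232 = n8995 := rfl
theorem F10465 : act 4 n8995 = n7836 := d6_2 F7302 D8995 F8281
def n8996 : Q := act 3 n6232
theorem D8996 : act 3 n6232 = n8996 := rfl
theorem F10466 : act 2 n8996 = n8988 := d7_1 D8996 (iv D8988) (iv F5582)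
def n8997 : Q := act 0 n6233
theorem D8997 : act 0 n6233 = n8997 := rfl
theorem F10467 : act 4 n8997 = n7520 := d3_2 (iv F5583) D8997 (iv D7520)
theorem F10468 : act 2 n8997 = n8358 := d13_4 (iv F5582) (iv D6232) D6233 D8997 F9246 (iv D6340) D6339 (iv F7500) F7498 F3504 (iv F5577)
theorem F10469 : act 3 n8997 = n8365 := d16_7 D3459 F2517 (iv D1655) (iv F957) D3474 D6233 D8997 F9262 (iv D6429) (iv D3644) F1027 (iv F948)
theorem F10470 : act 1 n8388 = n8997 := d5_3 F10469 F9263 (iv F9297)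
def n8998 : Q := act 2 n6233
theorem D8998 : act 2 n6233 = n8998 := rfl
theorem F10471 : act 1 n8998 = n6257 := d4_1 D8998 (iv D6257) (iv D3487) (iv D1654) (iv F957) D3474 D6233
theorem F10472 : act 4 n8998 = n7661 := d8_2 (iv F5583) D8998 (iv F8736) (iv F8737) (iv D6192) F2495 (iv F3640)
def n8999 : Q := act 3 n6233
theorem D8999 : act 3 n6233 = n8999 := rfl
theorem F10473 : act 1 n8999 = n6234 := d5_1 D8999 (iv D6234) D6233
theorem F10474 : act 4 n8999 = n7512 := d9_2 (iv F5583) D8999 (iv F9521) (iv F9522) (iv D6237) F2537 D4651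
def n9000 : Q := act 3 n6236
theorem D9000 : act 3 n6236 = n9000 := rfl
theorem F10475 : act 1 n9000 = n6263 := d5_1 D9000 (iv D6263) (iv F5588)
theorem F10476 : act 2 n9000 = n6237 := d7_1 D9000 (iv D6237) D6236
def n9001 : Q := act 0 n6237
theorem D9001 : act 0 n6237 = n9001 := rfl
theorem F10477 : act 3 n9001 = n8460 := d2_2 D6237 D9001 (iv F9880) F9882 F8725 F8723 F4123
theorem F10478 : act 4 n9001 = n8389 := d3_2 (iv F9522) D9001 (iv F9519)
theorem F10479 : act 2 n9001 = n8364 := d10_2 D6237 D9001 F9258 (iv D6345) F2617 D5134 F4123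
theorem F10480 : act 1 n8391 = n9001 := d6_3 F10478 F9298 D8391
def n9002 : Q := act 1 n6238
theorem D9002 : act 1 n6238 = n9002 := rfl
def n9003 : Q := act 3 n6238
theorem D9003 : act 3 n6238 = n9003 := rfl
theorem F10481 : act 2 n9003 = n8987 := d7_1 D9003 F10453 (iv F5591)
def n9004 : Q := act 4 n6238
theorem D9004 : act 4 n6238 = n9004 := rfl
theorem F10482 : act 0 n9004 = n6239 := d3_1 D9004 (iv D6239) D6238
theorem F10483 : act 2 n9004 = n9004 := d8_1 D9004 (iv D9004) F5591 D8991 F10459 (iv D8991) (iv F5591)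
theorem F10484 : act 1 n7856 = n9004 := d14_2 (iv D7855) D7856 F10482 (iv F9520) (iv D8510) F4676 (iv F5520) (iv F5521) (iv D5741) D5740 (iv F8311)
theorem F10485 : act 4 n9002 = n7856 := d6_0 F10484 (iv D9004) D9002
def n9005 : Q := act 2 n6244
theorem D9005 : act 2 n6244 = n9005 := rfl
def n9006 : Q := act 3 n6244
theorem D9006 : act 3 n6244 = n9006 := rfl
def n9007 : Q := act 1 n6245
theorem D9007 : act 1 n6245 = n9007 := rfl
def n9008 : Q := act 3 n6245
theorem D9008 : act 3 n6245 = n9008 := rfl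
theorem F10486 : act 2 n9008 = n6246 := d7_1 D9008 (iv D6246) D6245
def n9009 : Q := act 4 n6245
theorem D9009 : act 4 n6245 = n9009 := rfl
theorem F10487 : act 2 n9009 = n7259 := d8_1 D9009 (iv D7259) F3804 (iv D4824) F1603 D3481 D6245
def n9010 : Q := act 0 n6246
theorem D9010 : act 0 n6246 = n9010 := rfl
theorem F10488 : act 1 n9010 = n7579 := d0_2 (iv F5595) D9010 F7843 F5903 (iv D6431) F2700 (iv F2548)
theorem F10489 : act 3 n9010 = n6591 := d12_4 (iv F1601) D3481 D6246 D9010 (iv D6591) (iv F3541) F3542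
def n9011 : Q := act 0 n6249
theorem D9011 : act 0 n6249 = n9011 := rfl
def n9012 : Q := act 2 n6249
theorem D9012 : act 2 n6249 = n9012 := rfl
def n9013 : Q := act 0 n6253
theorem D9013 : act 0 n6253 = n9013 := rfl
def n9014 : Q := act 2 n6253
theorem D9014 : act 2 n6253 = n9014 := rfl
def n9015 : Q := act 3 n6253
theorem D9015 : act 3 n6253 = n9015 := rfl
theorem F10490 : act 1 n9015 = n6254 := d5_1 D9015 (iv D6254) D6253
def n9016 : Q := act 4 n6253
theorem D9016 : act 4 n6253 = n9016 := rfl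
theorem F10491 : act 1 n9016 = n6255 := d6_1 D9016 (iv D6255) D6253
theorem F10492 : act 2 n7727 = n9016 := d4_0 F10491 F5609 (iv F5663) (iv F5665) F3903 (iv F3832) (iv F8117)
theorem F10493 : act 3 n9016 = n7726 := d7_2 D7727 F10492 (iv D7726)
def n9017 : Q := act 4 n6254
theorem D9017 : act 4 n6254 = n9017 := rfl
theorem F10494 : act 0 n9017 = n6390 := d3_1 D9017 (iv D6390) (iv F5606)
theorem F10495 : act 2 n9017 = n6294 := d8_1 D9017 (iv D6294) F2578 D3515 (iv F5652) (iv D6286) (iv F5607)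
theorem F10496 : act 3 n9017 = n6269 := d12_2 D6254 D9017 F5627 (iv F5615) (iv D6260) (iv D3488) D3486
theorem F10497 : act 1 n9017 = n7767 := d16_3 F5615 (iv F5627) (iv F10496) (iv D7767) F3850 F1637 (iv F1630) F1629 F1992 D5527 (iv F5277) (iv F5613)
theorem F10498 : act 4 n7767 = n9015 := d6_2 D9017 F10497 F10490
def n9018 : Q := act 3 n6255
theorem D9018 : act 3 n6255 = n9018 := rfl
theorem F10499 : act 0 n9018 = n6391 := d2_1 D9018 (iv D6391) F2662 (iv F2793) (iv F963) (iv F2798) (iv F5608)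
theorem F10500 : act 1 n9018 = n7726 := d5_1 D9018 (iv F10493) F10491
theorem F10501 : act 2 n9018 = n6288 := d7_1 D9018 F5657 (iv F5609)
theorem F10502 : act 4 n9018 = n6268 := d9_2 D6255 D9018 (iv D6268) D6269 (iv F10496) (iv D9017) (iv D6254)
def n9019 : Q := act 1 n6256
theorem D9019 : act 1 n6256 = n9019 := rfl
theorem F10503 : act 2 n9019 = n8954 := d17_8 (iv D685) F118 (iv F120) D697 D1654 D3487 D6256 D9019 (iv D8954) (iv D6187) F2489 F929
theorem F10504 : act 4 n7687 = n9019 := d8_0 F10503 (iv D8954) (iv D6187) (iv D3439) (iv F1595) D4813 D7687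
def n9020 : Q := act 2 n6256
theorem D9020 : act 2 n6256 = n9020 := rfl
def n9021 : Q := act 3 n6256
theorem D9021 : act 3 n6256 = n9021 := rfl
def n9022 : Q := act 4 n6256
theorem D9022 : act 4 n6256 = n9022 := rfl
theorem F10505 : act 0 n9022 = n6259 := d3_1 D9022 (iv D6259) D6256
theorem F10506 : act 1 n9022 = n7687 := d6_1 D9022 F10504 (iv D9019)
def n9023 : Q := act 0 n6257
theorem D9023 : act 0 n6257 = n9023 := rfl
def n9024 : Q := act 3 n6257
theorem D9024 : act 3 n6257 = n9024 := rfl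
theorem F10507 : act 2 n9024 = n6258 := d7_1 D9024 (iv D6258) D6257
def n9025 : Q := act 4 n6257
theorem D9025 : act 4 n6257 = n9025 := rfl
theorem F10508 : act 1 n9025 = n7661 := d6_1 D9025 (iv F10472) F10471
theorem F10509 : act 2 n9025 = n8300 := d17_4 (iv D3489) D3487 D6257 D9025 F9149 (iv F9145) F9146 F8152 (iv F8118) F10492 F10491 F5608
theorem F10510 : act 3 n6264 = n9025 := d7_0 F10509 (iv D8300) (iv F5623)
def n9026 : Q := act 0 n6258
theorem D9026 : act 0 n6258 = n9026 := rfl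
theorem F10511 : act 1 n9026 = n8720 := d0_2 (iv F5610) D9026 F9953 (iv F5861) (iv D6396) F2664 (iv F2551)
theorem F10512 : act 3 n9026 = n8722 := d12_4 F5612 (iv D6259) D6258 D9026 (iv D8722) (iv D5942) (iv F2557)
theorem F10513 : act 4 n9026 = n8719 := d17_0 F9952 F5145 D5941 F5152 (iv F5122) F5121 F2497 (iv F5316) (iv D3490) (iv F2550) (iv F5610) D9026
def n9027 : Q := act 4 n6258
theorem D9027 : act 4 n6258 = n9027 := rfl
theorem F10514 : act 0 n9027 = n8719 := d3_1 D9027 (iv F10513) (iv D9026)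
theorem F10515 : act 1 n9027 = n6260 := d6_1 D9027 (iv D6260) (iv F5610)
theorem F10516 : act 3 n9027 = n6266 := d9_1 D9027 (iv D6266) (iv D3493) D3494 F5612 (iv D6259) D6258
def n9028 : Q := act 0 n6261
theorem D9028 : act 0 n6261 = n9028 := rfl
theorem F10517 : act 4 n9028 = n8718 := d3_2 F5617 D9028 (iv D8718)
def n9029 : Q := act 3 n6262
theorem D9029 : act 3 n6262 = n9029 := rfl
theorem F10518 : act 1 n9029 = n8640 := d5_1 D9029 (iv D8640) F5619
def n9030 : Q := act 0 n6263
theorem D9030 : act 0 n6263 = n9030 := rfl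
def n9031 : Q := act 4 n6263
theorem D9031 : act 4 n6263 = n9031 := rfl
def n9032 : Q := act 1 n6265
theorem D9032 : act 1 n6265 = n9032 := rfl
theorem F10519 : act 2 n9032 = n8966 := d17_8 D1634 F934 F5317 (iv D1660) (iv F962) (iv F2556) D6265 D9032 (iv D8966) (iv D6198) (iv D3450) (iv D1633)
theorem F10520 : act 4 n7700 = n9032 := d8_0 F10519 (iv D8966) (iv D6198) D6199 F8065 (iv D7701) D7700
def n9033 : Q := act 2 n6265
theorem D9033 : act 2 n6265 = n9033 := rfl
def n9034 : Q := act 3 n6265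
theorem D9034 : act 3 n6265 = n9034 := rfl
def n9035 : Q := act 4 n6265
theorem D9035 : act 4 n6265 = n9035 := rfl
theorem F10521 : act 0 n9035 = n6266 := d3_1 D9035 (iv D6266) D6265
theorem F10522 : act 1 n9035 = n7700 := d6_1 D9035 F10520 (iv D9032)
def n9036 : Q := act 2 n6266
theorem D9036 : act 2 n6266 = n9036 := rfl
def n9037 : Q := act 0 n6267
theorem D9037 : act 0 n6267 = n9037 := rfl
def n9038 : Q := act 2 n6267
theorem D9038 : act 2 n6267 = n9038 := rfl
def n9039 : Q := act 3 n6267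
theorem D9039 : act 3 n6267 = n9039 := rfl
theorem F10523 : act 1 n9039 = n6268 := d5_1 D9039 (iv D6268) D6267
theorem F10524 : act 4 n7726 = n9039 := d6_0 F10523 (iv F10502) F10500
def n9040 : Q := act 4 n6267
theorem D9040 : act 4 n6267 = n9040 := rfl
theorem F10525 : act 1 n9040 = n6269 := d6_1 D9040 (iv D6269) D6267
theorem F10526 : act 3 n9040 = n7767 := d9_1 D9040 F10498 (iv D9015) D9016 F10493 F10524 (iv D9039)
theorem F10527 : act 2 n7725 = n9040 := d7_3 F10526 (iv D7767) F8116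
def n9041 : Q := act 2 n6270
theorem D9041 : act 2 n6270 = n9041 := rfl
theorem F10528 : act 3 n9041 = n6575 := d7_2 (iv F5629) D9041 (iv D6575)
def n9042 : Q := act 4 n6270
theorem D9042 : act 4 n6270 = n9042 := rfl
theorem F10529 : act 0 n9042 = n6272 := d3_1 D9042 (iv D6272) D6270
theorem F10530 : act 3 n6808 = n9042 := d10_0 F10529 (iv F8078) F8075 F4525 D5577 D8470 F9418
theorem F10531 : act 2 n6581 = n9042 := d11_2 F6143 D6581 F10529 (iv F8078) (iv D7707) (iv F8070) F8071
theorem F10532 : act 4 n9006 = n6808 := d12_1 D9006 F10530 F10529 (iv F8199) (iv F8200) (iv D6246) (iv F5594)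
def n9043 : Q := act 1 n6271
theorem D9043 : act 1 n6271 = n9043 := rfl
def n9044 : Q := act 4 n6271
theorem D9044 : act 4 n6271 = n9044 := rfl
theorem F10533 : act 2 n9044 = n7268 := d8_1 D9044 F8072 F8070 D7707 F8078 (iv D6272) D6271
def n9045 : Q := act 0 n6273
theorem D9045 : act 0 n6273 = n9045 := rfl
def n9046 : Q := act 2 n6273
theorem D9046 : act 2 n6273 = n9046 := rfl
def n9047 : Q := act 3 n6277
theorem D9047 : act 3 n6277 = n9047 := rfl
theorem F10534 : act 2 n9047 = n6278 := d7_1 D9047 (iv D6278) D6277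
theorem F10535 : act 0 n9047 = n8729 := d10_1 D9047 F9966 F5164 (iv D3505) (iv F2564) D6277 F5639
def n9048 : Q := act 4 n6277
theorem D9048 : act 4 n6277 = n9048 := rfl
theorem F10536 : act 0 n9048 = n9048 := d3_1 D9048 (iv D9048) F5639
theorem F10537 : act 2 n9048 = n7269 := d8_1 D9048 (iv D7269) (iv F5638) (iv D6276) (iv D3502) D3503 D6277
def n9049 : Q := act 0 n6279
theorem D9049 : act 0 n6279 = n9049 := rfl
theorem F10538 : act 2 n9049 = n6944 := d1_2 (iv F5641) D9049 F6770 (iv F10534) F10535 F9966 F5164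
theorem F10539 : act 4 n9049 = n7956 := d3_2 F5642 D9049 F8490
theorem F10540 : act 3 n9049 = n7790 := d10_4 D5949 F5164 (iv F5641) D9049 F8206 (iv D7790) F3861
def n9050 : Q := act 4 n6281
theorem D9050 : act 4 n6281 = n9050 := rfl
theorem F10541 : act 1 n9050 = n8530 := d6_1 D9050 (iv D8530) (iv F6600)
theorem F10542 : act 2 n9050 = n7827 := d11_2 D6281 D9050 (iv D7827) (iv D4910) (iv D2566) (iv F966) D3506
theorem F10543 : act 3 n9050 = n8788 := d12_2 (iv F6599) D9050 (iv D8788) F9977 (iv D8733) (iv D5952) D5950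
def n9051 : Q := act 4 n6282
theorem D9051 : act 4 n6282 = n9051 := rfl
theorem F10544 : act 1 n9051 = n8531 := d6_1 D9051 (iv D8531) (iv F5646)
theorem F10545 : act 3 n9051 = n6357 := d12_2 D6282 D9051 (iv D6357) F2638 (iv D2564) F967 D3506
def n9052 : Q := act 2 n6283
theorem D9052 : act 2 n6283 = n9052 := rfl
def n9053 : Q := act 3 n6283
theorem D9053 : act 3 n6283 = n9053 := rfl
theorem F10546 : act 1 n9053 = n8533 := d5_1 D9053 (iv D8533) (iv F5648)
def n9054 : Q := act 0 n6284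
theorem D9054 : act 0 n6284 = n9054 := rfl
theorem F10547 : act 2 n9054 = n7823 := d11_4 (iv F966) D3507 D6284 D9054 (iv D7823) (iv D4907) (iv D2565)
def n9055 : Q := act 1 n6284
theorem D9055 : act 1 n6284 = n9055 := rfl
theorem F10548 : act 0 n9055 = n8245 := d14_3 (iv F2568) D6284 D9055 (iv F9226) F9227 (iv F9247) F9246 (iv D6340) (iv D3558) F995 (iv F971)
def n9056 : Q := act 3 n6284
theorem D9056 : act 3 n6284 = n9056 := rfl
theorem F10549 : act 2 n9056 = n6285 := d7_1 D9056 (iv D6285) D6284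
theorem F10550 : act 4 n8151 = n9056 := d8_0 F10549 F5654 (iv D5032) F2197 D2752 D5199 D8151
def n9057 : Q := act 4 n6284
theorem D9057 : act 4 n6284 = n9057 := rfl
theorem F10551 : act 2 n9057 = n7272 := d8_1 D9057 F7322 (iv D4910) (iv D2566) (iv F966) D3507 D6284
theorem F10552 : act 3 n7820 = n9057 := d7_0 F10551 F7321 (iv F8261)
def n9058 : Q := act 0 n6287
theorem D9058 : act 0 n6287 = n9058 := rfl
theorem F10553 : act 4 n9058 = n7666 := d3_2 F5659 D9058 F7980
theorem F10554 : act 3 n9058 = n7656 := d12_4 (iv F5713) (iv D6332) (iv F5655) D9058 (iv D7656) D7655 (iv F8505)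
theorem F10555 : act 1 n7658 = n9058 := d5_3 F10554 F7970 D7658
def n9059 : Q := act 2 n6290
theorem D9059 : act 2 n6290 = n9059 := rfl
def n9060 : Q := act 3 n6290
theorem D9060 : act 3 n6290 = n9060 := rfl
def n9061 : Q := act 0 n6291
theorem D9061 : act 0 n6291 = n9061 := rfl
def n9062 : Q := act 3 n6291
theorem D9062 : act 3 n6291 = n9062 := rfl
theorem F10556 : act 2 n9062 = n6292 := d7_1 D9062 (iv D6292) D6291
theorem F10557 : act 4 n7968 = n9062 := d8_0 F10556 (iv F5669) (iv D5030) (iv D2644) D2643 D5029 D7968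
def n9063 : Q := act 4 n6291
theorem D9063 : act 4 n6291 = n9063 := rfl
theorem F10558 : act 2 n9063 = n7271 := d8_1 D9063 (iv D7271) F3313 D4918 F5665 (iv D6293) D6291
theorem F10559 : act 3 n7854 = n9063 := d7_0 F10558 (iv F7320) D7854
def n9064 : Q := act 0 n6292
theorem D9064 : act 0 n6292 = n9064 := rfl
theorem F10560 : act 4 n9064 = n7655 := d3_2 F5669 D9064 (iv F8505)
theorem F10561 : act 3 n9064 = n7667 := d12_4 F5664 (iv D6293) D6292 D9064 (iv D7667) D7666 F7980
theorem F10562 : act 1 n7657 = n9064 := d5_3 F10561 F7981 (iv F7971)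
def n9065 : Q := act 1 n6295
theorem D9065 : act 1 n6295 = n9065 := rfl
theorem F10563 : act 0 n9065 = n6301 := d0_1 D9065 (iv D6301) (iv D3519) (iv D1670) D1669 D3516 D6295
theorem F10564 : act 3 n9065 = n6609 := d5_2 (iv F6198) D9065 (iv D6609)
theorem F10565 : act 4 n8542 = n9065 := d3_0 F10563 F5680 D8542
def n9066 : Q := act 4 n6295
theorem D9066 : act 4 n6295 = n9066 := rfl
theorem F10566 : act 0 n9066 = n6298 := d3_1 D9066 (iv D6298) D6295
theorem F10567 : act 1 n9066 = n8542 := d6_1 D9066 F10565 (iv D9065)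
theorem F10568 : act 3 n6798 = n9066 := d10_0 F10566 (iv F5672) (iv D5497) F1978 D2971 D5571 (iv F9414)
def n9067 : Q := act 0 n6296
theorem D9067 : act 0 n6296 = n9067 := rfl
theorem F10569 : act 2 n9067 = n6618 := d11_4 F5672 (iv D6298) D6296 D9067 (iv F6498) (iv D5498) D5497
theorem F10570 : act 1 n6677 = n9067 := d4_7 F10569 F10371 F10368 F9666 (iv F6292) F6291 (iv F6301)
theorem F10571 : act 3 n6617 = n9067 := d7_0 F10569 (iv D6618) D6617
def n9068 : Q := act 1 n6296
theorem D9068 : act 1 n6296 = n9068 := rfl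
theorem F10572 : act 2 n9068 = n6661 := d4_2 D6296 D9068 (iv F8010) (iv D7681) F3779 F2544 D3516
theorem F10573 : act 0 n9068 = n6677 := d14_3 D3516 D6296 D9068 F10570 F10569 F10371 (iv D8958) F5514 (iv D3520) (iv D1670) D1669
def n9069 : Q := act 3 n6296
theorem D9069 : act 3 n6296 = n9069 := rfl
theorem F10574 : act 2 n9069 = n6297 := d7_1 D9069 (iv D6297) D6296
def n9070 : Q := act 4 n6296
theorem D9070 : act 4 n6296 = n9070 := rfl
theorem F10575 : act 2 n9070 = n7273 := d8_1 D9070 F8086 (iv D7708) (iv F4527) F5672 (iv D6298) D6296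
def n9071 : Q := act 0 n6297
theorem D9071 : act 0 n6297 = n9071 := rfl
def n9072 : Q := act 2 n6301
theorem D9072 : act 2 n6301 = n9072 := rfl
theorem F10576 : act 4 n9072 = n8534 := d8_2 (iv F5680) D9072 F9569 (iv D5670) (iv D3046) D3048 D5672
theorem F10577 : act 0 n9072 = n6660 := d10_3 (iv F10564) F10563 D9072 (iv D6660) D6659 F6264 (iv F6190)
theorem F10578 : act 1 n9072 = n8750 := d14_2 D6301 D9072 (iv F10360) (iv D8953) (iv D6187) F2489 F929 F337 D704 D1670 D3519
theorem F10579 : act 3 n8749 = n9072 := d5_0 F10578 (iv D8750) D8749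
def n9073 : Q := act 3 n6301
theorem D9073 : act 3 n6301 = n9073 := rfl
theorem F10580 : act 0 n9073 = n8893 := d2_1 D9073 (iv D8893) (iv F5910) F5915 (iv F6190) (iv F10564) F10563
theorem F10581 : act 1 n9073 = n6302 := d5_1 D9073 (iv D6302) D6301
theorem F10582 : act 2 n9073 = n8749 := d7_1 D9073 F10579 (iv D9072)
theorem F10583 : act 4 n9073 = n8541 := d12_1 D9073 F9579 (iv F9553) (iv D8525) F6191 (iv F10564) F10563
def n9074 : Q := act 0 n6302
theorem D9074 : act 0 n6302 = n9074 := rfl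
theorem F10584 : act 3 n9074 = n6994 := d2_2 D6302 D9074 F7886 F7884 (iv D6307) (iv D3521) D3519
theorem F10585 : act 1 n9074 = n6977 := d14_4 D8749 (iv F10582) F10581 D9074 (iv D6977) F3101 F2313 F834 D1521 D3244 D5965
def n9075 : Q := act 4 n6302
theorem D9075 : act 4 n6302 = n9075 := rfl
theorem F10586 : act 1 n9075 = n8541 := d6_1 D9075 (iv F10583) F10581
theorem F10587 : act 3 n9075 = n6321 := d12_2 D6302 D9075 F5704 (iv F5685) (iv D6308) (iv D3521) D3519
def n9076 : Q := act 2 n6303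
theorem D9076 : act 2 n6303 = n9076 := rfl
theorem F10588 : act 1 n9076 = n8559 := d4_1 D9076 (iv D8559) (iv F9575) (iv D8538) F4716 D5672 (iv F5679)
theorem F10589 : act 0 n9076 = n7277 := d10_3 (iv F2799) (iv F5678) D9076 (iv F7327) (iv F3721) (iv D4725) F1559
theorem F10590 : act 4 n9076 = n7275 := d11_1 D9076 F7324 (iv D7275) D7276 F8083 F4265 (iv F5678)
def n9077 : Q := act 3 n6303
theorem D9077 : act 3 n6303 = n9077 := rfl
theorem F10591 : act 1 n9077 = n8543 := d5_1 D9077 (iv D8543) (iv F5679)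
theorem F10592 : act 4 n9077 = n6320 := d9_2 D6303 D9077 (iv D6320) D6321 (iv F10587) (iv D9075) (iv D6302)
def n9078 : Q := act 1 n6304
theorem D9078 : act 1 n6304 = n9078 := rfl
theorem F10593 : act 2 n9078 = n9061 := d15_6 (iv D8503) F4657 D6192 F5514 D6304 D9078 (iv D9061) (iv D6291) (iv D3512) D3511 D6289 (iv F9499)
def n9079 : Q := act 3 n6304
theorem D9079 : act 3 n6304 = n9079 := rfl
theorem F10594 : act 2 n9079 = n9079 := d7_1 D9079 (iv D9079) F5681
def n9080 : Q := act 4 n6304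
theorem D9080 : act 4 n6304 = n9080 := rfl
theorem F10595 : act 0 n9080 = n6306 := d3_1 D9080 (iv D6306) D6304
theorem F10596 : act 2 n9080 = n8210 := d11_2 F5681 D9080 (iv D8210) F4265 (iv D3522) D3520 D6304
def n9081 : Q := act 0 n6305
theorem D9081 : act 0 n6305 = n9081 := rfl
theorem F10597 : act 1 n9081 = n8622 := d0_2 F10373 D9081 F9741 F5373 D6136 D8912 (iv F10372)
theorem F10598 : act 2 n9081 = n9081 := d1_2 (iv F5682) D9081 (iv D9081) F5682 D6307 F5683 (iv D6307)
theorem F10599 : act 4 n9081 = n8204 := d11_5 F8960 (iv D6308) (iv F5682) D9081 F10598 F8959 D8205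
theorem F10600 : act 3 n9081 = n8212 := d12_4 (iv F8082) (iv D6306) D6305 D9081 (iv D8212) (iv D5264) (iv F2597)
def n9082 : Q := act 4 n6305
theorem D9082 : act 4 n6305 = n9082 := rfl
theorem F10601 : act 0 n9082 = n8204 := d3_1 D9082 (iv F10599) (iv D9081)
theorem F10602 : act 3 n9082 = n6317 := d9_1 D9082 (iv D6317) (iv D3533) D3534 (iv F8082) (iv D6306) D6305
def n9083 : Q := act 2 n6309
theorem D9083 : act 2 n6309 = n9083 := rfl
theorem F10603 : act 0 n9083 = n8913 := d1_1 D9083 (iv D8913) (iv D6136) F2453 D3394 D6140 (iv F5687)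
theorem F10604 : act 3 n9083 = n6436 := d7_2 (iv F5686) D9083 (iv D6436)
def n9084 : Q := act 4 n6311
theorem D9084 : act 4 n6311 = n9084 := rfl
theorem F10605 : act 0 n9084 = n8941 := d3_1 D9084 (iv D8941) (iv F5691)
theorem F10606 : act 2 n9084 = n7310 := d8_1 D9084 F7398 F3683 D4694 F6499 (iv D6313) (iv F5690)
def n9085 : Q := act 3 n6312
theorem D9085 : act 3 n6312 = n9085 := rfl
theorem F10607 : act 2 n9085 = n7129 := d7_1 D9085 F7054 (iv F5693)
theorem F10608 : act 0 n9085 = n8909 := d10_1 D9085 F10266 (iv D6144) F2456 D3420 (iv F5484) (iv F5692)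
theorem F10609 : act 4 n9085 = n6436 := d12_1 D9085 (iv F10604) F10603 F10277 F10331 (iv D8936) (iv F5692)
def n9086 : Q := act 2 n6314
theorem D9086 : act 2 n6314 = n9086 := rfl
theorem F10610 : act 0 n9086 = n6315 := d10_3 D3531 D6314 D9086 (iv D6315) (iv D3532) (iv D1678) D1677
theorem F10611 : act 4 n8203 = n9086 := d3_0 F10610 F5975 D8203
def n9087 : Q := act 3 n6314
theorem D9087 : act 3 n6314 = n9087 := rfl
theorem F10612 : act 0 n9087 = n6320 := d2_1 D9087 (iv D6320) (iv D3535) (iv D1679) D1677 D3531 D6314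
theorem F10613 : act 1 n9087 = n6979 := d5_1 D9087 (iv D6979) (iv F5696)
def n9088 : Q := act 1 n6316
theorem D9088 : act 1 n6316 = n9088 := rfl
def n9089 : Q := act 3 n6316
theorem D9089 : act 3 n6316 = n9089 := rfl
theorem F10614 : act 2 n9089 = n9089 := d7_1 D9089 (iv D9089) F5702
def n9090 : Q := act 4 n6316
theorem D9090 : act 4 n6316 = n9090 := rfl
theorem F10615 : act 0 n9090 = n6317 := d3_1 D9090 (iv D6317) D6316
def n9091 : Q := act 0 n6319
theorem D9091 : act 0 n6319 = n9091 := rfl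
theorem F10616 : act 1 n9091 = n6323 := d0_2 D6319 D9091 (iv D6323) (iv D3538) (iv D1681) (iv F983) D3535
theorem F10617 : act 4 n9091 = n8525 := d3_2 F5795 D9091 F9553
theorem F10618 : act 3 n6797 = n9091 := d5_0 F10616 F6524 D6797
def n9092 : Q := act 2 n6319
theorem D9092 : act 2 n6319 = n9092 := rfl
theorem F10619 : act 4 n9092 = n8535 := d8_2 F5795 D9092 F9570 (iv F9599) (iv D8554) (iv D5687) D5686
theorem F10620 : act 0 n9092 = n6744 := d11_3 D5686 F5795 D9092 F6434 (iv D5683) F2134 D3054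
theorem F10621 : act 1 n9092 = n8762 := d14_2 D6319 D9092 (iv F10388) (iv D8965) (iv D6198) (iv D3450) (iv D1633) F338 (iv F364) (iv F983) D3535
theorem F10622 : act 3 n8761 = n9092 := d5_0 F10621 (iv D8762) D8761
def n9093 : Q := act 3 n6319
theorem D9093 : act 3 n6319 = n9093 := rfl
theorem F10623 : act 1 n9093 = n6320 := d5_1 D9093 (iv D6320) D6319
theorem F10624 : act 2 n9093 = n8761 := d7_1 D9093 F10622 (iv D9092)
theorem F10625 : act 4 n9093 = n8543 := d9_2 F5795 D9093 (iv D8543) (iv F5680) D9073 F10583 F9579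
theorem F10626 : act 0 n9093 = n8944 := d16_1 D9093 (iv D8944) (iv D6168) (iv D3416) D3415 (iv F2953) D6794 F6515 F6516 F6525 (iv F10616) (iv D9091)
def n9094 : Q := act 2 n6321
theorem D9094 : act 2 n6321 = n9094 := rfl
theorem F10627 : act 1 n9094 = n8585 := d4_1 D9094 (iv D8585) (iv F9596) (iv D8552) (iv D5685) D5686 (iv F5794)
theorem F10628 : act 4 n9094 = n7281 := d11_1 D9094 F7338 (iv D7281) (iv F7337) (iv F8098) (iv D6322) (iv F5704)
theorem F10629 : act 0 n9094 = n7282 := d11_3 F2598 D6321 D9094 (iv F8099) (iv D6317) F2596 D3535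
def n9095 : Q := act 0 n6322
theorem D9095 : act 0 n6322 = n9095 := rfl
theorem F10630 : act 2 n9095 = n9090 := d1_2 D6322 D9095 F10615 F8099 (iv F10629) (iv D9094) F5704
theorem F10631 : act 1 n9095 = n7833 := d16_9 (iv D5203) F1824 D2760 F1827 (iv F1854) (iv F4254) D8205 F8961 D9095 (iv D7833) D7832 F8275
def n9096 : Q := act 4 n6323
theorem D9096 : act 4 n6323 = n9096 := rfl
theorem F10632 : act 0 n9096 = n6326 := d3_1 D9096 (iv D6326) D6323
theorem F10633 : act 1 n9096 = n8525 := d6_1 D9096 (iv F10617) F10616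
theorem F10634 : act 3 n9096 = n6611 := d9_1 D9096 (iv D6611) (iv F6198) D9066 (iv F10568) (iv D6798) (iv F6524)
def n9097 : Q := act 0 n6324
theorem D9097 : act 0 n6324 = n9097 := rfl
theorem F10635 : act 2 n9097 = n6802 := d11_4 (iv F6501) (iv D6326) D6324 D9097 F6530 F4538 D5507
theorem F10636 : act 1 n6736 = n9097 := d4_7 F10635 F10377 F10375 (iv F6294) (iv F6409) F6408 (iv F6413)
theorem F10637 : act 3 n6735 = n9097 := d7_0 F10635 (iv D6802) (iv F6412)
def n9098 : Q := act 1 n6324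
theorem D9098 : act 1 n6324 = n9098 := rfl
theorem F10638 : act 2 n9098 = n6702 := d4_2 D6324 D9098 (iv F8017) F8018 F3789 (iv D3539) D3538
theorem F10639 : act 0 n9098 = n6736 := d14_3 D3538 D6324 D9098 F10636 F10635 F10377 (iv D8960) F5518 F2596 F983 D1681
theorem F10640 : act 3 n6701 = n9098 := d16_2 D3893 (iv F6361) (iv D9098) (iv D6324) (iv D3538) (iv D1681) (iv D708) D706 D1674 D3527 (iv F2898) F2897
def n9099 : Q := act 3 n6324
theorem D9099 : act 3 n6324 = n9099 := rfl
theorem F10641 : act 1 n9099 = n6701 := d5_1 D9099 F10640 (iv D9098)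
theorem F10642 : act 2 n9099 = n6325 := d7_1 D9099 (iv D6325) D6324
def n9100 : Q := act 4 n6324
theorem D9100 : act 4 n6324 = n9100 := rfl
theorem F10643 : act 2 n9100 = n7283 := d8_1 D9100 F8101 F8097 F4541 (iv F6501) (iv D6326) D6324
def n9101 : Q := act 0 n6325
theorem D9101 : act 0 n6325 = n9101 := rfl
theorem F10644 : act 2 n9101 = n6602 := d15_8 D6150 F5471 (iv F5482) F5481 (iv F6361) (iv F10641) F10642 D9101 F6175 F3556 F2461 D3404
theorem F10645 : act 3 n6601 = n9101 := d7_0 F10644 (iv D6602) D6601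
def n9102 : Q := act 4 n6327
theorem D9102 : act 4 n6327 = n9102 := rfl
theorem F10646 : act 0 n9102 = n9102 := d3_1 D9102 (iv D9102) F5707
theorem F10647 : act 2 n9102 = n7286 := d11_2 D6327 D9102 (iv D7286) (iv F5710) (iv D6329) (iv D3547) D3546
def n9103 : Q := act 2 n6328
theorem D9103 : act 2 n6328 = n9103 := rfl
theorem F10648 : act 0 n9103 = n9103 := d1_1 D9103 (iv D9103) F5708 (iv F3409) F1669 F3409 (iv F5708)
theorem F10649 : act 4 n9103 = n7801 := d8_2 D6328 D9103 (iv D7801) (iv F7342) (iv F10647) (iv D9102) (iv D6327)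
def n9104 : Q := act 2 n6330
theorem D9104 : act 2 n6330 = n9104 := rfl
def n9105 : Q := act 3 n6330
theorem D9105 : act 3 n6330 = n9105 := rfl
def n9106 : Q := act 0 n6331
theorem D9106 : act 0 n6331 = n9106 := rfl
theorem F10650 : act 2 n9106 = n9088 := d15_2 D6331 D9106 (iv D9088) (iv D6316) (iv F5518) F5519 (iv F4678) (iv F4681) (iv F5793) (iv F9591) F9592 (iv D6330)
def n9107 : Q := act 4 n6331
theorem D9107 : act 4 n6331 = n9107 := rfl
theorem F10651 : act 2 n9107 = n7292 := d8_1 D9107 F7358 F3909 D4929 F5714 (iv D6332) D6331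
theorem F10652 : act 3 n9107 = n7968 := d9_1 D9107 F10557 (iv D9062) D9063 (iv F10559) F8309 (iv F6373)
def n9108 : Q := act 0 n6333
theorem D9108 : act 0 n6333 = n9108 := rfl
theorem F10653 : act 1 n9108 = n8537 := d0_2 D6333 D9108 F9571 (iv F5780) F5779 F2625 (iv F5314)
theorem F10654 : act 4 n9108 = n6357 := d3_2 (iv F5717) D9108 (iv D6357)
def n9109 : Q := act 4 n6335
theorem D9109 : act 4 n6335 = n9109 := rfl
theorem F10655 : act 0 n9109 = n8033 := d3_1 D9109 (iv D8033) (iv F5763)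
theorem F10656 : act 1 n9109 = n9109 := d6_1 D9109 (iv D9109) F5762
theorem F10657 : act 3 n9109 = n6336 := d9_1 D9109 (iv D6336) (iv D3556) (iv D1689) D1688 D3555 D6335
theorem F10658 : act 2 n9109 = n6343 := d11_2 F7151 D9109 (iv F7530) (iv F7533) (iv D4566) (iv F3524) (iv F7150)
def n9110 : Q := act 1 n6337
theorem D9110 : act 1 n6337 = n9110 := rfl
def n9111 : Q := act 3 n6337
theorem D9111 : act 3 n6337 = n9111 := rfl
theorem F10659 : act 2 n9111 = n6338 := d7_1 D9111 (iv D6338) D6337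
theorem F10660 : act 4 n8448 = n9111 := d8_0 F10659 (iv F5786) (iv D5900) F4630 (iv F9467) (iv F9468) (iv F9373)
theorem F10661 : act 1 n8449 = n9111 := d17_1 D8449 F10659 (iv F5786) (iv D5900) (iv D3202) D3201 D5898 D8688 F10021 F10020 (iv F9372) (iv D8447)
theorem F10662 : act 3 n9110 = n8449 := d5_0 F10661 (iv D9111) D9110
def n9112 : Q := act 4 n6337
theorem D9112 : act 4 n6337 = n9112 := rfl
theorem F10663 : act 2 n9112 = n8298 := d8_1 D9112 F9142 (iv D5610) (iv D3006) (iv F992) D3557 D6337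
theorem F10664 : act 1 n8418 = n9112 := d4_7 F10663 F9144 (iv D5695) F2137 (iv F1988) (iv F4550) (iv F9340)
theorem F10665 : act 3 n8417 = n9112 := d7_0 F10663 F9143 (iv F9338)
theorem F10666 : act 4 n9110 = n8418 := d6_0 F10664 (iv D9112) D9110
def n9113 : Q := act 3 n6340
theorem D9113 : act 3 n6340 = n9113 := rfl
theorem F10667 : act 0 n9113 = n8071 := d2_1 D9113 F8722 (iv F8745) F8747 F5822 (iv F9248) F9246
theorem F10668 : act 1 n9113 = n6341 := d5_1 D9113 (iv D6341) D6340
theorem F10669 : act 2 n9113 = n7152 := d7_1 D9113 F7108 (iv F5766)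
theorem F10670 : act 4 n9113 = n8070 := d9_2 F5767 D9113 F8719 (iv F7042) (iv D6345) (iv F2618) D5129
def n9114 : Q := act 0 n6341
theorem D9114 : act 0 n6341 = n9114 := rfl
theorem F10671 : act 2 n9114 = n8026 := d10_2 D6341 D9114 F8624 (iv D7387) (iv F7498) F7500 (iv D6339)
theorem F10672 : act 3 n9114 = n8025 := d10_4 D4553 F3515 (iv F5768) D9114 F8619 (iv D7399) F3512
theorem F10673 : act 4 n9114 = n8628 := d17_0 (iv D8628) (iv D5789) (iv D3113) D3112 D5787 (iv F7096) F7094 (iv D7150) D7152 (iv F10669) F10668 D9114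
theorem F10674 : act 1 n8629 = n9114 := d6_3 F10673 (iv D8628) D8629
def n9115 : Q := act 4 n6341
theorem D9115 : act 4 n6341 = n9115 := rfl
theorem F10675 : act 0 n9115 = n8628 := d3_1 D9115 (iv F10673) (iv D9114)
theorem F10676 : act 1 n9115 = n8070 := d6_1 D9115 (iv F10670) F10668
theorem F10677 : act 2 n9115 = n8287 := d8_1 D9115 F9116 F7151 D9109 F10658 (iv D6343) (iv F5768)
theorem F10678 : act 3 n9115 = n6347 := d9_1 D9115 (iv D6347) (iv D3562) D3563 F5771 (iv D6342) D6341
def n9116 : Q := act 1 n6348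
theorem D9116 : act 1 n6348 = n9116 := rfl
theorem F10679 : act 3 n9116 = n8419 := d5_2 (iv F5778) D9116 F9341
theorem F10680 : act 4 n8415 = n9116 := d9_0 F10679 (iv D8419) D8418 (iv F10666) F10662 (iv D8449) (iv F9335)
def n9117 : Q := act 4 n6348
theorem D9117 : act 4 n6348 = n9117 := rfl
theorem F10681 : act 1 n9117 = n8415 := d6_1 D9117 F10680 (iv D9116)
theorem F10682 : act 2 n9117 = n8494 := d8_1 D9117 (iv D8494) F4635 D5616 F5781 (iv D6349) D6348
theorem F10683 : act 3 n9117 = n8448 := d9_1 D9117 F10660 (iv D9111) D9112 (iv F10665) (iv F9339) (iv F5778)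
def n9118 : Q := act 0 n6352
theorem D9118 : act 0 n6352 = n9118 := rfl
theorem F10684 : act 2 n9118 = n7111 := d1_2 (iv F5801) D9118 F7015 (iv F7116) (iv D7155) (iv D4247) (iv F3203)
theorem F10685 : act 3 n9118 = n7256 := d2_2 D6352 D9118 F7298 (iv F7088) (iv F8056) (iv F8058) (iv D6351)
theorem F10686 : act 4 n9118 = n7547 := d3_2 F9118 D9118 (iv F9119)
theorem F10687 : act 1 n9118 = n7548 := d13_2 (iv F5801) D9118 (iv F10045) F10046 F5378 (iv F5376) (iv F9733) (iv D8619) F4895 F2219 (iv F3203)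
def n9119 : Q := act 2 n6357
theorem D9119 : act 2 n6357 = n9119 := rfl
def n9120 : Q := act 0 n6358
theorem D9120 : act 0 n6358 = n9120 := rfl
theorem F10688 : act 2 n9120 = n8990 := d15_2 D6358 D9120 (iv D8990) (iv D6227) (iv F3506) (iv F7503) F7504 (iv D6348) (iv F2624) D5666 (iv F5810) (iv D6357)
def n9121 : Q := act 1 n6358
theorem D9121 : act 1 n6358 = n9121 := rfl
theorem F10689 : act 3 n9121 = n7819 := d5_2 (iv F5811) D9121 (iv D7819)
theorem F10690 : act 0 n9121 = n8253 := d14_3 D3576 D6358 D9121 (iv F9232) F9233 (iv F9259) F9258 F5776 F2619 F996 D1701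
def n9122 : Q := act 4 n6358
theorem D9122 : act 4 n6358 = n9122 := rfl
theorem F10691 : act 2 n9122 = n7287 := d8_1 D9122 (iv F7344) F3900 D4916 (iv F5715) F5717 D6358
theorem F10692 : act 3 n9122 = n8151 := d9_1 D9122 F10550 (iv D9056) D9057 (iv F10552) (iv D7820) (iv F5811)
def n9123 : Q := act 4 n6359
theorem D9123 : act 4 n6359 = n9123 := rfl
theorem F10693 : act 0 n9123 = n6360 := d3_1 D9123 (iv D6360) D6359
theorem F10694 : act 1 n9123 = n6959 := d6_1 D9123 (iv D6959) F5813
theorem F10695 : act 3 n9123 = n6970 := d12_2 (iv F5812) D9123 F7639 (iv D7478) (iv D4617) D4616 (iv F3598)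
def n9124 : Q := act 2 n6360
theorem D9124 : act 2 n6360 = n9124 := rfl
theorem F10696 : act 3 n9124 = n6405 := d7_2 (iv F5814) D9124 (iv D6405)
def n9125 : Q := act 0 n6361
theorem D9125 : act 0 n6361 = n9125 := rfl
theorem F10697 : act 2 n9125 = n8265 := d1_2 D6361 D9125 F9063 (iv F5821) (iv D6368) (iv D3585) (iv F2641)
def n9126 : Q := act 3 n6361
theorem D9126 : act 3 n6361 = n9126 := rfl
theorem F10698 : act 2 n9126 = n6362 := d7_1 D9126 (iv D6362) D6361
def n9127 : Q := act 0 n6362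
theorem D9127 : act 0 n6362 = n9127 := rfl
theorem F10699 : act 3 n9127 = n6956 := d2_2 D6362 D9127 (iv F7635) F7637 (iv D6372) (iv D3586) (iv F2641)
theorem F10700 : act 1 n6961 = n9127 := d5_3 F10699 F6785 D6961
def n9128 : Q := act 4 n6362
theorem D9128 : act 4 n6362 = n9128 := rfl
theorem F10701 : act 3 n9128 = n6406 := d9_1 D9128 (iv D6406) (iv F5814) (iv D6360) (iv D3579) D3580 D6362
theorem F10702 : act 2 n8477 = n9128 := d7_3 F10701 (iv F7444) (iv F9436)
def n9129 : Q := act 4 n6364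
theorem D9129 : act 4 n6364 = n9129 := rfl
theorem F10703 : act 0 n9129 = n6365 := d3_1 D9129 (iv D6365) D6364
theorem F10704 : act 1 n9129 = n8036 := d6_1 D9129 (iv D8036) (iv F5817)
def n9130 : Q := act 0 n6366
theorem D9130 : act 0 n6366 = n9130 := rfl
theorem F10705 : act 1 n9130 = n8048 := d0_2 (iv F5819) D9130 (iv D8048) (iv D5097) (iv D2690) (iv F1767) D5081
def n9131 : Q := act 4 n6366
theorem D9131 : act 4 n6366 = n9131 := rfl
theorem F10706 : act 1 n9131 = n8035 := d6_1 D9131 (iv D8035) (iv F5819)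
theorem F10707 : act 2 n9131 = n6373 := d8_1 D9131 (iv D6373) (iv F5824) F8744 (iv F9158) F9159 F7159
theorem F10708 : act 3 n9131 = n6410 := d9_1 D9131 (iv F7403) F7407 (iv D6365) (iv D3582) D3583 D6366
def n9132 : Q := act 0 n6367
theorem D9132 : act 0 n6367 = n9132 := rfl
def n9133 : Q := act 1 n6368
theorem D9133 : act 1 n6368 = n9133 := rfl
theorem F10709 : act 0 n9133 = n8359 := d0_1 D9133 F9249 F4504 (iv F4508) (iv F5822) (iv D6369) D6368
theorem F10710 : act 4 n6902 = n9133 := d17_0 (iv D9133) F5821 (iv D6090) (iv F2643) F2642 (iv F1771) F1773 (iv F860) D3277 F2375 D5470 (iv F6717)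
def n9134 : Q := act 3 n6368
theorem D9134 : act 3 n6368 = n9134 := rfl
theorem F10711 : act 2 n9134 = n8858 := d7_1 D9134 (iv D8858) (iv F5821)
def n9135 : Q := act 4 n6368
theorem D9135 : act 4 n6368 = n9135 := rfl
theorem F10712 : act 0 n9135 = n6371 := d3_1 D9135 (iv D6371) D6368
theorem F10713 : act 1 n9135 = n6902 := d6_1 D9135 F10710 (iv D9133)
def n9136 : Q := act 0 n6370
theorem D9136 : act 0 n6370 = n9136 := rfl
def n9137 : Q := act 2 n6372
theorem D9137 : act 2 n6372 = n9137 := rfl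
theorem F10714 : act 1 n7757 = n9137 := d17_1 D7757 (iv D9137) (iv F9876) (iv D7545) (iv D4673) (iv F3424) (iv F3490) (iv F7486) (iv D7374) (iv F4031) (iv F8135) F8136
theorem F10715 : act 4 n9137 = n7755 := d6_2 D7757 F10714 (iv D7755)
def n9138 : Q := act 4 n6374
theorem D9138 : act 4 n6374 = n9138 := rfl
theorem F10716 : act 0 n9138 = n6958 := d3_1 D9138 (iv D6958) (iv F5830)
theorem F10717 : act 2 n9138 = n6978 := d11_2 (iv F5829) D9138 (iv D6978) (iv D4115) (iv D2014) D2012 (iv F3064)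
theorem F10718 : act 3 n9138 = n6484 := d12_2 D6374 D9138 (iv D6484) F5838 (iv D6377) (iv D3588) D3587
def n9139 : Q := act 3 n6375
theorem D9139 : act 3 n6375 = n9139 := rfl
theorem F10719 : act 2 n9139 = n6936 := d7_1 D9139 (iv D6936) (iv F5833)
theorem F10720 : act 0 n9139 = n6989 := d10_1 D9139 (iv D6989) (iv D4123) (iv D2018) D2016 (iv F2653) (iv F5832)
theorem F10721 : act 1 n6989 = n6989 := d13_2 (iv F10719) F10720 (iv F10720) F10719 F6762 D6994 F7886 F7885 (iv F7886) (iv D6994) (iv F6762)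
def n9140 : Q := act 4 n6376
theorem D9140 : act 4 n6376 = n9140 := rfl
theorem F10722 : act 0 n9140 = n6377 := d3_1 D9140 (iv D6377) D6376
theorem F10723 : act 1 n9140 = n8708 := d6_1 D9140 (iv D8708) (iv F5834)
theorem F10724 : act 2 n9140 = n6933 := d11_2 (iv F5835) D9140 (iv D6933) (iv D4088) (iv D2001) (iv F1219) D4081
theorem F10725 : act 3 n8768 = n9140 := d5_0 F10723 F9935 D8768
def n9141 : Q := act 0 n6378
theorem D9141 : act 0 n6378 = n9141 := rfl
theorem F10726 : act 1 n9141 = n8709 := d0_2 (iv F5840) D9141 F9936 (iv F6034) (iv F8014) F8012 F5596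
theorem F10727 : act 2 n9141 = n6941 := d1_2 (iv F5841) D9141 (iv D6941) F3077 D4093 D6945 F6772
theorem F10728 : act 3 n9141 = n8707 := d12_4 (iv D3588) D3589 D6378 D9141 (iv D8707) (iv F5836) (iv D6376)
def n9142 : Q := act 4 n6378
theorem D9142 : act 4 n6378 = n9142 := rfl
theorem F10729 : act 1 n9142 = n6379 := d6_1 D9142 (iv D6379) (iv F5840)
theorem F10730 : act 3 n9142 = n6414 := d9_1 D9142 F5876 F5838 (iv D6377) (iv D3588) D3589 D6378
theorem F10731 : act 2 n9142 = n6954 := d17_4 F6823 F6821 (iv F5841) D9142 (iv F7541) F7540 F3522 (iv F6315) (iv D1080) (iv F585) (iv F1587) D4787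
def n9143 : Q := act 0 n6380
theorem D9143 : act 0 n6380 = n9143 := rfl
def n9144 : Q := act 4 n6380
theorem D9144 : act 4 n6380 = n9144 := rfl
theorem F10732 : act 1 n9144 = n6381 := d6_1 D9144 (iv D6381) D6380
theorem F10733 : act 3 n6384 = n9144 := d5_0 F10732 F5846 (iv F5848)
def n9145 : Q := act 1 n6382
theorem D9145 : act 1 n6382 = n9145 := rfl
theorem F10734 : act 0 n9145 = n6523 := d0_1 D9145 (iv F10411) (iv D8974) (iv D6209) F2516 D3593 D6382
theorem F10735 : act 2 n9145 = n6509 := d15_6 (iv D724) (iv F373) D1711 D3593 D6382 D9145 F6026 (iv F6018) F6017 (iv D6386) (iv D3597) (iv D1713)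
theorem F10736 : act 4 n6498 = n9145 := d17_0 (iv D9145) (iv F6860) (iv D7019) D7017 F6857 F6608 (iv F4759) F4758 (iv F4867) F6038 (iv D6522) (iv F6010)
def n9146 : Q := act 3 n6382
theorem D9146 : act 3 n6382 = n9146 := rfl
def n9147 : Q := act 4 n6382
theorem D9147 : act 4 n6382 = n9147 := rfl
theorem F10737 : act 0 n9147 = n6384 := d3_1 D9147 (iv D6384) D6382
theorem F10738 : act 1 n9147 = n6498 := d6_1 D9147 F10736 (iv D9145)
def n9148 : Q := act 0 n6383
theorem D9148 : act 0 n6383 = n9148 := rfl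
def n9149 : Q := act 4 n6383
theorem D9149 : act 4 n6383 = n9149 := rfl
theorem F10739 : act 1 n9149 = n6385 := d6_1 D9149 (iv D6385) (iv F5847)
theorem F10740 : act 3 n9149 = n6413 := d9_1 D9149 (iv D6413) (iv F5844) D9144 (iv F10733) (iv D6384) D6383
def n9150 : Q := act 3 n6386
theorem D9150 : act 3 n6386 = n9150 := rfl
theorem F10741 : act 1 n9150 = n7678 := d5_1 D9150 F8001 F6017
theorem F10742 : act 4 n7676 = n9150 := d6_0 F10741 (iv D7678) D7676
def n9151 : Q := act 0 n6387
theorem D9151 : act 0 n6387 = n9151 := rfl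
def n9152 : Q := act 1 n6387
theorem D9152 : act 1 n6387 = n9152 := rfl
theorem F10743 : act 2 n9152 = n6429 := d4_2 D6387 D9152 (iv D6429) (iv D3644) F1027 (iv F1009) D3597
theorem F10744 : act 0 n9152 = n8410 := d14_3 D3597 D6387 D9152 F9332 D8413 F9334 (iv D8246) F4309 (iv D3601) (iv D1714) D1713
theorem F10745 : act 4 n9151 = n8799 := d17_0 F10073 F9793 F4974 (iv F4661) F4660 (iv D4208) (iv F2109) D5634 (iv F5900) (iv F10743) (iv D9152) D9151
theorem F10746 : act 4 n8408 = n9152 := d3_0 F10744 (iv D8410) D8408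
def n9153 : Q := act 3 n6387
theorem D9153 : act 3 n6387 = n9153 := rfl
theorem F10747 : act 2 n9153 = n6388 := d7_1 D9153 (iv D6388) D6387
def n9154 : Q := act 4 n6387
theorem D9154 : act 4 n6387 = n9154 := rfl
theorem F10748 : act 0 n9154 = n8799 := d3_1 D9154 (iv F10745) (iv D9151)
theorem F10749 : act 1 n9154 = n8408 := d6_1 D9154 F10746 (iv D9152)
theorem F10750 : act 2 n9154 = n8284 := d11_2 D6387 D9154 F9194 (iv D8328) D8330 F9197 (iv D6386)
def n9155 : Q := act 0 n6388
theorem D9155 : act 0 n6388 = n9155 := rfl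
theorem F10751 : act 1 n9155 = n8802 := d17_7 D3638 F2691 (iv F5327) (iv D3646) (iv F2661) (iv F5851) D9155 F10079 (iv D6043) F2410 (iv F2403) F2404
theorem F10752 : act 4 n9155 = n8800 := d17_0 F10075 F5266 D6036 (iv F5361) (iv F5355) F5354 F2691 (iv F5327) (iv D3646) (iv F2661) (iv F5851) D9155
theorem F10753 : act 3 n8810 = n9155 := d5_0 F10751 F10080 (iv F10099)
def n9156 : Q := act 4 n6388
theorem D9156 : act 4 n6388 = n9156 := rfl
theorem F10754 : act 0 n9156 = n8800 := d3_1 D9156 (iv F10752) (iv D9155)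
theorem F10755 : act 1 n9156 = n6390 := d6_1 D9156 (iv D6390) (iv F5851)
theorem F10756 : act 3 n6404 = n9156 := d5_0 F10755 F5854 (iv F5868)
def n9157 : Q := act 2 n6389
theorem D9157 : act 2 n6389 = n9157 := rfl
theorem F10757 : act 0 n9157 = n8054 := d13_1 D9157 (iv D8054) (iv F8591) F8592 F4606 F2763 F1058 D1807 (iv F2757) D6500 F6014
def n9158 : Q := act 3 n6389
theorem D9158 : act 3 n6389 = n9158 := rfl
theorem F10758 : act 1 n9158 = n6391 := d5_1 D9158 (iv D6391) (iv F5852)
theorem F10759 : act 4 n9158 = n6403 := d9_2 D6389 D9158 (iv D6403) D6404 F10756 (iv D9156) (iv D6388)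
theorem F10760 : act 0 n9158 = n8809 := d12_3 (iv D6388) D6389 D9158 (iv D8809) D8810 F10753 (iv D9155)
def n9159 : Q := act 3 n6392
theorem D9159 : act 3 n6392 = n9159 := rfl
theorem F10761 : act 2 n9159 = n6393 := d7_1 D9159 (iv D6393) D6392
def n9160 : Q := act 3 n6394
theorem D9160 : act 3 n6394 = n9160 := rfl
def n9161 : Q := act 2 n6396
theorem D9161 : act 2 n6396 = n9161 := rfl
theorem F10762 : act 0 n9161 = n8867 := d1_1 D9161 F10196 F9345 D8425 F9350 F5858 D6396
theorem F10763 : act 1 n9161 = n8868 := d4_1 D9161 F10197 (iv F9700) (iv F9702) F5376 (iv F5330) (iv F5861)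
theorem F10764 : act 3 n9161 = n8806 := d7_2 (iv F5860) D9161 (iv D8806)
theorem F10765 : act 4 n9161 = n8867 := d8_2 (iv F5859) D9161 F10196 (iv D8424) D8423 F10085 F10083
def n9162 : Q := act 3 n6398
theorem D9162 : act 3 n6398 = n9162 := rfl
def n9163 : Q := act 3 n6399
theorem D9163 : act 3 n6399 = n9163 := rfl
theorem F10766 : act 2 n9163 = n6400 := d7_1 D9163 (iv D6400) D6399
def n9164 : Q := act 3 n6401
theorem D9164 : act 3 n6401 = n9164 := rfl
theorem F10767 : act 1 n9164 = n7770 := d5_1 D9164 F8156 F6466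
theorem F10768 : act 4 n9164 = n7769 := d12_1 D9164 F8154 F6014 D9158 F10759 (iv D6403) D6401
def n9165 : Q := act 4 n6401
theorem D9165 : act 4 n6401 = n9165 := rfl
theorem F10769 : act 0 n9165 = n6404 := d3_1 D9165 (iv D6404) D6401
theorem F10770 : act 1 n9165 = n7677 := d6_1 D9165 (iv F7999) F6466
theorem F10771 : act 3 n9165 = n7676 := d9_1 D9165 F10742 (iv D9150) F6015 (iv F8154) (iv F10768) (iv D9164)
theorem F10772 : act 2 n8675 = n9165 := d4_0 F10770 F7997 (iv F7936) F7937 F5029 D5872 D8675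
def n9166 : Q := act 0 n6402
theorem D9166 : act 0 n6402 = n9166 := rfl
def n9167 : Q := act 1 n6402
theorem D9167 : act 1 n6402 = n9167 := rfl
theorem F10773 : act 2 n9167 = n8687 := d4_2 D6402 D9167 F9881 F7391 (iv D6216) F2524 D3612
theorem F10774 : act 0 n9167 = n8442 := d14_3 D3612 D6402 D9167 F9368 D8445 F9370 (iv D8251) F4320 F2673 F1015 D1721
theorem F10775 : act 4 n9166 = n8808 := d17_0 F10095 (iv D8648) (iv D5821) (iv F4967) F4966 F3266 (iv F2305) D5895 D8687 (iv F10773) (iv D9167) D9166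
theorem F10776 : act 4 n8440 = n9167 := d3_0 F10774 (iv D8442) D8440
def n9168 : Q := act 3 n6402
theorem D9168 : act 3 n6402 = n9168 := rfl
theorem F10777 : act 2 n9168 = n6403 := d7_1 D9168 (iv D6403) D6402
def n9169 : Q := act 4 n6402
theorem D9169 : act 4 n6402 = n9169 := rfl
theorem F10778 : act 0 n9169 = n8808 := d3_1 D9169 (iv F10775) (iv D9166)
theorem F10779 : act 1 n9169 = n8440 := d6_1 D9169 F10776 (iv D9167)
theorem F10780 : act 2 n9169 = n8301 := d11_2 D6402 D9169 F9377 (iv D8452) D8453 F9379 (iv D6401)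
def n9170 : Q := act 0 n6403
theorem D9170 : act 0 n6403 = n9170 := rfl
theorem F10781 : act 4 n9170 = n8809 := d3_2 F10759 D9170 (iv F10760)
theorem F10782 : act 3 n9170 = n8801 := d12_4 (iv F10756) (iv D6404) D6403 D9170 (iv D8801) D8800 (iv F10754)
theorem F10783 : act 1 n9170 = n8803 := d17_7 (iv D1734) F377 (iv F379) D1741 (iv F2675) (iv F5867) D9170 F10081 (iv D6038) (iv D3304) (iv F2400) F2399
theorem F10784 : act 2 n9170 = n8059 := d16_4 (iv F3085) (iv F5267) D8803 (iv F10783) F8699 F8584 (iv D8008) F4033 (iv F4038) F4039 F2554 F2329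
def n9171 : Q := act 2 n6404
theorem D9171 : act 2 n6404 = n9171 := rfl
theorem F10785 : act 0 n9171 = n8058 := d13_1 D9171 F8698 (iv F8570) (iv F10020) F10019 F8661 F6036 (iv F6066) (iv F7998) (iv F10770) F10769
def n9172 : Q := act 0 n6405
theorem D9172 : act 0 n6405 = n9172 := rfl
theorem F10786 : act 2 n9172 = n8872 := d1_2 D6405 D9172 (iv D8872) (iv F5870) (iv D6407) (iv D3620) D3619
def n9173 : Q := act 1 n6407
theorem D9173 : act 1 n6407 = n9173 := rfl
theorem F10787 : act 0 n9173 = n8457 := d0_1 D9173 F9384 F4571 (iv F4574) (iv F5871) (iv D6408) D6407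
theorem F10788 : act 4 n7344 = n9173 := d3_0 F10787 (iv D8457) (iv F7448)
def n9174 : Q := act 3 n6407
theorem D9174 : act 3 n6407 = n9174 := rfl
theorem F10789 : act 2 n9174 = n8857 := d7_1 D9174 (iv F10185) (iv F5870)
def n9175 : Q := act 4 n6407
theorem D9175 : act 4 n6407 = n9175 := rfl
theorem F10790 : act 0 n9175 = n6409 := d3_1 D9175 (iv D6409) D6407
theorem F10791 : act 1 n9175 = n7344 := d6_1 D9175 F10788 (iv D9173)
def n9176 : Q := act 0 n6410
theorem D9176 : act 0 n6410 = n9176 := rfl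
theorem F10792 : act 1 n9176 = n7346 := d0_2 F9397 D9176 (iv F8666) F8667 (iv D5567) D5568 D8461
theorem F10793 : act 2 n9176 = n8873 := d11_4 (iv D3620) D3621 D6410 D9176 (iv D8873) (iv F5870) (iv D6407)
def n9177 : Q := act 1 n6411
theorem D9177 : act 1 n6411 = n9177 := rfl
theorem F10794 : act 0 n9177 = n6786 := d0_1 D9177 (iv F10425) (iv D8979) F5560 F2520 D3622 D6411
theorem F10795 : act 2 n9177 = n6772 := d15_6 F374 D729 D1725 D3622 D6411 D9177 F6459 D6776 F6466 (iv D6401) (iv D3612) (iv D1721)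
def n9178 : Q := act 3 n6411
theorem D9178 : act 3 n6411 = n9178 := rfl
def n9179 : Q := act 4 n6411
theorem D9179 : act 4 n6411 = n9179 := rfl
theorem F10796 : act 0 n9179 = n6413 := d3_1 D9179 (iv D6413) D6411
def n9180 : Q := act 0 n6414
theorem D9180 : act 0 n6414 = n9180 := rfl
theorem F10797 : act 2 n9180 = n7367 := d1_2 (iv F5877) D9180 (iv D7367) (iv D4522) (iv D2280) D2281 D4523
theorem F10798 : act 4 n9180 = n6484 := d3_2 (iv F5876) D9180 (iv D6484)
def n9181 : Q := act 4 n6416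
theorem D9181 : act 4 n6416 = n9181 := rfl
theorem F10799 : act 0 n9181 = n6420 := d3_1 D9181 (iv D6420) (iv F5881)
theorem F10800 : act 1 n9181 = n7453 := d6_1 D9181 (iv D7453) (iv F5880)
theorem F10801 : act 2 n9181 = n6419 := d8_1 D9181 (iv D6419) (iv F5884) (iv F7380) F7379 (iv F6905) F6904
theorem F10802 : act 3 n9181 = n6485 := d9_1 D9181 (iv F7383) F7382 (iv D6415) (iv D3628) D3629 D6416
def n9182 : Q := act 0 n6423
theorem D9182 : act 0 n6423 = n9182 := rfl
theorem F10803 : act 2 n9182 = n8670 := d1_2 F7386 D9182 F9841 F5035 (iv F7397) (iv D7309) (iv F7384)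
theorem F10804 : act 3 n9182 = n6916 := d2_2 D6423 D9182 F6738 (iv F5902) (iv D6431) (iv D3645) (iv F2693)
theorem F10805 : act 4 n9182 = n7368 := d3_2 F9906 D9182 (iv F9903)
theorem F10806 : act 1 n7369 = n9182 := d6_3 F10805 (iv D7368) D7369
theorem E892 : n7369 = n6922 := ((c5_1 D6922 F10806 F10804 F6739)).symm
theorem F10807 : act 1 n6922 = n9182 := (sb E892 F10806)
theorem F10808 : act 4 n6922 = n4522 := (sb E892 (iv D7369))
theorem E893 : n6947 = n6927 := (c9_2 F10808 (iv F6776) (iv D6927) (iv D4084) (iv D1999) D1998 D4082 D6922)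
theorem F10809 : act 2 n6927 = n4094 := (sb E893 (iv D6947))
theorem F10810 : act 3 n6927 = n4522 := (sb E893 F6776)
def n9183 : Q := act 4 n6424
theorem D9183 : act 4 n6424 = n9183 := rfl
theorem F10811 : act 0 n9183 = n6425 := d3_1 D9183 (iv D6425) D6424
theorem F10812 : act 1 n9183 = n7808 := d6_1 D9183 (iv D7808) (iv F5894)
def n9184 : Q := act 0 n6426
theorem D9184 : act 0 n6426 = n9184 := rfl
theorem F10813 : act 1 n9184 = n7810 := d0_2 F8627 D9184 F9974 (iv D8103) (iv D5157) (iv F4056) D8027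
theorem F10814 : act 3 n9184 = n7807 := d12_4 (iv D3640) D3641 D6426 D9184 (iv D7807) (iv F5896) (iv D6424)
def n9185 : Q := act 4 n6426
theorem D9185 : act 4 n6426 = n9185 := rfl
theorem F10815 : act 1 n9185 = n7426 := d6_1 D9185 F8628 F8627
theorem F10816 : act 2 n9185 = n6432 := d8_1 D9185 (iv D6432) (iv F5901) (iv F7389) F7388 (iv F7030) F7029
theorem F10817 : act 3 n9185 = n6494 := d9_1 D9185 (iv F7396) F7395 (iv D6425) (iv D3640) D3641 D6426
def n9186 : Q := act 3 n6427
theorem D9186 : act 3 n6427 = n9186 := rfl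
theorem F10818 : act 0 n9186 = n6918 := d2_1 D9186 (iv D6918) (iv F4698) D8517 F9536 F5563 (iv F5898)
theorem F10819 : act 1 n9186 = n7574 := d5_1 D9186 F7832 (iv F5899)
theorem E894 : n8854 = n6926 := (c0_5 F10819 (iv D7574) F3703 D6078 D8854 (iv D6926) (iv F6742) (iv F10818))
theorem F10820 : act 1 n6926 = n6078 := (sb E894 (iv D8854))
theorem F10821 : act 4 n7674 = n9186 := d6_0 F10819 (iv F7833) D7674
def n9187 : Q := act 0 n6428
theorem D9187 : act 0 n6428 = n9187 := rfl
theorem F10822 : act 2 n9187 = n7807 := d11_4 F2695 D3643 D6428 D9187 (iv D7807) (iv F5895) (iv D6424)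
def n9188 : Q := act 0 n6430
theorem D9188 : act 0 n6430 = n9188 := rfl
def n9189 : Q := act 4 n6431
theorem D9189 : act 4 n6431 = n9189 := rfl
theorem F10823 : act 0 n9189 = n6432 := d3_1 D9189 (iv D6432) D6431
theorem F10824 : act 1 n9189 = n7645 := d6_1 D9189 (iv D7645) F5903
theorem F10825 : act 3 n9189 = n7674 := d9_1 D9189 F10821 (iv D9186) (iv D6427) F2698 D4764 (iv F5902)
theorem F10826 : act 2 n9189 = n7674 := d17_4 D5003 (iv F8456) F8457 D9189 (iv D7674) (iv F7834) F7835 F8787 (iv D3359) (iv F2438) (iv F3947) F3948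
def n9190 : Q := act 0 n6434
theorem D9190 : act 0 n6434 = n9190 := rfl
def n9191 : Q := act 4 n6434
theorem D9191 : act 4 n6434 = n9191 := rfl
theorem F10827 : act 1 n9191 = n8068 := d6_1 D9191 F8716 F7679
theorem F10828 : act 3 n9191 = n6442 := d12_2 (iv F5906) D9191 F5921 (iv F5040) D8672 F9844 (iv D6490)
def n9192 : Q := act 2 n6435
theorem D9192 : act 2 n6435 = n9192 := rfl
theorem F10829 : act 3 n9192 = n6445 := d7_2 F5908 D9192 (iv D6445)
theorem F10830 : act 1 n9192 = n7415 := d14_2 (iv F5907) D9192 (iv F8640) (iv F8643) (iv D5187) F1814 (iv F1618) (iv F3822) D7716 F8105 F5675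
theorem F10831 : act 4 n9192 = n7413 := d17_9 F8050 F8048 (iv D4831) D4833 D7716 F8105 F5675 (iv F5907) D9192 F7544 (iv D7127) D7126
def n9193 : Q := act 2 n6437
theorem D9193 : act 2 n6437 = n9193 := rfl
theorem F10832 : act 0 n9193 = n6629 := d1_1 D9193 F6225 F5925 D6456 (iv F10234) (iv D8892) (iv F5910)
theorem F10833 : act 1 n9193 = n6510 := d4_1 D9193 F6027 (iv F6262) F6264 F5914 (iv D6438) D6437
theorem F10834 : act 3 n9193 = n6659 := d7_2 (iv F5915) D9193 F6264
theorem F10835 : act 4 n9193 = n8518 := d8_2 (iv F5918) D9193 (iv D8518) (iv D5649) F2125 D3037 D5652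
def n9194 : Q := act 3 n6439
theorem D9194 : act 3 n6439 = n9194 := rfl
theorem F10836 : act 0 n9194 = n8314 := d2_1 D9194 (iv F9409) (iv D7671) (iv F7949) F7950 (iv F5908) (iv F5916)
theorem F10837 : act 1 n9194 = n7561 := d5_1 D9194 F7794 (iv F5917)
theorem F10838 : act 4 n9194 = n6488 := d9_2 D6439 D9194 (iv F5995) D6489 (iv F5997) (iv F5913) (iv F5912)
def n9195 : Q := act 0 n6441
theorem D9195 : act 0 n6441 = n9195 := rfl
def n9196 : Q := act 4 n6441
theorem D9196 : act 4 n6441 = n9196 := rfl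
theorem F10839 : act 1 n9196 = n8079 := d6_1 D9196 (iv F8739) F7719
theorem F10840 : act 3 n9196 = n6491 := d9_1 D9196 (iv D6491) (iv F5906) D9191 F10828 (iv D6442) D6441
def n9197 : Q := act 2 n6444
theorem D9197 : act 2 n6444 = n9197 := rfl
theorem F10841 : act 3 n9197 = n6492 := d7_2 (iv F5923) D9197 (iv D6492)
theorem F10842 : act 1 n9197 = n7425 := d14_2 (iv F5922) D9197 (iv F8647) (iv F8649) (iv D5195) F1821 (iv F1640) (iv F3853) D7785 F8195 F5673
theorem F10843 : act 4 n9197 = n7424 := d17_9 F8168 F8165 (iv D4875) D4876 D7785 F8195 F5673 (iv F5922) D9197 F7562 F7062 D7135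
def n9198 : Q := act 3 n6446
theorem D9198 : act 3 n6446 = n9198 := rfl
theorem F10844 : act 1 n9198 = n6447 := d5_1 D9198 (iv D6447) D6446
theorem F10845 : act 4 n9198 = n6818 := d12_1 D9198 (iv F9558) F9560 (iv D5678) D5679 (iv F4744) (iv F5925)
def n9199 : Q := act 0 n6447
theorem D9199 : act 0 n6447 = n9199 := rfl
theorem F10846 : act 3 n9199 = n6988 := d16_2 D6447 D9199 (iv D6988) D6989 F10721 (iv F10720) (iv D9139) F5832 F2652 F1007 D1749 D3658
theorem F10847 : act 1 n6990 = n9199 := d5_3 F10846 (iv D6988) D6990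
def n9200 : Q := act 4 n6447
theorem D9200 : act 4 n6447 = n9200 := rfl
theorem F10848 : act 1 n9200 = n6818 := d6_1 D9200 (iv F10845) F10844
theorem F10849 : act 3 n9200 = n6478 := d12_2 D6447 D9200 F5985 F5935 (iv D6453) (iv D3660) D3658
def n9201 : Q := act 2 n6448
theorem D9201 : act 2 n6448 = n9201 := rfl
theorem F10850 : act 1 n9201 = n6828 := d4_1 D9201 (iv D6828) (iv D3992) (iv D1933) (iv F1152) D3986 (iv F5928)
def n9202 : Q := act 3 n6448
theorem D9202 : act 3 n6448 = n9202 := rfl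
theorem F10851 : act 1 n9202 = n6819 := d5_1 D9202 (iv D6819) (iv F5928)
theorem F10852 : act 4 n9202 = n6477 := d9_2 D6448 D9202 (iv D6477) D6478 (iv F10849) (iv D9200) (iv D6447)
def n9203 : Q := act 3 n6449
theorem D9203 : act 3 n6449 = n9203 := rfl
theorem F10853 : act 1 n9203 = n8632 := d5_1 D9203 F9763 F6715
theorem F10854 : act 2 n9203 = n8906 := d7_1 D9203 (iv D8906) (iv F5929)
theorem F10855 : act 4 n9203 = n8631 := d12_1 D9203 F9761 (iv D7295) D7296 F7367 (iv D6451) D6449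
def n9204 : Q := act 0 n6451
theorem D9204 : act 0 n6451 = n9204 := rfl
def n9205 : Q := act 1 n6452
theorem D9205 : act 1 n6452 = n9205 := rfl
theorem F10856 : act 0 n9205 = n7657 := d0_1 D9205 F10562 (iv D9064) F5662 F2577 (iv F2707) D6452
theorem F10857 : act 3 n7611 = n9205 := d16_2 F5942 (iv F7896) (iv D9205) F7368 F3663 F1499 (iv F3631) F3630 (iv F3627) (iv F5948) F5946 F5943
theorem F10858 : act 4 n9205 = n7593 := d12_1 F10857 (iv D7593) F5966 F5965 (iv F5944) F5942 (iv F7896)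
def n9206 : Q := act 3 n6452
theorem D9206 : act 3 n6452 = n9206 := rfl
theorem F10859 : act 0 n9206 = n6988 := d2_1 D9206 (iv F10846) (iv D9199) (iv D6447) (iv D3658) D3660 D6452
theorem F10860 : act 1 n9206 = n7611 := d5_1 D9206 F10857 (iv D9205)
theorem F10861 : act 2 n9206 = n7496 := d7_1 D9206 F7664 (iv F7368)
theorem F10862 : act 4 n7610 = n9206 := d6_0 F10860 (iv D7611) D7610
def n9207 : Q := act 4 n6452
theorem D9207 : act 4 n6452 = n9207 := rfl
theorem F10863 : act 0 n9207 = n6453 := d3_1 D9207 (iv D6453) D6452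
theorem F10864 : act 1 n9207 = n7593 := d6_1 D9207 (iv F10858) (iv D9205)
theorem F10865 : act 3 n7592 = n9207 := d5_0 F10864 (iv D7593) D7592
def n9208 : Q := act 2 n6453
theorem D9208 : act 2 n6453 = n9208 := rfl
theorem F10866 : act 3 n9208 = n6483 := d7_2 F5935 D9208 (iv D6483)
theorem F10867 : act 1 n9208 = n8654 := d14_2 (iv F5934) D9208 (iv D8654) (iv D5825) (iv D3132) F795 (iv F644) (iv F1731) D5030 (iv F5668) F5666
def n9209 : Q := act 3 n6454
theorem D9209 : act 3 n6454 = n9209 := rfl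
theorem F10868 : act 1 n9209 = n8655 := d5_1 D9209 F9802 F9691
theorem F10869 : act 2 n9209 = n6455 := d7_1 D9209 (iv D6455) D6454
def n9210 : Q := act 0 n6455
theorem D9210 : act 0 n6455 = n9210 := rfl
theorem F10870 : act 1 n9210 = n7467 := d0_2 (iv F5936) D9210 F7617 (iv F7979) F7980 (iv F5658) F5656
theorem F10871 : act 4 n9210 = n6482 := d3_2 (iv F5937) D9210 (iv D6482)
theorem F10872 : act 3 n9210 = n7610 := d12_4 (iv D3660) D3661 D6455 D9210 F10862 (iv D9206) (iv D6452)
def n9211 : Q := act 1 n6459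
theorem D9211 : act 1 n6459 = n9211 := rfl
theorem F10873 : act 2 n9211 = n9211 := d4_2 F9742 D9211 (iv D9211) (iv F9742) (iv F10597) F10598 F10597
theorem F10874 : act 0 n9211 = n8753 := d15_7 (iv D3859) (iv D1853) (iv F1104) (iv F2711) D6459 D9211 F10873 F9998 F5189 D5969 (iv F6257) F6258
def n9212 : Q := act 1 n6468
theorem D9212 : act 1 n6468 = n9212 := rfl
theorem F10875 : act 0 n9212 = n6982 := d0_1 D9212 (iv D6982) (iv D4117) (iv F2727) (iv D3693) (iv F2725) D6468
theorem F10876 : act 4 n9212 = n7592 := d6_2 (iv F5967) D9212 (iv D7592)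
theorem F10877 : act 2 n9212 = n7488 := d16_10 (iv D4636) F1477 (iv F1663) (iv F553) (iv F1036) (iv F1038) (iv F1044) D3692 D6468 D9212 F7650 (iv F3616)
theorem F10878 : act 3 n6482 = n9212 := d7_0 F10877 (iv F7651) (iv F7076)
def n9213 : Q := act 2 n6468
theorem D9213 : act 2 n6468 = n9213 := rfl
theorem F10879 : act 0 n9213 = n6699 := d1_1 D9213 F6352 (iv F7866) (iv F10153) (iv D8838) F5389 D6468
theorem F10880 : act 1 n9213 = n6767 := d4_1 D9213 (iv D6767) (iv F6337) F6338 (iv F7650) (iv F10877) (iv D9212)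
theorem F10881 : act 4 n9213 = n7580 := d8_2 (iv F5967) D9213 F7844 (iv D4716) (iv D2448) D2449 D4717
def n9214 : Q := act 3 n6468
theorem D9214 : act 3 n6468 = n9214 := rfl
theorem F10882 : act 0 n9214 = n7658 := d2_1 D9214 (iv D7658) F3761 (iv F3786) (iv F1044) D3692 D6468
theorem F10883 : act 1 n9214 = n6482 := d5_1 D9214 F10878 (iv D9212)
theorem F10884 : act 4 n9214 = n7467 := d9_2 (iv F5967) D9214 F7616 D7611 F10857 F10858 (iv D7593)
def n9215 : Q := act 0 n6471
theorem D9215 : act 0 n6471 = n9215 := rfl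
theorem F10885 : act 2 n9215 = n6548 := d10_2 D6471 D9215 F6090 (iv D5973) (iv D3250) D3251 (iv F2729)
def n9216 : Q := act 3 n6474
theorem D9216 : act 3 n6474 = n9216 := rfl
theorem F10886 : act 1 n9216 = n6477 := d5_1 D9216 (iv D6477) (iv F5979)
theorem F10887 : act 4 n9216 = n6819 := d9_2 F9559 D9216 (iv D6819) F5926 D9198 F10845 (iv F9558)
def n9217 : Q := act 0 n6477
theorem D9217 : act 0 n6477 = n9217 := rfl
theorem F10888 : act 3 n9217 = n6982 := d2_2 D6477 D9217 (iv F10875) (iv F10878) (iv D6482) (iv D3706) D3704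
theorem F10889 : act 1 n6983 = n9217 := d5_3 F10888 (iv D6982) D6983
def n9218 : Q := act 2 n6478
theorem D9218 : act 2 n6478 = n9218 := rfl
theorem F10890 : act 1 n9218 = n8435 := d4_1 D9218 (iv D8435) (iv F6577) F6578 F4704 D8528 F9561
def n9219 : Q := act 3 n6479
theorem D9219 : act 3 n6479 = n9219 := rfl
theorem F10891 : act 1 n9219 = n8642 := d5_1 D9219 F9771 F7446
theorem F10892 : act 2 n9219 = n8938 := d7_1 D9219 (iv D8938) (iv F5986)
def n9220 : Q := act 0 n6481
theorem D9220 : act 0 n6481 = n9220 := rfl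
def n9221 : Q := act 0 n6483
theorem D9221 : act 0 n6483 = n9221 := rfl
theorem F10893 : act 1 n9221 = n7996 := d0_2 F9863 D9221 F8564 (iv F8566) (iv D5882) D5883 D8680
theorem F10894 : act 2 n9221 = n8939 := d11_4 (iv D3705) D3707 D6483 D9221 (iv D8939) (iv F5986) (iv D6479)
theorem F10895 : act 3 n7995 = n9221 := d5_0 F10893 (iv D7996) D7995
def n9222 : Q := act 2 n6487
theorem D9222 : act 2 n6487 = n9222 := rfl
theorem F10896 : act 0 n9222 = n6753 := d1_1 D9222 F6449 (iv D6474) D6475 (iv F10339) (iv D8943) (iv F5993)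
theorem F10897 : act 4 n9222 = n8521 := d8_2 F5999 D9222 F9542 D8523 F9547 (iv D5658) (iv F4702)
theorem F10898 : act 1 n9222 = n6773 := d14_2 D6487 D9222 (iv D6773) (iv D3937) (iv D1906) (iv F1050) (iv D1780) (iv D756) D757 D1783 D3727
theorem F10899 : act 3 n6742 = n9222 := d5_0 F10898 F6461 (iv F6424)
def n9223 : Q := act 3 n6487
theorem D9223 : act 3 n6487 = n9223 := rfl
theorem F10900 : act 0 n9223 = n6797 := d2_1 D9223 F10618 (iv D9091) D9093 F10626 (iv D8944) (iv F5993)
theorem F10901 : act 1 n9223 = n6488 := d5_1 D9223 (iv F5995) D6487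
theorem F10902 : act 2 n9223 = n6742 := d7_1 D9223 F10899 (iv D9222)
theorem F10903 : act 4 n9223 = n7561 := d9_2 F5999 D9223 F7794 (iv F5918) F5915 (iv D5656) D5655
def n9224 : Q := act 1 n6492
theorem D9224 : act 1 n6492 = n9224 := rfl
theorem F10904 : act 0 n9224 = n8469 := d0_1 D9224 (iv D8469) F9314 F6539 F4251 (iv F4351) F6769
theorem F10905 : act 3 n9224 = n7425 := d5_2 F10841 D9224 (iv F10842)
theorem F10906 : act 4 n9224 = n7414 := d6_2 F7400 D9224 F7546
def n9225 : Q := act 4 n6495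
theorem D9225 : act 4 n6495 = n9225 := rfl
theorem F10907 : act 0 n9225 = n6532 := d3_1 D9225 (iv D6532) (iv F6002)
theorem F10908 : act 1 n9225 = n9138 := d6_1 D9225 (iv D9138) (iv F6003)
theorem F10909 : act 2 n9225 = n6547 := d11_2 (iv F6004) D9225 (iv D6547) (iv D3777) (iv D1812) D1810 (iv F2752)
theorem F10910 : act 3 n9225 = n6771 := d12_2 D6495 D9225 F6457 F5257 (iv D4807) (iv F2379) (iv F2750)
def n9226 : Q := act 3 n6496
theorem D9226 : act 3 n6496 = n9226 := rfl
theorem F10911 : act 0 n9226 = n6569 := d2_1 D9226 (iv F10357) F8007 D7682 F8014 (iv D6520) (iv F6005)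
theorem F10912 : act 1 n9226 = n9139 := d5_1 D9226 (iv D9139) (iv F6006)
theorem F10913 : act 2 n9226 = n6508 := d7_1 D9226 (iv D6508) (iv F6007)
def n9227 : Q := act 2 n6497
theorem D9227 : act 2 n6497 = n9227 := rfl
theorem F10914 : act 0 n9227 = n6534 := d1_1 D9227 (iv D6534) F2780 D3769 D6536 F6061 (iv F6008)
theorem F10915 : act 3 n6534 = n7698 := d10_4 F3794 (iv F6008) D9227 F10914 (iv D7698) F3793 D4819
theorem F10916 : act 2 n7698 = n6535 := d7_1 F10915 (iv D6535) D6534
def n9228 : Q := act 3 n6498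
theorem D9228 : act 3 n6498 = n9228 := rfl
theorem F10917 : act 0 n9228 = n6545 := d2_1 D9228 F8030 (iv D7688) F3791 D4870 (iv F6011) (iv F6010)
theorem F10918 : act 2 n9228 = n6499 := d7_1 D9228 (iv D6499) D6498
def n9229 : Q := act 4 n6499
theorem D9229 : act 4 n6499 = n9229 := rfl
theorem F10919 : act 0 n9229 = n6574 := d3_1 D9229 (iv F7822) F7819
theorem F10920 : act 1 n9229 = n6814 := d6_1 D9229 (iv D6814) (iv F6013)
theorem F10921 : act 3 n9229 = n6778 := d9_1 D9229 (iv F8006) F8005 (iv D6497) (iv D3742) D3743 D6499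
def n9230 : Q := act 4 n6502
theorem D9230 : act 4 n6502 = n9230 := rfl
theorem F10922 : act 0 n9230 = n7622 := d3_1 D9230 (iv D7622) (iv F6019)
theorem F10923 : act 1 n9230 = n6503 := d6_1 D9230 (iv D6503) D6502
theorem F10924 : act 2 n9230 = n7812 := d11_2 (iv F6020) D9230 (iv D7812) (iv D4902) (iv D2562) D2560 D4897
def n9231 : Q := act 3 n6503
theorem D9231 : act 3 n6503 = n9231 := rfl
theorem F10925 : act 0 n9231 = n6535 := d2_1 D9231 (iv D6535) F2780 D3770 (iv F6036) (iv D6521) (iv F6021)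
def n9232 : Q := act 1 n6504
theorem D9232 : act 1 n6504 = n9232 := rfl
def n9233 : Q := act 4 n6504
theorem D9233 : act 4 n6504 = n9233 := rfl
theorem F10926 : act 0 n9233 = n6560 := d3_1 D9233 F6106 (iv F6022)
def n9234 : Q := act 0 n6505
theorem D9234 : act 0 n6505 = n9234 := rfl
theorem F10927 : act 1 n9234 = n6700 := d0_2 D6505 D9234 (iv D6700) F2906 D3877 (iv F3781) F3780
theorem F10928 : act 3 n9234 = n8815 := d2_2 (iv F6023) D9234 (iv D8815) F5362 D6069 (iv F6461) (iv D6773)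
theorem F10929 : act 2 n9234 = n8815 := d10_2 (iv F6023) D9234 (iv D8815) F5362 D6069 (iv F6460) (iv D6773)
theorem F10930 : act 4 n9234 = n7630 := d17_0 (iv D7630) F3747 (iv D2477) (iv D1070) D1069 D2472 F1577 (iv F1605) D1794 D3748 D6505 D9234
def n9235 : Q := act 2 n6505
theorem D9235 : act 2 n6505 = n9235 := rfl
theorem F10931 : act 3 n9235 = n6774 := d7_2 (iv F6023) D9235 (iv D6774)
def n9236 : Q := act 4 n6505
theorem D9236 : act 4 n6505 = n9236 := rfl
theorem F10932 : act 0 n9236 = n7630 := d3_1 D9236 (iv F10930) (iv D9234)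
theorem F10933 : act 1 n9236 = n6506 := d6_1 D9236 (iv D6506) D6505
theorem F10934 : act 3 n6513 = n9236 := d5_0 F10933 F8002 (iv F6030)
def n9237 : Q := act 2 n6507
theorem D9237 : act 2 n6507 = n9237 := rfl
theorem F10935 : act 0 n9237 = n6637 := d1_1 D9237 (iv D6637) (iv D3832) (iv D1841) D1840 D3829 (iv F6024)
def n9238 : Q := act 3 n6507
theorem D9238 : act 3 n6507 = n9238 := rfl
theorem F10936 : act 1 n9238 = n6508 := d5_1 D9238 (iv D6508) D6507
theorem F10937 : act 0 n9238 = n6647 := d10_1 D9238 (iv D6647) (iv D3836) (iv D1842) D1840 D3829 (iv F6024)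
def n9239 : Q := act 4 n6507
theorem D9239 : act 4 n6507 = n9239 := rfl
theorem F10938 : act 0 n9239 = n6631 := d3_1 D9239 (iv D6631) (iv F6024)
theorem F10939 : act 1 n9239 = n6509 := d6_1 D9239 (iv D6509) D6507
def n9240 : Q := act 4 n6508
theorem D9240 : act 4 n6508 = n9240 := rfl
theorem F10940 : act 0 n9240 = n6573 := d3_1 D9240 (iv D6573) (iv F6025)
theorem F10941 : act 3 n9240 = n6772 := d12_2 D6508 D9240 F6459 (iv F8003) (iv D6515) (iv D3751) D3749
theorem F10942 : act 3 n8966 = n6573 := d12_6 F10941 (iv D6772) (iv F6089) (iv D6547) (iv F5525) D8966 (iv F10940)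
theorem F10943 : act 3 n8954 = n6549 := d9_5 D8966 F10942 (iv D6573) (iv F5508) D8954 (iv D6549) (iv F5525)
def n9241 : Q := act 3 n6509
theorem D9241 : act 3 n6509 = n9241 := rfl
theorem F10944 : act 4 n9241 = n6547 := d9_2 D6509 D9241 F6089 D6772 (iv F10941) (iv D9240) (iv D6508)
theorem F10945 : act 0 n9241 = n6549 := d12_3 (iv D6508) D6509 D9241 (iv F10943) (iv D8954) F5508 (iv F6025)
def n9242 : Q := act 4 n6510
theorem D9242 : act 4 n6510 = n9242 := rfl
theorem F10946 : act 0 n9242 = n6513 := d3_1 D9242 (iv D6513) D6510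
theorem F10947 : act 1 n9242 = n8518 := d6_1 D9242 (iv F10835) F10833
theorem F10948 : act 3 n9242 = n8843 := d12_2 (iv F6028) D9242 F10161 (iv F10120) (iv D8822) (iv D6041) D6039
def n9243 : Q := act 3 n6511
theorem D9243 : act 3 n6511 = n9243 := rfl
theorem F10949 : act 2 n9243 = n6512 := d7_1 D9243 (iv D6512) D6511
def n9244 : Q := act 4 n6511
theorem D9244 : act 4 n6511 = n9244 := rfl
theorem F10950 : act 0 n9244 = n8614 := d3_1 D9244 F9715 F6265
def n9245 : Q := act 0 n6512
theorem D9245 : act 0 n6512 = n9245 := rfl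
theorem F10951 : act 3 n9245 = n8821 := d2_2 D6512 D9245 (iv D8821) (iv D6041) D6039 (iv F6028) (iv D6510)
theorem F10952 : act 2 n9245 = n8821 := d10_2 D6512 D9245 (iv D8821) (iv D6041) D6039 (iv F6027) (iv D6510)
theorem F10953 : act 1 n9245 = n7634 := d14_4 F2684 (iv F2761) (iv F6029) D9245 F7927 (iv F7990) (iv F7992) F6765 F3077 (iv F3063) F3062
theorem F10954 : act 4 n9245 = n7632 := d17_0 (iv D7632) (iv F7831) (iv F7833) (iv D4802) (iv F3772) (iv F7987) F7988 F7940 (iv D3754) (iv F2761) (iv F6029) D9245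
def n9246 : Q := act 4 n6512
theorem D9246 : act 4 n6512 = n9246 := rfl
theorem F10955 : act 0 n9246 = n7632 := d3_1 D9246 (iv F10954) (iv D9245)
theorem F10956 : act 1 n9246 = n6515 := d6_1 D9246 (iv D6515) (iv F6029)
theorem F10957 : act 3 n9246 = n6775 := d9_1 D9246 (iv D6775) (iv F6023) D9236 (iv F10934) (iv D6513) D6512
def n9247 : Q := act 1 n6514
theorem D9247 : act 1 n6514 = n9247 := rfl
theorem F10958 : act 0 n9247 = n6688 := d0_1 D9247 F6318 (iv F7926) (iv F10953) (iv D9245) F6029 D6514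
theorem F10959 : act 3 n9247 = n6661 := d5_2 (iv F8011) D9247 (iv F8010)
theorem F10960 : act 4 n9247 = n6707 := d6_2 F8173 D9247 (iv F8175)
def n9248 : Q := act 1 n6517
theorem D9248 : act 1 n6517 = n9248 := rfl
def n9249 : Q := act 4 n6517
theorem D9249 : act 4 n6517 = n9249 := rfl
theorem F10961 : act 0 n9249 = n6559 := d3_1 D9249 (iv D6559) (iv F6031)
def n9250 : Q := act 2 n6518
theorem D9250 : act 2 n6518 = n9250 := rfl
theorem F10962 : act 0 n9250 = n6525 := d1_1 D9250 (iv F8177) (iv D7777) (iv D4873) (iv F3852) F7940 (iv F6032)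
theorem F10963 : act 4 n9250 = n6524 := d11_1 D9250 (iv F8153) (iv D7768) (iv D4868) D4869 F7940 (iv F6032)
def n9251 : Q := act 1 n6524
theorem D9251 : act 1 n6524 = n9251 := rfl
theorem F10964 : act 0 n9251 = n7668 := d0_1 D9251 (iv D7668) (iv F7484) F7482 (iv F4126) F4128 D6524
theorem F10965 : act 2 n9251 = n8147 := d15_6 (iv F660) D2713 D5137 F4128 D6524 D9251 (iv D8147) (iv D5196) (iv F4132) (iv D5144) (iv D2716) (iv D1198)
def n9252 : Q := act 2 n6528
theorem D9252 : act 2 n6528 = n9252 := rfl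
theorem F10966 : act 1 n9252 = n6540 := d4_1 D9252 (iv D6540) (iv D3771) (iv D1807) (iv F1067) D3763 D6528
theorem F10967 : act 3 n9252 = n8217 := d7_2 (iv F6045) D9252 (iv D8217)
theorem F10968 : act 4 n9252 = n6621 := d8_2 F6051 D9252 (iv D6621) (iv D3821) (iv D1834) D1836 D3824
def n9253 : Q := act 1 n6534
theorem D9253 : act 1 n6534 = n9253 := rfl
def n9254 : Q := act 4 n6534
theorem D9254 : act 4 n6534 = n9254 := rfl
theorem F10969 : act 2 n9254 = n6552 := d8_1 D9254 (iv D6552) (iv F6059) (iv D6532) (iv D3766) D3768 D6534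
def n9255 : Q := act 4 n6535
theorem D9255 : act 4 n6535 = n9255 := rfl
theorem F10970 : act 3 n9255 = n6546 := d9_1 D9255 (iv D6546) (iv F6060) (iv D6533) (iv D3767) D3768 D6535
def n9256 : Q := act 1 n6536
theorem D9256 : act 1 n6536 = n9256 := rfl
theorem F10971 : act 3 n9256 = n9035 := d5_2 F8062 D9256 F10522
theorem F10972 : act 4 n9021 = n9256 := d12_1 D9021 F10971 F10521 (iv F10516) (iv D9027) (iv D6258) D6256
def n9257 : Q := act 4 n6536
theorem D9257 : act 4 n6536 = n9257 := rfl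
theorem F10973 : act 0 n9257 = n6539 := d3_1 D9257 (iv D6539) D6536
theorem F10974 : act 1 n9257 = n9021 := d6_1 D9257 F10972 (iv D9256)
theorem F10975 : act 2 n9257 = n6549 := d8_1 D9257 (iv D6549) (iv D3777) (iv D1812) D1810 D3776 (iv F6061)
theorem F10976 : act 3 n9019 = n9257 := d7_0 F10975 (iv F10943) (iv F10503)
def n9258 : Q := act 2 n6537
theorem D9258 : act 2 n6537 = n9258 := rfl
theorem F10977 : act 0 n9258 = n8420 := d1_1 D9258 F9342 (iv F6688) (iv D6884) F3027 (iv F4553) (iv F6062)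
theorem F10978 : act 1 n9258 = n8199 := d4_1 D9258 (iv D8199) (iv D5248) (iv F2774) F2773 D3769 D6537
theorem F10979 : act 3 n9258 = n8427 := d7_2 F6063 D9258 F9352
theorem F10980 : act 4 n9258 = n8420 := d11_1 D9258 F9342 (iv F6688) (iv D6884) (iv F3028) (iv F4553) (iv F6062)
def n9259 : Q := act 3 n6540
theorem D9259 : act 3 n6540 = n9259 := rfl
theorem F10981 : act 0 n9259 = n8426 := d2_1 D9259 (iv D8426) (iv F5333) (iv D6020) F2389 D5528 (iv F6080)
theorem F10982 : act 1 n9259 = n8217 := d5_1 D9259 (iv F10967) F10966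
theorem F10983 : act 2 n9259 = n6541 := d7_1 D9259 (iv D6541) D6540
theorem F10984 : act 4 n9259 = n8426 := d9_2 (iv F6081) D9259 (iv D8426) D8427 (iv F10979) F10980 (iv D8420)
def n9260 : Q := act 1 n6542
theorem D9260 : act 1 n6542 = n9260 := rfl
theorem F10985 : act 3 n9260 = n9022 := d5_2 F8028 D9260 F10506
theorem F10986 : act 4 n9034 = n9260 := d9_0 F10985 (iv D9022) D9021 F10972 F10971 (iv D9035) D9034
def n9261 : Q := act 4 n6542
theorem D9261 : act 4 n6542 = n9261 := rfl
theorem F10987 : act 0 n9261 = n6543 := d3_1 D9261 (iv D6543) D6542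
theorem F10988 : act 1 n9261 = n9034 := d6_1 D9261 F10986 (iv D9260)
theorem F10989 : act 2 n9261 = n6573 := d8_1 D9261 (iv D6573) (iv D3791) D3792 D6574 (iv F7822) (iv F7821)
theorem F10990 : act 3 n9261 = n9032 := d9_1 D9261 (iv F10520) F8062 D9257 (iv F10976) (iv F10504) F8028
def n9262 : Q := act 4 n6544
theorem D9262 : act 4 n6544 = n9262 := rfl
theorem F10991 : act 1 n9262 = n6546 := d6_1 D9262 (iv D6546) D6544
def n9263 : Q := act 1 n6545
theorem D9263 : act 1 n6545 = n9263 := rfl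
def n9264 : Q := act 4 n6545
theorem D9264 : act 4 n6545 = n9264 := rfl
theorem F10992 : act 2 n9264 = n6571 := d11_2 D6545 D9264 F6137 (iv F6086) (iv D6543) F2811 D3774
def n9265 : Q := act 2 n6546
theorem D9265 : act 2 n6546 = n9265 := rfl
theorem F10993 : act 4 n9265 = n6569 := d8_2 D6546 D9265 (iv D6569) D6571 (iv F10992) (iv D9264) (iv D6545)
theorem F10994 : act 1 n9265 = n9265 := d6_3 F10993 F10358 (iv F10993)
def n9266 : Q := act 1 n6547
theorem D9266 : act 1 n6547 = n9266 := rfl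
theorem F10995 : act 0 n9266 = n6767 := d0_1 D9266 (iv F10880) F10879 F6351 (iv F6090) (iv D6548) D6547
theorem F10996 : act 3 n9266 = n6752 := d5_2 (iv F6089) D9266 F6448
def n9267 : Q := act 4 n6548
theorem D9267 : act 4 n6548 = n9267 := rfl
theorem F10997 : act 0 n9267 = n7581 := d3_1 D9267 F7845 (iv F6090)
theorem F10998 : act 1 n9267 = n6549 := d6_1 D9267 (iv D6549) D6548
theorem F10999 : act 2 n9267 = n8184 := d11_2 F10885 D9267 (iv D8184) D8185 F8928 F5977 D9215
def n9268 : Q := act 0 n6550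
theorem D9268 : act 0 n6550 = n9268 := rfl
theorem F11000 : act 1 n9268 = n8838 := d0_2 D6550 D9268 (iv D8838) F5388 (iv F2815) (iv D3779) D3778
theorem F11001 : act 2 n9268 = n7505 := d13_4 D1813 D3778 D6550 D9268 (iv F10363) (iv D8955) (iv F6814) (iv D6974) F3097 F2491 F1068
theorem F11002 : act 3 n9268 = n7504 := d16_7 D4812 D7685 F8023 F6058 F6059 D6550 D9268 F7675 F5391 (iv F5255) F5254 F3773
def n9269 : Q := act 2 n6550
theorem D9269 : act 2 n6550 = n9269 := rfl
theorem F11003 : act 1 n9269 = n9269 := d4_1 D9269 (iv D9269) (iv D6550) (iv F6059) F6058 F6059 D6550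
theorem F11004 : act 4 n9269 = n8678 := d11_1 D9269 F9857 F7728 F7724 (iv F7677) (iv F11001) (iv D9268)
theorem F11005 : act 3 n8600 = n9269 := d16_2 (iv F6295) (iv F9678) F11003 (iv D9269) (iv D6550) (iv D3778) F1069 D1908 D3940 D6782 F6472 F5055
def n9270 : Q := act 3 n6550
theorem D9270 : act 3 n6550 = n9270 := rfl
theorem F11006 : act 0 n9270 = n8840 := d2_1 D9270 (iv D8840) (iv D6063) D6064 (iv F7675) (iv F11002) (iv D9268)
theorem F11007 : act 1 n9270 = n6551 := d5_1 D9270 (iv D6551) D6550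
theorem F11008 : act 2 n9270 = n8600 := d7_1 D9270 F11005 (iv D9269)
def n9271 : Q := act 4 n6550
theorem D9271 : act 4 n6550 = n9271 := rfl
theorem F11009 : act 1 n9271 = n6552 := d6_1 D9271 (iv D6552) D6550
def n9272 : Q := act 4 n6551
theorem D9272 : act 4 n6551 = n9272 := rfl
theorem F11010 : act 3 n9272 = n6571 := d12_2 D6551 D9272 F6137 F6079 (iv D1910) (iv F1069) D3778
def n9273 : Q := act 3 n6552
theorem D9273 : act 3 n6552 = n9273 := rfl
theorem F11011 : act 4 n9273 = n6570 := d9_2 D6552 D9273 (iv D6570) D6571 (iv F11010) (iv D9272) (iv D6551)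
def n9274 : Q := act 3 n6555
theorem D9274 : act 3 n6555 = n9274 := rfl
theorem F11012 : act 0 n9274 = n8641 := d2_1 D9274 F9768 D8830 F10139 F7702 (iv D6557) D6555
theorem F11013 : act 2 n9274 = n8509 := d7_1 D9274 (iv D8509) (iv F6100)
theorem F11014 : act 4 n8837 = n9274 := d3_0 F11012 (iv F9770) D8837
def n9275 : Q := act 4 n6555
theorem D9275 : act 4 n6555 = n9275 := rfl
theorem F11015 : act 0 n9275 = n6558 := d3_1 D9275 (iv D6558) D6555
theorem F11016 : act 1 n9275 = n8229 := d6_1 D9275 (iv F10233) F10232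
theorem F11017 : act 3 n9275 = n8836 := d12_2 (iv D9274) D9275 F10151 (iv F10142) (iv D8831) (iv F9768) (iv F11012)
def n9276 : Q := act 4 n6557
theorem D9276 : act 4 n6557 = n9276 := rfl
theorem F11018 : act 0 n9276 = n8834 := d3_1 D9276 F10150 F7702
theorem F11019 : act 1 n9276 = n6559 := d6_1 D9276 (iv D6559) (iv F6103)
theorem F11020 : act 2 n9276 = n8653 := d8_1 D9276 (iv D8653) (iv F9785) (iv D8646) (iv D5808) D5810 (iv F7703)
theorem F11021 : act 3 n6784 = n9276 := d7_0 F11020 (iv F9799) F9385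
def n9277 : Q := act 3 n6558
theorem D9277 : act 3 n6558 = n9277 := rfl
theorem F11022 : act 1 n9277 = n6560 := d5_1 D9277 (iv D6560) (iv F6104)
theorem F11023 : act 2 n9277 = n8657 := d7_1 D9277 F9811 F9250
theorem F11024 : act 4 n9277 = n6783 := d9_2 D6558 D9277 (iv D6783) D6784 F11021 (iv D9276) (iv D6557)
theorem F11025 : act 0 n9277 = n8833 := d16_8 D8107 F8790 (iv D6108) (iv F5431) (iv F9005) (iv F11016) F11015 D9277 F10148 (iv D7571) F3701 (iv F4151)
def n9278 : Q := act 0 n6568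
theorem D9278 : act 0 n6568 = n9278 := rfl
theorem F11026 : act 2 n9278 = n7503 := d13_4 (iv F1070) D3788 D6568 D9278 (iv F10365) F10366 (iv F6830) (iv D6992) F3106 F2494 (iv D1818)
theorem F11027 : act 3 n9278 = n7530 := d16_7 (iv D7682) (iv F8007) F10357 F10358 (iv D6569) D6568 D9278 F7729 F5367 (iv F5259) (iv F6034) (iv F8014)
def n9279 : Q := act 2 n6568
theorem D9279 : act 2 n6568 = n9279 := rfl
theorem F11028 : act 1 n9279 = n9279 := d4_1 D9279 (iv D9279) (iv D6568) D6569 F10358 (iv D6569) D6568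
theorem F11029 : act 4 n9279 = n8599 := d11_1 D9279 F9677 F7672 F7668 D7503 (iv F11026) (iv D9278)
theorem F11030 : act 3 n8601 = n9279 := d16_2 D5739 D8601 F11028 (iv D9279) (iv D6568) (iv D3788) (iv D1816) D1814 D3781 D6556 F6101 F4799
def n9280 : Q := act 3 n6568
theorem D9280 : act 3 n6568 = n9280 := rfl
theorem F11031 : act 0 n9280 = n8825 := d2_1 D9280 (iv D8825) (iv D6044) D6045 (iv F7729) (iv F11027) (iv D9278)
theorem F11032 : act 1 n9280 = n6570 := d5_1 D9280 (iv D6570) D6568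
theorem F11033 : act 2 n9280 = n8601 := d7_1 D9280 F11030 (iv D9279)
def n9281 : Q := act 4 n6568
theorem D9281 : act 4 n6568 = n9281 := rfl
theorem F11034 : act 1 n9281 = n6571 := d6_1 D9281 (iv D6571) D6568
def n9282 : Q := act 0 n6572
theorem D9282 : act 0 n6572 = n9282 := rfl
theorem F11035 : act 3 n9282 = n8755 := d2_2 F10359 D9282 (iv D8755) (iv D5967) D5965 D8750 (iv F10360)
theorem F11036 : act 2 n9282 = n9282 := d10_2 F10359 D9282 (iv D9282) (iv F10359) F10360 F9995 (iv F10360)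
theorem F11037 : act 1 n9282 = n7587 := d14_4 F2494 D3791 D6572 D9282 F7857 (iv F7883) (iv F7886) (iv D6994) (iv D4127) D4126 F3106
theorem F11038 : act 4 n9282 = n7585 := d17_0 F7855 F3713 D4715 F7850 (iv F3699) (iv F7823) F7824 (iv D6574) (iv D3792) D3791 D6572 D9282
def n9283 : Q := act 2 n6572
theorem D9283 : act 2 n6572 = n9283 := rfl
def n9284 : Q := act 4 n6572
theorem D9284 : act 4 n6572 = n9284 := rfl
theorem F11039 : act 0 n9284 = n7585 := d3_1 D9284 (iv F11038) (iv D9282)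
theorem F11040 : act 1 n9284 = n6573 := d6_1 D9284 (iv D6573) D6572
theorem F11041 : act 2 n8191 = n9284 := d10_2 D5235 D8191 F11039 (iv D7585) F3711 (iv F4232) (iv D5233)
def n9285 : Q := act 1 n6575
theorem D9285 : act 1 n6575 = n9285 := rfl
def n9286 : Q := act 4 n6575
theorem D9286 : act 4 n6575 = n9286 := rfl
theorem F11042 : act 0 n9286 = n6588 := d3_1 D9286 (iv D6588) (iv F6138)
theorem F11043 : act 2 n9286 = n6579 := d8_1 D9286 (iv D6579) (iv D3798) (iv D1823) D1821 D3795 D6575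
def n9287 : Q := act 4 n6577
theorem D9287 : act 4 n6577 = n9287 := rfl
theorem F11044 : act 0 n9287 = n7259 := d3_1 D9287 (iv D7259) (iv F6142)
theorem F11045 : act 3 n6579 = n9287 := d12_2 (iv D6578) D6579 F11044 F8074 (iv D7706) D7705 F8071
def n9288 : Q := act 4 n6578
theorem D9288 : act 4 n6578 = n9288 := rfl
theorem F11046 : act 0 n9288 = n7268 := d3_1 D9288 F8072 F8071
theorem F11047 : act 3 n9288 = n7338 := d9_1 D9288 (iv D7338) (iv F6141) D9287 (iv F11045) (iv D6579) D6578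
def n9289 : Q := act 4 n6580
theorem D9289 : act 4 n6580 = n9289 := rfl
theorem F11048 : act 0 n9289 = n6581 := d3_1 D9289 (iv D6581) D6580
theorem F11049 : act 1 n9289 = n9103 := d6_1 D9289 F10649 F8240
def n9290 : Q := act 4 n6582
theorem D9290 : act 4 n6582 = n9290 := rfl
theorem F11050 : act 0 n9290 = n8169 := d3_1 D9290 (iv D8169) (iv F6145)
theorem F11051 : act 1 n9290 = n6583 := d6_1 D9290 (iv D6583) D6582
def n9291 : Q := act 2 n6583
theorem D9291 : act 2 n6583 = n9291 := rfl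
def n9292 : Q := act 3 n6583
theorem D9292 : act 3 n6583 = n9292 := rfl
def n9293 : Q := act 0 n6584
theorem D9293 : act 0 n6584 = n9293 := rfl
theorem F11052 : act 2 n9293 = n6591 := d11_4 (iv F1077) D3801 D6584 D9293 (iv D6591) (iv D3804) (iv D1826)
def n9294 : Q := act 1 n6584
theorem D9294 : act 1 n6584 = n9294 := rfl
theorem F11053 : act 0 n9294 = n9159 := d13_3 (iv F11052) (iv D9293) D9294 F10761 (iv F6793) (iv D6963) D6962 F6792 (iv F6736) (iv F9273) F9272
theorem F11054 : act 4 n9159 = n9294 := d17_0 (iv D9294) (iv D6584) (iv D3801) F1077 F394 F128 (iv F394) (iv F1077) D3801 D6584 D9294 F11053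
theorem F11055 : act 3 n8428 = n9294 := d16_2 F10764 F10090 (iv D9294) (iv D6584) F2829 F1846 D2774 (iv F4209) F4208 (iv F5418) (iv F10195) (iv F10762)
theorem F11056 : act 2 n9294 = n8421 := d7_1 F11055 F9343 D8428
def n9295 : Q := act 3 n6584
theorem D9295 : act 3 n6584 = n9295 := rfl
theorem F11057 : act 1 n9295 = n8428 := d5_1 D9295 F11055 (iv D9294)
theorem F11058 : act 2 n9295 = n6585 := d7_1 D9295 (iv D6585) D6584
theorem F11059 : act 4 n7339 = n9295 := d8_0 F11058 (iv F6157) (iv D3960) (iv F3389) D2229 D4483 D7339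
def n9296 : Q := act 4 n6584
theorem D9296 : act 4 n6584 = n9296 := rfl
theorem F11060 : act 1 n9296 = n9159 := d6_1 D9296 F11054 (iv D9294)
theorem F11061 : act 2 n9296 = n6594 := d8_1 D9296 (iv D6594) (iv D3806) (iv D1827) (iv F1077) D3801 D6584
theorem F11062 : act 3 n6588 = n9296 := d7_0 F11061 (iv F6163) (iv F6153)
def n9297 : Q := act 3 n6586
theorem D9297 : act 3 n6586 = n9297 := rfl
theorem F11063 : act 0 n9297 = n9163 := d2_1 D9297 (iv D9163) F5866 (iv D6099) (iv F2669) D6397 (iv F6148)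
theorem F11064 : act 1 n9297 = n6587 := d5_1 D9297 (iv D6587) D6586
theorem F11065 : act 2 n9297 = n8422 := d7_1 D9297 (iv D8422) (iv F6150)
theorem F11066 : act 4 n9297 = n9163 := d9_2 F6149 D9297 (iv D9163) (iv F9353) F11055 (iv F11054) (iv D9159)
def n9298 : Q := act 0 n6587
theorem D9298 : act 0 n6587 = n9298 := rfl
theorem F11067 : act 2 n9298 = n7588 := d10_2 D6587 D9298 (iv F9275) (iv D8375) F4514 D6575 F6138
def n9299 : Q := act 4 n6587
theorem D9299 : act 4 n6587 = n9299 := rfl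
theorem F11068 : act 1 n9299 = n9163 := d6_1 D9299 (iv F11066) F11064
theorem F11069 : act 2 n9299 = n6597 := d8_1 D9299 (iv D6597) F2836 D3811 F6155 (iv D6590) (iv F6151)
theorem F11070 : act 3 n9299 = n7339 := d9_1 D9299 F11059 (iv D9295) D9296 (iv F11062) (iv D6588) D6587
def n9300 : Q := act 1 n6589
theorem D9300 : act 1 n6589 = n9300 := rfl
theorem F11071 : act 0 n9300 = n8178 := d0_1 D9300 (iv D8178) (iv D5224) F1845 D2778 (iv F2830) D6589
def n9301 : Q := act 2 n6589
theorem D9301 : act 2 n6589 = n9301 := rfl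
def n9302 : Q := act 4 n6589
theorem D9302 : act 4 n6589 = n9302 := rfl
theorem F11072 : act 0 n9302 = n6590 := d3_1 D9302 (iv D6590) D6589
def n9303 : Q := act 4 n6592
theorem D9303 : act 4 n6592 = n9303 := rfl
theorem F11073 : act 1 n9303 = n7916 := d6_1 D9303 (iv D7916) (iv F6159)
def n9304 : Q := act 1 n6593
theorem D9304 : act 1 n6593 = n9304 := rfl
theorem F11074 : act 0 n9304 = n8660 := d0_1 D9304 (iv D8660) (iv D5836) F2250 D3141 (iv F2834) D6593
def n9305 : Q := act 4 n6593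
theorem D9305 : act 4 n6593 = n9305 := rfl
theorem F11075 : act 0 n9305 = n6594 := d3_1 D9305 (iv D6594) D6593
def n9306 : Q := act 1 n6596
theorem D9306 : act 1 n6596 = n9306 := rfl
def n9307 : Q := act 4 n6596
theorem D9307 : act 4 n6596 = n9307 := rfl
theorem F11076 : act 0 n9307 = n6597 := d3_1 D9307 (iv D6597) D6596
def n9308 : Q := act 1 n6598
theorem D9308 : act 1 n6598 = n9308 := rfl
theorem F11077 : act 0 n9308 = n7903 := d0_1 D9308 (iv F10439) (iv F10442) (iv D7048) (iv F6858) (iv F9281) F9280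
theorem F11078 : act 3 n9308 = n7882 := d5_2 F7585 D9308 F8376
theorem F11079 : act 4 n7919 = n9308 := d3_0 F11077 F8411 D7919
def n9309 : Q := act 4 n6598
theorem D9309 : act 4 n6598 = n9309 := rfl
theorem F11080 : act 1 n9309 = n7919 := d6_1 D9309 F11079 (iv D9308)
def n9310 : Q := act 2 n6599
theorem D9310 : act 2 n6599 = n9310 := rfl
theorem F11081 : act 4 n9310 = n7588 := d11_1 D9310 (iv F11067) (iv D9298) F6151 D6590 (iv F6155) (iv F6170)
theorem F11082 : act 1 n9310 = n7590 := d15_9 F10451 F8916 F5296 F4223 (iv F4244) (iv F6154) (iv F6155) (iv F6170) D9310 F7860 (iv F5574) (iv F10449)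
def n9311 : Q := act 0 n6601
theorem D9311 : act 0 n6601 = n9311 := rfl
theorem F11083 : act 1 n9311 = n6978 := d0_2 (iv F7867) D9311 (iv D6978) (iv F5696) (iv D6314) (iv F5698) (iv F7866)
theorem F11084 : act 3 n9311 = n6796 := d2_2 (iv F10645) D9311 (iv D6796) (iv F6524) (iv D6323) D6325 D9101
theorem F11085 : act 4 n9311 = n8395 := d3_2 F7868 D9311 (iv F9308)
def n9312 : Q := act 0 n6602
theorem D9312 : act 0 n6602 = n9312 := rfl
theorem F11086 : act 1 n9312 = n7789 := d0_2 (iv F6175) D9312 F8204 F3875 (iv D3404) (iv F2461) (iv F3556)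
theorem F11087 : act 3 n9312 = n6799 := d2_2 D6602 D9312 (iv D6799) (iv D3954) (iv D1912) (iv F1084) D3812
theorem F11088 : act 4 n9312 = n7446 := d3_2 F6176 D9312 (iv D7446)
def n9313 : Q := act 2 n6603
theorem D9313 : act 2 n6603 = n9313 := rfl
theorem F11089 : act 3 n9313 = n7459 := d7_2 F6179 D9313 (iv D7459)
def n9314 : Q := act 1 n6604
theorem D9314 : act 1 n6604 = n9314 := rfl
def n9315 : Q := act 2 n6604
theorem D9315 : act 2 n6604 = n9315 := rfl
def n9316 : Q := act 3 n6604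
theorem D9316 : act 3 n6604 = n9316 := rfl
def n9317 : Q := act 4 n6604
theorem D9317 : act 4 n6604 = n9317 := rfl
theorem F11090 : act 0 n9317 = n6605 := d3_1 D9317 (iv D6605) D6604
theorem F11091 : act 2 n6877 = n9317 := d10_2 D5502 (iv F6673) F11090 (iv F6181) F6120 (iv D2924) D2923
def n9318 : Q := act 2 n6605
theorem D9318 : act 2 n6605 = n9318 := rfl
theorem F11092 : act 1 n9318 = n8420 := d4_1 D9318 F9342 (iv F6941) F6942 (iv F6934) F6935 (iv F6180)
theorem F11093 : act 3 n9318 = n6621 := d7_2 F6181 D9318 (iv D6621)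
theorem F11094 : act 4 n9318 = n8199 := d8_2 D6605 D9318 (iv D8199) F6184 (iv D6606) (iv D3814) D3813
def n9319 : Q := act 0 n6606
theorem D9319 : act 0 n6606 = n9319 := rfl
theorem F11095 : act 4 n9319 = n8198 := d3_2 F6184 D9319 (iv D8198)
def n9320 : Q := act 2 n6608
theorem D9320 : act 2 n6608 = n9320 := rfl
theorem F11096 : act 0 n9320 = n6617 := d1_1 D9320 (iv D6617) (iv D3819) (iv D1834) D1833 D3816 D6608
theorem F11097 : act 1 n9320 = n9237 := d4_1 D9320 (iv D9237) (iv D6507) (iv F6007) F6006 F5833 (iv F6189)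
def n9321 : Q := act 3 n6608
theorem D9321 : act 3 n6608 = n9321 := rfl
theorem F11098 : act 1 n9321 = n6936 := d5_1 D9321 (iv D6936) (iv F6189)
theorem F11099 : act 4 n9321 = n8467 := d9_2 (iv F6195) D9321 (iv D8467) F9413 (iv F11084) F11085 (iv D8395)
theorem F11100 : act 0 n9321 = n6623 := d10_1 D9321 (iv D6623) (iv D3822) (iv D1835) D1833 D3816 D6608
theorem F11101 : act 3 n9071 = n6623 := d2_6 (iv D9321) (iv D6608) (iv F6198) (iv D6295) D6297 D9071 (iv F11100)
theorem F11102 : act 2 n6624 = n9071 := d7_3 F11101 (iv D6623) D6624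
def n9322 : Q := act 2 n6611
theorem D9322 : act 2 n6611 = n9322 := rfl
theorem F11103 : act 0 n9322 = n6621 := d1_1 D9322 (iv D6621) F6120 (iv D2924) D2923 D5501 F6194
def n9323 : Q := act 2 n6612
theorem D9323 : act 2 n6612 = n9323 := rfl
theorem F11104 : act 0 n9323 = n6618 := d1_1 D9323 (iv F10569) (iv D9067) (iv D6296) D6295 F6197 D6612
theorem F11105 : act 4 n8392 = n9323 := d3_0 F11104 (iv F6498) D8392
def n9324 : Q := act 3 n6612
theorem D9324 : act 3 n6612 = n9324 := rfl
theorem F11106 : act 0 n9324 = n6624 := d2_1 D9324 (iv D6624) (iv D3822) (iv D1835) D1833 D3817 D6612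
theorem F11107 : act 1 n9324 = n9047 := d5_1 D9324 (iv D9047) (iv F6196)
theorem F11108 : act 4 n7458 = n9324 := d3_0 F11106 F6214 D7458
def n9325 : Q := act 4 n6612
theorem D9325 : act 4 n6612 = n9325 := rfl
theorem F11109 : act 0 n9325 = n6613 := d3_1 D9325 (iv D6613) D6612
theorem F11110 : act 1 n9325 = n9048 := d6_1 D9325 (iv D9048) (iv F6196)
theorem F11111 : act 3 n9325 = n7446 := d12_2 (iv D9324) D9325 (iv D7446) (iv F6217) (iv D6625) D6624 (iv F11106)
def n9326 : Q := act 2 n6613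
theorem D9326 : act 2 n6613 = n9326 := rfl
theorem F11112 : act 3 n9326 = n6800 := d7_2 (iv F6200) D9326 (iv D6800)
theorem F11113 : act 0 n9326 = n7273 := d11_3 F6197 D6613 D9326 (iv F10575) (iv D9070) (iv D6296) D6295
theorem F11114 : act 0 n7447 = n7715 := d10_7 (iv F8103) (iv F11113) (iv D9326) (iv F11109) F11111 (iv D7446) D7447
theorem F11115 : act 4 n7713 = n7447 := d3_0 F11114 (iv D7715) D7713
def n9327 : Q := act 0 n6614
theorem D9327 : act 0 n6614 = n9327 := rfl
theorem F11116 : act 1 n9327 = n7030 := d13_2 D6614 D9327 (iv D7030) (iv D4151) F1237 F458 (iv F2047) (iv F2052) (iv F405) (iv F1089) (iv F2843)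
def n9328 : Q := act 1 n6614
theorem D9328 : act 1 n6614 = n9328 := rfl
theorem F11117 : act 0 n9328 = n8576 := d17_12 (iv D8576) D8574 F9630 (iv D6439) D6438 (iv F5914) (iv F6190) (iv D6609) (iv D3816) D3818 D6614 D9328
theorem F11118 : act 4 n8573 = n9328 := d17_0 (iv D9328) (iv D6614) (iv D3818) D3816 D6609 F6190 F5914 (iv D6438) D6439 (iv F9630) (iv D8574) D8573
def n9329 : Q := act 3 n6614
theorem D9329 : act 3 n6614 = n9329 := rfl
theorem F11119 : act 2 n9329 = n6615 := d7_1 D9329 (iv D6615) D6614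
theorem F11120 : act 0 n7283 = n9329 := d11_7 F11119 F6202 F6525 (iv D6323) D6324 D9100 F10643
def n9330 : Q := act 4 n6614
theorem D9330 : act 4 n6614 = n9330 := rfl
theorem F11121 : act 1 n9330 = n8573 := d6_1 D9330 F11118 (iv D9328)
theorem F11122 : act 0 n8397 = n9330 := d13_1 D8397 F11121 (iv D8573) (iv D5707) F2141 F777 (iv F1187) (iv F1512) F1511 (iv F1982) (iv F4536)
theorem F11123 : act 4 n9327 = n8397 := d3_0 F11122 (iv D9330) D9327
def n9331 : Q := act 0 n6615
theorem D9331 : act 0 n6615 = n9331 := rfl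
theorem F11124 : act 3 n9331 = n7458 := d2_2 D6615 D9331 (iv D7458) F6179 F6177 (iv F2841) (iv F2843)
theorem F11125 : act 4 n9331 = n6799 := d3_2 (iv F6202) D9331 (iv D6799)
theorem F11126 : act 0 n7459 = n7784 := d10_7 F8193 F11120 F11119 D9331 F11124 (iv D7458) D7459
theorem F11127 : act 1 n9331 = n9102 := d13_2 F11119 D9331 F10646 F10647 (iv D7286) (iv D4401) (iv D2173) (iv F1334) D4398 D7283 F11120
theorem F11128 : act 4 n7783 = n7459 := d3_0 F11126 (iv D7784) D7783
def n9332 : Q := act 4 n6617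
theorem D9332 : act 4 n6617 = n9332 := rfl
theorem F11129 : act 1 n9332 = n6678 := d6_1 D9332 (iv D6678) (iv F6206)
theorem F11130 : act 2 n9332 = n6627 := d8_1 D9332 F6219 (iv D5509) (iv D2926) D2924 (iv F6124) D6617
def n9333 : Q := act 1 n6619
theorem D9333 : act 1 n6619 = n9333 := rfl
def n9334 : Q := act 2 n6619
theorem D9334 : act 2 n6619 = n9334 := rfl
def n9335 : Q := act 3 n6619
theorem D9335 : act 3 n6619 = n9335 := rfl
def n9336 : Q := act 4 n6619
theorem D9336 : act 4 n6619 = n9336 := rfl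
theorem F11131 : act 0 n9336 = n6620 := d3_1 D9336 (iv D6620) D6619
theorem F11132 : act 2 n6891 = n9336 := d10_2 D5572 (iv F6702) F11131 F6207 F6496 (iv D2972) D2971
def n9337 : Q := act 2 n6620
theorem D9337 : act 2 n6620 = n9337 := rfl
theorem F11133 : act 1 n9337 = n8426 := d4_1 D9337 F9351 (iv F6940) (iv D7080) (iv F6927) F6928 F6495
theorem F11134 : act 3 n9337 = n6803 := d7_2 (iv F6207) D9337 (iv D6803)
theorem F11135 : act 4 n9337 = n8217 := d8_2 D6620 D9337 (iv D8217) (iv F6537) (iv D6626) (iv D3823) (iv F2844)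
def n9338 : Q := act 2 n6625
theorem D9338 : act 2 n6625 = n9338 := rfl
theorem F11136 : act 3 n9338 = n7447 := d7_2 (iv F6217) D9338 (iv D7447)
def n9339 : Q := act 0 n6626
theorem D9339 : act 0 n6626 = n9339 := rfl
theorem F11137 : act 4 n9339 = n8216 := d3_2 (iv F6537) D9339 (iv D8216)
def n9340 : Q := act 3 n6627
theorem D9340 : act 3 n6627 = n9340 := rfl
theorem F11138 : act 1 n9340 = n7396 := d5_1 D9340 F7519 (iv F6220)
theorem F11139 : act 4 n9340 = n8400 := d12_1 D9340 F9321 F9314 F6540 F6184 F6182 D6627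
def n9341 : Q := act 3 n6629
theorem D9341 : act 3 n6629 = n9341 := rfl
theorem F11140 : act 0 n9341 = n8749 := d2_1 D9341 F10579 F10577 (iv D6660) D6659 (iv F10834) F10832
theorem F11141 : act 1 n9341 = n6630 := d5_1 D9341 (iv D6630) D6629
theorem F11142 : act 2 n9341 = n9198 := d7_1 D9341 (iv D9198) (iv F6225)
def n9342 : Q := act 4 n6630
theorem D9342 : act 4 n6630 = n9342 := rfl
theorem F11143 : act 0 n9342 = n8746 := d3_1 D9342 (iv D8746) F8208
def n9343 : Q := act 2 n6631
theorem D9343 : act 2 n6631 = n9343 := rfl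
theorem F11144 : act 0 n9343 = n6644 := d11_3 D3829 D6631 D9343 (iv D6644) (iv D3835) (iv D1841) D1840
def n9344 : Q := act 3 n6631
theorem D9344 : act 3 n6631 = n9344 := rfl
def n9345 : Q := act 2 n6632
theorem D9345 : act 2 n6632 = n9345 := rfl
theorem F11145 : act 0 n9345 = n6638 := d10_3 D3830 D6632 D9345 (iv D6638) (iv D3832) (iv D1841) D1840
def n9346 : Q := act 3 n6632
theorem D9346 : act 3 n6632 = n9346 := rfl
theorem F11146 : act 0 n9346 = n6648 := d2_1 D9346 (iv D6648) (iv D3836) (iv D1842) D1840 D3830 D6632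
theorem F11147 : act 1 n9346 = n9049 := d5_1 D9346 F10540 F8207
theorem F11148 : act 4 n7450 = n9346 := d6_0 F11147 F10539 F8491
def n9347 : Q := act 4 n6632
theorem D9347 : act 4 n6632 = n9347 := rfl
theorem F11149 : act 0 n9347 = n6633 := d3_1 D9347 (iv D6633) D6632
theorem F11150 : act 3 n9347 = n7448 := d12_2 (iv D9346) D9347 (iv D7448) F6245 (iv D6649) D6648 (iv F11146)
def n9348 : Q := act 2 n6633
theorem D9348 : act 2 n6633 = n9348 := rfl
theorem F11151 : act 3 n9348 = n6757 := d7_2 (iv F6228) D9348 (iv D6757)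
def n9349 : Q := act 0 n6634
theorem D9349 : act 0 n6634 = n9349 := rfl
theorem F11152 : act 1 n9349 = n7062 := d13_2 D6634 D9349 (iv D7062) (iv D4183) F1244 F461 F161 (iv F137) (iv F410) (iv F1096) (iv F2853)
def n9350 : Q := act 1 n6634
theorem D9350 : act 1 n6634 = n9350 := rfl
theorem F11153 : act 2 n9350 = n8277 := d4_2 D6634 D9350 F9088 (iv D5583) F2019 D2988 (iv F2854)
def n9351 : Q := act 3 n6634
theorem D9351 : act 3 n6634 = n9351 := rfl
theorem F11154 : act 2 n9351 = n6635 := d7_1 D9351 (iv D6635) D6634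
def n9352 : Q := act 4 n6634
theorem D9352 : act 4 n6634 = n9352 := rfl
def n9353 : Q := act 0 n6635
theorem D9353 : act 0 n6635 = n9353 := rfl
theorem F11155 : act 3 n9353 = n7450 := d2_2 D6635 D9353 (iv D7450) (iv F6252) (iv D6655) (iv D3839) (iv F2853)
theorem F11156 : act 4 n9353 = n6756 := d3_2 (iv F6230) D9353 (iv D6756)
def n9354 : Q := act 3 n6636
theorem D9354 : act 3 n6636 = n9354 := rfl
theorem F11157 : act 1 n9354 = n6638 := d5_1 D9354 (iv D6638) D6636
theorem F11158 : act 2 n9354 = n8632 := d7_1 D9354 F9763 F6716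
theorem F11159 : act 0 n9354 = n8630 := d10_1 D9354 (iv D8630) (iv F9518) (iv D8509) (iv F5348) D8814 F10105
def n9355 : Q := act 4 n6636
theorem D9355 : act 4 n6636 = n9355 := rfl
theorem F11160 : act 1 n9355 = n6639 := d6_1 D9355 (iv D6639) D6636
theorem F11161 : act 2 n9355 = n9133 := d8_1 D9355 (iv F10710) (iv D6902) (iv D4059) D4057 D6901 F6716
def n9356 : Q := act 3 n6637
theorem D9356 : act 3 n6637 = n9356 := rfl
theorem F11162 : act 1 n9356 = n8908 := d5_1 D9356 (iv D8908) F6256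
theorem F11163 : act 2 n9356 = n6638 := d7_1 D9356 (iv D6638) D6637
theorem F11164 : act 0 n9356 = n8744 := d10_1 D9356 (iv D8744) F8208 (iv D6630) (iv F6024) D9237 F10935
def n9357 : Q := act 4 n6637
theorem D9357 : act 4 n6637 = n9357 := rfl
theorem F11165 : act 1 n9357 = n8909 := d6_1 D9357 (iv D8909) F6256
theorem F11166 : act 2 n9357 = n6651 := d11_2 D6637 D9357 (iv D6651) (iv D3838) (iv D1843) D1841 D3832
def n9358 : Q := act 4 n6638
theorem D9358 : act 4 n6638 = n9358 := rfl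
theorem F11167 : act 3 n9358 = n6761 := d12_2 D6638 D9358 F6452 (iv F9819) (iv D6643) (iv D3834) D3832
def n9359 : Q := act 3 n6639
theorem D9359 : act 3 n6639 = n9359 := rfl
theorem F11168 : act 4 n9359 = n6760 := d9_2 D6639 D9359 (iv D6760) D6761 (iv F11167) (iv D9358) (iv D6638)
def n9360 : Q := act 1 n6642
theorem D9360 : act 1 n6642 = n9360 := rfl
def n9361 : Q := act 2 n6642
theorem D9361 : act 2 n6642 = n9361 := rfl
def n9362 : Q := act 3 n6642
theorem D9362 : act 3 n6642 = n9362 := rfl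
def n9363 : Q := act 4 n6642
theorem D9363 : act 4 n6642 = n9363 := rfl
theorem F11169 : act 0 n9363 = n6643 := d3_1 D9363 (iv D6643) D6642
def n9364 : Q := act 2 n6643
theorem D9364 : act 2 n6643 = n9364 := rfl
theorem F11170 : act 3 n9364 = n6765 := d7_2 (iv F9819) D9364 (iv D6765)
theorem F11171 : act 1 n9162 = n9364 := d16_3 D3609 D6398 D9162 (iv D9364) F9823 (iv D8663) (iv D5839) F2252 (iv F870) D1877 (iv F2000) F2002
def n9365 : Q := act 3 n6644
theorem D9365 : act 3 n6644 = n9365 := rfl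
theorem F11172 : act 1 n9365 = n9160 := d5_1 D9365 (iv D9160) (iv F6236)
theorem F11173 : act 2 n9365 = n6645 := d7_1 D9365 (iv D6645) D6644
def n9366 : Q := act 4 n6644
theorem D9366 : act 4 n6644 = n9366 := rfl
theorem F11174 : act 1 n9366 = n6966 := d6_1 D9366 F6803 (iv F6236)
theorem F11175 : act 2 n9366 = n6654 := d8_1 D9366 (iv D6654) (iv D3838) (iv D1843) D1841 D3835 D6644
def n9367 : Q := act 0 n6645
theorem D9367 : act 0 n6645 = n9367 := rfl
theorem F11176 : act 4 n9367 = n6763 := d3_2 (iv F9818) D9367 (iv D6763)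
def n9368 : Q := act 1 n6647
theorem D9368 : act 1 n6647 = n9368 := rfl
theorem F11177 : act 0 n9368 = n7587 := d0_1 D9368 (iv F11037) (iv D9282) (iv D6572) (iv F6025) (iv F10936) F10937
theorem F11178 : act 2 n9368 = n7611 := d4_2 D6647 D9368 (iv F10860) F10861 F7663 (iv F6238) (iv D6646)
theorem F11179 : act 4 n7586 = n9368 := d8_0 F11178 (iv D7611) (iv D4730) D4731 D7612 F7897 (iv F7856)
def n9369 : Q := act 3 n6647
theorem D9369 : act 3 n6647 = n9369 := rfl
theorem F11180 : act 0 n9369 = n8745 := d2_1 D9369 (iv D8745) F8208 (iv D6630) (iv F6024) D9238 F10937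
theorem F11181 : act 2 n9369 = n6648 := d7_1 D9369 (iv D6648) D6647
def n9370 : Q := act 4 n6647
theorem D9370 : act 4 n6647 = n9370 := rfl
theorem F11182 : act 1 n9370 = n7586 := d6_1 D9370 F11179 (iv D9368)
def n9371 : Q := act 2 n6649
theorem D9371 : act 2 n6649 = n9371 := rfl
theorem F11183 : act 3 n9371 = n7449 := d7_2 F6245 D9371 (iv D7449)
def n9372 : Q := act 0 n6650
theorem D9372 : act 0 n6650 = n9372 := rfl
def n9373 : Q := act 3 n6651
theorem D9373 : act 3 n6651 = n9373 := rfl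
theorem F11184 : act 1 n9373 = n7988 := d5_1 D9373 (iv F8552) F6634
def n9374 : Q := act 4 n6651
theorem D9374 : act 4 n6651 = n9374 := rfl
theorem F11185 : act 0 n9374 = n6654 := d3_1 D9374 (iv D6654) D6651
def n9375 : Q := act 0 n6653
theorem D9375 : act 0 n6653 = n9375 := rfl
def n9376 : Q := act 2 n6655
theorem D9376 : act 2 n6655 = n9376 := rfl
theorem F11186 : act 3 n9376 = n7451 := d7_2 (iv F6252) D9376 (iv D7451)
def n9377 : Q := act 3 n6656
theorem D9377 : act 3 n6656 = n9377 := rfl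
theorem F11187 : act 1 n9377 = n9083 := d5_1 D9377 F10604 (iv F6255)
theorem F11188 : act 2 n9377 = n6657 := d7_1 D9377 (iv D6657) D6656
theorem F11189 : act 0 n9377 = n6683 := d10_1 D9377 (iv D6683) (iv D3854) (iv D1851) D1850 D3851 (iv F6254)
def n9378 : Q := act 4 n6656
theorem D9378 : act 4 n6656 = n9378 := rfl
theorem F11190 : act 0 n9378 = n6678 := d3_1 D9378 (iv D6678) (iv F6254)
theorem F11191 : act 1 n9378 = n9085 := d6_1 D9378 F10609 (iv F6255)
theorem F11192 : act 2 n9378 = n6669 := d11_2 D6656 D9378 (iv D6669) (iv D3848) (iv D1849) D1847 D3842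
theorem F11193 : act 3 n6696 = n9378 := d7_0 F11192 F6281 (iv F6345)
def n9379 : Q := act 4 n6657
theorem D9379 : act 4 n6657 = n9379 := rfl
theorem F11194 : act 0 n9379 = n6689 := d3_1 D9379 (iv D6689) (iv F6258)
theorem F11195 : act 1 n9379 = n8757 := d6_1 D9379 (iv D8757) (iv F6257)
theorem F11196 : act 3 n9379 = n6697 := d9_1 D9379 (iv D6697) (iv D3873) D3874 F6261 (iv D6658) D6657
def n9380 : Q := act 2 n6658
theorem D9380 : act 2 n6658 = n9380 := rfl
theorem F11197 : act 0 n9380 = n6680 := d1_1 D9380 (iv D6680) F2881 D3856 (iv F6268) (iv D6663) (iv F6259)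
theorem F11198 : act 1 n9380 = n8969 := d4_1 D9380 F10394 F7000 (iv F5805) F5804 F5200 (iv F6260)
theorem F11199 : act 3 n9380 = n6698 := d7_2 F6261 D9380 (iv D6698)
theorem F11200 : act 4 n8967 = n9380 := d6_0 F11198 (iv D8969) D8967
def n9381 : Q := act 4 n6661
theorem D9381 : act 4 n6661 = n9381 := rfl
theorem F11201 : act 0 n9381 = n6662 := d3_1 D9381 (iv D6662) D6661
theorem F11202 : act 3 n9381 = n6703 := d12_2 F10959 D9381 F6363 (iv F6322) (iv D6689) D6688 (iv F10958)
def n9382 : Q := act 2 n6662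
theorem D9382 : act 2 n6662 = n9382 := rfl
theorem F11203 : act 3 n9382 = n6739 := d7_2 (iv F6271) D9382 F6415
def n9383 : Q := act 1 n6663
theorem D9383 : act 1 n6663 = n9383 := rfl
theorem F11204 : act 2 n9383 = n8419 := d4_2 D6663 D9383 F9341 (iv D5609) F2090 D3043 (iv F2870)
theorem F11205 : act 4 n9383 = n8413 := d6_2 F9032 D9383 F9334
def n9384 : Q := act 3 n6663
theorem D9384 : act 3 n6663 = n9384 := rfl
theorem F11206 : act 2 n9384 = n6664 := d7_1 D9384 (iv D6664) D6663
def n9385 : Q := act 0 n6664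
theorem D9385 : act 0 n6664 = n9385 := rfl
theorem F11207 : act 3 n9385 = n6707 := d2_2 D6664 D9385 (iv D6707) (iv D3880) (iv F2901) F6261 F6259
theorem F11208 : act 4 n9385 = n6702 := d3_2 (iv F6270) D9385 F6362
def n9386 : Q := act 3 n6665
theorem D9386 : act 3 n6665 = n9386 := rfl
theorem F11209 : act 0 n9386 = n6684 := d2_1 D9386 (iv D6684) (iv D3854) (iv D1851) D1850 D3852 (iv F6273)
theorem F11210 : act 1 n9386 = n9062 := d5_1 D9386 (iv D9062) (iv F6272)
theorem F11211 : act 2 n9386 = n6666 := d7_1 D9386 (iv D6666) D6665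
theorem F11212 : act 4 n6731 = n9386 := d6_0 F11210 (iv F10557) F8511
def n9387 : Q := act 4 n6665
theorem D9387 : act 4 n6665 = n9387 := rfl
theorem F11213 : act 0 n9387 = n6679 := d3_1 D9387 (iv D6679) (iv F6273)
theorem F11214 : act 1 n9387 = n9063 := d6_1 D9387 (iv D9063) (iv F6272)
theorem F11215 : act 3 n9387 = n6710 := d12_2 (iv D9386) D9387 F6377 (iv F6308) (iv D6685) D6684 (iv F11209)
def n9388 : Q := act 2 n6667
theorem D9388 : act 2 n6667 = n9388 := rfl
theorem F11216 : act 1 n9388 = n9057 := d4_1 D9388 F10551 (iv D7272) (iv D4388) (iv F3311) (iv F5644) (iv F6278)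
theorem F11217 : act 3 n9388 = n6711 := d7_2 (iv F6279) D9388 (iv D6711)
theorem F11218 : act 0 n9388 = n6750 := d10_3 (iv F2877) (iv F6277) D9388 (iv D6750) (iv D3915) (iv D1883) (iv F1120)
theorem F11219 : act 4 n9055 = n9388 := d3_0 F11218 (iv F9031) (iv F10548)
def n9389 : Q := act 0 n6668
theorem D9389 : act 0 n6668 = n9389 := rfl
theorem F11220 : act 3 n9389 = n6712 := d10_4 (iv F6279) F6277 D6668 D9389 (iv D6712) (iv D3884) (iv F2913)
def n9390 : Q := act 1 n6668
theorem D9390 : act 1 n6668 = n9390 := rfl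
theorem F11221 : act 2 n9390 = n8490 := d4_2 D6668 D9390 (iv D8490) (iv D5610) F2092 D3012 (iv F2876)
theorem F11222 : act 3 n9390 = n6747 := d5_2 (iv F6280) D9390 (iv D6747)
theorem F11223 : act 4 n8564 = n9390 := d8_0 F11221 F9463 (iv D5695) (iv D3058) D3057 D5694 D8564
def n9391 : Q := act 4 n6668
theorem D9391 : act 4 n6668 = n9391 := rfl
theorem F11224 : act 1 n9391 = n8564 := d6_1 D9391 F11223 (iv D9390)
theorem F11225 : act 3 n6672 = n9391 := d5_0 F11224 F9614 (iv F6285)
def n9392 : Q := act 4 n6669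
theorem D9392 : act 4 n6669 = n9392 := rfl
theorem F11226 : act 0 n9392 = n6672 := d3_1 D9392 (iv D6672) D6669
theorem F11227 : act 1 n9392 = n8975 := d6_1 D9392 F10412 F7218
theorem F11228 : act 2 n9392 = n8967 := d8_1 D9392 F11200 (iv D9380) (iv D6658) D6656 D9378 F11192
def n9393 : Q := act 0 n6670
theorem D9393 : act 0 n6670 = n9393 := rfl
theorem F11229 : act 4 n9393 = n8570 := d3_2 F6283 D9393 F9624
theorem F11230 : act 2 n9393 = n8576 := d11_4 D3070 (iv F5758) (iv F6282) D9393 (iv D8576) (iv D5707) F2141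
def n9394 : Q := act 3 n6670
theorem D9394 : act 3 n6670 = n9394 := rfl
theorem F11231 : act 1 n9394 = n6671 := d5_1 D9394 (iv D6671) D6670
theorem F11232 : act 2 n9394 = n8493 := d7_1 D9394 (iv D8493) (iv F6282)
theorem F11233 : act 4 n9394 = n8580 := d9_2 F6283 D9394 F9634 F7281 (iv F11222) (iv F11223) F9614
def n9395 : Q := act 0 n6671
theorem D9395 : act 0 n6671 = n9395 := rfl
theorem F11234 : act 3 n9395 = n6718 := d2_2 D6671 D9395 (iv D6718) (iv D3887) D3885 (iv F6281) (iv D6669)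
def n9396 : Q := act 4 n6671
theorem D9396 : act 4 n6671 = n9396 := rfl
theorem F11235 : act 1 n9396 = n8580 := d6_1 D9396 (iv F11233) F11231
theorem F11236 : act 3 n9396 = n6748 := d9_1 D9396 (iv D6748) (iv F6280) D9391 (iv F11225) (iv D6672) D6671
def n9397 : Q := act 2 n6673
theorem D9397 : act 2 n6673 = n9397 := rfl
theorem F11237 : act 1 n9397 = n9122 := d4_1 D9397 F10691 (iv D7287) (iv D4402) D4401 (iv F5710) (iv F6288)
theorem F11238 : act 3 n9397 = n6721 := d7_2 (iv F6286) D9397 (iv D6721)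
theorem F11239 : act 0 n9397 = n6692 := d10_3 D3849 D6673 D9397 (iv D6692) (iv D3863) (iv D1855) (iv F1102)
theorem F11240 : act 4 n9121 = n9397 := d3_0 F11239 (iv F9049) (iv F10690)
def n9398 : Q := act 3 n6674
theorem D9398 : act 3 n6674 = n9398 := rfl
theorem F11241 : act 1 n9398 = n9243 := d5_1 D9398 (iv D9243) (iv F6289)
theorem F11242 : act 2 n9398 = n7525 := d7_1 D9398 F7723 (iv F6290)
def n9399 : Q := act 4 n6674
theorem D9399 : act 4 n6674 = n9399 := rfl
theorem F11243 : act 0 n9399 = n6676 := d3_1 D9399 (iv D6676) D6674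
theorem F11244 : act 1 n9399 = n9244 := d6_1 D9399 (iv D9244) (iv F6289)
theorem F11245 : act 2 n9399 = n8593 := d8_1 D9399 (iv D8593) (iv D5728) (iv D3077) D3075 D5725 (iv F6290)
def n9400 : Q := act 4 n6675
theorem D9400 : act 4 n6675 = n9400 := rfl
theorem F11246 : act 1 n9400 = n6679 := d6_1 D9400 (iv D6679) (iv F6291)
theorem F11247 : act 2 n9400 = n8608 := d8_1 D9400 (iv D8608) F4811 F2153 (iv F2299) (iv F6293) (iv F6292)
theorem F11248 : act 3 n6734 = n9400 := d7_0 F11247 F9698 (iv F6411)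
def n9401 : Q := act 3 n6676
theorem D9401 : act 3 n6676 = n9401 := rfl
theorem F11249 : act 1 n9401 = n6681 := d5_1 D9401 (iv D6681) (iv F6299)
theorem F11250 : act 2 n9401 = n8604 := d7_1 D9401 (iv F9686) (iv F6300)
theorem F11251 : act 4 n9401 = n6733 := d9_2 D6676 D9401 (iv D6733) D6734 F11248 (iv D9400) (iv D6675)
def n9402 : Q := act 4 n6677
theorem D9402 : act 4 n6677 = n9402 := rfl
theorem F11252 : act 2 n9402 = n6750 := d11_2 (iv F6301) D9402 (iv F11218) (iv D9388) (iv D6667) D6665 F6273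
theorem F11253 : act 3 n6737 = n9402 := d7_0 F11252 (iv D6750) (iv F6414)
def n9403 : Q := act 3 n6678
theorem D9403 : act 3 n6678 = n9403 := rfl
theorem F11254 : act 2 n9403 = n6692 := d7_1 D9403 (iv D6692) (iv F6302)
theorem F11255 : act 4 n9403 = n6736 := d9_2 D6678 D9403 (iv D6736) D6737 F11253 (iv D9402) (iv D6677)
def n9404 : Q := act 2 n6679
theorem D9404 : act 2 n6679 = n9404 := rfl
theorem F11256 : act 1 n9404 = n8381 := d4_1 D9404 (iv D8381) (iv F7499) F7500 (iv F9697) (iv F11247) F11246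
theorem F11257 : act 3 n9404 = n6738 := d7_2 (iv F6303) D9404 (iv D6738)
def n9405 : Q := act 3 n6680
theorem D9405 : act 3 n6680 = n9405 := rfl
theorem F11258 : act 1 n9405 = n8383 := d5_1 D9405 (iv D8383) F9208
theorem F11259 : act 2 n9405 = n6681 := d7_1 D9405 (iv D6681) D6680
def n9406 : Q := act 0 n6681
theorem D9406 : act 0 n6681 = n9406 := rfl
theorem F11260 : act 3 n9406 = n6731 := d2_2 D6681 D9406 (iv D6731) (iv D3897) F1119 F4845 (iv F2881)
theorem F11261 : act 4 n9406 = n6709 := d3_2 (iv F6304) D9406 F6374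
theorem F11262 : act 1 n9406 = n9107 := d14_4 (iv F9685) (iv F11250) F11249 D9406 F10651 (iv D7292) (iv D4411) (iv F3340) (iv F5777) F5776 D6346
def n9407 : Q := act 0 n6682
theorem D9407 : act 0 n6682 = n9407 := rfl
theorem F11263 : act 1 n9407 = n8753 := d0_2 D6682 D9407 (iv F10874) (iv D9211) (iv D6459) F2711 D3854
theorem F11264 : act 2 n9407 = n8623 := d1_2 (iv F6305) D9407 F9744 (iv F10140) (iv D8830) (iv F9754) F9751
theorem F11265 : act 3 n9407 = n8630 := d2_2 F6371 D9407 (iv F11159) (iv D9354) (iv F10105) F10107 (iv D8647)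
def n9408 : Q := act 4 n6682
theorem D9408 : act 4 n6682 = n9408 := rfl
theorem F11266 : act 1 n9408 = n6685 := d6_1 D9408 (iv D6685) D6682
theorem F11267 : act 2 n9408 = n8629 := d8_1 D9408 (iv D8629) (iv D5789) (iv D3113) D3112 D5788 (iv F6305)
theorem F11268 : act 3 n9408 = n6725 := d9_1 D9408 (iv D6725) (iv D3891) D3892 D6726 (iv F6398) F6371
def n9409 : Q := act 3 n6683
theorem D9409 : act 3 n6683 = n9409 := rfl
theorem F11269 : act 1 n9409 = n8139 := d5_1 D9409 (iv F10277) F10276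
theorem F11270 : act 2 n9409 = n6684 := d7_1 D9409 (iv D6684) D6683
theorem F11271 : act 4 n9409 = n6728 := d12_1 D9409 (iv D6728) (iv F6343) F11193 (iv D9378) D9377 F11189
def n9410 : Q := act 4 n6683
theorem D9410 : act 4 n6683 = n9410 := rfl
theorem F11272 : act 3 n9410 = n6727 := d9_1 D9410 (iv D6727) (iv D3893) D3894 D6728 (iv F11271) (iv D9409)
theorem F11273 : act 2 n9410 = n6691 := d11_2 D6683 D9410 (iv D6691) (iv D3862) (iv D1854) (iv F1104) D3854
def n9411 : Q := act 2 n6685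
theorem D9411 : act 2 n6685 = n9411 := rfl
theorem F11274 : act 1 n9411 = n8098 := d4_1 D9411 F8776 (iv F8623) (iv F10671) (iv F10674) (iv F11267) F11266
theorem F11275 : act 3 n9411 = n6729 := d7_2 (iv F6308) D9411 (iv D6729)
def n9412 : Q := act 0 n6686
theorem D9412 : act 0 n6686 = n9412 := rfl
theorem F11276 : act 2 n9412 = n6689 := d10_2 (iv F6309) D9412 (iv F11194) F11196 F6346 (iv F6415) (iv D6739)
theorem F11277 : act 3 n9412 = n6704 := d12_4 D5318 (iv F5737) (iv F6309) D9412 F9045 (iv D8250) (iv D5317)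
def n9413 : Q := act 0 n6687
theorem D9413 : act 0 n6687 = n9413 := rfl
theorem F11278 : act 1 n9413 = n8755 := d0_2 D6687 D9413 (iv D8755) F5189 D5969 (iv F6257) F6258
theorem F11279 : act 4 n9413 = n7582 := d3_2 F6312 D9413 F7847
theorem F11280 : act 2 n9413 = n7601 := d10_2 F6317 D9413 (iv F10280) (iv F10284) F7879 (iv F7927) F7926
theorem F11281 : act 3 n9413 = n7587 := d10_4 (iv F5942) (iv F5943) (iv F6310) D9413 (iv F11177) F11178 F7896
def n9414 : Q := act 0 n6690
theorem D9414 : act 0 n6690 = n9414 := rfl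
theorem F11282 : act 3 n9414 = n6746 := d2_2 (iv F6323) D9414 (iv D6746) (iv F6280) D9389 F11220 (iv D6712)
def n9415 : Q := act 1 n6690
theorem D9415 : act 1 n6690 = n9415 := rfl
theorem F11283 : act 2 n9415 = n7420 := d4_2 D6690 D9415 F7550 F3524 F1434 (iv F1449) (iv F2888)
theorem F11284 : act 3 n9415 = n6713 := d5_2 (iv F6323) D9415 (iv D6713)
theorem F11285 : act 4 n7902 = n9415 := d9_0 F11284 (iv F7155) F7104 F2915 D6717 (iv F7556) (iv F8409)
def n9416 : Q := act 4 n6690
theorem D9416 : act 4 n6690 = n9416 := rfl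
theorem F11286 : act 1 n9416 = n7902 := d6_1 D9416 F11285 (iv D9415)
theorem F11287 : act 3 n9416 = n6719 := d9_1 D9416 (iv D6719) (iv D3887) D3888 (iv F7157) (iv D6714) (iv F6323)
def n9417 : Q := act 2 n6693
theorem D9417 : act 2 n6693 = n9417 := rfl
theorem F11288 : act 3 n9417 = n6767 := d7_2 F6335 D9417 (iv D6767)
theorem F11289 : act 0 n9417 = n8766 := d10_3 F8210 F8209 D9417 (iv D8766) F8215 F6450 D6756
def n9418 : Q := act 4 n6695
theorem D9418 : act 4 n6695 = n9418 := rfl
theorem F11290 : act 0 n9418 = n6737 := d3_1 D9418 (iv D6737) (iv F6342)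
theorem F11291 : act 1 n9418 = n9084 := d6_1 D9418 (iv D9084) (iv F6340)
theorem F11292 : act 2 n9418 = n6746 := d11_2 (iv F6341) D9418 (iv D6746) (iv D3914) (iv D1882) D1880 (iv F2900)
def n9419 : Q := act 2 n6697
theorem D9419 : act 2 n6697 = n9419 := rfl
theorem F11293 : act 0 n9419 = n6738 := d1_1 D9419 (iv D6738) F2927 D3902 D6739 F6415 (iv F6346)
theorem F11294 : act 1 n9419 = n8972 := d4_1 D9419 F10404 F7294 D7256 F7299 (iv F5196) (iv F6347)
theorem F11295 : act 4 n8971 = n9419 := d6_0 F11294 (iv D8972) (iv F10400)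
def n9420 : Q := act 3 n6700
theorem D9420 : act 3 n6700 = n9420 := rfl
theorem F11296 : act 1 n9420 = n8815 := d5_1 D9420 (iv F10928) F10927
theorem F11297 : act 2 n9420 = n7647 := d7_1 D9420 F7953 (iv F6355)
theorem F11298 : act 4 n9420 = n7633 := d12_1 D9420 (iv D7633) (iv D4754) (iv D2469) F1114 D3876 D6700
def n9421 : Q := act 4 n6701
theorem D9421 : act 4 n6701 = n9421 := rfl
theorem F11299 : act 0 n9421 = n6727 := d3_1 D9421 (iv D6727) (iv F6361)
theorem F11300 : act 2 n9421 = n6712 := d11_2 D6701 D9421 (iv D6712) (iv D3884) (iv D1868) (iv F1115) D3877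
def n9422 : Q := act 2 n6703
theorem D9422 : act 2 n6703 = n9422 := rfl
theorem F11301 : act 0 n9422 = n6729 := d11_3 (iv D6701) D6703 D9422 (iv D6729) (iv D3895) (iv F2924) (iv F6361)
def n9423 : Q := act 0 n6704
theorem D9423 : act 0 n6704 = n9423 := rfl
theorem F11302 : act 2 n9423 = n6710 := d1_2 D6704 D9423 F6377 D6729 (iv F11301) (iv D9422) F6363
def n9424 : Q := act 1 n6704
theorem D9424 : act 1 n6704 = n9424 := rfl
theorem F11303 : act 2 n9424 = n7402 := d4_2 D6704 D9424 (iv D7402) (iv D4552) F1431 D2467 (iv F3787)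
theorem F11304 : act 4 n9424 = n7739 := d6_2 (iv F9045) D9424 (iv F9043)
def n9425 : Q := act 3 n6705
theorem D9425 : act 3 n6705 = n9425 := rfl
theorem F11305 : act 1 n9425 = n6706 := d5_1 D9425 (iv D6706) D6705
theorem F11306 : act 2 n9425 = n7407 := d7_1 D9425 (iv D7407) (iv F6365)
theorem F11307 : act 4 n7753 = n9425 := d8_0 F11306 F7559 (iv D4863) (iv D2532) (iv F1633) D4856 D7753
def n9426 : Q := act 0 n6706
theorem D9426 : act 0 n6706 = n9426 := rfl
theorem F11308 : act 2 n9426 = n6731 := d10_2 D6706 D9426 (iv D6731) (iv D3897) F1119 D1877 (iv F2908)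
def n9427 : Q := act 4 n6706
theorem D9427 : act 4 n6706 = n9427 := rfl
theorem F11309 : act 1 n9427 = n7753 := d6_1 D9427 F11307 F11305
theorem F11310 : act 2 n9427 = n6719 := d8_1 D9427 (iv D6719) F2916 (iv F2883) (iv F6319) F6320 (iv F6367)
def n9428 : Q := act 2 n6707
theorem D9428 : act 2 n6707 = n9428 := rfl
theorem F11311 : act 0 n9428 = n6730 := d1_1 D9428 F6406 D6731 (iv F11308) (iv D9426) F6367 D6707
def n9429 : Q := act 0 n6708
theorem D9429 : act 0 n6708 = n9429 := rfl
def n9430 : Q := act 4 n6712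
theorem D9430 : act 4 n6712 = n9430 := rfl
theorem F11312 : act 0 n9430 = n6714 := d3_1 D9430 (iv D6714) D6712
def n9431 : Q := act 0 n6713
theorem D9431 : act 0 n6713 = n9431 := rfl
theorem F11313 : act 4 n9431 = n7884 := d3_2 F7155 D9431 F8379
theorem F11314 : act 2 n9431 = n7890 := d11_4 D2594 (iv F7154) (iv F6379) D9431 (iv D7890) (iv D4948) F1696
def n9432 : Q := act 3 n6715
theorem D9432 : act 3 n6715 = n9432 := rfl
theorem F11315 : act 1 n9432 = n8978 := d5_1 D9432 (iv D8978) (iv F6381)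
theorem F11316 : act 2 n9432 = n8971 := d7_1 D9432 (iv D8971) (iv F6382)
theorem F11317 : act 0 n9432 = n6748 := d10_1 D9432 (iv F9047) (iv D8251) (iv D5318) D5317 F4318 (iv F6380)
theorem F11318 : act 4 n9432 = n6746 := d12_1 D9432 (iv F11282) (iv D9414) F6323 D6714 F7157 (iv F6380)
def n9433 : Q := act 3 n6716
theorem D9433 : act 3 n6716 = n9433 := rfl
theorem F11319 : act 2 n9433 = n7926 := d7_1 D9433 (iv D7926) (iv F6383)
def n9434 : Q := act 0 n6717
theorem D9434 : act 0 n6717 = n9434 := rfl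
theorem F11320 : act 4 n9434 = n7936 := d3_2 F7556 D9434 (iv D7936)
theorem F11321 : act 2 n9434 = n7941 := d10_2 D6717 D9434 (iv F10321) (iv D8931) F5475 (iv F6383) (iv D6716)
def n9435 : Q := act 2 n6718
theorem D9435 : act 2 n6718 = n9435 := rfl
theorem F11322 : act 0 n9435 = n6728 := d1_1 D9435 F6404 (iv F6388) (iv D6721) (iv D3889) (iv F2916) D6718
def n9436 : Q := act 4 n6718
theorem D9436 : act 4 n6718 = n9436 := rfl
theorem F11323 : act 0 n9436 = n6719 := d3_1 D9436 (iv D6719) D6718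
def n9437 : Q := act 4 n6721
theorem D9437 : act 4 n6721 = n9437 := rfl
theorem F11324 : act 0 n9437 = n6751 := d3_1 D9437 (iv D6751) (iv F6388)
theorem F11325 : act 1 n9437 = n9056 := d6_1 D9437 (iv F10550) F8847
theorem F11326 : act 3 n9437 = n9055 := d9_1 D9437 F11219 F11217 F8259 (iv F10689) F11240 F11238
def n9438 : Q := act 0 n6722
theorem D9438 : act 0 n6722 = n9438 := rfl
theorem F11327 : act 2 n9438 = n8642 := d1_2 (iv F6390) D9438 (iv D8642) F4941 D6058 F9515 F9512
theorem F11328 : act 3 n9438 = n6758 := d2_2 D6722 D9438 (iv F10158) F10160 (iv D6724) (iv D3891) D3890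
theorem F11329 : act 1 n6760 = n9438 := d5_3 F11328 (iv D6758) D6760
def n9439 : Q := act 4 n6722
theorem D9439 : act 4 n6722 = n9439 := rfl
theorem F11330 : act 1 n9439 = n8759 := d6_1 D9439 (iv D8759) (iv F6389)
theorem F11331 : act 2 n9439 = n8639 := d8_1 D9439 (iv D8639) F4935 (iv F4915) (iv F9509) F9511 (iv F6390)
def n9440 : Q := act 3 n6723
theorem D9440 : act 3 n6723 = n9440 := rfl
theorem F11332 : act 1 n9440 = n8760 := d5_1 D9440 (iv D8760) (iv F6392)
theorem F11333 : act 2 n9440 = n8640 := d7_1 D9440 (iv D8640) (iv F6393)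
theorem F11334 : act 4 n9440 = n8630 := d12_1 D9440 (iv F11265) (iv D9407) (iv F6371) F6398 (iv D6726) (iv F6391)
theorem E895 : n8760 = n8754 := ((c6_3 F11334 F9760 D8754 (iv F11332))).symm
theorem F11335 : act 1 n8754 = n9440 := (sb E895 (iv F11332))
theorem F11336 : act 3 n8754 = n5975 := (sb E895 (iv D8760))
theorem E896 : n8640 = n8636 := ((c8_7 F11334 (iv D8630) (iv D5793) F2231 D3118 D5797 D8636 (iv F11333))).symm
theorem F11337 : act 1 n8636 = n9029 := (sb E896 (iv F10518))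
theorem F11338 : act 2 n8636 = n9440 := (sb E896 (iv F11333))
theorem F11339 : act 3 n8636 = n5800 := (sb E896 (iv D8640))
theorem F11340 : act 4 n9029 = n8635 := d6_2 D8636 F11337 (iv D8635)
def n9441 : Q := act 4 n6724
theorem D9441 : act 4 n6724 = n9441 := rfl
theorem F11341 : act 0 n9441 = n6725 := d3_1 D9441 (iv D6725) D6724
theorem F11342 : act 2 n9441 = n8659 := d8_1 D9441 (iv D8659) (iv D5832) (iv F3905) (iv F7653) (iv F7707) F7706
def n9442 : Q := act 0 n6726
theorem D9442 : act 0 n6726 = n9442 := rfl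
theorem F11343 : act 4 n9442 = n8647 := d3_2 F6398 D9442 (iv D8647)
theorem F11344 : act 2 n9442 = n8652 := d11_4 D3132 D5826 F6400 D9442 (iv D8652) (iv D5822) F2242
def n9443 : Q := act 4 n6730
theorem D9443 : act 4 n6730 = n9443 := rfl
theorem F11345 : act 1 n9443 = n8102 := d6_1 D9443 (iv D8102) (iv F6405)
theorem F11346 : act 2 n9443 = n6751 := d8_1 D9443 (iv D6751) (iv F6404) (iv F11271) F11270 F6306 (iv F6406)
def n9444 : Q := act 3 n6732
theorem D9444 : act 3 n6732 = n9444 := rfl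
theorem F11347 : act 1 n9444 = n9235 := d5_1 D9444 F10931 F6462
theorem F11348 : act 2 n9444 = n7497 := d7_1 D9444 (iv F7667) (iv F6407)
def n9445 : Q := act 4 n6732
theorem D9445 : act 4 n6732 = n9445 := rfl
theorem F11349 : act 0 n9445 = n6734 := d3_1 D9445 (iv D6734) D6732
theorem F11350 : act 2 n9445 = n8676 := d8_1 D9445 (iv D8676) (iv D5872) (iv D3179) D3177 D5870 (iv F6407)
def n9446 : Q := act 0 n6735
theorem D9446 : act 0 n6735 = n9446 := rfl
theorem F11351 : act 2 n9446 = n6796 := d1_2 (iv F6412) D9446 (iv D6796) (iv D3953) (iv D1912) D1913 D3956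
def n9447 : Q := act 4 n6735
theorem D9447 : act 4 n6735 = n9447 := rfl
theorem F11352 : act 1 n9447 = n6737 := d6_1 D9447 (iv D6737) D6735
theorem F11353 : act 2 n9447 = n6804 := d8_1 D9447 F9315 (iv D5576) (iv D2973) D2972 (iv F6497) (iv F6412)
def n9448 : Q := act 1 n6738
theorem D9448 : act 1 n6738 = n9448 := rfl
theorem F11354 : act 3 n9448 = n8381 := d5_2 F11257 D9448 (iv F11256)
theorem F11355 : act 4 n9448 = n8683 := d6_2 F9048 D9448 F9868
theorem F11356 : act 2 n9448 = n8382 := d15_6 F10202 (iv F7293) (iv F10404) (iv F11294) F11293 D9448 F9288 (iv F11058) F11057 (iv F10090) F10091 (iv F10201)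
def n9449 : Q := act 1 n6739
theorem D9449 : act 1 n6739 = n9449 := rfl
theorem F11357 : act 2 n9449 = n8449 := d4_2 (iv F6415) D9449 F10661 F10659 F5765 (iv F6437) F6436
theorem F11358 : act 4 n9449 = n8445 := d6_2 F9046 D9449 F9370
def n9450 : Q := act 4 n6742
theorem D9450 : act 4 n6742 = n9450 := rfl
theorem F11359 : act 0 n9450 = n6745 := d3_1 D9450 (iv D6745) D6742
theorem F11360 : act 1 n9450 = n8843 := d6_1 D9450 (iv D8843) (iv F6424)
theorem F11361 : act 2 n9450 = n8519 := d8_1 D9450 F9549 (iv D5913) (iv F3686) D7561 (iv F10903) F10902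
theorem F11362 : act 3 n9450 = n8518 := d9_1 D9450 (iv F10835) F10834 F6263 D8521 (iv F10897) (iv F10899)
def n9451 : Q := act 0 n6747
theorem D9451 : act 0 n6747 = n9451 := rfl
theorem F11363 : act 4 n9451 = n8692 := d3_2 F7281 D9451 F9895
theorem F11364 : act 2 n9451 = n8695 := d11_4 D3210 D5911 (iv F7279) D9451 (iv D8695) (iv D5907) F2309
def n9452 : Q := act 0 n6749
theorem D9452 : act 0 n6749 = n9452 := rfl
theorem F11365 : act 4 n9452 = n8454 := d3_2 (iv F6439) D9452 F9380
theorem F11366 : act 2 n9452 = n7428 := d10_2 (iv F6442) D9452 (iv F9481) (iv D8497) F4641 (iv F9225) (iv D8345)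
theorem F11367 : act 3 n7427 = n9452 := d7_0 F11366 (iv D7428) D7427
def n9453 : Q := act 2 n6752
theorem D9453 : act 2 n6752 = n9453 := rfl
theorem F11368 : act 0 n9453 = n6759 := d1_1 D9453 (iv D6759) (iv D3922) (iv D1892) D1891 D3919 D6752
theorem F11369 : act 1 n9453 = n9446 := d4_1 D9453 F11351 F6523 (iv F5991) (iv F6458) (iv D6771) (iv F6448)
def n9454 : Q := act 4 n6752
theorem D9454 : act 4 n6752 = n9454 := rfl
theorem F11370 : act 0 n9454 = n6755 := d3_1 D9454 (iv D6755) D6752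
theorem F11371 : act 1 n9454 = n6772 := d6_1 D9454 (iv D6772) (iv F6448)
def n9455 : Q := act 3 n6753
theorem D9455 : act 3 n6753 = n9455 := rfl
theorem F11372 : act 0 n9455 = n8761 := d2_1 D9455 F10622 F10620 (iv D6744) D6742 F10899 F10896
theorem F11373 : act 1 n9455 = n6754 := d5_1 D9455 (iv D6754) D6753
theorem F11374 : act 2 n9455 = n9216 := d7_1 D9455 (iv D9216) (iv F6449)
def n9456 : Q := act 4 n6754
theorem D9456 : act 4 n6754 = n9456 := rfl
theorem F11375 : act 0 n9456 = n8767 := d3_1 D9456 (iv D8767) F8215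
def n9457 : Q := act 2 n6755
theorem D9457 : act 2 n6755 = n9457 := rfl
theorem F11376 : act 0 n9457 = n6765 := d11_3 D3919 D6755 D9457 (iv D6765) (iv D3925) (iv D1892) D1891
def n9458 : Q := act 3 n6755
theorem D9458 : act 3 n6755 = n9458 := rfl
def n9459 : Q := act 2 n6756
theorem D9459 : act 2 n6756 = n9459 := rfl
theorem F11377 : act 0 n9459 = n6760 := d10_3 D3920 D6756 D9459 (iv D6760) (iv D3922) (iv D1892) D1891
def n9460 : Q := act 0 n6757
theorem D9460 : act 0 n6757 = n9460 := rfl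
theorem F11378 : act 1 n9460 = n7322 := d13_2 D6757 D9460 (iv D7322) (iv D4462) F1368 F493 F174 (iv F3382) (iv F429) (iv F1126) (iv F2938)
def n9461 : Q := act 1 n6757
theorem D9461 : act 1 n6757 = n9461 := rfl
theorem F11379 : act 2 n9461 = n8307 := d4_2 D6757 D9461 F9164 (iv F9430) F9428 (iv F6422) F6421
def n9462 : Q := act 4 n6757
theorem D9462 : act 4 n6757 = n9462 := rfl
def n9463 : Q := act 4 n6758
theorem D9463 : act 4 n6758 = n9463 := rfl
theorem F11380 : act 1 n9463 = n6761 := d6_1 D9463 (iv D6761) D6758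
theorem F11381 : act 2 n9463 = n9173 := d8_1 D9463 (iv F10788) (iv D7344) (iv D4496) D4494 D7343 F7447
def n9464 : Q := act 3 n6759
theorem D9464 : act 3 n6759 = n9464 := rfl
theorem F11382 : act 1 n9464 = n8940 := d5_1 D9464 (iv D8940) (iv F6451)
theorem F11383 : act 2 n9464 = n6760 := d7_1 D9464 (iv D6760) D6759
theorem F11384 : act 0 n9464 = n8765 := d10_1 D9464 (iv D8765) F8215 (iv D6754) D6752 D9453 F11368
def n9465 : Q := act 4 n6759
theorem D9465 : act 4 n6759 = n9465 := rfl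
theorem F11385 : act 1 n9465 = n8941 := d6_1 D9465 (iv D8941) (iv F6451)
theorem F11386 : act 2 n9465 = n6768 := d11_2 D6759 D9465 (iv D6768) (iv D3927) (iv D1894) D1892 D3922
def n9466 : Q := act 1 n6763
theorem D9466 : act 1 n6763 = n9466 := rfl
def n9467 : Q := act 2 n6763
theorem D9467 : act 2 n6763 = n9467 := rfl
def n9468 : Q := act 3 n6763
theorem D9468 : act 3 n6763 = n9468 := rfl
def n9469 : Q := act 4 n6765
theorem D9469 : act 4 n6765 = n9469 := rfl
theorem F11387 : act 1 n9469 = n8429 := d6_1 D9469 F9354 (iv F6455)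
theorem F11388 : act 2 n9469 = n6770 := d8_1 D9469 (iv D6770) (iv D3927) (iv D1894) D1892 D3925 D6765
def n9470 : Q := act 4 n6767
theorem D9470 : act 4 n6767 = n9470 := rfl
theorem F11389 : act 1 n9470 = n7580 := d6_1 D9470 (iv F10881) F10880
def n9471 : Q := act 1 n6768
theorem D9471 : act 1 n6768 = n9471 := rfl
theorem F11390 : act 0 n9471 = n8042 := d13_3 D3927 D6768 D9471 F8670 (iv F8536) F8537 F4615 F2935 (iv F6420) F6421 F2938
theorem F11391 : act 2 n9471 = n7994 := d15_6 F7428 (iv F5746) (iv F6456) (iv D6769) D6768 D9471 F8563 (iv F8658) (iv D7333) (iv D4478) D4479 D7336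
theorem F11392 : act 3 n7982 = n9471 := d7_0 F11391 (iv D7994) (iv F8539)
def n9472 : Q := act 3 n6768
theorem D9472 : act 3 n6768 = n9472 := rfl
theorem F11393 : act 1 n9472 = n7982 := d5_1 D9472 F11392 (iv D9471)
def n9473 : Q := act 4 n6768
theorem D9473 : act 4 n6768 = n9473 := rfl
theorem F11394 : act 0 n9473 = n6770 := d3_1 D9473 (iv D6770) D6768
def n9474 : Q := act 4 n6771
theorem D9474 : act 4 n6771 = n9474 := rfl
theorem F11395 : act 0 n9474 = n6785 := d3_1 D9474 (iv D6785) (iv F6457)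
theorem F11396 : act 1 n9474 = n9180 := d6_1 D9474 F10798 (iv F6458)
theorem F11397 : act 2 n9474 = n6778 := d11_2 D6771 D9474 (iv D6778) (iv D3939) (iv D1907) D1906 D3936
def n9475 : Q := act 4 n6773
theorem D9475 : act 4 n6773 = n9475 := rfl
theorem F11398 : act 0 n9475 = n6775 := d3_1 D9475 (iv D6775) D6773
theorem F11399 : act 1 n9475 = n8521 := d6_1 D9475 (iv F10897) F10898
theorem F11400 : act 3 n9475 = n8520 := d9_1 D9475 F9541 (iv F6028) D9242 F10948 (iv D8843) (iv F6461)
def n9476 : Q := act 4 n6774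
theorem D9476 : act 4 n6774 = n9476 := rfl
theorem F11401 : act 0 n9476 = n8667 := d3_1 D9476 F9834 F6463
theorem F11402 : act 1 n9476 = n9445 := d6_1 D9476 (iv D9445) (iv F6462)
def n9477 : Q := act 4 n6781
theorem D9477 : act 4 n6781 = n9477 := rfl
theorem F11403 : act 0 n9477 = n6784 := d3_1 D9477 (iv D6784) D6781
theorem F11404 : act 1 n9477 = n8259 := d6_1 D9477 (iv F10340) F10338
theorem F11405 : act 3 n9477 = n8837 := d9_1 D9477 F11014 (iv D9274) D9275 F11017 (iv D8836) (iv F6471)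
def n9478 : Q := act 4 n6797
theorem D9478 : act 4 n6797 = n9478 := rfl
theorem F11406 : act 0 n9478 = n7561 := d3_1 D9478 (iv F10903) F10900
theorem F11407 : act 1 n9478 = n6798 := d6_1 D9478 (iv D6798) D6797
theorem F11408 : act 3 n9478 = n8542 := d9_1 D9478 F10565 F10564 (iv F6191) D8525 (iv F10617) (iv F10618)
theorem F11409 : act 2 n9478 = n8311 := d11_2 F10155 D9478 (iv D8311) (iv F7798) F7795 F5984 D8839
def n9479 : Q := act 2 n6798
theorem D9479 : act 2 n6798 = n9479 := rfl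
theorem F11410 : act 0 n9479 = n6803 := d1_1 D9479 (iv D6803) F6496 (iv D2972) D2971 D5571 (iv F9414)
def n9480 : Q := act 2 n6799
theorem D9480 : act 2 n6799 = n9480 := rfl
theorem F11411 : act 0 n9480 = n6802 := d1_1 D9480 (iv F10635) (iv D9097) (iv D6324) D6323 (iv F6525) D6799
theorem F11412 : act 4 n8399 = n9480 := d3_0 F11411 F6530 D8399
def n9481 : Q := act 0 n6800
theorem D9481 : act 0 n6800 = n9481 := rfl
theorem F11413 : act 1 n9481 = n7357 := d13_2 D6800 D9481 (iv D7357) (iv D4512) F1398 F507 F176 (iv F3387) (iv F432) (iv F1139) (iv F2954)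
theorem F11414 : act 2 n8316 = n7358 := d15_8 (iv D6800) F2954 D3958 D6805 F6533 (iv F9081) F9083 (iv F9177) (iv D7358) D7357 (iv F11413) (iv D9481)
def n9482 : Q := act 1 n6800
theorem D9482 : act 1 n6800 = n9482 := rfl
theorem F11415 : act 0 n9482 = n8695 := d17_12 (iv D8695) D8694 F9896 (iv D6489) D6488 (iv F10901) F10900 (iv D6797) (iv D3953) D3955 D6800 D9482
theorem F11416 : act 4 n8693 = n9482 := d17_0 (iv D9482) (iv D6800) (iv D3955) D3953 D6797 (iv F10900) F10901 (iv D6488) D6489 (iv F9896) (iv D8694) D8693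
def n9483 : Q := act 4 n6800
theorem D9483 : act 4 n6800 = n9483 := rfl
theorem F11417 : act 1 n9483 = n8693 := d6_1 D9483 F11416 (iv D9482)
theorem F11418 : act 0 n8468 = n9483 := d13_1 D8468 F11417 (iv D8693) (iv D5907) F2309 F826 (iv F634) (iv F2173) F1517 (iv F2010) (iv F4577)
theorem F11419 : act 4 n9481 = n8468 := d3_0 F11418 (iv D9483) D9481
def n9484 : Q := act 4 n6803
theorem D9484 : act 4 n6803 = n9484 := rfl
theorem F11420 : act 1 n9484 = n8427 := d6_1 D9484 (iv D8427) (iv F6531)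
theorem F11421 : act 2 n9484 = n6806 := d8_1 D9484 (iv D6806) (iv D3958) (iv D1914) D1913 D3957 D6803
theorem F11422 : act 3 n9484 = n8199 := d9_1 D9484 (iv F11094) F11093 (iv F10968) F10967 (iv F11135) F11134
def n9485 : Q := act 1 n6804
theorem D9485 : act 1 n6804 = n9485 := rfl
theorem F11423 : act 0 n9485 = n7414 := d0_1 D9485 F7546 (iv F9080) F9081 (iv F6533) (iv D6805) D6804
theorem F11424 : act 2 n9485 = n8338 := d4_2 F11353 D9485 F9211 F6443 (iv D6749) (iv F6414) (iv F11352)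
theorem F11425 : act 4 n9485 = n8469 := d6_2 (iv F9315) D9485 (iv D8469)
theorem F11426 : act 3 n7392 = n9485 := d7_0 F11424 (iv D8338) (iv F7513)
def n9486 : Q := act 3 n6804
theorem D9486 : act 3 n6804 = n9486 := rfl
theorem F11427 : act 1 n9486 = n7392 := d5_1 D9486 F11426 (iv D9485)
theorem F11428 : act 4 n9486 = n8393 := d9_2 (iv F9315) D9486 F9302 (iv F6219) D9340 F11139 F9321
def n9487 : Q := act 4 n6810
theorem D9487 : act 4 n6810 = n9487 := rfl
theorem F11429 : act 0 n9487 = n6893 := d3_1 D9487 F6704 (iv F6550)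
theorem F11430 : act 1 n9487 = n8379 := d6_1 D9487 (iv D8379) (iv F6548)
theorem F11431 : act 2 n9487 = n6814 := d8_1 D9487 (iv D6814) (iv F6554) (iv F9402) F9401 (iv D6845) (iv F6549)
theorem F11432 : act 3 n9487 = n7340 := d9_1 D9487 (iv D7340) (iv F6547) (iv D6809) (iv D3978) D3979 D6810
def n9488 : Q := act 2 n6815
theorem D9488 : act 2 n6815 = n9488 := rfl
theorem F11433 : act 3 n9488 = n8258 := d7_2 (iv F6559) D9488 (iv D8258)
theorem F11434 : act 4 n9488 = n9341 := d8_2 D6815 D9488 F11142 F10845 (iv D6818) (iv D3985) (iv F2975)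
theorem F11435 : act 1 n9488 = n9342 := d17_5 (iv D1932) (iv F1151) (iv F2975) D6815 D9488 F11143 F9990 (iv F9943) (iv D8713) (iv D5935) (iv F2984) F2983
theorem E897 : n9458 = n9342 := ((c5_2 (iv F11433) F11435 (iv D9458) F9053)).symm
theorem F11436 : act 3 n9342 = n6755 := (sb E897 (iv D9458))
theorem E898 : n9456 = n9344 := (c9_5 D9342 F11436 (iv D6755) D6754 D9456 (iv D9344) (iv D6631) D6630)
theorem F11437 : act 0 n9344 = n8767 := (sb E898 F11375)
theorem F11438 : act 4 n9344 = n6754 := (sb E898 (iv D9456))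
def n9489 : Q := act 3 n6816
theorem D9489 : act 3 n6816 = n9489 := rfl
theorem F11439 : act 1 n9489 = n9344 := d5_1 D9489 (iv D9344) F6561
theorem F11440 : act 2 n9489 = n6817 := d7_1 D9489 (iv D6817) D6816
theorem F11441 : act 4 n9489 = n9455 := d9_2 (iv F6560) D9489 (iv D9455) (iv F9052) (iv F11433) F11434 (iv D9341)
def n9490 : Q := act 4 n6817
theorem D9490 : act 4 n6817 = n9490 := rfl
theorem F11442 : act 1 n9490 = n9128 := d6_1 D9490 (iv D9128) (iv F6562)
theorem F11443 : act 2 n9490 = n6820 := d8_1 D9490 (iv D6820) (iv F6563) (iv F10887) (iv F11374) (iv F11441) F11440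
theorem F11444 : act 3 n9490 = n7342 := d9_1 D9490 (iv F7443) (iv F6559) (iv D6815) (iv D3983) D3984 D6817
def n9491 : Q := act 1 n6824
theorem D9491 : act 1 n6824 = n9491 := rfl
theorem F11445 : act 0 n9491 = n7719 := d16_6 D4903 D7816 F8255 F6601 (iv F6573) D9491 (iv D7719) (iv D4835) (iv D2518) F597 (iv F614) (iv F1673)
theorem F11446 : act 4 n7719 = n9491 := d17_0 (iv D9491) F6573 (iv D3998) (iv D1936) (iv F1532) F918 F1532 D1936 D3998 (iv F6573) D9491 F11445
theorem F11447 : act 3 n7762 = n9491 := d16_2 (iv F8116) (iv F8150) (iv D9491) F6573 (iv F6601) (iv F8269) F8271 (iv D4915) F1676 (iv F1623) (iv F3826) D7725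
def n9492 : Q := act 3 n6824
theorem D9492 : act 3 n6824 = n9492 := rfl
theorem F11448 : act 0 n9492 = n6882 := d2_1 D9492 (iv D6882) (iv D4039) D4041 (iv F6579) (iv D6826) D6824
theorem F11449 : act 1 n9492 = n7762 := d5_1 D9492 F11447 (iv D9491)
theorem F11450 : act 2 n9492 = n6836 := d7_1 D9492 (iv D6836) (iv F6573)
theorem F11451 : act 4 n7754 = n9492 := d8_0 F11450 F7739 (iv D7535) (iv D4665) D4664 D7534 (iv F8148)
def n9493 : Q := act 4 n6824
theorem D9493 : act 4 n6824 = n9493 := rfl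
theorem F11452 : act 0 n9493 = n6827 := d3_1 D9493 (iv D6827) D6824
theorem F11453 : act 1 n9493 = n7719 := d6_1 D9493 F11446 (iv D9491)
theorem F11454 : act 2 n9493 = n6838 := d8_1 D9493 (iv D6838) (iv D3999) (iv D1938) D1936 D3998 (iv F6573)
theorem F11455 : act 3 n9493 = n7717 := d12_2 (iv D9492) D9493 F8107 F6686 (iv D6883) D6882 (iv F11448)
def n9494 : Q := act 2 n6825
theorem D9494 : act 2 n6825 = n9494 := rfl
theorem F11456 : act 3 n9494 = n8435 := d7_2 F6576 D9494 (iv D8435)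
theorem F11457 : act 0 n9494 = n8406 := d10_3 D5511 (iv F6574) D9494 (iv D8406) (iv D5512) (iv D2930) D2929
def n9495 : Q := act 0 n6828
theorem D9495 : act 0 n6828 = n9495 := rfl
theorem F11458 : act 3 n9495 = n8443 := d10_4 (iv D5518) (iv F2985) D6828 D9495 (iv D8443) F4570 (iv F4552)
theorem F11459 : act 1 n9495 = n8590 := d13_2 D6828 D9495 (iv D8590) (iv D5728) F2148 F780 F283 (iv F264) (iv F741) (iv F1986) (iv F2985)
def n9496 : Q := act 3 n6828
theorem D9496 : act 3 n6828 = n9496 := rfl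
theorem F11460 : act 0 n9496 = n8438 := d2_1 D9496 (iv D8438) (iv D5550) D5552 D8443 (iv F11458) (iv D9495)
theorem F11461 : act 2 n9496 = n6829 := d7_1 D9496 (iv D6829) D6828
def n9497 : Q := act 4 n6828
theorem D9497 : act 4 n6828 = n9497 := rfl
def n9498 : Q := act 1 n6830
theorem D9498 : act 1 n6830 = n9498 := rfl
theorem F11462 : act 3 n9498 = n7720 := d5_2 F7603 D9498 F8111
theorem F11463 : act 0 n9498 = n7761 := d16_6 (iv F3888) (iv F7600) (iv F7602) (iv D6867) (iv F6589) D9498 (iv D7761) (iv D4864) (iv D2533) F605 D1218 D2751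
theorem F11464 : act 4 n7761 = n9498 := d17_0 (iv D9498) F6589 (iv F6633) (iv D6855) (iv F3871) F3870 F3871 D6855 F6633 (iv F6589) D9498 F11463
def n9499 : Q := act 4 n6830
theorem D9499 : act 4 n6830 = n9499 := rfl
theorem F11465 : act 0 n9499 = n6831 := d3_1 D9499 (iv D6831) D6830
theorem F11466 : act 1 n9499 = n7761 := d6_1 D9499 F11464 (iv D9498)
theorem F11467 : act 2 n9499 = n6854 := d8_1 D9499 (iv D6854) (iv D4012) D4013 D6855 F6633 (iv F6589)
theorem F11468 : act 3 n9499 = n7754 := d9_1 D9499 F11451 (iv D9492) D9493 F11455 (iv F8109) F7603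
def n9500 : Q := act 2 n6833
theorem D9500 : act 2 n6833 = n9500 := rfl
theorem F11469 : act 0 n9500 = n6861 := d1_1 D9500 F6643 (iv F6632) (iv D6855) F3000 (iv F4709) (iv F6594)
theorem F11470 : act 3 n9500 = n8120 := d7_2 F7751 D9500 F8811
theorem F11471 : act 4 n9500 = n6851 := d8_2 D6833 D9500 (iv D6851) D6852 (iv F8835) F8837 (iv D6832)
theorem F11472 : act 1 n8111 = n9500 := d16_3 F4160 (iv F4167) (iv F8796) (iv D9500) F6595 F5158 (iv F5151) F5150 F3667 (iv F3675) (iv F7769) F7768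
def n9501 : Q := act 4 n6834
theorem D9501 : act 4 n6834 = n9501 := rfl
theorem F11473 : act 0 n9501 = n9051 := d3_1 D9501 (iv D9051) (iv F6597)
theorem F11474 : act 3 n9501 = n7635 := d12_2 (iv F6596) D9501 (iv D7635) F3891 (iv D4904) F3583 D4740
def n9502 : Q := act 2 n6835
theorem D9502 : act 2 n6835 = n9502 := rfl
def n9503 : Q := act 2 n6837
theorem D9503 : act 2 n6837 = n9503 := rfl
theorem F11475 : act 3 n9503 = n7929 := d7_2 F7733 D9503 F8441
def n9504 : Q := act 4 n6837
theorem D9504 : act 4 n6837 = n9504 := rfl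
theorem F11476 : act 1 n9504 = n6838 := d6_1 D9504 (iv D6838) D6837
def n9505 : Q := act 4 n6840
theorem D9505 : act 4 n6840 = n9505 := rfl
theorem F11477 : act 3 n9505 = n6848 := d12_2 (iv F6605) D9505 F6624 (iv F5108) (iv D5908) F3475 F3476
def n9506 : Q := act 3 n6842
theorem D9506 : act 3 n6842 = n9506 := rfl
theorem F11478 : act 0 n9506 = n7077 := d2_1 D9506 F9673 (iv D7865) (iv D4935) D4933 (iv F6609) (iv F6608)
theorem F11479 : act 2 n9506 = n6843 := d7_1 D9506 (iv D6843) D6842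
def n9507 : Q := act 4 n6842
theorem D9507 : act 4 n6842 = n9507 := rfl
theorem F11480 : act 0 n9507 = n7069 := d3_1 D9507 (iv D7069) (iv F6608)
theorem F11481 : act 2 n9507 = n7062 := d11_2 D6842 D9507 (iv D7062) (iv D4183) (iv D2047) D2045 (iv F2994)
def n9508 : Q := act 4 n6843
theorem D9508 : act 4 n6843 = n9508 := rfl
theorem F11482 : act 0 n9508 = n7088 := d3_1 D9508 (iv D7088) (iv F6612)
theorem F11483 : act 1 n9508 = n6845 := d6_1 D9508 (iv D6845) (iv F6611)
theorem F11484 : act 3 n9508 = n7319 := d12_2 D6843 D9508 F7412 F3922 (iv D4932) F3813 (iv F2994)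
def n9509 : Q := act 3 n6844
theorem D9509 : act 3 n6844 = n9509 := rfl
theorem F11485 : act 0 n9509 = n7332 := d2_1 D9509 F8344 F8343 (iv F3919) (iv F3981) F3982 (iv F6615)
theorem F11486 : act 1 n9509 = n6846 := d5_1 D9509 (iv D6846) (iv F6616)
theorem F11487 : act 4 n9509 = n6894 := d9_2 D6844 D9509 F6706 D7319 (iv F11484) (iv D9508) (iv D6843)
def n9510 : Q := act 4 n6847
theorem D9510 : act 4 n6847 = n9510 := rfl
theorem F11488 : act 3 n9510 = n7341 := d9_1 D9510 (iv D7341) (iv F6605) D9505 F11477 (iv D6848) D6847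
def n9511 : Q := act 2 n6848
theorem D9511 : act 2 n6848 = n9511 := rfl
theorem F11489 : act 4 n9511 = n9350 := d8_2 D6848 D9511 F11153 (iv D8277) F4775 (iv D4008) D4006
theorem F11490 : act 1 n9352 = n9511 := d17_1 D9352 (iv D9511) (iv D6848) (iv D4006) (iv D1941) D1940 D4003 D6842 D9507 F11481 (iv F11152) (iv D9349)
def n9512 : Q := act 2 n6850
theorem D9512 : act 2 n6850 = n9512 := rfl
def n9513 : Q := act 2 n6853
theorem D9513 : act 2 n6853 = n9513 := rfl
theorem F11491 : act 3 n9513 = n7891 := d7_2 F7605 D9513 F8391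
def n9514 : Q := act 4 n6853
theorem D9514 : act 4 n6853 = n9514 := rfl
theorem F11492 : act 1 n9514 = n6854 := d6_1 D9514 (iv D6854) D6853
def n9515 : Q := act 1 n6855
theorem D9515 : act 1 n6855 = n9515 := rfl
theorem F11493 : act 4 n9515 = n6867 := d6_2 (iv F6633) D9515 (iv D6867)
def n9516 : Q := act 4 n6856
theorem D9516 : act 4 n6856 = n9516 := rfl
theorem F11494 : act 1 n9516 = n9374 := d6_1 D9516 (iv D9374) (iv F6634)
theorem F11495 : act 2 n9516 = n6858 := d8_1 D9516 (iv D6858) (iv D4016) (iv D1949) D1947 D4015 D6856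
def n9517 : Q := act 4 n6857
theorem D9517 : act 4 n6857 = n9517 := rfl
theorem F11496 : act 0 n9517 = n7143 := d3_1 D9517 F7080 (iv F7081)
theorem F11497 : act 1 n9517 = n6858 := d6_1 D9517 (iv D6858) D6857
theorem F11498 : act 2 n9517 = n8885 := d8_1 D9517 (iv D8885) (iv F6711) (iv F6712) F5929 D8907 F10264
def n9518 : Q := act 4 n6860
theorem D9518 : act 4 n6860 = n9518 := rfl
theorem F11499 : act 0 n9518 = n8111 := d3_1 D9518 (iv D8111) (iv F6639)
theorem F11500 : act 1 n9518 = n6861 := d6_1 D9518 (iv D6861) (iv F6640)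
theorem F11501 : act 3 n9518 = n7345 := d9_1 D9518 (iv D7345) (iv F6637) (iv D6859) (iv D4017) D4018 D6860
theorem F11502 : act 2 n8863 = n9518 := d7_3 F11501 F7451 (iv F10190)
def n9519 : Q := act 2 n6867
theorem D9519 : act 2 n6867 = n9519 := rfl
def n9520 : Q := act 3 n6868
theorem D9520 : act 3 n6868 = n9520 := rfl
theorem F11503 : act 1 n9520 = n7418 := d5_1 D9520 (iv F9471) F9470
theorem F11504 : act 2 n9520 = n9144 := d7_1 D9520 (iv F10733) F6658
theorem F11505 : act 4 n9520 = n7364 := d12_1 D9520 (iv D7364) (iv D4518) (iv F3125) (iv F5752) F4272 D6868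
def n9521 : Q := act 0 n6869
theorem D9521 : act 0 n6869 = n9521 := rfl
theorem F11506 : act 4 n9521 = n7024 := d3_2 (iv F6657) D9521 F6867
theorem F11507 : act 2 n9521 = n7033 := d11_4 D2037 (iv F4377) D6869 D9521 (iv D7033) (iv D4151) F1237
def n9522 : Q := act 4 n6870
theorem D9522 : act 4 n6870 = n9522 := rfl
theorem F11508 : act 1 n9522 = n6871 := d6_1 D9522 (iv D6871) D6870
theorem F11509 : act 3 n9522 = n9130 := d12_2 (iv F6660) D9522 (iv D9130) (iv D6366) (iv D3583) D3582 D6364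
def n9523 : Q := act 2 n6871
theorem D9523 : act 2 n6871 = n9523 := rfl
theorem F11510 : act 1 n9523 = n9375 := d16_5 D6366 D9130 (iv F11509) F11508 D9523 (iv D9375) (iv D6653) D6651 (iv F6634) (iv D6856) (iv F5816) F5815
def n9524 : Q := act 1 n6872
theorem D9524 : act 1 n6872 = n9524 := rfl
def n9525 : Q := act 4 n6872
theorem D9525 : act 4 n6872 = n9525 := rfl
def n9526 : Q := act 4 n6875
theorem D9526 : act 4 n6875 = n9526 := rfl
theorem F11511 : act 0 n9526 = n8120 := d3_1 D9526 (iv D8120) (iv F6669)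
theorem F11512 : act 1 n9526 = n7786 := d6_1 D9526 F8197 (iv F6670)
theorem F11513 : act 2 n9526 = n6880 := d8_1 D9526 (iv D6880) (iv F6674) (iv F8186) F8184 (iv D6897) (iv F6671)
theorem F11514 : act 3 n9526 = n6893 := d9_1 D9526 F6704 (iv F6668) (iv D6874) (iv D4034) D4035 D6875
def n9527 : Q := act 2 n6881
theorem D9527 : act 2 n6881 = n9527 := rfl
theorem F11515 : act 3 n9527 = n7758 := d7_2 F6679 D9527 (iv D7758)
theorem F11516 : act 0 n9527 = n7735 := d10_3 D4843 (iv F6677) D9527 (iv D7735) (iv D4845) (iv D2522) D2521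
def n9528 : Q := act 4 n6884
theorem D9528 : act 4 n6884 = n9528 := rfl
theorem F11517 : act 0 n9528 = n8421 := d3_1 D9528 (iv D8421) (iv F6688)
theorem F11518 : act 1 n9528 = n7011 := d6_1 D9528 (iv F8956) F8954
theorem F11519 : act 3 n9528 = n6886 := d12_2 (iv F6687) D9528 F6691 (iv F9346) (iv D8424) (iv F7253) F7254
theorem F11520 : act 2 n9160 = n9528 := d7_3 F11519 F6693 D9160
def n9529 : Q := act 4 n6885
theorem D9529 : act 4 n6885 = n9529 := rfl
theorem F11521 : act 0 n9529 = n8422 := d3_1 D9529 F9344 (iv F6689)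
theorem F11522 : act 1 n9529 = n7044 := d6_1 D9529 (iv F8982) F8980
theorem F11523 : act 3 n9529 = n7361 := d9_1 D9529 (iv F7471) (iv F6687) D9528 F11519 (iv D6886) D6885
theorem F11524 : act 2 n9162 = n9529 := d7_3 F11523 F7469 D9162
def n9530 : Q := act 2 n6887
theorem D9530 : act 2 n6887 = n9530 := rfl
theorem F11525 : act 3 n9530 = n7732 := d7_2 (iv F6694) D9530 (iv D7732)
theorem F11526 : act 0 n9530 = n7751 := d10_3 D4861 (iv F6695) D9530 (iv D7751) (iv D4855) F1633 D2531
def n9531 : Q := act 1 n6889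
theorem D9531 : act 1 n6889 = n9531 := rfl
def n9532 : Q := act 4 n6889
theorem D9532 : act 4 n6889 = n9532 := rfl
def n9533 : Q := act 2 n6890
theorem D9533 : act 2 n6890 = n9533 := rfl
def n9534 : Q := act 1 n6893
theorem D9534 : act 1 n6893 = n9534 := rfl
theorem F11527 : act 3 n9534 = n7786 := d5_2 F11514 D9534 (iv F11512)
theorem F11528 : act 4 n9534 = n6905 := d6_2 (iv F6704) D9534 (iv D6905)
theorem F11529 : act 0 n9534 = n8379 := d14_3 F6701 D6893 D9534 (iv F11430) F11431 (iv F10920) F10919 (iv F7824) F7825 (iv F8882) F8881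
theorem F11530 : act 2 n9302 = n9534 := d10_2 (iv F6156) (iv F11072) F11529 F9285 (iv D5577) D5578 F4579
def n9535 : Q := act 2 n6894
theorem D9535 : act 2 n6894 = n9535 := rfl
theorem F11531 : act 0 n9535 = n7329 := d1_1 D9535 (iv D7329) (iv D4471) F1369 D2224 D4476 (iv F6705)
theorem F11532 : act 3 n9535 = n7318 := d7_2 (iv F6706) D9535 (iv D7318)
def n9536 : Q := act 1 n6895
theorem D9536 : act 1 n6895 = n9536 := rfl
theorem F11533 : act 2 n9536 = n9304 := d4_2 D6895 D9536 (iv D9304) (iv F6663) F6662 F3024 D4053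
def n9537 : Q := act 4 n6895
theorem D9537 : act 4 n6895 = n9537 := rfl
theorem F11534 : act 0 n9537 = n9269 := d3_1 D9537 F11004 F9855
theorem F11535 : act 2 n9537 = n9466 := d17_4 (iv D4055) D4053 D6895 D9537 (iv D9466) (iv D6763) (iv F5968) (iv D6470) F4992 (iv D5842) F2258 (iv F3045)
def n9538 : Q := act 2 n6896
theorem D9538 : act 2 n6896 = n9538 := rfl
theorem F11536 : act 3 n9538 = n8061 := d7_2 F9650 D9538 (iv F9649)
def n9539 : Q := act 3 n6899
theorem D9539 : act 3 n6899 = n9539 := rfl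
theorem F11537 : act 1 n9539 = n6900 := d5_1 D9539 (iv D6900) D6899
theorem F11538 : act 2 n9539 = n8884 := d7_1 D9539 (iv D8884) (iv F6711)
theorem F11539 : act 4 n9539 = n9219 := d9_2 F6712 D9539 (iv D9219) (iv F7363) (iv F9761) (iv F10855) (iv D9203)
def n9540 : Q := act 1 n6903
theorem D9540 : act 1 n6903 = n9540 := rfl
theorem F11540 : act 2 n9540 = n9306 := d4_2 D6903 D9540 (iv D9306) F6723 (iv D6905) (iv D4066) D4065
def n9541 : Q := act 4 n6903
theorem D9541 : act 4 n6903 = n9541 := rfl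
theorem F11541 : act 0 n9541 = n9279 := d3_1 D9541 F11029 F9675
theorem F11542 : act 2 n9541 = n9360 := d17_4 (iv D4068) D4065 D6903 D9541 (iv D9360) (iv D6642) (iv F6232) F6233 F5000 (iv D5848) (iv F2274) (iv F3053)
def n9542 : Q := act 2 n6904
theorem D9542 : act 2 n6904 = n9542 := rfl
theorem F11543 : act 3 n9542 = n8084 := d7_2 F9657 D9542 (iv F9656)
def n9543 : Q := act 4 n6908
theorem D9543 : act 4 n6908 = n9543 := rfl
theorem F11544 : act 0 n9543 = n8092 := d3_1 D9543 F8768 (iv F6726)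
theorem F11545 : act 1 n9543 = n7544 := d6_1 D9543 F7760 F7495
theorem F11546 : act 2 n9543 = n6912 := d8_1 D9543 (iv D6912) (iv F6732) (iv F7455) F7454 (iv F6855) F6854
theorem F11547 : act 3 n9543 = n7366 := d9_1 D9543 F7477 F7457 (iv D6907) (iv D4072) D4073 D6908
def n9544 : Q := act 2 n6913
theorem D9544 : act 2 n6913 = n9544 := rfl
theorem F11548 : act 0 n9544 = n6960 := d1_1 D9544 (iv D6960) F3081 D4103 D6962 F6792 (iv F6736)
def n9545 : Q := act 3 n6913
theorem D9545 : act 3 n6913 = n9545 := rfl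
theorem F11549 : act 0 n9545 = n6922 := d12_3 D4077 D6913 D9545 (iv D6922) (iv D4082) (iv D1998) D1996
theorem F11550 : act 4 n7367 = n9545 := d3_0 F11549 F10808 D7367
def n9546 : Q := act 1 n6914
theorem D9546 : act 1 n6914 = n9546 := rfl
theorem F11551 : act 0 n9546 = n8796 := d0_1 D9546 F10066 F5263 (iv F5804) F5806 F4465 (iv F6737)
theorem F11552 : act 4 n8795 = n9546 := d17_0 (iv D9546) (iv D6914) (iv D4078) (iv F2649) (iv F2751) F2750 F1057 (iv D1539) D1541 D3281 D6010 D8795
def n9547 : Q := act 3 n6914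
theorem D9547 : act 3 n6914 = n9547 := rfl
theorem F11553 : act 2 n9547 = n6915 := d7_1 D9547 (iv D6915) D6914
theorem F11554 : act 0 n9547 = n6971 := d10_1 D9547 (iv D6971) (iv D4108) (iv D2010) (iv F1227) D4097 (iv F6737)
def n9548 : Q := act 4 n6914
theorem D9548 : act 4 n6914 = n9548 := rfl
theorem F11555 : act 0 n9548 = n6952 := d3_1 D9548 (iv D6952) (iv F6737)
theorem F11556 : act 1 n9548 = n8795 := d6_1 D9548 F11552 (iv D9546)
theorem F11557 : act 2 n9548 = n6937 := d8_1 D9548 (iv D6937) (iv F5833) (iv D6375) F2649 D4078 D6914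
def n9549 : Q := act 4 n6915
theorem D9549 : act 4 n6915 = n9549 := rfl
theorem F11558 : act 0 n9549 = n6996 := d3_1 D9549 F10448 F10445
theorem F11559 : act 3 n9549 = n7367 := d9_1 D9549 F11550 (iv D9545) (iv D6913) (iv D4077) D4078 D6915
def n9550 : Q := act 2 n6916
theorem D9550 : act 2 n6916 = n9550 := rfl
theorem F11560 : act 3 n9550 = n8670 := d7_2 F10804 D9550 (iv F10803)
theorem F11561 : act 4 n9550 = n8611 := d11_1 D9550 F9704 F6862 (iv F7023) (iv F7946) (iv D7644) (iv F6738)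
def n9551 : Q := act 1 n6917
theorem D9551 : act 1 n6917 = n9551 := rfl
theorem F11562 : act 0 n9551 = n8885 := d0_1 D9551 F10222 F5436 (iv F4820) F4819 (iv F4830) (iv F6740)
theorem F11563 : act 4 n9551 = n8482 := d6_2 (iv F6741) D9551 F9447
def n9552 : Q := act 3 n6917
theorem D9552 : act 3 n6917 = n9552 := rfl
theorem F11564 : act 2 n9552 = n6918 := d7_1 D9552 (iv D6918) D6917
theorem F11565 : act 4 n9552 = n8669 := d9_2 (iv F6741) D9552 (iv D8669) D8670 (iv F11560) F11561 (iv D8611)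
def n9553 : Q := act 4 n6918
theorem D9553 : act 4 n6918 = n9553 := rfl
theorem F11566 : act 0 n9553 = n7674 := d3_1 D9553 F10821 F10818
theorem F11567 : act 1 n9553 = n6927 := d6_1 D9553 (iv D6927) (iv F6742)
theorem F11568 : act 3 n9553 = n7368 := d9_1 D9553 (iv F10805) F10804 (iv D6916) (iv D4079) D4080 D6918
def n9554 : Q := act 4 n6919
theorem D9554 : act 4 n6919 = n9554 := rfl
theorem F11569 : act 0 n9554 = n6975 := d3_1 D9554 (iv D6975) (iv F6743)
theorem F11570 : act 1 n9554 = n8106 := d6_1 D9554 (iv D8106) (iv F6744)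
theorem F11571 : act 3 n9554 = n6926 := d12_2 D6919 D9554 (iv D6926) (iv D4084) (iv D1999) D1998 D4081
def n9555 : Q := act 2 n6920
theorem D9555 : act 2 n6920 = n9555 := rfl
theorem F11572 : act 0 n9555 = n6949 := d11_3 F5835 D6920 D9555 (iv D6949) (iv D4096) (iv F2651) D6376
def n9556 : Q := act 3 n6920
theorem D9556 : act 3 n6920 = n9556 := rfl
theorem F11573 : act 0 n9556 = n6976 := d2_1 D9556 (iv D6976) (iv F6736) D9545 F11549 (iv D6922) (iv F6746)
theorem F11574 : act 1 n9556 = n8107 := d5_1 D9556 (iv D8107) (iv F6747)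
def n9557 : Q := act 0 n6921
theorem D9557 : act 0 n6921 = n9557 := rfl
theorem F11575 : act 2 n9557 = n6929 := d1_2 D6921 D9557 F6754 D6949 (iv F11572) (iv D9555) F6746
def n9558 : Q := act 1 n6921
theorem D9558 : act 1 n6921 = n9558 := rfl
theorem F11576 : act 0 n9558 = n9150 := d14_3 F6739 D6921 D9558 F10741 F8000 (iv F10933) F10932 (iv D7630) F3747 (iv F3757) (iv F6738)
def n9559 : Q := act 3 n6921
theorem D9559 : act 3 n6921 = n9559 := rfl
theorem F11577 : act 2 n9559 = n6922 := d7_1 D9559 (iv D6922) D6921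
theorem F11578 : act 0 n9559 = n6964 := d10_1 D9559 F6797 (iv F6777) (iv D6950) (iv F6754) (iv F11575) (iv D9557)
theorem F11579 : act 4 n8430 = n9559 := d3_0 F11578 (iv F6798) D8430
def n9560 : Q := act 4 n6921
theorem D9560 : act 4 n6921 = n9560 := rfl
theorem F11580 : act 2 n9560 = n6935 := d8_1 D9560 (iv D6935) (iv D4088) (iv D2001) (iv F1219) D4082 D6921
theorem F11581 : act 3 n9560 = n6925 := d12_2 (iv D9559) D9560 F6749 F6801 (iv D6965) D6964 (iv F11578)
def n9561 : Q := act 2 n6923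
theorem D9561 : act 2 n6923 = n9561 := rfl
def n9562 : Q := act 3 n6923
theorem D9562 : act 3 n6923 = n9562 := rfl
theorem F11582 : act 0 n9562 = n9164 := d2_1 D9562 (iv D9164) (iv D6401) D6403 D9170 F10782 F10077
theorem F11583 : act 1 n9562 = n6924 := d5_1 D9562 (iv D6924) D6923
def n9563 : Q := act 0 n6924
theorem D9563 : act 0 n6924 = n9563 := rfl
theorem F11584 : act 2 n9563 = n6953 := d10_2 D6924 D9563 (iv D6953) (iv D4098) F1227 D2009 (iv F3070)
def n9564 : Q := act 4 n6924
theorem D9564 : act 4 n6924 = n9564 := rfl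
theorem F11585 : act 2 n9564 = n6942 := d8_1 D9564 (iv D6942) F3077 D4094 (iv F10809) (iv D6927) (iv F6748)
theorem F11586 : act 3 n9564 = n8430 := d9_1 D9564 F11579 (iv D9559) D9560 F11581 (iv D6925) D6924
def n9565 : Q := act 2 n6926
theorem D9565 : act 2 n6926 = n9565 := rfl
theorem F11587 : act 0 n9565 = n6951 := d1_1 D9565 F6779 D6953 (iv F11584) (iv D9563) F6748 D6926
def n9566 : Q := act 4 n6926
theorem D9566 : act 4 n6926 = n9566 := rfl
theorem F11588 : act 0 n9566 = n6927 := d3_1 D9566 (iv D6927) D6926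
theorem F11589 : act 1 n9566 = n8122 := d6_1 D9566 F8814 (iv F10820)
def n9567 : Q := act 4 n6928
theorem D9567 : act 4 n6928 = n9567 := rfl
theorem F11590 : act 0 n9567 = n6959 := d3_1 D9567 (iv D6959) (iv F6751)
theorem F11591 : act 1 n9567 = n9501 := d6_1 D9567 (iv D9501) (iv F6752)
theorem F11592 : act 3 n9567 = n6953 := d12_2 D6928 D9567 (iv D6953) (iv D4098) (iv D2006) D2005 (iv F3071)
def n9568 : Q := act 3 n6929
theorem D9568 : act 3 n6929 = n9568 := rfl
theorem F11593 : act 0 n9568 = n6961 := d2_1 D9568 (iv D6961) F3081 D4104 (iv F6777) (iv D6950) (iv F6754)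
def n9569 : Q := act 2 n6930
theorem D9569 : act 2 n6930 = n9569 := rfl
theorem F11594 : act 3 n9569 = n6945 := d7_2 (iv F6757) D9569 (iv D6945)
theorem F11595 : act 0 n9569 = n6990 := d10_3 (iv F3102) (iv F6755) D9569 (iv D6990) (iv D4123) F1231 D2020
def n9570 : Q := act 1 n6931
theorem D9570 : act 1 n6931 = n9570 := rfl
theorem F11596 : act 0 n9570 = n7656 := d0_1 D9570 F7970 F3761 (iv F3782) D6464 F5959 (iv F6758)
theorem F11597 : act 4 n7653 = n9570 := d17_0 (iv D9570) (iv D6931) (iv D4087) D4085 (iv F3737) (iv D4740) (iv D2463) D2464 D4745 F3745 D4773 D7653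
def n9571 : Q := act 3 n6931
theorem D9571 : act 3 n6931 = n9571 := rfl
theorem F11598 : act 0 n9571 = n6983 := d2_1 D9571 (iv D6983) (iv D4117) F1230 D3425 D6178 (iv F6758)
theorem F11599 : act 2 n9571 = n6932 := d7_1 D9571 (iv D6932) D6931
def n9572 : Q := act 4 n6931
theorem D9572 : act 4 n6931 = n9572 := rfl
theorem F11600 : act 0 n9572 = n6987 := d3_1 D9572 F6827 (iv F6758)
theorem F11601 : act 1 n9572 = n7653 := d6_1 D9572 F11597 (iv D9570)
def n9573 : Q := act 4 n6932
theorem D9573 : act 4 n6932 = n9573 := rfl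
theorem F11602 : act 0 n9573 = n6981 := d3_1 D9573 (iv D6981) (iv F6759)
theorem F11603 : act 1 n9573 = n7794 := d6_1 D9573 (iv D7794) (iv F6760)
theorem F11604 : act 3 n9573 = n6946 := d9_1 D9573 (iv D6946) (iv F6757) (iv D6930) (iv D4086) D4087 D6932
def n9574 : Q := act 3 n6933
theorem D9574 : act 3 n6933 = n9574 := rfl
theorem F11605 : act 0 n9574 = n6979 := d2_1 D9574 (iv D6979) D6978 F6816 (iv D6174) (iv F3076) D6933
theorem F11606 : act 1 n9574 = n8923 := d5_1 D9574 (iv D8923) F7965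
theorem F11607 : act 2 n9574 = n8768 := d7_1 D9574 F10725 F10724
def n9575 : Q := act 2 n6934
theorem D9575 : act 2 n6934 = n9575 := rfl
theorem F11608 : act 3 n9575 = n8948 := d7_2 (iv F6761) D9575 (iv D8948)
def n9576 : Q := act 4 n6936
theorem D9576 : act 4 n6936 = n9576 := rfl
theorem F11609 : act 0 n9576 = n6995 := d3_1 D9576 (iv D6995) (iv F6762)
theorem F11610 : act 1 n9576 = n8467 := d6_1 D9576 (iv F11099) F11098
theorem F11611 : act 3 n9576 = n8466 := d12_2 D6936 D9576 F9407 (iv F7958) (iv D6942) (iv D4091) D4089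
def n9577 : Q := act 3 n6937
theorem D9577 : act 3 n6937 = n9577 := rfl
theorem F11612 : act 1 n9577 = n8395 := d5_1 D9577 (iv D8395) (iv F6764)
theorem F11613 : act 4 n9577 = n6978 := d9_2 D6937 D9577 F6816 F9412 (iv F11611) (iv D9576) (iv D6936)
theorem F11614 : act 0 n6980 = n9577 := d3_3 F11613 (iv D6978) D6980
def n9578 : Q := act 3 n6938
theorem D9578 : act 3 n6938 = n9578 := rfl
theorem F11615 : act 2 n9578 = n6939 := d7_1 D9578 (iv D6939) D6938
def n9579 : Q := act 3 n6941
theorem D9579 : act 3 n6941 = n9579 := rfl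
theorem F11616 : act 0 n9579 = n6977 := d2_1 D9579 F6815 (iv F6762) (iv D6936) (iv D4089) D4091 D6941
theorem F11617 : act 1 n9579 = n8894 := d5_1 D9579 (iv F10242) F8845
theorem F11618 : act 2 n9579 = n8707 := d7_1 D9579 (iv F10728) F10727
def n9580 : Q := act 1 n6945
theorem D9580 : act 1 n6945 = n9580 := rfl
theorem F11619 : act 0 n9580 = n7667 := d0_1 D9580 F7981 F3769 (iv F5949) (iv F6822) F6821 (iv F6772)
theorem F11620 : act 4 n7664 = n9580 := d3_0 F11619 (iv D7667) D7664
def n9581 : Q := act 4 n6945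
theorem D9581 : act 4 n6945 = n9581 := rfl
theorem F11621 : act 0 n9581 = n6986 := d3_1 D9581 (iv D6986) (iv F6772)
theorem F11622 : act 1 n9581 = n7664 := d6_1 D9581 F11620 (iv D9580)
def n9582 : Q := act 2 n6946
theorem D9582 : act 2 n6946 = n9582 := rfl
theorem F11623 : act 0 n9582 = n6954 := d10_3 F3383 (iv F6773) D9582 F6782 (iv D4523) (iv D2281) D2280
theorem F11624 : act 4 n9582 = n6953 := d11_1 D9582 (iv F11584) (iv D9563) F6748 D6927 F10809 (iv F6773)
def n9583 : Q := act 4 n6949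
theorem D9583 : act 4 n6949 = n9583 := rfl
theorem F11625 : act 1 n9583 = n7694 := d6_1 D9583 F8046 F7377
theorem F11626 : act 2 n9583 = n6987 := d8_1 D9583 F6827 (iv F5839) (iv D6377) F2651 D4096 D6949
theorem F11627 : act 3 n6952 = n9583 := d7_0 F11626 (iv D6987) (iv F6781)
def n9584 : Q := act 4 n6951
theorem D9584 : act 4 n6951 = n9584 := rfl
theorem F11628 : act 1 n9584 = n7773 := d6_1 D9584 (iv F8164) F7089
theorem F11629 : act 2 n9584 = n6986 := d8_1 D9584 (iv D6986) (iv F5841) D9142 F10731 (iv D6954) (iv F6779)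
theorem F11630 : act 3 n9584 = n8305 := d9_1 D9584 F9161 (iv F7376) D9583 (iv F11627) (iv D6952) D6951
def n9585 : Q := act 4 n6955
theorem D9585 : act 4 n6955 = n9585 := rfl
theorem F11631 : act 0 n9585 = n9522 := d3_1 D9585 (iv D9522) (iv F6783)
theorem F11632 : act 1 n9585 = n9585 := d6_1 D9585 (iv D9585) F6784
def n9586 : Q := act 2 n6956
theorem D9586 : act 2 n6956 = n9586 := rfl
def n9587 : Q := act 4 n6957
theorem D9587 : act 4 n6957 = n9587 := rfl
theorem F11633 : act 0 n9587 = n8707 := d3_1 D9587 (iv D8707) (iv F6786)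
theorem F11634 : act 1 n9587 = n9587 := d6_1 D9587 (iv D9587) F6787
theorem F11635 : act 2 n9587 = n6990 := d11_2 (iv F6788) D9587 (iv F11595) (iv D9569) (iv D6930) (iv F6753) F6751
theorem F11636 : act 3 n9587 = n6989 := d12_2 D6957 D9587 (iv F10720) (iv D9139) (iv D6375) D6374 F5830
def n9588 : Q := act 3 n6958
theorem D9588 : act 3 n6958 = n9588 := rfl
theorem F11637 : act 0 n9588 = n8768 := d2_1 D9588 F10725 F10722 (iv F5838) D6484 (iv F10718) F10716
theorem F11638 : act 1 n9588 = n9588 := d5_1 D9588 (iv D9588) F6789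
theorem F11639 : act 2 n9588 = n6983 := d7_1 D9588 (iv D6983) (iv F6790)
def n9589 : Q := act 2 n6959
theorem D9589 : act 2 n6959 = n9589 := rfl
theorem F11640 : act 3 n9589 = n6971 := d7_2 (iv F6791) D9589 (iv D6971)
def n9590 : Q := act 1 n6960
theorem D9590 : act 1 n6960 = n9590 := rfl
theorem F11641 : act 0 n9590 = n9146 := d16_6 D6362 D9127 F10699 F6785 D6960 D9590 (iv D9146) (iv D6382) (iv D3593) (iv D1711) (iv F1004) (iv F2641)
theorem F11642 : act 2 n7010 = n9590 := d10_2 (iv F4988) (iv F6845) F11641 (iv D9146) (iv D6382) F5555 F3123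
def n9591 : Q := act 3 n6960
theorem D9591 : act 3 n6960 = n9591 := rfl
theorem F11643 : act 2 n9591 = n6961 := d7_1 D9591 (iv D6961) D6960
def n9592 : Q := act 4 n6960
theorem D9592 : act 4 n6960 = n9592 := rfl
theorem F11644 : act 2 n9592 = n6984 := d8_1 D9592 (iv D6984) (iv F6790) (iv D6958) (iv D4100) D4102 D6960
def n9593 : Q := act 4 n6961
theorem D9593 : act 4 n6961 = n9593 := rfl
theorem F11645 : act 3 n9593 = n6972 := d9_1 D9593 (iv D6972) (iv F6791) (iv D6959) (iv D4101) D4102 D6961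
def n9594 : Q := act 1 n6962
theorem D9594 : act 1 n6962 = n9594 := rfl
theorem F11646 : act 0 n9594 = n9021 := d0_1 D9594 (iv F10974) F10973 F6075 (iv F6793) (iv D6963) D6962
def n9595 : Q := act 3 n6962
theorem D9595 : act 3 n6962 = n9595 := rfl
theorem F11647 : act 2 n9595 = n6976 := d7_1 D9595 (iv D6976) (iv F6792)
def n9596 : Q := act 4 n6962
theorem D9596 : act 4 n6962 = n9596 := rfl
theorem F11648 : act 0 n9596 = n6965 := d3_1 D9596 (iv D6965) D6962
theorem F11649 : act 2 n9596 = n6980 := d8_1 D9596 (iv D6980) (iv D4115) (iv D2014) D2012 D4113 (iv F6792)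
def n9597 : Q := act 2 n6963
theorem D9597 : act 2 n6963 = n9597 := rfl
theorem F11650 : act 0 n9597 = n9160 := d1_1 D9597 F11520 F11517 (iv F11056) F11053 F10761 (iv F6793)
theorem F11651 : act 3 n9597 = n8429 := d7_2 F6794 D9597 F9355
theorem F11652 : act 4 n9597 = n9160 := d8_2 F6795 D9597 F11520 (iv D9528) (iv D6884) (iv F3028) (iv F4553)
def n9598 : Q := act 3 n6966
theorem D9598 : act 3 n6966 = n9598 := rfl
theorem F11653 : act 0 n9598 = n9162 := d2_1 D9598 (iv D9162) (iv D6398) (iv D3609) (iv F2002) (iv F4846) (iv F6802)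
theorem F11654 : act 2 n9598 = n6967 := d7_1 D9598 (iv D6967) D6966
theorem F11655 : act 4 n9598 = n9162 := d9_2 (iv F6803) D9598 (iv D9162) (iv F9354) (iv F11651) F11652 (iv D9160)
def n9599 : Q := act 1 n6968
theorem D9599 : act 1 n6968 = n9599 := rfl
theorem F11656 : act 0 n9599 = n9034 := d0_1 D9599 (iv F10988) F10987 F6085 (iv F6804) F6805 D6968
theorem F11657 : act 3 n9028 = n9599 := d16_2 D6261 D9028 (iv D9599) (iv F10447) (iv D8985) (iv D6222) (iv D3468) F952 F355 D698 D1656 D3491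
def n9600 : Q := act 3 n6968
theorem D9600 : act 3 n6968 = n9600 := rfl
theorem F11658 : act 1 n9600 = n9028 := d5_1 D9600 F11657 (iv D9599)
theorem F11659 : act 2 n9600 = n6975 := d7_1 D9600 (iv F10446) F10447
def n9601 : Q := act 4 n6968
theorem D9601 : act 4 n6968 = n9601 := rfl
theorem F11660 : act 0 n9601 = n6969 := d3_1 D9601 (iv D6969) D6968
theorem F11661 : act 2 n9601 = n6995 := d8_1 D9601 (iv D6995) (iv D4127) D4128 D6996 F10448 F10447
def n9602 : Q := act 2 n6970
theorem D9602 : act 2 n6970 = n9602 := rfl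
def n9603 : Q := act 4 n6970
theorem D9603 : act 4 n6970 = n9603 := rfl
theorem F11662 : act 1 n9603 = n6972 := d6_1 D9603 (iv D6972) D6970
def n9604 : Q := act 1 n6971
theorem D9604 : act 1 n6971 = n9604 := rfl
theorem F11663 : act 0 n9604 = n9178 := d16_6 (iv F5814) (iv F10693) F10695 (iv D6970) D6971 D9604 (iv D9178) (iv D6411) (iv D3622) (iv D1725) D1724 D3619
theorem F11664 : act 2 n7043 = n9604 := d10_2 (iv F4989) (iv F6888) F11663 (iv D9178) (iv D6411) (iv F6503) F3479
def n9605 : Q := act 4 n6971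
theorem D9605 : act 4 n6971 = n9605 := rfl
theorem F11665 : act 2 n9605 = n6991 := d11_2 D6971 D9605 F6828 (iv F6808) (iv D6969) F3090 D4108
def n9606 : Q := act 2 n6972
theorem D9606 : act 2 n6972 = n9606 := rfl
theorem F11666 : act 4 n9606 = n6989 := d8_2 D6972 D9606 (iv D6989) D6991 (iv F11665) (iv D9605) (iv D6971)
theorem F11667 : act 1 n9606 = n9606 := d6_3 F11666 F10721 (iv F11666)
def n9607 : Q := act 1 n6974
theorem D9607 : act 1 n6974 = n9607 := rfl
theorem F11668 : act 0 n9607 = n7488 := d0_1 D9607 F7650 (iv F3616) (iv F7676) (iv F10363) (iv D8955) (iv F6814)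
theorem F11669 : act 3 n9607 = n8703 := d5_2 (iv F6813) D9607 (iv D8703)
theorem F11670 : act 4 n9607 = n7486 := d6_2 F6834 D9607 F7646
def n9608 : Q := act 4 n6976
theorem D9608 : act 4 n6976 = n9608 := rfl
theorem F11671 : act 3 n9608 = n6996 := d9_1 D9608 F10448 F10446 (iv D6975) (iv D4112) D4113 D6976
theorem F11672 : act 2 n6981 = n9608 := d7_3 F11671 (iv D6996) (iv F6819)
def n9609 : Q := act 4 n6977
theorem D9609 : act 4 n6977 = n9609 := rfl
theorem F11673 : act 3 n9609 = n6980 := d12_2 (iv F6815) D9609 F11614 (iv D9577) (iv D6937) D6936 F6762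
def n9610 : Q := act 4 n6979
theorem D9610 : act 4 n6979 = n9610 := rfl
theorem F11674 : act 3 n9610 = n6995 := d9_1 D9610 (iv D6995) (iv F6815) D9609 F11673 (iv D6980) D6979
def n9611 : Q := act 2 n6982
theorem D9611 : act 2 n6982 = n9611 := rfl
theorem F11675 : act 1 n9611 = n9611 := d4_1 D9611 (iv D9611) (iv D6982) (iv F6790) F6789 F6790 D6982
def n9612 : Q := act 4 n6982
theorem D9612 : act 4 n6982 = n9612 := rfl
theorem F11676 : act 0 n9612 = n7592 := d3_1 D9612 (iv F10876) F10875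
theorem F11677 : act 1 n9612 = n6984 := d6_1 D9612 (iv D6984) D6982
def n9613 : Q := act 4 n6983
theorem D9613 : act 4 n6983 = n9613 := rfl
theorem F11678 : act 3 n9613 = n6991 := d12_2 D6983 D9613 F6828 F4995 (iv D3427) (iv F1230) D4117
def n9614 : Q := act 3 n6984
theorem D9614 : act 3 n6984 = n9614 := rfl
theorem F11679 : act 4 n9614 = n6990 := d9_2 D6984 D9614 (iv D6990) D6991 (iv F11678) (iv D9613) (iv D6983)
def n9615 : Q := act 2 n6988
theorem D9615 : act 2 n6988 = n9615 := rfl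
theorem F11680 : act 1 n9615 = n9615 := d4_1 D9615 (iv D9615) (iv D6988) D6989 F10721 (iv D6989) D6988
def n9616 : Q := act 4 n6988
theorem D9616 : act 4 n6988 = n9616 := rfl
theorem F11681 : act 0 n9616 = n7610 := d3_1 D9616 F10862 F10859
theorem F11682 : act 1 n9616 = n6991 := d6_1 D9616 (iv D6991) D6988
def n9617 : Q := act 1 n6992
theorem D9617 : act 1 n6992 = n9617 := rfl
theorem F11683 : act 0 n9617 = n7496 := d0_1 D9617 F7663 (iv F3614) (iv F7673) (iv F10365) F10366 (iv F6830)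
theorem F11684 : act 3 n9617 = n8702 := d5_2 (iv F6829) D9617 (iv D8702)
theorem F11685 : act 4 n9617 = n7495 := d6_2 F6890 D9617 F7661
def n9618 : Q := act 2 n6993
theorem D9618 : act 2 n6993 = n9618 := rfl
theorem F11686 : act 3 n9618 = n8701 := d7_2 (iv F6833) D9618 F9915
theorem F11687 : act 4 n9618 = n8699 := d8_2 D6993 D9618 F9909 (iv D7047) D7045 F6890 (iv D6992)
theorem F11688 : act 0 n9618 = n8949 := d10_3 (iv F5513) (iv F6831) D9618 F10348 F5501 F3410 (iv F2504)
def n9619 : Q := act 2 n6994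
theorem D9619 : act 2 n6994 = n9619 := rfl
theorem F11689 : act 0 n9619 = n8212 := d10_3 (iv F7884) (iv F7886) D9619 (iv F10600) (iv D9081) F5682 D6307
theorem F11690 : act 4 n8211 = n9619 := d3_0 F11689 (iv D8212) D8211
def n9620 : Q := act 2 n6999
theorem D9620 : act 2 n6999 = n9620 := rfl
theorem F11691 : act 0 n9620 = n7008 := d1_1 D9620 (iv D7008) (iv D4134) (iv D2023) D2022 D4131 D6999
theorem F11692 : act 1 n9620 = n9535 := d4_1 D9620 (iv D9535) (iv D6894) (iv F6546) F6545 D8376 F9279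
theorem F11693 : act 3 n9620 = n7298 := d7_2 (iv F6837) D9620 F7370
theorem F11694 : act 1 n7008 = n7008 := d13_2 D9620 F11691 (iv F11691) (iv D9620) (iv D6999) D7000 F6838 F3301 (iv F6838) (iv D7000) D6999
def n9621 : Q := act 4 n6999
theorem D9621 : act 4 n6999 = n9621 := rfl
theorem F11695 : act 0 n9621 = n7002 := d3_1 D9621 (iv D7002) D6999
theorem F11696 : act 2 n9621 = n9146 := d11_2 (iv D9620) D9621 (iv F11641) (iv F11642) (iv D7010) D7008 (iv F11691)
theorem F11697 : act 3 n7019 = n9621 := d7_0 F11696 (iv D9146) (iv F6860)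
theorem E899 : n7353 = n7025 := (c12_6 F11697 (iv D9621) F6837 (iv D4507) D4509 D7353 (iv D7025) (iv F6859))
theorem F11698 : act 4 n7025 = n4509 := (sb E899 (iv D7353))
theorem E900 : n7355 = n7023 := (c9_4 F11698 (iv D4509) D4510 D7355 (iv D7023) (iv D4147) D4148 D7025)
theorem F11699 : act 3 n7023 = n4510 := (sb E900 (iv D7355))
def n9622 : Q := act 3 n7000
theorem D9622 : act 3 n7000 = n9622 := rfl
theorem F11700 : act 0 n9622 = n7258 := d2_1 D9622 (iv D7258) (iv D4370) (iv D2157) D2155 D4368 (iv F6838)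
theorem F11701 : act 1 n9622 = n7001 := d5_1 D9622 (iv D7001) D7000
theorem F11702 : act 2 n9622 = n8661 := d7_1 D9622 (iv D8661) F6839
def n9623 : Q := act 0 n7001
theorem D9623 : act 0 n7001 = n9623 := rfl
theorem F11703 : act 1 n9623 = n8108 := d0_2 F11701 D9623 F8792 D8879 F10214 F9603 (iv F11700)
theorem F11704 : act 3 n9623 = n7352 := d2_2 D7001 D9623 (iv D7352) (iv D4509) D4507 (iv F6837) (iv D6999)
def n9624 : Q := act 4 n7001
theorem D9624 : act 4 n7001 = n9624 := rfl
def n9625 : Q := act 2 n7002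
theorem D9625 : act 2 n7002 = n9625 := rfl
theorem F11705 : act 0 n9625 = n7011 := d1_1 D9625 (iv D7011) (iv F6845) F11642 F11641 (iv F11696) F11695
def n9626 : Q := act 3 n7002
theorem D9626 : act 3 n7002 = n9626 := rfl
theorem F11706 : act 4 n9626 = n7049 := d12_1 D9626 (iv D7049) (iv F6858) (iv D7018) D7019 F11697 F11695
theorem F11707 : act 3 n9624 = n7050 := d9_5 (iv F11706) (iv D9626) (iv D7002) D7001 D9624 (iv D7050) D7049
def n9627 : Q := act 2 n7003
theorem D9627 : act 2 n7003 = n9627 := rfl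
theorem F11708 : act 1 n9627 = n9503 := d4_1 D9627 (iv D9503) (iv D6837) (iv D3999) (iv F1653) D4883 (iv F6841)
theorem F11709 : act 3 n9627 = n7356 := d7_2 (iv F6842) D9627 (iv D7356)
theorem F11710 : act 0 n9627 = n7009 := d10_3 D4132 D7003 D9627 (iv D7009) (iv D4134) (iv D2023) D2022
def n9628 : Q := act 4 n7003
theorem D9628 : act 4 n7003 = n9628 := rfl
theorem F11711 : act 0 n9628 = n7004 := d3_1 D9628 (iv D7004) D7003
theorem F11712 : act 1 n9628 = n7795 := d6_1 D9628 (iv D7795) (iv F6841)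
theorem F11713 : act 3 n9628 = n7028 := d12_2 (iv F6842) D9628 F6871 F3121 (iv D2272) D2271 D4511
def n9629 : Q := act 2 n7004
theorem D9629 : act 2 n7004 = n9629 := rfl
theorem F11714 : act 3 n9629 = n7051 := d7_2 (iv F6843) D9629 (iv D7051)
def n9630 : Q := act 0 n7005
theorem D9630 : act 0 n7005 = n9630 := rfl
theorem F11715 : act 3 n9630 = n7030 := d10_4 (iv F2054) (iv F3110) D7005 D9630 (iv D7030) (iv D4151) F1237
def n9631 : Q := act 1 n7005
theorem D9631 : act 1 n7005 = n9631 := rfl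
theorem F11716 : act 0 n9631 = n7279 := d16_6 D4299 D7184 F7190 F6835 D7005 D9631 (iv D7279) (iv D4394) (iv D2170) (iv D922) (iv F484) (iv F1282)
theorem F11717 : act 4 n9433 = n7917 := d17_9 F8899 (iv D7000) (iv D4131) D4133 D7005 D9631 F11716 (iv F8437) (iv F11319) (iv D7917) F6161 (iv F8900)
theorem F11718 : act 4 n7279 = n7598 := d17_0 F7872 (iv D4981) (iv D2612) (iv F1716) (iv F3300) (iv F6838) (iv D7000) (iv D4131) D4133 D7005 D9631 F11716
theorem E901 : n7926 = n7923 := ((c6_3 F11718 F7872 D7923 F8437)).symm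
theorem F11719 : act 1 n7923 = n7279 := (sb E901 F8437)
theorem F11720 : act 2 n7923 = n9433 := (sb E901 (iv F11319))
theorem F11721 : act 3 n7923 = n4984 := (sb E901 (iv D7926))
theorem F11722 : act 2 n8202 = n9631 := d11_6 F7335 F11718 (iv D7598) D7597 F7870 D8202 F11716
def n9632 : Q := act 3 n7005
theorem D9632 : act 3 n7005 = n9632 := rfl
theorem F11723 : act 2 n9632 = n7006 := d7_1 D9632 (iv D7006) D7005
def n9633 : Q := act 4 n7005
theorem D9633 : act 4 n7005 = n9633 := rfl
def n9634 : Q := act 0 n7006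
theorem D9634 : act 0 n7006 = n9634 := rfl
theorem F11724 : act 1 n9634 = n7797 := d0_2 (iv F7193) D9634 F8227 (iv D7210) (iv D4314) (iv F3237) D7184
theorem F11725 : act 3 n9634 = n7034 := d2_2 D7006 D9634 (iv D7034) (iv D4152) F1237 (iv F2054) (iv F3110)
theorem F11726 : act 4 n9634 = n7027 := d3_2 (iv F6844) D9634 F6869
def n9635 : Q := act 2 n7007
theorem D9635 : act 2 n7007 = n9635 := rfl
theorem F11727 : act 0 n9635 = n9536 := d1_1 D9635 F11533 F11074 F9812 (iv D7486) D7487 F7649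
theorem F11728 : act 1 n9635 = n9635 := d4_1 D9635 (iv D9635) (iv D7007) D7008 F11694 (iv D7008) D7007
theorem F11729 : act 4 n9635 = n9611 := d11_1 D9635 (iv D9611) (iv F10875) F10877 (iv D7488) D7487 F7649
def n9636 : Q := act 3 n7007
theorem D9636 : act 3 n7007 = n9636 := rfl
theorem F11730 : act 0 n9636 = n7293 := d2_1 D9636 (iv D7293) (iv D4413) D4415 F5076 (iv F7648) F7649
theorem F11731 : act 1 n9636 = n7009 := d5_1 D9636 (iv D7009) D7007
def n9637 : Q := act 4 n7007
theorem D9637 : act 4 n7007 = n9637 := rfl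
theorem F11732 : act 1 n9637 = n7010 := d6_1 D9637 (iv D7010) D7007
def n9638 : Q := act 3 n7008
theorem D9638 : act 3 n7008 = n9638 := rfl
theorem F11733 : act 1 n9638 = n9638 := d5_1 D9638 (iv D9638) F11694
theorem F11734 : act 2 n9638 = n7009 := d7_1 D9638 (iv D7009) D7008
def n9639 : Q := act 4 n7008
theorem D9639 : act 4 n7008 = n9639 := rfl
theorem F11735 : act 1 n9639 = n9639 := d6_1 D9639 (iv D9639) F11694
theorem F11736 : act 2 n9639 = n7012 := d11_2 D7008 D9639 (iv D7012) (iv D4136) (iv D2024) D2023 D4134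
def n9640 : Q := act 4 n7009
theorem D9640 : act 4 n7009 = n9640 := rfl
theorem F11737 : act 3 n9640 = n7043 := d12_2 D7009 D9640 F6888 F4989 (iv D2274) (iv F1234) D4134
def n9641 : Q := act 3 n7010
theorem D9641 : act 3 n7010 = n9641 := rfl
theorem F11738 : act 4 n9641 = n7042 := d9_2 D7010 D9641 (iv D7042) D7043 (iv F11737) (iv D9640) (iv D7009)
def n9642 : Q := act 1 n7012
theorem D9642 : act 1 n7012 = n9642 := rfl
theorem F11739 : act 0 n9642 = n7480 := d0_1 D9642 (iv F9141) (iv D8297) F4372 (iv F4457) F4458 D7012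
theorem F11740 : act 2 n9642 = n9585 := d14_1 D9642 F11632 F11631 F11508 D9523 F11510 (iv D9375) F8924 F8923 F4458 D7012
def n9643 : Q := act 3 n7012
theorem D9643 : act 3 n7012 = n9643 := rfl
def n9644 : Q := act 3 n7017
theorem D9644 : act 3 n7017 = n9644 := rfl
theorem F11741 : act 1 n9644 = n9506 := d5_1 D9644 (iv D9506) (iv F6857)
theorem F11742 : act 2 n9644 = n7018 := d7_1 D9644 (iv D7018) D7017
theorem F11743 : act 0 n9644 = n7041 := d10_1 D9644 (iv D7041) (iv D4157) (iv D2033) D2032 D4154 (iv F6856)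
theorem F11744 : act 1 n7041 = n7041 := d16_9 (iv D7493) (iv F4601) (iv D4236) (iv D2070) D2071 (iv F3174) (iv F6856) D9644 F11743 (iv D7041) D7040 (iv F7662)
def n9645 : Q := act 4 n7017
theorem D9645 : act 4 n7017 = n9645 := rfl
theorem F11745 : act 0 n9645 = n7037 := d3_1 D9645 (iv D7037) (iv F6856)
theorem F11746 : act 1 n9645 = n9507 := d6_1 D9645 (iv D9507) (iv F6857)
theorem F11747 : act 2 n9645 = n7030 := d11_2 D7017 D9645 (iv D7030) (iv D4151) (iv D2031) D2029 D4145
def n9646 : Q := act 4 n7018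
theorem D9646 : act 4 n7018 = n9646 := rfl
theorem F11748 : act 0 n9646 = n7050 := d3_1 D9646 (iv D7050) (iv F6858)
theorem F11749 : act 3 n9646 = n7349 := d9_1 D9646 (iv D7349) (iv F6837) D9621 (iv F11697) (iv D7019) D7018
theorem F11750 : act 2 n9646 = n9178 := d11_2 F11742 D9646 (iv F11663) (iv F11664) (iv D7043) D7041 (iv F11743)
def n9647 : Q := act 4 n7020
theorem D9647 : act 4 n7020 = n9647 := rfl
theorem F11751 : act 0 n9647 = n7881 := d3_1 D9647 (iv D7881) (iv F6862)
theorem F11752 : act 1 n9647 = n7023 := d6_1 D9647 (iv D7023) (iv F6861)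
theorem F11753 : act 2 n9647 = n8266 := d8_1 D9647 (iv D8266) F4342 D6916 D9550 F11561 F9704
theorem F11754 : act 3 n9647 = n7351 := d12_2 D7020 D9647 (iv F9891) F9893 (iv D7112) F4769 F4767
def n9648 : Q := act 3 n7021
theorem D9648 : act 3 n7021 = n9648 := rfl
theorem F11755 : act 0 n9648 = n7938 := d2_1 D9648 F8458 F7945 (iv F7027) (iv F7384) (iv F7385) (iv F6863)
theorem F11756 : act 1 n9648 = n7025 := d5_1 D9648 (iv D7025) (iv F6864)
theorem F11757 : act 2 n9648 = n8267 := d7_1 D9648 (iv D8267) (iv F6865)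
theorem F11758 : act 4 n9648 = n7350 := d9_2 D7021 D9648 (iv D7350) D7351 (iv F11754) (iv D9647) (iv D7020)
def n9649 : Q := act 2 n7022
theorem D9649 : act 2 n7022 = n9649 := rfl
theorem F11759 : act 0 n9649 = n7036 := d1_1 D9649 F6881 (iv F6868) (iv D7026) (iv D4149) (iv F3119) D7022
def n9650 : Q := act 3 n7022
theorem D9650 : act 3 n7022 = n9650 := rfl
theorem F11760 : act 0 n9650 = n7049 := d2_1 D9650 (iv D7049) (iv F6858) (iv D7018) (iv D4145) D4147 D7022
theorem F11761 : act 1 n9650 = n8109 := d5_1 D9650 (iv D8109) (iv F6866)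
def n9651 : Q := act 4 n7022
theorem D9651 : act 4 n7022 = n9651 := rfl
theorem F11762 : act 0 n9651 = n7023 := d3_1 D9651 (iv D7023) D7022
theorem F11763 : act 1 n9651 = n8110 := d6_1 D9651 (iv D8110) (iv F6866)
theorem F11764 : act 2 n9651 = n9143 := d11_2 (iv D9649) D9651 (iv D9143) F6885 (iv D7038) (iv F6881) (iv F11759)
def n9652 : Q := act 2 n7023
theorem D9652 : act 2 n7023 = n9652 := rfl
theorem F11765 : act 3 n9652 = n7354 := d7_2 (iv F11699) D9652 (iv D7354)
def n9653 : Q := act 1 n7024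
theorem D9653 : act 1 n7024 = n9653 := rfl
def n9654 : Q := act 3 n7024
theorem D9654 : act 3 n7024 = n9654 := rfl
theorem F11766 : act 2 n9654 = n7025 := d7_1 D9654 (iv D7025) D7024
def n9655 : Q := act 0 n7025
theorem D9655 : act 0 n7025 = n9655 := rfl
theorem F11767 : act 1 n9655 = n8121 := d0_2 F11756 D9655 F8812 (iv F8427) F8426 (iv F8456) (iv F11755)
theorem F11768 : act 4 n9655 = n7352 := d3_2 (iv F11698) D9655 (iv D7352)
theorem F11769 : act 2 n9655 = n9148 := d10_2 D7025 D9655 (iv D9148) (iv D6383) D6382 (iv F6860) F6859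
def n9656 : Q := act 3 n7026
theorem D9656 : act 3 n7026 = n9656 := rfl
theorem F11770 : act 0 n9656 = n7042 := d2_1 D9656 (iv D7042) (iv D4157) (iv D2033) D2032 D4155 (iv F6868)
theorem F11771 : act 1 n9656 = n9513 := d5_1 D9656 F11491 F8390
theorem F11772 : act 2 n9656 = n7027 := d7_1 D9656 (iv D7027) D7026
def n9657 : Q := act 4 n7026
theorem D9657 : act 4 n7026 = n9657 := rfl
theorem F11773 : act 0 n9657 = n7038 := d3_1 D9657 (iv D7038) (iv F6868)
def n9658 : Q := act 2 n7028
theorem D9658 : act 2 n7028 = n9658 := rfl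
theorem F11774 : act 0 n9658 = n7364 := d10_3 (iv F3121) (iv F6871) D9658 (iv D7364) (iv D4518) (iv D2275) (iv F1398)
def n9659 : Q := act 0 n7029
theorem D9659 : act 0 n7029 = n9659 := rfl
def n9660 : Q := act 1 n7029
theorem D9660 : act 1 n7029 = n9660 := rfl
theorem F11775 : act 3 n9660 = n7358 := d5_2 (iv F6873) D9660 (iv D7358)
def n9661 : Q := act 4 n7029
theorem D9661 : act 4 n7029 = n9661 := rfl
def n9662 : Q := act 4 n7030
theorem D9662 : act 4 n7030 = n9662 := rfl
theorem F11776 : act 0 n9662 = n7033 := d3_1 D9662 (iv D7033) D7030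
theorem F11777 : act 1 n9662 = n8397 := d6_1 D9662 (iv F11123) F11116
theorem F11778 : act 2 n9662 = n9147 := d8_1 D9662 (iv D9147) (iv F6860) (iv D7019) D7017 D9645 F11747
def n9663 : Q := act 0 n7031
theorem D9663 : act 0 n7031 = n9663 := rfl
theorem F11779 : act 1 n9663 = n8576 := d0_2 D7031 D9663 (iv F11117) (iv D9328) D9327 F11116 (iv D7030)
theorem F11780 : act 2 n9663 = n7131 := d1_2 (iv F9422) D9663 (iv D7131) D7132 (iv F9071) F9073 (iv F9079)
theorem F11781 : act 3 n9663 = n7131 := d10_4 (iv F9074) (iv F9079) (iv F9422) D9663 (iv D7131) D7132 (iv F9071)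
theorem F11782 : act 4 n9663 = n8574 := d17_0 (iv D8574) (iv D5707) (iv D3064) D3062 D5703 F4767 (iv D4146) (iv D2029) D2031 D4151 D7031 D9663
def n9664 : Q := act 3 n7031
theorem D9664 : act 3 n7031 = n9664 := rfl
theorem F11783 : act 1 n9664 = n7032 := d5_1 D9664 (iv D7032) D7031
def n9665 : Q := act 4 n7031
theorem D9665 : act 4 n7031 = n9665 := rfl
theorem F11784 : act 0 n9665 = n8574 := d3_1 D9665 (iv F11782) (iv D9663)
theorem F11785 : act 1 n9665 = n7033 := d6_1 D9665 (iv D7033) D7031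
theorem F11786 : act 2 n9665 = n8616 := d8_1 D9665 F9724 (iv D6938) D6940 F6768 D8273 (iv F9422)
def n9666 : Q := act 0 n7032
theorem D9666 : act 0 n7032 = n9666 := rfl
def n9667 : Q := act 4 n7032
theorem D9667 : act 4 n7032 = n9667 := rfl
def n9668 : Q := act 3 n7033
theorem D9668 : act 3 n7033 = n9668 := rfl
def n9669 : Q := act 2 n7034
theorem D9669 : act 2 n7034 = n9669 := rfl
theorem F11787 : act 0 n9669 = n7053 := d10_3 D4152 D7034 D9669 (iv D7053) (iv D4166) (iv D2037) (iv F1237)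
def n9670 : Q := act 4 n7036
theorem D9670 : act 4 n7036 = n9670 := rfl
theorem F11788 : act 1 n9670 = n7145 := d6_1 D9670 (iv D7145) (iv F6880)
theorem F11789 : act 2 n9670 = n7364 := d8_1 D9670 (iv F11505) F11504 (iv D9144) F6885 (iv D7038) (iv F6881)
theorem F11790 : act 3 n7300 = n9670 := d7_0 F11789 (iv D7364) (iv F7374)
def n9671 : Q := act 3 n7037
theorem D9671 : act 3 n7037 = n9671 := rfl
theorem F11791 : act 1 n9671 = n7146 := d5_1 D9671 (iv D7146) (iv F6882)
theorem F11792 : act 2 n9671 = n7053 := d7_1 D9671 (iv D7053) (iv F6883)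
theorem F11793 : act 4 n9671 = n7299 := d9_2 D7037 D9671 (iv D7299) D7300 F11790 (iv D9670) (iv D7036)
def n9672 : Q := act 0 n7039
theorem D9672 : act 0 n7039 = n9672 := rfl
theorem F11794 : act 4 n9672 = n7356 := d3_2 (iv F6887) D9672 F7465
def n9673 : Q := act 2 n7040
theorem D9673 : act 2 n7040 = n9673 := rfl
theorem F11795 : act 1 n9673 = n9673 := d4_1 D9673 (iv D9673) (iv D7040) D7041 F11744 (iv D7041) D7040
theorem F11796 : act 4 n9673 = n9615 := d11_1 D9673 (iv D9615) (iv F10859) F10861 (iv D7496) (iv F7659) F7662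
theorem F11797 : act 0 n9673 = n9540 := d14_3 D7040 D9673 F11795 (iv D9540) (iv D6903) (iv D4065) (iv D1986) (iv F1210) (iv F3051) F3050 D4157
def n9674 : Q := act 3 n7040
theorem D9674 : act 3 n7040 = n9674 := rfl
theorem F11798 : act 0 n9674 = n7139 := d2_1 D9674 (iv D7139) (iv D4234) D4236 F4601 D7493 F7662
theorem F11799 : act 1 n9674 = n7042 := d5_1 D9674 (iv D7042) D7040
def n9675 : Q := act 4 n7040
theorem D9675 : act 4 n7040 = n9675 := rfl
theorem F11800 : act 1 n9675 = n7043 := d6_1 D9675 (iv D7043) D7040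
def n9676 : Q := act 3 n7041
theorem D9676 : act 3 n7041 = n9676 := rfl
theorem F11801 : act 1 n9676 = n9676 := d5_1 D9676 (iv D9676) F11744
theorem F11802 : act 2 n9676 = n7042 := d7_1 D9676 (iv D7042) D7041
def n9677 : Q := act 4 n7041
theorem D9677 : act 4 n7041 = n9677 := rfl
theorem F11803 : act 1 n9677 = n9677 := d6_1 D9677 (iv D9677) F11744
theorem F11804 : act 2 n9677 = n7052 := d11_2 D7041 D9677 (iv D7052) (iv D4165) (iv D2036) (iv F1238) D4157
def n9678 : Q := act 0 n7044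
theorem D9678 : act 0 n7044 = n9678 := rfl
theorem F11805 : act 2 n9678 = n7050 := d1_2 D7044 D9678 (iv F11748) F11750 (iv F11663) (iv F11664) F6888
def n9679 : Q := act 2 n7048
theorem D9679 : act 2 n7048 = n9679 := rfl
theorem F11806 : act 4 n9679 = n8176 := d8_2 F10443 D9679 F8911 D8986 F10451 (iv D8180) D8179
theorem F11807 : act 0 n9679 = n8177 := d10_3 (iv F10441) (iv F10442) D9679 F8914 (iv F7137) (iv D7160) D7159
def n9680 : Q := act 3 n7048
theorem D9680 : act 3 n7048 = n9680 := rfl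
theorem F11808 : act 1 n9680 = n7049 := d5_1 D9680 (iv D7049) D7048
def n9681 : Q := act 0 n7051
theorem D9681 : act 0 n7051 = n9681 := rfl
theorem F11809 : act 3 n9681 = n7357 := d10_4 (iv F2070) (iv F3124) D7051 D9681 (iv D7357) (iv D4512) F1398
def n9682 : Q := act 1 n7051
theorem D9682 : act 1 n7051 = n9682 := rfl
def n9683 : Q := act 4 n7051
theorem D9683 : act 4 n7051 = n9683 := rfl
def n9684 : Q := act 1 n7052
theorem D9684 : act 1 n7052 = n9684 := rfl
theorem F11810 : act 0 n9684 = n7482 := d0_1 D9684 F9137 F9136 F4371 (iv F4273) (iv F5747) D7052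
def n9685 : Q := act 3 n7052
theorem D9685 : act 3 n7052 = n9685 := rfl
def n9686 : Q := act 4 n7053
theorem D9686 : act 4 n7053 = n9686 := rfl
theorem F11811 : act 1 n9686 = n7423 := d6_1 D9686 (iv D7423) (iv F6894)
theorem F11812 : act 2 n9686 = n9149 := d8_1 D9686 (iv D9149) (iv F6886) F6887 (iv F7372) (iv F11793) F11792
theorem F11813 : act 3 n9686 = n7365 := d9_1 D9686 (iv D7365) D7364 (iv F11505) (iv D9520) F6655 D7053
def n9687 : Q := act 4 n7057
theorem D9687 : act 4 n7057 = n9687 := rfl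
theorem F11814 : act 0 n9687 = n7082 := d3_1 D9687 (iv D7082) (iv F6907)
theorem F11815 : act 2 n9687 = n7065 := d8_1 D9687 (iv D7065) (iv D4183) (iv D2047) D2045 D4180 D7057
def n9688 : Q := act 1 n7058
theorem D9688 : act 1 n7058 = n9688 := rfl
theorem F11816 : act 0 n9688 = n7851 := d0_1 D9688 F8368 (iv F8366) F8367 F7655 F6915 (iv F6908)
theorem F11817 : act 2 n9688 = n7844 := d15_6 D4920 D7840 F8288 F6915 (iv F6908) D9688 (iv D7844) (iv D4922) D4921 (iv F8285) (iv D7839) (iv D4919)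
def n9689 : Q := act 3 n7058
theorem D9689 : act 3 n7058 = n9689 := rfl
theorem F11818 : act 0 n9689 = n7078 := d2_1 D9689 (iv D7078) (iv D4192) (iv D2050) D2048 D4187 (iv F6908)
theorem F11819 : act 2 n9689 = n7059 := d7_1 D9689 (iv D7059) D7058
def n9690 : Q := act 4 n7058
theorem D9690 : act 4 n7058 = n9690 := rfl
theorem F11820 : act 0 n9690 = n7070 := d3_1 D9690 (iv D7070) (iv F6908)
def n9691 : Q := act 4 n7059
theorem D9691 : act 4 n7059 = n9691 := rfl
theorem F11821 : act 0 n9691 = n7089 := d3_1 D9691 (iv D7089) (iv F6909)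
theorem F11822 : act 1 n9691 = n7286 := d6_1 D9691 F7342 (iv F6910)
theorem F11823 : act 3 n9691 = n7066 := d12_2 D7059 D9691 (iv D7066) (iv D4184) (iv D2047) D2046 D4181
def n9692 : Q := act 2 n7060
theorem D9692 : act 2 n7060 = n9692 := rfl
theorem F11824 : act 0 n9692 = n7334 := d1_1 D9692 F8339 F8322 D7867 F8333 (iv D7061) (iv F6911)
def n9693 : Q := act 3 n7060
theorem D9693 : act 3 n7060 = n9693 := rfl
theorem F11825 : act 0 n9693 = n7091 := d2_1 D9693 (iv D7091) F3148 F2073 (iv F1368) (iv F3140) (iv F6911)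
theorem F11826 : act 1 n9693 = n7269 := d5_1 D9693 (iv F8226) F8225
theorem F11827 : act 4 n9693 = n7253 := d9_2 D7060 D9693 F7292 (iv F6914) (iv F11823) (iv D9691) (iv D7059)
def n9694 : Q := act 1 n7061
theorem D9694 : act 1 n7061 = n9694 := rfl
theorem F11828 : act 3 n9694 = n7323 := d5_2 (iv F6912) D9694 (iv D7323)
def n9695 : Q := act 4 n7061
theorem D9695 : act 4 n7061 = n9695 := rfl
def n9696 : Q := act 3 n7062
theorem D9696 : act 3 n7062 = n9696 := rfl
theorem F11829 : act 0 n9696 = n7103 := d10_1 D9696 (iv D7103) (iv D4205) (iv D2055) (iv F1244) D4183 D7062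
def n9697 : Q := act 4 n7062
theorem D9697 : act 4 n7062 = n9697 := rfl
theorem F11830 : act 0 n9697 = n7065 := d3_1 D9697 (iv D7065) D7062
theorem F11831 : act 2 n9697 = n9546 := d8_1 D9697 (iv F11552) F10065 (iv D6844) D6842 D9507 F11481
def n9698 : Q := act 0 n7063
theorem D9698 : act 0 n7063 = n9698 := rfl
def n9699 : Q := act 3 n7063
theorem D9699 : act 3 n7063 = n9699 := rfl
theorem F11832 : act 1 n9699 = n7064 := d5_1 D9699 (iv D7064) D7063
def n9700 : Q := act 4 n7063
theorem D9700 : act 4 n7063 = n9700 := rfl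
theorem F11833 : act 1 n9700 = n7065 := d6_1 D9700 (iv D7065) D7063
theorem F11834 : act 2 n9700 = n9244 := d8_1 D9700 (iv D9244) (iv D6511) D6513 (iv F9185) F9181 F9180
def n9701 : Q := act 4 n7064
theorem D9701 : act 4 n7064 = n9701 := rfl
def n9702 : Q := act 3 n7065
theorem D9702 : act 3 n7065 = n9702 := rfl
def n9703 : Q := act 2 n7066
theorem D9703 : act 2 n7066 = n9703 := rfl
theorem F11835 : act 0 n9703 = n7096 := d1_1 D9703 F8464 F8462 D7948 F8470 F6913 D7066
def n9704 : Q := act 0 n7071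
theorem D9704 : act 0 n7071 = n9704 := rfl
theorem F11836 : act 4 n9704 = n7321 := d3_2 (iv F6933) D9704 F7415
def n9705 : Q := act 4 n7076
theorem D9705 : act 4 n7076 = n9705 := rfl
theorem F11837 : act 1 n9705 = n7079 := d6_1 D9705 (iv D7079) D7076
def n9706 : Q := act 4 n7077
theorem D9706 : act 4 n7077 = n9706 := rfl
theorem F11838 : act 1 n9706 = n9706 := d6_1 D9706 (iv D9706) F9674
theorem F11839 : act 2 n9706 = n7092 := d11_2 D7077 D9706 (iv D7092) (iv D4200) (iv D2053) (iv F1245) D4192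
def n9707 : Q := act 4 n7078
theorem D9707 : act 4 n7078 = n9707 := rfl
theorem F11840 : act 3 n9707 = n7083 := d12_2 D7078 D9707 (iv D7083) (iv D4195) (iv D2051) D2050 D4192
def n9708 : Q := act 2 n7079
theorem D9708 : act 2 n7079 = n9708 := rfl
def n9709 : Q := act 3 n7079
theorem D9709 : act 3 n7079 = n9709 := rfl
theorem F11841 : act 4 n9709 = n7330 := d9_2 D7079 D9709 (iv D7330) (iv F6945) (iv F11840) (iv D9707) (iv D7078)
def n9710 : Q := act 0 n7080
theorem D9710 : act 0 n7080 = n9710 := rfl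
theorem F11842 : act 2 n9710 = n7088 := d10_2 (iv F6939) D9710 (iv F11482) F11484 F7412 D7320 F7414
def n9711 : Q := act 4 n7080
theorem D9711 : act 4 n7080 = n9711 := rfl
theorem F11843 : act 1 n9711 = n8422 := d6_1 D9711 F9344 (iv F6940)
theorem F11844 : act 2 n9711 = n7094 := d8_1 D9711 (iv D7094) (iv D4200) (iv D2053) (iv F1245) D4193 D7080
theorem F11845 : act 3 n7082 = n9711 := d7_0 F11844 (iv F6966) (iv F6944)
def n9712 : Q := act 0 n7081
theorem D9712 : act 0 n7081 = n9712 := rfl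
theorem F11846 : act 2 n9712 = n7332 := d10_2 D7081 D9712 (iv F11485) (iv D9509) F6615 D7057 F6907
def n9713 : Q := act 4 n7081
theorem D9713 : act 4 n7081 = n9713 := rfl
theorem F11847 : act 1 n9713 = n8421 := d6_1 D9713 (iv D8421) (iv F6941)
theorem F11848 : act 2 n9713 = n7101 := d8_1 D9713 (iv D7101) F3150 F2055 (iv F1369) (iv F6931) (iv F6942)
theorem F11849 : act 3 n9713 = n7331 := d9_1 D9713 (iv D7331) (iv F6939) D9711 (iv F11845) (iv D7082) D7081
def n9714 : Q := act 1 n7083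
theorem D9714 : act 1 n7083 = n9714 := rfl
theorem F11850 : act 4 n9714 = n7328 := d6_2 (iv F6945) D9714 (iv D7328)
def n9715 : Q := act 2 n7083
theorem D9715 : act 2 n7083 = n9715 := rfl
def n9716 : Q := act 2 n7089
theorem D9716 : act 2 n7089 = n9716 := rfl
theorem F11851 : act 3 n9716 = n7103 := d7_2 (iv F6958) D9716 (iv D7103)
def n9717 : Q := act 0 n7090
theorem D9717 : act 0 n7090 = n9717 := rfl
theorem F11852 : act 3 n9717 = n7322 := d10_4 (iv F2073) (iv F3148) D7090 D9717 (iv D7322) (iv D4462) F1368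
def n9718 : Q := act 1 n7090
theorem D9718 : act 1 n7090 = n9718 := rfl
def n9719 : Q := act 3 n7090
theorem D9719 : act 3 n7090 = n9719 := rfl
theorem F11853 : act 2 n9719 = n7091 := d7_1 D9719 (iv D7091) D7090
def n9720 : Q := act 4 n7090
theorem D9720 : act 4 n7090 = n9720 := rfl
def n9721 : Q := act 1 n7092
theorem D9721 : act 1 n7092 = n9721 := rfl
theorem F11854 : act 0 n9721 = n7437 := d13_3 D4200 D7092 D9721 F7574 D7439 F7576 (iv F9907) F9909 (iv F6953) F6954 F3148
theorem F11855 : act 2 n8344 = n9721 := d16_4 (iv D5460) (iv F4495) D8344 F9224 (iv D9721) (iv D7092) F3149 D4478 D7333 F8658 (iv F8654) F8656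
theorem F11856 : act 3 n9721 = n8343 := d7_2 D8344 F11855 (iv D8343)
def n9722 : Q := act 3 n7092
theorem D9722 : act 3 n7092 = n9722 := rfl
theorem F11857 : act 1 n9722 = n8343 := d5_1 D9722 (iv F11856) (iv D9721)
def n9723 : Q := act 4 n7092
theorem D9723 : act 4 n7092 = n9723 := rfl
theorem F11858 : act 0 n9723 = n7094 := d3_1 D9723 (iv D7094) D7092
def n9724 : Q := act 4 n7095
theorem D9724 : act 4 n7095 = n9724 := rfl
theorem F11859 : act 0 n9724 = n8486 := d3_1 D9724 (iv D8486) (iv F6967)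
theorem F11860 : act 1 n9724 = n7097 := d6_1 D9724 (iv D7097) D7095
theorem F11861 : act 2 n9724 = n8065 := d8_1 D9724 F8708 F4130 (iv D3755) (iv F1772) D5086 (iv F6968)
theorem F11862 : act 3 n9724 = n8039 := d12_2 F6969 D9724 F8664 F8586 (iv D4533) D4532 (iv F4085)
def n9725 : Q := act 4 n7096
theorem D9725 : act 4 n7096 = n9725 := rfl
theorem F11863 : act 1 n9725 = n8050 := d6_1 D9725 (iv D8050) (iv F6970)
theorem F11864 : act 3 n9725 = n7335 := d12_2 D7096 D9725 F7427 (iv F6980) (iv D7101) (iv D4203) D4201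
def n9726 : Q := act 3 n7097
theorem D9726 : act 3 n7097 = n9726 := rfl
theorem F11865 : act 1 n9726 = n8039 := d5_1 D9726 (iv F11862) F11860
theorem F11866 : act 4 n9726 = n7334 := d9_2 D7097 D9726 (iv D7334) D7335 (iv F11864) (iv D9725) (iv D7096)
def n9727 : Q := act 1 n7100
theorem D9727 : act 1 n7100 = n9727 := rfl
theorem F11867 : act 0 n9727 = n7434 := d13_3 (iv F3150) D7100 D9727 (iv D7434) (iv F7569) F7570 (iv F6811) (iv F6836) (iv F6981) (iv D7102) (iv D4205)
theorem F11868 : act 2 n9727 = n8342 := d15_6 F4229 (iv F4252) (iv F6977) F6976 D7100 D9727 F9221 D9523 F11510 (iv D9375) F8924 F8922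
theorem F11869 : act 3 n8349 = n9727 := d7_0 F11868 F9223 D8349
def n9728 : Q := act 2 n7100
theorem D9728 : act 2 n7100 = n9728 := rfl
theorem F11870 : act 1 n9728 = n9728 := d4_1 D9728 (iv D9728) D9727 F11868 F9222 (iv F11868) (iv D9727)
theorem F11871 : act 4 n9728 = n7329 := d11_1 D9728 (iv D7329) (iv D4471) F1369 (iv F2055) (iv F3150) D7100
def n9729 : Q := act 3 n7100
theorem D9729 : act 3 n7100 = n9729 := rfl
theorem F11872 : act 1 n9729 = n8349 := d5_1 D9729 F11869 (iv D9727)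
def n9730 : Q := act 4 n7100
theorem D9730 : act 4 n7100 = n9730 := rfl
theorem F11873 : act 0 n9730 = n7101 := d3_1 D9730 (iv D7101) D7100
def n9731 : Q := act 1 n7103
theorem D9731 : act 1 n7103 = n9731 := rfl
def n9732 : Q := act 4 n7103
theorem D9732 : act 4 n7103 = n9732 := rfl
def n9733 : Q := act 4 n7107
theorem D9733 : act 4 n7107 = n9733 := rfl
theorem F11874 : act 0 n9733 = n8856 := d3_1 D9733 (iv D8856) (iv F6998)
theorem F11875 : act 1 n9733 = n7111 := d6_1 D9733 (iv D7111) (iv F6996)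
theorem F11876 : act 3 n9733 = n7254 := d9_1 D9733 (iv D7254) (iv D4362) D4363 F7001 (iv D7108) D7107
def n9734 : Q := act 4 n7109
theorem D9734 : act 4 n7109 = n9734 := rfl
theorem F11877 : act 0 n9734 = n7154 := d3_1 D9734 (iv D7154) (iv F7005)
theorem F11878 : act 1 n9734 = n7909 := d6_1 D9734 (iv D7909) (iv F7003)
theorem F11879 : act 3 n9734 = n7255 := d9_1 D9734 (iv D7255) (iv D4364) D4365 F7012 (iv D7110) D7109
theorem F11880 : act 2 n9734 = n7163 := d11_2 (iv F7004) D9734 (iv D7163) (iv D4261) (iv D2081) D2079 (iv F3175)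
def n9735 : Q := act 0 n7113
theorem D9735 : act 0 n7113 = n9735 := rfl
theorem F11881 : act 1 n9735 = n7846 := d0_2 (iv F7019) D9735 (iv F8797) (iv D8112) (iv D5165) D5166 F4156
theorem F11882 : act 2 n9735 = n7845 := d1_2 (iv F7020) D9735 (iv F9705) F9704 F6862 (iv F7023) (iv D7114)
theorem F11883 : act 3 n9735 = n7845 := d2_2 D7113 D9735 (iv F9705) (iv D8611) (iv D5753) F4829 F4827
theorem F11884 : act 4 n9735 = n9187 := d3_2 F7021 D9735 (iv D9187)
def n9736 : Q := act 0 n7116
theorem D9736 : act 0 n7116 = n9736 := rfl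
theorem F11885 : act 3 n9736 = n7881 := d2_2 D7116 D9736 (iv F11751) F11754 (iv F9891) F9893 F7017
theorem F11886 : act 4 n9736 = n7308 := d3_2 (iv F7030) D9736 (iv D7308)
theorem F11887 : act 2 n9736 = n9186 := d10_2 D7116 D9736 F10818 (iv D6918) (iv F4698) (iv F7018) F7017
theorem F11888 : act 1 n7885 = n9736 := d16_3 F8373 F8371 D7885 F11887 F10819 (iv D7574) (iv D4706) F1552 (iv F953) D3467 (iv F2531) (iv F3949)
def n9737 : Q := act 0 n7119
theorem D9737 : act 0 n7119 = n9737 := rfl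
theorem F11889 : act 2 n9737 = n7124 := d1_2 D7119 D9737 F7045 D7147 (iv F8056) F8059 F7033
theorem F11890 : act 3 n9737 = n7261 := d2_2 (iv F7035) D9737 (iv D7261) F7117 (iv D7155) F4841 D4423
theorem F11891 : act 4 n9737 = n7722 := d3_2 F9110 D9737 (iv F9109)
theorem F11892 : act 1 n7724 = n9737 := d6_3 F11891 (iv D7722) D7724
def n9738 : Q := act 1 n7119
theorem D9738 : act 1 n7119 = n9738 := rfl
theorem F11893 : act 3 n9738 = n7302 := d5_2 (iv F7035) D9738 (iv D7302)
def n9739 : Q := act 0 n7120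
theorem D9739 : act 0 n7120 = n9739 := rfl
theorem F11894 : act 1 n9739 = n9687 := d0_2 D7120 D9739 F11814 F6943 F4554 F4437 (iv F3181)
theorem F11895 : act 4 n9739 = n8328 := d3_2 F9107 D9739 (iv F9194)
def n9740 : Q := act 2 n7120
theorem D9740 : act 2 n7120 = n9740 := rfl
theorem F11896 : act 1 n9740 = n8488 := d4_1 D9740 (iv D8488) F4625 (iv F3180) F3179 D4223 D7120
theorem F11897 : act 4 n9740 = n9157 := d8_2 F9107 D9740 (iv D9157) (iv D6389) D6387 D9154 F10750
def n9741 : Q := act 3 n7120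
theorem D9741 : act 3 n7120 = n9741 := rfl
theorem F11898 : act 1 n9741 = n7121 := d5_1 D9741 (iv D7121) D7120
def n9742 : Q := act 0 n7121
theorem D9742 : act 0 n7121 = n9742 := rfl
theorem F11899 : act 2 n9742 = n7149 := d1_2 (iv F7036) D9742 (iv D7149) (iv F7090) (iv F8169) (iv F8172) (iv D7122)
theorem F11900 : act 3 n9742 = n7266 := d2_2 D7121 D9742 (iv D7266) (iv D4380) F1324 F4843 (iv F3181)
theorem F11901 : act 4 n9742 = n7764 := d3_2 F9154 D9742 (iv F9152)
theorem F11902 : act 1 n7766 = n9742 := d6_3 F11901 (iv D7764) D7766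
def n9743 : Q := act 0 n7127
theorem D9743 : act 0 n7127 = n9743 := rfl
theorem F11903 : act 4 n9743 = n7649 := d17_0 (iv F8382) (iv D7886) (iv D4947) (iv F3929) F7024 (iv D7114) F3178 F1255 D2067 D4228 D7127 D9743
def n9744 : Q := act 4 n7127
theorem D9744 : act 4 n7127 = n9744 := rfl
theorem F11904 : act 0 n9744 = n7649 := d3_1 D9744 (iv F11903) (iv D9743)
theorem F11905 : act 1 n9744 = n7128 := d6_1 D9744 (iv D7128) D7127
theorem F11906 : act 2 n9744 = n9191 := d8_1 D9744 (iv D9191) (iv D6434) D6435 D9192 F10831 F7544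
theorem F11907 : act 3 n7134 = n9744 := d7_0 F11906 F10828 (iv F7064)
def n9745 : Q := act 3 n7130
theorem D9745 : act 3 n7130 = n9745 := rfl
theorem F11908 : act 0 n9745 = n7165 := d2_1 D9745 F7148 (iv F7341) F8051 F8049 F7334 (iv F7056)
theorem F11909 : act 1 n9745 = n7554 := d5_1 D9745 (iv D7554) F7058
theorem F11910 : act 2 n9745 = n7547 := d7_1 D9745 (iv D7547) (iv F7057)
theorem F11911 : act 4 n9745 = n7163 := d9_2 D7130 D9745 F7146 (iv F7332) (iv D7278) (iv D4393) (iv F3191)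
def n9746 : Q := act 1 n7131
theorem D9746 : act 1 n7131 = n9746 := rfl
theorem F11912 : act 0 n9746 = n8902 := d0_1 D9746 (iv D8902) (iv F7055) (iv D7129) (iv D4229) D4230 D7131
theorem F11913 : act 3 n9746 = n8576 := d5_2 F11781 D9746 (iv F11779)
theorem F11914 : act 4 n9746 = n8572 := d6_2 (iv F9555) D9746 F9628
def n9747 : Q := act 0 n7133
theorem D9747 : act 0 n7133 = n9747 := rfl
theorem F11915 : act 4 n9747 = n7672 := d17_0 (iv F8388) F8389 F3933 (iv F3980) (iv F7392) (iv D7308) F3427 F1350 (iv F2059) (iv F3192) (iv F7062) D9747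
def n9748 : Q := act 4 n7133
theorem D9748 : act 4 n7133 = n9748 := rfl
theorem F11916 : act 0 n9748 = n7672 := d3_1 D9748 (iv F11915) (iv D9747)
theorem F11917 : act 1 n9748 = n7136 := d6_1 D9748 (iv D7136) (iv F7062)
theorem F11918 : act 2 n9748 = n9196 := d8_1 D9748 (iv D9196) F5920 D6444 D9197 F10843 F7562
theorem F11919 : act 3 n9748 = n7313 := d9_1 D9748 (iv D7313) (iv F7053) D9744 (iv F11907) (iv D7134) D7133
def n9749 : Q := act 4 n7139
theorem D9749 : act 4 n7139 = n9749 := rfl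
theorem F11920 : act 1 n9749 = n9510 := d6_1 D9749 (iv D9510) (iv F7070)
theorem F11921 : act 3 n9749 = n7294 := d12_2 D7139 D9749 F7361 F7078 (iv D7142) (iv D4236) D4234
def n9750 : Q := act 2 n7140
theorem D9750 : act 2 n7140 = n9750 := rfl
theorem F11922 : act 4 n9750 = n9201 := d8_2 D7140 D9750 (iv D9201) (iv D6448) (iv F4604) (iv D5595) F3197
theorem F11923 : act 1 n9497 = n9750 := d6_3 F11922 F10850 D9497
def n9751 : Q := act 3 n7140
theorem D9751 : act 3 n7140 = n9751 := rfl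
theorem F11924 : act 1 n9751 = n9505 := d5_1 D9751 F11477 (iv F7073)
theorem F11925 : act 4 n9751 = n7293 := d9_2 D7140 D9751 (iv D7293) D7294 (iv F11921) (iv D9749) (iv D7139)
def n9752 : Q := act 0 n7141
theorem D9752 : act 0 n7141 = n9752 := rfl
theorem F11926 : act 1 n9752 = n8587 := d0_2 F7682 D9752 F9645 F8291 (iv D7840) D7841 F8295
theorem F11927 : act 4 n9752 = n9220 := d3_2 F7075 D9752 (iv D9220)
theorem F11928 : act 3 n9752 = n9540 := d10_4 (iv D7493) (iv F4601) (iv F7074) D9752 (iv F11797) (iv D9673) (iv F7662)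
def n9753 : Q := act 2 n7142
theorem D9753 : act 2 n7142 = n9753 := rfl
theorem F11929 : act 1 n9753 = n7399 := d4_1 D9753 (iv D7399) F3513 D6949 (iv F7377) (iv D7147) (iv F7077)
theorem F11930 : act 3 n9753 = n7297 := d7_2 F7078 D9753 (iv D7297)
theorem F11931 : act 4 n9753 = n9209 := d8_2 D7142 D9753 F10869 F5937 (iv F5990) F7075 F7074
def n9754 : Q := act 3 n7143
theorem D9754 : act 3 n7143 = n9754 := rfl
theorem F11932 : act 1 n9754 = n7410 := d5_1 D9754 F7538 (iv F7079)
theorem F11933 : act 2 n9754 = n7144 := d7_1 D9754 (iv D7144) D7143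
theorem F11934 : act 4 n9754 = n9208 := d9_2 (iv F7080) D9754 F10866 (iv F7369) (iv F11930) F11931 (iv D9209)
def n9755 : Q := act 1 n7155
theorem D9755 : act 1 n7155 = n9755 := rfl
theorem F11935 : act 3 n9755 = n7262 := d5_2 F7117 D9755 (iv D7262)
def n9756 : Q := act 1 n7163
theorem D9756 : act 1 n7163 = n9756 := rfl
theorem F11936 : act 3 n9756 = n7310 := d5_2 (iv F7146) D9756 (iv D7310)
theorem F11937 : act 4 n9756 = n7554 := d6_2 F11911 D9756 (iv F11909)
theorem F11938 : act 0 n9756 = n8918 := d13_3 D4261 D7163 D9756 (iv D8918) F5463 F2454 F899 F3377 F469 (iv F466) (iv F1258)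
def n9757 : Q := act 0 n7164
theorem D9757 : act 0 n7164 = n9757 := rfl
theorem F11939 : act 2 n9757 = n9757 := d10_2 (iv F7147) D9757 (iv D9757) F7147 D7275 F7324 (iv D7275)
def n9758 : Q := act 2 n7164
theorem D9758 : act 2 n7164 = n9758 := rfl
theorem F11940 : act 1 n9758 = n7393 := d4_1 D9758 F7514 F3507 F3211 F3209 D4261 D7164
theorem F11941 : act 3 n9758 = n7276 := d7_2 (iv F7147) D9758 (iv D7276)
theorem F11942 : act 4 n9758 = n8205 := d17_3 (iv D7165) D7164 D9758 F8960 F5684 (iv F5688) (iv F8830) (iv D8132) (iv F4172) (iv F7776) (iv F11909) F11908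
theorem F11943 : act 0 n8206 = n9758 := d15_7 (iv D8918) F5463 D6143 (iv F8969) F8968 (iv F8962) F8964 (iv D9758) (iv D7164) D7163 D9756 F11938
def n9759 : Q := act 4 n7164
theorem D9759 : act 4 n7164 = n9759 := rfl
theorem F11944 : act 1 n9759 = n7165 := d6_1 D9759 (iv D7165) D7164
theorem F11945 : act 2 n9759 = n9082 := d8_1 D9759 (iv D9082) F5682 D6308 (iv F8960) (iv F11942) (iv D9758)
theorem F11946 : act 3 n9759 = n7282 := d9_1 D9759 (iv D7282) (iv D4396) D4397 F7327 (iv D7277) (iv F7147)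
def n9760 : Q := act 2 n7170
theorem D9760 : act 2 n7170 = n9760 := rfl
theorem F11947 : act 0 n9760 = n7178 := d1_1 D9760 (iv D7178) (iv F7175) (iv F10040) F10041 (iv D7910) (iv F7165)
theorem F11948 : act 3 n9760 = n7189 := d7_2 (iv F7166) D9760 (iv D7189)
def n9761 : Q := act 2 n7171
theorem D9761 : act 2 n7171 = n9761 := rfl
theorem F11949 : act 3 n9761 = n7800 := d7_2 (iv F7168) D9761 (iv D7800)
theorem F11950 : act 0 n9761 = n7175 := d10_3 D4270 D7171 D9761 (iv D7175) (iv D4272) (iv D2091) D2090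
theorem F11951 : act 4 n7218 = n9761 := d3_0 F11950 F7174 D7218
def n9762 : Q := act 0 n7172
theorem D9762 : act 0 n7172 = n9762 := rfl
theorem F11952 : act 3 n9762 = n7238 := d10_4 (iv F2080) (iv F3218) D7172 D9762 (iv D7238) (iv D4340) F1296
theorem F11953 : act 2 n9762 = n7909 := d11_4 (iv D4269) D4271 D7172 D9762 (iv D7909) (iv D4965) (iv F3216)
theorem E902 : n7209 = n7202 := (c12_1 D7209 (iv D7202) (iv F7170) D9762 F11952 F10421 (iv D8978) (iv F5559))
theorem F11954 : act 3 n7202 = n4313 := (sb E902 (iv D7209))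
theorem F11955 : act 1 n9762 = n9414 := d13_2 D7172 D9762 (iv D9414) (iv D6690) F2887 F1105 F414 F3373 (iv F469) (iv F1263) (iv F3218)
def n9763 : Q := act 1 n7172
theorem D9763 : act 1 n7172 = n9763 := rfl
theorem F11956 : act 3 n9763 = n7201 := d5_2 (iv F7170) D9763 (iv D7201)
def n9764 : Q := act 4 n7172
theorem D9764 : act 4 n7172 = n9764 := rfl
theorem F11957 : act 3 n9764 = n7208 := d9_1 D9764 (iv D7208) (iv D4312) D4313 (iv F11954) (iv D7202) (iv F7170)
def n9765 : Q := act 3 n7173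
theorem D9765 : act 3 n7173 = n9765 := rfl
theorem F11958 : act 0 n9765 = n8505 := d2_1 D9765 (iv D8505) F4662 D7067 (iv F7655) (iv F7696) F7695
theorem F11959 : act 1 n9765 = n7175 := d5_1 D9765 (iv D7175) D7173
theorem F11960 : act 2 n9765 = n8625 := d7_1 D9765 (iv D8625) (iv F7171)
theorem F11961 : act 4 n9765 = n7214 := d12_1 D9765 (iv D7214) (iv F3635) D7517 (iv F8140) (iv F7696) F7695
def n9766 : Q := act 4 n7173
theorem D9766 : act 4 n7173 = n9766 := rfl
theorem F11962 : act 1 n9766 = n7176 := d6_1 D9766 (iv D7176) D7173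
theorem F11963 : act 3 n9766 = n7213 := d9_1 D9766 (iv D7213) (iv D4315) D4316 D7214 (iv F11961) (iv D9765)
theorem F11964 : act 2 n9766 = n8073 := d11_2 (iv F7171) D9766 F8727 (iv D5789) (iv D3113) D3112 D5786
def n9767 : Q := act 3 n7174
theorem D9767 : act 3 n7174 = n9767 := rfl
theorem F11965 : act 1 n9767 = n9767 := d5_1 D9767 (iv D9767) F7173
theorem F11966 : act 2 n9767 = n7175 := d7_1 D9767 (iv D7175) D7174
theorem F11967 : act 0 n9767 = n9512 := d10_1 D9767 (iv D9512) (iv F7164) (iv D7169) F3216 D4965 (iv F7172)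
theorem F11968 : act 4 n9767 = n7216 := d12_1 D9767 (iv D7216) F3254 D4968 F7014 (iv F3941) (iv F7172)
def n9768 : Q := act 4 n7174
theorem D9768 : act 4 n7174 = n9768 := rfl
theorem F11969 : act 0 n9768 = n7909 := d3_1 D9768 (iv D7909) (iv F7172)
theorem F11970 : act 1 n9768 = n9768 := d6_1 D9768 (iv D9768) F7173
theorem F11971 : act 3 n9768 = n7215 := d9_1 D9768 (iv D7215) (iv D4317) D4318 D7216 (iv F11968) (iv D9767)
theorem F11972 : act 2 n9768 = n7179 := d11_2 D7174 D9768 (iv D7179) (iv D4275) (iv D2092) D2091 D4272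
def n9769 : Q := act 4 n7178
theorem D9769 : act 4 n7178 = n9769 := rfl
theorem F11973 : act 1 n9769 = n8424 := d6_1 D9769 (iv D8424) (iv F7180)
theorem F11974 : act 2 n9769 = n7181 := d8_1 D9769 (iv D7181) (iv D4275) (iv D2092) D2091 D4274 D7178
theorem F11975 : act 3 n9769 = n7231 := d9_1 D9769 (iv D7231) (iv D4329) D4330 F7258 (iv D7229) (iv F7179)
def n9770 : Q := act 4 n7179
theorem D9770 : act 4 n7179 = n9770 := rfl
theorem F11976 : act 0 n9770 = n7181 := d3_1 D9770 (iv D7181) D7179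
theorem F11977 : act 3 n9770 = n7245 := d9_1 D9770 (iv D7245) (iv D4345) D4346 D7246 (iv F8604) (iv F8602)
def n9771 : Q := act 1 n7186
theorem D9771 : act 1 n7186 = n9771 := rfl
theorem F11978 : act 2 n9771 = n9623 := d4_2 D7186 D9771 F11703 (iv D8108) (iv F6567) F6568 (iv F3999)
theorem F11979 : act 0 n9771 = n9638 := d14_3 (iv F3999) D7186 D9771 F11733 F11734 (iv F11731) F11730 F7359 (iv D6840) (iv D4001) D4000
def n9772 : Q := act 3 n7186
theorem D9772 : act 3 n7186 = n9772 := rfl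
theorem F11980 : act 0 n9772 = n7222 := d2_1 D9772 (iv D7222) F3260 (iv D2601) (iv F1290) D4317 (iv F7197)
theorem F11981 : act 2 n9772 = n7187 := d7_1 D9772 (iv D7187) D7186
def n9773 : Q := act 4 n7186
theorem D9773 : act 4 n7186 = n9773 := rfl
theorem F11982 : act 0 n9773 = n7215 := d3_1 D9773 (iv D7215) (iv F7197)
theorem F11983 : act 2 n9773 = n7200 := d11_2 D7186 D9773 (iv D7200) (iv D4309) (iv D2115) (iv F1287) D4301
def n9774 : Q := act 4 n7187
theorem D9774 : act 4 n7187 = n9774 := rfl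
theorem F11984 : act 0 n9774 = n7235 := d3_1 D9774 (iv D7235) (iv F7198)
theorem F11985 : act 1 n9774 = n7536 := d6_1 D9774 (iv D7536) (iv F7199)
theorem F11986 : act 3 n9774 = n7192 := d12_2 D7187 D9774 (iv D7192) (iv D4304) (iv D2113) D2112 D4301
def n9775 : Q := act 3 n7188
theorem D9775 : act 3 n7188 = n9775 := rfl
theorem F11987 : act 0 n9775 = n7236 := d2_1 D9775 (iv D7236) F3271 (iv F3943) (iv F7165) F7166 (iv F7200)
theorem F11988 : act 1 n9775 = n7469 := d5_1 D9775 F7622 (iv F7201)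
theorem F11989 : act 4 n9775 = n7468 := d9_2 D7188 D9775 F7618 (iv F7205) (iv F11986) (iv D9774) (iv D7187)
def n9776 : Q := act 0 n7189
theorem D9776 : act 0 n7189 = n9776 := rfl
theorem F11990 : act 2 n9776 = n7196 := d1_2 D7189 D9776 F7211 (iv F10026) D8782 F10038 F7200
def n9777 : Q := act 4 n7189
theorem D9777 : act 4 n7189 = n9777 := rfl
theorem F11991 : act 2 n9777 = n7202 := d8_1 D9777 (iv D7202) (iv D4309) (iv D2115) (iv F1287) D4302 D7189
theorem F11992 : act 3 n9777 = n7191 := d12_2 F11948 D9777 F7203 F7258 (iv D7229) (iv F7179) (iv F11947)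
def n9778 : Q := act 0 n7190
theorem D9778 : act 0 n7190 = n9778 := rfl
theorem F11993 : act 2 n9778 = n7218 := d1_2 (iv F7202) D9778 (iv D7218) (iv F5239) D8786 F10048 (iv D7192)
def n9779 : Q := act 4 n7190
theorem D9779 : act 4 n7190 = n9779 := rfl
theorem F11994 : act 2 n9779 = n7208 := d8_1 D9779 (iv D7208) F3247 (iv F3217) (iv F7162) F7163 (iv F7202)
def n9780 : Q := act 0 n7194
theorem D9780 : act 0 n7194 = n9780 := rfl
def n9781 : Q := act 2 n7194
theorem D9781 : act 2 n7194 = n9781 := rfl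
theorem F11995 : act 1 n9781 = n8118 := d4_1 D9781 F8808 F5406 F5160 (iv D4305) D4306 D7194
theorem F11996 : act 3 n8117 = n9781 := d5_0 F11995 (iv D8118) D8117
def n9782 : Q := act 3 n7194
theorem D9782 : act 3 n7194 = n9782 := rfl
theorem F11997 : act 1 n9782 = n7195 := d5_1 D9782 (iv D7195) D7194
theorem F11998 : act 2 n9782 = n8117 := d7_1 D9782 F11996 (iv D9781)
theorem F11999 : act 0 n7930 = n9782 := d1_7 F11998 F8806 F8506 (iv F7734) (iv F8441) (iv D7929) D7930
def n9783 : Q := act 4 n7194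
theorem D9783 : act 4 n7194 = n9783 := rfl
theorem F12000 : act 1 n9783 = n7196 := d6_1 D9783 (iv D7196) D7194
def n9784 : Q := act 4 n7195
theorem D9784 : act 4 n7195 = n9784 := rfl
theorem F12001 : act 0 n9784 = n7224 := d3_1 D9784 (iv D7224) (iv F7209)
theorem F12002 : act 3 n9784 = n7218 := d12_2 D7195 D9784 (iv D7218) (iv D4320) (iv D2121) D2120 (iv F3242)
def n9785 : Q := act 3 n7196
theorem D9785 : act 3 n7196 = n9785 := rfl
theorem F12003 : act 0 n9785 = n7226 := d2_1 D9785 (iv D7226) F3261 (iv F4869) (iv F7175) F7176 (iv F7211)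
theorem F12004 : act 4 n9785 = n7800 := d9_2 D7196 D9785 (iv F11949) (iv F11951) (iv F12002) (iv D9784) (iv D7195)
def n9786 : Q := act 2 n7197
theorem D9786 : act 2 n7197 = n9786 := rfl
theorem F12005 : act 3 n9786 = n7211 := d7_2 (iv F7214) D9786 (iv D7211)
theorem F12006 : act 0 n9786 = n7248 := d10_3 (iv F3272) (iv F7212) D9786 (iv D7248) (iv D4348) F1298 D2138
def n9787 : Q := act 1 n7198
theorem D9787 : act 1 n7198 = n9787 := rfl
def n9788 : Q := act 3 n7198
theorem D9788 : act 3 n7198 = n9788 := rfl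
theorem F12007 : act 0 n9788 = n7243 := d2_1 D9788 (iv D7243) (iv D4342) (iv F3221) D7179 F8602 F8601
theorem F12008 : act 2 n9788 = n7199 := d7_1 D9788 (iv D7199) D7198
def n9789 : Q := act 4 n7198
theorem D9789 : act 4 n7198 = n9789 := rfl
theorem F12009 : act 0 n9789 = n7246 := d3_1 D9789 (iv F8604) F8601
def n9790 : Q := act 1 n7200
theorem D9790 : act 1 n7200 = n9790 := rfl
def n9791 : Q := act 3 n7200
theorem D9791 : act 3 n7200 = n9791 := rfl
theorem F12010 : act 0 n9791 = n7240 := d2_1 D9791 (iv D7240) D7238 (iv F11952) (iv D9762) F7170 D7200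
def n9792 : Q := act 4 n7200
theorem D9792 : act 4 n7200 = n9792 := rfl
theorem F12011 : act 0 n9792 = n7202 := d3_1 D9792 (iv D7202) D7200
def n9793 : Q := act 0 n7201
theorem D9793 : act 0 n7201 = n9793 := rfl
theorem F12012 : act 2 n9793 = n9793 := d13_4 F11983 (iv D7200) D7201 D9793 (iv D9793) (iv D7201) D7200 (iv F11983) F11982 F7234 (iv F11982)
def n9794 : Q := act 4 n7201
theorem D9794 : act 4 n7201 = n9794 := rfl
theorem F12013 : act 1 n9794 = n7202 := d6_1 D9794 (iv D7202) D7201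
theorem F12014 : act 2 n9794 = n8754 := d8_1 D9794 (iv D8754) (iv D5966) D5968 (iv F8937) (iv F8938) F8540
theorem F12015 : act 3 n7206 = n9794 := d7_0 F12014 F11336 (iv F7225)
def n9795 : Q := act 3 n7204
theorem D9795 : act 3 n7204 = n9795 := rfl
theorem F12016 : act 1 n9795 = n9433 := d5_1 D9795 (iv D9433) (iv F7221)
theorem F12017 : act 2 n9795 = n9795 := d7_1 D9795 (iv D9795) F7222
theorem F12018 : act 0 n9795 = n9731 := d16_8 (iv F7190) (iv D7184) (iv D4299) F1283 D2116 D4311 D7204 D9795 (iv D9731) (iv D7103) D7102 F6981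
def n9796 : Q := act 0 n7205
theorem D9796 : act 0 n7205 = n9796 := rfl
theorem F12019 : act 2 n9796 = n9796 := d10_2 D7205 D9796 (iv D9796) (iv D7205) D7204 F7222 (iv D7204)
def n9797 : Q := act 4 n7205
theorem D9797 : act 4 n7205 = n9797 := rfl
theorem F12020 : act 1 n9797 = n7208 := d6_1 D9797 (iv D7208) (iv F7223)
def n9798 : Q := act 1 n7207
theorem D9798 : act 1 n7207 = n9798 := rfl
def n9799 : Q := act 2 n7207
theorem D9799 : act 2 n7207 = n9799 := rfl
theorem F12021 : act 0 n9799 = n7216 := d1_1 D9799 F7236 (iv F7228) (iv D7211) (iv D4314) (iv F3247) D7207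
theorem F12022 : act 4 n9799 = n9512 := d11_1 D9799 (iv D9512) (iv F7164) F7162 F3217 (iv F3247) D7207
def n9800 : Q := act 3 n7207
theorem D9800 : act 3 n7207 = n9800 := rfl
theorem F12023 : act 0 n9800 = n7237 := d2_1 D9800 F7276 (iv F7220) (iv D7203) (iv D4310) D4312 D7207
def n9801 : Q := act 4 n7207
theorem D9801 : act 4 n7207 = n9801 := rfl
theorem F12024 : act 0 n9801 = n7208 := d3_1 D9801 (iv D7208) D7207
def n9802 : Q := act 1 n7211
theorem D9802 : act 1 n7211 = n9802 := rfl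
def n9803 : Q := act 4 n7211
theorem D9803 : act 4 n7211 = n9803 := rfl
theorem F12025 : act 0 n9803 = n7245 := d3_1 D9803 (iv D7245) (iv F7228)
def n9804 : Q := act 1 n7212
theorem D9804 : act 1 n7212 = n9804 := rfl
theorem F12026 : act 2 n9804 = n8879 := d4_2 (iv F7229) D9804 (iv D8879) (iv D6109) (iv F4608) F4609 (iv F4923)
theorem F12027 : act 3 n9804 = n8665 := d5_2 (iv F7230) D9804 F9827
def n9805 : Q := act 4 n7212
theorem D9805 : act 4 n7212 = n9805 := rfl
theorem F12028 : act 0 n9805 = n7213 := d3_1 D9805 (iv D7213) D7212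
theorem F12029 : act 2 n9805 = n8634 := d11_2 (iv F7229) D9805 (iv D8634) (iv D5797) (iv D3118) (iv F2231) D5792
theorem F12030 : act 3 n9805 = n8506 := d12_2 (iv F7230) D9805 F9505 F9786 (iv D8646) F4946 (iv F5081)
def n9806 : Q := act 0 n7214
theorem D9806 : act 0 n7214 = n9806 := rfl
theorem F12031 : act 2 n9806 = n8638 := d1_2 (iv F7233) D9806 (iv D8638) F4935 D5801 (iv F8731) (iv D8075)
theorem F12032 : act 3 n9806 = n8686 := d2_2 D7214 D9806 F9877 (iv F9807) F9805 (iv D7517) F3635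
theorem F12033 : act 4 n9806 = n8505 := d3_2 F11961 D9806 (iv F11958)
def n9807 : Q := act 1 n7218
theorem D9807 : act 1 n7218 = n9807 := rfl
def n9808 : Q := act 4 n7219
theorem D9808 : act 4 n7219 = n9808 := rfl
theorem F12034 : act 0 n9808 = n7221 := d3_1 D9808 (iv D7221) D7219
theorem F12035 : act 2 n9808 = n8674 := d11_2 (iv F7237) D9808 (iv D8674) (iv D5872) (iv D3179) D3177 D5869
def n9809 : Q := act 4 n7222
theorem D9809 : act 4 n7222 = n9809 := rfl
theorem F12036 : act 1 n9809 = n7945 := d6_1 D9809 (iv D7945) F7244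
theorem F12037 : act 2 n9809 = n7248 := d11_2 (iv F7243) D9809 (iv F12006) (iv D9786) (iv D7197) (iv F7210) F7209
theorem F12038 : act 3 n9809 = n7247 := d12_2 D7222 D9809 F7284 (iv D4968) (iv D2602) D2601 (iv F3260)
def n9810 : Q := act 3 n7223
theorem D9810 : act 3 n7223 = n9810 := rfl
theorem F12039 : act 1 n9810 = n7862 := d5_1 D9810 F8338 F7418
theorem F12040 : act 2 n9810 = n7243 := d7_1 D9810 (iv D7243) (iv F7248)
theorem F12041 : act 4 n9810 = n7861 := d9_2 D7223 D9810 F8321 (iv F7286) (iv F12038) (iv D9809) (iv D7222)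
def n9811 : Q := act 1 n7227
theorem D9811 : act 1 n7227 = n9811 := rfl
theorem F12042 : act 2 n9811 = n8058 := d4_2 (iv F7252) D9811 F8698 F4102 (iv F4094) (iv F7270) F7269
theorem F12043 : act 3 n8057 = n9811 := d7_0 F12042 (iv D8058) D8057
def n9812 : Q := act 3 n7227
theorem D9812 : act 3 n7227 = n9812 := rfl
theorem F12044 : act 1 n9812 = n8057 := d5_1 D9812 F12043 (iv D9811)
theorem F12045 : act 2 n9812 = n7236 := d7_1 D9812 (iv D7236) (iv F7252)
def n9813 : Q := act 4 n7227
theorem D9813 : act 4 n7227 = n9813 := rfl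
theorem F12046 : act 0 n9813 = n7229 := d3_1 D9813 (iv D7229) D7227
theorem F12047 : act 2 n9813 = n7241 := d8_1 D9813 (iv D7241) (iv D4340) (iv D2131) D2129 D4338 (iv F7252)
def n9814 : Q := act 1 n7230
theorem D9814 : act 1 n7230 = n9814 := rfl
theorem F12048 : act 2 n9814 = n8054 := d4_2 (iv F7259) D9814 (iv D8054) (iv D5108) (iv F4091) (iv F8422) (iv D7911)
theorem F12049 : act 3 n8090 = n9814 := d7_0 F12048 F8696 D8090
def n9815 : Q := act 3 n7230
theorem D9815 : act 3 n7230 = n9815 := rfl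
theorem F12050 : act 1 n9815 = n8090 := d5_1 D9815 F12049 (iv D9814)
theorem F12051 : act 2 n9815 = n7235 := d7_1 D9815 F7273 (iv F7259)
def n9816 : Q := act 4 n7230
theorem D9816 : act 4 n7230 = n9816 := rfl
theorem F12052 : act 0 n9816 = n7231 := d3_1 D9816 (iv D7231) D7230
theorem F12053 : act 2 n9816 = n7251 := d8_1 D9816 (iv D7251) (iv D4352) F2086 (iv F2139) (iv F3945) (iv F7259)
def n9817 : Q := act 0 n7232
theorem D9817 : act 0 n7232 = n9817 := rfl
theorem F12054 : act 2 n9817 = n8590 := d1_2 (iv F7262) D9817 (iv D8590) (iv D5728) F2148 D3084 D5745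
theorem F12055 : act 4 n9817 = n8480 := d3_2 (iv F7263) D9817 F9442
def n9818 : Q := act 1 n7237
theorem D9818 : act 1 n7237 = n9818 := rfl
theorem F12056 : act 2 n9818 = n8045 := d4_2 D7237 D9818 (iv D8045) F4082 (iv F5346) (iv F6992) (iv F6995)
theorem F12057 : act 3 n9818 = n7250 := d5_2 (iv F7276) D9818 (iv D7250)
def n9819 : Q := act 4 n7237
theorem D9819 : act 4 n7237 = n9819 := rfl
theorem F12058 : act 3 n9819 = n7241 := d12_2 (iv F7276) D9819 (iv F10422) (iv D8978) F5558 D7203 F7220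
def n9820 : Q := act 0 n7239
theorem D9820 : act 0 n7239 = n9820 := rfl
theorem F12059 : act 1 n9820 = n9451 := d0_2 D7239 D9820 (iv D9451) (iv D6747) D6746 (iv F7278) (iv D7238)
def n9821 : Q := act 2 n7239
theorem D9821 : act 2 n7239 = n9821 := rfl
theorem F12060 : act 1 n9821 = n8042 := d4_1 D9821 F8670 F7267 (iv D7233) F3268 D4340 D7239
theorem F12061 : act 4 n9821 = n8846 := d17_3 (iv D7241) D7239 D9821 (iv D8846) F5398 (iv F5195) (iv F6347) D9419 (iv F11295) (iv F11316) F11315 F10422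
theorem F12062 : act 3 n8041 = n9821 := d5_0 F12060 (iv D8042) D8041
def n9822 : Q := act 3 n7239
theorem D9822 : act 3 n7239 = n9822 := rfl
theorem F12063 : act 1 n9822 = n7240 := d5_1 D9822 (iv D7240) D7239
theorem F12064 : act 2 n9822 = n8041 := d7_1 D9822 F12062 (iv D9821)
def n9823 : Q := act 4 n7239
theorem D9823 : act 4 n7239 = n9823 := rfl
theorem F12065 : act 1 n9823 = n7241 := d6_1 D9823 (iv D7241) D7239
theorem F12066 : act 2 n9823 = n8845 := d8_1 D9823 (iv D8845) (iv D6070) D6071 D8846 (iv F12061) (iv D9821)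
def n9824 : Q := act 4 n7240
theorem D9824 : act 4 n7240 = n9824 := rfl
theorem F12067 : act 3 n9824 = n7251 := d9_1 D9824 (iv D7251) (iv F7276) D9819 F12058 (iv D7241) D7240
def n9825 : Q := act 0 n7242
theorem D9825 : act 0 n7242 = n9825 := rfl
theorem F12068 : act 2 n9825 = n8497 := d1_2 F8655 D9825 F9481 (iv F11366) (iv D9452) (iv F6443) (iv F8656)
theorem F12069 : act 3 n9825 = n8496 := d2_2 F8609 D9825 F9480 (iv F11856) F11854 (iv D7437) D7435
def n9826 : Q := act 4 n7243
theorem D9826 : act 4 n7243 = n9826 := rfl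
theorem F12070 : act 3 n9826 = n7249 := d12_2 D7243 D9826 F7287 (iv F7182) (iv D7181) F3221 D4342
def n9827 : Q := act 3 n7244
theorem D9827 : act 3 n7244 = n9827 := rfl
theorem F12071 : act 4 n9827 = n7248 := d9_2 D7244 D9827 (iv D7248) D7249 (iv F12070) (iv D9826) (iv D7243)
def n9828 : Q := act 0 n7250
theorem D9828 : act 0 n7250 = n9828 := rfl
theorem F12072 : act 1 n9828 = n9393 := d0_2 D7250 D9828 (iv D9393) (iv D6670) D6669 (iv F7218) F7220
theorem F12073 : act 2 n9828 = n9698 := d13_4 (iv F7219) F7220 D7250 D9828 (iv D9698) (iv D7063) D7062 (iv F11481) F11480 (iv F7285) F7284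
theorem F12074 : act 3 n9828 = n9698 := d16_7 D4212 D7106 F6993 (iv D4351) D4352 D7250 D9828 (iv D9698) (iv D7063) (iv D4183) (iv F3135) F3134
def n9829 : Q := act 2 n7250
theorem D9829 : act 2 n7250 = n9829 := rfl
theorem F12075 : act 1 n9829 = n8046 := d4_1 D9829 F8676 F4098 (iv F3278) (iv D4351) D4352 D7250
theorem F12076 : act 3 n9829 = n8045 := d7_2 F12057 D9829 (iv F12056)
theorem F12077 : act 4 n9829 = n8823 := d17_3 (iv D7251) D7250 D9829 (iv D8823) F5365 F5199 (iv F6260) D9380 (iv F11200) (iv F11228) F11227 (iv F10413)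
def n9830 : Q := act 4 n7250
theorem D9830 : act 4 n7250 = n9830 := rfl
theorem F12078 : act 1 n9830 = n7251 := d6_1 D9830 (iv D7251) D7250
theorem F12079 : act 2 n9830 = n8820 := d8_1 D9830 (iv D8820) (iv D6040) D6042 D8823 (iv F12077) (iv D9829)
def n9831 : Q := act 2 n7253
theorem D9831 : act 2 n7253 = n9831 := rfl
theorem F12080 : act 0 n9831 = n7330 := d1_1 D9831 (iv F9852) (iv D7947) F3987 D5013 F3988 D7253
theorem F12081 : act 3 n9831 = n7321 := d7_2 (iv F7292) D9831 (iv D7321)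
def n9832 : Q := act 3 n7257
theorem D9832 : act 3 n7257 = n9832 := rfl
theorem F12082 : act 0 n9832 = n8661 := d2_1 D9832 (iv D8661) (iv D5836) (iv D3140) (iv F1319) D4369 D7257
theorem F12083 : act 2 n9832 = n9832 := d7_1 D9832 (iv D9832) F7301
theorem F12084 : act 4 n9832 = n9003 := d12_1 D9832 (iv D9003) (iv D6238) (iv D3477) (iv F1320) D4369 D7257
def n9833 : Q := act 1 n7261
theorem D9833 : act 1 n7261 = n9833 := rfl
theorem F12085 : act 3 n9833 = n7724 := d5_2 F11890 D9833 F11892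
theorem F12086 : act 4 n9833 = n7765 := d6_2 F9148 D9833 (iv F9146)
def n9834 : Q := act 0 n7262
theorem D9834 : act 0 n7262 = n9834 := rfl
def n9835 : Q := act 2 n7262
theorem D9835 : act 2 n7262 = n9835 := rfl
theorem F12087 : act 1 n9835 = n7386 := d4_1 D9835 (iv D7386) F3504 F3807 F3304 D4377 D7262
theorem F12088 : act 4 n9835 = n8009 := d8_2 (iv F9150) D9835 F8587 (iv D6259) D6257 D9025 F10509
theorem F12089 : act 0 n9020 = n9835 := d13_1 D9020 F12087 F7501 (iv D6337) F2610 F995 (iv F971) (iv F2549) (iv D3486) D3487 D6256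
theorem F12090 : act 4 n9020 = n8352 := d17_0 (iv D8352) (iv D5466) (iv D2904) D2903 F1960 (iv D1623) (iv F524) (iv F1425) D4543 D7386 (iv F12087) (iv F12089)
theorem F12091 : act 1 n8353 = n9020 := d6_3 F12090 (iv D8352) D8353
theorem F12092 : act 2 n9834 = n9023 := d1_4 D9020 F12089 (iv D9835) D9834 (iv D9023) (iv D6257) D6256
def n9836 : Q := act 3 n7263
theorem D9836 : act 3 n7263 = n9836 := rfl
theorem F12093 : act 1 n9836 = n9777 := d5_1 D9836 F11992 (iv F7308)
theorem F12094 : act 2 n9836 = n9029 := d7_1 D9836 (iv D9029) (iv F7310)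
theorem F12095 : act 4 n8002 = n9836 := d8_0 F12094 F11340 F9765 F5617 (iv F8576) (iv D8004) D8002
def n9837 : Q := act 3 n7264
theorem D9837 : act 3 n7264 = n9837 := rfl
theorem F12096 : act 1 n9837 = n7388 := d5_1 D9837 (iv D7388) (iv F7312)
theorem F12097 : act 2 n9837 = n7265 := d7_1 D9837 (iv D7265) D7264
theorem F12098 : act 0 n9837 = n9033 := d10_1 D9837 (iv D9033) (iv D6265) (iv D3493) D3491 (iv F4039) (iv F7311)
theorem F12099 : act 4 n9033 = n8370 := d17_0 (iv D8370) (iv D5480) D5481 D8372 F9271 F5501 (iv F3511) (iv F7512) (iv D7391) (iv F7503) (iv F12096) F12098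
theorem F12100 : act 1 n8371 = n9033 := d6_3 F12099 (iv D8370) D8371
def n9838 : Q := act 0 n7265
theorem D9838 : act 0 n7265 = n9838 := rfl
theorem F12101 : act 2 n9838 = n9030 := d1_2 F12097 D9838 (iv D9030) F5620 D6265 D9033 (iv F12098)
def n9839 : Q := act 4 n7265
theorem D9839 : act 4 n7265 = n9839 := rfl
theorem F12102 : act 1 n9839 = n7267 := d6_1 D9839 (iv D7267) (iv F7314)
def n9840 : Q := act 1 n7266
theorem D9840 : act 1 n7266 = n9840 := rfl
theorem F12103 : act 3 n9840 = n7766 := d5_2 F11900 D9840 F11902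
theorem F12104 : act 4 n7723 = n9840 := d9_0 F12103 (iv D7766) D7765 (iv F12086) F12085 (iv D7724) D7723
def n9841 : Q := act 4 n7266
theorem D9841 : act 4 n7266 = n9841 := rfl
theorem F12105 : act 0 n9841 = n7267 := d3_1 D9841 (iv D7267) D7266
theorem F12106 : act 1 n9841 = n7723 := d6_1 D9841 F12104 (iv D9840)
theorem F12107 : act 2 n9841 = n7288 := d8_1 D9841 (iv D7288) (iv D4402) F3186 (iv F7041) (iv F7044) (iv F7315)
theorem F12108 : act 3 n9841 = n7722 := d9_1 D9841 (iv F11891) F11890 (iv F9148) F9147 (iv F11901) F11900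
theorem F12109 : act 4 n9036 = n9837 := d17_9 D9841 F12106 F8113 (iv F8115) F10527 F10525 F5627 (iv F5624) D9036 F12097 F7314 D7266
theorem F12110 : act 0 n8370 = n9036 := d3_3 F12109 F12098 F12099
theorem F12111 : act 2 n9839 = n9031 := d8_3 F12109 F12097 D9839 (iv D9031) F5620 D6266 D9036
def n9842 : Q := act 2 n7270
theorem D9842 : act 2 n7270 = n9842 := rfl
def n9843 : Q := act 3 n7270
theorem D9843 : act 3 n7270 = n9843 := rfl
theorem F12112 : act 0 n9843 = n9503 := d2_1 D9843 F11475 (iv D7929) (iv F7747) (iv D5028) F3314 D7270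
theorem F12113 : act 1 n9843 = n8562 := d5_1 D9843 (iv D8562) (iv F7318)
theorem F12114 : act 2 n9780 = n9843 := d10_2 (iv D9782) D9780 F12112 F11475 (iv D7929) D7930 F11999
theorem F12115 : act 3 n9842 = n9780 := d7_0 F12114 (iv D9843) D9842
theorem F12116 : act 1 n9842 = n8561 := d16_3 (iv D9782) D9780 (iv F12115) (iv D8561) (iv F7318) (iv D7270) (iv F3314) D5028 (iv F7746) (iv F8449) F8448 F11999
def n9844 : Q := act 4 n7270
theorem D9844 : act 4 n7270 = n9844 := rfl
theorem F12117 : act 0 n9844 = n7271 := d3_1 D9844 (iv D7271) D7270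
theorem F12118 : act 1 n9844 = n8563 := d6_1 D9844 (iv D8563) (iv F7318)
def n9845 : Q := act 0 n7272
theorem D9845 : act 0 n7272 = n9845 := rfl
theorem F12119 : act 4 n9845 = n7827 := d3_2 (iv F7322) D9845 (iv D7827)
def n9846 : Q := act 1 n7275
theorem D9846 : act 1 n7275 = n9846 := rfl
theorem F12120 : act 4 n9846 = n8559 := d6_2 F10590 D9846 (iv F10588)
def n9847 : Q := act 3 n7275
theorem D9847 : act 3 n7275 = n9847 := rfl
theorem F12121 : act 2 n9847 = n9847 := d7_1 D9847 (iv D9847) F7324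
def n9848 : Q := act 0 n7276
theorem D9848 : act 0 n7276 = n9848 := rfl
theorem F12122 : act 2 n9848 = n9848 := d1_2 D7276 D9848 (iv D9848) (iv D7276) D7275 F7324 (iv D7275)
theorem F12123 : act 4 n9848 = n8210 := d3_2 (iv F8083) D9848 (iv D8210)
def n9849 : Q := act 0 n7280
theorem D9849 : act 0 n7280 = n9849 := rfl
theorem F12124 : act 2 n9849 = n9849 := d1_2 (iv F7337) D9849 (iv D9849) F7337 D7281 F7338 (iv D7281)
theorem F12125 : act 4 n9849 = n9095 := d3_2 F8098 D9849 (iv D9095)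
def n9850 : Q := act 1 n7281
theorem D9850 : act 1 n7281 = n9850 := rfl
theorem F12126 : act 4 n9850 = n8585 := d6_2 F10628 D9850 (iv F10627)
def n9851 : Q := act 3 n7281
theorem D9851 : act 3 n7281 = n9851 := rfl
theorem F12127 : act 2 n9851 = n9851 := d7_1 D9851 (iv D9851) F7338
def n9852 : Q := act 0 n7287
theorem D9852 : act 0 n7287 = n9852 := rfl
theorem F12128 : act 4 n9852 = n7831 := d3_2 F7344 D9852 (iv D7831)
def n9853 : Q := act 2 n7290
theorem D9853 : act 2 n7290 = n9853 := rfl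
theorem F12129 : act 0 n9853 = n8998 := d1_1 D9853 (iv D8998) D8997 F10468 F9246 F5766 (iv F7351)
theorem F12130 : act 3 n9853 = n8410 := d7_2 F7353 D9853 F9333
theorem F12131 : act 4 n9853 = n8441 := d8_2 D7290 D9853 F9367 (iv F9500) (iv D8503) (iv D5627) (iv F3336)
theorem F12132 : act 1 n8444 = n9853 := d6_3 F12131 F9366 D8444
theorem E903 : n8444 = n8414 := ((c5_1 D8414 F12132 F12130 F9332)).symm
theorem F12133 : act 1 n8414 = n9853 := (sb E903 F12132)
theorem F12134 : act 4 n8414 = n5552 := (sb E903 (iv D8444))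
theorem E904 : n8446 = n8412 := (c9_4 F12134 (iv D5552) D5553 D8446 (iv D8412) (iv D5514) D5515 D8414)
theorem F12135 : act 3 n8412 = n5553 := (sb E904 (iv D8446))
def n9854 : Q := act 2 n7291
theorem D9854 : act 2 n7291 = n9854 := rfl
theorem F12136 : act 0 n9854 = n9000 := d1_1 D9854 F10476 D9001 F10479 F9258 F5777 D7291
theorem F12137 : act 3 n9854 = n8442 := d7_2 (iv F7355) D9854 F9369
theorem F12138 : act 4 n9854 = n8409 := d8_2 (iv F7354) D9854 F9331 (iv F5792) F4681 (iv D5638) (iv F4673)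
theorem F12139 : act 1 n8412 = n9854 := d6_3 F12138 F9330 D8412
def n9855 : Q := act 0 n7292
theorem D9855 : act 0 n7292 = n9855 := rfl
theorem F12140 : act 1 n9855 = n8579 := d0_2 D7292 D9855 F9633 F7356 (iv D7291) F3340 D4411
theorem F12141 : act 4 n9855 = n7853 := d3_2 (iv F7358) D9855 (iv D7853)
def n9856 : Q := act 2 n7294
theorem D9856 : act 2 n7294 = n9856 := rfl
theorem F12142 : act 4 n9856 = n9218 := d8_2 D7294 D9856 (iv D9218) (iv D6478) (iv F5078) (iv D5889) (iv F3478)
def n9857 : Q := act 0 n7296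
theorem D9857 : act 0 n7296 = n9857 := rfl
theorem F12143 : act 1 n9857 = n8645 := d0_2 (iv F7365) D9857 (iv D8645) (iv D5807) (iv D3125) (iv F2238) D5804
theorem F12144 : act 4 n9857 = n9204 := d3_2 (iv F7367) D9857 (iv D9204)
theorem F12145 : act 3 n9857 = n9536 := d10_4 F7648 (iv F5076) (iv F7366) D9857 (iv F11727) (iv D9635) (iv F7649)
def n9858 : Q := act 0 n7297
theorem D9858 : act 0 n7297 = n9858 := rfl
theorem F12146 : act 4 n9858 = n9221 := d3_2 (iv F7369) D9858 (iv D9221)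
theorem F12147 : act 2 n9858 = n8889 := d11_4 (iv D4414) D4416 D7297 D9858 (iv D8889) (iv F7364) (iv D7295)
def n9859 : Q := act 1 n7297
theorem D9859 : act 1 n7297 = n9859 := rfl
theorem F12148 : act 2 n9859 = n7400 := d4_2 D7297 D9859 F7522 (iv F7375) (iv D7301) (iv D4421) (iv F3346)
theorem F12149 : act 3 n9859 = n7399 := d5_2 F11930 D9859 (iv F11929)
theorem F12150 : act 4 n9859 = n8680 := d6_2 (iv F7369) D9859 F9863
theorem F12151 : act 0 n9859 = n8681 := d14_3 (iv F3346) D7297 D9859 F9864 (iv F6411) F6410 F2927 (iv F4736) (iv D3161) F808 (iv F1344)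
def n9860 : Q := act 4 n7298
theorem D9860 : act 4 n7298 = n9860 := rfl
theorem F12152 : act 0 n9860 = n7300 := d3_1 D9860 (iv D7300) D7298
theorem F12153 : act 2 n9860 = n7357 := d11_2 (iv F7370) D9860 (iv D7357) (iv D4512) (iv D2272) D2270 D4507
def n9861 : Q := act 0 n7299
theorem D9861 : act 0 n7299 = n9861 := rfl
theorem F12154 : act 1 n9861 = n9772 := d0_2 (iv F7371) D9861 F11980 (iv F7244) (iv D5009) D5010 F3983
theorem F12155 : act 2 n9861 = n7352 := d1_2 (iv F7372) D9861 (iv D7352) F3471 D4511 D7356 F7465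
theorem F12156 : act 3 n9861 = n9771 := d2_2 D7299 D9861 F11979 (iv D9638) (iv F11691) F11693 (iv D7298)
def n9862 : Q := act 0 n7301
theorem D9862 : act 0 n7301 = n9862 := rfl
theorem F12157 : act 2 n9862 = n9545 := d1_2 (iv F7375) D9862 F11549 (iv F11577) F11578 F6797 (iv F6777)
theorem F12158 : act 3 n9862 = n9544 := d10_4 D4104 (iv F6777) (iv F7375) D9862 F11548 (iv D6960) F3081
def n9863 : Q := act 0 n7302
theorem D9863 : act 0 n7302 = n9863 := rfl
theorem F12159 : act 4 n9863 = n8452 := d3_2 F9151 D9863 (iv F9377)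
def n9864 : Q := act 2 n7302
theorem D9864 : act 2 n7302 = n9864 := rfl
theorem F12160 : act 4 n9864 = n9171 := d8_2 F9151 D9864 (iv D9171) (iv D6404) D6402 D9169 F10780
def n9865 : Q := act 0 n7306
theorem D9865 : act 0 n7306 = n9865 := rfl
theorem F12161 : act 1 n9865 = n7964 := d0_2 (iv F7387) D9865 (iv F8806) (iv D8117) (iv D5171) (iv F4161) F4163
theorem F12162 : act 2 n9865 = n7963 := d1_2 (iv F7388) D9865 (iv F9840) F9839 F7460 (iv F7393) (iv D7308)
theorem F12163 : act 3 n9865 = n7963 := d2_2 D7306 D9865 (iv F9840) (iv D8669) (iv D5862) F5032 F5031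
theorem F12164 : act 4 n9865 = n9188 := d3_2 (iv F7389) D9865 (iv D9188)
def n9866 : Q := act 1 n7311
theorem D9866 : act 1 n7311 = n9866 := rfl
theorem F12165 : act 0 n9866 = n8945 := d0_1 D9866 (iv D8945) (iv F7399) (iv D7310) (iv D4446) D4447 D7311
theorem F12166 : act 3 n8695 = n9866 := d16_7 F6521 F4647 (iv F6521) F6520 D6800 D9482 F11415 F12165 (iv D8945) (iv D6171) (iv F5490) (iv F6519)
theorem F12167 : act 4 n9866 = n8575 := d9_2 D8695 F12166 (iv D8575) D8576 (iv F11913) F11914 F9629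
def n9867 : Q := act 2 n7311
theorem D9867 : act 2 n7311 = n9867 := rfl
theorem F12168 : act 0 n9867 = n7358 := d1_1 D9867 (iv F11414) F9177 (iv F9083) F9080 (iv D7312) D7311
theorem F12169 : act 4 n9867 = n8694 := d11_1 D9867 F9896 F5996 D6492 (iv F7400) (iv D7312) D7311
theorem F12170 : act 1 n9867 = n8695 := d14_2 (iv D9866) D9867 (iv F11415) (iv D9482) (iv D6800) (iv F6520) F6519 F5490 D6171 D8945 (iv F12165)
theorem F12171 : act 3 n7311 = n9867 := d5_0 F12170 F12166 (iv D9866)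
def n9868 : Q := act 4 n7311
theorem D9868 : act 4 n7311 = n9868 := rfl
theorem F12172 : act 0 n9868 = n7313 := d3_1 D9868 (iv D7313) D7311
theorem F12173 : act 1 n9868 = n8575 := d6_1 D9868 (iv F12167) (iv D9866)
theorem F12174 : act 2 n9868 = n9194 := d8_1 D9868 F10838 (iv D6488) D6489 (iv F9896) (iv F12169) (iv D9867)
theorem F12175 : act 3 n9868 = n8574 := d9_1 D9868 (iv F11782) F11781 F9555 (iv F9897) (iv F12169) (iv F12171)
def n9869 : Q := act 0 n7315
theorem D9869 : act 0 n7315 = n9869 := rfl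
theorem F12176 : act 1 n9869 = n7994 := d0_2 F8633 D9869 F8563 (iv F8654) F8656 (iv F9211) F9210
theorem F12177 : act 4 n9869 = n9176 := d3_2 (iv F7403) D9869 (iv D9176)
theorem F12178 : act 3 n9869 = n7993 := d12_4 D3582 D6365 (iv F7407) D9869 (iv D7993) F4023 (iv D3581)
theorem F12179 : act 2 n9869 = n8946 := d15_2 D7315 D9869 (iv D8946) (iv D6172) (iv F5306) (iv F5304) F5110 F5303 (iv F4395) (iv F9163) F9164 (iv D7314)
def n9870 : Q := act 4 n7318
theorem D9870 : act 4 n7318 = n9870 := rfl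
theorem F12180 : act 0 n9870 = n7326 := d3_1 D9870 (iv D7326) (iv F7410)
theorem F12181 : act 1 n9870 = n9860 := d6_1 D9870 (iv D9860) (iv F7411)
theorem F12182 : act 2 n9870 = n7322 := d11_2 D7318 D9870 (iv D7322) (iv D4462) (iv D2219) D2217 D4457
def n9871 : Q := act 4 n7320
theorem D9871 : act 4 n7320 = n9871 := rfl
theorem F12183 : act 0 n9871 = n7331 := d3_1 D9871 (iv D7331) (iv F7414)
theorem F12184 : act 1 n9871 = n9863 := d6_1 D9871 F12159 F9376
theorem F12185 : act 2 n9871 = n7324 := d8_1 D9871 (iv D7324) (iv D4462) (iv D2219) D2217 D4460 D7320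
def n9872 : Q := act 1 n7321
theorem D9872 : act 1 n7321 = n9872 := rfl
theorem F12186 : act 0 n9872 = n7932 := d0_1 D9872 (iv D7932) (iv F7701) F7699 (iv F4945) (iv F4947) (iv F7415)
theorem F12187 : act 2 n9872 = n7962 := d15_6 (iv F794) D3125 D5808 (iv F4947) (iv F7415) D9872 (iv D7962) (iv D5025) D5024 F4003 (iv D3128) (iv D1430)
def n9873 : Q := act 4 n7322
theorem D9873 : act 4 n7322 = n9873 := rfl
theorem F12188 : act 0 n9873 = n7324 := d3_1 D9873 (iv D7324) D7322
def n9874 : Q := act 0 n7323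
theorem D9874 : act 0 n7323 = n9874 := rfl
theorem F12189 : act 2 n9874 = n9820 := d13_4 F12182 (iv D7322) D7323 D9874 (iv D9820) (iv D7239) D7238 F7277 (iv F7247) (iv F7418) (iv F12180)
theorem F12190 : act 3 n9874 = n9820 := d16_7 F6852 (iv F6899) F6902 F3358 D4462 D7323 D9874 (iv D9820) (iv D7239) (iv D4340) (iv F3268) (iv F3469)
def n9875 : Q := act 2 n7323
theorem D9875 : act 2 n7323 = n9875 := rfl
theorem F12191 : act 1 n9875 = n9452 := d4_1 D9875 F11366 F7564 (iv D7304) F3358 D4462 D7323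
theorem F12192 : act 0 n8257 = n9875 := d15_12 (iv D9875) D9874 F12189 F12059 (iv D9451) (iv D6747) (iv D3914) F1120 D1883 F5734 (iv F4325) (iv F9051)
theorem F12193 : act 4 n9875 = n8254 := d3_2 D8257 F12192 (iv D8254)
def n9876 : Q := act 4 n7323
theorem D9876 : act 4 n7323 = n9876 := rfl
theorem F12194 : act 1 n9876 = n7324 := d6_1 D9876 (iv D7324) D7323
theorem F12195 : act 2 n9876 = n9476 := d8_1 D9876 (iv D9476) (iv D6774) D6775 F9382 (iv F12193) (iv D9875)
def n9877 : Q := act 3 n7324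
theorem D9877 : act 3 n7324 = n9877 := rfl
def n9878 : Q := act 0 n7333
theorem D9878 : act 0 n7333 = n9878 := rfl
theorem F12196 : act 2 n9878 = n7981 := d1_2 (iv F8658) D9878 F8536 (iv F8670) (iv F11390) F11391 F8563
theorem F12197 : act 3 n9878 = n7980 := d2_2 F8659 D9878 F8535 D8020 F8607 (iv D7376) (iv F4077)
def n9879 : Q := act 4 n7333
theorem D9879 : act 4 n7333 = n9879 := rfl
theorem F12198 : act 1 n9879 = n7335 := d6_1 D9879 (iv D7335) D7333
theorem F12199 : act 2 n9879 = n8064 := d8_1 D9879 (iv D8064) (iv F8662) (iv F8663) (iv F8669) (iv D8040) (iv F8658)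
theorem F12200 : act 3 n9879 = n8050 := d9_1 D9879 (iv D8050) F6969 D9724 F11862 (iv D8039) F8659
def n9880 : Q := act 2 n7338
theorem D9880 : act 2 n7338 = n9880 := rfl
theorem F12201 : act 0 n9880 = n7339 := d11_3 D4482 D7338 D9880 (iv D7339) (iv D4483) (iv D2229) D2228
def n9881 : Q := act 2 n7341
theorem D9881 : act 2 n7341 = n9881 := rfl
theorem F12202 : act 4 n9881 = n9461 := d8_2 D7341 D9881 F11379 (iv D8307) (iv F5756) (iv D4487) D4486
theorem F12203 : act 1 n9462 = n9881 := d17_1 D9462 (iv D9881) (iv D7341) (iv D4486) (iv D2255) D2254 (iv F3433) D7318 D9870 F12182 (iv F11378) (iv D9460)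
def n9882 : Q := act 2 n7351
theorem D9882 : act 2 n7351 = n9882 := rfl
theorem F12204 : act 0 n9882 = n8167 := d1_1 D9882 (iv F9707) F9709 F7391 (iv F9536) (iv F9894) F9891
theorem F12205 : act 3 n9882 = n8266 := d7_2 F11754 D9882 (iv F11753)
theorem F12206 : act 4 n9882 = n8317 := d8_2 D7351 D9882 F9420 (iv F10805) F10803 (iv D8670) F5069
theorem F12207 : act 1 n9882 = n8872 := d15_3 (iv F9894) F9891 D9882 (iv D8872) (iv D6102) D6103 (iv F5533) F5532 F2508 D3463 D6216 (iv F9536)
def n9883 : Q := act 1 n7354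
theorem D9883 : act 1 n7354 = n9883 := rfl
def n9884 : Q := act 4 n7354
theorem D9884 : act 4 n7354 = n9884 := rfl
theorem F12208 : act 0 n9884 = n7362 := d3_1 D9884 (iv D7362) (iv F7464)
theorem F12209 : act 2 n9884 = n7359 := d8_1 D9884 (iv D7359) (iv D4512) (iv D2272) D2270 D4510 D7354
def n9885 : Q := act 4 n7357
theorem D9885 : act 4 n7357 = n9885 := rfl
theorem F12210 : act 0 n9885 = n7359 := d3_1 D9885 (iv D7359) D7357
theorem F12211 : act 1 n9885 = n8468 := d6_1 D9885 (iv F11419) F11413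
theorem F12212 : act 2 n9885 = n9179 := d8_1 D9885 (iv D9179) (iv F7459) (iv D7349) (iv F7370) D9860 F12153
def n9886 : Q := act 4 n7358
theorem D9886 : act 4 n7358 = n9886 := rfl
theorem F12213 : act 0 n9886 = n8694 := d3_1 D9886 (iv F12169) F12168
theorem F12214 : act 1 n9886 = n7359 := d6_1 D9886 (iv D7359) D7358
theorem F12215 : act 2 n9886 = n8671 := d8_1 D9886 F10346 (iv D8948) F9410 (iv D8314) D8316 F11414
def n9887 : Q := act 3 n7359
theorem D9887 : act 3 n7359 = n9887 := rfl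
def n9888 : Q := act 3 n7371
theorem D9888 : act 3 n7371 = n9888 := rfl
theorem F12216 : act 1 n9888 = n7373 := d5_1 D9888 (iv D7373) (iv F7480)
theorem F12217 : act 2 n9888 = n7600 := d7_1 D9888 F7876 (iv F7481)
theorem F12218 : act 0 n9888 = n7613 := d10_1 D9888 F7900 (iv D4780) (iv D2483) D2481 (iv F3745) (iv F7479)
theorem E905 : n7943 = n7828 := (c16_3 F3940 D5005 D7943 (iv D7828) (iv F7914) F7913 (iv F7479) D9888 F12218 F7899 F4277 D5377 F8525)
theorem F12219 : act 3 n7828 = n5005 := (sb E905 (iv D7943))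
theorem E906 : n7942 = n7829 := (c5_2 F12219 D7942 (iv D7829) D7828)
theorem F12220 : act 1 n7829 = n5005 := (sb E906 (iv D7942))
def n9889 : Q := act 4 n7372
theorem D9889 : act 4 n7372 = n9889 := rfl
theorem F12221 : act 0 n9889 = n7640 := d3_1 D9889 F7931 (iv F7484)
theorem F12222 : act 1 n9889 = n7374 := d6_1 D9889 (iv D7374) (iv F7482)
theorem F12223 : act 2 n9889 = n7575 := d11_2 (iv F7483) D9889 F7834 (iv D4802) (iv D2494) D2493 (iv F3720)
def n9890 : Q := act 4 n7373
theorem D9890 : act 4 n7373 = n9890 := rfl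
theorem F12224 : act 0 n9890 = n8778 := d3_1 D9890 (iv D8778) (iv F7485)
theorem F12225 : act 3 n9890 = n7374 := d9_1 D9890 (iv D7374) (iv D4528) (iv D2302) D2301 D4527 D7373
theorem F12226 : act 2 n9890 = n7378 := d11_2 F8577 D9890 (iv F8546) F8548 (iv D5055) (iv F4028) D8005
def n9891 : Q := act 0 n7375
theorem D9891 : act 0 n7375 = n9891 := rfl
theorem F12227 : act 2 n9891 = n7419 := d1_2 F10313 D9891 (iv D7419) (iv F6379) D9431 F11314 (iv F10314)
theorem F12228 : act 4 n9891 = n7897 := d3_2 F8999 D9891 (iv F8997)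
def n9892 : Q := act 3 n7375
theorem D9892 : act 3 n7375 = n9892 := rfl
theorem F12229 : act 1 n9892 = n7376 := d5_1 D9892 (iv D7376) D7375
def n9893 : Q := act 4 n7376
theorem D9893 : act 4 n7376 = n9893 := rfl
theorem F12230 : act 3 n9893 = n7380 := d9_1 D9893 (iv D7380) (iv D4532) D4533 (iv F8586) (iv D7377) D7376
def n9894 : Q := act 0 n7379
theorem D9894 : act 0 n7379 = n9894 := rfl
theorem F12231 : act 2 n9894 = n7422 := d1_2 F10319 D9894 (iv D7422) (iv F6386) D9434 F11321 (iv F10321)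
theorem F12232 : act 4 n7935 = n9894 := d8_0 F12231 F7560 (iv F8450) (iv D7934) (iv D4990) D4992 D7935
def n9895 : Q := act 4 n7379
theorem D9895 : act 4 n7379 = n9895 := rfl
theorem F12233 : act 0 n9895 = n7935 := d3_1 D9895 F12232 (iv D9894)
theorem F12234 : act 1 n9895 = n7380 := d6_1 D9895 (iv D7380) (iv F7490)
theorem F12235 : act 2 n9895 = n7913 := d11_2 F10319 D9895 F8426 (iv F8451) (iv F11320) F11321 (iv F10321)
def n9896 : Q := act 2 n7383
theorem D9896 : act 2 n7383 = n9896 := rfl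
theorem F12236 : act 3 n9896 = n8471 := d7_2 (iv F7496) D9896 (iv D8471)
def n9897 : Q := act 1 n7384
theorem D9897 : act 1 n7384 = n9897 := rfl
theorem F12237 : act 3 n9897 = n8297 := d5_2 F7642 D9897 F9141
theorem F12238 : act 4 n8295 = n9897 := d12_1 D8295 F12237 (iv D8297) (iv D5389) (iv D2861) D2860 D5387
def n9898 : Q := act 4 n7384
theorem D9898 : act 4 n7384 = n9898 := rfl
theorem F12239 : act 0 n9898 = n8304 := d3_1 D9898 F9159 (iv F7497)
theorem F12240 : act 1 n9898 = n8295 := d6_1 D9898 F12238 (iv D9897)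
theorem F12241 : act 2 n9898 = n7755 := d8_1 D9898 (iv F10715) (iv D9137) (iv F9876) (iv D7545) F3664 D7384
theorem F12242 : act 3 n8294 = n9898 := d5_0 F12240 (iv D8295) D8294
def n9899 : Q := act 3 n7385
theorem D9899 : act 3 n7385 = n9899 := rfl
theorem F12243 : act 0 n9899 = n7412 := d2_1 D9899 (iv D7412) (iv F4054) D8026 F8624 (iv D7387) (iv F7498)
theorem F12244 : act 1 n9899 = n8382 := d5_1 D9899 (iv D8382) (iv F7499)
theorem F12245 : act 2 n9899 = n8681 := d7_1 D9899 F9865 (iv F7500)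
theorem F12246 : act 4 n8462 = n9899 := d8_0 F12245 (iv D8681) (iv F9417) (iv F11425) F11424 (iv F9212) D8462
def n9900 : Q := act 3 n7386
theorem D9900 : act 3 n7386 = n9900 := rfl
theorem F12247 : act 2 n9900 = n7387 := d7_1 D9900 (iv D7387) D7386
theorem F12248 : act 0 n9900 = n7403 := d10_1 D9900 F7525 F3515 (iv D3559) (iv F2610) D6337 (iv F7501)
def n9901 : Q := act 4 n7386
theorem D9901 : act 4 n7386 = n9901 := rfl
theorem F12249 : act 0 n9901 = n9112 := d3_1 D9901 (iv D9112) (iv F7501)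
theorem F12250 : act 1 n9901 = n8009 := d6_1 D9901 (iv F12088) F12087
theorem F12251 : act 2 n9901 = n7394 := d8_1 D9901 (iv D7394) (iv D4546) (iv D2315) (iv F1425) D4543 D7386
theorem F12252 : act 3 n9901 = n7389 := d12_2 (iv D9900) D9901 F7505 F7528 (iv D7404) D7403 (iv F12248)
def n9902 : Q := act 4 n7387
theorem D9902 : act 4 n7387 = n9902 := rfl
theorem F12253 : act 1 n9902 = n8989 := d6_1 D9902 (iv D8989) (iv F7502)
theorem F12254 : act 3 n9902 = n7391 := d9_1 D9902 (iv D7391) (iv D4545) (iv D2314) D2313 D4543 D7387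
theorem F12255 : act 2 n9902 = n7395 := d11_2 F12247 D9902 F7515 F7533 (iv D7405) (iv F7525) (iv F12248)
def n9903 : Q := act 4 n7388
theorem D9903 : act 4 n7388 = n9903 := rfl
theorem F12256 : act 0 n9903 = n9117 := d3_1 D9903 (iv D9117) (iv F7504)
theorem F12257 : act 1 n9903 = n9036 := d6_1 D9903 F12109 F12096
theorem F12258 : act 2 n9903 = n7397 := d8_1 D9903 (iv D7397) F3509 D4550 (iv F7512) (iv D7391) (iv F7503)
def n9904 : Q := act 4 n7390
theorem D9904 : act 4 n7390 = n9904 := rfl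
theorem F12259 : act 0 n9904 = n7391 := d3_1 D9904 (iv D7391) D7390
theorem F12260 : act 1 n9904 = n8386 := d6_1 D9904 (iv D8386) F7510
theorem F12261 : act 3 n9904 = n8462 := d9_1 D9904 F12246 (iv D9899) (iv D7385) F3502 D5452 (iv F7509)
theorem F12262 : act 2 n9904 = n8340 := d11_2 (iv F7508) D9904 F9215 F5782 (iv D3565) (iv F2619) D6346
def n9905 : Q := act 4 n7392
theorem D9905 : act 4 n7392 = n9905 := rfl
theorem F12263 : act 0 n9905 = n7394 := d3_1 D9905 (iv D7394) D7392
theorem F12264 : act 1 n9905 = n8393 := d6_1 D9905 (iv F11428) F11427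
theorem F12265 : act 2 n9905 = n8607 := d8_1 D9905 (iv F9696) (iv F7500) (iv D7385) F3501 D5453 (iv F7513)
theorem F12266 : act 3 n9905 = n8339 := d12_2 (iv F11426) D9905 (iv F9460) F9462 (iv D7415) D7414 (iv F11423)
def n9906 : Q := act 4 n7393
theorem D9906 : act 4 n7393 = n9906 := rfl
theorem F12267 : act 1 n9906 = n8205 := d6_1 D9906 (iv F11942) F11940
theorem F12268 : act 3 n9906 = n7397 := d9_1 D9906 (iv D7397) (iv D4548) D4549 (iv F8085) (iv D7394) D7393
def n9907 : Q := act 4 n7396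
theorem D9907 : act 4 n7396 = n9907 := rfl
theorem F12269 : act 0 n9907 = n7397 := d3_1 D9907 (iv D7397) D7396
theorem F12270 : act 1 n9907 = n8400 := d6_1 D9907 (iv F11139) F11138
theorem F12271 : act 2 n9907 = n8603 := d8_1 D9907 (iv F9684) (iv F7508) D9904 F12262 (iv D8340) (iv F7518)
theorem F12272 : act 3 n9907 = n8469 := d9_1 D9907 (iv F11425) (iv F11426) D9905 F12266 (iv D8339) (iv F7519)
def n9908 : Q := act 1 n7401
theorem D9908 : act 1 n7401 = n9908 := rfl
theorem F12273 : act 2 n9908 = n9738 := d4_2 (iv F7524) D9908 (iv D9738) (iv D7119) (iv F7025) F7026 F5897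
theorem F12274 : act 3 n9864 = n9908 := d7_0 F12273 F11893 D9864
def n9909 : Q := act 3 n7401
theorem D9909 : act 3 n7401 = n9909 := rfl
theorem F12275 : act 0 n9909 = n9111 := d2_1 D9909 (iv D9111) (iv F7501) D9900 F12248 (iv D7403) D7401
theorem F12276 : act 1 n9909 = n9864 := d5_1 D9909 F12274 (iv D9908)
theorem F12277 : act 2 n9909 = n7412 := d7_1 D9909 (iv D7412) (iv F7524)
def n9910 : Q := act 4 n7401
theorem D9910 : act 4 n7401 = n9910 := rfl
theorem F12278 : act 0 n9910 = n7404 := d3_1 D9910 (iv D7404) D7401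
theorem F12279 : act 2 n9910 = n7415 := d8_1 D9910 (iv D7415) (iv D4560) (iv D2323) D2322 D4559 (iv F7524)
def n9911 : Q := act 0 n7402
theorem D9911 : act 0 n7402 = n9911 := rfl
theorem F12280 : act 4 n9911 = n7741 := d3_2 (iv F7529) D9911 (iv D7741)
def n9912 : Q := act 3 n7402
theorem D9912 : act 3 n7402 = n9912 := rfl
theorem F12281 : act 1 n9912 = n7403 := d5_1 D9912 (iv D7403) D7402
theorem F12282 : act 4 n9912 = n7740 := d9_2 (iv F7529) D9912 F8130 (iv F7559) (iv D7407) F3519 (iv F3842)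
def n9913 : Q := act 4 n7403
theorem D9913 : act 4 n7403 = n9913 := rfl
theorem F12283 : act 1 n9913 = n7740 := d6_1 D9913 (iv F12282) F12281
theorem F12284 : act 2 n9913 = n7421 := d8_1 D9913 (iv D7421) F3524 D4566 F7533 (iv D7405) (iv F7525)
theorem F12285 : act 3 n9913 = n7409 := d9_1 D9913 (iv D7409) (iv D4555) D4556 F7528 (iv D7404) D7403
def n9914 : Q := act 3 n7406
theorem D9914 : act 3 n7406 = n9914 := rfl
theorem F12286 : act 1 n9914 = n8008 := d5_1 D9914 (iv D8008) (iv F7534)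
theorem F12287 : act 0 n9914 = n7731 := d16_8 F3746 (iv D2470) (iv D1068) (iv F530) D2320 D4554 D7406 D9914 F8124 (iv D7477) (iv F7614) F7613
theorem F12288 : act 4 n7728 = n9914 := d3_0 F12287 (iv D7731) D7728
def n9915 : Q := act 0 n7407
theorem D9915 : act 0 n7407 = n9915 := rfl
theorem F12289 : act 4 n9915 = n7759 := d3_2 (iv F7559) D9915 (iv D7759)
def n9916 : Q := act 1 n7408
theorem D9916 : act 1 n7408 = n9916 := rfl
theorem F12290 : act 2 n9916 = n9741 := d4_2 F8625 D9916 F11898 F7036 (iv F7028) F7029 (iv F8627)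
theorem F12291 : act 3 n9916 = n9740 := d5_2 F9459 D9916 F11896
def n9917 : Q := act 4 n7408
theorem D9917 : act 4 n7408 = n9917 := rfl
theorem F12292 : act 0 n9917 = n7409 := d3_1 D9917 (iv D7409) D7408
theorem F12293 : act 2 n9917 = n7425 := d8_1 D9917 (iv D7425) (iv D4571) D4572 D7426 F8628 F8625
def n9918 : Q := act 0 n7413
theorem D9918 : act 0 n7413 = n9918 := rfl
def n9919 : Q := act 1 n7419
theorem D9919 : act 1 n7419 = n9919 := rfl
theorem F12294 : act 4 n9919 = n7907 := d6_2 (iv F7549) D9919 (iv D7907)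
theorem F12295 : act 3 n7830 = n9919 := d12_0 F12294 (iv F8415) (iv D5197) (iv F3899) (iv F7322) F7321 (iv F8274)
def n9920 : Q := act 3 n7419
theorem D9920 : act 3 n7419 = n9920 := rfl
theorem F12296 : act 0 n9920 = n7481 := d2_1 D9920 (iv F9138) F9136 (iv F9125) F9123 (iv D7420) D7419
theorem F12297 : act 1 n9920 = n7830 := d5_1 D9920 F12295 (iv D9919)
theorem F12298 : act 4 n9920 = n7828 := d12_1 D9920 F12219 (iv D5005) (iv F3940) (iv F7553) (iv D7420) D7419
def n9921 : Q := act 1 n7422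
theorem D9921 : act 1 n7422 = n9921 := rfl
theorem F12299 : act 4 n9921 = n7829 := d6_2 (iv F7560) D9921 F12220
theorem F12300 : act 3 n8150 = n9921 := d9_7 F12299 (iv D7829) D7830 F12295 F12294 (iv F8415) D8150
def n9922 : Q := act 3 n7422
theorem D9922 : act 3 n7422 = n9922 := rfl
theorem F12301 : act 0 n9922 = n9897 := d2_1 D9922 F12237 (iv D8297) (iv D5389) F1923 D4567 D7422
theorem F12302 : act 1 n9922 = n8150 := d5_1 D9922 F12300 (iv D9921)
theorem F12303 : act 4 n9922 = n7908 := d9_2 (iv F7560) D9922 (iv D7908) (iv F7549) D9920 F12298 F12219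
def n9923 : Q := act 0 n7424
theorem D9923 : act 0 n7424 = n9923 := rfl
def n9924 : Q := act 0 n7427
theorem D9924 : act 0 n7427 = n9924 := rfl
theorem F12304 : act 2 n9924 = n8036 := d1_2 D7427 D9924 F8653 (iv F7573) (iv D7435) (iv D4580) (iv F3531)
def n9925 : Q := act 1 n7427
theorem D9925 : act 1 n7427 = n9925 := rfl
theorem F12305 : act 2 n9925 = n9694 := d4_2 D7427 D9925 (iv D9694) (iv D7061) (iv F6900) F6901 F5879
theorem F12306 : act 3 n9925 = n9875 := d5_2 (iv F11367) D9925 F12191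
def n9926 : Q := act 4 n7427
theorem D9926 : act 4 n7427 = n9926 := rfl
theorem F12307 : act 2 n9926 = n8323 := d8_1 D9926 (iv D8323) (iv D5443) (iv D2891) F1945 D4574 D7427
theorem F12308 : act 3 n9926 = n8320 := d12_2 (iv F11367) D9926 F9182 F9228 (iv D8346) (iv F6442) D9452
theorem E907 : n8333 = n8323 := (c7_3 F12308 F9184 D8333 (iv F12307))
theorem F12309 : act 3 n8323 = n5447 := (sb E907 (iv D8333))
theorem E908 : n8455 = n8332 := ((c9_5 D8323 F12309 (iv D5447) D5446 D8332 (iv D8455) (iv D5557) (iv F4473))).symm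
theorem F12310 : act 3 n8332 = n5557 := (sb E908 (iv D8455))
def n9927 : Q := act 2 n7430
theorem D9927 : act 2 n7430 = n9927 := rfl
theorem F12311 : act 0 n9927 = n8152 := d1_1 D9927 (iv D8152) F4181 D6872 (iv F9264) (iv F9265) (iv F7567)
theorem F12312 : act 3 n9927 = n8331 := d7_2 F10053 D9927 (iv F10052)
def n9928 : Q := act 3 n7431
theorem D9928 : act 3 n7431 = n9928 := rfl
theorem F12313 : act 0 n9928 = n8163 := d2_1 D9928 F8880 D8351 F9237 (iv D5555) (iv F4473) (iv F7568)
theorem F12314 : act 2 n9928 = n7432 := d7_1 D9928 (iv D7432) D7431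
def n9929 : Q := act 4 n7431
theorem D9929 : act 4 n7431 = n9929 := rfl
theorem F12315 : act 0 n9929 = n8323 := d3_1 D9929 (iv D8323) (iv F7568)
theorem F12316 : act 1 n9929 = n9911 := d6_1 D9929 F12280 F8131
theorem F12317 : act 2 n9929 = n7438 := d8_1 D9929 (iv D7438) (iv D4580) (iv D2334) D2332 D4577 D7431
def n9930 : Q := act 4 n7432
theorem D9930 : act 4 n7432 = n9930 := rfl
theorem F12318 : act 0 n9930 = n9262 := d3_1 D9930 (iv D9262) (iv F7892)
theorem F12319 : act 3 n9930 = n7457 := d9_1 D9930 (iv F10055) F10053 (iv D7430) (iv D4576) D4577 D7432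
theorem F12320 : act 2 n7440 = n9930 := d7_3 F12319 (iv D7457) (iv F7578)
def n9931 : Q := act 2 n7433
theorem D9931 : act 2 n7433 = n9931 := rfl
theorem F12321 : act 0 n9931 = n9523 := d1_1 D9931 (iv D9523) (iv F9221) (iv F11868) F11867 (iv D7434) (iv F7569)
theorem F12322 : act 3 n9931 = n8347 := d7_2 (iv F7571) D9931 F9231
def n9932 : Q := act 1 n7434
theorem D9932 : act 1 n7434 = n9932 := rfl
theorem F12323 : act 0 n9932 = n8223 := d0_1 D9932 F8989 (iv F6975) F6976 D7100 D9727 F11867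
theorem F12324 : act 3 n9932 = n7455 := d5_2 (iv F7572) D9932 (iv D7455)
theorem F12325 : act 4 n8221 = n9932 := d17_0 (iv D9932) (iv D7434) (iv D4579) (iv F3532) (iv F3705) F3704 F1563 F701 D1245 D2803 D5282 D8221
def n9933 : Q := act 4 n7434
theorem D9933 : act 4 n7434 = n9933 := rfl
theorem F12326 : act 1 n9933 = n8221 := d6_1 D9933 F12325 (iv D9932)
def n9934 : Q := act 4 n7435
theorem D9934 : act 4 n7435 = n9934 := rfl
theorem F12327 : act 0 n9934 = n7438 := d3_1 D9934 (iv D7438) D7435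
theorem F12328 : act 1 n9934 = n9826 := d6_1 D9934 (iv D9826) F8608
theorem F12329 : act 2 n9934 = n8361 := d8_1 D9934 F9252 F5251 (iv D6005) F2372 D5084 (iv F7573)
theorem F12330 : act 3 n8336 = n9934 := d7_0 F12329 (iv D8361) (iv F9204)
theorem F12331 : act 3 n7438 = n9933 := d12_4 (iv F7596) D8336 F12330 F12327 (iv D9933) F7572 D7454
def n9935 : Q := act 0 n7436
theorem D9935 : act 0 n7436 = n9935 := rfl
theorem F12332 : act 2 n9935 = n9920 := d13_4 (iv F7573) (iv D7435) D7436 D9935 F12296 (iv D7481) F7405 (iv F7406) (iv F10703) F10704 F8653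
theorem F12333 : act 3 n9935 = n9891 := d16_7 D2368 F1470 (iv D2340) (iv F1441) D4580 D7436 D9935 (iv D9891) (iv D7375) (iv D4529) F1417 (iv F541)
def n9936 : Q := act 2 n7436
theorem D9936 : act 2 n7436 = n9936 := rfl
theorem F12334 : act 1 n9936 = n7447 := d4_1 D9936 (iv D7447) (iv D4588) (iv D2339) (iv F1441) D4580 D7436
def n9937 : Q := act 3 n7436
theorem D9937 : act 3 n7436 = n9937 := rfl
theorem F12335 : act 1 n9937 = n7437 := d5_1 D9937 (iv D7437) D7436
theorem F12336 : act 0 n9937 = n8227 := d10_1 D9937 F9002 (iv F9136) F9138 (iv F12296) (iv F12332) (iv D9935)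
theorem F12337 : act 4 n8226 = n9937 := d3_0 F12336 (iv D8227) D8226
def n9938 : Q := act 4 n7436
theorem D9938 : act 4 n7436 = n9938 := rfl
theorem F12338 : act 1 n9938 = n7438 := d6_1 D9938 (iv D7438) D7436
theorem F12339 : act 3 n8221 = n9938 := d5_0 F12338 F12331 F12326
def n9939 : Q := act 4 n7437
theorem D9939 : act 4 n7437 = n9939 := rfl
theorem F12340 : act 1 n9939 = n8226 := d6_1 D9939 F12337 F12335
theorem F12341 : act 3 n9939 = n7456 := d9_1 D9939 (iv D7456) (iv F7572) D9933 (iv F12331) (iv D7438) D7437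
def n9940 : Q := act 2 n7439
theorem D9940 : act 2 n7439 = n9940 := rfl
theorem F12342 : act 3 n9940 = n8345 := d7_2 (iv F7575) D9940 F9225
def n9941 : Q := act 4 n7439
theorem D9941 : act 4 n7439 = n9941 := rfl
theorem F12343 : act 0 n9941 = n7440 := d3_1 D9941 (iv D7440) D7439
theorem F12344 : act 1 n9941 = n8949 := d6_1 D9941 (iv D8949) (iv F7576)
theorem F12345 : act 3 n9941 = n8372 := d9_1 D9941 F9270 (iv F7571) (iv D7433) F3533 D5465 (iv F7575)
theorem F12346 : act 2 n8164 = n9941 := d7_3 F12345 (iv D8372) (iv F8883)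
def n9942 : Q := act 4 n7441
theorem D9942 : act 4 n7441 = n9942 := rfl
theorem F12347 : act 0 n9942 = n7702 := d3_1 D9942 (iv D7702) (iv F7579)
theorem F12348 : act 1 n9942 = n7806 := d6_1 D9942 (iv D7806) (iv F7580)
theorem F12349 : act 3 n9942 = n8385 := d12_2 (iv F7581) D9942 (iv D8385) (iv D5491) (iv D2916) D2915 D5488
def n9943 : Q := act 2 n7442
theorem D9943 : act 2 n7442 = n9943 := rfl
theorem F12350 : act 0 n9943 = n7703 := d1_1 D9943 (iv D7703) F3798 D4825 (iv F7586) (iv D7444) (iv F7582)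
theorem F12351 : act 1 n9943 = n7844 := d4_1 D9943 (iv F11817) (iv D9688) (iv D7058) (iv F3865) (iv F8203) F8202
theorem F12352 : act 3 n9943 = n8390 := d7_2 (iv F7583) D9943 F9300
def n9944 : Q := act 2 n7443
theorem D9944 : act 2 n7443 = n9944 := rfl
theorem F12353 : act 3 n9944 = n9298 := d7_2 F7858 D9944 F11067
def n9945 : Q := act 4 n7444
theorem D9945 : act 4 n7444 = n9945 := rfl
theorem F12354 : act 0 n9945 = n7706 := d3_1 D9945 (iv D7706) (iv F7586)
theorem F12355 : act 3 n9303 = n9945 := d12_2 F7731 D9303 F12354 (iv F8074) (iv D7259) (iv F3991) (iv F7732)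
def n9946 : Q := act 1 n7446
theorem D9946 : act 1 n7446 = n9946 := rfl
theorem F12356 : act 0 n9946 = n7799 := d0_1 D9946 F8232 F5474 F2472 (iv F1447) D4588 D7446
theorem F12357 : act 3 n9946 = n9048 := d5_2 F11111 D9946 (iv F11110)
theorem F12358 : act 4 n9946 = n7789 := d6_2 F11088 D9946 (iv F11086)
theorem F12359 : act 2 n9946 = n7796 := d14_1 D9946 F8225 F6911 (iv F6900) F6901 F5879 F3531 F1441 D2339 D4588 D7446
theorem F12360 : act 1 n9659 = n8929 := d13_6 F12359 F8224 (iv F6872) F6871 D7029 D9659 (iv D8929) (iv D6153) (iv F5474) (iv F8232) (iv F12356)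
def n9947 : Q := act 2 n7446
theorem D9947 : act 2 n7446 = n9947 := rfl
def n9948 : Q := act 2 n7448
theorem D9948 : act 2 n7448 = n9948 := rfl
def n9949 : Q := act 0 n7449
theorem D9949 : act 0 n7449 = n9949 := rfl
theorem F12361 : act 1 n9949 = n9791 := d13_2 D7449 D9949 F12010 F7282 (iv F7215) F7216 F3880 (iv F3877) (iv F8216) F8217 (iv D7448)
theorem F12362 : act 3 n9790 = n9949 := d5_0 F12361 (iv D9791) D9790
theorem F12363 : act 0 n9348 = n9790 := d10_7 F12362 (iv D9949) (iv D7449) D7448 (iv F11150) F11149 D9348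
def n9950 : Q := act 1 n7449
theorem D9950 : act 1 n7449 = n9950 := rfl
theorem F12364 : act 2 n9950 = n7481 := d4_2 D7449 D9950 (iv D7481) (iv D4620) F1467 (iv F1448) D4592
def n9951 : Q := act 4 n7449
theorem D9951 : act 4 n7449 = n9951 := rfl
def n9952 : Q := act 2 n7450
theorem D9952 : act 2 n7450 = n9952 := rfl
def n9953 : Q := act 0 n7451
theorem D9953 : act 0 n7451 = n9953 := rfl
theorem F12365 : act 1 n9953 = n9800 := d13_2 D7451 D9953 F12023 (iv D7237) (iv F7212) F7213 F4001 D5022 (iv F8490) F8491 (iv D7450)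
theorem F12366 : act 3 n9798 = n9953 := d5_0 F12365 (iv D9800) D9798
theorem F12367 : act 0 n9351 = n9798 := d10_7 F12366 (iv D9953) (iv D7451) D7450 (iv F11155) (iv D9353) (iv F11154)
def n9954 : Q := act 1 n7451
theorem D9954 : act 1 n7451 = n9954 := rfl
theorem F12368 : act 2 n9954 = n9897 := d4_2 D7451 D9954 (iv D9897) (iv D7384) (iv D4541) (iv F1453) D4594
def n9955 : Q := act 4 n7451
theorem D9955 : act 4 n7451 = n9955 := rfl
def n9956 : Q := act 0 n7452
theorem D9956 : act 0 n7452 = n9956 := rfl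
theorem F12369 : act 2 n9956 = n8048 := d1_2 D7452 D9956 (iv D8048) (iv F7595) (iv D7454) (iv D4598) D4597
theorem F12370 : act 3 n9956 = n9523 := d2_2 (iv F7591) D9956 (iv F12321) F12322 (iv D8347) (iv D5461) (iv F4421)
def n9957 : Q := act 1 n7452
theorem D9957 : act 1 n7452 = n9957 := rfl
theorem F12371 : act 2 n9957 = n9699 := d4_2 D7452 D9957 F11832 F6913 (iv F6903) F6904 F5880
theorem F12372 : act 3 n9957 = n8319 := d5_2 (iv F7591) D9957 (iv D8319)
def n9958 : Q := act 4 n7452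
theorem D9958 : act 4 n7452 = n9958 := rfl
theorem F12373 : act 2 n9958 = n8332 := d8_1 D9958 (iv D8332) F4474 D5449 F7594 (iv D7453) D7452
theorem F12374 : act 3 n9958 = n8454 := d9_1 D9958 (iv F11365) (iv F11367) D9926 F12308 (iv D8320) (iv F7591)
def n9959 : Q := act 4 n7454
theorem D9959 : act 4 n7454 = n9959 := rfl
theorem F12375 : act 0 n9959 = n7456 := d3_1 D9959 (iv D7456) D7454
theorem F12376 : act 1 n9959 = n9827 := d6_1 D9959 F12071 F7597
theorem F12377 : act 2 n9959 = n8360 := d8_1 D9959 (iv D8360) (iv F5253) D8792 F10059 (iv D8049) (iv F7595)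
theorem F12378 : act 3 n9959 = n8458 := d9_1 D9959 F9386 (iv F8609) D9934 (iv F12330) (iv D8336) F7596
def n9960 : Q := act 0 n7455
theorem D9960 : act 0 n7455 = n9960 := rfl
theorem F12379 : act 3 n9960 = n9894 := d2_2 F12324 D9960 (iv D9894) (iv D7379) (iv F4287) F8991 (iv F12323)
theorem F12380 : act 2 n9960 = n9922 := d10_2 F12324 D9960 F12301 F12237 (iv D8297) (iv F8990) (iv F12323)
def n9961 : Q := act 2 n7455
theorem D9961 : act 2 n7455 = n9961 := rfl
theorem F12381 : act 1 n9961 = n7459 := d4_1 D9961 (iv D7459) (iv D4600) (iv D2349) D2348 D4598 D7455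
def n9962 : Q := act 4 n7455
theorem D9962 : act 4 n7455 = n9962 := rfl
theorem F12382 : act 1 n9962 = n7456 := d6_1 D9962 (iv D7456) D7455
theorem F12383 : act 3 n9962 = n8226 := d9_1 D9962 F12337 (iv D9937) D9938 (iv F12339) F12325 F12324
def n9963 : Q := act 2 n7456
theorem D9963 : act 2 n7456 = n9963 := rfl
theorem F12384 : act 4 n9963 = n8331 := d8_2 D7456 D9963 (iv F10052) F10055 (iv D7457) (iv D4599) D4598
theorem F12385 : act 0 n9963 = n8332 := d11_3 D4598 D7456 D9963 (iv F12373) (iv D9958) (iv D7452) (iv D4597)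
theorem F12386 : act 1 n9963 = n9915 := d15_9 (iv F8625) (iv D8027) (iv F5775) (iv F6399) (iv F9797) F9798 (iv F12377) F12375 D9963 (iv D9915) F7536 D7408
def n9964 : Q := act 1 n7457
theorem D9964 : act 1 n7457 = n9964 := rfl
def n9965 : Q := act 1 n7458
theorem D9965 : act 1 n7458 = n9965 := rfl
theorem F12387 : act 0 n9965 = n7959 := d0_1 D9965 F8497 (iv D6156) F2473 (iv F1454) D4600 D7458
theorem F12388 : act 3 n9965 = n9102 := d5_2 F11124 D9965 (iv F11127)
theorem F12389 : act 4 n9965 = n9047 := d6_2 (iv F11108) D9965 (iv F11107)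
theorem F12390 : act 2 n9965 = n7955 := d14_1 D9965 F8488 (iv D7066) (iv F6903) F6904 F5880 (iv D4597) (iv D2348) D2349 D4600 D7458
theorem F12391 : act 1 n9666 = n8932 := d13_6 F12390 F8487 F6876 (iv D7034) (iv F6874) D9666 (iv D8932) F5478 D6156 (iv F8497) (iv F12387)
def n9966 : Q := act 2 n7458
theorem D9966 : act 2 n7458 = n9966 := rfl
def n9967 : Q := act 0 n7460
theorem D9967 : act 0 n7460 = n9967 := rfl
theorem F12392 : act 3 n9967 = n9289 := d2_2 (iv F7598) D9967 F11048 F6144 (iv D3959) (iv F3388) (iv F6170)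
theorem F12393 : act 4 n9967 = n7531 := d3_2 (iv F7599) D9967 (iv D7531)
def n9968 : Q := act 2 n7460
theorem D9968 : act 2 n7460 = n9968 := rfl
theorem F12394 : act 3 n9968 = n9310 := d7_2 (iv F7598) D9968 (iv D9310)
theorem F12395 : act 0 n9968 = n7787 := d10_3 (iv F12392) (iv D9967) D9968 F8199 (iv F10529) (iv F10531) (iv F11048)
theorem F12396 : act 4 n9010 = n9968 := d3_0 F12395 (iv F8200) D9010
def n9969 : Q := act 2 n7461
theorem D9969 : act 2 n7461 = n9969 := rfl
theorem F12397 : act 3 n9969 = n9519 := d7_2 F7602 D9969 (iv D9519)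
theorem F12398 : act 0 n9969 = n7907 := d10_3 (iv F3888) (iv F7600) D9969 (iv F8415) (iv D5197) (iv D2752) D2751
def n9970 : Q := act 4 n7463
theorem D9970 : act 4 n7463 = n9970 := rfl
theorem F12399 : act 0 n9970 = n7848 := d3_1 D9970 (iv D7848) (iv F7606)
theorem F12400 : act 1 n9970 = n7464 := d6_1 D9970 (iv D7464) D7463
theorem F12401 : act 2 n9970 = n7653 := d11_2 F8391 D9970 (iv D7653) D7654 (iv F8393) (iv D7892) D7891
theorem F12402 : act 3 n9504 = n9970 := d5_0 F12400 F7608 (iv F11476)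
def n9971 : Q := act 2 n7466
theorem D9971 : act 2 n7466 = n9971 := rfl
theorem F12403 : act 3 n9971 = n7586 := d7_2 (iv F7615) D9971 F7856
theorem F12404 : act 0 n9971 = n7633 := d10_3 (iv F3746) (iv F7613) D9971 (iv D7633) (iv D4754) F1576 D2470
def n9972 : Q := act 2 n7468
theorem D9972 : act 2 n7468 = n9972 := rfl
theorem F12405 : act 0 n9972 = n7861 := d1_1 D9972 F8320 (iv F8234) (iv D7800) F3878 (iv F4757) (iv F7619)
theorem F12406 : act 1 n9972 = n9649 := d4_1 D9972 (iv D9649) F6866 (iv D5163) (iv F4147) F4148 D7468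
theorem F12407 : act 3 n9972 = n9512 := d7_2 (iv F7618) D9972 (iv D9512)
def n9973 : Q := act 4 n7470
theorem D9973 : act 4 n7470 = n9973 := rfl
theorem F12408 : act 0 n9973 = n7896 := d3_1 D9973 (iv D7896) (iv F7625)
theorem F12409 : act 1 n9973 = n7494 := d6_1 D9973 (iv D7494) (iv F7623)
theorem F12410 : act 3 n9973 = n7920 := d12_2 (iv F7624) D9973 F8436 (iv F8408) (iv D7901) D7900 F8403
def n9974 : Q := act 2 n7471
theorem D9974 : act 2 n7471 = n9974 := rfl
theorem F12411 : act 1 n9974 = n7483 := d4_1 D9974 (iv F8121) (iv D7729) (iv D4842) D4841 F3834 (iv F7629)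
theorem F12412 : act 3 n9974 = n7921 := d7_2 (iv F7630) D9974 (iv D7921)
theorem F12413 : act 0 n9974 = n7828 := d10_3 (iv F3931) (iv F7628) D9974 F12219 (iv D5005) (iv D2626) (iv F1722)
theorem F12414 : act 4 n7481 = n9974 := d3_0 F12413 (iv F12298) F12296
def n9975 : Q := act 4 n7472
theorem D9975 : act 4 n7472 = n9975 := rfl
theorem F12415 : act 0 n9975 = n7473 := d3_1 D9975 (iv D7473) D7472
theorem F12416 : act 1 n9975 = n7702 := d6_1 D9975 (iv D7702) (iv F7631)
theorem F12417 : act 2 n9975 = n9132 := d11_2 (iv F7632) D9975 (iv D9132) (iv D6367) (iv D3584) (iv F2645) D6364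
theorem F12418 : act 3 n9300 = n9975 := d5_0 F12416 F8066 D9300
def n9976 : Q := act 2 n7473
theorem D9976 : act 2 n7473 = n9976 := rfl
theorem F12419 : act 0 n9976 = n7477 := d1_1 D9976 (iv D7477) F3599 D6367 D9132 (iv F12417) F12415
theorem F12420 : act 3 n9976 = n9172 := d7_2 F10203 D9976 F10786
def n9977 : Q := act 0 n7474
theorem D9977 : act 0 n7474 = n9977 := rfl
theorem F12421 : act 2 n9977 = n9129 := d1_2 D7474 D9977 F10703 F7406 (iv F7405) (iv D4620) (iv F3595)
def n9978 : Q := act 1 n7474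
theorem D9978 : act 1 n7474 = n9978 := rfl
theorem F12422 : act 2 n9978 = n9660 := d4_2 D7474 D9978 (iv D9660) (iv D7029) (iv F6850) F6851 F6725
theorem F12423 : act 3 n8316 = n9978 := d16_2 F9082 (iv F9177) (iv D9978) (iv D7474) (iv F6725) F6724 (iv F7264) F7266 (iv F3523) (iv F7547) F7546 (iv F9080)
theorem F12424 : act 4 n8272 = n9978 := d17_0 (iv D9978) (iv D7474) (iv D4615) D4614 (iv F4341) F4343 (iv D4898) (iv D2560) D2562 D4902 D7813 (iv F9078)
def n9979 : Q := act 3 n7474
theorem D9979 : act 3 n7474 = n9979 := rfl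
theorem F12425 : act 1 n9979 = n8316 := d5_1 D9979 F12423 (iv D9978)
theorem F12426 : act 2 n9979 = n7475 := d7_1 D9979 (iv D7475) D7474
theorem F12427 : act 0 n9979 = n8946 := d10_1 D9979 (iv F12179) (iv D9869) F7407 (iv F10703) (iv F12421) (iv D9977)
theorem F12428 : act 4 n9979 = n8313 := d17_0 (iv D8313) D8314 (iv F9410) D8948 F10345 (iv D8937) (iv D6161) D6162 D8941 F10336 D8946 (iv F12427)
def n9980 : Q := act 4 n7474
theorem D9980 : act 4 n7474 = n9980 := rfl
theorem F12429 : act 1 n9980 = n8272 := d6_1 D9980 F12424 (iv D9978)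
theorem F12430 : act 3 n8271 = n9980 := d5_0 F12429 (iv D8272) D8271
def n9981 : Q := act 2 n7476
theorem D9981 : act 2 n7476 = n9981 := rfl
theorem F12431 : act 3 n9981 = n9137 := d7_2 (iv F7637) D9981 (iv D9137)
def n9982 : Q := act 3 n7477
theorem D9982 : act 3 n7477 = n9982 := rfl
theorem F12432 : act 2 n9982 = n7478 := d7_1 D9982 (iv D7478) D7477
def n9983 : Q := act 4 n7478
theorem D9983 : act 4 n7478 = n9983 := rfl
theorem F12433 : act 0 n9983 = n9603 := d3_1 D9983 (iv D9603) F7639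
theorem F12434 : act 1 n9983 = n7612 := d6_1 D9983 F7897 (iv F7638)
theorem F12435 : act 3 n9983 = n7545 := d9_1 D9983 F9876 (iv F7637) (iv D7476) (iv D4616) D4617 D7478
theorem F12436 : act 2 n7485 = n9983 := d7_3 F12435 (iv D7545) (iv F7645)
def n9984 : Q := act 2 n7479
theorem D9984 : act 2 n7479 = n9984 := rfl
theorem F12437 : act 1 n9984 = n8202 := d4_1 D9984 F11722 (iv D9631) (iv D7005) (iv F6835) F6836 (iv F7641)
theorem F12438 : act 4 n8200 = n9984 := d6_0 F12437 (iv D8202) D8200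
def n9985 : Q := act 4 n7480
theorem D9985 : act 4 n7480 = n9985 := rfl
theorem F12439 : act 1 n9985 = n7921 := d6_1 D9985 (iv F9140) F9141
theorem F12440 : act 3 n9985 = n7483 := d9_1 D9985 (iv D7483) D7482 (iv F9139) F12242 (iv D9898) (iv F7642)
def n9986 : Q := act 2 n7484
theorem D9986 : act 2 n7484 = n9986 := rfl
theorem F12441 : act 1 n9986 = n8215 := d15_3 F7643 D7484 D9986 F8978 F4268 (iv F5298) (iv F8945) F8947 (iv F5747) D7052 D9684 F11810
theorem F12442 : act 2 n9682 = n8215 := d4_6 (iv D9986) (iv F9908) F9909 F6892 D7051 D9682 (iv F12441)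
theorem F12443 : act 4 n8213 = n9986 := d6_0 F12441 (iv D8215) D8213
def n9987 : Q := act 4 n7484
theorem D9987 : act 4 n7484 = n9987 := rfl
theorem F12444 : act 0 n9987 = n7485 := d3_1 D9987 (iv D7485) D7484
theorem F12445 : act 1 n9987 = n9618 := d6_1 D9987 F11687 F9908
def n9988 : Q := act 4 n7487
theorem D9988 : act 4 n7487 = n9988 := rfl
theorem F12446 : act 0 n9988 = n9637 := d3_1 D9988 (iv D9637) (iv F7649)
theorem F12447 : act 1 n9988 = n7920 := d6_1 D9988 (iv D7920) (iv F7647)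
theorem F12448 : act 3 n9988 = n7494 := d12_2 (iv F7648) D9988 F7660 (iv F7078) (iv D4416) D4415 F5076
def n9989 : Q := act 0 n7491
theorem D9989 : act 0 n7491 = n9989 := rfl
theorem F12449 : act 1 n9989 = n7703 := d0_2 F9703 D9989 (iv F12350) F12351 (iv D7844) D7845 (iv F9705)
theorem F12450 : act 2 n9989 = n9752 := d1_2 D7491 D9989 (iv D9752) F7074 F4601 (iv D4627) D4626
theorem F12451 : act 3 n9989 = n9306 := d16_2 F9448 D9989 (iv D9306) F6723 (iv D6905) (iv F6550) (iv D6810) F2967 (iv F3006) F3007 D6114 (iv F9446)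
def n9990 : Q := act 4 n7491
theorem D9990 : act 4 n7491 = n9990 := rfl
theorem F12452 : act 1 n9990 = n9550 := d6_1 D9990 F11561 F9703
def n9991 : Q := act 2 n7492
theorem D9991 : act 2 n7492 = n9991 := rfl
theorem F12453 : act 1 n9991 = n9575 := d4_1 D9991 (iv D9575) (iv D6934) (iv D4088) (iv F3059) D6909 (iv F7657)
theorem F12454 : act 3 n9991 = n8937 := d7_2 F9871 D9991 F10332
def n9992 : Q := act 4 n7493
theorem D9992 : act 4 n7493 = n9992 := rfl
theorem F12455 : act 0 n9992 = n9675 := d3_1 D9992 (iv D9675) (iv F7662)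
theorem F12456 : act 1 n9992 = n7928 := d6_1 D9992 F8439 (iv F7658)
theorem F12457 : act 3 n9992 = n7543 := d9_1 D9992 (iv D7543) (iv F7648) D9988 F12448 (iv D7494) D7493
def n9993 : Q := act 2 n7494
theorem D9993 : act 2 n7494 = n9993 := rfl
def n9994 : Q := act 2 n7495
theorem D9994 : act 2 n7495 = n9994 := rfl
theorem F12458 : act 0 n9994 = n9306 := d1_1 D9994 (iv F11540) (iv F11797) (iv D9673) (iv F7662) F7659 D7495
theorem F12459 : act 1 n9994 = n9679 := d4_1 D9994 (iv D9679) (iv D7048) (iv D4162) D4161 D7045 (iv F7661)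
def n9995 : Q := act 3 n7499
theorem D9995 : act 3 n7499 = n9995 := rfl
theorem F12460 : act 1 n9995 = n7500 := d5_1 D9995 (iv D7500) D7499
theorem F12461 : act 2 n9995 = n9308 := d7_1 D9995 F11078 F8377
theorem F12462 : act 0 n9995 = n8293 := d10_1 D9995 F9132 F8403 (iv F7624) F7625 (iv F8396) F8397
theorem F12463 : act 4 n8292 = n9995 := d3_0 F12462 (iv D8293) D8292
def n9996 : Q := act 4 n7499
theorem D9996 : act 4 n7499 = n9996 := rfl
theorem F12464 : act 1 n9996 = n7501 := d6_1 D9996 (iv D7501) D7499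
def n9997 : Q := act 4 n7500
theorem D9997 : act 4 n7500 = n9997 := rfl
theorem F12465 : act 0 n9997 = n9705 := d3_1 D9997 (iv D9705) F7672
theorem F12466 : act 1 n9997 = n8292 := d6_1 D9997 F12463 F12460
theorem F12467 : act 3 n9997 = n7528 := d12_2 D7500 D9997 (iv F8754) F8753 F7263 (iv F8236) (iv D7498)
theorem E909 : n9708 = n9263 := ((c16_10 F12467 (iv F8754) F8753 (iv D7232) F6038 (iv D6522) (iv F6010) D9228 F10917 D9263 (iv D9708) (iv F11837) (iv F12465))).symm
theorem F12468 : act 2 n9263 = n7079 := (sb E909 (iv D9708))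
def n9998 : Q := act 3 n7501
theorem D9998 : act 3 n7501 = n9998 := rfl
theorem F12469 : act 4 n9998 = n7527 := d9_2 D7501 D9998 (iv D7527) D7528 (iv F12467) (iv D9997) (iv D7500)
theorem F12470 : act 0 n9714 = n9998 := d3_3 F12469 (iv F7728) (iv F11850)
theorem E910 : n9715 = n9253 := ((c16_4 D4817 D7698 (iv F10915) D9253 (iv D9715) D9714 F12470 (iv D9998) F8704 F8701 F8040 (iv D7691) (iv D4815))).symm
theorem F12471 : act 2 n9253 = n7083 := (sb E910 (iv D9715))
def n9999 : Q := act 1 n7504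
theorem D9999 : act 1 n7504 = n9999 := rfl
theorem F12472 : act 3 n9999 = n8838 := d5_2 F11002 D9999 (iv F11000)
def n10000 : Q := act 4 n7504
theorem D10000 : act 4 n7504 = n10000 := rfl
theorem F12473 : act 0 n10000 = n8828 := d3_1 D10000 F10135 (iv F7675)
def n10001 : Q := act 2 n7506
theorem D10001 : act 2 n7506 = n10001 := rfl
theorem F12474 : act 0 n10001 = n7511 := d1_1 D10001 (iv D7511) (iv F7684) (iv F8711) F8710 D8072 (iv F8725)
theorem F12475 : act 1 n10001 = n9168 := d4_1 D10001 F10777 F5867 F2675 (iv F2699) D6428 (iv F7678)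
theorem F12476 : act 3 n10001 = n9167 := d7_2 F9882 D10001 F10773
theorem F12477 : act 4 n10001 = n7659 := d8_2 D7506 D10001 (iv F8715) F8716 (iv D7507) (iv D4638) D4637
def n10002 : Q := act 2 n7510
theorem D10002 : act 2 n7510 = n10002 := rfl
theorem F12478 : act 3 n10002 = n7522 := d7_2 (iv F7689) D10002 (iv D7522)
theorem F12479 : act 4 n10002 = n7660 := d8_2 D7510 D10002 F7974 F5952 F5948 (iv D4643) (iv F3624)
theorem F12480 : act 1 n7738 = n10002 := d6_3 F12479 F7973 D7738
def n10003 : Q := act 1 n7513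
theorem D10003 : act 1 n7513 = n10003 := rfl
theorem F12481 : act 0 n10003 = n7899 := d0_1 D10003 F8402 F4892 (iv D4273) D4272 D7173 (iv F7695)
theorem F12482 : act 2 n10003 = n7879 := d4_2 D7513 D10003 F8369 F5409 (iv F3491) F3492 D4644
theorem F12483 : act 3 n10003 = n7878 := d5_2 (iv F7696) D10003 F8367
def n10004 : Q := act 4 n7513
theorem D10004 : act 4 n7513 = n10004 := rfl
theorem F12484 : act 0 n10004 = n9766 := d3_1 D10004 (iv D9766) (iv F7695)
theorem F12485 : act 3 n10004 = n7516 := d9_1 D10004 (iv D7516) (iv D4647) D4648 D7517 (iv F8140) (iv F7696)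
def n10005 : Q := act 4 n7515
theorem D10005 : act 4 n7515 = n10005 := rfl
theorem F12486 : act 0 n10005 = n7934 := d3_1 D10005 (iv D7934) (iv F7701)
theorem F12487 : act 1 n10005 = n7516 := d6_1 D10005 (iv D7516) (iv F7699)
theorem F12488 : act 2 n10005 = n7939 := d8_1 D10005 F10320 F10319 D9895 F12235 (iv D7913) (iv F7700)
def n10006 : Q := act 1 n7518
theorem D10006 : act 1 n7518 = n10006 := rfl
theorem F12489 : act 2 n10006 = n7602 := d4_2 D7518 D10006 (iv F10286) F10287 F5461 F3500 (iv F3636)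
theorem F12490 : act 4 n10006 = n7573 := d6_2 F10150 D10006 (iv F10149)
theorem F12491 : act 0 n10006 = n7639 := d13_3 (iv F7703) (iv F7702) D10006 F7930 F3769 (iv F5949) (iv F6822) (iv F9775) F9773 F4943 (iv F4952)
def n10007 : Q := act 0 n7522
theorem D10007 : act 0 n7522 = n10007 := rfl
theorem F12492 : act 2 n10007 = n7523 := d1_2 D7522 D10007 F8750 (iv D8083) (iv F8745) F8748 F7712
theorem F12493 : act 4 n10007 = n7662 := d3_2 (iv F7715) D10007 (iv D7662)
theorem F12494 : act 3 n10007 = n9152 := d10_4 (iv F7714) F7712 D7522 D10007 F10744 F9333 (iv F6877)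
theorem F12495 : act 1 n9153 = n10007 := d5_3 F12494 (iv D9152) D9153
def n10008 : Q := act 4 n7526
theorem D10008 : act 4 n7526 = n10008 := rfl
theorem F12496 : act 1 n10008 = n7528 := d6_1 D10008 (iv D7528) D7526
theorem F12497 : act 3 n10008 = n8292 := d12_2 (iv F8430) D10008 (iv D8292) (iv D5386) F1921 D4986 (iv F8428)
def n10009 : Q := act 1 n7530
theorem D10009 : act 1 n7530 = n10009 := rfl
def n10010 : Q := act 4 n7530
theorem D10010 : act 4 n7530 = n10010 := rfl
theorem F12498 : act 0 n10010 = n8827 := d3_1 D10010 (iv D8827) (iv F7729)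
def n10011 : Q := act 2 n7531
theorem D10011 : act 2 n7531 = n10011 := rfl
theorem F12499 : act 0 n10011 = n7952 := d1_1 D10011 (iv D7952) (iv D5015) D5016 (iv F7732) (iv D7532) D7531
theorem F12500 : act 1 n10011 = n7962 := d4_1 D10011 (iv F12187) (iv D9872) (iv D7321) (iv F3993) D7954 F8486
theorem F12501 : act 3 n10011 = n8387 := d7_2 (iv F7730) D10011 F9296
def n10012 : Q := act 4 n7532
theorem D10012 : act 4 n7532 = n10012 := rfl
theorem F12502 : act 0 n10012 = n7953 := d3_1 D10012 (iv D7953) (iv F7732)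
theorem F12503 : act 3 n10012 = n9309 := d9_1 D10012 (iv D9309) (iv F7585) D9945 (iv F12355) (iv D9303) (iv F7731)
def n10013 : Q := act 4 n7533
theorem D10013 : act 4 n7533 = n10013 := rfl
theorem F12504 : act 0 n10013 = n7850 := d3_1 D10013 F8306 (iv F7734)
theorem F12505 : act 1 n10013 = n7534 := d6_1 D10013 (iv D7534) D7533
theorem F12506 : act 3 n10013 = n9514 := d9_1 D10013 (iv D9514) (iv F7605) D9970 (iv F12402) (iv D9504) (iv F7733)
theorem F12507 : act 2 n10013 = n7664 := d11_2 F8441 D10013 (iv D7664) D7665 (iv F8442) (iv D7930) D7929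
def n10014 : Q := act 1 n7535
theorem D10014 : act 1 n7535 = n10014 := rfl
theorem F12508 : act 3 n10014 = n9515 := d5_2 (iv F7737) D10014 (iv D9515)
theorem F12509 : act 4 n10014 = n7816 := d6_2 F7739 D10014 F8254
theorem F12510 : act 0 n10014 = n7817 := d16_6 (iv F3872) F3870 F3872 (iv F3656) D7535 D10014 F8256 (iv D5031) (iv D2646) (iv D1167) (iv F643) (iv F1730)
def n10015 : Q := act 4 n7537
theorem D10015 : act 4 n7537 = n10015 := rfl
theorem F12511 : act 0 n10015 = n7898 := d3_1 D10015 F8401 (iv F7745)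
theorem F12512 : act 1 n10015 = n7543 := d6_1 D10015 (iv D7543) (iv F7743)
theorem F12513 : act 3 n10015 = n7928 := d9_1 D10015 F8439 (iv F7624) D9973 F12410 (iv D7920) (iv F7744)
def n10016 : Q := act 2 n7540
theorem D10016 : act 2 n7540 = n10016 := rfl
theorem F12514 : act 1 n10016 = n7545 := d4_1 D10016 (iv D7545) (iv D4673) (iv D2411) (iv F1498) D4669 D7540
theorem F12515 : act 3 n10016 = n7612 := d7_2 (iv F7753) D10016 (iv D7612)
theorem F12516 : act 0 n10016 = n7629 := d10_3 (iv F3760) (iv F7755) D10016 F7923 F3751 (iv F6315) (iv F1588)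
theorem F12517 : act 4 n7591 = n10016 := d3_0 F12516 (iv D7629) (iv F7861)
def n10017 : Q := act 0 n7541
theorem D10017 : act 0 n7541 = n10017 := rfl
theorem F12518 : act 1 n10017 = n7952 := d0_2 F9838 D10017 (iv F12499) F12500 (iv D7962) D7963 (iv F9840)
theorem F12519 : act 2 n10017 = n9857 := d1_2 D7541 D10017 (iv D9857) F7366 F5076 (iv D4671) D4670
theorem F12520 : act 3 n10017 = n9304 := d10_4 F3607 D4670 D7541 D10017 F11074 F9812 (iv D7486)
def n10018 : Q := act 4 n7541
theorem D10018 : act 4 n7541 = n10018 := rfl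
theorem F12521 : act 1 n10018 = n9552 := d6_1 D10018 F11565 F9838
theorem F12522 : act 3 n9551 = n10018 := d5_0 F12521 (iv D9552) D9551
def n10019 : Q := act 2 n7542
theorem D10019 : act 2 n7542 = n10019 := rfl
theorem F12523 : act 1 n10019 = n9578 := d4_1 D10019 F11615 F6765 F3077 (iv F3063) (iv F6732) (iv F7757)
theorem F12524 : act 3 n10019 = n8905 := d7_2 F7758 D10019 F10261
def n10020 : Q := act 2 n7543
theorem D10020 : act 2 n7543 = n10020 := rfl
def n10021 : Q := act 2 n7544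
theorem D10021 : act 2 n7544 = n10021 := rfl
def n10022 : Q := act 1 n7551
theorem D10022 : act 1 n7551 = n10022 := rfl
theorem F12525 : act 0 n10022 = n8271 := d0_1 D10022 (iv D8271) (iv D5353) (iv D2844) D2843 D5351 (iv F7771)
theorem F12526 : act 2 n10022 = n9135 := d4_2 D7551 D10022 F10713 (iv D6902) F3047 (iv F3015) (iv F3677)
theorem F12527 : act 4 n10022 = n8920 := d6_2 F7772 D10022 (iv D8920)
def n10023 : Q := act 3 n7551
theorem D10023 : act 3 n7551 = n10023 := rfl
theorem F12528 : act 2 n10023 = n7552 := d7_1 D10023 (iv D7552) D7551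
theorem F12529 : act 4 n10023 = n8947 := d12_1 D10023 (iv D8947) (iv D6172) (iv F5466) F8967 F8965 (iv F7771)
def n10024 : Q := act 1 n7553
theorem D10024 : act 1 n7553 = n10024 := rfl
theorem F12530 : act 0 n10024 = n8572 := d0_1 D10024 F9628 F9554 F7063 (iv F7056) (iv F7058) D7553
theorem F12531 : act 4 n10024 = n8902 := d6_2 (iv F7775) D10024 (iv D8902)
theorem F12532 : act 2 n10024 = n8278 := d14_1 D10024 (iv F9506) F9505 F6916 F5261 (iv D6010) F2383 D4676 (iv F7057) (iv F7058) D7553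
def n10025 : Q := act 2 n7553
theorem D10025 : act 2 n7553 = n10025 := rfl
theorem F12533 : act 0 n10025 = n8270 := d1_1 D10025 (iv D8270) (iv F7771) (iv D7551) (iv D4687) D4688 D7553
theorem F12534 : act 1 n10025 = n8405 := d4_1 D10025 (iv D8405) D8404 (iv F9507) F9506 (iv F12532) (iv D10024)
theorem F12535 : act 4 n10025 = n8896 := d8_2 (iv F7775) D10025 (iv D8896) (iv D6127) (iv D3388) D3390 D6130
def n10026 : Q := act 3 n7553
theorem D10026 : act 3 n7553 = n10026 := rfl
theorem F12536 : act 4 n10026 = n8901 := d12_1 D10026 F10254 (iv F7399) (iv F11936) F11937 (iv D7554) D7553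
def n10027 : Q := act 0 n7554
theorem D10027 : act 0 n7554 = n10027 := rfl
theorem F12537 : act 4 n10027 = n8918 := d3_2 F11937 D10027 (iv F11938)
theorem F12538 : act 3 n10027 = n8933 := d10_4 (iv F4175) F4173 (iv F7776) D10027 (iv F10323) (iv D8145) F4180
def n10028 : Q := act 3 n7555
theorem D10028 : act 3 n7555 = n10028 := rfl
theorem F12539 : act 1 n10028 = n7746 := d5_1 D10028 (iv D7746) (iv F7778)
theorem F12540 : act 2 n10028 = n7556 := d7_1 D10028 (iv D7556) D7555
theorem F12541 : act 4 n8924 = n10028 := d8_0 F12540 (iv F10316) (iv D6153) (iv D3405) (iv F2466) D6147 D8924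
def n10029 : Q := act 1 n7557
theorem D10029 : act 1 n7557 = n10029 := rfl
theorem F12542 : act 0 n10029 = n8575 := d0_1 D10029 (iv F12173) F12172 F7401 (iv F7331) F7329 D7557
theorem F12543 : act 4 n10029 = n8945 := d6_2 (iv F7780) D10029 (iv D8945)
theorem F12544 : act 2 n10029 = n8308 := d14_1 D10029 (iv F9878) F9877 F7416 F5745 (iv D6027) F2396 (iv F3669) (iv F7330) F7329 D7557
def n10030 : Q := act 2 n7557
theorem D10030 : act 2 n7557 = n10030 := rfl
theorem F12545 : act 0 n10030 = n8209 := d1_1 D10030 F8973 (iv F7781) (iv D7558) (iv D4693) (iv F3683) D7557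
theorem F12546 : act 1 n10030 = n8437 := d4_1 D10030 (iv D8437) D8436 (iv F9879) F9878 (iv F12544) (iv D10029)
theorem F12547 : act 4 n10030 = n8942 := d8_2 (iv F7780) D10030 F10337 (iv D6170) (iv D3416) D3418 D6171
def n10031 : Q := act 3 n7557
theorem D10031 : act 3 n7557 = n10031 := rfl
theorem F12548 : act 4 n10031 = n8903 := d9_2 (iv F7780) D10031 (iv D8903) (iv F7775) D10026 F12536 F10254
def n10032 : Q := act 1 n7558
theorem D10032 : act 1 n7558 = n10032 := rfl
theorem F12549 : act 0 n10032 = n8313 := d0_1 D10032 (iv D8313) (iv D5429) (iv D2882) (iv F1859) (iv F4261) (iv F7781)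
theorem F12550 : act 2 n10032 = n9175 := d4_2 D7558 D10032 F10791 (iv D7344) F3458 D4499 (iv F3684)
theorem F12551 : act 4 n10032 = n8946 := d6_2 F7782 D10032 (iv D8946)
def n10033 : Q := act 3 n7558
theorem D10033 : act 3 n7558 = n10033 := rfl
theorem F12552 : act 2 n10033 = n7559 := d7_1 D10033 (iv D7559) D7558
theorem F12553 : act 4 n10033 = n8921 := d9_2 F7782 D10033 (iv D8921) F7772 D10023 F12529 (iv D8947)
def n10034 : Q := act 4 n7565
theorem D10034 : act 4 n7565 = n10034 := rfl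
theorem F12554 : act 0 n10034 = n8553 := d3_1 D10034 (iv D8553) (iv F7805)
theorem F12555 : act 1 n10034 = n7701 := d6_1 D10034 (iv D7701) (iv F7806)
theorem F12556 : act 2 n10034 = n8155 := d8_1 D10034 (iv D8155) (iv F8853) F8854 F8341 F8862 F8861
theorem F12557 : act 3 n10034 = n7570 := d9_1 D10034 (iv D7570) (iv F7804) (iv D7564) (iv D4697) D4698 D7565
def n10035 : Q := act 3 n7571
theorem D10035 : act 3 n7571 = n10035 := rfl
theorem F12558 : act 2 n10035 = n7572 := d7_1 D10035 (iv D7572) D7571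
theorem F12559 : act 0 n10035 = n7615 := d10_1 D10035 F7903 F3734 (iv D2468) (iv F1575) D4747 (iv F7826)
def n10036 : Q := act 4 n7572
theorem D10036 : act 4 n7572 = n10036 := rfl
theorem F12560 : act 0 n10036 = n7583 := d3_1 D10036 (iv D7583) (iv F7828)
theorem F12561 : act 1 n10036 = n8850 := d6_1 D10036 (iv D8850) (iv F7827)
theorem F12562 : act 3 n10036 = n7575 := d9_1 D10036 (iv D7575) (iv D4706) (iv D2443) D2442 D4704 D7572
def n10037 : Q := act 3 n7576
theorem D10037 : act 3 n7576 = n10037 := rfl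
theorem F12563 : act 0 n10037 = n7624 := d2_1 D10037 (iv D7624) (iv F7479) D9888 F12218 (iv D7613) (iv F7836)
theorem F12564 : act 1 n10037 = n8791 := d5_1 D10037 F10053 (iv F7837)
theorem F12565 : act 2 n10037 = n7595 := d7_1 D10037 (iv D7595) (iv F7838)
theorem F12566 : act 4 n9964 = n10037 := d6_0 F12564 F10055 D9964
def n10038 : Q := act 2 n7577
theorem D10038 : act 2 n7577 = n10038 := rfl
theorem F12567 : act 0 n10038 = n7625 := d1_1 D10038 (iv D7625) (iv F7613) D9971 F12404 F7925 (iv F7839)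
theorem F12568 : act 3 n10038 = n7589 := d7_2 (iv F7841) D10038 (iv D7589)
theorem F12569 : act 1 n10038 = n10000 := d16_5 D8375 F9275 F7858 (iv F7840) D10038 F12473 (iv D8828) (iv F10126) F10127 (iv D8515) F4697 (iv F4514)
theorem F12570 : act 4 n9999 = n10038 := d6_0 F12569 (iv D10000) D9999
def n10039 : Q := act 1 n7578
theorem D10039 : act 1 n7578 = n10039 := rfl
theorem F12571 : act 0 n10039 = n9271 := d0_1 D10039 F11009 F6091 (iv F6097) F6096 F5005 (iv F7842)
theorem F12572 : act 4 n10039 = n9268 := d6_2 F10152 D10039 F11000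
theorem F12573 : act 3 n10010 = n10039 := d12_0 F12572 F11002 F7675 (iv D6064) D6065 F10130 (iv F12498)
def n10040 : Q := act 3 n7578
theorem D10040 : act 3 n7578 = n10040 := rfl
theorem F12574 : act 0 n10040 = n7627 := d2_1 D10040 (iv D7627) (iv F7826) D10035 F12559 (iv D7615) (iv F7842)
theorem F12575 : act 1 n10040 = n10010 := d5_1 D10040 F12573 (iv D10039)
theorem F12576 : act 2 n10040 = n7579 := d7_1 D10040 (iv D7579) D7578
theorem F12577 : act 4 n10009 = n10040 := d6_0 F12575 (iv D10010) D10009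
def n10041 : Q := act 4 n7579
theorem D10041 : act 4 n7579 = n10041 := rfl
theorem F12578 : act 0 n10041 = n7645 := d3_1 D10041 (iv D7645) (iv F7843)
theorem F12579 : act 1 n10041 = n9968 := d6_1 D10041 (iv F12396) F10488
theorem F12580 : act 3 n10041 = n7590 := d9_1 D10041 (iv D7590) (iv F7841) (iv D7577) (iv D4708) D4709 D7579
theorem F12581 : act 2 n10041 = n9964 := d17_4 D10010 (iv F12575) F12576 D10041 (iv D9964) (iv F10056) F10057 (iv F10062) (iv D8793) F5259 (iv F5367) (iv F7729)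
def n10042 : Q := act 3 n7580
theorem D10042 : act 3 n7580 = n10042 := rfl
theorem F12582 : act 0 n10042 = n7631 := d2_1 D10042 (iv D7631) (iv D4749) D4751 (iv F7847) (iv D7582) D7580
theorem F12583 : act 2 n10042 = n7591 := d7_1 D10042 (iv D7591) (iv F7844)
def n10043 : Q := act 2 n7581
theorem D10043 : act 2 n7581 = n10043 := rfl
theorem F12584 : act 1 n10043 = n7917 := d4_1 D10043 (iv D7917) F6161 (iv D6219) F2528 D4710 D7581
theorem F12585 : act 4 n9795 = n10043 := d6_0 F12584 (iv F11717) (iv F12016)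
def n10044 : Q := act 3 n7581
theorem D10044 : act 3 n7581 = n10044 := rfl
theorem F12586 : act 1 n10044 = n7582 := d5_1 D10044 (iv D7582) D7581
theorem F12587 : act 4 n10044 = n8755 := d9_2 (iv F7845) D10044 (iv F11035) F11038 (iv D7585) F3712 D5973
theorem F12588 : act 0 n10044 = n8756 := d12_3 D5973 (iv F7845) D10044 F10001 (iv D5977) (iv D3252) D3250
def n10045 : Q := act 3 n7584
theorem D10045 : act 3 n7584 = n10045 := rfl
theorem F12589 : act 1 n10045 = n7918 := d5_1 D10045 (iv D7918) (iv F7853)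
theorem F12590 : act 2 n10045 = n7585 := d7_1 D10045 (iv D7585) D7584
def n10046 : Q := act 1 n7589
theorem D10046 : act 1 n7589 = n10046 := rfl
theorem F12591 : act 0 n10046 = n9281 := d0_1 D10046 F11034 F6137 (iv F6130) F6129 F5007 (iv F7859)
theorem F12592 : act 3 n10046 = n10000 := d5_2 F12568 D10046 (iv F12569)
theorem F12593 : act 4 n9278 = n10046 := d9_0 F12592 (iv D10000) (iv F11002) (iv F12572) (iv F12573) (iv D10010) (iv F11027)
def n10047 : Q := act 4 n7589
theorem D10047 : act 4 n7589 = n10047 := rfl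
theorem F12594 : act 0 n10047 = n7617 := d3_1 D10047 (iv D7617) (iv F7859)
theorem F12595 : act 1 n10047 = n9278 := d6_1 D10047 F12593 (iv D10046)
theorem F12596 : act 3 n10047 = n10009 := d9_1 D10047 F12577 (iv D10040) (iv F10152) (iv F12472) F12570 F12568
theorem F12597 : act 2 n10047 = n7609 := d11_2 D7589 D10047 F7895 (iv F7857) (iv D7587) F3713 D4714
def n10048 : Q := act 2 n7590
theorem D10048 : act 2 n7590 = n10048 := rfl
theorem F12598 : act 0 n10048 = n7614 := d1_1 D10048 F7902 (iv F7898) (iv D7612) F3727 (iv F7850) (iv F7860)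
theorem F12599 : act 1 n10048 = n9930 := d4_1 D10048 (iv F12320) F7577 (iv F7589) F7588 D9310 F11082
theorem F12600 : act 3 n10048 = n9964 := d7_2 F12580 D10048 (iv F12581)
theorem F12601 : act 4 n10048 = n7607 := d8_2 D7590 D10048 (iv D7607) D7609 (iv F12597) (iv D10047) (iv D7589)
def n10049 : Q := act 2 n7592
theorem D10049 : act 2 n7592 = n10049 := rfl
theorem F12602 : act 1 n10049 = n9527 := d4_1 D10049 (iv D9527) (iv D6881) F3026 (iv F1557) D4717 D7592
def n10050 : Q := act 2 n7594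
theorem D10050 : act 2 n7594 = n10050 := rfl
theorem F12603 : act 0 n10050 = n9318 := d1_1 D10050 (iv D9318) (iv F11090) (iv F11091) F6673 (iv F9307) (iv F9308)
def n10051 : Q := act 3 n7594
theorem D10051 : act 3 n7594 = n10051 := rfl
theorem F12604 : act 0 n10051 = n7785 := d2_1 D10051 F8194 (iv F10632) F10634 (iv F6194) D8395 (iv F9308)
theorem F12605 : act 1 n10051 = n7595 := d5_1 D10051 (iv D7595) D7594
theorem F12606 : act 4 n10051 = n9071 := d12_1 D10051 F11101 (iv F11100) (iv D9321) F6195 D8395 (iv F9308)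
def n10052 : Q := act 4 n7595
theorem D10052 : act 4 n7595 = n10052 := rfl
theorem F12607 : act 0 n10052 = n7652 := d3_1 D10052 (iv D7652) (iv F7865)
theorem F12608 : act 1 n10052 = n9071 := d6_1 D10052 (iv F12606) F12605
theorem F12609 : act 2 n10052 = n10009 := d8_1 D10052 F12577 F12576 D10041 F12581 F12566 F12565
theorem F12610 : act 3 n10052 = n7609 := d12_2 D7595 D10052 F7895 (iv F7878) (iv D7601) (iv D4721) D4719
def n10053 : Q := act 3 n7596
theorem D10053 : act 3 n7596 = n10053 := rfl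
theorem F12611 : act 0 n10053 = n7647 := d2_1 D10053 F7953 (iv F6356) (iv D6145) F2464 (iv F5699) (iv F7866)
theorem F12612 : act 1 n10053 = n9101 := d5_1 D10053 (iv F10645) F7867
theorem F12613 : act 2 n10053 = n9999 := d7_1 D10053 F12472 F10153
theorem F12614 : act 4 n10053 = n7608 := d9_2 D7596 D10053 (iv D7608) D7609 (iv F12610) (iv D10052) (iv D7595)
def n10054 : Q := act 3 n7597
theorem D10054 : act 3 n7597 = n10054 := rfl
theorem F12615 : act 0 n10054 = n9075 := d2_1 D10054 F10587 F5704 (iv F5685) (iv F7874) (iv D7599) D7597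
theorem F12616 : act 1 n10054 = n9609 := d5_1 D10054 F11673 F7871
theorem F12617 : act 2 n10054 = n8201 := d7_1 D10054 (iv D8201) (iv F7870)
theorem F12618 : act 4 n10054 = n9074 := d12_1 D10054 F10584 F7886 F7884 F7875 (iv D7599) D7597
def n10055 : Q := act 0 n7598
theorem D10055 : act 0 n7598 = n10055 := rfl
theorem F12619 : act 2 n10055 = n8203 := d1_2 D7598 D10055 (iv D8203) (iv D5252) D5251 (iv F7870) (iv D7597)
theorem F12620 : act 4 n10055 = n9631 := d3_2 F11718 D10055 F11716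
theorem F12621 : act 1 n9633 = n10055 := d6_3 F12620 (iv D9631) D9633
def n10056 : Q := act 3 n7598
theorem D10056 : act 3 n7598 = n10056 := rfl
theorem F12622 : act 1 n10056 = n7905 := d5_1 D10056 F8413 (iv F7872)
theorem F12623 : act 2 n10056 = n7599 := d7_1 D10056 (iv D7599) D7598
theorem F12624 : act 0 n10056 = n9759 := d10_1 D10056 F11945 F10601 (iv D8204) D8203 (iv F12619) (iv D10055)
theorem F12625 : act 4 n9757 = n10056 := d3_0 F12624 (iv D9759) D9757
def n10057 : Q := act 0 n7603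
theorem D10057 : act 0 n7603 = n10057 := rfl
theorem F12626 : act 2 n10057 = n8211 := d1_2 (iv F7881) D10057 (iv D8211) F4267 D5265 (iv F7882) (iv D7604)
theorem F12627 : act 4 n10057 = n9682 := d17_0 (iv D9682) (iv D7051) (iv D4164) D4162 D7048 F10442 F10439 F8410 F3937 (iv F3956) (iv F7880) D10057
theorem F12628 : act 1 n9683 = n10057 := d6_3 F12627 (iv D9682) D9683
def n10058 : Q := act 4 n7603
theorem D10058 : act 4 n7603 = n10058 := rfl
theorem F12629 : act 0 n10058 = n9682 := d3_1 D10058 (iv F12627) (iv D10057)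
theorem F12630 : act 1 n10058 = n7925 := d6_1 D10058 (iv D7925) (iv F7880)
theorem F12631 : act 2 n10058 = n10058 := d8_1 D10058 (iv D10058) F7881 D7605 F7885 (iv D7605) (iv F7881)
theorem F12632 : act 3 n10058 = n9757 := d9_1 D10058 F12625 (iv D10056) (iv F11718) (iv D7279) (iv F3723) D7603
def n10059 : Q := act 3 n7604
theorem D10059 : act 3 n7604 = n10059 := rfl
theorem F12633 : act 0 n10059 = n9077 := d2_1 D10059 (iv D9077) F5678 F2799 (iv F1559) D4726 D7604
theorem F12634 : act 1 n10059 = n9610 := d5_1 D10059 F11674 F7888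
theorem F12635 : act 2 n10059 = n8214 := d7_1 D10059 (iv D8214) (iv F7882)
theorem F12636 : act 4 n10059 = n9087 := d9_2 (iv F7887) D10059 (iv D9087) (iv F7869) D10054 F12618 F10584
def n10060 : Q := act 2 n7606
theorem D10060 : act 2 n7606 = n10060 := rfl
theorem F12637 : act 0 n10060 = n9337 := d1_1 D10060 (iv D9337) (iv F11131) (iv F11132) F6702 (iv F9415) (iv F9416)
def n10061 : Q := act 3 n7606
theorem D10061 : act 3 n7606 = n10061 := rfl
theorem F12638 : act 0 n10061 = n7716 := d2_1 D10061 F8104 (iv F10566) (iv F10568) F9414 D8467 (iv F9416)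
theorem F12639 : act 1 n10061 = n7608 := d5_1 D10061 (iv D7608) D7606
theorem F12640 : act 4 n10061 = n9101 := d9_2 F10282 D10061 (iv F10645) (iv F7868) D10051 F12606 F11101
def n10062 : Q := act 2 n7610
theorem D10062 : act 2 n7610 = n10062 := rfl
theorem F12641 : act 1 n10062 = n9530 := d4_1 D10062 (iv D9530) (iv D6887) F3589 F3588 D4730 D7610
def n10063 : Q := act 4 n7613
theorem D10063 : act 4 n7613 = n10063 := rfl
theorem F12642 : act 1 n10063 = n8220 := d6_1 D10063 (iv D8220) (iv F7899)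
theorem F12643 : act 2 n10063 = n7616 := d8_1 D10063 (iv D7616) (iv F7903) (iv F10137) F10138 F5944 (iv F7900)
theorem F12644 : act 3 n10063 = n7614 := d9_1 D10063 (iv D7614) (iv D4734) (iv D2459) D2458 D4733 D7613
def n10064 : Q := act 2 n7618
theorem D10064 : act 2 n7618 = n10064 := rfl
def n10065 : Q := act 3 n7618
theorem D10065 : act 3 n7618 = n10065 := rfl
theorem F12645 : act 0 n10065 = n9053 := d2_1 D10065 (iv D9053) F5647 D6285 (iv F7912) (iv D7621) (iv F7909)
theorem F12646 : act 1 n10065 = n9568 := d5_1 D10065 (iv D9568) (iv F7910)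
def n10066 : Q := act 0 n7620
theorem D10066 : act 0 n7620 = n10066 := rfl
theorem F12647 : act 2 n10066 = n8093 := d11_4 (iv D4741) D4742 D7620 D10066 (iv D8093) (iv F5169) (iv F5170)
def n10067 : Q := act 1 n7620
theorem D10067 : act 1 n7620 = n10067 := rfl
theorem F12648 : act 2 n10067 = n7896 := d4_2 D7620 D10067 F8399 (iv F10147) (iv D7626) (iv D4747) (iv F3739)
theorem F12649 : act 0 n10067 = n9938 := d14_3 (iv F3739) D7620 D10067 F12338 (iv F12317) F12316 (iv D9911) (iv D7402) (iv D4552) F1431 (iv F1575)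
theorem F12650 : act 4 n9935 = n10067 := d17_0 (iv D10067) (iv D7620) (iv D4742) D4741 (iv F3743) F3742 (iv D4575) (iv D2332) D2334 D4580 D7436 D9935
theorem F12651 : act 3 n7935 = n10067 := d12_2 F12379 (iv F12232) F12649 (iv F12339) F12325 F12324 D9960
def n10068 : Q := act 3 n7620
theorem D10068 : act 3 n7620 = n10068 := rfl
theorem F12652 : act 1 n10068 = n7935 := d5_1 D10068 F12651 (iv D10067)
theorem F12653 : act 2 n10068 = n7621 := d7_1 D10068 (iv D7621) D7620
def n10069 : Q := act 4 n7620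
theorem D10069 : act 4 n7620 = n10069 := rfl
theorem F12654 : act 1 n10069 = n9935 := d6_1 D10069 F12650 (iv D10067)
theorem F12655 : act 2 n10069 = n9919 := d8_1 D10069 F12294 F8414 (iv D7619) (iv D4741) D4742 D7620
def n10070 : Q := act 3 n7622
theorem D10070 : act 3 n7622 = n10070 := rfl
theorem F12656 : act 1 n10070 = n7624 := d5_1 D10070 (iv D7624) (iv F7913)
theorem F12657 : act 2 n10070 = n7829 := d7_1 D10070 (iv D7829) (iv F7914)
theorem F12658 : act 0 n10070 = n8735 := d12_3 F3741 D7622 D10070 (iv D8735) (iv D5953) D5952 (iv F5170)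
def n10071 : Q := act 4 n7624
theorem D10071 : act 4 n7624 = n10071 := rfl
theorem F12659 : act 0 n10071 = n9964 := d3_1 D10071 F12566 F12563
theorem F12660 : act 3 n10071 = n7640 := d9_1 D10071 F7931 (iv F7918) (iv D7623) (iv D4744) D4745 D7624
theorem F12661 : act 2 n10071 = n7629 := d11_2 (iv F7919) D10071 (iv F12516) (iv D10016) F7754 (iv F7864) F7863
def n10072 : Q := act 1 n7625
theorem D10072 : act 1 n7625 = n10072 := rfl
theorem F12662 : act 2 n10072 = n7893 := d4_2 D7625 D10072 F8394 D7897 F8998 (iv D7818) F3890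
theorem F12663 : act 3 n10072 = n7638 := d5_2 (iv F7920) D10072 (iv D7638)
def n10073 : Q := act 4 n7625
theorem D10073 : act 4 n7625 = n10073 := rfl
theorem F12664 : act 0 n10073 = n9999 := d3_1 D10073 F12570 F12567
theorem F12665 : act 2 n10073 = n7658 := d8_1 D10073 F7972 (iv F7917) (iv D7623) F3744 D4746 D7625
theorem F12666 : act 3 n10073 = n7628 := d12_2 (iv F7920) D10073 (iv F10145) (iv D8832) (iv F5382) D7573 F7830
def n10074 : Q := act 0 n7626
theorem D10074 : act 0 n7626 = n10074 := rfl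
theorem F12667 : act 1 n10074 = n9233 := d0_2 D7626 D10074 F10926 (iv F11022) F11025 F10148 F7826
theorem F12668 : act 4 n10074 = n9232 := d17_0 (iv D9232) (iv D6504) (iv D3747) D3746 D6502 F6019 (iv D4743) (iv D2464) D2466 D4747 D7626 D10074
def n10075 : Q := act 3 n7626
theorem D10075 : act 3 n7626 = n10075 := rfl
theorem F12669 : act 1 n10075 = n7627 := d5_1 D10075 (iv D7627) D7626
theorem F12670 : act 2 n10075 = n7931 := d7_1 D10075 F8444 (iv F10147)
def n10076 : Q := act 4 n7626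
theorem D10076 : act 4 n7626 = n10076 := rfl
theorem F12671 : act 0 n10076 = n9232 := d3_1 D10076 (iv F12668) (iv D10074)
theorem F12672 : act 1 n10076 = n7628 := d6_1 D10076 (iv D7628) D7626
theorem F12673 : act 2 n10076 = n9058 := d11_2 (iv F10147) D10076 (iv D9058) (iv F6368) (iv F8309) (iv D7854) (iv F8307)
def n10077 : Q := act 4 n7627
theorem D10077 : act 4 n7627 = n10077 := rfl
theorem F12674 : act 0 n10077 = n10009 := d3_1 D10077 F12577 F12574
theorem F12675 : act 2 n10077 = n7657 := d8_1 D10077 (iv D7657) (iv F7919) D10071 F12661 (iv D7629) (iv F7921)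
theorem F12676 : act 3 n10077 = n7639 := d9_1 D10077 (iv D7639) (iv F7920) D10073 F12666 (iv D7628) D7627
def n10078 : Q := act 2 n7630
theorem D10078 : act 2 n7630 = n10078 := rfl
def n10079 : Q := act 3 n7630
theorem D10079 : act 3 n7630 = n10079 := rfl
theorem F12677 : act 0 n10079 = n8822 := d2_1 D10079 F10120 (iv F10161) (iv F10948) F10946 F10934 F10932
theorem F12678 : act 1 n10079 = n7631 := d5_1 D10079 (iv D7631) D7630
theorem F12679 : act 4 n10079 = n8821 := d12_1 D10079 (iv F10951) (iv D9245) (iv D6512) D6513 F10934 F10932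
def n10080 : Q := act 4 n7631
theorem D10080 : act 4 n7631 = n10080 := rfl
theorem F12680 : act 1 n10080 = n8821 := d6_1 D10080 (iv F12679) F12678
theorem F12681 : act 2 n10080 = n7652 := d8_1 D10080 (iv D7652) F3759 D4772 F7948 (iv D7645) (iv F7924)
theorem F12682 : act 3 n10080 = n7634 := d9_1 D10080 (iv D7634) D7633 (iv F11298) (iv D9420) F6354 D7631
def n10081 : Q := act 2 n7632
theorem D10081 : act 2 n7632 = n10081 := rfl
def n10082 : Q := act 3 n7632
theorem D10082 : act 3 n7632 = n10082 := rfl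
theorem F12683 : act 0 n10082 = n8817 := d2_1 D10082 (iv F10111) (iv F9540) (iv F11400) F11398 (iv F10957) F10955
theorem F12684 : act 1 n10082 = n7633 := d5_1 D10082 (iv D7633) D7632
theorem F12685 : act 4 n10082 = n8815 := d9_2 F10954 D10082 (iv F10928) F10930 D10079 F12679 (iv F10951)
def n10083 : Q := act 2 n7635
theorem D10083 : act 2 n7635 = n10083 := rfl
def n10084 : Q := act 4 n7635
theorem D10084 : act 4 n7635 = n10084 := rfl
theorem F12686 : act 0 n10084 = n7637 := d3_1 D10084 (iv D7637) D7635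
theorem F12687 : act 1 n10084 = n9582 := d6_1 D10084 F11624 (iv F7928)
theorem F12688 : act 2 n10014 = n10084 := d4_0 F12687 (iv D9582) (iv F6774) (iv D5019) (iv F3656) D7535 D10014
def n10085 : Q := act 0 n7636
theorem D10085 : act 0 n7636 = n10085 := rfl
theorem F12689 : act 2 n10085 = n8103 := d15_2 D7636 D10085 (iv D8103) (iv D5157) (iv F4056) (iv F5775) (iv F7539) (iv D7410) (iv F3521) D6953 (iv F7928) (iv D7635)
def n10086 : Q := act 1 n7636
theorem D10086 : act 1 n7636 = n10086 := rfl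
theorem F12690 : act 2 n10086 = n7898 := d4_2 D7636 D10086 (iv F8508) F8510 (iv D7638) (iv D4757) D4756
theorem F12691 : act 3 n10086 = n7897 := d5_2 F8257 D10086 F8998
theorem F12692 : act 0 n10086 = n9962 := d14_3 D4756 D7636 D10086 F12382 D9963 F12386 (iv D9915) F7536 F3516 F1432 D2470
theorem F12693 : act 4 n9960 = n10086 := d3_0 F12692 (iv D9962) D9960
def n10087 : Q := act 4 n7636
theorem D10087 : act 4 n7636 = n10087 := rfl
theorem F12694 : act 1 n10087 = n9960 := d6_1 D10087 F12693 (iv D10086)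
theorem F12695 : act 2 n10087 = n9921 := d17_4 (iv D4758) D4756 D7636 D10087 (iv D9921) (iv D7422) F3527 F1435 D2330 (iv F6314) F3522 (iv F3751)
def n10088 : Q := act 2 n7637
theorem D10088 : act 2 n7637 = n10088 := rfl
theorem F12696 : act 4 n10088 = n10070 := d8_2 D7637 D10088 F12657 (iv F12299) (iv F12695) (iv D10087) (iv D7636)
theorem F12697 : act 1 n10088 = n10071 := d14_2 (iv F7929) D10088 F12659 (iv D9964) (iv D7457) F3566 F1455 (iv F1439) (iv F6314) F3522 (iv F3751)
def n10089 : Q := act 0 n7638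
theorem D10089 : act 0 n7638 = n10089 := rfl
theorem F12698 : act 1 n10089 = n9249 := d0_2 D7638 D10089 F10961 (iv F11019) F11018 F10149 F7830
theorem F12699 : act 4 n9248 = n10089 := d6_0 F12698 (iv D9249) D9248
def n10090 : Q := act 4 n7638
theorem D10090 : act 4 n7638 = n10090 := rfl
theorem F12700 : act 0 n10090 = n9248 := d3_1 D10090 F12699 (iv D10089)
theorem F12701 : act 1 n10090 = n7639 := d6_1 D10090 (iv D7639) D7638
theorem F12702 : act 2 n10090 = n9064 := d11_2 F8510 D10090 (iv D9064) (iv F10556) (iv F10557) (iv D7968) (iv F8507)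
def n10091 : Q := act 1 n7640
theorem D10091 : act 1 n7640 = n10091 := rfl
theorem F12703 : act 2 n10091 = n7971 := d4_2 D7640 D10091 (iv F8516) (iv F12661) (iv F12697) (iv D10088) F7929
theorem F12704 : act 3 n10091 = n10088 := d5_2 F12660 D10091 F12697
theorem F12705 : act 4 n10091 = n7668 := d6_2 (iv F7931) D10091 (iv D7668)
def n10092 : Q := act 3 n7653
theorem D10092 : act 3 n7653 = n10092 := rfl
theorem F12706 : act 2 n10092 = n9504 := d7_1 D10092 F12402 F12401
def n10093 : Q := act 0 n7654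
theorem D10093 : act 0 n7654 = n10093 := rfl
theorem F12707 : act 2 n10093 = n8129 := d15_2 D7654 D10093 (iv D8129) (iv D5182) (iv F4106) (iv D5118) D5117 F6122 (iv F6826) (iv F11600) F11601 (iv D7653)
theorem F12708 : act 1 n9785 = n10093 := d15_11 (iv D7654) D7653 (iv F12401) F12400 F7607 (iv F9648) F9649 (iv D8061) D8062 F8701 (iv F12003) (iv D10093)
theorem F12709 : act 3 n10093 = n9783 := d5_2 D9785 F12708 F12000
def n10094 : Q := act 1 n7654
theorem D10094 : act 1 n7654 = n10094 := rfl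
theorem F12710 : act 0 n10094 = n9996 := d0_1 D10094 F12464 F8704 F8701 (iv F12003) F12708 (iv D10093)
theorem F12711 : act 2 n10094 = n7828 := d4_2 D7654 D10094 (iv D7828) (iv F7914) F7913 F3745 D4773
theorem F12712 : act 4 n10094 = n7894 := d6_2 F8393 D10094 F8395
theorem F12713 : act 3 n7934 = n10094 := d7_0 F12711 F12219 (iv F8450)
def n10095 : Q := act 3 n7654
theorem D10095 : act 3 n7654 = n10095 := rfl
theorem F12714 : act 1 n10095 = n7934 := d5_1 D10095 F12713 (iv D10094)
theorem F12715 : act 2 n10095 = n7655 := d7_1 D10095 (iv D7655) D7654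
theorem F12716 : act 4 n10095 = n7932 := d12_1 D10095 (iv F8446) F11999 (iv D9782) D9783 (iv F12709) (iv D10093)
def n10096 : Q := act 2 n7656
theorem D10096 : act 2 n7656 = n10096 := rfl
theorem F12717 : act 1 n10096 = n10073 := d4_1 D10096 F12665 F10555 (iv F12673) F12672 F7922 (iv F7970)
theorem F12718 : act 3 n10096 = n10076 := d7_2 F10554 D10096 F12673
theorem F12719 : act 4 n10096 = n10072 := d8_2 D7656 D10096 F12662 (iv D7893) D7892 F8393 (iv D7654)
theorem F12720 : act 0 n10096 = n8737 := d11_3 (iv D7654) D7656 D10096 (iv F10304) F10305 (iv F12707) (iv D10093)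
def n10097 : Q := act 1 n7659
theorem D10097 : act 1 n7659 = n10097 := rfl
theorem F12721 : act 3 n10097 = n9154 := d5_2 F9329 D10097 F10749
theorem F12722 : act 4 n10097 = n9168 := d6_2 F12477 D10097 (iv F12475)
def n10098 : Q := act 0 n7660
theorem D10098 : act 0 n7660 = n10098 := rfl
def n10099 : Q := act 1 n7662
theorem D10099 : act 1 n7662 = n10099 := rfl
theorem F12723 : act 3 n10099 = n9169 := d5_2 F9364 D10099 F10779
theorem F12724 : act 4 n10099 = n9153 := d6_2 F12493 D10099 F12495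
def n10100 : Q := act 3 n7664
theorem D10100 : act 3 n7664 = n10100 := rfl
theorem F12725 : act 2 n10100 = n9514 := d7_1 D10100 (iv F12506) F12507
def n10101 : Q := act 0 n7665
theorem D10101 : act 0 n7665 = n10101 := rfl
theorem F12726 : act 4 n10101 = n9782 := d3_2 F8442 D10101 (iv F11999)
theorem F12727 : act 2 n10101 = n8135 := d15_2 D7665 D10101 (iv D8135) (iv D5189) (iv F4118) F4119 D5132 F4120 (iv F6824) (iv F11621) F11622 (iv D7664)
theorem F12728 : act 1 n9784 = n10101 := d15_11 (iv D7665) D7664 (iv F12507) F12505 F7735 (iv F9659) F9656 (iv D8084) D8085 F8752 (iv F12001) (iv D10101)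
theorem F12729 : act 3 n10101 = n9807 := d5_2 (iv F12002) F12728 (iv D9807)
def n10102 : Q := act 1 n7665
theorem D10102 : act 1 n7665 = n10102 := rfl
theorem F12730 : act 0 n10102 = n10008 := d0_1 D10102 F12496 (iv F8754) F8752 (iv F12001) F12728 (iv D10101)
theorem F12731 : act 2 n10102 = n7908 := d4_2 D7665 D10102 F8416 (iv F7983) (iv D7668) (iv D4790) D4789
theorem F12732 : act 4 n10102 = n7933 := d6_2 F8442 D10102 F8448
theorem F12733 : act 3 n7895 = n10102 := d16_2 D8291 F9128 (iv D10102) (iv D7665) (iv D4789) (iv D2489) (iv D1077) D1075 (iv F1043) (iv F2278) F2277 D5385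
def n10103 : Q := act 3 n7665
theorem D10103 : act 3 n7665 = n10103 := rfl
theorem F12734 : act 1 n10103 = n7895 := d5_1 D10103 F12733 (iv D10102)
theorem F12735 : act 2 n10103 = n7666 := d7_1 D10103 (iv D7666) D7665
theorem F12736 : act 4 n10103 = n7851 := d9_2 F8442 D10103 (iv F8392) F8393 D10095 F12716 (iv F8446)
def n10104 : Q := act 2 n7667
theorem D10104 : act 2 n7667 = n10104 := rfl
theorem F12737 : act 1 n10104 = n10077 := d4_1 D10104 F12675 F10562 (iv F12702) F12701 F7930 (iv F7981)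
theorem F12738 : act 3 n10104 = n10090 := d7_2 F10561 D10104 F12702
theorem F12739 : act 4 n10104 = n10075 := d8_2 D7667 D10104 F12670 (iv D7931) D7930 F8442 (iv D7665)
theorem F12740 : act 0 n10104 = n8741 := d13_1 D10104 F9985 F5180 (iv F5259) (iv F9936) (iv F10726) (iv D9141) F5841 (iv F6772) D9580 F11619
def n10105 : Q := act 1 n7675
theorem D10105 : act 1 n7675 = n10105 := rfl
theorem F12741 : act 0 n10105 = n7718 := d13_3 D4805 D7675 D10105 (iv D7718) (iv D4835) (iv D2518) (iv D1091) (iv D440) (iv F208) (iv F588) (iv F1589)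
def n10106 : Q := act 3 n7675
theorem D10106 : act 3 n7675 = n10106 := rfl
theorem F12742 : act 0 n10106 = n7700 := d2_1 D10106 F8062 (iv D6536) D6538 (iv F7998) (iv D7677) D7675
theorem F12743 : act 2 n10106 = n9231 := d7_1 D10106 (iv D9231) (iv F7996)
def n10107 : Q := act 4 n7675
theorem D10107 : act 4 n7675 = n10107 := rfl
theorem F12744 : act 0 n10107 = n7678 := d3_1 D10107 (iv D7678) D7675
theorem F12745 : act 2 n10107 = n9233 := d8_1 D10107 (iv D9233) (iv D6504) (iv D3747) D3746 D6503 (iv F7996)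
def n10108 : Q := act 0 n7676
theorem D10108 : act 0 n7676 = n10108 := rfl
theorem F12746 : act 3 n10108 = n8798 := d2_2 F10771 D10108 (iv D8798) D8800 (iv F10754) (iv F10756) (iv F10769)
theorem F12747 : act 4 n10108 = n9558 := d3_2 (iv F10742) D10108 F11576
theorem F12748 : act 2 n10108 = n8056 := d10_2 F10771 D10108 (iv D8056) D8058 (iv F10785) (iv D9171) (iv F10769)
theorem F12749 : act 1 n10108 = n9560 := d14_4 F3753 D4805 D7676 D10108 F11580 F7956 (iv D7648) (iv D4769) (iv D2479) (iv F1580) (iv F3752)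
def n10109 : Q := act 2 n7676
theorem D10109 : act 2 n7676 = n10109 := rfl
theorem F12750 : act 1 n10109 = n8589 := d4_1 D10109 (iv D8589) F7933 (iv D7641) F3753 D4805 D7676
theorem F12751 : act 3 n10109 = n8675 := d7_2 F10771 D10109 F10772
theorem F12752 : act 0 n10109 = n10097 := d10_3 (iv F12746) (iv D10108) D10109 F12721 F10748 (iv D8799) D8798
def n10110 : Q := act 2 n7679
theorem D10110 : act 2 n7679 = n10110 := rfl
theorem F12753 : act 0 n10110 = n7692 := d1_1 D10110 F8036 F6036 (iv F6066) (iv F7998) F7997 D7679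
theorem F12754 : act 1 n10110 = n9179 := d4_1 D10110 (iv F12212) F12211 (iv D8468) (iv F9404) F9405 (iv F8004)
theorem F12755 : act 3 n10110 = n9227 := d7_2 (iv F8005) D10110 (iv D9227)
theorem F12756 : act 4 n10110 = n9177 := d8_2 (iv F8006) D10110 F10795 (iv D6772) D6771 D9474 F11397
def n10111 : Q := act 4 n7681
theorem D10111 : act 4 n7681 = n10111 := rfl
theorem F12757 : act 0 n10111 = n8954 := d3_1 D10111 (iv D8954) (iv F8009)
theorem F12758 : act 1 n10111 = n9381 := d6_1 D10111 (iv D9381) (iv F8010)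
theorem F12759 : act 2 n10111 = n7690 := d8_1 D10111 (iv D7690) (iv D4814) (iv D2504) (iv F1594) D4810 D7681
theorem F12760 : act 3 n10111 = n7684 := d12_2 F8011 D10111 F8019 F8002 (iv D3752) D3751 D6514
def n10112 : Q := act 4 n7683
theorem D10112 : act 4 n7683 = n10112 := rfl
theorem F12761 : act 0 n10112 = n8966 := d3_1 D10112 (iv D8966) (iv F8016)
theorem F12762 : act 1 n10112 = n9385 := d6_1 D10112 F11208 (iv F8017)
theorem F12763 : act 2 n10112 = n7699 := d8_1 D10112 (iv D7699) F3793 D4820 (iv F8027) (iv D7686) (iv F8018)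
theorem F12764 : act 3 n10112 = n7776 := d9_1 D10112 F8173 F8011 D10111 F12760 (iv D7684) D7683
def n10113 : Q := act 4 n7685
theorem D10113 : act 4 n7685 = n10113 := rfl
theorem F12765 : act 0 n10113 = n7686 := d3_1 D10113 (iv D7686) D7685
theorem F12766 : act 1 n10113 = n10113 := d6_1 D10113 (iv D10113) F8022
theorem F12767 : act 3 n10113 = n9265 := d9_1 D10113 F10993 (iv F10357) (iv D7680) F4490 D6532 (iv F8023)
theorem F12768 : act 2 n9255 = n10113 := d7_3 F12767 (iv D9265) (iv F10970)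
def n10114 : Q := act 0 n7687
theorem D10114 : act 0 n7687 = n10114 := rfl
theorem F12769 : act 2 n10114 = n8951 := d1_2 D7687 D10114 F10352 (iv F8029) (iv D7688) (iv D4814) (iv F3790)
theorem F12770 : act 3 n10114 = n7768 := d2_2 (iv F8028) D10114 (iv D7768) F3851 F2757 D3772 D6542
def n10115 : Q := act 1 n7688
theorem D10115 : act 1 n7688 = n10115 := rfl
theorem F12771 : act 0 n10115 = n7874 := d0_1 D10115 F8355 F5602 (iv F4379) (iv F8032) (iv D7689) D7688
theorem F12772 : act 3 n10115 = n9263 := d5_2 F8030 D10115 (iv D9263)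
theorem F12773 : act 2 n10115 = n9709 := d17_8 F8336 F8335 F7306 D7274 (iv F8034) (iv D7689) D7688 D10115 F11841 (iv F9852) F8469 (iv D7947)
theorem F12774 : act 4 n9011 = n10115 := d17_0 (iv D10115) F8029 (iv D6533) F4489 F3778 (iv D4809) F1593 (iv D1651) D1653 D3484 D6249 D9011
def n10116 : Q := act 4 n7688
theorem D10116 : act 4 n7688 = n10116 := rfl
theorem F12775 : act 0 n10116 = n7690 := d3_1 D10116 (iv D7690) D7688
theorem F12776 : act 1 n10116 = n9011 := d6_1 D10116 F12774 (iv D10115)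
theorem F12777 : act 2 n10116 = n9273 := d8_1 D10116 F11011 F10356 (iv D7680) (iv F4489) D6533 (iv F8029)
theorem F12778 : act 3 n9254 = n10116 := d7_0 F12777 (iv D9273) (iv F10969)
def n10117 : Q := act 0 n7691
theorem D10117 : act 0 n7691 = n10117 := rfl
theorem F12779 : act 3 n10117 = n8782 := d2_2 (iv F8039) D10117 (iv D8782) D8783 F10041 F8418 (iv F7250)
theorem F12780 : act 2 n10117 = n9775 := d10_2 (iv F8039) D10117 F11987 (iv D7236) F3271 D4969 (iv F7250)
def n10118 : Q := act 4 n7691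
theorem D10118 : act 4 n7691 = n10118 := rfl
theorem F12781 : act 1 n10118 = n7693 := d6_1 D10118 (iv D7693) D7691
theorem F12782 : act 2 n10118 = n9826 := d8_1 D10118 (iv D9826) (iv F12040) F12041 F8320 (iv F7251) F8040
theorem F12783 : act 3 n10118 = n8974 := d12_2 (iv F8039) D10118 (iv D8974) D8976 F10415 F8418 (iv F7250)
def n10119 : Q := act 1 n7698
theorem D10119 : act 1 n7698 = n10119 := rfl
theorem F12784 : act 0 n10119 = n7871 := d0_1 D10119 F8345 F5631 (iv F5809) (iv F8054) F8052 D7698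
theorem F12785 : act 3 n10119 = n9253 := d5_2 F10915 D10119 (iv D9253)
theorem F12786 : act 2 n10119 = n9707 := d17_8 D7866 F8332 (iv D7284) D7285 (iv F8053) F8052 D7698 D10119 (iv D9707) (iv F9672) F8331 (iv D7865)
theorem F12787 : act 4 n9045 = n10119 := d17_0 (iv D10119) F10916 D9255 F12768 F12766 F12765 F8025 (iv D6275) (iv D3500) D3499 D6273 D9045
def n10120 : Q := act 4 n7698
theorem D10120 : act 4 n7698 = n10120 := rfl
theorem F12788 : act 0 n10120 = n7699 := d3_1 D10120 (iv D7699) D7698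
theorem F12789 : act 1 n10120 = n9045 := d6_1 D10120 F12787 (iv D10119)
theorem F12790 : act 2 n10120 = n9272 := d8_1 D10120 (iv D9272) F8024 D10113 (iv F12768) (iv D9255) (iv F10916)
theorem F12791 : act 3 n10120 = n9264 := d9_1 D10120 (iv D9264) F8030 D10116 (iv F12778) (iv D9254) F10915
def n10121 : Q := act 2 n7702
theorem D10121 : act 2 n7702 = n10121 := rfl
theorem F12792 : act 3 n10121 = n9301 := d7_2 (iv F8066) D10121 (iv D9301)
theorem F12793 : act 0 n10121 = n7704 := d10_3 (iv F12349) F12347 D10121 F8068 (iv F9291) F9290 D8385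
def n10122 : Q := act 4 n7703
theorem D10122 : act 4 n7703 = n10122 := rfl
theorem F12794 : act 3 n10122 = n9305 := d12_2 (iv F8067) D10122 F11075 (iv F6163) (iv D3809) D3808 D6596
def n10123 : Q := act 1 n7704
theorem D10123 : act 1 n7704 = n10123 := rfl
theorem F12795 : act 3 n10123 = n9043 := d5_2 (iv F8068) D10123 (iv D9043)
theorem F12796 : act 0 n10123 = n8249 := d13_3 D10121 F12793 D10123 F9041 (iv F8258) (iv D7819) (iv F8251) (iv D7809) (iv F8249) (iv F12348) F12347
theorem F12797 : act 4 n9422 = n10123 := d17_0 (iv D10123) (iv D7704) (iv D4823) (iv D2508) (iv D1085) F206 (iv F236) (iv F662) D2721 D5153 F8621 (iv F11301)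
theorem F12798 : act 2 n10123 = n9430 := d8_1 F12797 (iv D9430) (iv F11300) (iv D9421) (iv D6701) D6703 D9422
def n10124 : Q := act 4 n7704
theorem D10124 : act 4 n7704 = n10124 := rfl
theorem F12799 : act 1 n10124 = n9422 := d6_1 D10124 F12797 (iv D10123)
theorem F12800 : act 2 n10124 = n7706 := d8_1 D10124 (iv D7706) (iv D4825) (iv D2510) D2508 D4823 D7704
theorem F12801 : act 3 n9009 = n10124 := d7_0 F12800 (iv F8074) (iv F10487)
def n10125 : Q := act 0 n7708
theorem D10125 : act 0 n7708 = n10125 := rfl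
theorem F12802 : act 4 n10125 = n9326 := d3_2 F8086 D10125 F11113
theorem F12803 : act 3 n10125 = n9330 := d10_4 F4532 F4530 D7708 D10125 (iv F11122) (iv D8397) F4536
def n10126 : Q := act 0 n7710
theorem D10126 : act 0 n7710 = n10126 := rfl
theorem F12804 : act 1 n10126 = n7812 := d13_2 D7710 D10126 (iv D7812) (iv D4902) F1673 F614 F216 D493 (iv F595) D2514 D4830
def n10127 : Q := act 1 n7710
theorem D10127 : act 1 n7710 = n10127 := rfl
theorem F12805 : act 0 n10127 = n9980 := d0_1 D10127 F12429 F9078 (iv D7813) D7812 (iv F12804) (iv D10126)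
theorem F12806 : act 4 n9977 = n10127 := d3_0 F12805 (iv D9980) D9977
def n10128 : Q := act 4 n7710
theorem D10128 : act 4 n7710 = n10128 := rfl
theorem F12807 : act 1 n10128 = n9977 := d6_1 D10128 F12806 (iv D10127)
theorem F12808 : act 3 n10128 = n9339 := d12_2 (iv F9313) D10128 (iv D9339) F6218 D6806 F6540 D8198
theorem F12809 : act 0 n9947 = n10128 := d10_7 F12808 (iv D9339) (iv D6626) (iv F6215) F6217 D7446 D9947
theorem F12810 : act 4 n10126 = n9947 := d3_0 F12809 (iv D10128) D10126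
def n10129 : Q := act 2 n7712
theorem D10129 : act 2 n7712 = n10129 := rfl
theorem F12811 : act 3 n10129 = n9336 := d7_2 F8095 D10129 (iv F11132)
theorem F12812 : act 4 n9316 = n10129 := d12_1 D9316 F12811 F11131 F6207 (iv D3957) (iv F2839) D6604
def n10130 : Q := act 1 n7713
theorem D10130 : act 1 n7713 = n10130 := rfl
theorem F12813 : act 0 n10130 = n7886 := d0_1 D10130 F8382 (iv F11904) F11905 (iv F8049) F8048 D7713
theorem F12814 : act 4 n10130 = n9936 := d6_2 (iv F11115) D10130 F12334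
theorem F12815 : act 2 n10130 = n9996 := d14_1 D10130 F12464 F8704 F8701 F8040 (iv D7691) (iv D4815) D4816 D7695 F8048 D7713
theorem F12816 : act 3 n7922 = n10130 := d10_0 F12813 (iv D7886) (iv F7628) F7630 F3953 D4981 D7922
def n10131 : Q := act 2 n7713
theorem D10131 : act 2 n7713 = n10131 := rfl
theorem F12817 : act 1 n10131 = n7734 := d4_1 D10131 (iv D7734) D7733 F8126 (iv F12464) (iv F12815) (iv D10130)
def n10132 : Q := act 3 n7713
theorem D10132 : act 3 n7713 = n10132 := rfl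
theorem F12818 : act 1 n10132 = n7922 := d5_1 D10132 F12816 (iv D10130)
theorem F12819 : act 4 n10132 = n9313 := d12_1 D10132 F11089 F11126 F8193 F8101 (iv D7714) D7713
def n10133 : Q := act 0 n7714
theorem D10133 : act 0 n7714 = n10133 := rfl
theorem F12820 : act 4 n10133 = n9329 := d3_2 F8101 D10133 (iv F11120)
theorem F12821 : act 3 n10133 = n9483 := d10_4 (iv F4544) F4542 (iv F8097) D10133 (iv F11418) (iv D8468) F4577
def n10134 : Q := act 2 n7715
theorem D10134 : act 2 n7715 = n10134 := rfl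
theorem F12822 : act 1 n10134 = n9421 := d4_1 D10134 F11300 (iv F8334) (iv D7867) (iv F8328) F8329 (iv F8102)
theorem F12823 : act 3 n10134 = n9070 := d7_2 F8103 D10134 F10575
theorem F12824 : act 4 n10134 = n9099 := d8_2 D7715 D10134 F10642 F8106 (iv D7716) (iv D4833) D4831
def n10135 : Q := act 1 n7718
theorem D10135 : act 1 n7718 = n10135 := rfl
theorem F12825 : act 0 n10135 = n9560 := d0_1 D10135 (iv F12749) (iv D10108) (iv D7676) D7675 D10105 F12741
theorem F12826 : act 2 n10135 = n9572 := d4_2 D7718 D10135 F11601 (iv F12401) F12400 (iv F8108) (iv D7717)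
theorem F12827 : act 4 n9557 = n10135 := d8_0 F12826 (iv D9572) (iv D6931) (iv D4087) D4085 D6929 (iv F11575)
def n10136 : Q := act 3 n7718
theorem D10136 : act 3 n7718 = n10136 := rfl
theorem F12828 : act 2 n10136 = n7719 := d7_1 D10136 (iv D7719) D7718
theorem F12829 : act 0 n8715 = n10136 := d16_6 D10070 F12658 (iv D8735) F5171 (iv F5144) D8715 (iv D10136) (iv F12741) (iv D10105) F7996 (iv F10923) F10922
def n10137 : Q := act 4 n7718
theorem D10137 : act 4 n7718 = n10137 := rfl
theorem F12830 : act 1 n10137 = n9557 := d6_1 D10137 F12827 (iv D10135)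
def n10138 : Q := act 2 n7720
theorem D10138 : act 2 n7720 = n10138 := rfl
def n10139 : Q := act 1 n7721
theorem D10139 : act 1 n7721 = n10139 := rfl
theorem F12831 : act 0 n10139 = n9812 := d13_3 D4836 D7721 D10139 F12045 (iv F11987) F11988 F7620 (iv F3834) (iv F8107) (iv D7717) (iv D4835)
theorem F12832 : act 2 n10139 = n9785 := d14_1 D10139 F12708 (iv D10093) D10094 F12711 (iv D7828) (iv D4911) D4912 (iv F8112) (iv D7722) D7721
theorem F12833 : act 3 n9776 = n10139 := d7_0 F12832 (iv D9785) (iv F11990)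
def n10140 : Q := act 2 n7721
theorem D10140 : act 2 n7721 = n10140 := rfl
theorem F12834 : act 1 n10140 = n8130 := d4_1 D10140 (iv D8130) D8129 (iv F12707) (iv F12708) (iv F12832) (iv D10139)
def n10141 : Q := act 3 n7721
theorem D10141 : act 3 n7721 = n10141 := rfl
theorem F12835 : act 1 n10141 = n9776 := d5_1 D10141 F12833 (iv D10139)
def n10142 : Q := act 4 n7721
theorem D10142 : act 4 n7721 = n10142 := rfl
theorem F12836 : act 0 n10142 = n7724 := d3_1 D10142 (iv D7724) D7721
def n10143 : Q := act 0 n7723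
theorem D10143 : act 0 n7723 = n10143 := rfl
def n10144 : Q := act 2 n7724
theorem D10144 : act 2 n7724 = n10144 := rfl
theorem F12837 : act 1 n10144 = n9423 := d4_1 D10144 F11302 (iv F8310) (iv D7854) (iv F7046) (iv F11889) (iv F11892)
def n10145 : Q := act 0 n7726
theorem D10145 : act 0 n7726 = n10145 := rfl
theorem F12838 : act 1 n10145 = n8724 := d0_2 F10500 D10145 F9958 (iv F10097) (iv F10760) F10758 (iv F10499)
theorem F12839 : act 3 n8723 = n10145 := d5_0 F12838 (iv D8724) D8723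
def n10146 : Q := act 2 n7728
theorem D10146 : act 2 n7728 = n10146 := rfl
theorem F12840 : act 0 n10146 = n7734 := d1_1 D10146 (iv D7734) (iv D4845) (iv D2522) D2521 D4842 D7728
theorem F12841 : act 1 n10146 = n8924 := d4_1 D10146 (iv D8924) F6358 (iv F7481) F7480 (iv F4101) (iv F8120)
theorem F12842 : act 4 n10146 = n7746 := d11_1 D10146 F8144 (iv F8125) (iv D7732) (iv D4844) D4842 D7728
def n10147 : Q := act 3 n7728
theorem D10147 : act 3 n7728 = n10147 := rfl
theorem F12843 : act 1 n10147 = n8005 := d5_1 D10147 F8578 (iv F8120)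
theorem F12844 : act 0 n10147 = n7740 := d10_1 D10147 (iv D7740) (iv D4848) (iv D2523) D2521 D4842 D7728
def n10148 : Q := act 0 n7729
theorem D10148 : act 0 n7729 = n10148 := rfl
theorem F12845 : act 1 n10148 = n8056 := d0_2 D7729 D10148 (iv D8056) (iv D5110) D5109 (iv F8120) (iv D7728)
theorem F12846 : act 4 n10148 = n9976 := d3_2 F8122 D10148 F12419
theorem F12847 : act 2 n10148 = n9980 := d11_4 D4620 D7483 (iv F8121) D10148 (iv D9980) (iv D7474) F3595
def n10149 : Q := act 3 n7729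
theorem D10149 : act 3 n7729 = n10149 := rfl
theorem F12848 : act 1 n10149 = n7730 := d5_1 D10149 (iv D7730) D7729
theorem F12849 : act 2 n10149 = n9985 := d7_1 D10149 F12440 (iv F8121)
theorem F12850 : act 4 n9981 = n10149 := d8_0 F12849 (iv D9985) (iv D7480) (iv D4619) (iv F3597) D7476 D9981
def n10150 : Q := act 0 n7730
theorem D10150 : act 0 n7730 = n10150 := rfl
theorem F12851 : act 3 n10150 = n7759 := d2_2 D7730 D10150 (iv D7759) (iv F8130) (iv F12844) (iv D10147) (iv D7728)
theorem F12852 : act 1 n10150 = n9927 := d13_2 (iv F8123) D10150 F12311 (iv D8152) F4181 F3017 F1171 D1962 D4039 D6881 F6677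
def n10151 : Q := act 4 n7730
theorem D10151 : act 4 n7730 = n10151 := rfl
theorem F12853 : act 1 n10151 = n9981 := d6_1 D10151 F12850 F12848
theorem F12854 : act 3 n7757 = n10151 := d5_0 F12853 F12431 (iv F10714)
def n10152 : Q := act 2 n7731
theorem D10152 : act 2 n7731 = n10152 := rfl
theorem F12855 : act 0 n10152 = n7739 := d10_3 D9914 F12287 D10152 F8129 (iv F6364) F6365 D7406
def n10153 : Q := act 3 n7731
theorem D10153 : act 3 n7731 = n10153 := rfl
theorem F12856 : act 1 n10153 = n9982 := d5_1 D10153 (iv D9982) (iv F8124)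
theorem F12857 : act 4 n10153 = n7756 := d9_2 D7731 D10153 (iv D7756) D7757 F12854 (iv D10151) (iv D7730)
def n10154 : Q := act 1 n7732
theorem D10154 : act 1 n7732 = n10154 := rfl
theorem F12858 : act 2 n10154 = n9210 := d4_2 D7732 D10154 F10870 (iv D7467) F3585 D4609 (iv F3837)
theorem F12859 : act 3 n10154 = n10062 := d5_2 F11525 D10154 F12641
theorem F12860 : act 4 n9993 = n10154 := d8_0 F12858 F10871 F7076 (iv D4629) D4627 D7494 D9993
def n10155 : Q := act 4 n7732
theorem D10155 : act 4 n7732 = n10155 := rfl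
theorem F12861 : act 0 n10155 = n7747 := d3_1 D10155 (iv D7747) (iv F8125)
theorem F12862 : act 1 n10155 = n9993 := d6_1 D10155 F12860 (iv D10154)
def n10156 : Q := act 3 n7733
theorem D10156 : act 3 n7733 = n10156 := rfl
theorem F12863 : act 1 n10156 = n7735 := d5_1 D10156 (iv D7735) D7733
theorem F12864 : act 2 n10156 = n9998 := d7_1 D10156 (iv D9998) (iv F8126)
def n10157 : Q := act 4 n7733
theorem D10157 : act 4 n7733 = n10157 := rfl
theorem F12865 : act 1 n10157 = n7736 := d6_1 D10157 (iv D7736) D7733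
theorem F12866 : act 2 n10157 = n10000 := d8_1 D10157 (iv D10000) (iv D7504) (iv D4634) D4632 D7501 (iv F8126)
def n10158 : Q := act 3 n7734
theorem D10158 : act 3 n7734 = n10158 := rfl
theorem F12867 : act 2 n10158 = n7735 := d7_1 D10158 (iv D7735) D7734
def n10159 : Q := act 4 n7734
theorem D10159 : act 4 n7734 = n10159 := rfl
theorem F12868 : act 0 n10159 = n7746 := d3_1 D10159 (iv F12842) F12840
theorem F12869 : act 2 n10159 = n7741 := d11_2 D7734 D10159 (iv D7741) (iv D4849) (iv D2524) D2522 D4845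
def n10160 : Q := act 4 n7735
theorem D10160 : act 4 n7735 = n10160 := rfl
theorem F12870 : act 3 n10160 = n7752 := d12_2 D7735 D10160 F8146 (iv F8128) (iv D7738) (iv D4846) D4845
def n10161 : Q := act 2 n7736
theorem D10161 : act 2 n7736 = n10161 := rfl
theorem F12871 : act 1 n10161 = n9944 := d4_1 D10161 (iv D9944) (iv F7840) D10038 F12569 (iv F12866) F12865
def n10162 : Q := act 3 n7736
theorem D10162 : act 3 n7736 = n10162 := rfl
theorem F12872 : act 4 n10162 = n7751 := d9_2 D7736 D10162 (iv D7751) D7752 (iv F12870) (iv D10160) (iv D7735)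
def n10163 : Q := act 1 n7737
theorem D10163 : act 1 n7737 = n10163 := rfl
theorem F12873 : act 0 n10163 = n8624 := d13_3 (iv F3838) D7737 D10163 (iv D8624) F4916 F2228 F788 F2166 (iv F1629) (iv F3839) (iv D4848)
theorem F12874 : act 2 n10163 = n10004 := d15_6 F8720 F5954 (iv F7974) F7973 D7737 D10163 F12484 F11964 (iv D8073) (iv D5121) (iv F4107) D8070
theorem F12875 : act 3 n8649 = n10163 := d7_0 F12874 F12485 (iv F9792)
def n10164 : Q := act 2 n7737
theorem D10164 : act 2 n7737 = n10164 := rfl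
def n10165 : Q := act 3 n7737
theorem D10165 : act 3 n7737 = n10165 := rfl
theorem F12876 : act 0 n10165 = n7758 := d2_1 D10165 (iv F11515) F11516 (iv D7735) (iv D4845) D4846 D7737
theorem F12877 : act 1 n10165 = n8649 := d5_1 D10165 F12875 (iv D10163)
theorem F12878 : act 4 n10165 = n7748 := d12_1 D10165 (iv D7748) F3846 (iv F7693) (iv D4847) D4846 D7737
def n10166 : Q := act 4 n7737
theorem D10166 : act 4 n7737 = n10166 := rfl
theorem F12879 : act 0 n10166 = n7738 := d3_1 D10166 (iv D7738) D7737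
theorem F12880 : act 3 n10166 = n7747 := d9_1 D10166 (iv D7747) (iv D4853) D4854 D7748 (iv F12878) (iv D10165)
def n10167 : Q := act 2 n7738
theorem D10167 : act 2 n7738 = n10167 := rfl
theorem F12881 : act 3 n10167 = n7753 := d7_2 (iv F8128) D10167 (iv D7753)
def n10168 : Q := act 3 n7741
theorem D10168 : act 3 n7741 = n10168 := rfl
theorem F12882 : act 0 n10168 = n7756 := d2_1 D10168 (iv D7756) (iv F8136) (iv D7743) (iv D4850) (iv F3842) D7741
theorem F12883 : act 1 n10168 = n9928 := d5_1 D10168 (iv D9928) (iv F8131)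
def n10169 : Q := act 3 n7742
theorem D10169 : act 3 n7742 = n10169 := rfl
theorem F12884 : act 1 n10169 = n8925 := d5_1 D10169 (iv D8925) (iv F8133)
theorem F12885 : act 2 n10169 = n7743 := d7_1 D10169 (iv D7743) D7742
theorem F12886 : act 0 n10169 = n7750 := d10_1 D10169 (iv D7750) (iv D4855) (iv D2529) D2528 D4852 (iv F8132)
def n10170 : Q := act 4 n7743
theorem D10170 : act 4 n7743 = n10170 := rfl
theorem F12887 : act 0 n10170 = n7757 := d3_1 D10170 (iv D7757) (iv F8136)
theorem F12888 : act 1 n10170 = n8007 := d6_1 D10170 (iv D8007) (iv F8135)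
def n10171 : Q := act 4 n7744
theorem D10171 : act 4 n7744 = n10171 := rfl
theorem F12889 : act 0 n10171 = n8659 := d3_1 D10171 (iv D8659) (iv F8139)
theorem F12890 : act 1 n10171 = n7747 := d6_1 D10171 (iv D7747) (iv F8137)
theorem F12891 : act 2 n10171 = n8833 := d8_1 D10171 (iv D8833) F5383 (iv F3638) D7490 F8140 (iv F8138)
theorem F12892 : act 2 n8847 = n7747 := d4_6 F12891 F10148 (iv D7571) F3701 D6073 D8847 (iv F12890)
def n10172 : Q := act 3 n7745
theorem D10172 : act 3 n7745 = n10172 := rfl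
theorem F12893 : act 1 n10172 = n7748 := d5_1 D10172 (iv D7748) (iv F8142)
theorem F12894 : act 2 n10172 = n8834 := d7_1 D10172 (iv D8834) (iv F8143)
theorem F12895 : act 0 n10172 = n8652 := d10_1 D10172 (iv F11344) (iv D9442) (iv D6726) (iv F6391) F6393 (iv F8141)
theorem F12896 : act 4 n10172 = n8649 := d12_1 D10172 F12875 F12873 F9747 D8636 F11339 (iv F8141)
def n10173 : Q := act 0 n7748
theorem D10173 : act 0 n7748 = n10173 := rfl
theorem F12897 : act 4 n10173 = n7758 := d3_2 F12878 D10173 (iv F12876)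
theorem F12898 : act 1 n10173 = n10020 := d14_4 (iv F10149) (iv F12894) F12893 D10173 (iv D10020) (iv F12512) F12511 (iv F8508) F8510 (iv D7638) (iv F7830)
def n10174 : Q := act 3 n7749
theorem D10174 : act 3 n7749 = n10174 := rfl
theorem F12899 : act 1 n10174 = n7751 := d5_1 D10174 (iv D7751) D7749
theorem F12900 : act 2 n10174 = n9997 := d7_1 D10174 F12467 (iv F8145)
def n10175 : Q := act 4 n7749
theorem D10175 : act 4 n7749 = n10175 := rfl
theorem F12901 : act 1 n10175 = n7752 := d6_1 D10175 (iv D7752) D7749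
theorem F12902 : act 2 n10175 = n10010 := d8_1 D10175 (iv D10010) (iv D7530) (iv D4662) D4660 D7528 (iv F8145)
def n10176 : Q := act 1 n7750
theorem D10176 : act 1 n7750 = n10176 := rfl
theorem F12903 : act 2 n10176 = n7783 := d15_6 D5192 (iv F5470) (iv F10302) (iv F12884) F12886 D10176 (iv D7783) (iv D4875) (iv D2540) F607 (iv F673) D2747
def n10177 : Q := act 3 n7750
theorem D10177 : act 3 n7750 = n10177 := rfl
theorem F12904 : act 2 n10177 = n7751 := d7_1 D10177 (iv D7751) D7750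
def n10178 : Q := act 4 n7750
theorem D10178 : act 4 n7750 = n10178 := rfl
theorem F12905 : act 2 n10178 = n7759 := d11_2 D7750 D10178 (iv D7759) (iv D4863) (iv D2532) (iv F1633) D4855
def n10179 : Q := act 2 n7752
theorem D10179 : act 2 n7752 = n10179 := rfl
def n10180 : Q := act 0 n7753
theorem D10180 : act 0 n7753 = n10180 := rfl
theorem F12906 : act 2 n10180 = n7757 := d11_4 (iv F1633) D4856 D7753 D10180 (iv D7757) (iv D4860) (iv D2531)
theorem F12907 : act 2 n9155 = n8091 := d15_8 (iv F12906) (iv D10180) (iv D7753) F7716 D10007 (iv F12495) F10747 D9155 F8765 (iv F8580) (iv F12888) F12887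
def n10181 : Q := act 0 n7755
theorem D10181 : act 0 n7755 = n10181 := rfl
theorem F12908 : act 1 n10181 = n8089 := d0_2 D7755 D10181 (iv D8089) (iv D5147) (iv F4032) (iv F8135) F8136
def n10182 : Q := act 3 n7755
theorem D10182 : act 3 n7755 = n10182 := rfl
theorem F12909 : act 1 n10182 = n7756 := d5_1 D10182 (iv D7756) D7755
theorem F12910 : act 2 n10182 = n8294 := d7_1 D10182 F12242 F12241
theorem F12911 : act 4 n10182 = n9982 := d9_2 F10715 D10182 (iv D9982) F8122 D10149 (iv F12850) F12431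
def n10183 : Q := act 1 n7758
theorem D10183 : act 1 n7758 = n10183 := rfl
theorem F12912 : act 2 n10183 = n9207 := d4_2 D7758 D10183 F10864 F7864 F3716 (iv F6681) F6680
theorem F12913 : act 3 n10183 = n10049 := d5_2 F11515 D10183 F12602
theorem F12914 : act 4 n10183 = n10020 := d6_2 F12897 D10183 (iv F12898)
def n10184 : Q := act 0 n7760
theorem D10184 : act 0 n7760 = n10184 := rfl
theorem F12915 : act 1 n10184 = n7768 := d13_2 D7760 D10184 (iv D7768) (iv D4868) (iv D2537) (iv D1102) (iv D445) (iv F209) D1099 D2533 D4864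
def n10185 : Q := act 1 n7760
theorem D10185 : act 1 n7760 = n10185 := rfl
theorem F12916 : act 2 n10185 = n9581 := d4_2 D7760 D10185 F11622 (iv F12507) F12505 (iv F8148) F8147
theorem F12917 : act 0 n10185 = n9564 := d16_6 (iv F6592) (iv F11465) F11468 F8147 D7760 D10185 F11586 (iv D8430) (iv D5540) (iv D2953) (iv F2213) (iv F3455)
theorem F12918 : act 4 n9563 = n10185 := d3_0 F12917 (iv D9564) D9563
def n10186 : Q := act 3 n7760
theorem D10186 : act 3 n7760 = n10186 := rfl
theorem F12919 : act 2 n10186 = n7761 := d7_1 D10186 (iv D7761) D7760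
theorem F12920 : act 0 n10186 = n8723 := d16_1 D10186 F12839 F12838 F9959 (iv F9976) F9975 (iv F7982) (iv F10964) (iv D9251) (iv F8153) (iv F12915) (iv D10184)
def n10187 : Q := act 4 n7760
theorem D10187 : act 4 n7760 = n10187 := rfl
theorem F12921 : act 1 n10187 = n9563 := d6_1 D10187 F12918 (iv D10185)
def n10188 : Q := act 2 n7762
theorem D10188 : act 2 n7762 = n10188 := rfl
def n10189 : Q := act 1 n7763
theorem D10189 : act 1 n7763 = n10189 := rfl
theorem F12922 : act 0 n10189 = n9815 := d13_3 D4865 D7763 D10189 F12051 (iv F11984) F11985 F7740 (iv F3847) D7754 F8147 (iv D4864)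
theorem F12923 : act 2 n10189 = n9784 := d14_1 D10189 F12728 (iv D10101) D10102 F12731 F8416 (iv D5197) D5198 (iv F8151) (iv D7764) D7763
theorem F12924 : act 3 n9778 = n10189 := d7_0 F12923 F12002 (iv F11993)
def n10190 : Q := act 2 n7763
theorem D10190 : act 2 n7763 = n10190 := rfl
theorem F12925 : act 1 n10190 = n8136 := d4_1 D10190 (iv D8136) D8135 (iv F12727) (iv F12728) (iv F12923) (iv D10189)
def n10191 : Q := act 3 n7763
theorem D10191 : act 3 n7763 = n10191 := rfl
theorem F12926 : act 1 n10191 = n9778 := d5_1 D10191 F12924 (iv D10189)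
def n10192 : Q := act 4 n7763
theorem D10192 : act 4 n7763 = n10192 := rfl
theorem F12927 : act 0 n10192 = n7766 := d3_1 D10192 (iv D7766) D7763
def n10193 : Q := act 0 n7765
theorem D10193 : act 0 n7765 = n10193 := rfl
def n10194 : Q := act 2 n7766
theorem D10194 : act 2 n7766 = n10194 := rfl
theorem F12928 : act 1 n10194 = n9426 := d4_1 D10194 F11308 (iv F8511) (iv D7968) F7093 (iv F11899) (iv F11902)
def n10195 : Q := act 0 n7767
theorem D10195 : act 0 n7767 = n10195 := rfl
theorem F12929 : act 1 n10195 = n8716 := d0_2 F10497 D10195 F9947 (iv F10075) (iv F10754) F10755 (iv F10494)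
theorem F12930 : act 3 n10195 = n8715 := d10_4 (iv F11447) F8150 D7767 D10195 F12829 F12828 (iv F11445)
def n10196 : Q := act 4 n7768
theorem D10196 : act 4 n7768 = n10196 := rfl
theorem F12931 : act 0 n10196 = n7770 := d3_1 D10196 (iv D7770) D7768
theorem F12932 : act 2 n10196 = n9249 := d8_1 D10196 (iv D9249) (iv D6517) D6518 D9250 F10963 (iv F8153)
def n10197 : Q := act 0 n7769
theorem D10197 : act 0 n7769 = n10197 := rfl
theorem F12933 : act 1 n10197 = n9564 := d0_2 D7769 D10197 (iv F12917) (iv D10185) D10184 F12915 (iv D7768)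
theorem F12934 : act 3 n10197 = n8807 := d2_2 (iv F8154) D10197 (iv D8807) D8809 (iv F10760) (iv D9158) (iv F6014)
theorem F12935 : act 4 n10197 = n9562 := d3_2 F10768 D10197 F11582
theorem F12936 : act 2 n10197 = n8089 := d10_2 (iv F8154) D10197 (iv D8089) (iv F8696) (iv F10757) (iv D9157) (iv F6014)
def n10198 : Q := act 2 n7769
theorem D10198 : act 2 n7769 = n10198 := rfl
theorem F12937 : act 1 n10198 = n8592 := d4_1 D10198 F9654 F7986 (iv D7669) F3770 D4868 D7769
theorem F12938 : act 3 n10198 = n8591 := d7_2 (iv F8154) D10198 F9653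
theorem F12939 : act 0 n10198 = n10099 := d10_3 (iv F12934) (iv D10197) D10198 F12723 F10778 (iv D8808) D8807
def n10199 : Q := act 0 n7771
theorem D10199 : act 0 n7771 = n10199 := rfl
theorem F12940 : act 2 n10199 = n9774 := d1_2 F8158 D10199 F11984 (iv F12051) (iv F12922) F12923 F12001
theorem F12941 : act 3 n10199 = n8786 := d2_2 (iv F8157) D10199 (iv D8786) (iv D5999) F2363 D4970 (iv F6037)
def n10200 : Q := act 4 n7771
theorem D10200 : act 4 n7771 = n10200 := rfl
theorem F12942 : act 1 n10200 = n7772 := d6_1 D10200 (iv D7772) D7771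
theorem F12943 : act 2 n10200 = n9827 := d8_1 D10200 F12071 (iv F12037) (iv D9809) F7243 D7224 F8158
theorem F12944 : act 3 n10200 = n8979 := d9_1 D10200 F10423 (iv F8039) D10118 F12783 F10409 (iv F8157)
def n10201 : Q := act 0 n7780
theorem D10201 : act 0 n7780 = n10201 := rfl
theorem F12945 : act 1 n10201 = n8147 := d13_2 D7780 D10201 (iv D8147) (iv D5196) (iv D2751) (iv D1218) (iv D498) (iv F240) (iv F607) D2540 D4874
def n10202 : Q := act 1 n7780
theorem D10202 : act 1 n7780 = n10202 := rfl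
def n10203 : Q := act 4 n7780
theorem D10203 : act 4 n7780 = n10203 := rfl
theorem F12946 : act 3 n10203 = n9319 := d9_1 D10203 F11095 (iv F9313) D10128 F12808 F11137 F9320
theorem F12947 : act 0 n9966 = n10203 := d10_7 F12946 (iv D9319) (iv D6606) (iv F6177) (iv F6179) D7458 D9966
theorem F12948 : act 4 n10201 = n9966 := d3_0 F12947 (iv D10203) D10201
def n10204 : Q := act 2 n7782
theorem D10204 : act 2 n7782 = n10204 := rfl
theorem F12949 : act 3 n10204 = n9317 := d7_2 (iv F8191) D10204 (iv F11091)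
theorem F12950 : act 4 n9335 = n10204 := d9_0 F12949 (iv D9317) D9316 F12812 F12811 (iv D9336) D9335
def n10205 : Q := act 1 n7783
theorem D10205 : act 1 n7783 = n10205 := rfl
theorem F12951 : act 0 n10205 = n7889 := d0_1 D10205 F8388 (iv F11916) F11917 (iv F8167) F8165 D7783
theorem F12952 : act 2 n10205 = n10008 := d4_2 F12903 D10205 F12496 (iv F8145) (iv D7749) D7750 D10176
theorem F12953 : act 4 n10205 = n9961 := d6_2 (iv F11128) D10205 F12381
theorem F12954 : act 3 n7924 = n10205 := d16_2 D4983 D7924 (iv D10205) (iv F12903) (iv D10176) (iv F12886) (iv D10169) F8132 (iv F7778) (iv D7555) (iv F3955) (iv D4982)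
def n10206 : Q := act 3 n7783
theorem D10206 : act 3 n7783 = n10206 := rfl
theorem F12955 : act 1 n10206 = n7924 := d5_1 D10206 F12954 (iv D10205)
theorem F12956 : act 4 n10206 = n9338 := d9_2 (iv F11128) D10206 F11136 (iv F11115) D10132 F12819 F11089
def n10207 : Q := act 2 n7784
theorem D10207 : act 2 n7784 = n10207 := rfl
theorem F12957 : act 1 n10207 = n9435 := d4_1 D10207 (iv D9435) (iv F8471) (iv D7948) (iv F8466) F8467 (iv F8192)
theorem F12958 : act 3 n10207 = n9100 := d7_2 (iv F8193) D10207 F10643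
theorem F12959 : act 4 n10207 = n9069 := d8_2 D7784 D10207 F10574 F8196 (iv D7785) (iv D4876) D4875
def n10208 : Q := act 2 n7786
theorem D10208 : act 2 n7786 = n10208 := rfl
theorem F12960 : act 3 n10208 = n9302 := d7_2 F11527 D10208 F11530
theorem F12961 : act 4 n9292 = n10208 := d9_0 F12960 (iv D9302) (iv F8066) (iv D7702) F3797 D6583 D9292
def n10209 : Q := act 4 n7790
theorem D10209 : act 4 n7790 = n10209 := rfl
theorem F12962 : act 0 n10209 = n10209 := d3_1 D10209 (iv D10209) F8206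
theorem F12963 : act 1 n10209 = n9347 := d6_1 D10209 (iv D9347) (iv F8207)
theorem F12964 : act 2 n10209 = n7795 := d8_1 D10209 (iv D7795) (iv D4883) (iv D2549) (iv F1650) D4880 D7790
theorem F12965 : act 3 n10209 = n7793 := d12_2 F10540 D10209 F8216 F5645 (iv D6280) D6279 D9049
def n10210 : Q := act 2 n7791
theorem D10210 : act 2 n7791 = n10210 := rfl
theorem F12966 : act 3 n10210 = n9459 := d7_2 F8210 D10210 (iv D9459)
theorem F12967 : act 0 n10210 = n9468 := d10_3 F6335 (iv F8209) D10210 (iv D9468) (iv D6763) F2940 D3926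
def n10211 : Q := act 4 n7792
theorem D10211 : act 4 n7792 = n10211 := rfl
theorem F12968 : act 0 n10211 = n10211 := d3_1 D10211 (iv D10211) F8212
theorem F12969 : act 1 n10211 = n9353 := d6_1 D10211 F11156 (iv F8213)
theorem F12970 : act 2 n10211 = n7797 := d8_1 D10211 (iv D7797) F3869 D4887 (iv F8221) (iv D7794) (iv F8214)
theorem F12971 : act 3 n10211 = n7956 := d9_1 D10211 (iv F10539) F10540 D10209 F12965 (iv D7793) D7792
def n10212 : Q := act 1 n7800
theorem D10212 : act 1 n7800 = n10212 := rfl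
theorem F12972 : act 0 n10212 = n7892 := d0_1 D10212 (iv F8395) F8397 (iv D7499) D7498 (iv F8235) (iv F8234)
theorem F12973 : act 2 n10212 = n8112 := d4_2 D7800 D10212 (iv D8112) F4155 (iv F3873) F3874 D4891
theorem F12974 : act 4 n10212 = n10093 := d6_2 F12004 D10212 (iv F12708)
def n10213 : Q := act 4 n7804
theorem D10213 : act 4 n7804 = n10213 := rfl
theorem F12975 : act 0 n10213 = n8264 := d3_1 D10213 (iv D8264) (iv F8245)
theorem F12976 : act 1 n10213 = n7817 := d6_1 D10213 (iv D7817) (iv F8246)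
theorem F12977 : act 2 n10213 = n7969 := d8_1 D10213 F8513 D8087 F8759 (iv D7960) D7961 F8503
theorem F12978 : act 3 n10213 = n7969 := d9_1 D10213 F8513 (iv F8243) (iv D7802) (iv F3884) D4896 D7804
def n10214 : Q := act 4 n7805
theorem D10214 : act 4 n7805 = n10214 := rfl
theorem F12979 : act 0 n10214 = n7823 := d3_1 D10214 (iv D7823) (iv F8248)
theorem F12980 : act 1 n10214 = n8380 := d6_1 D10214 (iv D8380) (iv F8247)
def n10215 : Q := act 2 n7806
theorem D10215 : act 2 n7806 = n10215 := rfl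
theorem F12981 : act 0 n10215 = n7818 := d1_1 D10215 (iv D7818) F3889 D4905 (iv F8251) (iv D7809) (iv F8249)
def n10216 : Q := act 3 n7806
theorem D10216 : act 3 n7806 = n10216 := rfl
theorem F12982 : act 1 n10216 = n8385 := d5_1 D10216 (iv F12349) F12348
theorem F12983 : act 0 n10216 = n8990 := d10_1 D10216 (iv F10688) (iv D9120) F5811 (iv F8251) (iv D7809) (iv F8249)
def n10217 : Q := act 2 n7808
theorem D10217 : act 2 n7808 = n10217 := rfl
theorem F12984 : act 0 n10217 = n10064 := d1_1 D10217 (iv D10064) F7909 D7620 D10066 F12647 F8769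
def n10218 : Q := act 3 n7808
theorem D10218 : act 3 n7808 = n10218 := rfl
def n10219 : Q := act 1 n7809
theorem D10219 : act 1 n7809 = n10219 := rfl
def n10220 : Q := act 3 n7809
theorem D10220 : act 3 n7809 = n10220 := rfl
theorem F12985 : act 2 n10220 = n7810 := d7_1 D10220 (iv D7810) D7809
theorem F12986 : act 0 n10220 = n10083 := d10_1 D10220 (iv D10083) (iv D7635) F3891 F3889 D4905 (iv F8251)
def n10221 : Q := act 4 n7809
theorem D10221 : act 4 n7809 = n10221 := rfl
theorem F12987 : act 0 n10221 = n7820 := d3_1 D10221 (iv D7820) (iv F8251)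
theorem F12988 : act 2 n10221 = n7815 := d8_1 D10221 (iv D7815) (iv D4902) (iv D2562) D2560 D4900 D7809
def n10222 : Q := act 4 n7810
theorem D10222 : act 4 n7810 = n10222 := rfl
theorem F12989 : act 2 n10222 = n7817 := d11_2 F12985 D10222 (iv F12510) F12688 (iv D10084) D10083 (iv F12986)
theorem F12990 : act 3 n7970 = n10222 := d7_0 F12989 F8256 D7970
theorem F12991 : act 4 n10218 = n7970 := d9_0 F12990 (iv D10222) (iv D7810) (iv D4900) D4899 D7808 D10218
def n10223 : Q := act 0 n7811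
theorem D10223 : act 0 n7811 = n10223 := rfl
theorem F12992 : act 2 n10223 = n8733 := d1_2 D7811 D10223 F9975 (iv F8414) (iv F12398) (iv D9969) F7600
theorem F12993 : act 1 n10223 = n8134 := d13_2 D7811 D10223 (iv D8134) (iv D5187) (iv F4168) (iv F7611) F7609 (iv D6876) (iv F3573) (iv F7601) F7600
theorem F12994 : act 3 n8789 = n10223 := d7_0 F12992 (iv F9977) D8789
def n10224 : Q := act 1 n7811
theorem D10224 : act 1 n7811 = n10224 := rfl
theorem F12995 : act 0 n10224 = n9192 := d0_1 D10224 F10830 (iv F8640) (iv F8643) D8134 (iv F12993) (iv D10223)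
theorem F12996 : act 3 n10224 = n8148 := d5_2 (iv F8252) D10224 (iv D8148)
theorem F12997 : act 4 n9918 = n10224 := d17_0 (iv D10224) (iv D7811) (iv D4901) (iv F3887) (iv F5894) (iv D6424) F2694 (iv D2322) D2323 D4560 D7413 D9918
def n10225 : Q := act 4 n7811
theorem D10225 : act 4 n7811 = n10225 := rfl
theorem F12998 : act 1 n10225 = n9918 := d6_1 D10225 F12997 (iv D10224)
def n10226 : Q := act 3 n7812
theorem D10226 : act 3 n7812 = n10226 := rfl
theorem F12999 : act 0 n10226 = n7833 := d10_1 D10226 (iv D7833) (iv D4915) (iv D2568) (iv F1673) D4902 D7812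
def n10227 : Q := act 4 n7812
theorem D10227 : act 4 n7812 = n10227 := rfl
theorem F13000 : act 0 n10227 = n7815 := d3_1 D10227 (iv D7815) D7812
theorem F13001 : act 1 n10227 = n9947 := d6_1 D10227 (iv F12810) F12804
def n10228 : Q := act 2 n7813
theorem D10228 : act 2 n7813 = n10228 := rfl
theorem F13002 : act 0 n10228 = n9191 := d1_1 D10228 (iv F11906) F11904 (iv D7649) D7648 (iv F9077) F9078
theorem F13003 : act 4 n9190 = n10228 := d3_0 F13002 (iv D9191) D9190
def n10229 : Q := act 3 n7813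
theorem D10229 : act 3 n7813 = n10229 := rfl
theorem F13004 : act 0 n10229 = n9197 := d2_1 D10229 F10841 (iv F6769) (iv D5355) D5353 D8272 F9078
theorem F13005 : act 1 n10229 = n7814 := d5_1 D10229 (iv D7814) D7813
theorem F13006 : act 4 n9923 = n10229 := d3_0 F13004 F10843 D9923
def n10230 : Q := act 4 n7813
theorem D10230 : act 4 n7813 = n10230 := rfl
theorem F13007 : act 0 n10230 = n9978 := d3_1 D10230 (iv F12424) F9078
theorem F13008 : act 1 n10230 = n7815 := d6_1 D10230 (iv D7815) D7813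
theorem F13009 : act 2 n10230 = n9918 := d11_2 (iv D10228) D10230 (iv D9918) F7544 D9744 F11906 (iv F13002)
theorem F13010 : act 3 n10230 = n9918 := d12_2 (iv D10229) D10230 (iv D9918) (iv F7545) F7400 (iv F10841) (iv F13004)
theorem F13011 : act 3 n10225 = n7815 := d5_2 F13010 (iv F12998) (iv F13008)
def n10231 : Q := act 0 n7814
theorem D10231 : act 0 n7814 = n10231 := rfl
theorem F13012 : act 1 n10231 = n8146 := d0_2 F13005 D10231 (iv D8146) F8649 F8647 (iv F10842) (iv F13004)
theorem F13013 : act 2 n10231 = n8735 := d10_2 D7814 D10231 (iv F12658) (iv D10070) (iv F10922) F10924 (iv D7812)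
theorem F13014 : act 3 n8734 = n10231 := d7_0 F13013 (iv D8735) D8734
def n10232 : Q := act 4 n7814
theorem D10232 : act 4 n7814 = n10232 := rfl
theorem F13015 : act 1 n10232 = n9923 := d6_1 D10232 F13006 F13005
theorem F13016 : act 3 n10232 = n8149 := d9_1 D10232 (iv D8149) (iv F8252) D10225 F13011 (iv D7815) D7814
def n10233 : Q := act 2 n7816
theorem D10233 : act 2 n7816 = n10233 := rfl
theorem F13017 : act 0 n10233 = n7829 := d1_1 D10233 (iv F12657) F12658 (iv F13013) (iv D10231) F8253 D7816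
theorem F13018 : act 3 n10233 = n9502 := d7_2 (iv F8255) D10233 (iv D9502)
def n10234 : Q := act 4 n7818
theorem D10234 : act 4 n7818 = n10234 := rfl
theorem F13019 : act 1 n10234 = n9891 := d6_1 D10234 F12228 F8998
theorem F13020 : act 2 n10234 = n7830 := d8_1 D10234 (iv D7830) (iv F7914) (iv D7622) F3740 D4904 D7818
theorem F13021 : act 3 n10069 = n10234 := d7_0 F13020 F12295 (iv F12655)
def n10235 : Q := act 2 n7819
theorem D10235 : act 2 n7819 = n10235 := rfl
theorem F13022 : act 0 n10235 = n8250 := d1_1 D10235 F9044 (iv F11312) (iv F12798) F12796 F9041 (iv F8258)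
theorem F13023 : act 4 n10235 = n9423 := d8_2 F8259 D10235 F11302 (iv D6710) (iv D3881) D3883 D6711
def n10236 : Q := act 2 n7821
theorem D10236 : act 2 n7821 = n10236 := rfl
theorem F13024 : act 0 n10236 = n8161 := d1_1 D10236 F8874 F7802 D8538 F9573 (iv D8153) (iv F8262)
theorem F13025 : act 3 n10236 = n7978 := d7_2 (iv F8264) D10236 (iv D7978)
theorem F13026 : act 4 n10236 = n7835 := d11_1 D10236 F8279 F8278 (iv F8425) (iv F8851) (iv D8153) (iv F8262)
theorem F13027 : act 1 n10236 = n7838 := d14_2 (iv F8263) D10236 F8284 F3903 (iv F3832) (iv F8117) F8119 F3849 F1636 (iv F1674) (iv F3898)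
def n10237 : Q := act 4 n7822
theorem D10237 : act 4 n7822 = n10237 := rfl
theorem F13028 : act 0 n10237 = n8732 := d3_1 D10237 (iv D8732) (iv F8265)
theorem F13029 : act 1 n10237 = n8987 := d6_1 D10237 (iv D8987) (iv F8266)
theorem F13030 : act 3 n10237 = n8990 := d12_2 D7822 D10237 (iv F12983) (iv D10216) (iv D7806) D7805 F8248
def n10238 : Q := act 3 n7823
theorem D10238 : act 3 n7823 = n10238 := rfl
theorem F13031 : act 1 n10238 = n8988 := d5_1 D10238 (iv D8988) (iv F8268)
def n10239 : Q := act 2 n7824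
theorem D10239 : act 2 n7824 = n10239 := rfl
theorem F13032 : act 3 n10239 = n7833 := d7_2 (iv F8271) D10239 (iv D7833)
theorem F13033 : act 0 n10239 = n8734 := d10_3 F8255 (iv F8269) D10239 F13014 (iv D10231) F8253 D7816
def n10240 : Q := act 0 n7825
theorem D10240 : act 0 n7825 = n10240 := rfl
theorem F13034 : act 3 n10240 = n8147 := d10_4 F1675 (iv F3898) D7825 D10240 (iv D8147) (iv D5196) (iv D2751)
def n10241 : Q := act 3 n7825
theorem D10241 : act 3 n7825 = n10241 := rfl
theorem F13035 : act 0 n10241 = n8789 := d2_1 D10241 F12994 (iv D10223) F8252 D8147 (iv F13034) (iv D10240)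
theorem F13036 : act 2 n10241 = n7826 := d7_1 D10241 (iv D7826) D7825
def n10242 : Q := act 4 n7825
theorem D10242 : act 4 n7825 = n10242 := rfl
theorem F13037 : act 1 n10242 = n9848 := d6_1 D10242 F12123 F8975
def n10243 : Q := act 4 n7826
theorem D10243 : act 4 n7826 = n10243 := rfl
theorem F13038 : act 0 n10243 = n9515 := d3_1 D10243 F11493 (iv F8272)
theorem F13039 : act 1 n10243 = n7979 := d6_1 D10243 (iv D7979) (iv F8273)
theorem F13040 : act 3 n10243 = n7834 := d9_1 D10243 (iv D7834) (iv F8271) (iv D7824) (iv D4908) D4909 D7826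
def n10244 : Q := act 3 n7827
theorem D10244 : act 3 n7827 = n10244 := rfl
theorem F13041 : act 0 n10244 = n9519 := d2_1 D10244 (iv F12397) F12398 (iv F8415) (iv D5197) (iv F3899) D7827
theorem F13042 : act 2 n10244 = n8788 := d7_1 D10244 (iv F10543) F10542
def n10245 : Q := act 2 n7831
theorem D10245 : act 2 n7831 = n10245 := rfl
def n10246 : Q := act 3 n7831
theorem D10246 : act 3 n7831 = n10246 := rfl
theorem F13043 : act 0 n10246 = n9502 := d2_1 D10246 (iv F13018) F13017 (iv D7829) (iv D4911) D4913 D7831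
theorem F13044 : act 2 n8731 = n10246 := d1_0 F13043 (iv D9502) (iv F8269) D10239 F13033 (iv D8734) (iv F9971)
theorem F13045 : act 3 n10245 = n8731 := d7_0 F13044 (iv D10246) D10245
theorem F13046 : act 1 n10245 = n8549 := d16_3 (iv D8735) (iv F9971) (iv F13045) (iv D8549) D8548 F9588 F5713 F8505 F7969 (iv F7919) (iv F12656) F12658
def n10247 : Q := act 2 n7832
theorem D10247 : act 2 n7832 = n10247 := rfl
theorem F13047 : act 0 n10247 = n8157 := d1_1 D10247 F8861 F7805 D8552 F9594 F8853 (iv F8275)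
theorem F13048 : act 3 n10247 = n7972 := d7_2 (iv F8276) D10247 (iv D7972)
theorem F13049 : act 4 n10247 = n7855 := d11_1 D10247 F8312 F8311 (iv F8341) (iv F8854) F8853 (iv F8275)
theorem F13050 : act 1 n10247 = n7858 := d14_2 D7832 D10247 F8314 F3910 (iv F3829) (iv F8114) (iv D7725) F3826 F1623 (iv F1676) D4915
def n10248 : Q := act 4 n7832
theorem D10248 : act 4 n7832 = n10248 := rfl
theorem F13051 : act 0 n10248 = n8155 := d3_1 D10248 (iv D8155) (iv F8275)
theorem F13052 : act 1 n10248 = n7834 := d6_1 D10248 (iv D7834) D7832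
theorem F13053 : act 2 n10248 = n10248 := d8_1 D10248 (iv D10248) D10247 F13049 F8312 (iv F13049) (iv D10247)
theorem F13054 : act 3 n10248 = n7979 := d9_1 D10248 (iv D7979) (iv F8264) (iv D7821) (iv F3894) D5033 (iv F8276)
def n10249 : Q := act 4 n7833
theorem D10249 : act 4 n7833 = n10249 := rfl
theorem F13055 : act 1 n10249 = n9849 := d6_1 D10249 F12125 F10631
def n10250 : Q := act 2 n7834
theorem D10250 : act 2 n7834 = n10250 := rfl
theorem F13056 : act 4 n10250 = n8990 := d11_1 D10250 (iv F10688) (iv D9120) (iv D6358) (iv F5717) F5715 (iv F8277)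
theorem F13057 : act 1 n10250 = n8991 := d14_2 F13052 D10250 F10458 (iv F7511) F7512 F3511 (iv F5501) (iv F9271) (iv D8372) (iv F8855) (iv F13051)
def n10251 : Q := act 0 n7836
theorem D10251 : act 0 n7836 = n10251 := rfl
theorem F13058 : act 1 n10251 = n8387 := d0_2 (iv F8281) D10251 (iv D8387) (iv F7711) (iv D7520) F3639 D7257
theorem F13059 : act 3 n10251 = n7962 := d10_4 (iv F1679) D4917 D7836 D10251 (iv D7962) (iv D5025) (iv D2642)
def n10252 : Q := act 3 n7836
theorem D10252 : act 3 n7836 = n10252 := rfl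
theorem F13060 : act 0 n10252 = n9781 := d2_1 D10252 (iv F11996) F8806 (iv D7964) D7962 (iv F13059) (iv D10251)
theorem F13061 : act 1 n10252 = n9832 := d5_1 D10252 (iv D9832) (iv F8281)
theorem F13062 : act 2 n10252 = n7837 := d7_1 D10252 (iv D7837) D7836
def n10253 : Q := act 4 n7837
theorem D10253 : act 4 n7837 = n10253 := rfl
theorem F13063 : act 0 n10253 = n9504 := d3_1 D10253 (iv D9504) (iv F8282)
theorem F13064 : act 1 n10253 = n7972 := d6_1 D10253 F8517 (iv F8283)
theorem F13065 : act 3 n10253 = n7858 := d12_2 D7837 D10253 F8314 F3911 (iv D2644) (iv F1679) D4917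
def n10254 : Q := act 2 n7838
theorem D10254 : act 2 n7838 = n10254 := rfl
theorem F13066 : act 1 n10254 = n9080 := d4_1 D10254 F10596 F8975 (iv D7825) (iv F8263) D10236 F13027
theorem F13067 : act 4 n10254 = n9078 := d11_1 D10254 F10593 (iv D9061) (iv D6291) D6293 (iv F5665) (iv F8284)
def n10255 : Q := act 3 n7838
theorem D10255 : act 3 n7838 = n10255 := rfl
theorem F13068 : act 0 n10255 = n9514 := d2_1 D10255 (iv F12506) F12504 (iv D7850) F3908 F3904 (iv F8284)
theorem F13069 : act 1 n10255 = n7978 := d5_1 D10255 (iv F13025) F13027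
theorem F13070 : act 4 n10255 = n7857 := d9_2 D7838 D10255 (iv D7857) D7858 (iv F13065) (iv D10253) (iv D7837)
def n10256 : Q := act 3 n7844
theorem D10256 : act 3 n7844 = n10256 := rfl
theorem F13071 : act 1 n10256 = n8390 := d5_1 D10256 (iv F12352) F12351
theorem F13072 : act 0 n10256 = n7856 := d10_1 D10256 (iv D7856) (iv D4928) (iv D2575) D2573 D4922 D7844
def n10257 : Q := act 4 n7844
theorem D10257 : act 4 n7844 = n10257 := rfl
theorem F13073 : act 0 n10257 = n7847 := d3_1 D10257 (iv D7847) D7844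
theorem F13074 : act 2 n10257 = n10074 := d11_2 F11817 D10257 (iv D10074) F10147 (iv D7852) D7851 (iv F11816)
def n10258 : Q := act 4 n7845
theorem D10258 : act 4 n7845 = n10258 := rfl
theorem F13075 : act 0 n10258 = n9550 := d3_1 D10258 F11561 F9705
theorem F13076 : act 1 n10258 = n7847 := d6_1 D10258 (iv D7847) D7845
theorem F13077 : act 2 n10258 = n9183 := d8_1 D10258 (iv D9183) F5895 D7807 (iv F10822) (iv F11884) F11882
theorem F13078 : act 3 n10258 = n9188 := d12_2 F11883 D10258 (iv D9188) (iv D6430) (iv F3177) D7113 D9735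
def n10259 : Q := act 4 n7846
theorem D10259 : act 4 n7846 = n10259 := rfl
theorem F13079 : act 1 n10259 = n9187 := d6_1 D10259 (iv F11884) F11881
def n10260 : Q := act 2 n7847
theorem D10260 : act 2 n7847 = n10260 := rfl
theorem F13080 : act 0 n10260 = n7854 := d1_1 D10260 (iv D7854) (iv F8307) (iv F10147) D10074 (iv F13074) F13073
theorem F13081 : act 4 n9429 = n10260 := d3_0 F13080 F8309 D9429
def n10261 : Q := act 3 n7847
theorem D10261 : act 3 n7847 = n10261 := rfl
theorem F13082 : act 1 n10261 = n9188 := d5_1 D10261 (iv F13078) F13076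
theorem F13083 : act 4 n7964 = n10261 := d6_0 F13082 (iv F12164) F12161
theorem F13084 : act 3 n10259 = n7965 := d9_5 F13083 (iv D10261) (iv D7847) D7846 D10259 (iv D7965) D7964
def n10262 : Q := act 2 n7848
theorem D10262 : act 2 n7848 = n10262 := rfl
theorem F13085 : act 0 n10262 = n8129 := d1_1 D10262 (iv F12707) (iv D10093) (iv D7654) D7653 (iv F12401) F12399
theorem F13086 : act 1 n10262 = n10228 := d4_1 D10262 (iv D10228) (iv D7813) (iv D4902) (iv F3886) D7803 (iv F8304)
theorem F13087 : act 3 n10262 = n7966 := d7_2 (iv F8305) D10262 (iv D7966)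
def n10263 : Q := act 0 n7849
theorem D10263 : act 0 n7849 = n10263 := rfl
def n10264 : Q := act 1 n7849
theorem D10264 : act 1 n7849 = n10264 := rfl
theorem F13088 : act 2 n10264 = n10224 := d4_2 D7849 D10264 (iv D10224) (iv D7811) (iv F8242) (iv F8302) F8301
def n10265 : Q := act 3 n7849
theorem D10265 : act 3 n7849 = n10265 := rfl
theorem F13089 : act 2 n10265 = n7850 := d7_1 D10265 (iv D7850) D7849
theorem F13090 : act 0 n8135 = n10265 := d1_7 F13089 (iv F12504) F12507 (iv D7664) D7665 D10101 F12727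
def n10266 : Q := act 4 n7849
theorem D10266 : act 4 n7849 = n10266 := rfl
theorem F13091 : act 2 n10266 = n9429 := d8_1 D10266 F13081 (iv D10260) (iv D7847) (iv D4922) D4924 D7849
def n10267 : Q := act 2 n7853
theorem D10267 : act 2 n7853 = n10267 := rfl
def n10268 : Q := act 3 n7853
theorem D10268 : act 3 n7853 = n10268 := rfl
theorem F13092 : act 0 n10268 = n9513 := d2_1 D10268 F11491 (iv D7891) F7627 (iv D4925) D4926 D7853
theorem F13093 : act 1 n10268 = n8578 := d5_1 D10268 (iv D8578) (iv F8308)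
def n10269 : Q := act 3 n7855
theorem D10269 : act 3 n7855 = n10269 := rfl
theorem F13094 : act 0 n10269 = n8159 := d2_1 D10269 F8869 (iv D5775) (iv F4202) (iv F8876) F8879 (iv F8311)
theorem F13095 : act 1 n10269 = n7857 := d5_1 D10269 (iv D7857) D7855
theorem F13096 : act 2 n10269 = n10269 := d7_1 D10269 (iv D10269) F8312
theorem F13097 : act 4 n10269 = n7978 := d9_2 F13049 D10269 (iv F13025) F13026 (iv F8280) (iv F8517) (iv F13048)
def n10270 : Q := act 3 n7856
theorem D10270 : act 3 n7856 = n10270 := rfl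
theorem F13098 : act 2 n10270 = n7857 := d7_1 D10270 (iv D7857) D7856
def n10271 : Q := act 2 n7858
theorem D10271 : act 2 n7858 = n10271 := rfl
theorem F13099 : act 1 n10271 = n9090 := d4_1 D10271 (iv F10630) F10631 (iv D7833) D7832 D10247 F13050
theorem F13100 : act 4 n10271 = n9088 := d11_1 D10271 (iv F10650) (iv D9106) (iv D6331) D6332 (iv F5714) (iv F8314)
def n10272 : Q := act 0 n7860
theorem D10272 : act 0 n7860 = n10272 := rfl
theorem F13101 : act 2 n10272 = n9690 := d1_2 D7860 D10272 F11820 (iv F8348) (iv D7872) (iv D4939) (iv F3914)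
def n10273 : Q := act 1 n7860
theorem D10273 : act 1 n7860 = n10273 := rfl
theorem F13102 : act 2 n10273 = n8322 := d4_2 D7860 D10273 (iv D8322) (iv D5443) (iv F4329) (iv F8317) F8316
theorem F13103 : act 3 n10273 = n8452 := d5_2 (iv F8319) D10273 F9376
def n10274 : Q := act 4 n7860
theorem D10274 : act 4 n7860 = n10274 := rfl
theorem F13104 : act 2 n10274 = n9695 := d8_1 D10274 (iv D9695) (iv D7061) (iv D4182) (iv F3812) D4932 D7860
theorem F13105 : act 3 n10274 = n9687 := d12_2 (iv F8319) D10274 F11814 F11845 (iv D9711) F6939 (iv F7414)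
theorem E911 : n9702 = n9695 := (c7_3 F13105 F11815 D9702 (iv F13104))
theorem F13106 : act 3 n9695 = n7065 := (sb E911 (iv D9702))
theorem E912 : n9877 = n9701 := ((c9_5 D9695 F13106 (iv D7065) D7064 D9701 (iv D9877) (iv D7324) (iv F6912))).symm
theorem F13107 : act 3 n9701 = n7324 := (sb E912 (iv D9877))
def n10275 : Q := act 4 n7865
theorem D10275 : act 4 n7865 = n10275 := rfl
theorem F13108 : act 0 n10275 = n7866 := d3_1 D10275 (iv D7866) D7865
theorem F13109 : act 1 n10275 = n10275 := d6_1 D10275 (iv D10275) F8331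
theorem F13110 : act 2 n9729 = n10275 := d16_4 (iv F7572) (iv F11867) (iv F11869) (iv F11872) F13109 F13108 F8337 (iv F8462) (iv F12036) F12037 F7597 (iv D7454)
theorem F13111 : act 3 n10275 = n9728 := d7_2 D9729 F13110 (iv D9728)
def n10276 : Q := act 2 n7866
theorem D10276 : act 2 n7866 = n10276 := rfl
theorem F13112 : act 3 n10276 = n7948 := d7_2 (iv F8337) D10276 (iv D7948)
theorem F13113 : act 4 n10276 = n9046 := d8_2 D7866 D10276 (iv D9046) F8347 (iv D7871) (iv D4938) (iv F3917)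
theorem F13114 : act 0 n10276 = n9716 := d11_3 (iv F3917) D7866 D10276 (iv D9716) (iv D7089) F6614 (iv D4937)
theorem F13115 : act 1 n10276 = n9395 := d14_2 (iv F8332) D10276 (iv D9395) (iv F11231) F11232 F9472 F4634 F3431 (iv F3343) F3342 (iv F7340)
def n10277 : Q := act 3 n7867
theorem D10277 : act 3 n7867 = n10277 := rfl
theorem F13116 : act 0 n10277 = n9719 := d2_1 D10277 (iv D9719) D9717 F11852 (iv D7322) (iv F6912) (iv F8333)
theorem F13117 : act 1 n10277 = n9389 := d5_1 D10277 F11220 (iv F8334)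
theorem F13118 : act 2 n10277 = n7868 := d7_1 D10277 (iv D7868) D7867
theorem F13119 : act 4 n9012 = n10277 := d8_0 F13118 (iv F8336) F3987 (iv F3921) (iv F8356) (iv F8357) D9012
def n10278 : Q := act 4 n7867
theorem D10278 : act 4 n7867 = n10278 := rfl
theorem F13120 : act 0 n10278 = n9695 := d3_1 D10278 (iv D9695) (iv F8333)
theorem F13121 : act 1 n10278 = n9430 := d6_1 D10278 (iv D9430) (iv F8334)
theorem F13122 : act 2 n10278 = n7875 := d8_1 D10278 (iv D7875) (iv D4939) (iv D2582) D2580 D4936 D7867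
theorem F13123 : act 3 n9046 = n10278 := d7_0 F13122 (iv F8359) D9046
def n10279 : Q := act 0 n7868
theorem D10279 : act 0 n7868 = n10279 := rfl
theorem F13124 : act 1 n10279 = n10279 := d0_2 (iv F8335) D10279 (iv D10279) F8335 F7305 F3341 (iv F7305)
theorem F13125 : act 4 n10279 = n7947 := d3_2 F8336 D10279 (iv D7947)
theorem F13126 : act 3 n10279 = n9706 := d12_4 (iv D4935) D4936 D7868 D10279 (iv D9706) F9673 (iv D7865)
theorem F13127 : act 2 n10279 = n9722 := d16_10 (iv F12069) (iv D9825) (iv F8609) (iv F8608) (iv F12040) F12039 F8322 D7868 D10279 F13124 F11857 (iv F9480)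
def n10280 : Q := act 2 n7870
theorem D10280 : act 2 n7870 = n10280 := rfl
theorem F13128 : act 3 n10280 = n9712 := d7_2 F8344 D10280 F11846
def n10281 : Q := act 4 n7872
theorem D10281 : act 4 n7872 = n10281 := rfl
theorem F13129 : act 0 n10281 = n7875 := d3_1 D10281 (iv D7875) D7872
theorem F13130 : act 1 n10281 = n8794 := d6_1 D10281 (iv D8794) (iv F8350)
theorem F13131 : act 2 n10281 = n9726 := d8_1 D10281 F11866 F8339 (iv D7862) F6610 D7070 (iv F8348)
theorem F13132 : act 3 n8796 = n10281 := d7_0 F13131 (iv D9726) (iv F10067)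
def n10282 : Q := act 2 n7876
theorem D10282 : act 2 n7876 = n10282 := rfl
theorem F13133 : act 3 n10282 = n9710 := d7_2 (iv F8361) D10282 F11842
def n10283 : Q := act 4 n7879
theorem D10283 : act 4 n7879 = n10283 := rfl
theorem F13134 : act 0 n10283 = n7904 := d3_1 D10283 (iv D7904) (iv F8370)
theorem F13135 : act 1 n10283 = n8856 := d6_1 D10283 (iv D8856) (iv F8369)
theorem F13136 : act 3 n10283 = n7913 := d9_1 D10283 (iv D7913) (iv D4973) D4974 F8373 (iv D7880) D7879
def n10284 : Q := act 4 n7882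
theorem D10284 : act 4 n7882 = n10284 := rfl
theorem F13137 : act 0 n10284 = n7883 := d3_1 D10284 (iv D7883) D7882
theorem F13138 : act 1 n10284 = n9945 := d6_1 D10284 (iv D9945) (iv F8376)
theorem F13139 : act 2 n10284 = n9938 := d8_1 D10284 (iv D9938) D9936 (iv F12814) F12815 (iv D9996) (iv F8377)
theorem F13140 : act 3 n10284 = n7916 := d12_2 F11078 D10284 F8434 (iv F8412) (iv D7904) D7903 (iv F11077)
def n10285 : Q := act 2 n7883
theorem D10285 : act 2 n7883 = n10285 := rfl
theorem F13141 : act 1 n10285 = n10078 := d4_1 D10285 (iv D10078) (iv D7630) F3747 (iv F3757) D7644 (iv F8378)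
theorem F13142 : act 3 n10285 = n7936 := d7_2 (iv F8381) D10285 F8451
def n10286 : Q := act 1 n7884
theorem D10286 : act 1 n7884 = n10286 := rfl
theorem F13143 : act 2 n10286 = n10082 := d4_2 D7884 D10286 F12684 F7925 (iv F5899) (iv F8375) F8374
theorem F13144 : act 3 n10081 = n10286 := d7_0 F13143 (iv D10082) D10081
def n10287 : Q := act 3 n7884
theorem D10287 : act 3 n7884 = n10287 := rfl
theorem F13145 : act 1 n10287 = n10081 := d5_1 D10287 F13144 (iv D10286)
theorem F13146 : act 2 n10287 = n7885 := d7_1 D10287 (iv D7885) D7884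
def n10288 : Q := act 0 n7885
theorem D10288 : act 0 n7885 = n10288 := rfl
theorem F13147 : act 1 n10288 = n10012 := d0_2 (iv F11888) D10288 F12502 F8482 (iv D7122) (iv F7028) D9736
theorem F13148 : act 3 n10288 = n7919 := d2_2 D7885 D10288 (iv D7919) (iv D4978) (iv F3949) F8373 F8371
theorem F13149 : act 4 n10288 = n7915 := d3_2 (iv F8380) D10288 F8431
theorem F13150 : act 2 n10288 = n9962 := d10_2 D7885 D10288 (iv F12692) F12691 (iv F8997) F8996 F8371
def n10289 : Q := act 4 n7886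
theorem D10289 : act 4 n7886 = n10289 := rfl
theorem F13151 : act 0 n10289 = n9936 := d3_1 D10289 (iv F12814) F12813
theorem F13152 : act 1 n10289 = n9743 := d6_1 D10289 F11903 (iv F8382)
theorem F13153 : act 3 n7890 = n10289 := d10_0 F13151 (iv D9936) D9935 F12333 (iv D9891) (iv F10313) F10314
def n10290 : Q := act 0 n7888
theorem D10290 : act 0 n7888 = n10290 := rfl
theorem F13154 : act 3 n10290 = n9665 := d2_2 F8387 D10290 F11784 (iv F12175) F12172 (iv F11919) F11916
theorem F13155 : act 4 n10290 = n9660 := d17_0 (iv D9660) (iv D7029) (iv D4150) (iv F3119) (iv F6861) F6862 (iv D4944) (iv D2586) D2588 D4948 D7888 D10290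
theorem F13156 : act 1 n9661 = n10290 := d6_3 F13155 (iv D9660) D9661
theorem E913 : n9668 = n9661 := (c5_1 D9668 F13156 F13154 F11785)
theorem F13157 : act 3 n9661 = n7033 := (sb E913 (iv D9668))
theorem E914 : n9887 = n9667 := ((c9_5 D9661 F13157 (iv D7033) D7032 D9667 (iv D9887) (iv D7359) (iv F6873))).symm
theorem F13158 : act 3 n9667 = n7359 := (sb E914 (iv D9887))
def n10291 : Q := act 4 n7888
theorem D10291 : act 4 n7888 = n10291 := rfl
theorem F13159 : act 0 n10291 = n9660 := d3_1 D10291 (iv F13155) (iv D10290)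
theorem F13160 : act 1 n10291 = n7890 := d6_1 D10291 (iv D7890) D7888
theorem F13161 : act 2 n10291 = n9743 := d8_1 D10291 F11903 (iv D7649) D7651 (iv F7966) F7951 (iv F8386)
theorem F13162 : act 3 n10291 = n9743 := d12_2 F8387 D10291 (iv D9743) F7053 D7313 (iv F11919) F11916
def n10292 : Q := act 4 n7889
theorem D10292 : act 4 n7889 = n10292 := rfl
theorem F13163 : act 0 n10292 = n9961 := d3_1 D10292 (iv F12953) F12951
theorem F13164 : act 1 n10292 = n9747 := d6_1 D10292 F11915 (iv F8388)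
theorem F13165 : act 3 n10292 = n7941 := d9_1 D10292 (iv D7941) (iv F8383) D10289 (iv F13153) (iv D7890) D7889
def n10293 : Q := act 4 n7891
theorem D10293 : act 4 n7891 = n10293 := rfl
theorem F13166 : act 0 n10293 = n7893 := d3_1 D10293 (iv D7893) D7891
theorem F13167 : act 1 n10293 = n9657 := d6_1 D10293 (iv D9657) (iv F8390)
def n10294 : Q := act 0 n7902
theorem D10294 : act 0 n7902 = n10294 := rfl
theorem F13168 : act 2 n10294 = n7904 := d10_2 (iv F8409) D10294 (iv F13134) F13136 F8426 (iv F8451) (iv D7936)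
theorem F13169 : act 3 n10294 = n7917 := d12_4 D6717 (iv F7556) (iv F8409) D10294 (iv F11717) (iv D9433) (iv D6716)
def n10295 : Q := act 0 n7905
theorem D10295 : act 0 n7905 = n10295 := rfl
theorem F13170 : act 1 n10295 = n10027 := d0_2 F12622 D10295 (iv D10027) (iv F11909) F11908 (iv F11944) (iv F12624)
theorem F13171 : act 3 n10295 = n7939 := d2_2 (iv F8413) D10295 (iv D7939) (iv F8383) (iv F12813) (iv F12816) (iv D7922)
def n10296 : Q := act 4 n7905
theorem D10296 : act 4 n7905 = n10296 := rfl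
theorem F13172 : act 1 n10296 = n9757 := d6_1 D10296 F12625 F12622
theorem F13173 : act 3 n10296 = n7925 := d9_1 D10296 (iv D7925) (iv D4983) D4984 (iv F11721) (iv D7923) (iv F8413)
def n10297 : Q := act 4 n7914
theorem D10297 : act 4 n7914 = n10297 := rfl
theorem F13174 : act 0 n10297 = n7927 := d3_1 D10297 (iv D7927) (iv F8428)
theorem F13175 : act 1 n10297 = n9998 := d6_1 D10297 F12469 (iv F8429)
theorem F13176 : act 3 n10297 = n9996 := d9_1 D10297 (iv D9996) D9995 (iv F12463) (iv F12497) (iv D10008) F8430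
theorem F13177 : act 2 n10297 = n7922 := d11_2 D7914 D10297 (iv D7922) (iv D4981) (iv D2612) (iv F1716) D4975
def n10298 : Q := act 0 n7917
theorem D10298 : act 0 n7917 = n10298 := rfl
theorem F13178 : act 2 n10298 = n7920 := d1_2 D7917 D10298 F8436 (iv F5006) D8221 F8986 F8434
def n10299 : Q := act 0 n7918
theorem D10299 : act 0 n7918 = n10299 := rfl
theorem F13179 : act 2 n10299 = n7928 := d1_2 (iv F8435) D10299 (iv D7928) (iv F4286) D8226 F9000 (iv D7919)
def n10300 : Q := act 4 n7918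
theorem D10300 : act 4 n7918 = n10300 := rfl
theorem F13180 : act 2 n10300 = n7925 := d8_1 D10300 (iv D7925) F3956 (iv F3937) (iv F8410) F8411 (iv F8435)
def n10301 : Q := act 4 n7922
theorem D10301 : act 4 n7922 = n10301 := rfl
theorem F13181 : act 0 n10301 = n7923 := d3_1 D10301 (iv D7923) D7922
theorem F13182 : act 1 n10301 = n9313 := d6_1 D10301 (iv F12819) F12818
theorem F13183 : act 2 n10301 = n9932 := d8_1 D10301 (iv F12325) F8986 (iv D7916) D7914 D10297 F13177
theorem F13184 : act 3 n10301 = n9961 := d12_2 (iv F12816) D10301 (iv F13163) F13165 (iv D7941) (iv F8383) (iv F12813)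
def n10302 : Q := act 4 n7924
theorem D10302 : act 4 n7924 = n10302 := rfl
theorem F13185 : act 0 n10302 = n7925 := d3_1 D10302 (iv D7925) D7924
theorem F13186 : act 1 n10302 = n9338 := d6_1 D10302 (iv F12956) F12955
theorem F13187 : act 2 n10302 = n9937 := d8_1 D10302 (iv F12337) F9000 F11079 (iv F12461) (iv F12463) F9130
theorem F13188 : act 3 n10302 = n9936 := d9_1 D10302 (iv F12814) (iv F12816) D10301 F13184 (iv F12953) (iv F12954)
def n10303 : Q := act 4 n7929
theorem D10303 : act 4 n7929 = n10303 := rfl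
theorem F13189 : act 0 n10303 = n7931 := d3_1 D10303 (iv D7931) D7929
theorem F13190 : act 1 n10303 = n9672 := d6_1 D10303 F11794 (iv F8440)
def n10304 : Q := act 1 n7936
theorem D10304 : act 1 n7936 = n10304 := rfl
theorem F13191 : act 2 n10304 = n10079 := d4_2 (iv F8451) D10304 F12678 F7924 F5903 (iv F8457) F8456
theorem F13192 : act 3 n10304 = n10078 := d5_2 F13142 D10304 (iv F13141)
def n10305 : Q := act 0 n7940
theorem D10305 : act 0 n7940 = n10305 := rfl
theorem F13193 : act 3 n10305 = n9886 := d2_2 (iv F8460) D10305 F12213 F9897 F9554 F11907 F11904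
theorem F13194 : act 4 n10305 = n9664 := d17_0 F11783 F6874 F3122 (iv F3471) (iv F7461) F7460 (iv D5001) (iv D2623) D2625 D5004 D7940 D10305
theorem F13195 : act 1 n9667 = n10305 := d6_3 F13194 F11783 D9667
def n10306 : Q := act 4 n7940
theorem D10306 : act 4 n7940 = n10306 := rfl
theorem F13196 : act 0 n10306 = n9664 := d3_1 D10306 (iv F13194) (iv D10305)
theorem F13197 : act 1 n10306 = n7941 := d6_1 D10306 (iv D7941) D7940
theorem F13198 : act 2 n10306 = n9747 := d8_1 D10306 F11915 (iv D7672) D7673 F7994 F7961 (iv F8459)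
theorem F13199 : act 3 n10306 = n9747 := d9_1 D10306 F11915 F8387 D10291 F13162 F11903 (iv F8460)
def n10307 : Q := act 0 n7944
theorem D10307 : act 0 n7944 = n10307 := rfl
theorem F13200 : act 2 n10307 = n9704 := d1_2 D7944 D10307 (iv D9704) (iv F8472) (iv D7949) (iv D5014) (iv F3981)
def n10308 : Q := act 1 n7944
theorem D10308 : act 1 n7944 = n10308 := rfl
theorem F13201 : act 2 n10308 = n8329 := d4_2 D7944 D10308 F9195 F4474 (iv F4333) F8455 F8453
theorem F13202 : act 3 n10308 = n8328 := d5_2 (iv F8461) D10308 F9193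
def n10309 : Q := act 4 n7944
theorem D10309 : act 4 n7944 = n10309 := rfl
theorem F13203 : act 2 n10309 = n9701 := d8_1 D10309 (iv D9701) F6913 F3141 (iv F3805) D5008 D7944
theorem F13204 : act 3 n10309 = n9871 := d9_1 D10309 (iv D9871) (iv F8319) D10274 F13105 (iv D9687) (iv F8461)
def n10310 : Q := act 4 n7948
theorem D10310 : act 4 n7948 = n10310 := rfl
theorem F13205 : act 0 n10310 = n9701 := d3_1 D10310 (iv D9701) (iv F8470)
theorem F13206 : act 1 n10310 = n9436 := d6_1 D10310 (iv D9436) (iv F8471)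
theorem F13207 : act 2 n10310 = n7951 := d8_1 D10310 (iv D7951) (iv D5014) (iv D2630) D2628 D5012 D7948
theorem F13208 : act 3 n10310 = n9012 := d9_1 D10310 F13119 (iv D10277) D10278 (iv F13123) (iv F13113) F13112
def n10311 : Q := act 4 n7949
theorem D10311 : act 4 n7949 = n10311 := rfl
theorem F13209 : act 0 n10311 = n7951 := d3_1 D10311 (iv D7951) D7949
theorem F13210 : act 1 n10311 = n8797 := d6_1 D10311 (iv D8797) (iv F8474)
theorem F13211 : act 2 n10311 = n9725 := d8_1 D10311 (iv D9725) F8464 (iv D7945) F7245 (iv F6933) (iv F8472)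
theorem F13212 : act 3 n10311 = n8813 := d9_1 D10311 (iv D8813) F8349 D10281 (iv F13132) (iv D8796) F8473
def n10312 : Q := act 4 n7952
theorem D10312 : act 4 n7952 = n10312 := rfl
theorem F13213 : act 3 n10312 = n9307 := d9_1 D10312 (iv D9307) (iv F8067) D10122 F12794 (iv D9305) (iv F8481)
def n10313 : Q := act 2 n7953
theorem D10313 : act 2 n7953 = n10313 := rfl
theorem F13214 : act 1 n10313 = n9428 := d4_1 D10313 (iv D9428) (iv F8175) (iv D7776) (iv F8170) (iv F8172) (iv F8482)
theorem F13215 : act 3 n10313 = n9044 := d7_2 (iv F8483) D10313 F10533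
theorem F13216 : act 4 n10313 = n9008 := d8_2 D7953 D10313 F10486 F8200 (iv D7787) F3854 D5016
def n10314 : Q := act 4 n7954
theorem D10314 : act 4 n7954 = n10314 := rfl
theorem F13217 : act 0 n10314 = n7958 := d3_1 D10314 (iv D7958) (iv F8484)
theorem F13218 : act 1 n10314 = n9967 := d6_1 D10314 F12393 (iv F8486)
theorem F13219 : act 2 n10314 = n7957 := d8_1 D10314 F8494 (iv F10534) (iv F12389) F12390 (iv D7955) D7954
theorem F13220 : act 3 n10314 = n9103 := d9_1 D10314 F10649 F8239 (iv D7788) F3856 D6276 (iv F8485)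
def n10315 : Q := act 4 n7962
theorem D10315 : act 4 n7962 = n10315 := rfl
theorem F13221 : act 0 n10315 = n7965 := d3_1 D10315 (iv D7965) D7962
theorem F13222 : act 2 n10315 = n10089 := d11_2 F12187 D10315 (iv D10089) (iv F8510) (iv D7967) (iv F8445) (iv F12186)
def n10316 : Q := act 4 n7963
theorem D10316 : act 4 n7963 = n10316 := rfl
theorem F13223 : act 0 n10316 = n9552 := d3_1 D10316 F11565 F9840
theorem F13224 : act 1 n10316 = n7965 := d6_1 D10316 (iv D7965) D7963
theorem F13225 : act 3 n10316 = n9187 := d9_1 D10316 (iv F11884) F11883 D10258 F13078 (iv F12164) F12163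
theorem F13226 : act 2 n10316 = n9184 := d11_2 F12162 D10316 (iv D9184) (iv F7029) F7030 (iv F7388) D9865
def n10317 : Q := act 2 n7965
theorem D10317 : act 2 n7965 = n10317 := rfl
theorem F13227 : act 0 n10317 = n7968 := d1_1 D10317 (iv D7968) (iv F8507) F8510 D10089 (iv F13222) F13221
def n10318 : Q := act 0 n7966
theorem D10318 : act 0 n7966 = n10318 := rfl
def n10319 : Q := act 1 n7966
theorem D10319 : act 1 n7966 = n10319 := rfl
theorem F13228 : act 2 n10319 = n10229 := d4_2 D7966 D10319 F13005 F8253 (iv F8246) (iv F8503) F8502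
theorem F13229 : act 3 n10319 = n10228 := d5_2 F13087 D10319 (iv F13086)
def n10320 : Q := act 4 n7966
theorem D10320 : act 4 n7966 = n10320 := rfl
def n10321 : Q := act 0 n7970
theorem D10321 : act 0 n7970 = n10321 := rfl
def n10322 : Q := act 1 n7970
theorem D10322 : act 1 n7970 = n10322 := rfl
def n10323 : Q := act 1 n7980
theorem D10323 : act 1 n7980 = n10323 := rfl
def n10324 : Q := act 4 n7980
theorem D10324 : act 4 n7980 = n10324 := rfl
theorem F13230 : act 0 n10324 = n8021 := d3_1 D10324 (iv D8021) (iv F8535)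
theorem F13231 : act 2 n10324 = n8000 := d8_1 D10324 (iv D8000) (iv F5219) (iv D5988) F2354 D5039 D7980
theorem F13232 : act 3 n10324 = n8486 := d12_2 F12197 D10324 (iv F11859) F11862 (iv D8039) F8659 D9878
def n10325 : Q := act 4 n7982
theorem D10325 : act 4 n7982 = n10325 := rfl
theorem F13233 : act 0 n10325 = n7985 := d3_1 D10325 (iv D7985) D7982
theorem F13234 : act 2 n10325 = n7997 := d8_1 D10325 (iv D7997) (iv D5049) (iv D2664) D2663 D5048 (iv F8539)
theorem F13235 : act 3 n9516 = n10325 := d7_0 F13234 (iv F8569) (iv F11495)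
def n10326 : Q := act 0 n7983
theorem D10326 : act 0 n7983 = n10326 := rfl
theorem F13236 : act 2 n10326 = n10326 := d1_2 (iv F8540) D10326 (iv D10326) F8540 D9793 F12012 (iv D9793)
def n10327 : Q := act 3 n7983
theorem D10327 : act 3 n7983 = n10327 := rfl
theorem F13237 : act 1 n10327 = n7984 := d5_1 D10327 (iv D7984) D7983
theorem F13238 : act 2 n10327 = n9763 := d7_1 D10327 F11956 (iv F8540)
def n10328 : Q := act 4 n7984
theorem D10328 : act 4 n7984 = n10328 := rfl
theorem F13239 : act 0 n10328 = n8044 := d3_1 D10328 (iv D8044) (iv F8542)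
theorem F13240 : act 2 n10328 = n8006 := d8_1 D10328 (iv D8006) F4028 D5055 (iv F8548) (iv D7986) (iv F8541)
theorem F13241 : act 3 n10328 = n7989 := d9_1 D10328 (iv D7989) (iv D5043) D5044 (iv F8544) (iv D7985) D7984
def n10329 : Q := act 0 n7987
theorem D10329 : act 0 n7987 = n10329 := rfl
theorem F13242 : act 2 n10329 = n10329 := d1_2 (iv F8550) D10329 (iv D10329) F8550 D9796 F12019 (iv D9796)
def n10330 : Q := act 4 n7987
theorem D10330 : act 4 n7987 = n10330 := rfl
theorem F13243 : act 1 n10330 = n7989 := d6_1 D10330 (iv D7989) (iv F8549)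
def n10331 : Q := act 4 n7988
theorem D10331 : act 4 n7988 = n10331 := rfl
theorem F13244 : act 0 n10331 = n7989 := d3_1 D10331 (iv D7989) D7988
theorem F13245 : act 2 n10331 = n8017 := d8_1 D10331 (iv D8017) (iv D5065) D5066 D8018 F8597 (iv F8551)
def n10332 : Q := act 1 n7990
theorem D10332 : act 1 n7990 = n10332 := rfl
theorem F13246 : act 3 n10332 = n8485 := d5_2 (iv F8555) D10332 (iv D8485)
def n10333 : Q := act 4 n7990
theorem D10333 : act 4 n7990 = n10333 := rfl
theorem F13247 : act 0 n10333 = n8023 := d3_1 D10333 (iv D8023) (iv F8554)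
theorem F13248 : act 2 n10333 = n8015 := d8_1 D10333 (iv D8015) (iv F5224) D8780 F10033 (iv D7991) D7990
def n10334 : Q := act 4 n7992
theorem D10334 : act 4 n7992 = n10334 := rfl
theorem F13249 : act 0 n10334 = n7993 := d3_1 D10334 (iv D7993) D7992
theorem F13250 : act 1 n10334 = n10334 := d6_1 D10334 (iv D10334) F8559
def n10335 : Q := act 2 n7993
theorem D10335 : act 2 n7993 = n10335 := rfl
theorem F13251 : act 3 n10335 = n8946 := d7_2 F12178 D10335 (iv F12179)
theorem F13252 : act 1 n8947 = n10335 := d16_3 F5466 D6172 D8947 (iv D10335) F8562 F4024 D5069 F4046 (iv F4060) (iv F8638) (iv F10295) (iv D8919)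
def n10336 : Q := act 0 n7995
theorem D10336 : act 0 n7995 = n10336 := rfl
def n10337 : Q := act 2 n7995
theorem D10337 : act 2 n7995 = n10337 := rfl
theorem F13253 : act 1 n10337 = n8910 := d4_1 D10337 (iv F10269) (iv D6862) (iv D4021) (iv F1749) D5049 D7995
theorem F13254 : act 3 n10337 = n8939 := d7_2 (iv F10895) D10337 (iv F10894)
theorem F13255 : act 4 n10337 = n8906 := d17_3 (iv D7997) D7995 D10337 (iv F10854) F10853 F9762 F4939 D8641 (iv F9770) (iv F8734) F8733 (iv F8568)
def n10338 : Q := act 4 n7995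
theorem D10338 : act 4 n7995 = n10338 := rfl
theorem F13256 : act 1 n10338 = n7997 := d6_1 D10338 (iv D7997) D7995
theorem F13257 : act 3 n10338 = n9517 := d12_2 (iv F10895) D10338 F11496 D9754 F11934 F10866 D9221
def n10339 : Q := act 4 n7996
theorem D10339 : act 4 n7996 = n10339 := rfl
theorem F13258 : act 0 n10339 = n8064 := d3_1 D10339 (iv D8064) (iv F8564)
theorem F13259 : act 1 n10339 = n9858 := d6_1 D10339 F12146 F10893
theorem F13260 : act 3 n10339 = n8017 := d9_1 D10339 (iv D8017) F4040 D6858 F8569 (iv D7997) D7996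
def n10340 : Q := act 2 n7998
theorem D10340 : act 2 n7998 = n10340 := rfl
def n10341 : Q := act 4 n7998
theorem D10341 : act 4 n7998 = n10341 := rfl
theorem F13261 : act 1 n10341 = n8000 := d6_1 D10341 (iv D8000) D7998
def n10342 : Q := act 4 n7999
theorem D10342 : act 4 n7999 = n10342 := rfl
theorem F13262 : act 0 n10342 = n8060 := d3_1 D10342 (iv D8060) (iv F8570)
theorem F13263 : act 3 n10342 = n8015 := d12_2 D7999 D10342 F8593 (iv F8579) (iv D8006) (iv D5053) D5051
def n10343 : Q := act 3 n8000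
theorem D10343 : act 3 n8000 = n10343 := rfl
theorem F13264 : act 0 n10343 = n8055 := d2_1 D10343 F8697 F8584 (iv D8008) F4033 (iv F8545) (iv F8571)
theorem F13265 : act 2 n10343 = n8486 := d7_1 D10343 (iv F13232) F13231
theorem F13266 : act 4 n10343 = n8014 := d9_2 D8000 D10343 (iv D8014) D8015 (iv F13263) (iv D10342) (iv D7999)
def n10344 : Q := act 1 n8001
theorem D10344 : act 1 n8001 = n10344 := rfl
def n10345 : Q := act 3 n8001
theorem D10345 : act 3 n8001 = n10345 := rfl
def n10346 : Q := act 4 n8001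
theorem D10346 : act 4 n8001 = n10346 := rfl
theorem F13267 : act 0 n10346 = n8004 := d3_1 D10346 (iv D8004) D8001
def n10347 : Q := act 0 n8002
theorem D10347 : act 0 n8002 = n10347 := rfl
def n10348 : Q := act 3 n8002
theorem D10348 : act 3 n8002 = n10348 := rfl
theorem F13268 : act 1 n10348 = n9760 := d5_1 D10348 F11948 (iv F8572)
theorem F13269 : act 2 n10348 = n8003 := d7_1 D10348 (iv D8003) D8002
def n10349 : Q := act 0 n8003
theorem D10349 : act 0 n8003 = n10349 := rfl
theorem F13270 : act 2 n10349 = n9027 := d10_2 D8003 D10349 F10514 (iv D8719) D8718 F9951 (iv D8001)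
theorem F13271 : act 3 n10349 = n9036 := d12_4 F8575 (iv D8004) D8003 D10349 F12109 (iv D9837) F7311
def n10350 : Q := act 4 n8003
theorem D10350 : act 4 n8003 = n10350 := rfl
theorem F13272 : act 1 n10350 = n8006 := d6_1 D10350 (iv D8006) (iv F8573)
theorem F13273 : act 3 n10350 = n8012 := d9_1 D10350 (iv D8012) (iv D5060) D5061 F8575 (iv D8004) D8003
theorem F13274 : act 2 n10350 = n9026 := d17_10 (iv D6019) (iv F5271) (iv F10083) (iv F10085) (iv D8423) (iv F7180) (iv F11947) (iv F13268) F13269 D10350 F10511 F9953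
theorem F13275 : act 2 n8722 = n8012 := d7_3 (iv F13273) F13274 F10512
theorem E915 : n10330 = n8764 := (c4_4 F13275 F8590 (iv F8553) (iv F13243) (iv D8764) F5206 (iv F5156) (iv F9957))
theorem F13276 : act 1 n8764 = n7989 := (sb E915 F13243)
theorem F13277 : act 4 n8764 = n7987 := (sb E915 (iv D10330))
theorem F13278 : act 2 n9797 = n8759 := d8_3 F13277 F8550 D9797 (iv D8759) F5203 D5977 D8764
def n10351 : Q := act 4 n8005
theorem D10351 : act 4 n8005 = n10351 := rfl
theorem F13279 : act 0 n10351 = n8006 := d3_1 D10351 (iv D8006) D8005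
theorem F13280 : act 2 n10351 = n9893 := d8_1 D10351 (iv D9893) F7487 D7378 (iv F12226) (iv D9890) (iv F8577)
theorem F13281 : act 3 n10351 = n8007 := d9_1 D10351 (iv D8007) (iv D5056) D5057 D8008 F8583 (iv F8578)
def n10352 : Q := act 0 n8010
theorem D10352 : act 0 n8010 = n10352 := rfl
def n10353 : Q := act 4 n8010
theorem D10353 : act 4 n8010 = n10353 := rfl
theorem F13282 : act 1 n10353 = n9779 := d6_1 D10353 (iv D9779) (iv F8588)
def n10354 : Q := act 1 n8011
theorem D10354 : act 1 n8011 = n10354 := rfl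
def n10355 : Q := act 3 n8011
theorem D10355 : act 3 n8011 = n10355 := rfl
def n10356 : Q := act 4 n8011
theorem D10356 : act 4 n8011 = n10356 := rfl
theorem F13283 : act 0 n10356 = n8012 := d3_1 D10356 (iv D8012) D8011
def n10357 : Q := act 2 n8013
theorem D10357 : act 2 n8013 = n10357 := rfl
def n10358 : Q := act 4 n8013
theorem D10358 : act 4 n8013 = n10358 := rfl
theorem F13284 : act 1 n10358 = n8015 := d6_1 D10358 (iv D8015) D8013
def n10359 : Q := act 0 n8016
theorem D10359 : act 0 n8016 = n10359 := rfl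
def n10360 : Q := act 2 n8016
theorem D10360 : act 2 n8016 = n10360 := rfl
theorem F13285 : act 1 n10360 = n8911 := d4_1 D10360 F10271 F6652 F3014 F1754 D5065 D8016
theorem F13286 : act 3 n10360 = n8907 := d7_2 (iv F8594) D10360 F10264
theorem F13287 : act 4 n10360 = n8938 := d17_3 (iv D8017) D8016 D10360 (iv F10892) F10891 (iv D8642) F4940 F4941 D6059 (iv F10131) F8732 (iv F8595)
def n10361 : Q := act 4 n8016
theorem D10361 : act 4 n8016 = n10361 := rfl
theorem F13288 : act 1 n10361 = n8017 := d6_1 D10361 (iv D8017) D8016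
theorem F13289 : act 3 n10361 = n9858 := d9_1 D10361 F12146 (iv F10895) D10338 F13257 (iv D9517) (iv F8594)
def n10362 : Q := act 1 n8018
theorem D10362 : act 1 n8018 = n10362 := rfl
theorem F13290 : act 3 n10362 = n9176 := d5_2 (iv F8596) D10362 F10792
theorem F13291 : act 4 n10362 = n8024 := d6_2 (iv F8597) D10362 (iv D8024)
def n10363 : Q := act 4 n8020
theorem D10363 : act 4 n8020 = n10363 := rfl
theorem F13292 : act 0 n10363 = n9893 := d3_1 D10363 (iv D9893) (iv F8607)
theorem F13293 : act 1 n10363 = n9770 := d6_1 D10363 (iv D9770) (iv F8605)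
theorem F13294 : act 2 n10363 = n8074 := d8_1 D10363 (iv D8074) (iv F5223) D8778 F10029 (iv D8022) (iv F8606)
theorem F13295 : act 3 n10363 = n8023 := d9_1 D10363 (iv D8023) (iv D5070) D5071 (iv F8612) (iv D8021) D8020
def n10364 : Q := act 0 n8024
theorem D10364 : act 0 n8024 = n10364 := rfl
theorem F13296 : act 1 n10364 = n10364 := d0_2 D8024 D10364 (iv D10364) (iv D8024) (iv D5072) F1758 D5072
theorem F13297 : act 3 n10364 = n9585 := d2_2 (iv F8618) D10364 F11631 F11509 (iv D9130) (iv D6366) (iv F5815)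
def n10365 : Q := act 2 n8024
theorem D10365 : act 2 n8024 = n10365 := rfl
theorem F13298 : act 3 n10365 = n8920 := d7_2 (iv F8618) D10365 F10297
theorem F13299 : act 1 n8921 = n10365 := d16_3 (iv F2456) D6144 D8921 (iv D10365) (iv D8024) (iv D5072) (iv D2675) F651 (iv F656) D2680 (iv F2480) (iv D3420)
def n10366 : Q := act 4 n8026
theorem D10366 : act 4 n8026 = n10366 := rfl
theorem F13300 : act 0 n10366 = n9902 := d3_1 D10366 (iv D9902) (iv F8624)
theorem F13301 : act 1 n10366 = n8100 := d6_1 D10366 (iv D8100) (iv F8623)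
theorem F13302 : act 3 n10366 = n8028 := d9_1 D10366 (iv D8028) (iv D5075) (iv D2677) D2676 D5074 D8026
theorem F13303 : act 2 n10366 = n8033 := d11_2 F10671 D10366 (iv F10655) F10658 (iv D6343) (iv F5768) D9114
def n10367 : Q := act 4 n8031
theorem D10367 : act 4 n8031 = n10367 := rfl
theorem F13304 : act 0 n10367 = n9906 := d3_1 D10367 (iv D9906) (iv F8639)
theorem F13305 : act 1 n10367 = n8133 := d6_1 D10367 (iv F10293) F10295
theorem F13306 : act 2 n10367 = n8628 := d8_1 D10367 (iv F10673) F10671 D10366 F13303 (iv D8033) (iv F8638)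
theorem F13307 : act 3 n10367 = n8034 := d9_1 D10367 (iv D8034) (iv D5079) D5080 (iv F8642) (iv D8032) D8031
def n10368 : Q := act 3 n8036
theorem D10368 : act 3 n8036 = n10368 := rfl
theorem F13308 : act 0 n10368 = n8344 := d2_1 D10368 (iv D8344) F4495 D5460 (iv F8656) (iv D8037) (iv F8653)
def n10369 : Q := act 0 n8041
theorem D10369 : act 0 n8041 = n10369 := rfl
theorem F13309 : act 1 n10369 = n10221 := d0_2 D8041 D10369 F12987 F8260 F6378 (iv D5090) D5089
theorem F13310 : act 4 n10369 = n10219 := d17_0 (iv D10219) (iv D7809) (iv D4900) (iv D2560) D2559 F1672 (iv D1188) D1189 D2697 (iv F4078) D8041 D10369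
def n10370 : Q := act 4 n8041
theorem D10370 : act 4 n8041 = n10370 := rfl
theorem F13311 : act 0 n10370 = n10219 := d3_1 D10370 (iv F13310) (iv D10369)
theorem F13312 : act 1 n10370 = n8043 := d6_1 D10370 (iv D8043) D8041
theorem F13313 : act 2 n8817 = n10370 := d4_0 F13312 F8672 (iv F8699) (iv F10784) F10783 F10081 (iv F10110)
theorem F13314 : act 3 n10370 = n8823 := d7_2 F10111 F13313 (iv D8823)
def n10371 : Q := act 4 n8042
theorem D10371 : act 4 n8042 = n10371 := rfl
theorem F13315 : act 1 n10371 = n8846 := d6_1 D10371 (iv F12061) F12060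
theorem F13316 : act 2 n10371 = n8060 := d8_1 D10371 (iv D8060) F4102 D5113 F8695 (iv D8053) (iv F8670)
theorem F13317 : act 3 n10371 = n8047 := d12_2 D8042 D10371 F8677 (iv F8674) (iv D8044) (iv D5091) D5089
def n10372 : Q := act 3 n8043
theorem D10372 : act 3 n8043 = n10372 := rfl
theorem F13318 : act 0 n10372 = n9516 := d2_1 D10372 F13235 F13233 F8544 F4019 (iv F6328) (iv F8671)
theorem F13319 : act 1 n10372 = n8823 := d5_1 D10372 (iv F13314) F13312
theorem F13320 : act 2 n10372 = n8055 := d7_1 D10372 F8697 (iv F8672)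
theorem F13321 : act 4 n10372 = n8046 := d9_2 D8043 D10372 (iv D8046) D8047 (iv F13317) (iv D10371) (iv D8042)
def n10373 : Q := act 0 n8045
theorem D10373 : act 0 n8045 = n10373 := rfl
def n10374 : Q := act 4 n8045
theorem D10374 : act 4 n8045 = n10374 := rfl
theorem F13322 : act 1 n10374 = n8047 := d6_1 D10374 (iv D8047) D8045
theorem F13323 : act 3 n10374 = n8846 := d9_1 D10374 (iv F12061) (iv F12062) D10370 F13314 (iv F12077) F12076
theorem F13324 : act 2 n8822 = n10374 := d7_3 F13323 (iv D8846) (iv F10120)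
def n10375 : Q := act 4 n8048
theorem D10375 : act 4 n8048 = n10375 := rfl
theorem F13325 : act 0 n10375 = n8049 := d3_1 D10375 (iv D8049) D8048
theorem F13326 : act 2 n10375 = n8335 := d11_2 F12369 D10375 F9200 F7594 (iv D7453) D7452 D9956
theorem F13327 : act 3 n9533 = n10375 := d7_0 F13326 F9202 D9533
theorem F13328 : act 4 n10368 = n9533 := d9_0 F13327 (iv D10375) F8679 (iv D6871) F4069 D8036 D10368
def n10376 : Q := act 4 n8054
theorem D10376 : act 4 n8054 = n10376 := rfl
theorem F13329 : act 0 n10376 = n9740 := d3_1 D10376 F11897 F10757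
theorem F13330 : act 1 n10376 = n8055 := d6_1 D10376 (iv D8055) D8054
theorem F13331 : act 2 n10376 = n8801 := d17_4 (iv D9816) D9814 F12048 D10376 F10078 F5267 F3084 (iv F5863) (iv F5864) (iv F5865) (iv F7260) (iv F12052)
theorem F13332 : act 3 n8059 = n10376 := d7_0 F13331 (iv F10782) F10784
def n10377 : Q := act 4 n8056
theorem D10377 : act 4 n8056 = n10377 := rfl
theorem F13333 : act 0 n10377 = n8059 := d3_1 D10377 (iv D8059) D8056
theorem F13334 : act 1 n10377 = n9976 := d6_1 D10377 (iv F12846) F12845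
def n10378 : Q := act 0 n8057
theorem D10378 : act 0 n8057 = n10378 := rfl
theorem F13335 : act 1 n10378 = n8285 := d0_2 F12044 D10378 F9109 (iv D7722) D7721 D10139 F12831
theorem F13336 : act 2 n10378 = n10097 := d1_2 D8057 D10378 (iv F12752) (iv D10109) D10108 F12748 (iv D8056)
theorem F13337 : act 3 n10378 = n8284 := d10_4 F9192 (iv D8056) D8057 D10378 F9194 (iv D8328) D8327
theorem F13338 : act 4 n10378 = n9738 := d17_0 (iv D9738) (iv D7119) (iv D4222) F1255 (iv F1252) D4210 (iv F3868) (iv F4757) (iv F7275) (iv F12045) F12044 D10378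
def n10379 : Q := act 4 n8057
theorem D10379 : act 4 n8057 = n10379 := rfl
theorem F13339 : act 0 n10379 = n9738 := d3_1 D10379 (iv F13338) (iv D10378)
def n10380 : Q := act 4 n8058
theorem D10380 : act 4 n8058 = n10380 := rfl
theorem F13340 : act 0 n10380 = n9864 := d3_1 D10380 F12160 F10785
theorem F13341 : act 1 n10380 = n8060 := d6_1 D10380 (iv D8060) (iv F8698)
theorem F13342 : act 3 n10380 = n8091 := d9_1 D10380 (iv D8091) (iv F8696) D10376 (iv F13332) (iv D8059) D8058
theorem F13343 : act 2 n10380 = n8810 := d17_4 (iv D9813) D9811 F12042 D10380 F10099 F5337 (iv F5335) D8806 F10092 F5424 (iv F7256) (iv F12046)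
def n10381 : Q := act 1 n8061
theorem D10381 : act 1 n8061 = n10381 := rfl
theorem F13344 : act 0 n10381 = n8066 := d0_1 D10381 (iv D8066) (iv D5117) (iv D2702) D2701 D5114 D8061
theorem F13345 : act 2 n10381 = n10127 := d4_2 F9649 D10381 (iv D10127) (iv D7710) D7709 F8088 (iv F9648)
theorem F13346 : act 4 n9132 = n10381 := d17_0 (iv D10381) (iv F9649) (iv D8588) D8587 (iv F11926) (iv D9752) (iv F7682) (iv D7508) D7509 (iv F8711) F8712 D9132
def n10382 : Q := act 4 n8061
theorem D10382 : act 4 n8061 = n10382 := rfl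
theorem F13347 : act 0 n10382 = n8063 := d3_1 D10382 (iv D8063) D8061
theorem F13348 : act 1 n10382 = n9132 := d6_1 D10382 F13346 (iv D10381)
def n10383 : Q := act 0 n8069
theorem D10383 : act 0 n8069 = n10383 := rfl
theorem F13349 : act 1 n10383 = n9082 := d0_2 (iv F8717) D10383 F10601 F8958 D8621 F9739 F7789
theorem F13350 : act 2 n10383 = n10098 := d1_2 (iv F8718) D10383 (iv D10098) F7974 (iv F5954) (iv F8720) (iv D8070)
theorem F13351 : act 3 n10383 = n8961 := d2_2 D8069 D10383 F10379 (iv D8363) D8362 F9255 (iv D8068)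
theorem F13352 : act 4 n10383 = n8959 := d3_2 F10274 D10383 F10372
def n10384 : Q := act 2 n8071
theorem D10384 : act 2 n8071 = n10384 := rfl
theorem F13353 : act 3 n10384 = n8083 := d7_2 (iv F8722) D10384 (iv D8083)
theorem F13354 : act 4 n10384 = n8115 := d8_2 D8071 D10384 F8802 D8627 (iv F10275) F10274 F8718
theorem F13355 : act 0 n10384 = n8999 := d10_3 D9113 F10667 D10384 (iv D8999) D8997 F10468 F9246
theorem F13356 : act 1 n10384 = n8116 := d15_3 (iv F10669) F10667 D10384 F8804 (iv F9700) (iv F9702) (iv F9733) (iv D8619) (iv F8407) F8406 (iv F7688) F7687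
def n10385 : Q := act 4 n8073
theorem D10385 : act 4 n8073 = n10385 := rfl
theorem F13357 : act 0 n10385 = n8629 := d3_1 D10385 (iv D8629) (iv F8727)
theorem F13358 : act 1 n10385 = n8074 := d6_1 D10385 (iv D8074) D8073
theorem F13359 : act 2 n10385 = n8831 := d8_1 D10385 (iv D8831) (iv F9754) (iv D8626) (iv F7171) D9766 F11964
theorem F13360 : act 3 n10385 = n8076 := d9_1 D10385 (iv D8076) (iv D5125) D5126 D8077 (iv F10023) F10022
def n10386 : Q := act 1 n8075
theorem D10386 : act 1 n8075 = n10386 := rfl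
theorem F13361 : act 3 n10386 = n9175 := d5_2 (iv F8730) D10386 F10791
theorem F13362 : act 4 n9134 = n10386 := d12_1 D9134 F13361 F10790 (iv F8743) (iv F8744) (iv D6370) D6368
def n10387 : Q := act 4 n8075
theorem D10387 : act 4 n8075 = n10387 := rfl
theorem F13363 : act 0 n10387 = n8076 := d3_1 D10387 (iv D8076) D8075
theorem F13364 : act 1 n10387 = n9134 := d6_1 D10387 F13362 (iv D10386)
theorem F13365 : act 3 n10387 = n9133 := d12_2 (iv F8730) D10387 F10709 (iv F9811) (iv D8657) F4976 (iv F7448)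
def n10388 : Q := act 0 n8077
theorem D10388 : act 0 n8077 = n10388 := rfl
theorem F13366 : act 3 n10388 = n9173 := d2_2 D8077 D10388 F10787 F9799 F9797 F6401 (iv F4111)
theorem F13367 : act 4 n10388 = n8633 := d3_2 F10023 D10388 (iv F10024)
theorem F13368 : act 1 n10388 = n9174 := d16_9 F8772 (iv D5157) (iv D2723) (iv F1763) (iv F2613) (iv F2614) (iv F4111) D8077 D10388 F10789 F10184 (iv F8771)
def n10389 : Q := act 0 n8081
theorem D10389 : act 0 n8081 = n10389 := rfl
theorem F13369 : act 1 n10389 = n8084 := d0_2 D8081 D10389 (iv D8084) (iv D5136) (iv D2713) (iv F1798) D5132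
theorem F13370 : act 4 n10389 = n9136 := d3_2 F8744 D10389 (iv D9136)
theorem F13371 : act 2 n10389 = n10202 := d15_2 F9158 D10389 (iv D10202) D10201 F12945 (iv F10965) F10964 F7983 (iv F8416) (iv F9134) (iv F12240) F12239
def n10390 : Q := act 4 n8084
theorem D10390 : act 4 n8084 = n10390 := rfl
theorem F13372 : act 0 n10390 = n8086 := d3_1 D10390 (iv D8086) D8084
theorem F13373 : act 1 n10390 = n9136 := d6_1 D10390 (iv F13370) F13369
def n10391 : Q := act 4 n8089
theorem D10391 : act 4 n8089 = n10391 := rfl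
theorem F13374 : act 0 n10391 = n8091 := d3_1 D10391 (iv D8091) D8089
def n10392 : Q := act 0 n8090
theorem D10392 : act 0 n8090 = n10392 := rfl
theorem F13375 : act 1 n10392 = n8302 := d0_2 F12050 D10392 F9152 (iv D7764) D7763 D10189 F12922
theorem F13376 : act 2 n10392 = n10099 := d1_2 D8090 D10392 (iv F12939) (iv D10198) D10197 F12936 (iv D8089)
theorem F13377 : act 3 n10392 = n8301 := d10_4 F9375 (iv D8089) D8090 D10392 F9377 (iv D8452) D8451
theorem F13378 : act 4 n10392 = n9741 := d17_0 F11898 F7036 F4851 F1350 (iv F1348) (iv F3995) F3267 (iv F3270) D7235 (iv F12051) F12050 D10392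
def n10393 : Q := act 4 n8090
theorem D10393 : act 4 n8090 = n10393 := rfl
theorem F13379 : act 0 n10393 = n9741 := d3_1 D10393 (iv F13378) (iv D10392)
def n10394 : Q := act 3 n8093
theorem D10394 : act 3 n8093 = n10394 := rfl
theorem F13380 : act 1 n10394 = n8096 := d5_1 D10394 (iv D8096) (iv F8770)
theorem F13381 : act 0 n10394 = n10238 := d12_3 (iv F5167) D8093 D10394 (iv D10238) (iv D7823) D7822 F8265
def n10395 : Q := act 2 n8094
theorem D10395 : act 2 n8094 = n10395 := rfl
theorem F13382 : act 3 n10395 = n8104 := d7_2 (iv F8772) D10395 (iv D8104)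
theorem F13383 : act 0 n10395 = n8870 := d10_3 (iv F5416) (iv F8771) D10395 (iv D8870) (iv D6100) F2440 D3368
def n10396 : Q := act 1 n8095
theorem D10396 : act 1 n8095 = n10396 := rfl
theorem F13384 : act 2 n10396 = n10142 := d17_8 F12541 F12539 F8144 D7747 (iv F12892) (iv D8847) (iv F8773) D10396 (iv D10142) D10140 F12834 (iv F10301)
def n10397 : Q := act 3 n8095
theorem D10397 : act 3 n8095 = n10397 := rfl
theorem F13385 : act 0 n10397 = n8865 := d2_1 D10397 (iv D8865) (iv D6094) D6096 (iv F10169) (iv D8848) (iv F8773)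
theorem F13386 : act 2 n10397 = n8096 := d7_1 D10397 (iv D8096) D8095
def n10398 : Q := act 4 n8095
theorem D10398 : act 4 n8095 = n10398 := rfl
theorem F13387 : act 0 n10398 = n8849 := d3_1 D10398 (iv D8849) (iv F8773)
theorem F13388 : act 2 n10398 = n8114 := d8_1 D10398 (iv D8114) F4155 (iv D3353) (iv F1801) D5152 D8095
def n10399 : Q := act 4 n8096
theorem D10399 : act 4 n8096 = n10399 := rfl
theorem F13389 : act 0 n10399 = n8863 := d3_1 D10399 (iv D8863) (iv F8774)
theorem F13390 : act 3 n10399 = n8105 := d9_1 D10399 (iv D8105) (iv F8772) (iv D8094) (iv D5151) D5152 D8096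
theorem F13391 : act 2 n10399 = n8855 := d11_2 F13386 D10399 F10180 F10212 (iv D8878) (iv F10192) (iv F13385)
def n10400 : Q := act 1 n8097
theorem D10400 : act 1 n8097 = n10400 := rfl
def n10401 : Q := act 3 n8097
theorem D10401 : act 3 n8097 = n10401 := rfl
theorem F13392 : act 0 n10401 = n8861 := d2_1 D10401 (iv D8861) (iv F5528) D8968 F10392 (iv D8098) D8097
theorem F13393 : act 2 n10401 = n8107 := d7_1 D10401 (iv D8107) (iv F8775)
def n10402 : Q := act 4 n8097
theorem D10402 : act 4 n8097 = n10402 := rfl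
theorem F13394 : act 0 n10402 = n8099 := d3_1 D10402 (iv D8099) D8097
theorem F13395 : act 2 n10402 = n8110 := d8_1 D10402 (iv D8110) (iv D5163) (iv D2727) D2725 D5161 (iv F8775)
def n10403 : Q := act 4 n8098
theorem D10403 : act 4 n8098 = n10403 := rfl
theorem F13396 : act 2 n10403 = n8116 := d8_1 D10403 (iv D8116) F4157 D5169 F8781 (iv D8100) (iv F8776)
theorem F13397 : act 3 n10403 = n8102 := d9_1 D10403 (iv D8102) (iv D5155) D5156 F8778 (iv D8099) D8098
def n10404 : Q := act 1 n8101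
theorem D10404 : act 1 n8101 = n10404 := rfl
def n10405 : Q := act 3 n8101
theorem D10405 : act 3 n8101 = n10405 := rfl
theorem F13398 : act 0 n10405 = n8859 := d2_1 D10405 F10187 (iv F5533) (iv D6203) F2507 D5155 D8101
theorem F13399 : act 2 n10405 = n8106 := d7_1 D10405 F8789 (iv F8782)
def n10406 : Q := act 4 n8101
theorem D10406 : act 4 n8101 = n10406 := rfl
theorem F13400 : act 0 n10406 = n8102 := d3_1 D10406 (iv D8102) D8101
theorem F13401 : act 2 n10406 = n8121 := d8_1 D10406 (iv D8121) (iv D5175) D5176 D8122 F8814 (iv F8782)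
def n10407 : Q := act 4 n8103
theorem D10407 : act 4 n8103 = n10407 := rfl
theorem F13402 : act 0 n10407 = n10222 := d3_1 D10407 (iv D10222) F9974
theorem F13403 : act 1 n10407 = n8105 := d6_1 D10407 (iv D8105) D8103
def n10408 : Q := act 1 n8104
theorem D10408 : act 1 n8104 = n10408 := rfl
def n10409 : Q := act 4 n8104
theorem D10409 : act 4 n8104 = n10409 := rfl
theorem F13404 : act 0 n10409 = n8853 := d3_1 D10409 (iv D8853) (iv F8784)
theorem F13405 : act 2 n10409 = n8119 := d8_1 D10409 (iv D8119) F4164 D6087 F8786 (iv D8105) D8104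
def n10410 : Q := act 4 n8107
theorem D10410 : act 4 n8107 = n10410 := rfl
theorem F13406 : act 0 n10410 = n8878 := d3_1 D10410 (iv D8878) (iv F8790)
theorem F13407 : act 3 n10410 = n8122 := d9_1 D10410 F8814 (iv F8789) (iv D8106) (iv D5160) D5161 D8107
theorem F13408 : act 2 n10410 = n8111 := d11_2 F13393 D10410 (iv F11499) (iv F11502) (iv D8863) (iv F10188) (iv F13392)
def n10411 : Q := act 4 n8108
theorem D10411 : act 4 n8108 = n10411 := rfl
theorem F13409 : act 0 n10411 = n8880 := d3_1 D10411 (iv D8880) (iv F8792)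
theorem F13410 : act 3 n10411 = n8110 := d12_2 (iv F8791) D10411 F8795 F7002 (iv D3357) D3356 (iv F4166)
def n10412 : Q := act 4 n8109
theorem D10412 : act 4 n8109 = n10412 := rfl
theorem F13411 : act 0 n10412 = n8883 := d3_1 D10412 (iv D8883) (iv F8793)
theorem F13412 : act 3 n10412 = n8121 := d9_1 D10412 (iv D8121) (iv F8791) D10411 F13410 (iv D8110) D8109
def n10413 : Q := act 3 n8112
theorem D10413 : act 3 n8112 = n10413 := rfl
theorem F13413 : act 0 n10413 = n10270 := d2_1 D10413 (iv D10270) (iv F13072) (iv D10256) (iv D7844) D7846 (iv F8797)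
theorem F13414 : act 1 n10413 = n8113 := d5_1 D10413 (iv D8113) D8112
def n10414 : Q := act 4 n8112
theorem D10414 : act 4 n8112 = n10414 := rfl
theorem F13415 : act 0 n10414 = n10259 := d3_1 D10414 (iv D10259) (iv F8797)
theorem F13416 : act 1 n10414 = n8114 := d6_1 D10414 (iv D8114) D8112
def n10415 : Q := act 4 n8113
theorem D10415 : act 4 n8113 = n10415 := rfl
theorem F13417 : act 0 n10415 = n8886 := d3_1 D10415 (iv D8886) (iv F8798)
theorem F13418 : act 3 n10415 = n8119 := d12_2 D8113 D10415 F8809 (iv F8805) (iv D8116) (iv D5167) D5165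
def n10416 : Q := act 3 n8114
theorem D10416 : act 3 n8114 = n10416 := rfl
theorem F13419 : act 0 n10416 = n8887 := d2_1 D10416 (iv D8887) F5436 F4823 (iv F1809) (iv F4824) (iv F8800)
theorem F13420 : act 4 n10416 = n8118 := d9_2 D8114 D10416 (iv D8118) D8119 (iv F13418) (iv D10415) (iv D8113)
def n10417 : Q := act 4 n8117
theorem D10417 : act 4 n8117 = n10417 := rfl
theorem F13421 : act 0 n10417 = n10261 := d3_1 D10417 (iv F13083) (iv F8806)
theorem F13422 : act 1 n10417 = n8119 := d6_1 D10417 (iv D8119) D8117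
def n10418 : Q := act 2 n8124
theorem D10418 : act 2 n8124 = n10418 := rfl
theorem F13423 : act 0 n10418 = n9583 := d1_1 D10418 F11626 (iv F11600) (iv F12826) F12825 F11580 (iv F8819)

end Cfsg.Agent.Helper17.HCPTC
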