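import Cfsg.Agent.Helper17.HCPTC.Facts2

set_option autoImplicit false
set_option linter.all false

noncomputable section

namespace Cfsg.Agent.Helper17.HCPTC

theorem F13424 : act 1 n10418 = n10117 := d4_1 D10418 F12780 F11988 F7621 (iv D5178) D5179 D8124
theorem F13425 : act 4 n10418 = n9555 := d8_2 (iv F8820) D10418 (iv D9555) (iv D6920) (iv F5835) D9140 F10724
def n10419 : Q := act 3 n8124
theorem D10419 : act 3 n8124 = n10419 := rfl
theorem F13426 : act 0 n10419 = n9609 := d2_1 D10419 F11673 F11614 (iv D9577) F6763 (iv F7957) (iv F8819)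
theorem F13427 : act 1 n10419 = n8125 := d5_1 D10419 (iv D8125) D8124
theorem F13428 : act 4 n10419 = n9579 := d12_1 D10419 (iv D9579) (iv D6941) (iv D4091) D4092 (iv F7957) (iv F8819)
def n10420 : Q := act 2 n8126
theorem D10420 : act 2 n8126 = n10420 := rfl
theorem F13429 : act 3 n10420 = n8145 := d7_2 (iv F8824) D10420 (iv D8145)
theorem F13430 : act 0 n10420 = n10026 := d10_3 D7552 (iv F8822) D10420 (iv D10026) (iv D7553) (iv D4688) D4687
def n10421 : Q := act 1 n8127
theorem D10421 : act 1 n8127 = n10421 := rfl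
theorem F13431 : act 0 n10421 = n9661 := d0_1 D10421 F13156 (iv D10290) (iv D7888) D7887 (iv F8385) (iv F8825)
theorem F13432 : act 4 n10421 = n9659 := d6_2 (iv F10317) D10421 F12360
def n10422 : Q := act 3 n8127
theorem D10422 : act 3 n8127 = n10422 := rfl
theorem F13433 : act 0 n10422 = n10031 := d2_1 D10422 (iv D10031) (iv D7557) (iv D4692) D4691 D7556 (iv F8825)
theorem F13434 : act 2 n10422 = n8128 := d7_1 D10422 (iv D8128) D8127
def n10423 : Q := act 3 n8129
theorem D10423 : act 3 n8129 = n10423 := rfl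
theorem F13435 : act 1 n10423 = n8131 := d5_1 D10423 (iv D8131) D8129
theorem F13436 : act 2 n10423 = n9783 := d7_1 D10423 (iv F12709) F12707
theorem F13437 : act 4 n8740 = n10423 := d17_3 (iv D5960) D5958 D8740 F13436 F12000 F7211 (iv F7231) F10025 F10023 F8734 F5387 (iv F5182)
def n10424 : Q := act 3 n8130
theorem D10424 : act 3 n8130 = n10424 := rfl
theorem F13438 : act 2 n10424 = n8131 := d7_1 D10424 (iv D8131) D8130
def n10425 : Q := act 4 n8130
theorem D10425 : act 4 n8130 = n10425 := rfl
theorem F13439 : act 0 n10425 = n10028 := d3_1 D10425 (iv F12541) F10301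
theorem F13440 : act 2 n10425 = n8134 := d8_1 D10425 F10312 (iv D8928) (iv D6152) D6150 F7792 D8130
def n10426 : Q := act 3 n8134
theorem D10426 : act 3 n8134 = n10426 := rfl
theorem F13441 : act 0 n10426 = n10033 := d2_1 D10426 (iv D10033) F7781 (iv D5260) F1857 (iv F4176) D8134
theorem F13442 : act 1 n10426 = n8789 := d5_1 D10426 F12994 F12993
def n10427 : Q := act 3 n8135
theorem D10427 : act 3 n8135 = n10427 := rfl
theorem F13443 : act 1 n10427 = n8137 := d5_1 D10427 (iv D8137) D8135
theorem F13444 : act 2 n10427 = n9807 := d7_1 D10427 (iv F12729) F12727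
theorem F13445 : act 4 n8772 = n10427 := d17_3 (iv D5985) D5984 D8772 F13444 (iv D9807) (iv D7218) (iv F7232) F7233 D8076 F10131 F5386 (iv F5214)
def n10428 : Q := act 4 n8135
theorem D10428 : act 4 n8135 = n10428 := rfl
theorem F13446 : act 1 n10428 = n8138 := d6_1 D10428 (iv D8138) D8135
theorem F13447 : act 3 n10428 = n8740 := d9_1 D10428 F13437 (iv D10423) (iv F10305) (iv F10306) F13445 (iv D10427)
theorem F13448 : act 2 n10428 = n8741 := d11_2 F12727 D10428 (iv F12740) (iv D10104) (iv D7667) D7665 D10101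
def n10429 : Q := act 3 n8136
theorem D10429 : act 3 n8136 = n10429 := rfl
theorem F13449 : act 2 n10429 = n8137 := d7_1 D10429 (iv D8137) D8136
def n10430 : Q := act 4 n8136
theorem D10430 : act 4 n8136 = n10430 := rfl
theorem F13450 : act 2 n10430 = n8146 := d8_1 D10430 F10326 (iv D8934) F10250 F10249 (iv D8138) D8136
def n10431 : Q := act 0 n8139
theorem D10431 : act 0 n8139 = n10431 := rfl
theorem F13451 : act 2 n10431 = n8144 := d1_2 D8139 D10431 (iv F10285) F10287 (iv F10247) F10249 F8833
def n10432 : Q := act 2 n8142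
theorem D10432 : act 2 n8142 = n10432 := rfl
theorem F13452 : act 0 n10432 = n9584 := d1_1 D10432 F11629 (iv F11621) (iv F12916) F12917 F11585 (iv F8842)
theorem F13453 : act 1 n10432 = n10199 := d4_1 D10432 F12940 F11985 F7742 (iv D5191) D5192 D8142
theorem F13454 : act 4 n10432 = n9565 := d11_1 D10432 (iv D9565) (iv D6926) (iv F6748) D9564 F11585 (iv F8842)
def n10433 : Q := act 3 n8142
theorem D10433 : act 3 n8142 = n10433 := rfl
theorem F13455 : act 0 n10433 = n9610 := d2_1 D10433 F11674 (iv F11609) F11611 F9407 (iv F7958) (iv F8842)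
theorem F13456 : act 1 n10433 = n8143 := d5_1 D10433 (iv D8143) D8142
theorem F13457 : act 4 n10433 = n9574 := d9_2 F8843 D10433 (iv D9574) (iv F8820) D10419 F13428 (iv D9579)
def n10434 : Q := act 1 n8145
theorem D10434 : act 1 n8145 = n10434 := rfl
theorem F13458 : act 0 n10434 = n9667 := d0_1 D10434 F13195 (iv D10305) (iv D7940) D7939 (iv F10322) (iv F10323)
theorem F13459 : act 4 n10434 = n9666 := d6_2 F10324 D10434 F12391
def n10435 : Q := act 3 n8146
theorem D10435 : act 3 n8146 = n10435 := rfl
theorem F13460 : act 0 n10435 = n10023 := d2_1 D10435 (iv D10023) F7771 (iv F8965) F8966 F8832 D8146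
theorem F13461 : act 1 n10435 = n8734 := d5_1 D10435 F13014 F13012
def n10436 : Q := act 4 n8147
theorem D10436 : act 4 n8147 = n10436 := rfl
theorem F13462 : act 0 n10436 = n8149 := d3_1 D10436 (iv D8149) D8147
theorem F13463 : act 1 n10436 = n9966 := d6_1 D10436 (iv F12948) F12945
def n10437 : Q := act 2 n8148
theorem D10437 : act 2 n8148 = n10437 := rfl
theorem F13464 : act 0 n10437 = n9196 := d1_1 D10437 (iv F11918) F11916 (iv D7672) D7671 (iv F9411) F9176
theorem F13465 : act 1 n10437 = n10265 := d4_1 D10437 F13089 F8760 (iv D8087) F4132 D5196 D8148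
theorem F13466 : act 3 n10437 = n10264 := d7_2 F12996 D10437 F13088
theorem F13467 : act 4 n9195 = n10437 := d17_0 F13465 F13089 F8306 (iv F8506) (iv F12161) (iv D9865) F7387 (iv D4656) D4657 D7524 F7719 D9195
def n10438 : Q := act 4 n8148
theorem D10438 : act 4 n8148 = n10438 := rfl
theorem F13468 : act 1 n10438 = n8149 := d6_1 D10438 (iv D8149) D8148
theorem F13469 : act 3 n10438 = n9923 := d9_1 D10438 F13006 (iv D10229) D10230 F13010 F12997 F12996
theorem F13470 : act 2 n10438 = n9923 := d11_2 (iv D10437) D10438 (iv D9923) F7562 D9748 F11918 (iv F13464)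
def n10439 : Q := act 2 n8149
theorem D10439 : act 2 n8149 = n10439 := rfl
theorem F13471 : act 0 n10439 = n8151 := d11_3 D5196 D8149 D10439 (iv D8151) (iv D5199) (iv D2752) D2751
theorem F13472 : act 1 n10439 = n10373 := d17_5 F8513 F4132 D5196 D8149 D10439 (iv D10373) (iv D8045) F4082 F4136 (iv D5149) (iv F4134) (iv F8512)
def n10440 : Q := act 2 n8150
theorem D10440 : act 2 n8150 = n10440 := rfl
theorem F13473 : act 1 n10440 = n9894 := d4_1 D10440 F12231 D9921 (iv F12695) F12694 F12380 F12302
theorem F13474 : act 3 n10440 = n10087 := d7_2 (iv F12300) D10440 F12695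
theorem F13475 : act 4 n10440 = n10068 := d8_2 D8150 D10440 F12653 (iv F8514) (iv F12703) F12705 F7983
def n10441 : Q := act 1 n8152
theorem D10441 : act 1 n8152 = n10441 := rfl
theorem F13476 : act 3 n10441 = n8370 := d5_2 (iv F8848) D10441 (iv D8370)
theorem F13477 : act 0 n10441 = n10345 := d16_6 (iv F8276) F8275 (iv D5203) (iv F4182) D8152 D10441 (iv D10345) (iv D8001) (iv D5052) (iv D2665) (iv F1738) (iv F4006)
def n10442 : Q := act 4 n8152
theorem D10442 : act 4 n8152 = n10442 := rfl
def n10443 : Q := act 2 n8156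
theorem D10443 : act 2 n8156 = n10443 := rfl
theorem F13478 : act 3 n10443 = n8602 := d7_2 F8859 D10443 (iv D8602)
theorem F13479 : act 0 n10443 = n10156 := d10_3 F9650 (iv F8857) D10443 (iv D10156) (iv F9651) (iv D8589) (iv F9647)
def n10444 : Q := act 2 n8160
theorem D10444 : act 2 n8160 = n10444 := rfl
theorem F13480 : act 3 n10444 = n8609 := d7_2 F8871 D10444 (iv D8609)
theorem F13481 : act 0 n10444 = n10174 := d10_3 F9657 (iv F8870) D10444 (iv D10174) F9655 F9654 D8594
def n10445 : Q := act 1 n8163
theorem D10445 : act 1 n8163 = n10445 := rfl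
theorem F13482 : act 3 n10445 = n8352 := d5_2 (iv F8880) D10445 (iv D8352)
theorem F13483 : act 0 n10445 = n10355 := d16_6 (iv F8264) F8262 F4185 D5210 D8163 D10445 (iv D10355) (iv D8011) F4037 F1752 (iv F1742) D5037
def n10446 : Q := act 4 n8163
theorem D10446 : act 4 n8163 = n10446 := rfl
def n10447 : Q := act 4 n8168
theorem D10447 : act 4 n8168 = n10447 := rfl
theorem F13484 : act 0 n10447 = n8857 := d3_1 D10447 (iv D8857) (iv F8894)
theorem F13485 : act 1 n10447 = n8170 := d6_1 D10447 (iv D8170) (iv F8895)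
theorem F13486 : act 3 n10447 = n8178 := d12_2 D8168 D10447 (iv F11071) F12418 (iv D9975) F7633 F6145
def n10448 : Q := act 2 n8169
theorem D10448 : act 2 n8169 = n10448 := rfl
theorem F13487 : act 0 n10448 = n9981 := d11_3 (iv F4216) D8169 D10448 (iv D9981) (iv D7476) F3597 D4618
def n10449 : Q := act 3 n8169
theorem D10449 : act 3 n8169 = n10449 := rfl
theorem F13488 : act 1 n10449 = n8172 := d5_1 D10449 (iv D8172) (iv F8897)
theorem F13489 : act 0 n10449 = n8858 := d12_3 (iv D8168) D8169 D10449 (iv D8858) (iv D6090) D6089 (iv F8894)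
def n10450 : Q := act 2 n8170
theorem D10450 : act 2 n8170 = n10450 := rfl
theorem F13490 : act 3 n10450 = n8179 := d7_2 (iv F8898) D10450 (iv D8179)
theorem F13491 : act 0 n10450 = n8992 := d10_3 (iv F10453) F10452 D10450 F10460 F5592 F3306 D6227
theorem F13492 : act 4 n10450 = n9622 := d11_1 D10450 F11702 (iv F12082) F12083 F12084 F10481 F10452
theorem F13493 : act 1 n9624 = n10450 := d16_3 (iv F11749) F11748 (iv F11707) (iv D10450) (iv F13485) F13484 (iv F10185) D8872 (iv F12207) (iv D9882) F7462 (iv F7458)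
def n10451 : Q := act 3 n8171
theorem D10451 : act 3 n8171 = n10451 := rfl
theorem F13494 : act 0 n10451 = n8993 := d2_1 D10451 (iv D8993) F5581 (iv F7144) (iv F10433) (iv D8982) (iv F8900)
theorem F13495 : act 1 n10451 = n9626 := d5_1 D10451 (iv D9626) F8901
theorem F13496 : act 2 n10451 = n8172 := d7_1 D10451 (iv D8172) D8171
theorem F13497 : act 4 n10451 = n9680 := d9_2 (iv F8899) D10451 (iv D9680) (iv F10443) (iv F13490) F13492 (iv D9622)
def n10452 : Q := act 4 n8172
theorem D10452 : act 4 n8172 = n10452 := rfl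
theorem F13498 : act 3 n10452 = n8180 := d9_1 D10452 (iv D8180) (iv F8898) (iv D8170) (iv D5219) D5220 D8172
def n10453 : Q := act 1 n8173
theorem D10453 : act 1 n8173 = n10453 := rfl
theorem F13499 : act 4 n10453 = n8660 := d6_2 (iv F8903) D10453 (iv D8660)
def n10454 : Q := act 3 n8173
theorem D10454 : act 3 n8173 = n10454 := rfl
theorem F13500 : act 0 n10454 = n8996 := d2_1 D10454 (iv D8996) (iv D6232) D6234 (iv F8906) (iv D8174) D8173
theorem F13501 : act 2 n10454 = n8981 := d7_1 D10454 (iv D8981) (iv F8902)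
def n10455 : Q := act 1 n8176
theorem D10455 : act 1 n8176 = n10455 := rfl
theorem F13502 : act 4 n10455 = n9994 := d6_2 F11806 D10455 F12459
def n10456 : Q := act 3 n8176
theorem D10456 : act 3 n8176 = n10456 := rfl
theorem F13503 : act 0 n10456 = n9003 := d2_1 D10456 (iv D9003) (iv D6238) (iv D3477) (iv F1843) D5223 D8176
theorem F13504 : act 2 n10456 = n8980 := d7_1 D10456 F10428 (iv F8911)
theorem F13505 : act 4 n10456 = n8661 := d12_1 D10456 (iv D8661) (iv D5836) (iv D3140) (iv F1842) D5223 D8176
def n10457 : Q := act 2 n8178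
theorem D10457 : act 2 n8178 = n10457 := rfl
theorem F13506 : act 0 n10457 = n9982 := d10_3 (iv F12418) F11071 D10457 (iv D9982) (iv F12419) (iv D9976) (iv F12415)
def n10458 : Q := act 4 n8178
theorem D10458 : act 4 n8178 = n10458 := rfl
theorem F13507 : act 1 n10458 = n8180 := d6_1 D10458 (iv D8180) D8178
theorem F13508 : act 2 n10458 = n9987 := d11_2 (iv D10457) D10458 F12444 F12436 (iv D9983) (iv F12432) (iv F13506)
def n10459 : Q := act 0 n8181
theorem D10459 : act 0 n8181 = n10459 := rfl
theorem F13509 : act 4 n10459 = n9375 := d3_2 (iv F8926) D10459 (iv D9375)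
def n10460 : Q := act 2 n8181
theorem D10460 : act 2 n8181 = n10460 := rfl
theorem F13510 : act 1 n10460 = n9597 := d4_1 D10460 (iv D9597) (iv D6963) (iv D4103) (iv F1851) (iv F4226) D8181
theorem F13511 : act 3 n10460 = n9469 := d7_2 F8921 D10460 F11388
theorem F13512 : act 4 n10460 = n9365 := d8_2 (iv F8926) D10460 F11173 F9818 F2940 (iv F2860) (iv F6249)
def n10461 : Q := act 1 n8184
theorem D10461 : act 1 n8184 = n10461 := rfl
theorem F13513 : act 2 n10461 = n10442 := d17_8 (iv D1222) F242 (iv F246) D1230 D2773 D5229 D8184 D10461 (iv D10442) (iv D8152) F4182 F1824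
theorem F13514 : act 4 n9931 = n10461 := d8_0 F13513 (iv D10442) (iv D8152) (iv D5200) (iv F3534) D7433 D9931
def n10462 : Q := act 3 n8184
theorem D10462 : act 3 n8184 = n10462 := rfl
def n10463 : Q := act 4 n8184
theorem D10463 : act 4 n8184 = n10463 := rfl
theorem F13515 : act 0 n10463 = n8187 := d3_1 D10463 (iv D8187) D8184
theorem F13516 : act 1 n10463 = n9931 := d6_1 D10463 F13514 (iv D10461)
theorem F13517 : act 2 n10463 = n9731 := d11_2 F10999 D10463 (iv F12018) F12017 F12585 (iv D10043) (iv F10997)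
def n10464 : Q := act 0 n8185
theorem D10464 : act 0 n8185 = n10464 := rfl
theorem F13518 : act 4 n10464 = n9215 := d3_2 (iv F8928) D10464 (iv D9215)
def n10465 : Q := act 3 n8185
theorem D10465 : act 3 n8185 = n10465 := rfl
theorem F13519 : act 1 n10465 = n8620 := d5_1 D10465 F9736 (iv F8927)
theorem F13520 : act 2 n10465 = n8186 := d7_1 D10465 (iv D8186) D8185
theorem F13521 : act 4 n9211 = n10465 := d17_3 F9735 D9211 F10873 F13520 F8929 F4228 (iv F4310) (iv F9035) F9036 (iv D6686) F4899 D8620
def n10466 : Q := act 0 n8186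
theorem D10466 : act 0 n8186 = n10466 := rfl
theorem F13522 : act 1 n10466 = n10328 := d0_2 (iv F8929) D10466 F13239 (iv F9039) (iv D8248) F4310 (iv F4228)
theorem F13523 : act 2 n10466 = n8756 := d10_2 D8186 D10466 (iv F12588) (iv D10044) (iv F10997) F10999 (iv D8184)
theorem F13524 : act 3 n10466 = n8764 := d12_4 F8932 (iv D8187) D8186 D10466 F13277 (iv D7987) (iv F4237)
theorem F13525 : act 4 n10466 = n10327 := d17_0 F13237 F8541 D7986 F8548 (iv F8527) F8526 F4194 (iv F5295) (iv D5232) (iv F4227) (iv F8929) D10466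
def n10467 : Q := act 4 n8186
theorem D10467 : act 4 n8186 = n10467 := rfl
theorem F13526 : act 0 n10467 = n10327 := d3_1 D10467 (iv F13525) (iv D10466)
theorem F13527 : act 1 n10467 = n8188 := d6_1 D10467 (iv D8188) (iv F8929)
theorem F13528 : act 2 n10467 = n10467 := d8_1 D10467 (iv D10467) (iv F13520) (iv F13521) F10873 F13521 F13520
theorem F13529 : act 3 n10467 = n8192 := d9_1 D10467 (iv D8192) (iv D5235) D5236 F8932 (iv D8187) D8186
def n10468 : Q := act 0 n8189
theorem D10468 : act 0 n8189 = n10468 := rfl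
theorem F13530 : act 4 n10468 = n10326 := d3_2 F8938 D10468 (iv D10326)
def n10469 : Q := act 0 n8190
theorem D10469 : act 0 n8190 = n10469 := rfl
def n10470 : Q := act 4 n8190
theorem D10470 : act 4 n8190 = n10470 := rfl
theorem F13531 : act 1 n10470 = n8664 := d6_1 D10470 (iv D8664) (iv F8939)
theorem F13532 : act 2 n10470 = n10470 := d8_1 D10470 (iv D10470) F8940 D8192 F8942 (iv D8192) (iv F8940)
theorem F13533 : act 3 n10470 = n9211 := d9_1 D10470 F13521 (iv D10465) F8928 (iv D6471) (iv F4235) D8190
theorem F13534 : act 0 n10470 = n9283 := d11_3 (iv F8940) D10470 F13532 (iv D9283) D9284 (iv F11041) (iv D8191)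
theorem F13535 : act 4 n10469 = n9283 := d3_2 (iv D10470) D10469 (iv F13534)
def n10471 : Q := act 1 n8191
theorem D10471 : act 1 n8191 = n10471 := rfl
theorem F13536 : act 2 n10471 = n10446 := d17_8 D2764 F1834 F5297 (iv D2779) (iv F1847) (iv F4236) D8191 D10471 (iv D10446) (iv D8163) (iv D5210) (iv D2763)
theorem F13537 : act 4 n9940 = n10471 := d8_0 F13536 (iv D10446) (iv D8163) D8164 F12346 (iv D9941) D9940
def n10472 : Q := act 3 n8191
theorem D10472 : act 3 n8191 = n10472 := rfl
def n10473 : Q := act 4 n8191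
theorem D10473 : act 4 n8191 = n10473 := rfl
theorem F13538 : act 0 n10473 = n8192 := d3_1 D10473 (iv D8192) D8191
theorem F13539 : act 1 n10473 = n9940 := d6_1 D10473 F13537 (iv D10471)
theorem F13540 : act 2 n9718 = n10473 := d4_0 F13539 (iv D9940) F7576 F6956 F6954 D7090 D9718
def n10474 : Q := act 0 n8193
theorem D10474 : act 0 n8193 = n10474 := rfl
theorem F13541 : act 4 n10474 = n9372 := d3_2 F8944 D10474 (iv D9372)
def n10475 : Q := act 2 n8193
theorem D10475 : act 2 n8193 = n10475 := rfl
theorem F13542 : act 1 n10475 = n9598 := d4_1 D10475 F11654 F6805 F3090 F1879 (iv F4240) D8193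
theorem F13543 : act 3 n10475 = n9366 := d7_2 (iv F8943) D10475 F11175
theorem F13544 : act 4 n10475 = n9364 := d8_2 F8944 D10475 (iv D9364) (iv D6643) F2856 D3837 D6650
def n10476 : Q := act 1 n8196
theorem D10476 : act 1 n8196 = n10476 := rfl
theorem F13545 : act 0 n10476 = n9985 := d0_1 D10476 F12439 (iv F8952) (iv D8195) (iv D5244) D5245 D8196
theorem F13546 : act 4 n10476 = n9642 := d6_2 (iv F8953) D10476 (iv D9642)
def n10477 : Q := act 2 n8196
theorem D10477 : act 2 n8196 = n10477 := rfl
theorem F13547 : act 4 n10477 = n9590 := d8_2 (iv F8953) D10477 (iv F11642) (iv D7010) D7008 D9639 F11736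
theorem F13548 : act 1 n9592 = n10477 := d6_3 F13547 (iv D9590) D9592
def n10478 : Q := act 3 n8196
theorem D10478 : act 3 n8196 = n10478 := rfl
theorem F13549 : act 4 n10478 = n9685 := d12_1 D10478 (iv D9685) (iv D7052) F3125 D4520 F5751 D8196
def n10479 : Q := act 0 n8197
theorem D10479 : act 0 n8197 = n10479 := rfl
theorem F13550 : act 4 n10479 = n9625 := d3_2 (iv F8956) D10479 F11705
theorem F13551 : act 2 n10479 = n9633 := d11_4 D4136 F4462 D8197 D10479 (iv D9633) (iv D7005) F3110
def n10480 : Q := act 1 n8198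
theorem D10480 : act 1 n8198 = n10480 := rfl
theorem F13552 : act 0 n10480 = n8200 := d0_1 D10480 (iv D8200) (iv D5251) (iv D2784) D2783 D5248 D8198
theorem F13553 : act 3 n10480 = n10127 := d5_2 F9313 D10480 (iv D10127)
def n10481 : Q := act 0 n8199
theorem D10481 : act 0 n8199 = n10481 := rfl
theorem F13554 : act 4 n10481 = n10050 := d3_2 F11094 D10481 F12603
theorem F13555 : act 2 n10481 = n10132 := d11_4 D6606 (iv F6184) D8199 D10481 F12819 (iv D9313) F6177
theorem F13556 : act 1 n10481 = n10158 := d15_5 (iv F4553) (iv F6062) D9258 F10978 D10481 F12867 (iv F11516) (iv D9527) (iv D6881) (iv D4039) D4040 F3027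
theorem F13557 : act 3 n10131 = n10481 := d5_0 F13556 (iv D10158) (iv F12817)
def n10482 : Q := act 2 n8200
theorem D10482 : act 2 n8200 = n10482 := rfl
theorem F13558 : act 4 n10482 = n10448 := d8_2 (iv F12438) D10482 (iv D10448) (iv D8169) F4216 D7479 D9984
theorem F13559 : act 0 n10482 = n10149 := d10_3 (iv F13553) F13552 D10482 (iv D10149) D10148 F12847 (iv F12805)
theorem F13560 : act 1 n10482 = n10345 := d14_2 D8200 D10482 (iv F13477) (iv D10441) (iv D8152) F4182 F1824 F678 D1235 D2784 D5251
theorem F13561 : act 3 n10344 = n10482 := d5_0 F13560 (iv D10345) D10344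
def n10483 : Q := act 3 n8200
theorem D10483 : act 3 n8200 = n10483 := rfl
theorem F13562 : act 1 n10483 = n8201 := d5_1 D10483 (iv D8201) D8200
theorem F13563 : act 2 n10483 = n10344 := d7_1 D10483 F13561 (iv D10482)
def n10484 : Q := act 0 n8201
theorem D10484 : act 0 n8201 = n10484 := rfl
theorem F13564 : act 3 n10484 = n9095 := d2_2 D8201 D10484 (iv D9095) (iv F8961) (iv D8205) (iv D5253) D5251
theorem F13565 : act 1 n10484 = n10239 := d14_4 D10344 (iv F13563) F13562 D10484 (iv D10239) F8270 F4006 F1738 D2665 D5052 D8001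
def n10485 : Q := act 4 n8201
theorem D10485 : act 4 n8201 = n10485 := rfl
theorem F13566 : act 3 n10485 = n8215 := d12_2 D8201 D10485 F8978 (iv F8963) (iv D8206) (iv D5253) D5251
def n10486 : Q := act 3 n8202
theorem D10486 : act 3 n8202 = n10486 := rfl
theorem F13567 : act 4 n10486 = n8214 := d9_2 D8202 D10486 (iv D8214) D8215 (iv F13566) (iv D10485) (iv D8201)
def n10487 : Q := act 1 n8203
theorem D10487 : act 1 n8203 = n10487 := rfl
def n10488 : Q := act 3 n8203
theorem D10488 : act 3 n8203 = n10488 := rfl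
def n10489 : Q := act 2 n8207
theorem D10489 : act 2 n8207 = n10489 := rfl
theorem F13568 : act 1 n10489 = n8804 := d4_1 D10489 F10083 F5271 F2386 (iv F2368) F4257 D8207
theorem F13569 : act 3 n10489 = n8270 := d7_2 (iv F8965) D10489 (iv D8270)
theorem F13570 : act 4 n10489 = n8914 := d8_2 F8967 D10489 (iv D8914) (iv D6137) F2453 D3395 D6143
def n10490 : Q := act 3 n8210
theorem D10490 : act 3 n8210 = n10490 := rfl
theorem F13571 : act 0 n10490 = n8214 := d2_1 D10490 (iv D8214) (iv D5265) (iv D2793) D2791 D5263 D8210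
theorem F13572 : act 1 n10490 = n10241 := d5_1 D10490 (iv D10241) (iv F8975)
def n10491 : Q := act 1 n8211
theorem D10491 : act 1 n8211 = n10491 := rfl
def n10492 : Q := act 3 n8211
theorem D10492 : act 3 n8211 = n10492 := rfl
def n10493 : Q := act 0 n8213
theorem D10493 : act 0 n8213 = n10493 := rfl
theorem F13573 : act 1 n10493 = n8216 := d0_2 D8213 D10493 (iv D8216) (iv D5268) (iv D2795) (iv F1865) D5265
theorem F13574 : act 3 n10202 = n10493 := d5_0 F13573 F9320 D10202
def n10494 : Q := act 2 n8213
theorem D10494 : act 2 n8213 = n10494 := rfl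
theorem F13575 : act 4 n10494 = n10457 := d8_2 (iv F12443) D10494 (iv D10457) D10458 F13508 (iv D9987) D9986
theorem F13576 : act 0 n10494 = n10182 := d11_3 D9986 (iv F12443) D10494 F12910 F9139 F7643 D7484
theorem F13577 : act 1 n10494 = n10355 := d14_2 D8213 D10494 (iv F13483) (iv D10445) (iv D8163) (iv D5210) (iv D2763) F681 (iv F698) (iv F1865) D5265
theorem F13578 : act 3 n10354 = n10494 := d5_0 F13577 (iv D10355) D10354
def n10495 : Q := act 3 n8213
theorem D10495 : act 3 n8213 = n10495 := rfl
theorem F13579 : act 1 n10495 = n8214 := d5_1 D10495 (iv D8214) D8213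
theorem F13580 : act 2 n10495 = n10354 := d7_1 D10495 F13578 (iv D10494)
def n10496 : Q := act 0 n8217
theorem D10496 : act 0 n8217 = n10496 := rfl
theorem F13581 : act 4 n10496 = n10060 := d3_2 F11135 D10496 F12637
theorem F13582 : act 2 n10496 = n10206 := d11_4 D6626 F6537 D8217 D10496 F12956 (iv D9338) F6215
theorem F13583 : act 1 n10496 = n10177 := d15_5 (iv F4567) (iv F6082) (iv F10983) F10982 D10496 F12904 (iv F11526) (iv D9530) (iv D6887) (iv D4045) (iv F3038) F3037
theorem F13584 : act 3 n10176 = n10496 := d5_0 F13583 (iv D10177) D10176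
def n10497 : Q := act 1 n8218
theorem D10497 : act 1 n8218 = n10497 := rfl
theorem F13585 : act 0 n10497 = n8294 := d0_1 D10497 (iv D8294) (iv D5387) F1922 (iv F1869) D5274 D8218
theorem F13586 : act 4 n10497 = n9684 := d6_2 (iv F8979) D10497 (iv D9684)
def n10498 : Q := act 2 n8218
theorem D10498 : act 2 n8218 = n10498 := rfl
theorem F13587 : act 4 n10498 = n9604 := d8_2 (iv F8979) D10498 (iv F11664) (iv D7043) D7041 D9677 F11804
theorem F13588 : act 1 n9605 = n10498 := d6_3 F13587 (iv D9604) D9605
def n10499 : Q := act 3 n8218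
theorem D10499 : act 3 n8218 = n10499 := rfl
theorem F13589 : act 4 n10499 = n9643 := d9_2 (iv F8979) D10499 (iv D9643) (iv F8953) D10478 F13549 (iv D9685)
def n10500 : Q := act 0 n8219
theorem D10500 : act 0 n8219 = n10500 := rfl
theorem F13590 : act 4 n10500 = n9678 := d3_2 (iv F8982) D10500 (iv D9678)
theorem F13591 : act 2 n10500 = n9683 := d11_4 D4165 (iv F5752) D8219 D10500 (iv D9683) (iv D7051) F3124
def n10501 : Q := act 0 n8222
theorem D10501 : act 0 n8222 = n10501 := rfl
theorem F13592 : act 1 n10501 = n9893 := d0_2 (iv F8987) D10501 (iv F13292) F13293 F11976 (iv F8885) F8884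
theorem F13593 : act 2 n10501 = n10283 := d1_2 (iv F8988) D10501 F13134 (iv F13168) (iv D10294) (iv D7902) (iv F8406)
theorem F13594 : act 3 n10501 = n9895 := d2_2 D8222 D10501 F12233 F12651 F12649 (iv F12339) (iv D8221)
theorem F13595 : act 4 n9892 = n10501 := d9_0 F13594 (iv D9895) (iv D7379) (iv F4284) D8225 F8999 D9892
def n10502 : Q := act 4 n8222
theorem D10502 : act 4 n8222 = n10502 := rfl
theorem F13596 : act 0 n10502 = n9892 := d3_1 D10502 F13595 (iv D10501)
theorem F13597 : act 1 n10502 = n8224 := d6_1 D10502 (iv D8224) (iv F8987)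
theorem F13598 : act 2 n10502 = n8290 := d8_1 D10502 (iv D8290) D8289 F9122 (iv D7899) D7901 (iv F8988)
theorem F13599 : act 3 n10502 = n8227 := d9_1 D10502 (iv D8227) (iv D5287) D5288 F8991 (iv D8223) D8222
def n10503 : Q := act 3 n8229
theorem D10503 : act 3 n8229 = n10503 := rfl
theorem F13600 : act 1 n10503 = n8836 := d5_1 D10503 (iv F11017) F11016
theorem F13601 : act 2 n10503 = n8877 := d7_1 D10503 (iv D8877) (iv F9005)
theorem F13602 : act 4 n10503 = n8835 := d12_1 D10503 (iv F10341) F10339 (iv F5982) (iv F9008) (iv D8230) D8229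
def n10504 : Q := act 0 n8230
theorem D10504 : act 0 n8230 = n10504 := rfl
theorem F13603 : act 1 n10504 = n8841 := d0_2 (iv F9006) D10504 F10157 F5392 F2429 (iv F2426) F5022
theorem F13604 : act 4 n10504 = n8839 := d3_2 (iv F9008) D10504 (iv D8839)
def n10505 : Q := act 4 n8231
theorem D10505 : act 4 n8231 = n10505 := rfl
theorem F13605 : act 0 n10505 = n8530 := d3_1 D10505 (iv D8530) (iv F9011)
theorem F13606 : act 1 n10505 = n8495 := d6_1 D10505 (iv D8495) (iv F9009)
theorem F13607 : act 2 n10505 = n8542 := d11_2 (iv F9010) D10505 (iv D8542) (iv D5672) (iv D3048) D3046 (iv F4695)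
theorem F13608 : act 3 n10505 = n8311 := d12_2 D8231 D10505 (iv D8311) F4396 (iv D5294) (iv F1883) D5297
def n10506 : Q := act 3 n8232
theorem D10506 : act 3 n8232 = n10506 := rfl
theorem F13609 : act 1 n10506 = n8790 := d5_1 D10506 (iv D8790) (iv F9013)
theorem F13610 : act 2 n10506 = n8525 := d7_1 D10506 (iv D8525) (iv F9014)
theorem F13611 : act 0 n10506 = n8549 := d10_1 D10506 (iv D8549) (iv D5682) (iv D3052) D3050 (iv F4300) (iv F9012)
def n10507 : Q := act 0 n8233
theorem D10507 : act 0 n8233 = n10507 := rfl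
theorem F13612 : act 1 n10507 = n8776 := d0_2 (iv F9015) D10507 F10019 F8661 F6036 (iv F6043) F6042
theorem F13613 : act 2 n10507 = n8527 := d1_2 (iv F9016) D10507 (iv D8527) F4702 D5657 D8528 F9560
theorem F13614 : act 3 n10507 = n8775 := d12_4 (iv F1883) D5298 D8233 D10507 (iv D8775) F5217 (iv D5293)
def n10508 : Q := act 0 n8234
theorem D10508 : act 0 n8234 = n10508 := rfl
theorem F13615 : act 1 n10508 = n8486 := d0_2 D8234 D10508 (iv F11859) F11860 F6971 F6053 F6040
theorem F13616 : act 4 n10508 = n8485 := d3_2 F9096 D10508 F9453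
theorem F13617 : act 2 n10508 = n8882 := d10_2 (iv F9018) D10508 F10218 F9627 (iv F9888) F9890 (iv D8261)
def n10509 : Q := act 1 n8235
theorem D10509 : act 1 n8235 = n10509 := rfl
theorem F13618 : act 0 n10509 = n8336 := d0_1 D10509 F9203 F7287 F4452 F4207 D5301 D8235
theorem F13619 : act 2 n10509 = n8326 := d15_6 (iv D1252) (iv F706) D2815 D5301 D8235 D10509 F9191 (iv F9184) F9183 (iv D8238) (iv D5305) (iv D2817)
theorem F13620 : act 4 n8318 = n10509 := d17_0 (iv D10509) (iv F9622) (iv D8568) D8566 F9617 F9442 F4798 (iv F4758) (iv F7286) (iv D7247) (iv F4478) (iv F9178)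
def n10510 : Q := act 3 n8235
theorem D10510 : act 3 n8235 = n10510 := rfl
def n10511 : Q := act 4 n8235
theorem D10511 : act 4 n8235 = n10511 := rfl
theorem F13621 : act 0 n10511 = n8237 := d3_1 D10511 (iv D8237) D8235
theorem F13622 : act 1 n10511 = n8318 := d6_1 D10511 F13620 (iv D10509)
theorem F13623 : act 2 n10511 = n9328 := d11_2 F9622 D10511 F11117 (iv F11230) F11229 (iv D8570) (iv F9620)
def n10512 : Q := act 0 n8236
theorem D10512 : act 0 n8236 = n10512 := rfl
theorem F13624 : act 2 n10512 = n8890 := d10_2 D8236 D10512 F10228 (iv D8571) (iv F9620) F9622 (iv D8235)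
def n10513 : Q := act 3 n8238
theorem D10513 : act 3 n8238 = n10513 := rfl
theorem F13625 : act 1 n10513 = n9926 := d5_1 D10513 F12308 F9183
theorem F13626 : act 2 n10513 = n9236 := d7_1 D10513 (iv F10934) (iv F9185)
theorem F13627 : act 4 n9925 = n10513 := d17_3 (iv D9695) D9694 (iv F12305) F13626 F10933 (iv F8019) F8020 D9422 F12797 F12798 (iv F13121) F13120
def n10514 : Q := act 4 n8240
theorem D10514 : act 4 n8240 = n10514 := rfl
theorem F13628 : act 0 n10514 = n9821 := d3_1 D10514 F12061 F10167
theorem F13629 : act 1 n10514 = n8242 := d6_1 D10514 (iv D8242) (iv F9022)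
theorem F13630 : act 2 n10514 = n8257 := d8_1 D10514 (iv D8257) D8255 (iv F10165) F10163 (iv F9834) F9832
theorem F13631 : act 3 n10514 = n8257 := d12_2 D8240 D10514 F12192 (iv F12306) F13627 (iv D10513) (iv D8238)
def n10515 : Q := act 2 n8241
theorem D10515 : act 2 n8241 = n10515 := rfl
theorem F13632 : act 0 n10515 = n9829 := d1_1 D10515 (iv D9829) D9828 F12073 (iv D9698) (iv F9180) F9179
theorem F13633 : act 1 n10515 = n8243 := d4_1 D10515 F9028 (iv F9072) F9073 F4352 (iv F4308) (iv F9023)
theorem F13634 : act 4 n10515 = n8256 := d8_2 D8241 D10515 (iv F9714) F9715 (iv F10113) F10115 (iv D8239)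
theorem F13635 : act 3 n8241 = n10515 := d9_7 F13634 (iv D8256) D8257 (iv F13631) (iv D10514) (iv D8240) D8241
def n10516 : Q := act 3 n8244
theorem D10516 : act 3 n8244 = n10516 := rfl
theorem F13636 : act 2 n10516 = n8245 := d7_1 D10516 (iv D8245) D8244
theorem F13637 : act 0 n10516 = n9007 := d16_8 D1655 (iv F2517) (iv D3459) (iv F2506) D6200 D8967 F10389 D10516 (iv D9007) (iv D6245) F2542 F961
theorem F13638 : act 4 n10516 = n9404 := d17_0 F11256 (iv D8381) (iv D5489) F1970 F731 (iv F589) (iv F1602) F1603 D3481 D6245 D9007 (iv F13637)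
def n10517 : Q := act 3 n8246
theorem D10517 : act 3 n8246 = n10517 := rfl
theorem F13639 : act 2 n10517 = n9391 := d7_1 D10517 (iv F11225) (iv F9033)
theorem F13640 : act 4 n10517 = n9382 := d12_1 D10517 F11203 (iv D6739) (iv F6309) (iv F9036) (iv D8247) D8246
def n10518 : Q := act 0 n8247
theorem D10518 : act 0 n8247 = n10518 := rfl
theorem F13641 : act 4 n10518 = n9412 := d3_2 (iv F9036) D10518 (iv D9412)
theorem F13642 : act 2 n10518 = n9416 := d11_4 D3862 F5738 (iv F9035) D10518 (iv D9416) (iv D6690) F2887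
theorem F13643 : act 3 n10518 = n9427 := d12_4 (iv F4844) F4440 D8247 D10518 (iv D9427) (iv D6706) F2908
theorem F13644 : act 1 n10518 = n10167 := d17_7 D1316 F1992 D5527 F5318 (iv F5858) (iv F9034) D10518 (iv D10167) (iv D7738) F3838 F1626 F599
def n10519 : Q := act 2 n8248
theorem D10519 : act 2 n8248 = n10519 := rfl
theorem F13645 : act 1 n10519 = n10403 := d4_1 D10519 F13396 (iv F13356) (iv D10384) F8721 (iv F8673) (iv F9039)
theorem F13646 : act 3 n10519 = n9443 := d7_2 (iv F9038) D10519 F11346
theorem F13647 : act 4 n10519 = n9411 := d8_2 (iv F9037) D10519 (iv D9411) (iv D6685) D6683 D9410 F11273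
def n10520 : Q := act 3 n8251
theorem D10520 : act 3 n8251 = n10520 := rfl
theorem F13648 : act 2 n10520 = n9396 := d7_1 D10520 F11236 (iv F9047)
theorem F13649 : act 4 n10520 = n9384 := d9_2 (iv F9046) D10520 (iv D9384) (iv F9032) D10517 F13640 F11203
def n10521 : Q := act 3 n8252
theorem D10521 : act 3 n8252 = n10521 := rfl
theorem F13650 : act 0 n10521 = n9043 := d2_1 D10521 (iv F12795) F12796 (iv D8249) (iv F5531) D8971 F10401
theorem F13651 : act 2 n10521 = n8253 := d7_1 D10521 (iv D8253) D8252
theorem F13652 : act 4 n10521 = n9405 := d9_2 (iv F9048) D10521 (iv D9405) (iv F9030) D10516 F13638 F11257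
def n10522 : Q := act 3 n8254
theorem D10522 : act 3 n8254 = n10522 := rfl
theorem F13653 : act 1 n10522 = n9958 := d5_1 D10522 F12374 F9381
theorem F13654 : act 2 n10522 = n9246 := d7_1 D10522 F10957 F9382
theorem F13655 : act 4 n10522 = n9957 := d9_2 F12193 D10522 F12372 (iv F9181) D10513 (iv F13627) F12306
def n10523 : Q := act 3 n8259
theorem D10523 : act 3 n8259 = n10523 := rfl
theorem F13656 : act 1 n10523 = n8837 := d5_1 D10523 (iv F11405) F11404
theorem F13657 : act 2 n10523 = n8876 := d7_1 D10523 F10208 F9545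
def n10524 : Q := act 0 n8260
theorem D10524 : act 0 n8260 = n10524 := rfl
theorem F13658 : act 1 n10524 = n8688 := d0_2 (iv F9055) D10524 F9883 (iv D6791) (iv D3949) D3950 D6792
theorem F13659 : act 2 n10524 = n8891 := d1_2 D8260 D10524 F10230 F9547 (iv F4706) D7342 F7441
theorem F13660 : act 4 n10524 = n10507 := d3_2 (iv F9054) D10524 (iv D10507)
def n10525 : Q := act 1 n8261
theorem D10525 : act 1 n8261 = n10525 := rfl
theorem F13661 : act 0 n10525 = n8458 := d0_1 D10525 F9387 F7283 F5112 F4212 D5331 D8261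
theorem F13662 : act 2 n10525 = n8450 := d15_6 F708 D1257 D2829 D5331 D8261 D10525 F9374 D8454 F9381 (iv D8254) (iv D5321) (iv D2825)
theorem F13663 : act 4 n9825 = n10525 := d17_0 (iv D10525) (iv F9890) (iv D8690) (iv F9831) F9830 (iv D7219) (iv D4323) D4324 D7223 F7248 D7242 D9825
def n10526 : Q := act 3 n8261
theorem D10526 : act 3 n8261 = n10526 := rfl
def n10527 : Q := act 4 n8261
theorem D10527 : act 4 n8261 = n10527 := rfl
theorem F13664 : act 0 n10527 = n8262 := d3_1 D10527 (iv D8262) D8261
theorem F13665 : act 1 n10527 = n9825 := d6_1 D10527 F13663 (iv D10525)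
theorem F13666 : act 2 n10527 = n9482 := d11_2 F9890 D10527 F11415 (iv F11364) F11363 (iv D8692) (iv F9888)
def n10528 : Q := act 0 n8263
theorem D10528 : act 0 n8263 = n10528 := rfl
theorem F13667 : act 1 n10528 = n8811 := d0_2 D8263 D10528 F10100 F5340 F2397 (iv F2369) (iv F5283)
theorem F13668 : act 2 n10528 = n8697 := d1_2 (iv F9057) D10528 (iv D8697) (iv D5913) (iv D3211) D3212 D5914
theorem F13669 : act 4 n10528 = n8311 := d3_2 (iv F9059) D10528 (iv D8311)
def n10529 : Q := act 3 n8265
theorem D10529 : act 3 n8265 = n10529 := rfl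
theorem F13670 : act 1 n10529 = n8267 := d5_1 D10529 (iv D8267) (iv F9064)
def n10530 : Q := act 0 n8267
theorem D10530 : act 0 n8267 = n10530 := rfl
theorem F13671 : act 2 n10530 = n9188 := d1_2 F11757 D10530 (iv D9188) F5901 D6431 (iv F8457) (iv F11755)
theorem F13672 : act 3 n10530 = n9183 := d2_2 D8267 D10530 F10811 (iv F7395) F7397 (iv D5347) (iv F4344)
theorem F13673 : act 1 n10218 = n10530 := d5_3 F13672 F10812 D10218
theorem F13674 : act 4 n10530 = n10322 := d6_2 (iv F12991) F13673 (iv D10322)
def n10531 : Q := act 4 n8267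
theorem D10531 : act 4 n8267 = n10531 := rfl
theorem F13675 : act 0 n10531 = n10322 := d3_1 D10531 (iv F13674) (iv D10530)
theorem F13676 : act 2 n10531 = n9553 := d8_1 D10531 (iv D9553) (iv F11564) F11565 F9839 (iv F11758) F11757
theorem F13677 : act 3 n10531 = n8317 := d9_1 D10531 (iv F12206) F12205 (iv D8266) (iv D5343) D5344 D8267
theorem F13678 : act 1 n10531 = n10021 := d16_3 F9069 D8317 (iv F13677) (iv D10021) (iv F11545) F11544 F8767 F5397 (iv F5092) D8689 F9885 (iv F9067)
theorem F13679 : act 4 n10021 = n10529 := d6_2 D10531 F13678 F13670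
def n10532 : Q := act 2 n8271
theorem D10532 : act 2 n8271 = n10532 := rfl
theorem F13680 : act 0 n10532 = n8401 := d1_1 D10532 F9322 F9084 (iv F5826) (iv F10712) (iv F12526) F12525
theorem F13681 : act 1 n10532 = n8327 := d4_1 D10532 (iv F10071) F10070 F6750 (iv F6767) F6768 D8271
theorem F13682 : act 3 n10532 = n10148 := d7_2 (iv F12430) D10532 F12847
theorem F13683 : act 4 n10532 = n9125 := d8_2 (iv F9423) D10532 F10697 (iv D8265) F4339 D5580 D8471
def n10533 : Q := act 3 n8273
theorem D10533 : act 3 n8273 = n10533 := rfl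
theorem F13684 : act 0 n10533 = n10438 := d2_1 D10533 F13469 (iv D9923) F7563 (iv F9071) (iv F9074) (iv F9079)
theorem F13685 : act 1 n10533 = n9896 := d5_1 D10533 F12236 F9421
theorem F13686 : act 2 n10533 = n9664 := d7_1 D10533 (iv D9664) F9422
theorem F13687 : act 4 n10533 = n8315 := d9_2 D8273 D10533 (iv D8315) D8316 F12423 (iv F12424) (iv D8272)
def n10534 : Q := act 3 n8275
theorem D10534 : act 3 n8275 = n10534 := rfl
theorem F13688 : act 1 n10534 = n8276 := d5_1 D10534 (iv D8276) D8275
theorem F13689 : act 4 n10534 = n8473 := d12_1 D10534 (iv F9431) (iv D7314) D7316 F9105 (iv D8283) (iv F9084)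
def n10535 : Q := act 0 n8276
theorem D10535 : act 0 n8276 = n10535 := rfl
theorem F13690 : act 3 n10535 = n8586 := d2_2 D8276 D10535 (iv D8586) F4785 F4776 (iv D5362) D5360
theorem F13691 : act 1 n10535 = n10246 := d13_2 (iv F9086) D10535 F13043 (iv D9502) (iv F8269) F8270 F4006 D5034 D7973 (iv F9607) F9606
def n10536 : Q := act 4 n8276
theorem D10536 : act 4 n8276 = n10536 := rfl
theorem F13692 : act 1 n10536 = n8473 := d6_1 D10536 (iv F13689) F13688
theorem F13693 : act 3 n10536 = n8307 := d12_2 D8276 D10536 F9163 F9095 (iv D8280) (iv D5362) D5360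
def n10537 : Q := act 3 n8277
theorem D10537 : act 3 n8277 = n10537 := rfl
theorem F13694 : act 1 n10537 = n8475 := d5_1 D10537 (iv D8475) (iv F9088)
theorem F13695 : act 4 n10537 = n8306 := d9_2 D8277 D10537 (iv D8306) D8307 (iv F13693) (iv D10536) (iv D8276)
def n10538 : Q := act 3 n8278
theorem D10538 : act 3 n8278 = n10538 := rfl
theorem F13696 : act 1 n10538 = n9805 := d5_1 D10538 F12030 F9506
theorem F13697 : act 4 n10538 = n9804 := d12_1 D10538 F12027 (iv D8665) (iv F5018) F9091 (iv D8279) D8278
def n10539 : Q := act 0 n8279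
theorem D10539 : act 0 n8279 = n10539 := rfl
theorem F13698 : act 1 n10539 = n9808 := d0_2 (iv F9089) D10539 F12034 F7241 F3261 (iv F3257) (iv F5019)
theorem F13699 : act 2 n10539 = n8693 := d1_2 (iv F9090) D10539 (iv D8693) (iv D5907) F2309 D3210 F4776
theorem F13700 : act 4 n10539 = n8666 := d3_2 F9091 D10539 (iv D8666)
def n10540 : Q := act 1 n8286
theorem D10540 : act 1 n8286 = n10540 := rfl
theorem F13701 : act 0 n10540 = n10348 := d0_1 D10540 F13268 F11947 F7180 (iv D5523) (iv F4359) D8286
theorem F13702 : act 3 n10540 = n9839 := d5_2 (iv F9113) D10540 F12102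
theorem F13703 : act 4 n10540 = n9755 := d6_2 (iv F9111) D10540 (iv D9755)
def n10541 : Q := act 0 n8289
theorem D10541 : act 0 n8289 = n10541 := rfl
theorem F13704 : act 1 n10541 = n10004 := d0_2 F9727 D10541 F12484 F11962 F7175 (iv F7177) (iv F9726)
theorem F13705 : act 2 n10541 = n10295 := d1_2 D8289 D10541 (iv D10295) (iv D7905) F3938 D4962 (iv F8525)
theorem F13706 : act 3 n10541 = n10005 := d2_2 (iv F9121) D10541 F12486 F12713 F12710 (iv F13176) F13174
theorem F13707 : act 4 n10541 = n10003 := d3_2 (iv F9122) D10541 F12481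
def n10542 : Q := act 2 n8296
theorem D10542 : act 2 n8296 = n10542 := rfl
theorem F13708 : act 0 n10542 = n10300 := d1_1 D10542 F13180 (iv F13185) F13187 F12336 F9002 (iv F9136)
theorem F13709 : act 1 n10542 = n9371 := d4_1 D10542 (iv D9371) F6244 F3560 (iv F3603) (iv F7643) F9137
theorem F13710 : act 3 n10542 = n9950 := d7_2 (iv F9138) D10542 F12364
theorem F13711 : act 4 n10542 = n10299 := d8_2 D8296 D10542 F13179 F8439 (iv D6906) (iv F3958) (iv F4370)
def n10543 : Q := act 2 n8297
theorem D10543 : act 2 n8297 = n10543 := rfl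
theorem F13712 : act 0 n10543 = n9433 := d1_1 D10543 (iv F11720) (iv F13181) F13183 F12323 F8990 D8297
theorem F13713 : act 1 n10543 = n9376 := d4_1 D10543 (iv D9376) F6253 F3562 (iv F3601) D7480 (iv F9141)
theorem F13714 : act 3 n10543 = n9954 := d7_2 F12237 D10543 F12368
theorem F13715 : act 4 n10543 = n10298 := d8_2 (iv F9140) D10543 F13178 (iv D7920) (iv D4979) D4980 D7921
def n10544 : Q := act 0 n8300
theorem D10544 : act 0 n8300 = n10544 := rfl
theorem F13716 : act 4 n10544 = n9834 := d3_2 F9150 D10544 (iv D9834)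
theorem F13717 : act 2 n10544 = n8352 := d10_2 D8300 D10544 F9238 (iv D8009) (iv D5058) D5059 (iv F4384)
theorem F13718 : act 1 n10544 = n10282 := d14_4 F7326 F7119 (iv F9149) D10544 (iv D10282) (iv F8850) (iv F9573) F9575 D8559 (iv F10588) F10589
def n10545 : Q := act 3 n8303
theorem D10545 : act 3 n8303 = n10545 := rfl
theorem F13719 : act 1 n10545 = n8306 := d5_1 D10545 (iv D8306) (iv F9155)
theorem F13720 : act 4 n10545 = n8475 := d9_2 (iv F9156) D10545 (iv D8475) F9085 D10534 F13689 (iv F9431)
def n10546 : Q := act 0 n8305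
theorem D10546 : act 0 n8305 = n10546 := rfl
theorem F13721 : act 1 n10546 = n8812 := d0_2 D8305 D10546 (iv D8812) (iv D6027) F2396 (iv F3669) (iv F4388)
theorem F13722 : act 2 n10546 = n8466 := d1_2 (iv F9160) D10546 F9407 (iv F9356) (iv D8430) F4564 (iv F5496)
theorem F13723 : act 4 n10546 = n9862 := d3_2 (iv F9161) D10546 (iv D9862)
def n10547 : Q := act 0 n8306
theorem D10547 : act 0 n8306 = n10547 := rfl
theorem F13724 : act 3 n10547 = n8565 := d2_2 D8306 D10547 (iv D8565) F4755 (iv F5757) (iv D5410) D5408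
theorem F13725 : act 1 n10547 = n10244 := d13_2 (iv F9162) D10547 F13041 (iv D9519) (iv F8272) F8273 (iv D5037) (iv F4012) D7976 (iv F9610) F9609
def n10548 : Q := act 3 n8308
theorem D10548 : act 3 n8308 = n10548 := rfl
theorem F13726 : act 1 n10548 = n9806 := d5_1 D10548 F12032 F9878
def n10549 : Q := act 0 n8309
theorem D10549 : act 0 n8309 = n10549 := rfl
theorem F13727 : act 1 n10549 = n9817 := d0_2 (iv F9165) D10549 (iv D9817) (iv D7232) (iv D4331) (iv F3258) (iv F4882)
theorem F13728 : act 2 n10549 = n8573 := d1_2 (iv F9166) D10549 (iv D8573) (iv D5707) F2141 D3070 (iv F5757)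
theorem F13729 : act 4 n10549 = n8566 := d3_2 (iv F9167) D10549 F9616
def n10550 : Q := act 0 n8310
theorem D10550 : act 0 n8310 = n10550 := rfl
theorem F13730 : act 1 n10550 = n9878 := d0_2 (iv F9168) D10550 (iv D9878) (iv D7333) (iv D4478) D4479 D7336
theorem F13731 : act 4 n10550 = n10512 := d3_2 (iv F9170) D10550 (iv D10512)
theorem F13732 : act 2 n10550 = n8945 := d10_2 (iv F9169) D10550 (iv F12165) (iv F12166) (iv F11415) (iv F13666) F13664
theorem F13733 : act 3 n10550 = n10323 := d16_2 (iv F9169) D10550 (iv D10323) (iv D7980) F4015 F2033 D5586 (iv F4648) (iv F9482) (iv F12068) (iv F13665) F13664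
def n10551 : Q := act 2 n8313
theorem D10551 : act 2 n8313 = n10551 := rfl
theorem F13734 : act 0 n10551 = n8432 := d1_1 D10551 F9358 (iv D8303) (iv F5874) (iv F10790) (iv F12550) F12549
theorem F13735 : act 1 n10551 = n8451 := d4_1 D10551 (iv F10094) F10093 F9356 (iv F9408) (iv D8314) D8313
theorem F13736 : act 4 n10551 = n9172 := d11_1 D10551 F10786 (iv D8872) (iv F5870) D9175 (iv F12550) F12549
theorem F13737 : act 3 n10181 = n10551 := d12_0 F13736 (iv F12420) F12419 D9982 (iv F12911) (iv D10182) D10181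
def n10552 : Q := act 3 n8313
theorem D10552 : act 3 n8313 = n10552 := rfl
theorem F13738 : act 1 n10552 = n8315 := d5_1 D10552 (iv D8315) D8313
theorem F13739 : act 2 n10552 = n10181 := d7_1 D10552 F13737 (iv D10551)
theorem F13740 : act 4 n10552 = n9896 := d9_2 F12428 D10552 F12236 (iv F9423) F12430 (iv D9980) D9979
theorem F13741 : act 0 n10552 = n10202 := d10_1 D10552 (iv F13371) (iv D10389) F8743 (iv F10790) (iv F12550) F12549
def n10553 : Q := act 1 n8317
theorem D10553 : act 1 n8317 = n10553 := rfl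
theorem F13742 : act 0 n10553 = n8873 := d0_1 D10553 F10204 F5426 (iv F4215) F5307 D5434 D8317
theorem F13743 : act 2 n10553 = n8685 := d4_2 (iv F9420) D10553 F9872 (iv D7366) (iv D4521) D4522 D7368
theorem F13744 : act 3 n10553 = n10021 := d5_2 F13677 D10553 (iv F13678)
theorem F13745 : act 4 n10553 = n8872 := d6_2 F12206 D10553 (iv F12207)
def n10554 : Q := act 1 n8321
theorem D10554 : act 1 n8321 = n10554 := rfl
theorem F13746 : act 0 n10554 = n9209 := d0_1 D10554 F10868 (iv D8655) F4975 D5828 (iv F4977) (iv F9186)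
theorem F13747 : act 3 n10554 = n9531 := d5_2 (iv F9187) D10554 (iv D9531)
def n10555 : Q := act 4 n8321
theorem D10555 : act 4 n8321 = n10555 := rfl
theorem F13748 : act 0 n10555 = n8361 := d3_1 D10555 F9252 (iv F9186)
theorem F13749 : act 3 n9525 = n10555 := d12_2 F9198 D9525 F13748 (iv D8361) (iv D5472) D5471 (iv F9199)
def n10556 : Q := act 0 n8322
theorem D10556 : act 0 n8322 = n10556 := rfl
theorem F13750 : act 1 n10556 = n9910 := d0_2 D8322 D10556 F12278 (iv F7527) D7741 F8131 F7568
theorem F13751 : act 3 n10556 = n9157 := d2_2 (iv F9188) D10556 F10757 F8696 D8089 (iv F9375) (iv D8451)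
theorem F13752 : act 2 n10556 = n9158 := d10_2 (iv F9188) D10556 F10760 (iv D8809) D8807 F10094 (iv D8451)
theorem F13753 : act 4 n10556 = n9908 := d17_0 (iv D9908) F7524 (iv D4559) (iv D2322) (iv F1021) (iv F2680) F2678 (iv F1945) D2891 D5443 D8322 D10556
def n10557 : Q := act 4 n8322
theorem D10557 : act 4 n8322 = n10557 := rfl
theorem F13754 : act 0 n10557 = n9908 := d3_1 D10557 (iv F13753) (iv D10556)
theorem F13755 : act 1 n10557 = n8323 := d6_1 D10557 (iv D8323) D8322
theorem F13756 : act 2 n9150 = n10557 := d4_0 F13755 (iv F12307) (iv F13625) F13626 F10933 (iv F8000) (iv F10741)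
theorem F13757 : act 3 n8330 = n10557 := d5_0 F13755 F12309 (iv F9196)
def n10558 : Q := act 2 n8324
theorem D10558 : act 2 n8324 = n10558 := rfl
theorem F13758 : act 0 n10558 = n8405 := d1_1 D10558 (iv D8405) (iv D5512) (iv D2930) D2929 D5510 (iv F9189)
theorem F13759 : act 1 n10558 = n9322 := d4_1 D10558 (iv D9322) F6193 (iv F9014) F9013 F5247 D8324
def n10559 : Q := act 3 n8324
theorem D10559 : act 3 n8324 = n10559 := rfl
theorem F13760 : act 0 n10559 = n8415 := d2_1 D10559 F9335 D8447 F9371 F9325 (iv D8402) (iv F9189)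
theorem F13761 : act 1 n10559 = n8325 := d5_1 D10559 (iv D8325) D8324
def n10560 : Q := act 4 n8324
theorem D10560 : act 4 n8324 = n10560 := rfl
theorem F13762 : act 0 n10560 = n8403 := d3_1 D10560 (iv D8403) (iv F9189)
theorem F13763 : act 1 n10560 = n8326 := d6_1 D10560 (iv D8326) D8324
def n10561 : Q := act 4 n8325
theorem D10561 : act 4 n8325 = n10561 := rfl
theorem F13764 : act 0 n10561 = n8371 := d3_1 D10561 (iv D8371) (iv F9190)
theorem F13765 : act 3 n10561 = n8450 := d12_2 D8325 D10561 F9374 (iv F12310) (iv D8332) (iv D5446) D5444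
theorem F13766 : act 3 n10446 = n8371 := d12_6 F13765 (iv D8450) (iv F9237) (iv D8351) (iv F8880) D10446 (iv F13764)
theorem F13767 : act 3 n10442 = n8353 := d9_5 D10446 F13766 (iv D8371) (iv F8848) D10442 (iv D8353) (iv F8880)
def n10562 : Q := act 3 n8326
theorem D10562 : act 3 n8326 = n10562 := rfl
theorem F13768 : act 4 n10562 = n8351 := d9_2 D8326 D10562 F9237 D8450 (iv F13765) (iv D10561) (iv D8325)
theorem F13769 : act 0 n10562 = n8353 := d12_3 (iv D8325) D8326 D10562 (iv F13767) (iv D10442) F8848 (iv F9190)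
def n10563 : Q := act 4 n8327
theorem D10563 : act 4 n8327 = n10563 := rfl
theorem F13770 : act 0 n10563 = n8330 := d3_1 D10563 (iv D8330) D8327
theorem F13771 : act 1 n10563 = n9125 := d6_1 D10563 (iv F13683) F13681
theorem F13772 : act 3 n10563 = n10391 := d12_2 (iv F9192) D10563 F13374 (iv F13342) (iv D10380) (iv D8058) D8056
theorem F13773 : act 2 n10563 = n9653 := d17_4 D6925 (iv F10070) F10071 D10563 (iv D9653) F6867 (iv F6692) F6693 (iv F6803) (iv D6966) (iv D4105) (iv F3070)
def n10564 : Q := act 0 n8329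
theorem D10564 : act 0 n8329 = n10564 := rfl
theorem F13774 : act 1 n10564 = n9917 := d0_2 (iv F9195) D10564 F12292 (iv F7558) D7759 F10054 (iv D8331)
theorem F13775 : act 3 n10564 = n9171 := d2_2 D8329 D10564 F10785 (iv D8058) D8056 (iv F9192) (iv D8327)
theorem F13776 : act 2 n10564 = n9156 := d10_2 D8329 D10564 F10754 (iv D8800) D8798 F10071 (iv D8327)
theorem F13777 : act 4 n10564 = n9916 := d17_0 (iv D9916) (iv F8625) (iv F8628) (iv D7426) (iv F5888) (iv F10799) F10800 (iv F7594) (iv D5449) (iv F4474) (iv F9195) D10564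
def n10565 : Q := act 4 n8329
theorem D10565 : act 4 n8329 = n10565 := rfl
theorem F13778 : act 0 n10565 = n9916 := d3_1 D10565 (iv F13777) (iv D10564)
theorem F13779 : act 1 n10565 = n8332 := d6_1 D10565 (iv D8332) (iv F9195)
theorem F13780 : act 3 n10565 = n8453 := d9_1 D10565 (iv D8453) (iv F9188) D10557 (iv F13757) (iv D8330) D8329
theorem F13781 : act 2 n9164 = n10565 := d7_3 F13780 F9379 D9164
def n10566 : Q := act 1 n8334
theorem D10566 : act 1 n8334 = n10566 := rfl
theorem F13782 : act 0 n10566 = n9208 := d0_1 D10566 F10867 (iv D8654) (iv D5825) D5824 (iv F6719) (iv F9199)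
theorem F13783 : act 3 n10566 = n9524 := d5_2 (iv F9198) D10566 (iv D9524)
def n10567 : Q := act 4 n8334
theorem D10567 : act 4 n8334 = n10567 := rfl
theorem F13784 : act 0 n10567 = n8360 := d3_1 D10567 (iv D8360) (iv F9199)
theorem F13785 : act 3 n10567 = n9532 := d9_1 D10567 (iv D9532) (iv F9187) D10555 (iv F13749) (iv D9525) (iv F9198)
def n10568 : Q := act 4 n8343
theorem D10568 : act 4 n8343 = n10568 := rfl
theorem F13786 : act 2 n10568 = n8356 := d8_1 D10568 (iv D8356) (iv F9219) (iv D8341) (iv D5456) D5458 D8343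
def n10569 : Q := act 4 n8344
theorem D10569 : act 4 n8344 = n10569 := rfl
theorem F13787 : act 0 n10569 = n9533 := d3_1 D10569 (iv F13328) F13308
theorem F13788 : act 1 n10569 = n10569 := d6_1 D10569 (iv D10569) F9224
theorem F13789 : act 3 n10569 = n8350 := d9_1 D10569 (iv D8350) (iv F9223) (iv D8342) (iv D5457) D5458 D8344
theorem F13790 : act 2 n10569 = n9262 := d11_2 (iv F11855) D10569 (iv F12318) (iv F12320) (iv D7440) (iv F7574) (iv F11854)
def n10570 : Q := act 1 n8345
theorem D10570 : act 1 n8345 = n10570 := rfl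
theorem F13791 : act 3 n10570 = n10473 := d5_2 F12342 D10570 F13539
theorem F13792 : act 4 n10462 = n10570 := d12_1 D10462 F13791 F13538 (iv F13529) (iv D10467) (iv D8186) D8184
def n10571 : Q := act 4 n8345
theorem D10571 : act 4 n8345 = n10571 := rfl
theorem F13793 : act 0 n10571 = n8346 := d3_1 D10571 (iv D8346) D8345
theorem F13794 : act 1 n10571 = n10462 := d6_1 D10571 F13792 (iv D10570)
theorem F13795 : act 2 n10571 = n8353 := d8_1 D10571 (iv D8353) (iv D5466) (iv D2904) D2903 D5465 (iv F9225)
theorem F13796 : act 3 n10461 = n10571 := d7_0 F13795 (iv F13767) (iv F13513)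
def n10572 : Q := act 1 n8347
theorem D10572 : act 1 n8347 = n10572 := rfl
theorem F13797 : act 3 n10572 = n10463 := d5_2 F12322 D10572 F13516
theorem F13798 : act 4 n10472 = n10572 := d9_0 F13797 (iv D10463) D10462 F13792 F13791 (iv D10473) D10472
def n10573 : Q := act 4 n8347
theorem D10573 : act 4 n8347 = n10573 := rfl
theorem F13799 : act 0 n10573 = n8348 := d3_1 D10573 (iv D8348) D8347
theorem F13800 : act 1 n10573 = n10472 := d6_1 D10573 F13798 (iv D10572)
theorem F13801 : act 2 n10573 = n8371 := d8_1 D10573 (iv D8371) (iv D5480) D5481 D8372 F9270 (iv F9231)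
theorem F13802 : act 3 n10573 = n10471 := d9_1 D10573 (iv F13537) F12342 D10571 (iv F13796) (iv F13514) F12322
def n10574 : Q := act 4 n8349
theorem D10574 : act 4 n8349 = n10574 := rfl
theorem F13803 : act 2 n10574 = n8369 := d11_2 D8349 D10574 F9269 (iv F9233) (iv D8348) F4497 D5463
def n10575 : Q := act 2 n8350
theorem D10575 : act 2 n8350 = n10575 := rfl
theorem F13804 : act 3 n10575 = n9262 := d7_2 F13789 D10575 (iv F13790)
theorem F13805 : act 4 n10575 = n8367 := d8_2 D8350 D10575 (iv D8367) D8369 (iv F13803) (iv D10574) (iv D8349)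
theorem F13806 : act 1 n9255 = n10575 := d16_3 (iv F6072) (iv F6088) (iv F10970) (iv D10575) F9236 F9235 F6446 D5567 (iv F8667) F8669 (iv D6791) (iv D3949)
def n10576 : Q := act 1 n8351
theorem D10576 : act 1 n8351 = n10576 := rfl
theorem F13807 : act 0 n10576 = n8418 := d0_1 D10576 F10664 (iv F12249) F12250 (iv F9238) (iv D8352) D8351
theorem F13808 : act 3 n10576 = n8431 := d5_2 (iv F9237) D10576 F9357
def n10577 : Q := act 2 n8354
theorem D10577 : act 2 n8354 = n10577 := rfl
theorem F13809 : act 1 n10577 = n9709 := d4_1 D10577 (iv F12773) (iv D10115) F8029 (iv F9218) F9219 D8354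
theorem F13810 : act 4 n10577 = n8677 := d11_1 D10577 (iv D8677) (iv D5878) F2299 (iv F2153) (iv F4811) (iv F9239)
theorem F13811 : act 3 n9705 = n10577 := d12_0 F13810 F9851 F7728 (iv D7527) D7528 (iv F12467) F12465
def n10578 : Q := act 3 n8354
theorem D10578 : act 3 n8354 = n10578 := rfl
theorem F13812 : act 0 n10578 = n9542 := d2_1 D10578 F11543 (iv D8084) F4810 (iv D5745) D5747 (iv F9239)
theorem F13813 : act 1 n10578 = n8355 := d5_1 D10578 (iv D8355) D8354
theorem F13814 : act 2 n10578 = n9705 := d7_1 D10578 F13811 (iv D10577)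
def n10579 : Q := act 4 n8354
theorem D10579 : act 4 n8354 = n10579 := rfl
theorem F13815 : act 0 n10579 = n8608 := d3_1 D10579 (iv D8608) (iv F9239)
theorem F13816 : act 1 n10579 = n8356 := d6_1 D10579 (iv D8356) D8354
def n10580 : Q := act 4 n8355
theorem D10580 : act 4 n8355 = n10580 := rfl
theorem F13817 : act 0 n10580 = n9532 := d3_1 D10580 (iv D9532) (iv F9240)
theorem F13818 : act 3 n10580 = n8369 := d12_2 D8355 D10580 F9269 F9230 (iv D2969) (iv F1962) D5467
def n10581 : Q := act 3 n8356
theorem D10581 : act 3 n8356 = n10581 := rfl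
theorem F13819 : act 0 n10581 = n9525 := d2_1 D10581 F13749 F13748 (iv D8361) F4504 (iv F9229) (iv F9242)
theorem F13820 : act 4 n10581 = n8368 := d9_2 D8356 D10581 (iv D8368) D8369 (iv F13818) (iv D10580) (iv D8355)
def n10582 : Q := act 2 n8366
theorem D10582 : act 2 n8366 = n10582 := rfl
theorem F13821 : act 1 n10582 = n9707 := d4_1 D10582 (iv F12786) (iv D10119) F10916 F9267 (iv D8367) D8366
theorem F13822 : act 4 n10582 = n8598 := d11_1 D10582 (iv D8598) (iv D5737) F2149 D3083 D5744 (iv F9268)
theorem F13823 : act 3 n9714 = n10582 := d9_7 F13822 F9671 D9705 F13811 F13810 F9851 (iv F11850)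
def n10583 : Q := act 3 n8366
theorem D10583 : act 3 n8366 = n10583 := rfl
theorem F13824 : act 0 n10583 = n9538 := d2_1 D10583 F11536 (iv D8061) F8567 (iv D5882) (iv F4808) (iv F9268)
theorem F13825 : act 1 n10583 = n8368 := d5_1 D10583 (iv D8368) D8366
theorem F13826 : act 2 n10583 = n9714 := d7_1 D10583 F13823 (iv D10582)
def n10584 : Q := act 4 n8366
theorem D10584 : act 4 n8366 = n10584 := rfl
theorem F13827 : act 0 n10584 = n8604 := d3_1 D10584 (iv D8604) (iv F9268)
theorem F13828 : act 1 n10584 = n8369 := d6_1 D10584 (iv D8369) D8366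
def n10585 : Q := act 2 n8370
theorem D10585 : act 2 n8370 = n10585 := rfl
theorem F13829 : act 1 n10585 = n10280 := d4_1 D10585 (iv D10280) (iv F8852) F8853 F4188 D5480 D8370
theorem F13830 : act 0 n10585 = n9839 := d10_3 F13271 (iv F12110) D10585 (iv F13702) F13701 F13269 D10349
theorem F13831 : act 4 n10585 = n9838 := d11_1 D10585 F12101 (iv D9030) F5620 D6266 D9036 (iv F12110)
def n10586 : Q := act 2 n8373
theorem D10586 : act 2 n8373 = n10586 := rfl
theorem F13832 : act 0 n10586 = n9291 := d1_1 D10586 (iv D9291) F6146 D6584 D9293 F11052 (iv F9272)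
def n10587 : Q := act 3 n8373
theorem D10587 : act 3 n8373 = n10587 := rfl
theorem F13833 : act 0 n10587 = n9006 := d2_1 D10587 (iv D9006) F5594 D6246 D9010 F10489 (iv F9272)
theorem F13834 : act 1 n10587 = n9545 := d5_1 D10587 (iv D9545) (iv F9273)
theorem F13835 : act 4 n8470 = n10587 := d6_0 F13834 (iv F11550) F9419
def n10588 : Q := act 1 n8374
theorem D10588 : act 1 n8374 = n10588 := rfl
def n10589 : Q := act 3 n8374
theorem D10589 : act 3 n8374 = n10589 := rfl
theorem F13836 : act 0 n10589 = n9301 := d2_1 D10589 (iv F12792) F12793 F8068 (iv F9291) (iv D8383) (iv F9274)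
theorem F13837 : act 2 n10589 = n8375 := d7_1 D10589 (iv D8375) D8374
def n10590 : Q := act 4 n8374
theorem D10590 : act 4 n8374 = n10590 := rfl
theorem F13838 : act 0 n10590 = n8384 := d3_1 D10590 (iv D8384) (iv F9274)
theorem F13839 : act 2 n10590 = n8378 := d8_1 D10590 (iv D8378) (iv D5486) (iv D2914) D2912 D5484 D8374
def n10591 : Q := act 4 n8375
theorem D10591 : act 4 n8375 = n10591 := rfl
theorem F13840 : act 0 n10591 = n9310 := d3_1 D10591 F11081 (iv F9275)
theorem F13841 : act 1 n10591 = n9549 := d6_1 D10591 (iv D9549) (iv F9276)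
theorem F13842 : act 3 n10591 = n8470 := d9_1 D10591 F13835 (iv D10587) (iv D8373) (iv D5483) D5484 D8375
theorem F13843 : act 2 n10591 = n8379 := d11_2 F13837 D10591 (iv F11529) (iv F11530) (iv D9302) D9301 (iv F13836)
def n10592 : Q := act 4 n8376
theorem D10592 : act 4 n8376 = n10592 := rfl
theorem F13844 : act 0 n10592 = n9303 := d3_1 D10592 (iv D9303) (iv F9277)
theorem F13845 : act 1 n10592 = n9621 := d6_1 D10592 (iv D9621) (iv F9279)
theorem F13846 : act 3 n10592 = n8378 := d12_2 (iv F9278) D10592 F9283 F11045 (iv D9287) F6141 (iv F5067)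
def n10593 : Q := act 4 n8377
theorem D10593 : act 4 n8377 = n10593 := rfl
theorem F13847 : act 0 n10593 = n9309 := d3_1 D10593 (iv D9309) (iv F9280)
theorem F13848 : act 1 n10593 = n9646 := d6_1 D10593 (iv D9646) (iv F9281)
theorem F13849 : act 3 n10593 = n8682 := d9_1 D10593 (iv D8682) (iv F9278) D10592 F13846 (iv D8378) D8377
def n10594 : Q := act 2 n8380
theorem D10594 : act 2 n8380 = n10594 := rfl
theorem F13850 : act 0 n10594 = n9005 := d1_1 D10594 (iv D9005) F5594 D6245 (iv F9287) (iv D8381) (iv F9286)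
def n10595 : Q := act 3 n8380
theorem D10595 : act 3 n8380 = n10595 := rfl
theorem F13851 : act 0 n10595 = n9292 := d2_1 D10595 (iv D9292) F6146 D6585 (iv F9288) (iv D8382) (iv F9286)
def n10596 : Q := act 4 n8381
theorem D10596 : act 4 n8381 = n10596 := rfl
theorem F13852 : act 0 n10596 = n9009 := d3_1 D10596 (iv D9009) (iv F9287)
theorem F13853 : act 1 n10596 = n10516 := d6_1 D10596 F13638 F11256
theorem F13854 : act 2 n10596 = n8388 := d8_1 D10596 (iv D8388) (iv D5492) (iv D2917) (iv F1970) D5489 D8381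
theorem F13855 : act 3 n8384 = n10596 := d7_0 F13854 F9297 (iv F9293)
def n10597 : Q := act 4 n8383
theorem D10597 : act 4 n8383 = n10597 := rfl
theorem F13856 : act 0 n10597 = n9044 := d3_1 D10597 (iv D9044) (iv F9291)
theorem F13857 : act 1 n10597 = n10521 := d6_1 D10597 F13652 F11258
theorem F13858 : act 2 n10597 = n8391 := d8_1 D10597 (iv D8391) F4522 D5496 (iv F9295) (iv D8386) (iv F9290)
theorem F13859 : act 3 n10597 = n8683 := d9_1 D10597 (iv F11355) F11354 D10596 (iv F13855) (iv D8384) D8383
def n10598 : Q := act 2 n8385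
theorem D10598 : act 2 n8385 = n10598 := rfl
theorem F13860 : act 0 n10598 = n9041 := d1_1 D10598 (iv D9041) (iv D6270) D6271 (iv F9291) F9290 D8385
def n10599 : Q := act 4 n8385
theorem D10599 : act 4 n8385 = n10599 := rfl
theorem F13861 : act 0 n10599 = n8386 := d3_1 D10599 (iv D8386) D8385
theorem F13862 : act 2 n10599 = n9289 := d11_2 (iv D10598) D10599 F11048 F10531 (iv D9042) D9041 (iv F13860)
def n10600 : Q := act 4 n8387
theorem D10600 : act 4 n8387 = n10600 := rfl
theorem F13863 : act 0 n10600 = n8388 := d3_1 D10600 (iv D8388) D8387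
def n10601 : Q := act 4 n8390
theorem D10601 : act 4 n8390 = n10601 := rfl
theorem F13864 : act 0 n10601 = n8391 := d3_1 D10601 (iv D8391) D8390
def n10602 : Q := act 1 n8392
theorem D10602 : act 1 n8392 = n10602 := rfl
theorem F13865 : act 0 n10602 = n10254 := d0_1 D10602 F13066 F10595 (iv F8735) (iv F9245) F9243 D8392
theorem F13866 : act 3 n10263 = n10602 := d10_0 F13865 (iv D10254) F8284 (iv F3904) (iv F3908) D7849 D10263
def n10603 : Q := act 2 n8392
theorem D10603 : act 2 n8392 = n10603 := rfl
def n10604 : Q := act 3 n8392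
theorem D10604 : act 3 n8392 = n10604 := rfl
theorem F13867 : act 0 n10604 = n10129 := d2_1 D10604 F12811 F11131 F6207 F6496 (iv F4529) D8392
theorem F13868 : act 1 n10604 = n10263 := d5_1 D10604 F13866 (iv D10602)
def n10605 : Q := act 0 n8393
theorem D10605 : act 0 n8393 = n10605 := rfl
theorem F13869 : act 1 n10605 = n10240 := d0_2 F12264 D10605 (iv D10240) (iv F8975) (iv D8210) (iv F8084) (iv F12263)
theorem F13870 : act 3 n10605 = n10201 := d2_2 (iv F9302) D10605 (iv D10201) (iv F9320) (iv D8216) (iv F6045) F6046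
def n10606 : Q := act 2 n8396
theorem D10606 : act 2 n8396 = n10606 := rfl
theorem F13871 : act 0 n10606 = n10132 := d1_1 D10606 (iv F13555) (iv D10481) (iv D8199) D8198 F9312 (iv F9309)
theorem F13872 : act 3 n10606 = n8468 := d7_2 (iv F9311) D10606 (iv D8468)
def n10607 : Q := act 3 n8397
theorem D10607 : act 3 n8397 = n10607 := rfl
theorem F13873 : act 0 n10607 = n10206 := d2_1 D10607 (iv D10206) (iv D7783) (iv F8080) D10125 F12803 (iv F11122)
theorem F13874 : act 2 n10607 = n8398 := d7_1 D10607 (iv D8398) D8397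
def n10608 : Q := act 1 n8399
theorem D10608 : act 1 n8399 = n10608 := rfl
theorem F13875 : act 0 n10608 = n10271 := d0_1 D10608 F13099 F10615 (iv F10380) F10379 F9256 D8399
theorem F13876 : act 3 n10318 = n10608 := d10_0 F13875 (iv D10271) F8314 F3911 (iv F4004) D7966 D10318
def n10609 : Q := act 2 n8399
theorem D10609 : act 2 n8399 = n10609 := rfl
def n10610 : Q := act 3 n8399
theorem D10610 : act 3 n8399 = n10610 := rfl
theorem F13877 : act 0 n10610 = n10204 := d2_1 D10610 F12949 F11090 (iv F6181) F6120 D5505 D8399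
theorem F13878 : act 1 n10610 = n10318 := d5_1 D10610 F13876 (iv D10608)
def n10611 : Q := act 0 n8400
theorem D10611 : act 0 n8400 = n10611 := rfl
theorem F13879 : act 1 n10611 = n10226 := d0_2 F12270 D10611 F12999 (iv F10631) (iv D9095) (iv F8100) (iv F12269)
theorem F13880 : act 3 n10611 = n10126 := d2_2 (iv F9321) D10611 (iv D10126) F9313 (iv D8198) (iv F6540) (iv F9314)
def n10612 : Q := act 3 n8401
theorem D10612 : act 3 n8401 = n10612 := rfl
theorem F13881 : act 0 n10612 = n10344 := d2_1 D10612 F13561 F13559 (iv D10149) D10148 (iv F13682) F13680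
theorem F13882 : act 1 n10612 = n8402 := d5_1 D10612 (iv D8402) D8401
theorem F13883 : act 2 n10612 = n10534 := d7_1 D10612 (iv D10534) (iv F9322)
theorem F13884 : act 4 n10612 = n9124 := d12_1 D10612 F10696 D9172 (iv F12420) (iv F12846) (iv F13682) F13680
def n10613 : Q := act 4 n8402
theorem D10613 : act 4 n8402 = n10613 := rfl
theorem F13885 : act 0 n10613 = n10341 := d3_1 D10613 (iv D10341) F9325
theorem F13886 : act 1 n10613 = n9124 := d6_1 D10613 (iv F13884) F13882
theorem F13887 : act 3 n8434 = n10613 := d5_0 F13886 F10696 (iv F9362)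
def n10614 : Q := act 2 n8403
theorem D10614 : act 2 n8403 = n10614 := rfl
theorem F13888 : act 1 n10614 = n9343 := d4_1 D10614 (iv D9343) F6561 (iv D6816) F2977 D6361 (iv F9326)
theorem F13889 : act 0 n10614 = n8413 := d11_3 D5510 D8403 D10614 (iv D8413) (iv D5515) (iv D2930) D2929
def n10615 : Q := act 3 n8403
theorem D10615 : act 3 n8403 = n10615 := rfl
theorem F13890 : act 1 n10615 = n9126 := d5_1 D10615 (iv D9126) (iv F9326)
theorem F13891 : act 4 n10615 = n8433 := d9_2 D8403 D10615 (iv D8433) D8434 F13887 (iv D10613) (iv D8402)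
theorem F13892 : act 0 n10358 = n10615 := d3_3 F13891 F9361 D10358
def n10616 : Q := act 4 n8404
theorem D10616 : act 4 n8404 = n10616 := rfl
theorem F13893 : act 1 n10616 = n8407 := d6_1 D10616 (iv D8407) D8404
theorem F13894 : act 2 n10616 = n9275 := d8_1 D10616 (iv D9275) F6100 (iv D5631) D5629 D8506 F9507
def n10617 : Q := act 3 n8405
theorem D10617 : act 3 n8405 = n10617 := rfl
theorem F13895 : act 2 n10617 = n8406 := d7_1 D10617 (iv D8406) D8405
theorem F13896 : act 0 n10617 = n10340 := d10_1 D10617 (iv D10340) F9325 (iv D8402) (iv F9189) D10558 F13758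
theorem F13897 : act 4 n10340 = n10617 := d11_1 D10340 F13895 (iv F11457) (iv D9494) (iv F6575) (iv F9324) (iv F9325)
def n10618 : Q := act 4 n8405
theorem D10618 : act 4 n8405 = n10618 := rfl
theorem F13898 : act 1 n10618 = n8896 := d6_1 D10618 (iv F12535) F12534
theorem F13899 : act 2 n10618 = n8416 := d11_2 D8405 D10618 (iv D8416) (iv D5517) (iv D2932) D2930 D5512
theorem F13900 : act 3 n10357 = n10618 := d7_0 F13899 (iv F9337) D10357
def n10619 : Q := act 4 n8406
theorem D10619 : act 4 n8406 = n10619 := rfl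
theorem F13901 : act 3 n10619 = n8439 := d12_2 D8406 D10619 F9363 (iv F12135) (iv D8412) (iv D5514) D5512
def n10620 : Q := act 3 n8407
theorem D10620 : act 3 n8407 = n10620 := rfl
theorem F13902 : act 4 n10620 = n8438 := d9_2 D8407 D10620 (iv D8438) D8439 (iv F13901) (iv D10619) (iv D8406)
def n10621 : Q := act 0 n8409
theorem D10621 : act 0 n8409 = n10621 := rfl
theorem F13903 : act 2 n10621 = n8961 := d1_2 (iv F9331) D10621 F10379 F9257 F6123 (iv D6467) (iv F5791)
theorem F13904 : act 3 n10621 = n10098 := d2_2 D8409 D10621 (iv D10098) (iv D7660) D7659 (iv F9329) (iv D8408)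
theorem F13905 : act 4 n10621 = n9000 := d3_2 F12138 D10621 (iv F12136)
theorem F13906 : act 1 n10621 = n9031 := d14_4 (iv F1985) (iv F4546) (iv F9330) D10621 (iv F12111) F12102 (iv F12105) F12106 F8113 F3826 F1622
def n10622 : Q := act 1 n8411
theorem D10622 : act 1 n8411 = n10622 := rfl
theorem F13907 : act 0 n10622 = n8602 := d13_3 (iv F4546) D8411 D10622 (iv D8602) F4807 F2150 (iv F1686) (iv F3829) F3828 (iv F4547) (iv D5516)
theorem F13908 : act 3 n8674 = n10622 := d2_0 F13907 (iv F13478) F13479 (iv D10156) (iv F9651) F9652 D8674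
def n10623 : Q := act 2 n8411
theorem D10623 : act 2 n8411 = n10623 := rfl
def n10624 : Q := act 3 n8411
theorem D10624 : act 3 n8411 = n10624 := rfl
theorem F13909 : act 0 n10624 = n8435 := d2_1 D10624 (iv F11456) F11457 (iv D8406) (iv D5512) D5514 D8411
theorem F13910 : act 1 n10624 = n8674 := d5_1 D10624 F13908 (iv D10622)
def n10625 : Q := act 4 n8411
theorem D10625 : act 4 n8411 = n10625 := rfl
theorem F13911 : act 0 n10625 = n8412 := d3_1 D10625 (iv D8412) D8411
def n10626 : Q := act 2 n8412
theorem D10626 : act 2 n8412 = n10626 := rfl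
theorem F13912 : act 1 n10626 = n10520 := d4_1 D10626 F13648 F11235 (iv D8580) F7356 D9854 (iv F12139)
theorem F13913 : act 3 n10626 = n8445 := d7_2 (iv F12135) D10626 (iv D8445)
def n10627 : Q := act 3 n8413
theorem D10627 : act 3 n8413 = n10627 := rfl
theorem F13914 : act 1 n10627 = n10517 := d5_1 D10627 (iv D10517) (iv F9334)
theorem F13915 : act 2 n10627 = n8414 := d7_1 D10627 (iv D8414) D8413
def n10628 : Q := act 0 n8414
theorem D10628 : act 0 n8414 = n10628 := rfl
theorem F13916 : act 4 n10628 = n8443 := d3_2 (iv F12134) D10628 (iv D8443)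
def n10629 : Q := act 4 n8416
theorem D10629 : act 4 n8416 = n10629 := rfl
theorem F13917 : act 0 n10629 = n8419 := d3_1 D10629 (iv D8419) D8416
theorem F13918 : act 1 n10629 = n10343 := d6_1 D10629 F13266 (iv F9336)
theorem F13919 : act 3 n10629 = n10341 := d12_2 F9337 D10629 (iv F13885) (iv F13887) (iv D8434) D8433 F9361
def n10630 : Q := act 0 n8417
theorem D10630 : act 0 n8417 = n10630 := rfl
theorem F13920 : act 1 n10630 = n9157 := d0_2 D8417 D10630 F10757 (iv D8054) (iv F8591) (iv F9336) (iv D8416)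
theorem F13921 : act 2 n10630 = n8489 := d1_2 (iv F9338) D10630 F9460 F9214 D8606 F9693 F9469
theorem F13922 : act 3 n10630 = n9910 := d2_2 (iv F10665) D10630 F12278 (iv F7528) (iv F7505) (iv F12252) F12249
theorem F13923 : act 4 n10630 = n8488 := d3_2 F9339 D10630 F9458
def n10631 : Q := act 2 n8431
theorem D10631 : act 2 n8431 = n10631 := rfl
theorem F13924 : act 0 n10631 = n8437 := d1_1 D10631 (iv D8437) (iv D5550) (iv D2958) D2957 D5547 D8431
theorem F13925 : act 1 n10631 = n9479 := d4_1 D10631 (iv D9479) (iv F11407) F11409 F9171 F5339 (iv F9357)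
def n10632 : Q := act 4 n8431
theorem D10632 : act 4 n8431 = n10632 := rfl
theorem F13926 : act 0 n10632 = n8434 := d3_1 D10632 (iv D8434) D8431
theorem F13927 : act 1 n10632 = n8450 := d6_1 D10632 (iv D8450) (iv F9357)
def n10633 : Q := act 3 n8432
theorem D10633 : act 3 n8432 = n10633 := rfl
theorem F13928 : act 0 n10633 = n10354 := d2_1 D10633 F13578 F13576 (iv D10182) D10181 F13737 F13734
theorem F13929 : act 1 n10633 = n8433 := d5_1 D10633 (iv D8433) D8432
theorem F13930 : act 2 n10633 = n10545 := d7_1 D10633 (iv D10545) (iv F9358)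
theorem F13931 : act 4 n10633 = n9126 := d9_2 F9359 D10633 (iv D9126) F9323 D10612 F13884 F10696
def n10634 : Q := act 2 n8434
theorem D10634 : act 2 n8434 = n10634 := rfl
theorem F13932 : act 1 n10634 = n9457 := d4_1 D10634 (iv D9457) F9053 (iv D8258) F4327 D6405 (iv F9362)
theorem F13933 : act 0 n10634 = n8445 := d11_3 D5547 D8434 D10634 (iv D8445) (iv D5553) (iv D2958) D2957
def n10635 : Q := act 4 n8435
theorem D10635 : act 4 n8435 = n10635 := rfl
theorem F13934 : act 1 n10635 = n9856 := d6_1 D10635 F12142 F10890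
def n10636 : Q := act 4 n8436
theorem D10636 : act 4 n8436 = n10636 := rfl
theorem F13935 : act 1 n10636 = n8439 := d6_1 D10636 (iv D8439) D8436
theorem F13936 : act 2 n10636 = n9477 := d8_1 D10636 (iv D9477) F6470 (iv D5893) D5892 D8686 F9879
def n10637 : Q := act 3 n8437
theorem D10637 : act 3 n8437 = n10637 := rfl
theorem F13937 : act 2 n10637 = n8438 := d7_1 D10637 (iv D8438) D8437
theorem F13938 : act 0 n10637 = n10357 := d10_1 D10637 (iv D10357) (iv F9361) (iv D8433) D8431 D10631 F13924
theorem F13939 : act 4 n10357 = n10637 := d11_1 D10357 F13937 (iv F11460) F11461 F6588 (iv F9360) F9361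
def n10638 : Q := act 4 n8437
theorem D10638 : act 4 n8437 = n10638 := rfl
theorem F13940 : act 1 n10638 = n8942 := d6_1 D10638 (iv F12547) F12546
theorem F13941 : act 3 n10638 = n10340 := d9_1 D10638 F13897 (iv D10617) D10618 (iv F13900) F13939 (iv D10637)
theorem F13942 : act 2 n10638 = n8447 := d11_2 D8437 D10638 (iv D8447) (iv D5554) (iv D2960) D2958 D5550
def n10639 : Q := act 1 n8443
theorem D10639 : act 1 n8443 = n10639 := rfl
theorem F13943 : act 3 n10639 = n8590 := d5_2 F11458 D10639 (iv F11459)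
theorem F13944 : act 0 n10639 = n8609 := d13_3 (iv F4570) D8443 D10639 (iv D8609) (iv D5749) F2152 (iv F1680) (iv F3832) F3831 (iv F4550) F4552
def n10640 : Q := act 2 n8443
theorem D10640 : act 2 n8443 = n10640 := rfl
def n10641 : Q := act 4 n8447
theorem D10641 : act 4 n8447 = n10641 := rfl
theorem F13945 : act 0 n10641 = n8449 := d3_1 D10641 (iv D8449) D8447
theorem F13946 : act 1 n10641 = n10342 := d6_1 D10641 (iv D10342) (iv F9372)
theorem F13947 : act 3 n10641 = n10358 := d9_1 D10641 (iv D10358) F9337 D10629 F13919 (iv D10341) (iv F9371)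
def n10642 : Q := act 0 n8448
theorem D10642 : act 0 n8448 = n10642 := rfl
theorem F13948 : act 1 n10642 = n9171 := d0_2 D8448 D10642 F10785 F8698 (iv F8570) (iv F9372) (iv D8447)
theorem F13949 : act 2 n10642 = n9224 := d1_2 (iv F9373) D10642 F10904 F9417 D8680 (iv F9901) (iv D8696)
theorem F13950 : act 4 n10642 = n9909 := d3_2 (iv F10660) D10642 F12275
theorem F13951 : act 3 n10642 = n9917 := d10_4 (iv F9899) (iv D8696) (iv F9373) D10642 F12292 F7537 (iv F7561)
def n10643 : Q := act 4 n8451
theorem D10643 : act 4 n8451 = n10643 := rfl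
theorem F13952 : act 0 n10643 = n8453 := d3_1 D10643 (iv D8453) D8451
theorem F13953 : act 1 n10643 = n9172 := d6_1 D10643 (iv F13736) F13735
theorem F13954 : act 3 n10643 = n10377 := d9_1 D10643 (iv D10377) (iv F9192) D10563 F13772 (iv D10391) (iv F9375)
theorem F13955 : act 2 n10643 = n9883 := d17_4 (iv F11579) (iv F10093) F10094 D10643 (iv D9883) F7464 D7361 F7469 (iv F9354) F9355 (iv F6796) (iv F11578)
def n10644 : Q := act 2 n8472
theorem D10644 : act 2 n8472 = n10644 := rfl
theorem F13956 : act 3 n10644 = n9986 := d7_2 (iv F9426) D10644 (iv D9986)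
theorem F13957 : act 0 n10644 = n10335 := d10_3 (iv D8474) (iv F9424) D10644 F13251 (iv F12427) F12426 (iv F9427)
theorem F13958 : act 4 n10644 = n10483 := d11_1 D10644 F13563 (iv F13881) F13883 F13689 (iv D8473) (iv F9424)
theorem F13959 : act 1 n10485 = n10644 := d16_3 F8963 (iv F8978) (iv F13566) (iv D10644) F9425 F5114 D5917 F5116 (iv F3507) (iv F7514) (iv F11940) (iv F11943)
def n10645 : Q := act 0 n8473
theorem D10645 : act 0 n8473 = n10645 := rfl
theorem F13960 : act 2 n10645 = n10334 := d1_2 D8473 D10645 F13249 D10335 (iv F13957) (iv D10644) F9424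
theorem F13961 : act 3 n10645 = n9684 := d2_2 F9431 D10645 F11810 (iv D7482) F7405 (iv D7316) D7314
theorem F13962 : act 1 n9685 = n10645 := d5_3 F13961 (iv D9684) D9685
def n10646 : Q := act 0 n8475
theorem D10646 : act 0 n8475 = n10646 := rfl
theorem F13963 : act 3 n10646 = n9642 := d2_2 D8475 D10646 F11739 F7642 F7497 (iv D7167) (iv F4588)
theorem F13964 : act 2 n10646 = n10364 := d10_2 D8475 D10646 (iv D10364) F8618 F5815 (iv F4468) (iv F4588)
theorem F13965 : act 1 n9643 = n10646 := d16_3 (iv F3111) D7012 D9643 F13964 F13296 (iv D10364) F8618 F5815 (iv F4480) (iv F4631) F4633 (iv D4166)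
def n10647 : Q := act 2 n8476
theorem D10647 : act 2 n8476 = n10647 := rfl
theorem F13966 : act 0 n10647 = n10365 := d1_1 D10647 (iv D10365) D10364 (iv F13964) (iv D10646) F9432 D8476
theorem F13967 : act 3 n10647 = n9984 := d7_2 (iv F9434) D10647 (iv D9984)
theorem F13968 : act 4 n10647 = n10495 := d11_1 D10647 F13580 (iv F13928) F13930 F13720 F9432 D8476
theorem F13969 : act 1 n10486 = n10647 := d16_3 (iv F4447) (iv F8957) D10486 (iv D10647) F9433 (iv D5918) (iv D3215) F832 (iv F526) D2316 (iv F3325) (iv F3327)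
def n10648 : Q := act 4 n8476
theorem D10648 : act 4 n8476 = n10648 := rfl
theorem F13970 : act 0 n10648 = n8477 := d3_1 D10648 (iv D8477) D8476
theorem F13971 : act 1 n10648 = n8701 := d6_1 D10648 (iv D8701) (iv F9433)
theorem F13972 : act 3 n10648 = n9987 := d9_1 D10648 (iv D9987) (iv F9426) (iv D8472) F4586 D7479 (iv F9434)
def n10649 : Q := act 2 n8478
theorem D10649 : act 2 n8478 = n10649 := rfl
theorem F13973 : act 1 n10649 = n8661 := d4_1 D10649 (iv F11702) F11701 F6840 F3966 (iv F7184) (iv F9437)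
theorem F13974 : act 3 n10649 = n8660 := d7_2 (iv F9438) D10649 F9812
theorem F13975 : act 0 n10649 = n8888 := d10_3 (iv F4593) D8478 D10649 (iv D8888) (iv F9835) F9836 (iv D5888)
def n10650 : Q := act 2 n8483
theorem D10650 : act 2 n8483 = n10650 := rfl
theorem F13976 : act 3 n10650 = n9994 := d7_2 (iv F9449) D10650 (iv D9994)
theorem F13977 : act 0 n10650 = n8884 := d10_3 D5594 D8483 D10650 (iv D8884) (iv F9446) (iv D8482) (iv D5593)
def n10651 : Q := act 0 n8490
theorem D10651 : act 0 n8490 = n10651 := rfl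
theorem F13978 : act 1 n10651 = n9845 := d0_2 D8490 D10651 (iv D9845) (iv D7272) F5721 F5719 F5718
theorem F13979 : act 4 n10651 = n8565 := d3_2 (iv F9463) D10651 (iv D8565)
def n10652 : Q := act 0 n8493
theorem D10652 : act 0 n8493 = n10652 := rfl
theorem F13980 : act 1 n10652 = n9852 := d0_2 (iv F9472) D10652 (iv D9852) (iv D7287) F3333 (iv F3431) (iv F4634)
theorem F13981 : act 4 n10652 = n8586 := d3_2 (iv F9473) D10652 (iv D8586)
def n10653 : Q := act 1 n8496
theorem D10653 : act 1 n8496 = n10653 := rfl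
theorem F13982 : act 3 n10653 = n10527 := d5_2 F12069 D10653 F13665
theorem F13983 : act 4 n10510 = n10653 := d12_1 D10510 F13982 F13664 (iv F9169) F9170 (iv D8236) D8235
def n10654 : Q := act 4 n8496
theorem D10654 : act 4 n8496 = n10654 := rfl
theorem F13984 : act 0 n10654 = n10568 := d3_1 D10654 (iv D10568) (iv F9480)
theorem F13985 : act 1 n10654 = n10510 := d6_1 D10654 F13983 (iv D10653)
theorem F13986 : act 2 n10654 = n10562 := d8_1 D10654 F13768 (iv F9478) (iv D8495) (iv D5617) D5618 D8496
theorem F13987 : act 3 n10654 = n10509 := d12_2 F12069 D10654 F13618 F12330 (iv D9934) F8609 D9825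
def n10655 : Q := act 1 n8498
theorem D10655 : act 1 n8498 = n10655 := rfl
theorem F13988 : act 3 n10655 = n10511 := d5_2 (iv F9485) D10655 F13622
theorem F13989 : act 4 n10526 = n10655 := d9_0 F13988 (iv D10511) D10510 F13983 F13982 (iv D10527) D10526
def n10656 : Q := act 4 n8498
theorem D10656 : act 4 n8498 = n10656 := rfl
theorem F13990 : act 0 n10656 = n10574 := d3_1 D10656 (iv D10574) (iv F9484)
theorem F13991 : act 1 n10656 = n10526 := d6_1 D10656 F13989 (iv D10655)
theorem F13992 : act 3 n10656 = n10525 := d9_1 D10656 (iv F13663) F12069 D10654 F13987 (iv F13620) (iv F9485)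
theorem F13993 : act 2 n10656 = n10561 := d11_2 D8498 D10656 F13764 (iv F13801) (iv D10573) F9231 F5500
def n10657 : Q := act 2 n8499
theorem D10657 : act 2 n8499 = n10657 := rfl
theorem F13994 : act 0 n10657 = n10575 := d1_1 D10657 (iv D10575) F9235 F6445 (iv F4509) D8372 (iv F9486)
theorem F13995 : act 3 n10657 = n8811 := d7_2 (iv F9488) D10657 F10101
theorem F13996 : act 4 n10657 = n8790 := d8_2 D8499 D10657 F10050 D10561 (iv F13993) (iv D10656) (iv D8498)
def n10658 : Q := act 1 n8501
theorem D10658 : act 1 n8501 = n10658 := rfl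
theorem F13997 : act 2 n10658 = n8555 := d4_2 D8501 D10658 F9601 (iv D6577) (iv F4644) F4645 D5625
theorem F13998 : act 3 n10658 = n8666 := d5_2 (iv F9493) D10658 F9830
theorem F13999 : act 0 n10658 = n8561 := d13_3 D8677 F9849 D10658 (iv D8561) (iv D5693) (iv F3338) (iv D4404) (iv F3335) (iv F5061) F5062 D5878
def n10659 : Q := act 4 n8501
theorem D10659 : act 4 n8501 = n10659 := rfl
theorem F14000 : act 0 n10659 = n10577 := d3_1 D10659 F13810 F9849
theorem F14001 : act 2 n10659 = n10639 := d11_2 D8501 D10659 F13944 (iv D8609) F4812 D5881 F5065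
theorem F14002 : act 3 n10659 = n9817 := d12_2 (iv F9493) D10659 (iv D9817) (iv F8753) F8755 (iv D7220) D7219
def n10660 : Q := act 3 n8504
theorem D10660 : act 3 n8504 = n10660 := rfl
theorem F14003 : act 1 n10660 = n8505 := d5_1 D10660 (iv D8505) D8504
theorem F14004 : act 2 n10660 = n8881 := d7_1 D10660 (iv D8881) (iv F9502)
theorem F14005 : act 4 n10660 = n10548 := d9_2 F9503 D10660 (iv D10548) (iv F9829) (iv F12027) (iv F13697) (iv D10538)
def n10661 : Q := act 1 n8511
theorem D10661 : act 1 n8511 = n10661 := rfl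
theorem F14006 : act 2 n10661 = n8567 := d4_2 D8511 D10661 F9618 F6143 F4688 (iv D5641) D5640
theorem F14007 : act 3 n10661 = n8566 := d5_2 (iv F9523) D10661 F9617
theorem F14008 : act 0 n10661 = n8577 := d13_3 D8598 F9669 D10661 (iv D8577) (iv D5711) (iv F4672) (iv F7098) F7100 (iv F6297) F4803 D5737
theorem F14009 : act 1 n8577 = n10267 := d14_4 D5640 D8511 D10661 F14008 (iv D10267) F8308 (iv D5711) (iv F4672) F4673 F2112 D3027
def n10662 : Q := act 4 n8511
theorem D10662 : act 4 n8511 = n10662 := rfl
theorem F14010 : act 0 n10662 = n10582 := d3_1 D10662 F13822 F9669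
theorem F14011 : act 3 n10662 = n9808 := d9_1 D10662 (iv D9808) (iv F9493) D10659 F14002 F12055 (iv F9523)
theorem F14012 : act 2 n10662 = n10622 := d11_2 D8511 D10662 F13907 (iv D8602) (iv D5743) D5741 F4805
def n10663 : Q := act 2 n8514
theorem D10663 : act 2 n8514 = n10663 := rfl
theorem F14013 : act 0 n10663 = n8532 := d1_1 D10663 (iv D8532) F4713 D5663 D8534 F9569 (iv F9530)
theorem F14014 : act 3 n10504 = n10663 := d10_0 F14013 (iv D8532) F4713 D5664 F4714 (iv F9007) D10504
def n10664 : Q := act 3 n8514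
theorem D10664 : act 3 n8514 = n10664 := rfl
theorem F14015 : act 0 n10664 = n8519 := d2_1 D10664 (iv D8519) (iv F5430) D8877 F10210 (iv D8540) (iv F9530)
theorem F14016 : act 1 n10664 = n9006 := d5_1 D10664 (iv D9006) (iv F9531)
theorem F14017 : act 2 n10664 = n10504 := d7_1 D10664 F14014 (iv D10663)
theorem F14018 : act 4 n8697 = n10664 := d8_0 F14017 F13604 F10155 D9478 F11409 (iv F13669) F13668
def n10665 : Q := act 3 n8515
theorem D10665 : act 3 n8515 = n10665 := rfl
theorem F14019 : act 2 n10665 = n8516 := d7_1 D10665 (iv D8516) D8515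
theorem F14020 : act 0 n10665 = n8536 := d10_1 D10665 (iv D8536) (iv D5666) (iv D3044) (iv F2127) D5659 (iv F9532)
def n10666 : Q := act 4 n8516
theorem D10666 : act 4 n8516 = n10666 := rfl
theorem F14021 : act 0 n10666 = n8554 := d3_1 D10666 F9599 F9534
theorem F14022 : act 1 n10666 = n9042 := d6_1 D10666 (iv D9042) (iv F9533)
theorem F14023 : act 3 n10666 = n8697 := d9_1 D10666 F14018 (iv D10664) (iv D8514) (iv D5646) D5647 D8516
def n10667 : Q := act 2 n8520
theorem D10667 : act 2 n8520 = n10667 := rfl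
theorem F14024 : act 0 n10667 = n9700 := d1_1 D10667 F11834 F10950 F9714 (iv F10121) (iv D8823) (iv F9540)
theorem F14025 : act 4 n10667 = n9698 := d11_1 D10667 (iv F12073) (iv D9828) D9829 F12077 (iv D8823) (iv F9540)
def n10668 : Q := act 3 n8524
theorem D10668 : act 3 n8524 = n10668 := rfl
theorem F14026 : act 0 n10668 = n8543 := d2_1 D10668 (iv D8543) D8542 (iv F11408) F11406 F7794 D8524
theorem F14027 : act 1 n10668 = n8897 := d5_1 D10668 (iv D8897) (iv F9550)
theorem F14028 : act 2 n10668 = n8779 := d7_1 D10668 F10030 (iv F9551)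
theorem F14029 : act 4 n10668 = n8944 := d12_1 D10668 (iv D8944) (iv F5993) D9223 F10903 F7794 D8524
def n10669 : Q := act 3 n8527
theorem D10669 : act 3 n8527 = n10669 := rfl
theorem F14030 : act 0 n10669 = n8541 := d2_1 D10669 F9579 (iv F9553) (iv D8525) (iv D5653) D5655 D8527
theorem F14031 : act 1 n10669 = n8895 := d5_1 D10669 F10236 (iv F9556)
theorem F14032 : act 2 n10669 = n8775 := d7_1 D10669 (iv F13614) F13613
theorem F14033 : act 4 n10669 = n8893 := d9_2 (iv F9557) D10669 (iv D8893) (iv F9552) D10668 F14029 (iv D8944)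
def n10670 : Q := act 4 n8529
theorem D10670 : act 4 n8529 = n10670 := rfl
theorem F14034 : act 0 n10670 = n8775 := d3_1 D10670 (iv D8775) (iv F9562)
theorem F14035 : act 1 n10670 = n8731 := d6_1 D10670 (iv D8731) (iv F9563)
theorem F14036 : act 2 n10670 = n8550 := d11_2 (iv F9564) D10670 F9590 (iv D6818) (iv D3985) (iv F2975) (iv F4712)
theorem F14037 : act 3 n10670 = n8549 := d12_2 D8529 D10670 (iv F13611) (iv D10506) (iv D8232) D8231 F9011
def n10671 : Q := act 3 n8530
theorem D10671 : act 3 n8530 = n10671 := rfl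
theorem F14038 : act 0 n10671 = n8779 := d2_1 D10671 F10030 F9003 (iv F4396) D8311 (iv F13608) F13605
theorem F14039 : act 1 n10671 = n8788 := d5_1 D10671 (iv F10543) F10541
theorem F14040 : act 2 n10671 = n8546 := d7_1 D10671 (iv D8546) (iv F9565)
def n10672 : Q := act 2 n8531
theorem D10672 : act 2 n8531 = n10672 := rfl
theorem F14041 : act 3 n10672 = n8536 := d7_2 (iv F9567) D10672 (iv D8536)
theorem F14042 : act 0 n10672 = n10523 := d10_3 (iv F6559) (iv F9566) D10672 (iv D10523) (iv D8259) (iv D5329) D5328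
def n10673 : Q := act 1 n8532
theorem D10673 : act 1 n8532 = n10673 := rfl
theorem F14043 : act 2 n10673 = n9844 := d16_10 F5015 (iv F4780) F5014 F5013 D5858 (iv F9006) D10504 F14014 F14013 D10673 F12118 F9613
theorem F14044 : act 4 n9059 = n10673 := d11_1 D9059 F14043 F12117 (iv F10558) (iv D9063) (iv D6291) D6290
def n10674 : Q := act 3 n8532
theorem D10674 : act 3 n8532 = n10674 := rfl
theorem F14045 : act 0 n10674 = n10503 := d2_1 D10674 (iv D10503) (iv D8229) D8230 D10504 F14014 F14013
theorem F14046 : act 2 n10674 = n8533 := d7_1 D10674 (iv D8533) D8532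
def n10675 : Q := act 4 n8532
theorem D10675 : act 4 n8532 = n10675 := rfl
theorem F14047 : act 1 n10675 = n9059 := d6_1 D10675 F14044 (iv D10673)
theorem F14048 : act 2 n10675 = n8547 := d8_1 D10675 (iv D8547) (iv F9565) (iv D8530) (iv D5660) D5662 D8532
theorem F14049 : act 3 n8739 = n9059 := d16_2 (iv D8741) D8739 (iv F14047) F14048 F9587 (iv D6290) D6292 D9064 (iv F10562) (iv F12675) (iv F12737) F12740
theorem F14050 : act 2 n9060 = n8739 := d7_3 F14049 (iv D9059) D9060
def n10676 : Q := act 4 n8533
theorem D10676 : act 4 n8533 = n10676 := rfl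
theorem F14051 : act 0 n10676 = n9490 := d3_1 D10676 (iv D9490) (iv F9568)
theorem F14052 : act 3 n10676 = n8537 := d9_1 D10676 (iv D8537) (iv F9567) (iv D8531) (iv D5661) D5662 D8533
def n10677 : Q := act 1 n8534
theorem D10677 : act 1 n8534 = n10677 := rfl
theorem F14053 : act 4 n10677 = n8750 := d6_2 F10576 D10677 (iv F10578)
theorem F14054 : act 3 n8763 = n10677 := d16_2 F10001 (iv F10007) (iv D10677) F9569 F4719 F2535 D3475 (iv F5571) F5570 (iv F7846) (iv F12586) F12588
def n10678 : Q := act 3 n8534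
theorem D10678 : act 3 n8534 = n10678 := rfl
theorem F14055 : act 0 n10678 = n9489 := d2_1 D10678 (iv D9489) (iv F9538) (iv F11362) F11359 F6438 D8534
theorem F14056 : act 1 n10678 = n8763 := d5_1 D10678 F14054 (iv D10677)
theorem F14057 : act 2 n10678 = n8540 := d7_1 D10678 (iv D8540) (iv F9569)
theorem F14058 : act 4 n10678 = n8761 := d12_1 D10678 F10622 F10620 (iv D6744) D6745 F6438 D8534
def n10679 : Q := act 1 n8535
theorem D10679 : act 1 n8535 = n10679 := rfl
theorem F14059 : act 4 n10679 = n8762 := d6_2 F10619 D10679 (iv F10621)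
theorem F14060 : act 3 n8751 = n10679 := d16_2 F5191 (iv F9996) (iv D10679) F9570 (iv D6240) (iv D3478) (iv D1649) (iv F952) F953 D2446 D4712 F3711
def n10680 : Q := act 3 n8535
theorem D10680 : act 3 n8535 = n10680 := rfl
theorem F14061 : act 0 n10680 = n9488 := d2_1 D10680 F11433 (iv F9543) (iv D8521) F4701 D5665 D8535
theorem F14062 : act 1 n10680 = n8751 := d5_1 D10680 F14060 (iv D10679)
theorem F14063 : act 2 n10680 = n8539 := d7_1 D10680 F9577 (iv F9570)
theorem F14064 : act 4 n10680 = n8749 := d9_2 F10619 D10680 F10579 F10576 D10678 F14058 F10622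
def n10681 : Q := act 1 n8536
theorem D10681 : act 1 n8536 = n10681 := rfl
theorem F14065 : act 2 n10681 = n9855 := d16_4 D10523 (iv F14042) F14041 D10681 F12140 F9633 F5016 (iv F5106) F5107 (iv F6484) F6482 D8259
theorem F14066 : act 4 n9104 = n10681 := d11_1 D9104 F14065 (iv D9855) (iv F10651) (iv D9107) (iv D6331) D6330
def n10682 : Q := act 4 n8536
theorem D10682 : act 4 n8536 = n10682 := rfl
theorem F14067 : act 1 n10682 = n9104 := d6_1 D10682 F14066 (iv D10681)
theorem F14068 : act 2 n10682 = n8551 := d11_2 D8536 D10682 F9591 (iv F6434) (iv F6435) F4715 D5666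
theorem F14069 : act 3 n8771 = n9104 := d16_2 F9982 D8771 (iv F14067) F14068 F9592 (iv D6330) (iv F5655) D9058 (iv F10555) (iv F12665) (iv F12717) F12720
theorem F14070 : act 2 n9105 = n8771 := d7_3 F14069 (iv D9104) D9105
def n10683 : Q := act 2 n8537
theorem D10683 : act 2 n8537 = n10683 := rfl
theorem F14071 : act 4 n10683 = n8549 := d8_2 D8537 D10683 (iv D8549) D8551 (iv F14068) (iv D10682) (iv D8536)
def n10684 : Q := act 4 n8540
theorem D10684 : act 4 n8540 = n10684 := rfl
theorem F14072 : act 1 n10684 = n8994 := d6_1 D10684 (iv D8994) (iv F9578)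
theorem F14073 : act 2 n10684 = n8544 := d8_1 D10684 (iv D8544) (iv F9580) (iv F10625) F10624 (iv F14058) F14057
theorem F14074 : act 3 n10684 = n8554 := d9_1 D10684 F9599 (iv F9577) (iv D8539) (iv D5669) D5670 D8540
def n10685 : Q := act 2 n8545
theorem D10685 : act 2 n8545 = n10685 := rfl
theorem F14075 : act 4 n10685 = n9842 := d8_2 F9584 D10685 (iv D9842) D9844 (iv F14043) (iv F14044) (iv D9059)
def n10686 : Q := act 3 n8545
theorem D10686 : act 3 n8545 = n10686 := rfl
theorem F14076 : act 0 n10686 = n10100 := d2_1 D10686 (iv D10100) (iv D7664) D7666 F7980 F5664 (iv F9583)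
theorem F14077 : act 1 n10686 = n8546 := d5_1 D10686 (iv D8546) D8545
theorem F14078 : act 4 n10686 = n9105 := d12_1 D10686 (iv D9105) (iv D6330) (iv F5655) (iv F5659) F5664 (iv F9583)
def n10687 : Q := act 4 n8546
theorem D10687 : act 4 n8546 = n10687 := rfl
theorem F14079 : act 0 n10687 = n9216 := d3_1 D10687 F10887 (iv F9585)
theorem F14080 : act 1 n10687 = n9105 := d6_1 D10687 (iv F14078) F14077
theorem F14081 : act 3 n10687 = n8551 := d12_2 D8546 D10687 F9591 F6428 F6427 F3688 D5674
def n10688 : Q := act 3 n8547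
theorem D10688 : act 3 n8547 = n10688 := rfl
theorem F14082 : act 0 n10688 = n9198 := d2_1 D10688 (iv D9198) F5925 F4744 F4742 (iv F6430) (iv F9586)
theorem F14083 : act 1 n10688 = n9060 := d5_1 D10688 (iv D9060) (iv F9587)
theorem F14084 : act 4 n10688 = n8550 := d9_2 D8547 D10688 (iv D8550) D8551 (iv F14081) (iv D10687) (iv D8546)
def n10689 : Q := act 2 n8548
theorem D10689 : act 2 n8548 = n10689 := rfl
theorem F14085 : act 4 n10689 = n10267 := d8_2 F9589 D10689 (iv D10267) (iv F12141) (iv F14065) (iv F14066) (iv D9104)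
def n10690 : Q := act 3 n8548
theorem D10690 : act 3 n8548 = n10690 := rfl
theorem F14086 : act 0 n10690 = n10092 := d2_1 D10690 (iv D10092) (iv D7653) D7655 (iv F8505) (iv F5713) (iv F9588)
theorem F14087 : act 1 n10690 = n8550 := d5_1 D10690 (iv D8550) D8548
theorem F14088 : act 4 n10690 = n9060 := d9_2 F9589 D10690 (iv D9060) F9584 D10686 F14078 (iv D9105)
def n10691 : Q := act 4 n8555
theorem D10691 : act 4 n8555 = n10691 := rfl
theorem F14089 : act 0 n10691 = n8557 := d3_1 D10691 (iv D8557) D8555
theorem F14090 : act 1 n10691 = n9287 := d6_1 D10691 (iv D9287) (iv F9601)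
theorem F14091 : act 3 n10691 = n8568 := d12_2 (iv F9602) D10691 F9620 D8571 (iv F9626) (iv D5905) D5903
theorem F14092 : act 2 n10691 = n10510 := d17_10 (iv D10568) (iv F11857) (iv F13127) F13125 F9852 F9850 F9849 D10658 F13997 D10691 (iv F13985) F13984
def n10692 : Q := act 4 n8556
theorem D10692 : act 4 n8556 = n10692 := rfl
theorem F14093 : act 1 n10692 = n8992 := d6_1 D10692 F10461 (iv F9603)
theorem F14094 : act 3 n8584 = n10692 := d5_0 F14093 F10460 (iv F9643)
def n10693 : Q := act 2 n8557
theorem D10693 : act 2 n8557 = n10693 := rfl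
theorem F14095 : act 0 n10693 = n8564 := d10_3 (iv F14091) F14089 D10693 F9614 (iv F9624) (iv D8570) (iv F9620)
def n10694 : Q := act 3 n8557
theorem D10694 : act 3 n8557 = n10694 := rfl
theorem F14096 : act 1 n10694 = n8993 := d5_1 D10694 (iv D8993) (iv F9605)
theorem F14097 : act 4 n10694 = n8583 := d9_2 D8557 D10694 (iv D8583) D8584 F14094 (iv D10692) (iv D8556)
def n10695 : Q := act 2 n8558
theorem D10695 : act 2 n8558 = n10695 := rfl
theorem F14098 : act 3 n10695 = n8585 := d7_2 (iv F9608) D10695 (iv D8585)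
def n10696 : Q := act 0 n8559
theorem D10696 : act 0 n8559 = n10696 := rfl
theorem F14099 : act 1 n10696 = n10125 := d0_2 F10588 D10696 (iv D10125) F8079 F7323 (iv F7326) (iv F10589)
theorem F14100 : act 3 n10696 = n8573 := d10_4 F2138 (iv F4754) D8559 D10696 (iv D8573) (iv D5707) F2141
def n10697 : Q := act 3 n8559
theorem D10697 : act 3 n8559 = n10697 := rfl
theorem F14101 : act 2 n10697 = n8560 := d7_1 D10697 (iv D8560) D8559
def n10698 : Q := act 3 n8561
theorem D10698 : act 3 n8561 = n10698 := rfl
theorem F14102 : act 0 n10698 = n9804 := d2_1 D10698 F12027 (iv D8665) (iv F5018) D8666 (iv F13998) F13999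
theorem F14103 : act 1 n10698 = n9780 := d5_1 D10698 (iv F12115) F12116
theorem F14104 : act 2 n10698 = n8562 := d7_1 D10698 (iv D8562) D8561
def n10699 : Q := act 4 n8561
theorem D10699 : act 4 n8561 = n10699 := rfl
theorem F14105 : act 1 n10699 = n10685 := d6_1 D10699 F14075 F12116
theorem F14106 : act 2 n10699 = n8565 := d11_2 D8561 D10699 (iv D8565) (iv D5695) (iv D3058) D3057 D5693
def n10700 : Q := act 4 n8562
theorem D10700 : act 4 n8562 = n10700 := rfl
theorem F14107 : act 0 n10700 = n9505 := d3_1 D10700 (iv D9505) (iv F9612)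
theorem F14108 : act 3 n10700 = n8579 := d12_2 D8562 D10700 F9633 F5016 (iv D3209) (iv F2136) D5693
def n10701 : Q := act 2 n8563
theorem D10701 : act 2 n8563 = n10701 := rfl
theorem F14109 : act 0 n10701 = n10510 := d1_1 D10701 (iv F14092) F14089 D10693 F14095 (iv D8564) (iv F9613)
theorem F14110 : act 1 n10701 = n9052 := d4_1 D10701 (iv D9052) F5648 D8532 D10673 F14043 F12118
def n10702 : Q := act 3 n8563
theorem D10702 : act 3 n8563 = n10702 := rfl
theorem F14111 : act 0 n10702 = n9510 := d2_1 D10702 F11488 F7439 (iv F5014) F4780 (iv F5015) (iv F9613)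
theorem F14112 : act 4 n10702 = n8578 := d9_2 D8563 D10702 (iv D8578) D8579 (iv F14108) (iv D10700) (iv D8562)
def n10703 : Q := act 4 n8567
theorem D10703 : act 4 n8567 = n10703 := rfl
theorem F14113 : act 0 n10703 = n8584 := d3_1 D10703 (iv D8584) (iv F9619)
theorem F14114 : act 1 n10703 = n9288 := d6_1 D10703 (iv D9288) (iv F9618)
theorem F14115 : act 3 n10703 = n8690 := d9_1 D10703 (iv D8690) (iv F9602) D10691 F14091 (iv D8568) D8567
theorem F14116 : act 2 n10703 = n10526 := d17_10 (iv D10574) (iv F11872) F13110 (iv D10275) F9672 F9670 F9669 D10661 F14006 D10703 (iv F13991) F13990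
def n10704 : Q := act 2 n8569
theorem D10704 : act 2 n8569 = n10704 := rfl
theorem F14117 : act 0 n10704 = n9511 := d1_1 D10704 (iv D9511) F6624 (iv F9017) D10508 F13617 F10218
theorem F14118 : act 1 n10704 = n10667 := d4_1 D10704 (iv D10667) (iv D8520) (iv D5650) (iv F4699) (iv F7018) (iv F9623)
theorem F14119 : act 3 n10704 = n8692 := d7_2 (iv F9627) D10704 (iv D8692)
def n10705 : Q := act 1 n8570
theorem D10705 : act 1 n8570 = n10705 := rfl
theorem F14120 : act 0 n10705 = n9830 := d0_1 D10705 F12078 F10413 (iv F11227) F11226 F6285 (iv F9624)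
theorem F14121 : act 2 n10705 = n9242 := d4_2 D8570 D10705 F10947 (iv D8518) F4700 D6422 (iv F5893)
theorem F14122 : act 4 n10705 = n9828 := d6_2 F11229 D10705 F12072
def n10706 : Q := act 3 n8570
theorem D10706 : act 3 n8570 = n10706 := rfl
theorem F14123 : act 2 n10706 = n8571 := d7_1 D10706 (iv D8571) D8570
theorem F14124 : act 0 n10706 = n9881 := d10_1 D10706 (iv D9881) F7439 (iv F5014) F4780 D5713 (iv F9624)
def n10707 : Q := act 3 n8577
theorem D10707 : act 3 n8577 = n10707 := rfl
theorem F14125 : act 0 n10707 = n10660 := d2_1 D10707 (iv D10660) F9501 F4879 (iv F9616) (iv F14007) F14008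
theorem F14126 : act 2 n10707 = n8578 := d7_1 D10707 (iv D8578) D8577
def n10708 : Q := act 4 n8577
theorem D10708 : act 4 n8577 = n10708 := rfl
theorem F14127 : act 1 n10708 = n10689 := d6_1 D10708 F14085 (iv F14009)
theorem F14128 : act 2 n10708 = n8586 := d11_2 D8577 D10708 (iv D8586) (iv D5719) (iv D3069) (iv F2142) D5711
def n10709 : Q := act 2 n8579
theorem D10709 : act 2 n8579 = n10709 := rfl
theorem F14129 : act 1 n10709 = n9119 := d4_1 D10709 (iv D9119) F5810 D8536 D10681 F14065 F12140
theorem F14130 : act 0 n10709 = n10526 := d10_3 (iv F5016) (iv F9633) D10709 (iv D10526) (iv D8261) F5109 F5106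
def n10710 : Q := act 0 n8580
theorem D10710 : act 0 n8580 = n10710 := rfl
theorem F14131 : act 2 n10710 = n8584 := d1_2 D8580 D10710 (iv F14113) F14116 (iv F14130) (iv D10709) F9633
def n10711 : Q := act 3 n8582
theorem D10711 : act 3 n8582 = n10711 := rfl
theorem F14132 : act 0 n10711 = n9680 := d2_1 D10711 (iv D9680) F10442 F10441 (iv D7159) D7161 (iv F9639)
theorem F14133 : act 1 n10711 = n8583 := d5_1 D10711 (iv D8583) D8582
theorem F14134 : act 2 n10711 = n10711 := d7_1 D10711 (iv D10711) F9640
theorem F14135 : act 4 n10711 = n8993 := d9_2 (iv F9641) D10711 (iv D8993) F5580 D7258 (iv F10461) F10460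
def n10712 : Q := act 0 n8585
theorem D10712 : act 0 n8585 = n10712 := rfl
theorem F14136 : act 1 n10712 = n10133 := d0_2 F10627 D10712 (iv D10133) F8096 F7341 (iv F7339) (iv F10629)
theorem F14137 : act 3 n10712 = n8693 := d10_4 (iv F2144) (iv F4784) D8585 D10712 (iv D8693) (iv D5907) F2309
def n10713 : Q := act 4 n8587
theorem D10713 : act 4 n8587 = n10713 := rfl
theorem F14138 : act 0 n10713 = n8595 := d3_1 D10713 (iv D8595) (iv F9645)
theorem F14139 : act 1 n10713 = n9220 := d6_1 D10713 (iv F11927) F11926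
theorem F14140 : act 3 n10713 = n9537 := d12_2 (iv F9646) D10713 F11534 (iv F11005) (iv D8600) D8599 F9675
def n10714 : Q := act 4 n8589
theorem D10714 : act 4 n8589 = n10714 := rfl
theorem F14141 : act 0 n10714 = n10157 := d3_1 D10714 (iv D10157) (iv F9651)
def n10715 : Q := act 4 n8590
theorem D10715 : act 4 n8590 = n10715 := rfl
theorem F14142 : act 0 n10715 = n8593 := d3_1 D10715 (iv D8593) D8590
theorem F14143 : act 2 n10715 = n8826 := d8_1 D10715 (iv D8826) (iv F9445) (iv D8481) D8480 (iv F12055) F12054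
theorem F14144 : act 3 n10714 = n8593 := d10_0 (iv F14142) F14143 F10126 D8828 (iv F12473) (iv F12866) (iv F14141)
def n10716 : Q := act 0 n8591
theorem D10716 : act 0 n8591 = n10716 := rfl
def n10717 : Q := act 4 n8591
theorem D10717 : act 4 n8591 = n10717 := rfl
theorem F14145 : act 1 n10717 = n8593 := d6_1 D10717 (iv D8593) D8591
theorem F14146 : act 2 n10717 = n9739 := d8_1 D10717 F11895 (iv D8328) D8330 F9197 F6015 (iv F9653)
theorem F14147 : act 0 n9561 = n10717 := d1_7 F14146 (iv D9739) D9740 (iv F13329) F13331 F10077 D9561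
theorem F14148 : act 4 n10716 = n9561 := d3_0 F14147 (iv D10717) D10716
def n10718 : Q := act 4 n8592
theorem D10718 : act 4 n8592 = n10718 := rfl
theorem F14149 : act 0 n10718 = n10175 := d3_1 D10718 (iv D10175) F9655
theorem F14150 : act 3 n10718 = n8676 := d9_1 D10718 (iv D8676) (iv F9652) D10714 F14144 (iv D8593) D8592
def n10719 : Q := act 0 n8596
theorem D10719 : act 0 n8596 = n10719 := rfl
theorem F14151 : act 1 n10719 = n9204 := d0_2 (iv F9663) D10719 (iv D9204) (iv F9774) F9773 F4943 (iv F4952)
theorem F14152 : act 3 n10719 = n9541 := d2_2 D8596 D10719 F11541 (iv F11030) (iv D8601) (iv D5739) (iv F4799)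
theorem F14153 : act 4 n10719 = n8645 := d3_2 (iv F9665) D10719 (iv D8645)
def n10720 : Q := act 1 n8602
theorem D10720 : act 1 n8602 = n10720 := rfl
theorem F14154 : act 0 n10720 = n9031 := d0_1 D10720 (iv F13906) (iv D10621) F9330 D8411 D10622 F13907
theorem F14155 : act 2 n10720 = n9035 := d4_2 D8602 D10720 F10522 (iv D7700) (iv F7806) (iv F8861) F8860
theorem F14156 : act 4 n9030 = n10720 := d17_0 (iv D10720) (iv D8602) (iv D5743) D5741 F5521 F5520 (iv F4676) D8510 (iv F9522) (iv F10476) F10475 D9030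
def n10721 : Q := act 4 n8602
theorem D10721 : act 4 n8602 = n10721 := rfl
theorem F14157 : act 1 n10721 = n9030 := d6_1 D10721 F14156 (iv D10720)
def n10722 : Q := act 1 n8609
theorem D10722 : act 1 n8609 = n10722 := rfl
theorem F14158 : act 0 n10722 = n9025 := d0_1 D10722 F10508 (iv F9365) F9366 D8443 D10639 F13944
theorem F14159 : act 2 n10722 = n9022 := d4_2 D8609 D10722 F10506 (iv D7687) (iv F7803) (iv F8874) F8873
theorem F14160 : act 4 n9023 = n10722 := d17_0 (iv D10722) (iv D8609) F4812 D5881 F5066 (iv D4357) (iv F1487) (iv F3640) (iv F5583) D8998 F10471 D9023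
def n10723 : Q := act 4 n8609
theorem D10723 : act 4 n8609 = n10723 := rfl
theorem F14161 : act 1 n10723 = n9023 := d6_1 D10723 F14160 (iv D10722)
def n10724 : Q := act 1 n8616
theorem D10724 : act 1 n8616 = n10724 := rfl
theorem F14162 : act 0 n10724 = n8907 := d0_1 D10724 F10263 F5451 F4870 (iv D5760) D5761 D8616
theorem F14163 : act 4 n10724 = n8905 := d6_2 (iv F9724) D10724 F10260
def n10725 : Q := act 3 n8616
theorem D10725 : act 3 n8616 = n10725 := rfl
theorem F14164 : act 0 n10725 = n10264 := d2_1 D10725 (iv F13466) F13464 F10840 F6001 F4873 D8616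
theorem F14165 : act 2 n10725 = n10290 := d7_1 D10725 F13154 F11786
theorem F14166 : act 4 n10725 = n9575 := d12_1 D10725 F11608 F10344 F9844 F6000 F4873 D8616
def n10726 : Q := act 1 n8624
theorem D10726 : act 1 n8624 = n10726 := rfl
theorem F14167 : act 2 n10726 = n8719 := d4_2 D8624 D10726 F9952 F5145 (iv F5129) (iv F8864) F8863
theorem F14168 : act 3 n10726 = n8635 := d5_2 (iv F9747) D10726 (iv D8635)
def n10727 : Q := act 4 n8624
theorem D10727 : act 4 n8624 = n10727 := rfl
theorem F14169 : act 3 n10727 = n8639 := d9_1 D10727 (iv D8639) (iv D5799) D5800 (iv F11339) (iv D8636) (iv F9747)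
def n10728 : Q := act 0 n8631
theorem D10728 : act 0 n8631 = n10728 := rfl
theorem F14170 : act 1 n10728 = n10728 := d0_2 D8631 D10728 (iv D10728) (iv D8631) F4930 F2234 (iv F4930)
theorem F14171 : act 2 n10728 = n9636 := d1_2 F10226 D10728 F11730 F7360 D8478 D10649 F13975
theorem F14172 : act 3 n10728 = n9635 := d2_2 (iv F9761) D10728 F11727 (iv F12145) (iv D9857) (iv D7296) D7295
def n10729 : Q := act 1 n8633
theorem D10729 : act 1 n8633 = n10729 := rfl
theorem F14173 : act 3 n10729 = n9135 := d5_2 (iv F9764) D10729 F10713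
theorem F14174 : act 4 n10729 = n9174 := d6_2 F13367 D10729 (iv F13368)
def n10730 : Q := act 4 n8634
theorem D10730 : act 4 n8634 = n10730 := rfl
theorem F14175 : act 0 n10730 = n8636 := d3_1 D10730 (iv D8636) D8634
theorem F14176 : act 1 n10730 = n10619 := d6_1 D10730 (iv D10619) (iv F9796)
theorem F14177 : act 2 n10730 = n8837 := d8_1 D10730 F11014 F11013 F9517 (iv F7229) D9805 F12029
theorem F14178 : act 3 n10636 = n10730 := d7_0 F14177 (iv F11405) (iv F13936)
def n10731 : Q := act 0 n8635
theorem D10731 : act 0 n8635 = n10731 := rfl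
theorem F14179 : act 2 n10731 = n10347 := d1_2 (iv F9765) D10731 (iv D10347) (iv D8002) D8001 (iv F9951) (iv D8718)
def n10732 : Q := act 0 n8637
theorem D10732 : act 0 n8637 = n10732 := rfl
theorem F14180 : act 2 n10732 = n10352 := d1_2 (iv F9767) D10732 (iv D10352) F8589 D8011 (iv F9956) (iv D8721)
def n10733 : Q := act 4 n8637
theorem D10733 : act 4 n8637 = n10733 := rfl
theorem F14181 : act 1 n10733 = n8639 := d6_1 D10733 (iv D8639) (iv F9766)
theorem F14182 : act 2 n10733 = n10353 := d8_1 D10733 (iv D10353) F8589 D8012 (iv F13275) (iv D8722) (iv F9767)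
def n10734 : Q := act 4 n8638
theorem D10734 : act 4 n8638 = n10734 := rfl
theorem F14183 : act 0 n10734 = n8639 := d3_1 D10734 (iv D8639) D8638
theorem F14184 : act 1 n10734 = n10620 := d6_1 D10734 F13902 F9791
theorem F14185 : act 2 n10734 = n8836 := d8_1 D10734 (iv D8836) F9515 (iv D8508) (iv F9504) (iv F12033) F12031
theorem F14186 : act 3 n10734 = n10616 := d9_1 D10734 (iv D10616) F9795 D10730 (iv F14178) (iv D10636) (iv F9790)
def n10735 : Q := act 4 n8648
theorem D10735 : act 4 n8648 = n10735 := rfl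
theorem F14187 : act 0 n10735 = n10636 := d3_1 D10735 (iv D10636) (iv F9789)
theorem F14188 : act 1 n10735 = n9166 := d6_1 D10735 F10775 F10095
theorem F14189 : act 3 n10735 = n8652 := d12_2 (iv F9788) D10735 (iv F12895) (iv D10172) (iv D7745) D7744 F8139
def n10736 : Q := act 0 n8650
theorem D10736 : act 0 n8650 = n10736 := rfl
def n10737 : Q := act 4 n8650
theorem D10737 : act 4 n8650 = n10737 := rfl
theorem F14190 : act 1 n10737 = n8652 := d6_1 D10737 (iv D8652) D8650
theorem F14191 : act 2 n10737 = n10393 := d8_1 D10737 (iv D10393) (iv D8090) D8091 (iv F12907) F10752 F10076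
theorem F14192 : act 3 n10737 = n9166 := d12_2 (iv F10074) D10737 (iv D9166) D9168 (iv F12722) F12721 F10748
def n10738 : Q := act 4 n8651
theorem D10738 : act 4 n8651 = n10738 := rfl
theorem F14193 : act 0 n10738 = n10616 := d3_1 D10738 (iv D10616) (iv F9794)
theorem F14194 : act 1 n10738 = n9151 := d6_1 D10738 F10745 F10073
theorem F14195 : act 3 n10738 = n8659 := d9_1 D10738 (iv D8659) (iv F9788) D10735 F14189 (iv D8652) D8651
def n10739 : Q := act 0 n8658
theorem D10739 : act 0 n8658 = n10739 := rfl
theorem F14196 : act 3 n10739 = n10716 := d2_2 (iv F10096) D10739 (iv D10716) (iv F12938) F12939 F12723 F10778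
def n10740 : Q := act 4 n8658
theorem D10740 : act 4 n8658 = n10740 := rfl
theorem F14197 : act 1 n10740 = n8659 := d6_1 D10740 (iv D8659) D8658
theorem F14198 : act 2 n10740 = n10379 := d8_1 D10740 (iv D10379) (iv D8057) D8059 (iv F10784) F10781 F10098
theorem F14199 : act 3 n10740 = n9151 := d9_1 D10740 F10745 (iv F10074) D10737 F14192 F10775 (iv F10096)
def n10741 : Q := act 4 n8668
theorem D10741 : act 4 n8668 = n10741 := rfl
theorem F14200 : act 0 n10741 = n8889 := d3_1 D10741 (iv D8889) (iv F9835)
theorem F14201 : act 1 n10741 = n8670 := d6_1 D10741 (iv D8670) D8668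
theorem F14202 : act 3 n10741 = n9990 := d9_1 D10741 (iv D9990) (iv F9448) (iv F11563) F12522 (iv D10018) F9837
def n10742 : Q := act 1 n8671
theorem D10742 : act 1 n8671 = n10742 := rfl
theorem F14203 : act 0 n10742 = n8939 := d0_1 D10742 F10334 F5485 (iv F5038) (iv D5865) D5866 D8671
theorem F14204 : act 4 n10742 = n8937 := d6_2 (iv F10346) D10742 (iv F10345)
def n10743 : Q := act 3 n8671
theorem D10743 : act 3 n8671 = n10743 := rfl
theorem F14205 : act 0 n10743 = n10319 := d2_1 D10743 F13229 F13002 F10828 F5921 (iv F5040) D8671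
theorem F14206 : act 2 n10743 = n10305 := d7_1 D10743 F13193 F12215
theorem F14207 : act 4 n10743 = n9578 := d9_2 (iv F10346) D10743 (iv D9578) (iv F9724) D10725 F14166 F11608
def n10744 : Q := act 4 n8674
theorem D10744 : act 4 n8674 = n10744 := rfl
theorem F14208 : act 0 n10744 = n8676 := d3_1 D10744 (iv D8676) D8674
theorem F14209 : act 2 n10744 = n8841 := d8_1 D10744 (iv D8841) (iv F9848) (iv D8673) (iv F7237) D9808 F12035
def n10745 : Q := act 0 n8675
theorem D10745 : act 0 n8675 = n10745 := rfl
theorem F14210 : act 3 n10745 = n10736 := d2_2 F12751 D10745 (iv D10736) F10074 (iv F10748) (iv F12721) (iv F12752)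
def n10746 : Q := act 4 n8675
theorem D10746 : act 4 n8675 = n10746 := rfl
theorem F14211 : act 1 n10746 = n8676 := d6_1 D10746 (iv D8676) D8675
theorem F14212 : act 2 n10746 = n9863 := d8_1 D10746 F12159 (iv D8452) D8453 F9379 D9165 (iv F10772)
def n10747 : Q := act 2 n8682
theorem D10747 : act 2 n8682 = n10747 := rfl
theorem F14213 : act 0 n10747 = n8683 := d1_1 D10747 (iv D8683) F5070 D7339 (iv F12201) (iv D9880) (iv F9866)
def n10748 : Q := act 1 n8692
theorem D10748 : act 1 n8692 = n10748 := rfl
theorem F14214 : act 0 n10748 = n9823 := d0_1 D10748 F12065 (iv F10422) (iv F11315) F11317 F7280 (iv F9895)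
theorem F14215 : act 2 n10748 = n9475 := d4_2 D8692 D10748 F11399 F9542 (iv F9535) (iv F9894) F9892
theorem F14216 : act 3 n10748 = n10667 := d5_2 F14119 D10748 (iv F14118)
theorem F14217 : act 4 n10748 = n9820 := d6_2 F11363 D10748 F12059
def n10749 : Q := act 2 n8702
theorem D10749 : act 2 n8702 = n10749 := rfl
theorem F14218 : act 0 n10749 = n8906 := d10_3 (iv F9440) (iv F9916) D10749 (iv D8906) D8905 F10261 F6730
def n10750 : Q := act 2 n8703
theorem D10750 : act 2 n8703 = n10750 := rfl
theorem F14219 : act 0 n10750 = n8938 := d10_3 (iv F9451) (iv F9918) D10750 (iv D8938) D8937 F10332 F9869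
def n10751 : Q := act 4 n8709
theorem D10751 : act 4 n8709 = n10751 := rfl
theorem F14220 : act 0 n10751 = n8793 := d3_1 D10751 (iv D8793) (iv F9936)
theorem F14221 : act 3 n10751 = n8728 := d9_1 D10751 F9965 (iv F9935) (iv D8708) (iv D5932) D5933 D8709
theorem F14222 : act 2 n10751 = n8714 := d11_2 (iv F9937) D10751 F9944 (iv F5361) (iv D3309) (iv F2410) (iv F5186)
def n10752 : Q := act 1 n8710
theorem D10752 : act 1 n8710 = n10752 := rfl
theorem F14223 : act 0 n10752 = n9144 := d0_1 D10752 F10732 (iv F8352) (iv D7873) D7872 F8350 (iv F9939)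
theorem F14224 : act 2 n10752 = n10421 := d4_2 D8710 D10752 (iv D10421) (iv D8127) (iv F7611) (iv D7465) (iv F5140)
theorem F14225 : act 3 n10752 = n8726 := d5_2 (iv F9938) D10752 (iv D8726)
theorem F14226 : act 4 n9143 = n10752 := d17_0 (iv D10752) (iv D8710) (iv D5934) (iv F5136) (iv F5834) (iv D6376) F2650 F1006 D1710 D3592 D6380 D9143
def n10753 : Q := act 4 n8710
theorem D10753 : act 4 n8710 = n10753 := rfl
theorem F14227 : act 0 n10753 = n8794 := d3_1 D10753 (iv D8794) (iv F9939)
theorem F14228 : act 1 n10753 = n9143 := d6_1 D10753 F14226 (iv D10752)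
theorem F14229 : act 2 n10753 = n8748 := d8_1 D10753 F9994 (iv F9934) (iv D8708) F5136 D5934 D8710
theorem F14230 : act 3 n10753 = n8713 := d12_2 (iv F9938) D10753 F9942 F5235 (iv D3270) D3269 (iv F5157)
def n10754 : Q := act 0 n8711
theorem D10754 : act 0 n8711 = n10754 := rfl
def n10755 : Q := act 2 n8711
theorem D10755 : act 2 n8711 = n10755 := rfl
theorem F14231 : act 1 n10755 = n10420 := d4_1 D10755 (iv D10420) F8823 (iv D6822) F2984 D5935 D8711
theorem F14232 : act 3 n10434 = n10755 := d5_0 F14231 F13429 D10434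
def n10756 : Q := act 3 n8711
theorem D10756 : act 3 n8711 = n10756 := rfl
theorem F14233 : act 1 n10756 = n8712 := d5_1 D10756 (iv D8712) D8711
theorem F14234 : act 2 n10756 = n10434 := d7_1 D10756 F14232 (iv D10755)
theorem F14235 : act 0 n9149 = n10756 := d16_1 (iv F10740) (iv D10756) (iv D8711) (iv D5935) (iv F2984) F2983 D3991 (iv F6552) (iv F8004) D10110 F12754 F10796
theorem F14236 : act 4 n10756 = n9148 := d3_2 D9149 F14235 (iv D9148)
theorem F14237 : act 3 n10754 = n10477 := d16_2 (iv D10756) D10754 (iv F13548) F11644 (iv F11677) F11676 F10865 F10863 F5934 (iv F5849) (iv F10739) F14235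
theorem F14238 : act 2 n10478 = n10754 := d7_3 F14237 (iv D10477) D10478
def n10757 : Q := act 4 n8711
theorem D10757 : act 4 n8711 = n10757 := rfl
theorem F14239 : act 1 n10757 = n8713 := d6_1 D10757 (iv D8713) D8711
theorem F14240 : act 3 n10757 = n9143 := d12_2 (iv D10756) D10757 (iv D9143) F5844 D6413 (iv F10740) F14235
def n10758 : Q := act 4 n8712
theorem D10758 : act 4 n8712 = n10758 := rfl
theorem F14241 : act 0 n10758 = n8797 := d3_1 D10758 (iv D8797) (iv F9940)
theorem F14242 : act 1 n10758 = n9148 := d6_1 D10758 (iv F14236) F14233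
theorem F14243 : act 2 n10758 = n8747 := d8_1 D10758 (iv D8747) (iv F9937) D10751 F14222 (iv D8714) (iv F9941)
theorem F14244 : act 3 n10758 = n8727 := d9_1 D10758 (iv D8727) (iv F9938) D10753 F14230 (iv D8713) D8712
def n10759 : Q := act 2 n8715
theorem D10759 : act 2 n8715 = n10759 := rfl
def n10760 : Q := act 4 n8715
theorem D10760 : act 4 n8715 = n10760 := rfl
theorem F14245 : act 1 n10760 = n8717 := d6_1 D10760 (iv D8717) D8715
def n10761 : Q := act 4 n8716
theorem D10761 : act 4 n8716 = n10761 := rfl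
theorem F14246 : act 0 n10761 = n8802 := d3_1 D10761 (iv D8802) (iv F9947)
theorem F14247 : act 2 n10761 = n8743 := d8_1 D10761 (iv D8743) F5181 D5961 (iv F9981) (iv D8736) (iv F9948)
theorem F14248 : act 3 n10761 = n8725 := d12_2 D8716 D10761 F9960 (iv F9955) (iv D8720) (iv D5939) D5937
def n10762 : Q := act 3 n8717
theorem D10762 : act 3 n8717 = n10762 := rfl
theorem F14249 : act 0 n10762 = n8803 := d2_1 D10762 (iv D8803) F5267 F3085 (iv F2329) (iv F5148) (iv F9949)
theorem F14250 : act 2 n10762 = n8738 := d7_1 D10762 F9984 (iv F9950)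
theorem F14251 : act 4 n10762 = n8724 := d9_2 D8717 D10762 (iv D8724) D8725 (iv F14248) (iv D10761) (iv D8716)
def n10763 : Q := act 1 n8718
theorem D10763 : act 1 n8718 = n10763 := rfl
theorem F14252 : act 2 n10763 = n9609 := d4_2 (iv F9951) D10763 (iv F12616) F12617 (iv F13562) F13563 (iv D10344)
theorem F14253 : act 4 n10763 = n9600 := d6_2 F10517 D10763 F11658
theorem F14254 : act 3 n9596 = n10763 := d16_2 F6801 (iv F11648) (iv D10763) F9951 D10344 (iv F13881) (iv D10612) (iv F13680) F13681 (iv F10071) F10070 F6749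
def n10764 : Q := act 3 n8718
theorem D10764 : act 3 n8718 = n10764 := rfl
theorem F14255 : act 0 n10764 = n9256 := d2_1 D10764 F10971 F10521 (iv F10516) F10514 (iv D8719) D8718
theorem F14256 : act 1 n10764 = n9596 := d5_1 D10764 F14254 (iv D10763)
theorem F14257 : act 2 n10764 = n10345 := d7_1 D10764 (iv D10345) (iv F9951)
theorem F14258 : act 4 n9594 = n10764 := d6_0 F14256 (iv D9596) D9594
def n10765 : Q := act 1 n8721
theorem D10765 : act 1 n8721 = n10765 := rfl
theorem F14259 : act 2 n10765 = n9610 := d4_2 (iv F9956) D10765 (iv F12634) F12635 (iv F13579) F13580 (iv D10354)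
theorem F14260 : act 3 n9601 = n10765 := d16_2 (iv F6809) (iv F11660) (iv D10765) F9956 D10354 (iv F13928) (iv D10633) (iv F13734) F13735 (iv F10094) F10093 (iv D8430)
theorem F14261 : act 4 n10765 = n9595 := d9_2 D9601 F14260 (iv D9595) D9596 F14254 F14253 (iv D9600)
def n10766 : Q := act 3 n8721
theorem D10766 : act 3 n8721 = n10766 := rfl
theorem F14262 : act 0 n10766 = n9260 := d2_1 D10766 F10985 F10505 (iv F5612) F2557 D5942 D8721
theorem F14263 : act 1 n10766 = n9601 := d5_1 D10766 F14260 (iv D10765)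
theorem F14264 : act 2 n10766 = n10355 := d7_1 D10766 (iv D10355) (iv F9956)
theorem F14265 : act 4 n10766 = n9599 := d12_1 D10766 (iv F11657) (iv D9028) (iv D6261) F2555 D5942 D8721
def n10767 : Q := act 4 n8721
theorem D10767 : act 4 n8721 = n10767 := rfl
theorem F14266 : act 0 n10767 = n8722 := d3_1 D10767 (iv D8722) D8721
theorem F14267 : act 1 n10767 = n9595 := d6_1 D10767 (iv F14261) (iv D10765)
theorem F14268 : act 3 n10767 = n9594 := d9_1 D10767 F14258 (iv D10764) (iv F10517) F11657 (iv F14265) (iv D10766)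
def n10768 : Q := act 2 n8723
theorem D10768 : act 2 n8723 = n10768 := rfl
def n10769 : Q := act 4 n8723
theorem D10769 : act 4 n8723 = n10769 := rfl
theorem F14269 : act 1 n10769 = n8725 := d6_1 D10769 (iv D8725) D8723
def n10770 : Q := act 0 n8726
theorem D10770 : act 0 n8726 = n10770 := rfl
theorem F14270 : act 3 n10770 = n10498 := d16_2 F14225 D10770 (iv F13588) F11665 (iv F11682) F11681 (iv F10872) (iv D9210) F5936 (iv F5845) (iv F10732) (iv F14223)
theorem F14271 : act 2 n10499 = n10770 := d7_3 F14270 (iv D10498) D10499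
def n10771 : Q := act 2 n8726
theorem D10771 : act 2 n8726 = n10771 := rfl
theorem F14272 : act 1 n10771 = n10422 := d4_1 D10771 F13434 F8827 (iv D6832) (iv F5133) D5945 D8726
theorem F14273 : act 3 n10771 = n10421 := d7_2 F14225 D10771 (iv F14224)
def n10772 : Q := act 4 n8726
theorem D10772 : act 4 n8726 = n10772 := rfl
theorem F14274 : act 1 n10772 = n8727 := d6_1 D10772 (iv D8727) D8726
theorem F14275 : act 3 n10772 = n9148 := d9_1 D10772 (iv F14236) (iv D10756) D10757 F14240 F14226 F14225
def n10773 : Q := act 1 n8728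
theorem D10773 : act 1 n8728 = n10773 := rfl
theorem F14276 : act 4 n10773 = n8768 := d6_2 (iv F9965) D10773 (iv D8768)
def n10774 : Q := act 2 n8732
theorem D10774 : act 2 n8732 = n10774 := rfl
theorem F14277 : act 3 n10774 = n10085 := d7_2 F9973 D10774 F12689
theorem F14278 : act 1 n10774 = n9789 := d14_2 (iv F9972) D10774 F12009 (iv F8610) F8611 (iv F8733) D10388 F13368 F10789 F10184 (iv F8771)
theorem F14279 : act 4 n9787 = n10774 := d6_0 F14278 (iv D9789) D9787
def n10775 : Q := act 4 n8734
theorem D10775 : act 4 n8734 = n10775 := rfl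
theorem F14280 : act 2 n10775 = n9787 := d8_1 D10775 F14279 (iv D10774) (iv D8732) (iv D5951) D5953 D8734
def n10776 : Q := act 4 n8735
theorem D10776 : act 4 n8735 = n10776 := rfl
theorem F14281 : act 0 n10776 = n10088 := d3_1 D10776 F12696 F12658
theorem F14282 : act 1 n10776 = n8736 := d6_1 D10776 (iv D8736) (iv F9978)
theorem F14283 : act 3 n10776 = n8774 := d9_1 D10776 F10017 F9977 (iv D8733) (iv D5952) D5953 D8735
theorem F14284 : act 2 n10776 = n10407 := d11_2 F13013 D10776 F13402 F12989 (iv D7817) (iv F8253) D10231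
def n10777 : Q := act 4 n8737
theorem D10777 : act 4 n8737 = n10777 := rfl
theorem F14285 : act 0 n10777 = n10072 := d3_1 D10777 (iv F12719) F12720
theorem F14286 : act 1 n10777 = n8738 := d6_1 D10777 (iv D8738) D8737
theorem F14287 : act 2 n10777 = n10414 := d8_1 D10777 (iv D10414) (iv F12973) F12974 F12707 (iv F10305) F10304
theorem F14288 : act 3 n8742 = n10777 := d5_0 F14286 F9984 (iv F9986)
def n10778 : Q := act 1 n8739
theorem D10778 : act 1 n8739 = n10778 := rfl
theorem F14289 : act 3 n10778 = n10675 := d5_2 (iv F14049) D10778 F14047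
theorem F14290 : act 2 n10778 = n10688 := d15_6 (iv D1521) (iv F844) D3241 D5958 D8739 D10778 F14082 (iv F11142) F11141 (iv F8208) (iv D5962) (iv D3243)
theorem F14291 : act 4 n10672 = n10778 := d8_0 F14290 F14084 (iv F14036) (iv D10670) F9564 D8531 D10672
def n10779 : Q := act 4 n8739
theorem D10779 : act 4 n8739 = n10779 := rfl
theorem F14292 : act 0 n10779 = n8742 := d3_1 D10779 (iv D8742) D8739
theorem F14293 : act 1 n10779 = n10672 := d6_1 D10779 F14291 (iv D10778)
theorem F14294 : act 3 n10681 = n10779 := d5_0 F14293 F14041 D10681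
def n10780 : Q := act 0 n8740
theorem D10780 : act 0 n8740 = n10780 := rfl
def n10781 : Q := act 4 n8741
theorem D10781 : act 4 n8741 = n10781 := rfl
theorem F14295 : act 0 n10781 = n10075 := d3_1 D10781 (iv F12739) F12740
theorem F14296 : act 1 n10781 = n8743 := d6_1 D10781 (iv D8743) (iv F9985)
theorem F14297 : act 2 n10781 = n10417 := d8_1 D10781 (iv D10417) (iv F11998) (iv F12726) F12727 D10428 F13448
theorem F14298 : act 3 n10781 = n8773 := d9_1 D10781 (iv D8773) (iv F9982) D10777 (iv F14288) (iv D8742) D8741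
def n10782 : Q := act 2 n8742
theorem D10782 : act 2 n8742 = n10782 := rfl
theorem F14299 : act 3 n10782 = n10414 := d7_2 (iv F14288) D10782 (iv F14287)
theorem F14300 : act 4 n10782 = n9781 := d8_2 D8742 D10782 (iv D9781) D9783 (iv F13436) (iv F13437) (iv D8740)
theorem F14301 : act 1 n10782 = n10416 := d16_5 D6048 (iv F9983) F9984 (iv F9986) D10782 F13419 (iv D8887) F5436 (iv F4820) F4821 F2415 (iv F2412)
def n10783 : Q := act 1 n8744
theorem D10783 : act 1 n8744 = n10783 := rfl
theorem F14302 : act 2 n10783 = n8894 := d4_2 D8744 D10783 (iv F11617) F11618 F9932 F5138 D5962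
theorem F14303 : act 0 n10783 = n8908 := d14_3 D5962 D8744 D10783 (iv F11162) F11163 (iv F11157) F11159 F9760 (iv D5966) (iv D3244) D3243
theorem F14304 : act 3 n10431 = n10783 := d16_2 F10277 D10431 (iv D10783) (iv D8744) (iv D5962) (iv D3243) D3245 D5969 (iv F6257) (iv F11188) F11187 F10603
def n10784 : Q := act 3 n8744
theorem D10784 : act 3 n8744 = n10784 := rfl
theorem F14305 : act 1 n10784 = n10431 := d5_1 D10784 F14304 (iv D10783)
theorem F14306 : act 2 n10784 = n8745 := d7_1 D10784 (iv D8745) D8744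
def n10785 : Q := act 4 n8744
theorem D10785 : act 4 n8744 = n10785 := rfl
theorem F14307 : act 2 n10785 = n9790 := d11_2 D8744 D10785 (iv F12363) (iv D9348) (iv D6633) (iv F6226) (iv F8208)
def n10786 : Q := act 4 n8745
theorem D10786 : act 4 n8745 = n10786 := rfl
theorem F14308 : act 1 n10786 = n8747 := d6_1 D10786 (iv D8747) (iv F9989)
theorem F14309 : act 3 n10786 = n8767 := d12_2 D8745 D10786 (iv F11437) (iv D9344) (iv D6631) D6630 (iv F8208)
def n10787 : Q := act 2 n8746
theorem D10787 : act 2 n8746 = n10787 := rfl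
def n10788 : Q := act 3 n8746
theorem D10788 : act 3 n8746 = n10788 := rfl
theorem F14310 : act 1 n10788 = n8748 := d5_1 D10788 (iv D8748) (iv F9990)
theorem F14311 : act 4 n10788 = n8766 := d9_2 D8746 D10788 (iv D8766) D8767 (iv F14309) (iv D10786) (iv D8745)
def n10789 : Q := act 2 n8751
theorem D10789 : act 2 n8751 = n10789 := rfl
theorem F14312 : act 0 n10789 = n9794 := d10_3 F5191 (iv F9996) D10789 (iv F12015) (iv F7852) (iv D7584) F3711
theorem F14313 : act 4 n10789 = n9793 := d11_1 D10789 F12012 (iv D9793) (iv F8540) F8938 F8937 (iv F9996)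
def n10790 : Q := act 1 n8752
theorem D10790 : act 1 n8752 = n10790 := rfl
theorem F14314 : act 2 n10790 = n10780 := d15_6 F11013 F9518 D8630 F9760 D8752 D10790 (iv D10780) (iv D8740) (iv D5958) D5957 (iv F9769) (iv F11012)
theorem F14315 : act 1 n9079 = n10780 := d16_3 (iv D6305) D6304 D9079 (iv F14314) (iv D10790) (iv D8752) D8753 (iv F10874) (iv D9211) (iv F9742) (iv F10597) (iv D9081)
theorem F14316 : act 3 n10780 = n9078 := d5_2 D9079 F14315 (iv D9078)
theorem F14317 : act 3 n9061 = n10790 := d7_2 F14316 F10593 F14314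
def n10791 : Q := act 3 n8752
theorem D10791 : act 3 n8752 = n10791 := rfl
theorem F14318 : act 1 n10791 = n9061 := d5_1 D10791 F14317 (iv D10790)
theorem F14319 : act 2 n10791 = n10791 := d7_1 D10791 (iv D10791) F9997
def n10792 : Q := act 4 n8752
theorem D10792 : act 4 n8752 = n10792 := rfl
theorem F14320 : act 0 n10792 = n8754 := d3_1 D10792 (iv D8754) D8752
theorem F14321 : act 2 n10792 = n10468 := d11_2 F9997 D10792 (iv D10468) F8937 (iv D5968) D5966 D8752
def n10793 : Q := act 4 n8753
theorem D10793 : act 4 n8753 = n10793 := rfl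
theorem F14322 : act 0 n10793 = n10465 := d3_1 D10793 (iv F13521) F10874
theorem F14323 : act 3 n10793 = n8759 := d9_1 D10793 (iv D8759) (iv D5974) D5975 (iv F11336) (iv D8754) D8753
def n10794 : Q := act 1 n8758
theorem D10794 : act 1 n8758 = n10794 := rfl
def n10795 : Q := act 3 n8758
theorem D10795 : act 3 n8758 = n10795 := rfl
theorem F14324 : act 2 n10795 = n10795 := d7_1 D10795 (iv D10795) F10005
theorem F14325 : act 1 n10795 = n9106 := d16_3 D5974 D8758 D10795 F10650 (iv D9088) (iv D6316) (iv D3533) D3532 F2593 F2271 D3695 F2729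
theorem F14326 : act 3 n10794 = n9106 := d5_2 (iv D10795) D10794 (iv F14325)
def n10796 : Q := act 4 n8758
theorem D10796 : act 4 n8758 = n10796 := rfl
theorem F14327 : act 0 n10796 = n8759 := d3_1 D10796 (iv D8759) D8758
def n10797 : Q := act 2 n8763
theorem D10797 : act 2 n8763 = n10797 := rfl
theorem F14328 : act 4 n10797 = n9796 := d11_1 D10797 F12019 (iv D9796) (iv F8550) (iv F13277) (iv D8764) (iv F10007)
theorem F14329 : act 0 n10797 = n9797 := d11_3 F5205 D8763 D10797 F13278 (iv D8759) F5203 D5976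
def n10798 : Q := act 0 n8764
theorem D10798 : act 0 n8764 = n10798 := rfl
theorem F14330 : act 2 n10798 = n10796 := d1_2 D8764 D10798 F14327 (iv F13278) (iv F14329) (iv D10797) F10007
theorem F14331 : act 4 n10798 = n10329 := d3_2 (iv F13277) D10798 (iv D10329)
def n10799 : Q := act 1 n8765
theorem D10799 : act 1 n8765 = n10799 := rfl
theorem F14332 : act 2 n10799 = n8923 := d4_2 D8765 D10799 (iv F11606) F11607 (iv D8768) (iv D5979) D5978
theorem F14333 : act 0 n10799 = n8940 := d14_3 D5978 D8765 D10799 (iv F11382) F11383 F11329 (iv D9438) F6389 F5203 F2349 D3254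
theorem F14334 : act 3 n8922 = n10799 := d16_2 D6158 (iv F10298) (iv D10799) (iv D8765) (iv D5978) (iv D3254) (iv D1525) D1523 (iv F1112) D3872 F2898 F2588
def n10800 : Q := act 3 n8765
theorem D10800 : act 3 n8765 = n10800 := rfl
theorem F14335 : act 1 n10800 = n8922 := d5_1 D10800 F14334 (iv D10799)
theorem F14336 : act 2 n10800 = n8766 := d7_1 D10800 (iv D8766) D8765
def n10801 : Q := act 4 n8765
theorem D10801 : act 4 n8765 = n10801 := rfl
theorem F14337 : act 2 n10801 = n9798 := d11_2 D8765 D10801 (iv F12367) F11154 F6230 (iv F6450) (iv F8215)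
def n10802 : Q := act 2 n8767
theorem D10802 : act 2 n8767 = n10802 := rfl
def n10803 : Q := act 1 n8771
theorem D10803 : act 1 n8771 = n10803 := rfl
theorem F14338 : act 0 n10803 = n8835 := d0_1 D10803 (iv D8835) (iv D6058) F2418 (iv F2352) D5984 D8771
theorem F14339 : act 3 n10803 = n10682 := d5_2 (iv F14069) D10803 F14067
theorem F14340 : act 2 n10803 = n10687 := d15_6 F847 D1527 D3258 D5984 D8771 D10803 F14079 (iv F11374) F11373 (iv F8215) (iv D5978) (iv D3254)
theorem F14341 : act 4 n10674 = n10803 := d11_1 (iv F14046) F14340 F14079 (iv F11374) (iv F11441) F11440 (iv F9568)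
def n10804 : Q := act 4 n8771
theorem D10804 : act 4 n8771 = n10804 := rfl
theorem F14342 : act 0 n10804 = n8773 := d3_1 D10804 (iv D8773) D8771
theorem F14343 : act 1 n10804 = n10674 := d6_1 D10804 F14341 (iv D10803)
theorem F14344 : act 3 n10804 = n10673 := d9_1 D10804 (iv F14044) (iv F14049) D10779 (iv F14294) (iv F14066) (iv F14069)
def n10805 : Q := act 0 n8772
theorem D10805 : act 0 n8772 = n10805 := rfl
theorem F14345 : act 2 n10805 = n10794 := d15_2 D8772 D10805 (iv D10794) (iv D8758) (iv F6389) F6390 (iv F9512) (iv F9515) D8835 (iv F14338) (iv D10803) (iv D8771)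
theorem F14346 : act 3 n9088 = n10805 := d7_0 F14345 F14326 F10650
theorem F14347 : act 1 n9089 = n10805 := d16_3 D3533 D6316 D9089 F14345 (iv D10794) (iv D8758) (iv D5974) (iv F2729) (iv D3695) (iv F2271) (iv F2593) (iv D3532)
def n10806 : Q := act 2 n8773
theorem D10806 : act 2 n8773 = n10806 := rfl
theorem F14348 : act 3 n10806 = n10417 := d7_2 F14298 D10806 (iv F14297)
theorem F14349 : act 1 n10806 = n10415 := d16_5 (iv F5369) (iv F9987) F9988 (iv F10016) D10806 F13417 F10223 F5438 (iv F4982) F5023 F2426 (iv F2429)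
theorem F14350 : act 4 n10413 = n10806 := d6_0 F14349 (iv D10415) (iv F13414)
def n10807 : Q := act 0 n8774
theorem D10807 : act 0 n8774 = n10807 := rfl
theorem F14351 : act 4 n10807 = n8788 := d3_2 (iv F10017) D10807 (iv D8788)
def n10808 : Q := act 2 n8774
theorem D10808 : act 2 n8774 = n10808 := rfl
theorem F14352 : act 1 n10808 = n10399 := d4_1 D10808 F13391 F10181 (iv D8770) F5212 D5986 D8774
theorem F14353 : act 3 n10808 = n10407 := d7_2 F14283 D10808 (iv F14284)
theorem F14354 : act 4 n10394 = n10808 := d9_0 F14353 (iv D10407) F9973 (iv D8732) (iv F5167) D8093 D10394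
def n10809 : Q := act 4 n8779
theorem D10809 : act 4 n8779 = n10809 := rfl
theorem F14355 : act 1 n10809 = n8780 := d6_1 D10809 (iv D8780) D8779
theorem F14356 : act 3 n10809 = n10524 := d9_1 D10809 F13660 F13614 (iv D8775) F5217 D8228 (iv F10030)
def n10810 : Q := act 1 n8782
theorem D10810 : act 1 n8782 = n10810 := rfl
theorem F14357 : act 2 n10810 = n10419 := d4_2 (iv F10038) D10810 F13427 F8821 (iv F8815) F8816 (iv F7201)
theorem F14358 : act 3 n10810 = n10418 := d5_2 F12779 D10810 F13424
def n10811 : Q := act 4 n8782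
theorem D10811 : act 4 n8782 = n10811 := rfl
theorem F14359 : act 0 n10811 = n8784 := d3_1 D10811 (iv D8784) D8782
theorem F14360 : act 2 n10811 = n9792 := d8_1 D10811 (iv D9792) (iv F11983) (iv D9773) (iv D7186) D7188 (iv F10038)
def n10812 : Q := act 4 n8783
theorem D10812 : act 4 n8783 = n10812 := rfl
theorem F14361 : act 0 n10812 = n8976 := d3_1 D10812 F10415 (iv F10041)
theorem F14362 : act 1 n10812 = n8785 := d6_1 D10812 (iv D8785) (iv F10039)
theorem F14363 : act 2 n10812 = n9770 := d8_1 D10812 (iv D9770) (iv F11972) (iv D9768) (iv D7174) D7176 (iv F10040)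
theorem F14364 : act 3 n10812 = n8787 := d9_1 D10812 (iv D8787) (iv D5999) D6000 (iv F10044) (iv D8784) D8783
def n10813 : Q := act 1 n8786
theorem D10813 : act 1 n8786 = n10813 := rfl
theorem F14365 : act 2 n10813 = n10433 := d4_2 (iv F10048) D10813 F13456 F8844 (iv F8834) F8835 F7206
theorem F14366 : act 3 n10813 = n10432 := d5_2 F12941 D10813 F13453
def n10814 : Q := act 4 n8786
theorem D10814 : act 4 n8786 = n10814 := rfl
theorem F14367 : act 0 n10814 = n8787 := d3_1 D10814 (iv D8787) D8786
theorem F14368 : act 2 n10814 = n9801 := d8_1 D10814 (iv D9801) D9799 F12022 (iv D9512) (iv F7205) (iv F10048)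
def n10815 : Q := act 4 n8789
theorem D10815 : act 4 n8789 = n10815 := rfl
theorem F14369 : act 2 n10815 = n9802 := d17_4 F5215 D6002 D8789 D10815 (iv D9802) F7228 (iv F4047) F4048 D5073 (iv F8600) F5226 F5216
def n10816 : Q := act 3 n8795
theorem D10816 : act 3 n8795 = n10816 := rfl
theorem F14370 : act 0 n10816 = n9253 := d2_1 D10816 (iv F12785) F12784 F8346 D7949 (iv F8473) D8795
theorem F14371 : act 2 n10816 = n9509 := d7_1 D10816 (iv D9509) (iv F10065)
def n10817 : Q := act 4 n8807
theorem D10817 : act 4 n8807 = n10817 := rfl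
theorem F14372 : act 0 n10817 = n8810 := d3_1 D10817 (iv D8810) D8807
theorem F14373 : act 1 n10817 = n9559 := d6_1 D10817 (iv F11579) (iv F10093)
theorem F14374 : act 3 n10817 = n9558 := d9_1 D10817 (iv F12747) F12746 F10072 D9562 (iv F12935) F12934
def n10818 : Q := act 3 n8812
theorem D10818 : act 3 n8812 = n10818 := rfl
theorem F14375 : act 0 n10818 = n9263 := d2_1 D10818 (iv F12772) F12771 (iv D7874) D7872 (iv F8349) D8812
theorem F14376 : act 2 n10818 = n9508 := d7_1 D10818 F11484 (iv F10102)
def n10819 : Q := act 4 n8812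
theorem D10819 : act 4 n8812 = n10819 := rfl
theorem F14377 : act 0 n10819 = n8813 := d3_1 D10819 (iv D8813) D8812
theorem F14378 : act 1 n10819 = n9862 := d6_1 D10819 (iv F13723) F13721
theorem F14379 : act 2 n10819 = n9873 := d8_1 D10819 (iv D9873) (iv F12182) (iv D9870) (iv D7318) D7319 (iv F10102)
def n10820 : Q := act 4 n8814
theorem D10820 : act 4 n8814 = n10820 := rfl
theorem F14380 : act 0 n10820 = n9355 := d3_1 D10820 (iv D9355) (iv F10105)
theorem F14381 : act 1 n10820 = n8820 := d6_1 D10820 (iv D8820) (iv F10106)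
theorem F14382 : act 2 n10820 = n10738 := d8_1 D10820 (iv D10738) F9793 F4974 (iv F4661) (iv F5349) D8814
theorem F14383 : act 3 n10820 = n9441 := d12_2 (iv F10107) D10820 F11341 (iv F11268) (iv D9408) (iv F6371) D8647
def n10821 : Q := act 0 n8816
theorem D10821 : act 0 n8816 = n10821 := rfl
theorem F14384 : act 1 n10821 = n9429 := d0_2 (iv F10108) D10821 (iv D9429) (iv D6708) F2910 (iv F2920) D6724
def n10822 : Q := act 4 n8816
theorem D10822 : act 4 n8816 = n10822 := rfl
theorem F14385 : act 1 n10822 = n9441 := d6_1 D10822 (iv D9441) (iv F10108)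
theorem F14386 : act 3 n10822 = n8820 := d12_2 (iv F10109) D10822 F10118 (iv F9833) F9834 (iv F10164) (iv D8844)
def n10823 : Q := act 0 n8819
theorem D10823 : act 0 n8819 = n10823 := rfl
def n10824 : Q := act 4 n8819
theorem D10824 : act 4 n8819 = n10824 := rfl
theorem F14387 : act 1 n10824 = n9442 := d6_1 D10824 F11343 (iv F10116)
theorem F14388 : act 3 n10824 = n8845 := d9_1 D10824 (iv D8845) (iv F10109) D10822 F14386 (iv D8820) D8819
def n10825 : Q := act 3 n8824
theorem D10825 : act 3 n8824 = n10825 := rfl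
theorem F14389 : act 1 n10825 = n8825 := d5_1 D10825 (iv D8825) D8824
theorem F14390 : act 2 n10825 = n9065 := d7_1 D10825 F10564 (iv F10123)
theorem F14391 : act 0 n10825 = n10675 := d10_1 D10825 F14048 F9586 F6430 (iv F4742) (iv F5372) (iv F10122)
theorem F14392 : act 4 n10825 = n10663 := d12_1 D10825 (iv F14014) (iv D10504) (iv D8230) (iv F5940) F5939 (iv F10122)
def n10826 : Q := act 4 n8825
theorem D10826 : act 4 n8825 = n10826 := rfl
theorem F14393 : act 1 n10826 = n10663 := d6_1 D10826 (iv F14392) F14389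
theorem F14394 : act 3 n10826 = n8841 := d12_2 D8825 D10826 F10157 F10130 (iv D8827) (iv D6045) D6044
def n10827 : Q := act 3 n8826
theorem D10827 : act 3 n8826 = n10827 := rfl
theorem F14395 : act 1 n10827 = n10665 := d5_1 D10827 (iv D10665) (iv F10127)
theorem F14396 : act 4 n10827 = n8840 := d9_2 D8826 D10827 (iv D8840) D8841 (iv F14394) (iv D10826) (iv D8825)
def n10828 : Q := act 0 n8829
theorem D10828 : act 0 n8829 = n10828 := rfl
theorem F14397 : act 1 n10828 = n8830 := d0_2 D8829 D10828 (iv D8830) (iv D6053) (iv D3317) (iv F2414) D6051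
theorem F14398 : act 2 n10828 = n8915 := d1_2 (iv F10138) D10828 F10280 (iv F11280) (iv D9413) F6310 F5943
theorem F14399 : act 3 n10828 = n10006 := d2_2 (iv F10136) D10828 F12491 (iv F12676) F12674 (iv F12596) F12594
theorem F14400 : act 4 n10828 = n10035 := d3_2 (iv F10137) D10828 F12559
def n10829 : Q := act 4 n8830
theorem D10829 : act 4 n8830 = n10829 := rfl
theorem F14401 : act 0 n10829 = n8831 := d3_1 D10829 (iv D8831) D8830
theorem F14402 : act 1 n10829 = n10035 := d6_1 D10829 (iv F14400) F14397
theorem F14403 : act 3 n10829 = n8833 := d9_1 D10829 (iv D8833) (iv D6056) D6057 D8834 F10150 (iv F10139)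
def n10830 : Q := act 3 n8839
theorem D10830 : act 3 n8839 = n10830 := rfl
theorem F14404 : act 0 n10830 = n10682 := d2_1 D10830 (iv F14339) F14338 (iv F10341) F10339 (iv F5982) D8839
theorem F14405 : act 1 n10830 = n8840 := d5_1 D10830 (iv D8840) (iv F10154)
theorem F14406 : act 2 n10830 = n9091 := d7_1 D10830 (iv F10618) (iv F10155)
theorem F14407 : act 4 n10830 = n10665 := d9_2 F13604 D10830 (iv D10665) F10124 D10825 F14392 (iv F14014)
def n10831 : Q := act 4 n8842
theorem D10831 : act 4 n8842 = n10831 := rfl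
theorem F14408 : act 0 n10831 = n9463 := d3_1 D10831 (iv D9463) (iv F10158)
theorem F14409 : act 1 n10831 = n8845 := d6_1 D10831 (iv D8845) (iv F10159)
theorem F14410 : act 2 n10831 = n10735 := d8_1 D10831 (iv D10735) (iv D8648) (iv D5821) (iv F4967) (iv F5396) D8842
theorem F14411 : act 3 n10831 = n9442 := d9_1 D10831 F11343 (iv F10107) D10820 F14383 (iv D9441) (iv F10160)
def n10832 : Q := act 2 n8843
theorem D10832 : act 2 n8843 = n10832 := rfl
theorem F14412 : act 0 n10832 = n9876 := d1_1 D10832 F12195 F11401 F9832 (iv F10167) (iv D8846) (iv F10161)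
theorem F14413 : act 1 n10832 = n10706 := d4_1 D10832 F14123 F9625 F7386 (iv F9539) (iv F11361) F11360
theorem F14414 : act 3 n10832 = n10705 := d7_2 F10948 D10832 F14121
theorem F14415 : act 4 n10832 = n9874 := d8_2 D8843 D10832 F12189 (iv F14217) F14215 (iv D9475) F6460
def n10833 : Q := act 0 n8847
theorem D10833 : act 0 n8847 = n10833 := rfl
theorem F14416 : act 2 n10833 = n9911 := d11_4 F8144 D7747 (iv F12892) D10833 F12280 (iv F12869) F12868
theorem F14417 : act 4 n10833 = n10161 := d17_0 F12871 (iv D9944) (iv D7443) (iv D4583) (iv D2335) F533 F517 (iv F889) D3349 D6073 D8847 D10833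
def n10834 : Q := act 3 n8847
theorem D10834 : act 3 n8847 = n10834 := rfl
theorem F14418 : act 1 n10834 = n8848 := d5_1 D10834 (iv D8848) D8847
theorem F14419 : act 2 n10834 = n10166 := d7_1 D10834 F12880 (iv F12892)
def n10835 : Q := act 4 n8847
theorem D10835 : act 4 n8847 = n10835 := rfl
theorem F14420 : act 0 n10835 = n10161 := d3_1 D10835 (iv F14417) (iv D10833)
theorem F14421 : act 1 n10835 = n8849 := d6_1 D10835 (iv D8849) D8847
theorem F14422 : act 2 n10835 = n9914 := d8_1 D10835 (iv F12288) D10146 F12842 F8144 D7747 (iv F12892)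
theorem F14423 : act 3 n8851 = n10835 := d7_0 F14422 (iv D9914) (iv F10175)
def n10836 : Q := act 4 n8848
theorem D10836 : act 4 n8848 = n10836 := rfl
theorem F14424 : act 0 n10836 = n8868 := d3_1 D10836 (iv D8868) (iv F10169)
theorem F14425 : act 2 n10836 = n8856 := d8_1 D10836 (iv D8856) F5409 D6084 (iv F10173) (iv D8850) (iv F10168)
theorem F14426 : act 3 n10836 = n8853 := d9_1 D10836 (iv D8853) (iv D6076) D6077 (iv F10171) (iv D8849) D8848
def n10837 : Q := act 0 n8852
theorem D10837 : act 0 n8852 = n10837 := rfl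
theorem F14427 : act 2 n10837 = n9915 := d10_2 D8852 D10837 (iv D9915) (iv D7407) D7406 (iv F10175) (iv D8851)
theorem F14428 : act 2 n10192 = n10408 := d15_8 F14427 (iv D9915) (iv F11306) F11305 D9426 (iv F12928) (iv D10194) (iv F12927) (iv D10408) F8784 (iv F10177) D10837
theorem F14429 : act 4 n10179 = n10837 := d8_0 F14427 F12289 (iv F12905) (iv D10178) (iv D7750) D7752 D10179
def n10838 : Q := act 4 n8852
theorem D10838 : act 4 n8852 = n10838 := rfl
theorem F14430 : act 0 n10838 = n10179 := d3_1 D10838 F14429 (iv D10837)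
theorem F14431 : act 1 n10838 = n8853 := d6_1 D10838 (iv D8853) (iv F10177)
theorem F14432 : act 2 n10838 = n10170 := d17_4 (iv F12896) F12893 (iv F10178) D10838 F12888 F8580 (iv F8765) (iv F12907) F10752 F10076 (iv D8650) D8649
def n10839 : Q := act 4 n8858
theorem D10839 : act 4 n8858 = n10839 := rfl
theorem F14433 : act 1 n10839 = n8863 := d6_1 D10839 (iv D8863) (iv F10186)
theorem F14434 : act 3 n10839 = n8873 := d9_1 D10839 (iv D8873) F10185 (iv D8857) (iv D6089) D6090 D8858
theorem F14435 : act 2 n10839 = n10362 := d17_4 D10387 F13364 F10711 D10839 (iv D10362) (iv F8598) F4053 (iv F8600) (iv D5992) F2358 (iv F4110) D8075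
def n10840 : Q := act 1 n8859
theorem D10840 : act 1 n8859 = n10840 := rfl
theorem F14436 : act 3 n10840 = n8874 := d5_2 (iv F10187) D10840 (iv D8874)
theorem F14437 : act 0 n10840 = n10787 := d13_3 (iv F13399) F13398 D10840 (iv D10787) (iv F11143) (iv F11435) (iv F14061) F14063 (iv F10206) F10207 (iv F8788)
theorem F14438 : act 2 n9358 = n10840 := d11_2 F11163 D9358 F14437 (iv D10787) (iv D8746) D8744 (iv F11164)
def n10841 : Q := act 4 n8859
theorem D10841 : act 4 n8859 = n10841 := rfl
theorem F14439 : act 2 n10841 = n8887 := d8_1 D10841 F10224 F6638 (iv D6859) F3004 D6091 D8859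
theorem F14440 : act 3 n10841 = n8862 := d12_2 (iv F10187) D10841 (iv F10393) F10395 (iv D6204) D6203 F5533
def n10842 : Q := act 0 n8860
theorem D10842 : act 0 n8860 = n10842 := rfl
theorem F14441 : act 1 n10842 = n10590 := d0_2 D8860 D10842 F13838 F9292 (iv F10389) (iv D8967) F5528
theorem F14442 : act 2 n10842 = n9239 := d1_2 F10390 D10842 F10938 D9343 F11144 (iv D6644) (iv F6231)
theorem F14443 : act 4 n10842 = n10588 := d17_0 (iv D10588) (iv D8374) (iv D5484) (iv D2912) (iv F1148) F1147 D1950 (iv F1167) D3362 D6092 D8860 D10842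
def n10843 : Q := act 3 n8860
theorem D10843 : act 3 n8860 = n10843 := rfl
theorem F14444 : act 1 n10843 = n8861 := d5_1 D10843 (iv D8861) D8860
theorem F14445 : act 2 n10843 = n9359 := d7_1 D10843 (iv D9359) F10390
theorem F14446 : act 0 n10843 = n10802 := d10_1 D10843 (iv D10802) (iv F11437) (iv D9344) (iv F10938) (iv F14442) (iv D10842)
def n10844 : Q := act 4 n8860
theorem D10844 : act 4 n8860 = n10844 := rfl
theorem F14447 : act 0 n10844 = n10588 := d3_1 D10844 (iv F14443) (iv D10842)
theorem F14448 : act 1 n10844 = n8862 := d6_1 D10844 (iv D8862) D8860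
theorem F14449 : act 2 n10844 = n9374 := d8_1 D10844 (iv D9374) (iv F11166) (iv D9357) (iv D6637) D6639 F10390
def n10845 : Q := act 4 n8861
theorem D10845 : act 4 n8861 = n10845 := rfl
theorem F14450 : act 2 n10845 = n8886 := d8_1 D10845 (iv D8886) (iv F6641) D9518 (iv F11502) (iv D8863) (iv F10188)
theorem F14451 : act 3 n10845 = n8875 := d9_1 D10845 (iv D8875) (iv F10187) D10841 F14440 (iv D8862) D8861
def n10846 : Q := act 0 n8864
theorem D10846 : act 0 n8864 = n10846 := rfl
theorem F14452 : act 1 n10846 = n9286 := d0_2 D8864 D10846 F11042 F6152 F5857 (iv D6095) D6094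
theorem F14453 : act 2 n10846 = n10560 := d1_2 (iv F10191) D10846 F13762 D10614 F13889 (iv D8413) (iv F9327)
theorem F14454 : act 4 n10846 = n9285 := d17_0 (iv D9285) (iv D6575) (iv D3795) (iv D1821) D1820 F1073 F757 D1587 D3372 (iv F5417) D8864 D10846
def n10847 : Q := act 3 n8864
theorem D10847 : act 3 n8864 = n10847 := rfl
theorem F14455 : act 1 n10847 = n8865 := d5_1 D10847 (iv D8865) D8864
theorem F14456 : act 2 n10847 = n10620 := d7_1 D10847 (iv D10620) (iv F10191)
def n10848 : Q := act 4 n8864
theorem D10848 : act 4 n8864 = n10848 := rfl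
theorem F14457 : act 0 n10848 = n9285 := d3_1 D10848 (iv F14454) (iv D10846)
theorem F14458 : act 1 n10848 = n8866 := d6_1 D10848 (iv D8866) D8864
theorem F14459 : act 2 n10848 = n10629 := d8_1 D10848 (iv D10629) (iv F13899) (iv D10618) (iv D8405) D8407 (iv F10191)
def n10849 : Q := act 4 n8865
theorem D10849 : act 4 n8865 = n10849 := rfl
theorem F14460 : act 2 n10849 = n8883 := d8_1 D10849 (iv D8883) F5434 D6113 F10212 (iv D8878) (iv F10192)
theorem F14461 : act 3 n10849 = n8871 := d12_2 D8865 D10849 F10201 (iv F10198) (iv D8868) (iv D6096) D6094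
def n10850 : Q := act 3 n8866
theorem D10850 : act 3 n8866 = n10850 := rfl
theorem F14462 : act 2 n10850 = n8880 := d7_1 D10850 F10215 (iv F10194)
theorem F14463 : act 4 n10850 = n8870 := d9_2 D8866 D10850 (iv D8870) D8871 (iv F14461) (iv D10849) (iv D8865)
def n10851 : Q := act 0 n8869
theorem D10851 : act 0 n8869 = n10851 := rfl
theorem F14464 : act 1 n10851 = n9880 := d0_2 D8869 D10851 F12201 F7435 F5866 F5423 D6100
theorem F14465 : act 2 n10851 = n10632 := d1_2 (iv F10199) D10851 F13926 D10634 F13933 (iv D8445) (iv F9363)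
def n10852 : Q := act 3 n8869
theorem D10852 : act 3 n8869 = n10852 := rfl
theorem F14466 : act 1 n10852 = n8870 := d5_1 D10852 (iv D8870) D8869
theorem F14467 : act 2 n10852 = n10619 := d7_1 D10852 F13901 (iv F10199)
def n10853 : Q := act 4 n8869
theorem D10853 : act 4 n8869 = n10853 := rfl
theorem F14468 : act 1 n10853 = n8871 := d6_1 D10853 (iv D8871) D8869
theorem F14469 : act 2 n10853 = n10641 := d8_1 D10853 (iv D10641) (iv F13942) (iv D10638) (iv D8437) D8439 (iv F10199)
def n10854 : Q := act 0 n8874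
theorem D10854 : act 0 n8874 = n10854 := rfl
theorem F14470 : act 1 n10854 = n10747 := d0_2 D8874 D10854 F14213 F9868 (iv F10401) F10400 F5533
theorem F14471 : act 2 n10854 = n9454 := d1_2 F10402 D10854 F11370 D9457 F11376 (iv D6765) (iv F6452)
def n10855 : Q := act 4 n8874
theorem D10855 : act 4 n8874 = n10855 := rfl
theorem F14472 : act 1 n10855 = n8875 := d6_1 D10855 (iv D8875) D8874
theorem F14473 : act 2 n10855 = n9473 := d8_1 D10855 (iv D9473) (iv F11386) (iv D9465) (iv D6759) D6761 F10402
def n10856 : Q := act 4 n8877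
theorem D10856 : act 4 n8877 = n10856 := rfl
theorem F14474 : act 0 n10856 = n10684 := d3_1 D10856 (iv D10684) (iv F10210)
theorem F14475 : act 1 n10856 = n8878 := d6_1 D10856 (iv D8878) (iv F10209)
theorem F14476 : act 2 n10856 = n10809 := d8_1 D10856 (iv D10809) (iv F14028) F14029 F10343 (iv F13602) F13601
theorem F14477 : act 3 n10856 = n8891 := d9_1 D10856 F10231 (iv F10208) (iv D8876) (iv D6105) D6106 D8877
def n10857 : Q := act 4 n8879
theorem D10857 : act 4 n8879 = n10857 := rfl
theorem F14478 : act 0 n10857 = n10692 := d3_1 D10857 (iv D10692) (iv F10214)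
theorem F14479 : act 1 n10857 = n8880 := d6_1 D10857 (iv D8880) D8879
theorem F14480 : act 3 n10857 = n8882 := d12_2 (iv F10213) D10857 F10218 F9627 (iv D5906) D5905 (iv F5439)
def n10858 : Q := act 4 n8881
theorem D10858 : act 4 n8881 = n10858 := rfl
theorem F14481 : act 0 n10858 = n10694 := d3_1 D10858 F14097 (iv F10216)
theorem F14482 : act 1 n10858 = n8883 := d6_1 D10858 (iv D8883) (iv F10217)
theorem F14483 : act 3 n10858 = n8890 := d9_1 D10858 (iv D8890) (iv F10213) D10857 F14480 (iv D8882) D8881
def n10859 : Q := act 4 n8884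
theorem D10859 : act 4 n8884 = n10859 := rfl
theorem F14484 : act 1 n10859 = n8886 := d6_1 D10859 (iv D8886) (iv F10221)
theorem F14485 : act 2 n10859 = n10361 := d8_1 D10859 (iv D10361) D10360 F13287 (iv F10892) (iv F11539) F11538
theorem F14486 : act 3 n10859 = n8889 := d12_2 D8884 D10859 (iv F14200) F14202 (iv D9990) (iv F9448) F9446
def n10860 : Q := act 3 n8885
theorem D10860 : act 3 n8885 = n10860 := rfl
theorem F14487 : act 1 n10860 = n8887 := d5_1 D10860 (iv D8887) (iv F10222)
theorem F14488 : act 2 n10860 = n10338 := d7_1 D10860 F13257 F11498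
theorem F14489 : act 4 n10860 = n8888 := d9_2 D8885 D10860 (iv D8888) D8889 (iv F14486) (iv D10859) (iv D8884)
def n10861 : Q := act 3 n8892
theorem D10861 : act 3 n8892 = n10861 := rfl
theorem F14490 : act 0 n10861 = n10778 := d2_1 D10861 F14289 (iv F14391) (iv D10825) F10122 (iv F5939) (iv F10234)
theorem F14491 : act 1 n10861 = n9274 := d5_1 D10861 (iv D9274) (iv F10232)
theorem F14492 : act 2 n10861 = n8893 := d7_1 D10861 (iv D8893) D8892
theorem F14493 : act 4 n10861 = n10523 := d9_2 (iv F10233) D10861 (iv D10523) (iv F10340) F10341 (iv F13602) (iv D10503)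
def n10862 : Q := act 2 n8895
theorem D10862 : act 2 n8895 = n10862 := rfl
theorem F14494 : act 0 n10862 = n10424 := d1_1 D10862 F13438 (iv F10267) (iv F10269) F6646 (iv F8821) F10237
theorem F14495 : act 1 n10862 = n10340 := d4_1 D10862 (iv D10340) (iv D7998) (iv F5219) (iv F10018) (iv F14032) F14031
theorem F14496 : act 3 n10862 = n8942 := d7_2 (iv F10236) D10862 F10337
def n10863 : Q := act 3 n8896
theorem D10863 : act 3 n8896 = n10863 := rfl
theorem F14497 : act 0 n10863 = n10429 := d2_1 D10863 (iv D10429) (iv F10303) (iv D8925) F5468 (iv F5456) (iv F10239)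
theorem F14498 : act 1 n10863 = n10357 := d5_1 D10863 F13900 F13898
theorem F14499 : act 2 n10863 = n8897 := d7_1 D10863 (iv D8897) D8896
def n10864 : Q := act 2 n8900
theorem D10864 : act 2 n8900 = n10864 := rfl
theorem F14500 : act 1 n10864 = n10775 := d4_1 D10864 F14280 (iv D9787) (iv D7198) (iv F7207) (iv F9969) (iv F10252)
theorem F14501 : act 3 n10864 = n8928 := d7_2 (iv F10253) D10864 (iv D8928)
theorem F14502 : act 0 n10864 = n8947 := d10_3 (iv F5448) (iv F10251) D10864 (iv D8947) (iv D6172) (iv D3419) (iv F2478)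
theorem F14503 : act 4 n10435 = n10864 := d3_0 F14502 (iv F12529) (iv F13460)
def n10865 : Q := act 0 n8901
theorem D10865 : act 0 n8901 = n10865 := rfl
theorem F14504 : act 3 n10865 = n8929 := d2_2 (iv F10254) D10865 (iv D8929) (iv F10292) (iv F11938) F11936 F7399
theorem F14505 : act 4 n10865 = n10420 := d3_2 F12536 D10865 F13430
def n10866 : Q := act 1 n8901
theorem D10866 : act 1 n8901 = n10866 := rfl
theorem F14506 : act 2 n10866 = n10323 := d4_2 D8901 D10866 (iv D10323) (iv D7980) F4015 D5603 (iv F5447)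
theorem F14507 : act 3 n10866 = n8945 := d5_2 (iv F10254) D10866 (iv D8945)
def n10867 : Q := act 3 n8902
theorem D10867 : act 3 n8902 = n10867 := rfl
theorem F14508 : act 1 n10867 = n8903 := d5_1 D10867 (iv D8903) D8902
theorem F14509 : act 2 n10867 = n10332 := d7_1 D10867 F13246 (iv F10255)
def n10868 : Q := act 0 n8903
theorem D10868 : act 0 n8903 = n10868 := rfl
theorem F14510 : act 3 n10868 = n8932 := d2_2 D8903 D10868 (iv D8932) (iv D6155) (iv F3319) (iv F7054) F7055
theorem F14511 : act 4 n10868 = n10422 := d3_2 F12548 D10868 F13433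
def n10869 : Q := act 2 n8904
theorem D10869 : act 2 n8904 = n10869 := rfl
theorem F14512 : act 1 n10869 = n10815 := d4_1 D10869 F14369 (iv D9802) (iv D7211) D7210 (iv F10012) (iv F10259)
theorem F14513 : act 3 n10869 = n8934 := d7_2 (iv F10257) D10869 (iv D8934)
theorem F14514 : act 0 n10869 = n8921 := d10_3 D6131 D8904 D10869 (iv D8921) (iv D6144) (iv D3396) (iv F2451)
theorem F14515 : act 4 n10426 = n10869 := d3_0 F14514 (iv F12553) (iv F13441)
def n10870 : Q := act 4 n8908
theorem D10870 : act 4 n8908 = n10870 := rfl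
theorem F14516 : act 2 n10870 = n8947 := d8_1 D10870 (iv F12529) F12528 (iv F7774) F10269 (iv D8910) (iv F10265)
theorem F14517 : act 3 n8941 = n10870 := d7_0 F14516 (iv D8947) (iv F10336)
def n10871 : Q := act 3 n8909
theorem D10871 : act 3 n8909 = n10871 := rfl
theorem F14518 : act 2 n10871 = n8921 := d7_1 D10871 (iv D8921) (iv F10266)
theorem F14519 : act 4 n10871 = n8940 := d9_2 D8909 D10871 (iv D8940) D8941 F14517 (iv D10870) (iv D8908)
def n10872 : Q := act 4 n8913
theorem D10872 : act 4 n8913 = n10872 := rfl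
theorem F14520 : act 1 n10872 = n9410 := d6_1 D10872 (iv D9410) (iv F10276)
theorem F14521 : act 2 n10872 = n8919 := d8_1 D10872 F10293 (iv D8133) (iv D5186) (iv F4169) F7790 D8913
theorem F14522 : act 3 n10872 = n8935 := d9_1 D10872 (iv D8935) (iv D6158) D6159 D8936 (iv F10331) (iv F10277)
def n10873 : Q := act 0 n8914
theorem D10873 : act 0 n8914 = n10873 := rfl
theorem F14523 : act 2 n10873 = n8917 := d1_2 D8914 D10873 F10289 (iv D8132) (iv D5185) (iv F4169) (iv F7789)
theorem F14524 : act 3 n10873 = n8924 := d2_2 (iv F10279) D10873 F10301 D10424 (iv F14494) F14496 (iv D8942)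
def n10874 : Q := act 1 n8918
theorem D10874 : act 1 n8918 = n10874 := rfl
theorem F14525 : act 0 n10874 = n10296 := d0_1 D10874 F13172 (iv D9757) (iv D7164) D7163 D9756 F11938
theorem F14526 : act 2 n10874 = n9892 := d4_2 D8918 D10874 F12229 F7487 F3488 (iv F3496) (iv F5464)
theorem F14527 : act 3 n10874 = n8930 := d5_2 (iv F10292) D10874 (iv D8930)
theorem F14528 : act 4 n10874 = n10295 := d6_2 F12537 D10874 F13170
def n10875 : Q := act 4 n8922
theorem D10875 : act 4 n8922 = n10875 := rfl
theorem F14529 : act 0 n10875 = n8935 := d3_1 D10875 (iv D8935) (iv F10298)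
theorem F14530 : act 2 n10875 = n8929 := d8_1 D10875 (iv F10317) (iv D8127) (iv D5181) D5179 (iv F6360) D8922
def n10876 : Q := act 4 n8925
theorem D10876 : act 4 n8925 = n10876 := rfl
theorem F14531 : act 0 n10876 = n10430 := d3_1 D10876 (iv D10430) (iv F10303)
theorem F14532 : act 2 n10876 = n8933 := d8_1 D10876 (iv D8933) F5478 (iv F5462) (iv F10287) F10288 (iv F10302)
def n10877 : Q := act 0 n8926
theorem D10877 : act 0 n8926 = n10877 := rfl
theorem F14533 : act 1 n10877 = n9190 := d0_2 D8926 D10877 (iv D9190) (iv F7679) F7681 F5479 (iv F5471)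
theorem F14534 : act 4 n10877 = n10262 := d3_2 (iv F10305) D10877 F13085
theorem F14535 : act 3 n10877 = n10266 := d12_4 D10427 (iv F13445) F10306 D10877 (iv D10266) D10265 (iv F13090)
def n10878 : Q := act 1 n8928
theorem D10878 : act 1 n8928 = n10878 := rfl
theorem F14536 : act 0 n10878 = n10225 := d0_1 D10878 F12998 (iv D9918) (iv D7413) (iv F4059) D8030 (iv F10311)
theorem F14537 : act 3 n10878 = n10775 := d5_2 F14501 D10878 (iv F14500)
theorem F14538 : act 4 n10878 = n10223 := d6_2 F10312 D10878 F12993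
def n10879 : Q := act 2 n8932
theorem D10879 : act 2 n8932 = n10879 := rfl
theorem F14539 : act 0 n10879 = n8936 := d1_1 D10879 F10330 (iv F10325) (iv D8934) (iv D6156) (iv F5478) D8932
theorem F14540 : act 4 n10879 = n10431 := d8_2 (iv F10324) D10879 F13451 (iv D8144) (iv D5192) D5194 D8145
def n10880 : Q := act 1 n8934
theorem D10880 : act 1 n8934 = n10880 := rfl
theorem F14541 : act 0 n10880 = n10232 := d0_1 D10880 F13015 (iv D9923) (iv D7424) (iv F4062) (iv F5494) (iv F10325)
theorem F14542 : act 3 n10880 = n10815 := d5_2 F14513 D10880 (iv F14512)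
theorem F14543 : act 4 n10880 = n10231 := d6_2 F10326 D10880 F13012
def n10881 : Q := act 4 n8950
theorem D10881 : act 4 n8950 = n10881 := rfl
theorem F14544 : act 0 n10881 = n9050 := d3_1 D10881 (iv D9050) (iv F10349)
theorem F14545 : act 1 n10881 = n8951 := d6_1 D10881 (iv D8951) D8950
theorem F14546 : act 2 n10881 = n10240 := d11_2 (iv F10350) D10881 (iv D10240) (iv D7825) (iv D4909) D4907 (iv F8248)
theorem F14547 : act 3 n10881 = n9251 := d12_2 (iv F10351) D10881 F10964 F7982 (iv D7619) F3741 (iv F6019)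
def n10882 : Q := act 1 n8952
theorem D10882 : act 1 n8952 = n10882 := rfl
theorem F14548 : act 0 n10882 = n9059 := d0_1 D10882 (iv F14047) (iv F14391) F14389 (iv F11031) F11032 (iv F10355)
theorem F14549 : act 3 n10882 = n9248 := d5_2 (iv F10354) D10882 (iv D9248)
def n10883 : Q := act 4 n8952
theorem D10883 : act 4 n8952 = n10883 := rfl
theorem F14550 : act 0 n10883 = n9273 := d3_1 D10883 F11011 (iv F10355)
theorem F14551 : act 3 n10883 = n9233 := d12_2 (iv F10354) D10883 F10926 (iv D6560) (iv D3783) D3782 (iv F6031)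
def n10884 : Q := act 2 n8953
theorem D10884 : act 2 n8953 = n10884 := rfl
theorem F14552 : act 1 n10884 = n8956 := d4_1 D10884 (iv D8956) (iv D6189) (iv D3441) (iv F2489) D6187 D8953
theorem F14553 : act 3 n10884 = n9283 := d7_2 (iv F10359) D10884 (iv D9283)
theorem F14554 : act 0 n10884 = n10791 := d10_3 D8750 (iv F10360) D10884 (iv D10791) (iv D8752) (iv D5966) D5965
def n10885 : Q := act 4 n8953
theorem D10885 : act 4 n8953 = n10885 := rfl
theorem F14555 : act 0 n10885 = n10677 := d3_1 D10885 F14053 (iv F10360)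
theorem F14556 : act 1 n10885 = n8954 := d6_1 D10885 (iv D8954) D8953
theorem F14557 : act 3 n10885 = n9267 := d12_2 (iv F10359) D10885 F10997 D10044 F12587 (iv F11035) (iv D9282)
theorem F14558 : act 2 n10885 = n10462 := d17_10 (iv D8346) (iv F6441) (iv F11252) (iv D9402) F6301 (iv F6291) (iv F10364) (iv F14552) (iv D10884) D10885 (iv F13794) F13793
def n10886 : Q := act 2 n8955
theorem D10886 : act 2 n8955 = n10886 := rfl
theorem F14559 : act 0 n10886 = n9466 := d1_1 D10886 (iv F11535) F11534 (iv D9269) D9268 F11001 (iv F10363)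
theorem F14560 : act 1 n10886 = n9215 := d4_1 D10886 F10885 (iv D6548) (iv D3777) (iv F2491) D6188 D8955
theorem F14561 : act 3 n10886 = n8962 := d7_2 (iv F10361) D10886 (iv D8962)
def n10887 : Q := act 3 n8956
theorem D10887 : act 3 n8956 = n10887 := rfl
theorem F14562 : act 1 n10887 = n9283 := d5_1 D10887 (iv F14553) F14552
theorem F14563 : act 2 n10887 = n8957 := d7_1 D10887 (iv D8957) D8956
theorem F14564 : act 0 n10887 = n9360 := d10_1 D10887 (iv F11542) F11541 (iv F11030) (iv D8601) (iv F6292) (iv F10364)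
def n10888 : Q := act 4 n8956
theorem D10888 : act 4 n8956 = n10888 := rfl
theorem F14565 : act 0 n10888 = n9400 := d3_1 D10888 (iv D9400) (iv F10364)
theorem F14566 : act 2 n10888 = n10723 := d8_1 D10888 (iv D10723) (iv D8609) F4812 D5881 (iv F5510) D8956
def n10889 : Q := act 1 n8962
theorem D10889 : act 1 n8962 = n10889 := rfl
theorem F14567 : act 0 n10889 = n10795 := d0_1 D10889 F14325 (iv D9106) (iv F6375) F6374 (iv F6408) (iv F10381)
theorem F14568 : act 2 n10889 = n8965 := d4_2 D8962 D10889 (iv D8965) (iv D6198) (iv D3450) (iv F2502) D6195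
theorem F14569 : act 3 n10889 = n9215 := d5_2 F14561 D10889 (iv F14560)
def n10890 : Q := act 4 n8962
theorem D10890 : act 4 n8962 = n10890 := rfl
theorem F14570 : act 0 n10890 = n9401 := d3_1 D10890 F11251 (iv F10381)
theorem F14571 : act 2 n10890 = n10721 := d8_1 D10890 (iv D10721) (iv D8602) (iv D5743) D5741 (iv F5522) D8962
def n10891 : Q := act 1 n8963
theorem D10891 : act 1 n8963 = n10891 := rfl
theorem F14572 : act 0 n10891 = n9104 := d0_1 D10891 (iv F14067) (iv F14404) F14405 (iv F11006) F11007 (iv F10382)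
theorem F14573 : act 3 n10891 = n9232 := d5_2 (iv F10383) D10891 (iv D9232)
def n10892 : Q := act 4 n8963
theorem D10892 : act 4 n8963 = n10892 := rfl
theorem F14574 : act 0 n10892 = n9272 := d3_1 D10892 (iv D9272) (iv F10382)
theorem F14575 : act 3 n10892 = n9249 := d9_1 D10892 (iv D9249) (iv F10354) D10883 F14551 (iv D9233) (iv F10383)
def n10893 : Q := act 2 n8964
theorem D10893 : act 2 n8964 = n10893 := rfl
theorem F14576 : act 0 n10893 = n9255 := d1_1 D10893 F12768 F12765 F8027 (iv F8063) (iv F8065) (iv F10384)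
theorem F14577 : act 3 n10893 = n9250 := d7_2 (iv F10386) D10893 (iv D9250)
theorem F14578 : act 4 n10893 = n9231 := d11_1 D10893 (iv F12743) F12742 (iv D7700) D7701 (iv F8065) (iv F10384)
def n10894 : Q := act 4 n8965
theorem D10894 : act 4 n8965 = n10894 := rfl
theorem F14579 : act 0 n10894 = n10679 := d3_1 D10894 F14059 (iv F10388)
theorem F14580 : act 1 n10894 = n8966 := d6_1 D10894 (iv D8966) D8965
theorem F14581 : act 3 n10894 = n9284 := d9_1 D10894 (iv D9284) (iv F10359) D10885 F14557 (iv D9267) (iv F10387)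
theorem F14582 : act 2 n10894 = n10472 := d17_4 (iv D10890) D10889 F14568 D10894 (iv F13800) F13799 F9232 (iv F13651) F13652 F11259 (iv F11249) (iv F14570)
def n10895 : Q := act 3 n8967
theorem D10895 : act 3 n8967 = n10895 := rfl
theorem F14583 : act 1 n10895 = n8968 := d5_1 D10895 (iv D8968) D8967
theorem F14584 : act 0 n10895 = n10519 := d10_1 D10895 (iv D10519) (iv D8248) (iv D5310) D5308 D8244 (iv F10389)
def n10896 : Q := act 4 n8968
theorem D10896 : act 4 n8968 = n10896 := rfl
theorem F14585 : act 0 n10896 = n10403 := d3_1 D10896 (iv D10403) (iv F10392)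
theorem F14586 : act 2 n10896 = n9733 := d8_1 D10896 (iv D9733) F6997 D7550 (iv F10399) (iv D8970) (iv F10391)
theorem F14587 : act 3 n10896 = n8972 := d9_1 D10896 (iv D8972) (iv D6203) D6204 (iv F10395) (iv D8969) D8968
def n10897 : Q := act 3 n8975
theorem D10897 : act 3 n8975 = n10897 := rfl
theorem F14588 : act 2 n10897 = n8976 := d7_1 D10897 (iv D8976) D8975
theorem F14589 : act 4 n10897 = n9762 := d9_2 (iv F10412) D10897 F11952 F10421 (iv D8978) F5558 D7203
theorem F14590 : act 0 n10897 = n9764 := d12_3 D7203 (iv F10412) D10897 F11957 (iv D7208) (iv D4312) D4310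
def n10898 : Q := act 4 n8981
theorem D10898 : act 4 n8981 = n10898 := rfl
theorem F14591 : act 0 n10898 = n8994 := d3_1 D10898 (iv D8994) (iv F10429)
theorem F14592 : act 1 n10898 = n9608 := d6_1 D10898 (iv D9608) (iv F10430)
theorem F14593 : act 3 n10898 = n8986 := d9_1 D10898 (iv D8986) (iv F10428) (iv D8980) (iv D6217) D6218 D8981
theorem F14594 : act 2 n10452 = n10898 := d7_3 F14593 F10451 (iv F13498)
def n10899 : Q := act 4 n8988
theorem D10899 : act 4 n8988 = n10899 := rfl
theorem F14595 : act 0 n10899 = n10452 := d3_1 D10899 (iv D10452) (iv F10454)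
theorem F14596 : act 3 n10899 = n8991 := d9_1 D10899 (iv D8991) (iv F10453) (iv D8987) (iv D6224) D6225 D8988
theorem F14597 : act 2 n10899 = n10899 := d11_2 F10466 D10899 F14595 F14594 (iv D10898) (iv F13501) F13500
def n10900 : Q := act 0 n8995
theorem D10900 : act 0 n8995 = n10900 := rfl
theorem F14598 : act 1 n10900 = n10600 := d0_2 D8995 D10900 F13863 F10470 (iv D8997) (iv D6233) D6232
theorem F14599 : act 4 n10900 = n10251 := d3_2 (iv F10465) D10900 (iv D10251)
theorem F14600 : act 3 n10900 = n10257 := d16_7 D10394 F13381 (iv D10238) F8268 (iv F5582) D8995 D10900 F13073 (iv F13076) F13077 F10812 (iv F8769)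
def n10901 : Q := act 2 n8995
theorem D10901 : act 2 n8995 = n10901 := rfl
theorem F14601 : act 4 n10901 = n9061 := d8_2 (iv F10465) D10901 (iv F10593) (iv F13067) (iv D10254) (iv D7838) D7836
theorem F14602 : act 0 n10901 = n9063 := d10_3 (iv F14600) (iv D10900) D10901 (iv F10559) (iv F13080) (iv D10260) (iv F13073)
def n10902 : Q := act 3 n8995
theorem D10902 : act 3 n8995 = n10902 := rfl
theorem F14603 : act 0 n10902 = n10806 := d2_1 D10902 F14348 F13421 (iv D10261) (iv F13073) (iv F14600) (iv D10900)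
theorem F14604 : act 1 n10902 = n8996 := d5_1 D10902 (iv D8996) D8995
theorem F14605 : act 4 n10902 = n10270 := d12_1 D10902 (iv D10270) (iv F13072) (iv D10256) D10257 (iv F14600) (iv D10900)
def n10903 : Q := act 4 n8996
theorem D10903 : act 4 n8996 = n10903 := rfl
theorem F14606 : act 1 n10903 = n10270 := d6_1 D10903 (iv F14605) F14604
theorem F14607 : act 2 n10903 = n10903 := d8_1 D10903 (iv D10903) F10466 D10899 F14597 (iv D10899) (iv F10466)
theorem F14608 : act 3 n10903 = n9004 := d9_1 D10903 (iv D9004) D9003 (iv F12084) (iv D9832) F7302 D8996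
def n10904 : Q := act 3 n8998
theorem D10904 : act 3 n8998 = n10904 := rfl
theorem F14609 : act 0 n10904 = n10002 := d2_1 D10904 F12478 D10007 F12494 F10744 (iv F12130) F12129
theorem F14610 : act 1 n10904 = n9024 := d5_1 D10904 (iv D9024) (iv F10471)
theorem F14611 : act 2 n10904 = n8999 := d7_1 D10904 (iv D8999) D8998
theorem F14612 : act 4 n10904 = n10098 := d9_2 (iv F10472) D10904 (iv F13904) F13905 (iv D9000) F5589 D7661
def n10905 : Q := act 0 n9002
theorem D10905 : act 0 n9002 = n10905 := rfl
theorem F14613 : act 1 n10905 = n10601 := d0_2 D9002 D10905 F13864 F10480 (iv D9001) F5590 D6238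
theorem F14614 : act 4 n10905 = n10256 := d3_2 (iv F10485) D10905 F13072
theorem F14615 : act 3 n10905 = n10315 := d16_7 F9973 (iv F13028) F13030 (iv D8990) (iv F5591) D9002 D10905 F13221 (iv F13224) F13226 F10813 F9974
def n10906 : Q := act 2 n9002
theorem D10906 : act 2 n9002 = n10906 := rfl
theorem F14616 : act 4 n10906 = n9106 := d8_2 (iv F10485) D10906 F10650 (iv F13100) (iv D10271) (iv D7858) D7856
theorem F14617 : act 0 n10906 = n9107 := d10_3 (iv F14615) (iv D10905) D10906 F10652 (iv F13227) (iv D10317) (iv F13221)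
def n10907 : Q := act 3 n9002
theorem D10907 : act 3 n9002 = n10907 := rfl
theorem F14618 : act 0 n10907 = n10782 := d2_1 D10907 F14299 F13415 F13084 (iv F13221) (iv F14615) (iv D10905)
theorem F14619 : act 1 n10907 = n9003 := d5_1 D10907 (iv D9003) D9002
theorem F14620 : act 4 n10907 = n10252 := d9_2 (iv F10485) D10907 (iv D10252) (iv F10465) D10902 F14605 (iv D10270)
def n10908 : Q := act 1 n9005
theorem D10908 : act 1 n9005 = n10908 := rfl
def n10909 : Q := act 3 n9005
theorem D10909 : act 3 n9005 = n10909 := rfl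
theorem F14621 : act 2 n10909 = n9006 := d7_1 D10909 (iv D9006) D9005
theorem F14622 : act 0 n10909 = n9295 := d10_1 D10909 F11058 (iv F9288) (iv D8382) (iv F9286) D10594 F13850
theorem F14623 : act 4 n9880 = n10909 := d3_0 F14622 (iv F11059) (iv F12201)
def n10910 : Q := act 4 n9005
theorem D10910 : act 4 n9005 = n10910 := rfl
theorem F14624 : act 2 n10910 = n9287 := d8_1 D10910 (iv D9287) (iv D6577) (iv D3797) F2541 D6244 D9005
theorem F14625 : act 3 n10910 = n9286 := d12_2 (iv D10909) D10910 F11042 F11062 (iv D9296) D9295 (iv F14622)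
def n10911 : Q := act 2 n9007
theorem D10911 : act 2 n9007 = n10911 := rfl
theorem F14626 : act 1 n10911 = n9012 := d4_1 D10911 (iv D9012) (iv D6249) (iv D3484) (iv F2542) D6245 D9007
theorem F14627 : act 0 n10911 = n9391 := d10_3 D10516 F13637 D10911 (iv F11225) (iv F11226) F11228 F10389
theorem F14628 : act 4 n9389 = n10911 := d3_0 F14627 (iv D9391) D9389
theorem F14629 : act 3 n9436 = n10911 := d12_2 F11234 D9436 F14627 (iv F11225) (iv D6672) D6671 D9395
def n10912 : Q := act 3 n9007
theorem D10912 : act 3 n9007 = n10912 := rfl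
theorem F14630 : act 0 n10912 = n9443 := d2_1 D10912 (iv F13646) (iv F14584) (iv D10895) F10389 D10516 F13637
theorem F14631 : act 1 n10912 = n9008 := d5_1 D10912 (iv D9008) D9007
theorem F14632 : act 2 n10912 = n9436 := d7_1 D10912 F14629 (iv D10911)
theorem F14633 : act 4 n9428 = n10912 := d11_1 D9428 F14632 F11323 (iv F11310) (iv D9427) F6367 D6707
def n10913 : Q := act 4 n9007
theorem D10913 : act 4 n9007 = n10913 := rfl
theorem F14634 : act 0 n10913 = n9404 := d3_1 D10913 (iv F13638) F13637
theorem F14635 : act 1 n10913 = n9009 := d6_1 D10913 (iv D9009) D9007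
theorem F14636 : act 2 n10913 = n9381 := d11_2 (iv D10911) D10913 F11201 D9382 (iv F13640) F13639 (iv F14627)
theorem F14637 : act 3 n10913 = n9422 := d12_2 (iv D10912) D10913 F11301 (iv F11275) (iv F13647) F13646 (iv F14630)
def n10914 : Q := act 0 n9008
theorem D10914 : act 0 n9008 = n10914 := rfl
theorem F14638 : act 2 n10914 = n9292 := d10_2 D9008 D10914 (iv F13851) (iv D10595) F9286 D8381 F9287
theorem F14639 : act 3 n10914 = n9291 := d10_4 (iv F10489) (iv D9010) (iv F10486) D10914 (iv F13832) (iv D10586) F9272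
def n10915 : Q := act 2 n9010
theorem D10915 : act 2 n9010 = n10915 := rfl
theorem F14640 : act 1 n10915 = n10179 := d4_1 D10915 (iv D10179) (iv F12901) F12902 (iv F12575) F12576 (iv F10488)
theorem F14641 : act 3 n10915 = n9293 := d7_2 (iv F10489) D10915 F11052
def n10916 : Q := act 2 n9011
theorem D10916 : act 2 n9011 = n10916 := rfl
theorem F14642 : act 4 n10916 = n9722 := d8_2 (iv F12774) D10916 (iv F13127) F13125 F9852 (iv F11841) (iv F12773)
theorem F14643 : act 1 n10916 = n10568 := d14_2 F12776 D10916 (iv F13984) F13985 (iv F14092) F14090 F11044 F7304 (iv F5799) (iv F8035) (iv F12775)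
theorem F14644 : act 3 n9730 = n10916 := d16_2 (iv F6980) (iv F11873) F14643 F13786 (iv F13816) F13815 F9698 (iv F9858) F9859 (iv F12199) F12198 F7427
def n10917 : Q := act 3 n9011
theorem D10917 : act 3 n9011 = n10917 := rfl
theorem F14645 : act 1 n10917 = n9254 := d5_1 D10917 F12778 F12776
theorem F14646 : act 2 n10917 = n9730 := d7_1 D10917 F14644 (iv D10916)
theorem F14647 : act 4 n10917 = n9253 := d12_1 D10917 (iv F12785) F12784 F8346 D7951 F8480 D9011
def n10918 : Q := act 0 n9012
theorem D10918 : act 0 n9012 = n10918 := rfl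
theorem F14648 : act 4 n10918 = n9719 := d3_2 (iv F13119) D10918 (iv F13116)
theorem F14649 : act 3 n10918 = n9732 := d12_4 F13112 D10310 F13208 D10918 (iv D9732) (iv F11851) (iv F13114)
def n10919 : Q := act 1 n9013
theorem D10919 : act 1 n9013 = n10919 := rfl
theorem F14650 : act 0 n10919 = n9019 := d0_1 D10919 (iv D9019) (iv D6256) (iv D3487) D3486 D6253 D9013
theorem F14651 : act 2 n10919 = n10883 := d15_6 (iv D1696) (iv F971) (iv F2549) D6253 D9013 D10919 F14550 (iv F12777) F12776 (iv D9011) (iv D6249) F2547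
theorem F14652 : act 3 n10107 = n10919 := d7_0 F14651 F14551 (iv F12745)
theorem F14653 : act 4 n10114 = n10919 := d8_0 F14651 (iv D10883) (iv D8952) (iv D6186) D6185 D8951 (iv F12769)
def n10920 : Q := act 2 n9013
theorem D10920 : act 2 n9013 = n10920 := rfl
def n10921 : Q := act 3 n9013
theorem D10921 : act 3 n9013 = n10921 := rfl
theorem F14654 : act 1 n10921 = n10107 := d5_1 D10921 F14652 (iv D10919)
theorem F14655 : act 0 n10921 = n10137 := d16_8 D7621 F7912 (iv D6285) F2568 (iv F2549) D6253 D9013 D10921 F12830 F11575 (iv F7910) F7909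
theorem F14656 : act 4 n10105 = n10921 := d3_0 F14655 (iv D10137) (iv F12741)
def n10922 : Q := act 4 n9013
theorem D10922 : act 4 n9013 = n10922 := rfl
theorem F14657 : act 0 n10922 = n9016 := d3_1 D10922 (iv D9016) D9013
theorem F14658 : act 1 n10922 = n10114 := d6_1 D10922 F14653 (iv D10919)
theorem F14659 : act 3 n10184 = n10922 := d5_0 F14658 F12770 (iv F12915)
def n10923 : Q := act 0 n9014
theorem D10923 : act 0 n9014 = n10923 := rfl
theorem F14660 : act 2 n10923 = n9833 := d11_4 F10492 (iv D9016) D9014 D10923 F12086 F8152 (iv F8119)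
theorem F14661 : act 3 n10144 = n10923 := d7_0 F14660 F12085 D10144
theorem F14662 : act 4 n9014 = n10923 := d8_0 F14660 F12086 F8152 (iv F8118) F10492 (iv D9016) D9014
def n10924 : Q := act 1 n9014
theorem D10924 : act 1 n9014 = n10924 := rfl
theorem F14663 : act 2 n10924 = n9055 := d4_2 D9014 D10924 (iv D9055) (iv D6284) F2568 (iv F2549) D6253
theorem F14664 : act 0 n10924 = n10517 := d14_3 D6253 D9014 D10924 (iv F13914) F13915 F12133 F12129 F10471 (iv D6257) (iv D3487) D3486
def n10925 : Q := act 3 n9014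
theorem D10925 : act 3 n9014 = n10925 := rfl
theorem F14665 : act 2 n10925 = n9015 := d7_1 D10925 (iv D9015) D9014
theorem F14666 : act 4 n10194 = n10925 := d8_0 F14665 (iv F10498) (iv D7767) (iv D4867) D4865 D7766 D10194
def n10926 : Q := act 0 n9015
theorem D10926 : act 0 n9015 = n10926 := rfl
theorem F14667 : act 1 n10926 = n10761 := d0_2 (iv F10490) D10926 F14246 (iv F10751) (iv D9155) F5851 (iv F5606)
theorem F14668 : act 4 n10926 = n10195 := d3_2 F10498 D10926 (iv D10195)
theorem F14669 : act 3 n10926 = n10769 := d12_4 (iv F10493) (iv D9016) D9015 D10926 (iv D10769) F12839 (iv D10145)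
def n10927 : Q := act 3 n9020
theorem D10927 : act 3 n9020 = n10927 := rfl
theorem F14670 : act 1 n10927 = n10442 := d5_1 D10927 F13767 F12091
theorem F14671 : act 2 n10927 = n9021 := d7_1 D10927 (iv D9021) D9020
theorem F14672 : act 4 n10441 = n10927 := d6_0 F14670 (iv D10442) D10441
def n10928 : Q := act 3 n9023
theorem D10928 : act 3 n9023 = n10928 := rfl
def n10929 : Q := act 0 n9024
theorem D10929 : act 0 n9024 = n10929 := rfl
theorem F14673 : act 3 n10929 = n10733 := d12_4 F10510 (iv D9025) D9024 D10929 (iv D10733) (iv D8637) (iv F5621)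
theorem F14674 : act 4 n10929 = n10726 := d17_0 (iv D10726) (iv D8624) (iv D5785) D5783 (iv F7123) F7121 (iv F3626) D7512 (iv F10474) (iv F14611) F14610 D10929
theorem F14675 : act 1 n10727 = n10929 := d6_3 F14674 (iv D10726) D10727
def n10930 : Q := act 4 n9024
theorem D10930 : act 4 n9024 = n10930 := rfl
theorem F14676 : act 0 n10930 = n10726 := d3_1 D10930 (iv F14674) (iv D10929)
theorem F14677 : act 1 n10930 = n10098 := d6_1 D10930 (iv F14612) F14610
theorem F14678 : act 3 n10930 = n9031 := d9_1 D10930 (iv D9031) (iv D6263) D6264 F10510 (iv D9025) D9024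
theorem F14679 : act 2 n10930 = n10540 := d11_2 (iv F10507) D10930 F13701 F13269 D10350 F13274 (iv D9026)
def n10931 : Q := act 2 n9028
theorem D10931 : act 2 n9028 = n10931 := rfl
theorem F14680 : act 0 n10931 = n9029 := d10_3 D6261 D9028 D10931 (iv D9029) (iv D6262) (iv D3492) D3491
theorem F14681 : act 4 n10931 = n10731 := d11_1 D10931 F14179 (iv D10347) (iv D8002) D8004 F8576 D9028
def n10932 : Q := act 3 n9030
theorem D10932 : act 3 n9030 = n10932 := rfl
def n10933 : Q := act 0 n9032
theorem D10933 : act 0 n9032 = n10933 := rfl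
theorem F14682 : act 1 n10933 = n9037 := d0_2 D9032 D10933 (iv D9037) (iv D6267) (iv D3495) (iv F2556) D6265
theorem F14683 : act 2 n10933 = n10892 := d1_2 (iv F10519) D10933 F14574 (iv F12790) F12788 (iv F12763) F12761
theorem F14684 : act 3 n10933 = n10196 := d2_2 F10990 D10933 F12931 F8156 F6465 (iv F6087) (iv F10987)
theorem F14685 : act 4 n10933 = n10106 := d3_2 F10520 D10933 F12742
def n10934 : Q := act 3 n9033
theorem D10934 : act 3 n9033 = n10934 := rfl
theorem F14686 : act 1 n10934 = n10446 := d5_1 D10934 F13766 F12100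
theorem F14687 : act 2 n10934 = n9034 := d7_1 D10934 (iv D9034) D9033
theorem F14688 : act 4 n10934 = n10445 := d9_2 (iv F12099) D10934 F13482 (iv F12090) D10927 (iv F14672) F13476
def n10935 : Q := act 2 n9037
theorem D10935 : act 2 n9037 = n10935 := rfl
def n10936 : Q := act 3 n9037
theorem D10936 : act 3 n9037 = n10936 := rfl
theorem F14689 : act 1 n10936 = n10196 := d5_1 D10936 (iv F14684) F14682
theorem F14690 : act 4 n10936 = n10184 := d12_1 D10936 F14659 F14657 F10493 F10524 (iv D9039) D9037
theorem F14691 : act 0 n10936 = n10187 := d16_8 F3891 F3889 (iv F2638) (iv D3576) (iv F2559) D6267 D9037 D10936 F12921 F11584 (iv F7928) (iv D7635)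
def n10937 : Q := act 4 n9037
theorem D10937 : act 4 n9037 = n10937 := rfl
theorem F14692 : act 0 n10937 = n9040 := d3_1 D10937 (iv D9040) D9037
theorem F14693 : act 1 n10937 = n10106 := d6_1 D10937 (iv F14685) F14682
theorem F14694 : act 3 n10937 = n10105 := d9_1 D10937 F14656 (iv D10921) D10922 (iv F14659) (iv F14690) (iv D10936)
def n10938 : Q := act 0 n9038
theorem D10938 : act 0 n9038 = n10938 := rfl
theorem F14695 : act 2 n10938 = n9840 := d11_4 F10527 (iv D9040) D9038 D10938 (iv F12104) F8113 D7725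
theorem F14696 : act 3 n10194 = n10938 := d7_0 F14695 F12103 D10194
theorem F14697 : act 4 n9038 = n10938 := d8_0 F14695 (iv F12104) F8113 (iv F8115) F10527 (iv D9040) D9038
def n10939 : Q := act 1 n9038
theorem D10939 : act 1 n9038 = n10939 := rfl
theorem F14698 : act 2 n10939 = n9121 := d4_2 D9038 D10939 (iv D9121) (iv D6358) (iv D3576) (iv F2559) D6267
theorem F14699 : act 0 n10939 = n10520 := d14_3 D6267 D9038 D10939 (iv F13912) (iv D10626) F12139 F12136 F10475 F5620 F2556 D3495
theorem F14700 : act 3 n10235 = n10939 := d16_2 D8250 (iv F13022) (iv D10939) (iv D9038) (iv D6267) (iv D3495) (iv D1657) F356 D726 D1719 (iv F1895) D5317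
def n10940 : Q := act 3 n9038
theorem D10940 : act 3 n9038 = n10940 := rfl
theorem F14701 : act 1 n10940 = n10235 := d5_1 D10940 F14700 (iv D10939)
theorem F14702 : act 2 n10940 = n9039 := d7_1 D10940 (iv D9039) D9038
theorem F14703 : act 4 n10940 = n10144 := d9_2 (iv F14697) D10940 F14661 (iv F14662) D10925 (iv F14666) F14696
def n10941 : Q := act 0 n9039
theorem D10941 : act 0 n9039 = n10941 := rfl
theorem F14704 : act 1 n10941 = n10762 := d0_2 (iv F10523) D10941 F14249 (iv F10783) (iv D9170) F5867 (iv F5625)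
theorem F14705 : act 4 n10941 = n10145 := d3_2 F10524 D10941 (iv D10145)
theorem F14706 : act 3 n10941 = n10760 := d12_4 (iv F10526) (iv D9040) D9039 D10941 (iv D10760) (iv F12930) (iv D10195)
def n10942 : Q := act 1 n9041
theorem D10942 : act 1 n9041 = n10942 := rfl
theorem F14707 : act 3 n10942 = n9285 := d5_2 (iv F10528) D10942 (iv D9285)
def n10943 : Q := act 4 n9041
theorem D10943 : act 4 n9041 = n10943 := rfl
theorem F14708 : act 2 n10943 = n9288 := d8_1 D10943 (iv D9288) F6143 D6581 F10531 (iv D9042) D9041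
theorem F14709 : act 3 n10943 = n9880 := d9_1 D10943 F14623 (iv D10909) D10910 F14625 (iv D9286) (iv F10528)
def n10944 : Q := act 2 n9043
theorem D10944 : act 2 n9043 = n10944 := rfl
theorem F14710 : act 0 n10944 = n9396 := d1_1 D10944 (iv F13648) (iv F14699) F14698 F10690 (iv F13651) F13650
theorem F14711 : act 1 n10944 = n9046 := d4_1 D10944 (iv D9046) (iv D6273) (iv D3499) D3498 D6271 D9043
theorem F14712 : act 3 n10944 = n9430 := d7_2 F12795 D10944 (iv F12798)
theorem F14713 : act 4 n9395 = n10944 := d9_0 F14712 (iv D9430) (iv F11220) F14628 (iv F14629) (iv D9436) (iv F11234)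
def n10945 : Q := act 4 n9043
theorem D10945 : act 4 n9043 = n10945 := rfl
theorem F14714 : act 0 n10945 = n9405 := d3_1 D10945 (iv F13652) F13650
theorem F14715 : act 1 n10945 = n9044 := d6_1 D10945 (iv D9044) D9043
theorem F14716 : act 3 n10945 = n9428 := d9_1 D10945 F14633 (iv D10912) D10913 F14637 F12797 F12795
theorem F14717 : act 2 n10945 = n9385 := d11_2 (iv D10944) D10945 (iv D9385) (iv F11206) (iv F13649) F13648 (iv F14710)
def n10946 : Q := act 2 n9045
theorem D10946 : act 2 n9045 = n10946 := rfl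
theorem F14718 : act 4 n10946 = n9729 := d8_2 (iv F12787) D10946 F13110 (iv D10275) F9672 D9707 (iv F12786)
theorem F14719 : act 1 n10946 = n10574 := d14_2 F12789 D10946 (iv F13990) F13991 (iv F14116) F14114 F11046 (iv D7268) (iv F5808) (iv F8060) (iv F12788)
theorem F14720 : act 3 n9723 = n10946 := d16_2 F6966 (iv F11858) F14719 F13803 (iv F13828) F13827 (iv F9686) (iv F9687) F9688 (iv F11861) F11860 F6971
def n10947 : Q := act 3 n9045
theorem D10947 : act 3 n9045 = n10947 := rfl
theorem F14721 : act 1 n10947 = n9264 := d5_1 D10947 (iv F12791) F12789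
theorem F14722 : act 2 n10947 = n9723 := d7_1 D10947 F14720 (iv D10946)
theorem F14723 : act 4 n10947 = n9263 := d9_2 (iv F12787) D10947 (iv F12772) (iv F12774) D10917 F14647 (iv F12785)
def n10948 : Q := act 0 n9046
theorem D10948 : act 0 n9046 = n10948 := rfl
theorem F14724 : act 4 n10948 = n9716 := d3_2 F13113 D10948 (iv F13114)
theorem F14725 : act 3 n10948 = n9720 := d12_4 (iv D10277) D10278 (iv F13123) D10948 (iv D9720) D9719 (iv F13116)
def n10949 : Q := act 2 n9051
theorem D10949 : act 2 n9051 = n10949 := rfl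
theorem F14726 : act 3 n10949 = n9119 := d7_2 (iv F10545) D10949 (iv D9119)
theorem F14727 : act 0 n10949 = n10774 := d10_3 (iv F11474) F11473 D10949 F14277 (iv D10085) (iv D7636) D7635
def n10950 : Q := act 0 n9052
theorem D10950 : act 0 n9052 = n10950 := rfl
theorem F14728 : act 2 n10950 = n10214 := d1_2 D9052 D10950 F12979 (iv F10547) (iv D9054) (iv D6284) (iv F5647)
def n10951 : Q := act 3 n9052
theorem D10951 : act 3 n9052 = n10951 := rfl
theorem F14729 : act 2 n10951 = n9053 := d7_1 D10951 (iv D9053) D9052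
def n10952 : Q := act 4 n9052
theorem D10952 : act 4 n9052 = n10952 := rfl
theorem F14730 : act 2 n10952 = n9845 := d8_1 D10952 F12119 (iv F10542) (iv D9050) (iv D6281) D6283 D9052
def n10953 : Q := act 4 n9053
theorem D10953 : act 4 n9053 = n10953 := rfl
theorem F14731 : act 1 n10953 = n10676 := d6_1 D10953 (iv D10676) (iv F10546)
theorem F14732 : act 3 n10953 = n9108 := d9_1 D10953 F10654 (iv F10545) (iv D9051) (iv D6282) D6283 D9053
theorem F14733 : act 2 n10807 = n10953 := d17_10 (iv D9490) F6562 (iv F10698) (iv F13931) F13930 F13719 D10547 F13725 F13042 (iv F14351) F14731 F14051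
def n10954 : Q := act 1 n9054
theorem D10954 : act 1 n9054 = n10954 := rfl
theorem F14734 : act 0 n10954 = n10462 := d0_1 D10954 (iv F13794) F13793 F9226 (iv F10548) (iv D9055) D9054
theorem F14735 : act 3 n10798 = n10954 := d16_2 F13524 D10798 (iv D10954) F10547 F8268 F5577 D6226 F5578 F4220 (iv F4227) (iv F8929) D10466
def n10955 : Q := act 3 n9054
theorem D10955 : act 3 n9054 = n10955 := rfl
theorem F14736 : act 1 n10955 = n10798 := d5_1 D10955 F14735 (iv D10954)
theorem F14737 : act 2 n10955 = n10238 := d7_1 D10955 (iv D10238) (iv F10547)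
def n10956 : Q := act 4 n9054
theorem D10956 : act 4 n9054 = n10956 := rfl
theorem F14738 : act 0 n10956 = n9057 := d3_1 D10956 (iv D9057) D9054
theorem F14739 : act 2 n10956 = n10242 := d8_1 D10956 (iv D10242) (iv D7825) (iv D4909) D4907 D7823 (iv F10547)
def n10957 : Q := act 0 n9056
theorem D10957 : act 0 n9056 = n10957 := rfl
theorem F14740 : act 4 n10957 = n10439 := d3_2 F10550 D10957 F13471
theorem F14741 : act 3 n10957 = n10217 := d10_4 D7621 F7912 (iv F10549) D10957 F12984 (iv D10064) F7909
theorem F14742 : act 2 n10957 = n10218 := d11_4 D5032 (iv F5654) (iv F10549) D10957 F12991 (iv D7970) (iv D5031)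
def n10958 : Q := act 0 n9060
theorem D10958 : act 0 n9060 = n10958 := rfl
theorem F14743 : act 1 n10958 = n9569 := d0_2 F14083 D10958 F11595 F10847 (iv D9199) (iv F10844) (iv F14082)
theorem F14744 : act 3 n10958 = n9580 := d2_2 D9060 D10958 F11619 (iv F10561) (iv D9064) (iv D6292) D6290
theorem F14745 : act 4 n10958 = n10092 := d3_2 F14088 D10958 (iv F14086)
def n10959 : Q := act 0 n9062
theorem D10959 : act 0 n9062 = n10959 := rfl
theorem F14746 : act 1 n10959 = n10823 := d0_2 F11210 D10959 (iv D10823) F10116 (iv D8647) (iv F6372) (iv F11209)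
theorem F14747 : act 4 n10959 = n10317 := d3_2 F10557 D10959 F13227
theorem F14748 : act 2 n10959 = n10320 := d11_4 D5030 F5669 (iv F10556) D10959 (iv D10320) (iv D7966) F4004
def n10960 : Q := act 2 n9066
theorem D10960 : act 2 n9066 = n10960 := rfl
theorem F14749 : act 0 n10960 = n10603 := d1_1 D10960 (iv D10603) (iv D8392) (iv D5498) D5497 F5672 (iv F10566)
theorem F14750 : act 3 n10960 = n9479 := d7_2 F10568 D10960 (iv D9479)
def n10961 : Q := act 4 n9067
theorem D10961 : act 4 n9067 = n10961 := rfl
theorem F14751 : act 0 n10961 = n9070 := d3_1 D10961 (iv D9070) D9067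
theorem F14752 : act 1 n10961 = n9402 := d6_1 D10961 (iv D9402) F10570
theorem F14753 : act 2 n10961 = n9486 := d8_1 D10961 F11428 (iv D8393) (iv D5499) D5498 F6498 (iv F10569)
theorem F14754 : act 3 n9447 = n10961 := d7_0 F14753 (iv D9486) (iv F11353)
def n10962 : Q := act 3 n9068
theorem D10962 : act 3 n9068 = n10962 := rfl
theorem F14755 : act 0 n10962 = n9409 := d2_1 D10962 (iv D9409) (iv F11189) (iv D9377) F6254 D6677 (iv F10573)
theorem F14756 : act 1 n10962 = n9069 := d5_1 D10962 (iv D9069) D9068
theorem F14757 : act 2 n10962 = n9247 := d7_1 D10962 F10959 (iv F10572)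
theorem F14758 : act 4 n9435 = n10962 := d8_0 F14757 F10960 D9428 F14633 F14632 (iv D9436) D9435
def n10963 : Q := act 4 n9068
theorem D10963 : act 4 n9068 = n10963 := rfl
theorem F14759 : act 0 n10963 = n9402 := d3_1 D10963 (iv D9402) (iv F10573)
theorem F14760 : act 1 n10963 = n9070 := d6_1 D10963 (iv D9070) D9068
theorem F14761 : act 2 n10963 = n9389 := d8_1 D10963 F14628 (iv D10911) D10913 F14636 (iv D9381) (iv F10572)
theorem F14762 : act 3 n10963 = n9421 := d12_2 (iv D10962) D10963 F11299 (iv F11272) (iv D9410) D9409 (iv F14755)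
def n10964 : Q := act 0 n9069
theorem D10964 : act 0 n9069 = n10964 := rfl
theorem F14763 : act 2 n10964 = n9335 := d11_4 D7785 (iv F8196) (iv F10574) D10964 F12950 (iv D10204) F8189
theorem F14764 : act 3 n9334 = n10964 := d7_0 F14763 (iv D9335) D9334
theorem F14765 : act 1 n9334 = n9361 := d16_3 D9069 D10964 (iv F14764) (iv D9361) D9360 (iv F14564) (iv D10887) F10364 F6291 (iv F6301) F10570 (iv D9067)
def n10965 : Q := act 2 n9074
theorem D10965 : act 2 n9074 = n10965 := rfl
theorem F14766 : act 1 n10965 = n10749 := d4_1 D10965 (iv D10749) (iv D8702) (iv D5920) (iv F3101) D6977 (iv F10585)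
theorem F14767 : act 3 n10965 = n9619 := d7_2 (iv F10584) D10965 (iv D9619)
theorem F14768 : act 0 n10965 = n9079 := d10_3 D6302 D9074 D10965 (iv D9079) (iv D6304) (iv D3520) D3519
theorem F14769 : act 4 n10488 = n10965 := d12_1 D10488 F14767 F11689 (iv F10600) F10599 (iv D8204) D8203
def n10966 : Q := act 2 n9075
theorem D10966 : act 2 n9075 = n10966 := rfl
theorem F14770 : act 1 n10966 = n10695 := d4_1 D10966 (iv D10695) F9607 F8519 F5127 D8541 (iv F10586)
theorem F14771 : act 3 n10966 = n9094 := d7_2 (iv F10587) D10966 (iv D9094)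
theorem F14772 : act 4 n9847 = n10966 := d12_1 D9847 F14771 F10629 (iv F11946) (iv D9759) F7147 D7275
def n10967 : Q := act 3 n9076
theorem D10967 : act 3 n9076 = n10967 := rfl
theorem F14773 : act 1 n10967 = n10697 := d5_1 D10967 (iv D10697) (iv F10588)
theorem F14774 : act 2 n10967 = n9077 := d7_1 D10967 (iv D9077) D9076
theorem F14775 : act 4 n10967 = n9851 := d9_2 (iv F10590) D10967 (iv D9851) (iv F10628) (iv F14771) (iv F14772) (iv D9847)
def n10968 : Q := act 0 n9078
theorem D10968 : act 0 n9078 = n10968 := rfl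
theorem F14776 : act 1 n10968 = n9323 := d0_2 D9078 D10968 F11104 F10371 (iv D8958) F5514 D6304
theorem F14777 : act 2 n10968 = n10882 := d1_2 (iv F10593) D10968 F14548 (iv D9059) (iv D6290) D6291 D9061
theorem F14778 : act 4 n10968 = n10602 := d3_2 F13067 D10968 F13865
def n10969 : Q := act 4 n9079
theorem D10969 : act 4 n9079 = n10969 := rfl
theorem F14779 : act 0 n10969 = n10488 := d3_1 D10969 F14769 F14768
theorem F14780 : act 2 n10969 = n10484 := d11_2 F10594 D10969 (iv D10484) (iv F12617) F12618 D10965 F14768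
theorem F14781 : act 3 n10969 = n9090 := d12_2 D9079 D10969 F10615 (iv F10602) (iv D9082) (iv D6305) D6304
def n10970 : Q := act 3 n9080
theorem D10970 : act 3 n9080 = n10970 := rfl
theorem F14782 : act 0 n10970 = n10492 := d2_1 D10970 (iv D10492) (iv D8211) (iv D5264) (iv F2597) (iv F8082) (iv F10595)
theorem F14783 : act 2 n10970 = n10490 := d7_1 D10970 (iv D10490) (iv F10596)
theorem F14784 : act 4 n10970 = n9089 := d9_2 D9080 D10970 (iv D9089) D9090 (iv F14781) (iv D10969) (iv D9079)
def n10971 : Q := act 4 n9083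
theorem D10971 : act 4 n9083 = n10971 := rfl
theorem F14785 : act 0 n10971 = n10872 := d3_1 D10971 (iv D10872) (iv F10603)
theorem F14786 : act 2 n10971 = n9756 := d8_1 D10971 F11937 F7776 F4172 D8132 (iv F8831) D9083
theorem F14787 : act 3 n10971 = n9084 := d9_1 D10971 (iv D9084) (iv D6311) D6312 D9085 F10609 (iv F10604)
def n10972 : Q := act 1 n9086
theorem D10972 : act 1 n9086 = n10972 := rfl
theorem F14788 : act 0 n10972 = n9314 := d0_1 D10972 (iv D9314) (iv D6604) (iv F6093) F6092 F5971 (iv F10610)
theorem F14789 : act 2 n10972 = n9607 := d4_2 D9086 D10972 (iv D9607) (iv D6974) F3098 D4115 (iv F5696)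
theorem F14790 : act 4 n10972 = n10487 := d6_2 F10611 D10972 (iv D10487)
theorem F14791 : act 3 n10750 = n10972 := d16_2 D8938 (iv F14219) (iv D10972) (iv D9086) F5696 D6978 F6816 (iv D6174) D6175 D8948 F10345 (iv D8937)
def n10973 : Q := act 3 n9086
theorem D10973 : act 3 n9086 = n10973 := rfl
theorem F14792 : act 0 n10973 = n9089 := d2_1 D10973 (iv D9089) (iv D6316) (iv D3533) D3532 D6315 (iv F10610)
theorem F14793 : act 1 n10973 = n10750 := d5_1 D10973 F14791 (iv D10972)
theorem F14794 : act 2 n10973 = n9087 := d7_1 D10973 (iv D9087) D9086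
theorem F14795 : act 4 n10973 = n10492 := d9_2 F10611 D10973 (iv D10492) F11690 (iv F14767) (iv F14769) (iv D10488)
def n10974 : Q := act 0 n9088
theorem D10974 : act 0 n9088 = n10974 := rfl
theorem F14796 : act 1 n10974 = n9480 := d0_2 D9088 D10974 F11411 F10377 (iv D8960) F5518 D6316
theorem F14797 : act 2 n10974 = n10891 := d1_2 F10650 D10974 F14572 (iv D9104) (iv D6330) D6331 D9106
theorem F14798 : act 4 n10974 = n10608 := d3_2 F13100 D10974 F13875
def n10975 : Q := act 2 n9096
theorem D10975 : act 2 n9096 = n10975 := rfl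
theorem F14799 : act 0 n10975 = n10609 := d1_1 D10975 (iv D10609) (iv D8399) F4538 D5507 (iv F6501) (iv F10632)
theorem F14800 : act 3 n10975 = n9322 := d7_2 (iv F10634) D10975 (iv D9322)
def n10976 : Q := act 4 n9097
theorem D10976 : act 4 n9097 = n10976 := rfl
theorem F14801 : act 0 n10976 = n9100 := d3_1 D10976 (iv D9100) D9097
theorem F14802 : act 1 n10976 = n9403 := d6_1 D10976 F11255 F10636
theorem F14803 : act 2 n10976 = n9340 := d8_1 D10976 F11139 (iv D8400) (iv D5508) (iv F4538) (iv F6530) (iv F10635)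
theorem F14804 : act 3 n10976 = n9332 := d9_1 D10976 (iv D9332) F10571 D10961 (iv F14754) (iv D9447) F10637
def n10977 : Q := act 4 n9098
theorem D10977 : act 4 n9098 = n10977 := rfl
theorem F14805 : act 0 n10977 = n9403 := d3_1 D10977 F11255 (iv F10639)
theorem F14806 : act 1 n10977 = n9100 := d6_1 D10977 (iv D9100) D9098
theorem F14807 : act 2 n10977 = n9395 := d8_1 D10977 F14713 (iv D10944) D10945 F14717 F11208 (iv F10638)
theorem F14808 : act 3 n10977 = n9435 := d9_1 D10977 F14758 (iv D10962) D10963 F14762 (iv D9421) F10640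
def n10978 : Q := act 0 n9099
theorem D10978 : act 0 n9099 = n10978 := rfl
theorem F14809 : act 2 n10978 = n9316 := d11_4 D7716 (iv F8106) (iv F10642) D10978 F12812 (iv D10129) F8093
theorem F14810 : act 3 n9315 = n10978 := d7_0 F14809 (iv D9316) D9315
theorem F14811 : act 1 n9315 = n9467 := d16_3 D9099 D10978 (iv F14810) (iv D9467) D9466 (iv F14559) F14561 F10381 F6408 (iv F6413) F10636 (iv D9097)
def n10979 : Q := act 0 n9105
theorem D10979 : act 0 n9105 = n10979 := rfl
theorem F14812 : act 1 n10979 = n9571 := d0_2 F14080 D10979 F11598 F10889 (iv D9217) (iv F10886) (iv F14079)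
theorem F14813 : act 3 n10979 = n9570 := d2_2 D9105 D10979 F11596 (iv F10554) (iv D9058) F5655 D6330
theorem F14814 : act 4 n10979 = n10100 := d3_2 F14078 D10979 (iv F14076)
def n10980 : Q := act 2 n9108
theorem D10980 : act 2 n9108 = n10980 := rfl
theorem F14815 : act 3 n10980 = n10807 := d7_2 F14732 D10980 F14733
theorem F14816 : act 4 n10980 = n10245 := d11_1 D10980 (iv D10245) (iv D7831) F3900 D4916 (iv F5715) D9108
theorem F14817 : act 1 n10683 = n10980 := d17_1 (iv F14071) (iv D10980) F10654 D9119 (iv F14129) F14130 (iv F13991) F13993 (iv D10561) (iv F10050) (iv F13609) F13611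
def n10981 : Q := act 0 n9110
theorem D10981 : act 0 n9110 = n10981 := rfl
theorem F14818 : act 1 n10981 = n10562 := d0_2 D9110 D10981 F13769 F12091 F12089 F12087 F7501
theorem F14819 : act 3 n10981 = n10560 := d2_2 (iv F10662) D10981 F13762 D10615 (iv F13892) (iv F13947) F13945
theorem F14820 : act 4 n10981 = n10576 := d3_2 (iv F10666) D10981 F13807
def n10982 : Q := act 2 n9110
theorem D10982 : act 2 n9110 = n10982 := rfl
theorem F14821 : act 1 n10982 = n9382 := d4_1 D10982 (iv D9382) (iv F6432) (iv D5663) (iv F2611) D6337 D9110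
theorem F14822 : act 3 n10982 = n9449 := d7_2 (iv F10662) D10982 F11357
theorem F14823 : act 4 n10982 = n10627 := d8_2 (iv F10666) D10982 F13915 F12134 F4570 (iv F4551) (iv F9340)
theorem F14824 : act 0 n10982 = n10627 := d10_3 (iv F14819) (iv D10981) D10982 (iv D10627) (iv F13889) (iv D10614) (iv F13762)
def n10983 : Q := act 0 n9116
theorem D10983 : act 0 n9116 = n10983 := rfl
theorem F14825 : act 1 n10983 = n10561 := d0_2 D9116 D10983 F13764 F12100 (iv F12098) F12096 F7504
theorem F14826 : act 3 n10983 = n10632 := d2_2 (iv F10679) D10983 F13926 F13887 F13885 (iv F13919) F13917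
theorem F14827 : act 4 n10983 = n10559 := d3_2 F10680 D10983 F13760
def n10984 : Q := act 2 n9116
theorem D10984 : act 2 n9116 = n10984 := rfl
theorem F14828 : act 1 n10984 = n9384 := d4_1 D10984 F11206 F6269 F4715 F2624 D6348 D9116
theorem F14829 : act 3 n10984 = n9383 := d7_2 (iv F10679) D10984 F11204
theorem F14830 : act 4 n10984 = n10626 := d8_2 F10680 D10984 (iv D10626) (iv D8412) F4546 (iv F4548) D8415
theorem F14831 : act 0 n10984 = n10626 := d10_3 (iv F14826) (iv D10983) D10984 F13913 (iv F13933) (iv D10634) (iv F13926)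
def n10985 : Q := act 0 n9119
theorem D10985 : act 0 n9119 = n10985 := rfl
theorem F14832 : act 2 n10985 = n10216 := d1_2 D9119 D10985 F12983 (iv F10688) (iv D9120) (iv D6358) D6357
theorem F14833 : act 3 n10985 = n10215 := d2_2 F14726 D10985 F12981 F8257 D10085 (iv F14277) (iv F14727)
def n10986 : Q := act 4 n9119
theorem D10986 : act 4 n9119 = n10986 := rfl
theorem F14834 : act 2 n10986 = n9852 := d8_1 D10986 F12128 D10245 (iv F14816) (iv D10980) F10654 D9119
def n10987 : Q := act 1 n9120
theorem D10987 : act 1 n9120 = n10987 := rfl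
theorem F14835 : act 0 n10987 = n10472 := d0_1 D10987 (iv F13800) F13799 F9232 (iv F10690) (iv D9121) D9120
theorem F14836 : act 3 n10468 = n10987 := d16_2 D8189 D10468 (iv D10987) F10688 (iv D8990) (iv D6227) (iv D3471) F955 F689 D1231 D2775 D5233
def n10988 : Q := act 3 n9120
theorem D10988 : act 3 n9120 = n10988 := rfl
theorem F14837 : act 1 n10988 = n10468 := d5_1 D10988 F14836 (iv D10987)
theorem F14838 : act 2 n10988 = n10237 := d7_1 D10988 F13030 (iv F10688)
def n10989 : Q := act 4 n9120
theorem D10989 : act 4 n9120 = n10989 := rfl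
theorem F14839 : act 0 n10989 = n9122 := d3_1 D10989 (iv D9122) D9120
theorem F14840 : act 2 n10989 = n10249 := d8_1 D10989 (iv D10249) (iv D7833) D7834 D10250 F13056 (iv F10688)
def n10990 : Q := act 2 n9123
theorem D10990 : act 2 n9123 = n10990 := rfl
theorem F14841 : act 3 n10990 = n9602 := d7_2 (iv F10695) D10990 (iv D9602)
theorem F14842 : act 0 n10990 = n9174 := d10_3 (iv F5814) (iv F10693) D10990 (iv D9174) (iv D6407) (iv D3620) D3619
def n10991 : Q := act 0 n9124
theorem D10991 : act 0 n9124 = n10991 := rfl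
theorem F14843 : act 1 n10991 = n10346 := d0_2 F13886 D10991 F13267 F8574 (iv F8571) (iv F13261) (iv F13885)
theorem F14844 : act 2 n10991 = n10447 := d1_2 D9124 D10991 F13484 (iv F10789) (iv F14842) (iv D10990) F10693
theorem F14845 : act 3 n10991 = n10457 := d2_2 (iv F10696) D10991 F13506 (iv D9982) (iv F12419) F12420 (iv D9172)
theorem F14846 : act 4 n10991 = n10344 := d3_2 F13884 D10991 (iv F13881)
def n10992 : Q := act 3 n9125
theorem D10992 : act 3 n9125 = n10992 := rfl
theorem F14847 : act 1 n10992 = n10391 := d5_1 D10992 (iv F13772) F13771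
theorem F14848 : act 2 n10992 = n10529 := d7_1 D10992 (iv D10529) (iv F10697)
theorem F14849 : act 4 n10992 = n10181 := d9_2 F13683 D10992 F13737 F13736 (iv F12420) (iv F12846) (iv F13682)
theorem F14850 : act 0 n10992 = n9137 := d10_1 D10992 (iv D9137) (iv D6372) (iv D3586) (iv F2641) D6361 D9125
def n10993 : Q := act 0 n9126
theorem D10993 : act 0 n9126 = n10993 := rfl
theorem F14851 : act 1 n10993 = n10356 := d0_2 F13890 D10993 F13283 F8590 (iv F8593) (iv F13284) F13892
theorem F14852 : act 3 n10993 = n10448 := d2_2 D9126 D10993 F13487 F12431 (iv F14850) (iv D10992) (iv D9125)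
theorem F14853 : act 4 n10993 = n10354 := d3_2 F13931 D10993 (iv F13928)
theorem F14854 : act 2 n10993 = n10449 := d10_2 D9126 D10993 F13489 (iv D8858) (iv F9063) (iv F10697) (iv D9125)
def n10994 : Q := act 2 n9127
theorem D10994 : act 2 n9127 = n10994 := rfl
theorem F14855 : act 0 n10994 = n9134 := d1_1 D10994 F10711 (iv F13489) (iv F14854) (iv D10993) F10698 D9127
theorem F14856 : act 3 n10994 = n9586 := d7_2 (iv F10699) D10994 (iv D9586)
def n10995 : Q := act 4 n9127
theorem D10995 : act 4 n9127 = n10995 := rfl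
theorem F14857 : act 0 n10995 = n9128 := d3_1 D10995 (iv D9128) D9127
theorem F14858 : act 1 n10995 = n9593 := d6_1 D10995 (iv D9593) F10700
theorem F14859 : act 3 n10995 = n9603 := d9_1 D10995 (iv D9603) (iv F10695) (iv D9123) F5812 D6956 (iv F10699)
def n10996 : Q := act 3 n9129
theorem D10996 : act 3 n9129 = n10996 := rfl
theorem F14860 : act 1 n10996 = n10368 := d5_1 D10996 (iv D10368) (iv F10704)
def n10997 : Q := act 2 n9130
theorem D10997 : act 2 n9130 = n10997 := rfl
theorem F14861 : act 0 n10997 = n9896 := d1_1 D10997 (iv D9896) (iv D7383) D7384 F7497 F7159 D9130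
theorem F14862 : act 4 n10997 = n10202 := d11_1 D10997 (iv F13371) (iv D10389) (iv F9158) F9159 F7159 D9130
theorem F14863 : act 1 n10997 = n10203 := d15_9 D10439 F13471 (iv D8151) (iv F7069) F7067 (iv F7158) F7159 D9130 D10997 (iv F12947) (iv F13463) F13462
def n10998 : Q := act 4 n9130
theorem D10998 : act 4 n9130 = n10998 := rfl
theorem F14864 : act 0 n10998 = n9131 := d3_1 D10998 (iv D9131) D9130
theorem F14865 : act 1 n10998 = n10375 := d6_1 D10998 (iv D10375) (iv F10705)
def n10999 : Q := act 3 n9132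
theorem D10999 : act 3 n9132 = n10999 := rfl
theorem F14866 : act 0 n10999 = n9602 := d2_1 D10999 (iv F14841) F14842 (iv D9174) (iv D6407) (iv F5820) D9132
theorem F14867 : act 2 n10999 = n9300 := d7_1 D10999 F12418 F12417
def n11000 : Q := act 2 n9136
theorem D11000 : act 2 n9136 = n11000 := rfl
theorem F14868 : act 0 n11000 = n10529 := d1_1 D11000 (iv F14848) F14850 (iv D9137) (iv D6372) (iv F5824) D9136
theorem F14869 : act 1 n11000 = n9292 := d16_11 (iv D10595) F9286 D8382 (iv F12244) F12245 F9864 (iv F9858) F9861 (iv F13372) F13373 D11000 (iv F13851)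
theorem F14870 : act 3 n9290 = n11000 := d5_0 F14869 (iv D9292) (iv F11051)
def n11001 : Q := act 3 n9136
theorem D11001 : act 3 n9136 = n11001 := rfl
theorem F14871 : act 0 n11001 = n9586 := d2_1 D11001 (iv F14856) F14855 (iv D9134) (iv D6368) D6370 D9136
theorem F14872 : act 2 n11001 = n9290 := d7_1 D11001 F14870 (iv D11000)
def n11002 : Q := act 4 n9139
theorem D11002 : act 4 n9139 = n11002 := rfl
theorem F14873 : act 0 n11002 = n9606 := d3_1 D11002 F11666 (iv F10720)
theorem F14874 : act 3 n11002 = n9180 := d9_1 D11002 F10798 (iv F10718) (iv D9138) (iv D6374) D6375 D9139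
theorem F14875 : act 2 n11002 = n9549 := d11_2 (iv F10719) D11002 F11558 (iv D6996) (iv D4128) D4127 (iv F6762)
def n11003 : Q := act 4 n9141
theorem D11003 : act 4 n9141 = n11003 := rfl
theorem F14876 : act 0 n11003 = n9142 := d3_1 D11003 (iv D9142) D9141
theorem F14877 : act 1 n11003 = n10751 := d6_1 D11003 (iv D10751) (iv F10726)
theorem F14878 : act 2 n11003 = n9566 := d8_1 D11003 (iv D9566) D9565 (iv F13454) (iv D10432) (iv F8843) (iv F10727)
theorem F14879 : act 3 n11003 = n10773 := d9_1 D11003 F14276 F10725 (iv D9140) F5836 D8707 (iv F10728)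
def n11004 : Q := act 3 n9145
theorem D11004 : act 3 n9145 = n11004 := rfl
theorem F14880 : act 0 n11004 = n9254 := d2_1 D11004 F12778 F12775 (iv F8044) (iv F8041) (iv F8043) (iv F10734)
theorem F14881 : act 1 n11004 = n9146 := d5_1 D11004 (iv D9146) D9145
theorem F14882 : act 2 n11004 = n9241 := d7_1 D11004 (iv D9241) (iv F10735)
theorem F14883 : act 4 n11004 = n9227 := d12_1 D11004 (iv F12755) F12753 (iv D7692) D7693 (iv F8043) (iv F10734)
def n11005 : Q := act 4 n9146
theorem D11005 : act 4 n9146 = n11005 := rfl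
theorem F14884 : act 0 n11005 = n10477 := d3_1 D11005 F13547 F11641
theorem F14885 : act 1 n11005 = n9227 := d6_1 D11005 (iv F14883) F14881
theorem F14886 : act 3 n11005 = n9179 := d12_2 D9146 D11005 F10796 (iv F10740) (iv D9149) (iv D6383) D6382
def n11006 : Q := act 3 n9147
theorem D11006 : act 3 n9147 = n11006 := rfl
theorem F14887 : act 0 n11006 = n10498 := d2_1 D11006 (iv F14270) (iv D10770) (iv F14225) F14223 (iv F10733) (iv F10737)
theorem F14888 : act 1 n11006 = n9228 := d5_1 D11006 (iv D9228) (iv F10738)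
theorem F14889 : act 4 n11006 = n9178 := d9_2 D9147 D11006 (iv D9178) D9179 (iv F14886) (iv D11005) (iv D9146)
def n11007 : Q := act 2 n9151
theorem D11007 : act 2 n9151 = n11007 := rfl
theorem F14890 : act 0 n11007 = n9653 := d1_1 D11007 (iv F13773) F13770 F9197 (iv D6386) D6387 D9151
theorem F14891 : act 1 n11007 = n9816 := d4_1 D11007 F12053 (iv F12078) F12079 (iv F14381) F14382 F14194
theorem F14892 : act 3 n11007 = n10379 := d7_2 F14199 D11007 (iv F14198)
theorem F14893 : act 4 n11007 = n9814 := d8_2 (iv F10745) D11007 F12048 D10376 F13331 (iv D8801) D8799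
def n11008 : Q := act 0 n9153
theorem D11008 : act 0 n9153 = n11008 := rfl
theorem F14894 : act 1 n11008 = n10718 := d0_2 (iv F12495) D11008 F14149 F12901 F8146 F7716 D10007
theorem F14895 : act 4 n11008 = n10198 := d3_2 F12724 D11008 F12939
theorem F14896 : act 3 n11008 = n10746 := d12_4 F12721 (iv D9154) D9153 D11008 (iv D10746) (iv F12751) F12752
def n11009 : Q := act 2 n9166
theorem D11009 : act 2 n9166 = n11009 := rfl
theorem F14897 : act 0 n11009 = n9883 := d1_1 D11009 (iv F13955) F13952 F9379 (iv D6401) D6402 D9166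
theorem F14898 : act 1 n11009 = n9813 := d4_1 D11009 F12047 (iv F12065) F12066 (iv F14409) F14410 F14188
theorem F14899 : act 3 n11009 = n10393 := d7_2 F14192 D11009 (iv F14191)
theorem F14900 : act 4 n11009 = n9811 := d8_2 (iv F10775) D11009 F12042 D10380 F13343 (iv D8810) D8808
def n11010 : Q := act 0 n9168
theorem D11010 : act 0 n9168 = n11010 := rfl
theorem F14901 : act 1 n11010 = n10714 := d0_2 F12475 D11010 F14141 F12865 F8127 F7692 (iv F12474)
theorem F14902 : act 4 n11010 = n10109 := d3_2 F12722 D11010 F12752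
theorem F14903 : act 3 n11010 = n10717 := d10_4 (iv F10782) (iv D9170) (iv F10777) D11010 (iv F14147) (iv D9561) (iv F10077)
def n11011 : Q := act 3 n9177
theorem D11011 : act 3 n9177 = n11011 := rfl
theorem F14904 : act 0 n11011 = n9264 := d2_1 D11011 (iv F12791) F12788 F8061 (iv F8159) F8160 (iv F10794)
theorem F14905 : act 1 n11011 = n9178 := d5_1 D11011 (iv D9178) D9177
theorem F14906 : act 2 n11011 = n9240 := d7_1 D11011 F10941 (iv F10795)
theorem F14907 : act 4 n11011 = n9228 := d9_2 F12756 D11011 (iv D9228) F10736 D11004 F14883 (iv F12755)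
def n11012 : Q := act 4 n9184
theorem D11012 : act 4 n9184 = n11012 := rfl
theorem F14908 : act 0 n11012 = n9185 := d3_1 D11012 (iv D9185) D9184
theorem F14909 : act 1 n11012 = n10222 := d6_1 D11012 (iv D10222) (iv F10813)
theorem F14910 : act 2 n11012 = n10322 := d8_1 D11012 (iv F13674) F13671 (iv F12164) F12162 D10316 F13226
theorem F14911 : act 3 n11012 = n10322 := d9_1 D11012 (iv F13674) F13672 (iv D9183) F5896 D7807 (iv F10814)
def n11013 : Q := act 2 n9190
theorem D11013 : act 2 n9190 = n11013 := rfl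
theorem F14912 : act 0 n11013 = n9575 := d1_1 D11013 (iv D9575) (iv F7962) (iv F7966) (iv D6433) D6434 D9190
theorem F14913 : act 4 n11013 = n10264 := d8_2 (iv F13003) D11013 F13088 (iv F12997) (iv F13009) (iv D10230) D10228
theorem F14914 : act 1 n10266 = n11013 := d16_3 F10306 D10877 F14535 (iv D11013) (iv F14533) (iv D10877) (iv F10306) D10805 (iv F14347) F10614 F14347 (iv D10805)
theorem F14915 : act 3 n11013 = n9190 := d5_2 F14535 F14914 (iv F14533)
def n11014 : Q := act 1 n9195
theorem D11014 : act 1 n9195 = n11014 := rfl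
theorem F14916 : act 0 n11014 = n10428 := d0_1 D11014 F13446 F8833 (iv F8741) F8740 F7719 D9195
theorem F14917 : act 4 n11014 = n10265 := d6_2 (iv F13467) D11014 (iv F13465)
theorem F14918 : act 3 n10320 = n11014 := d9_7 F14917 (iv D10265) D10266 (iv F14535) F14534 F13087 D10320
def n11015 : Q := act 2 n9195
theorem D11015 : act 2 n9195 = n11015 := rfl
theorem F14919 : act 0 n11015 = n9578 := d1_1 D11015 F11615 F7992 F7994 (iv D6443) (iv F5920) D9195
theorem F14920 : act 4 n11015 = n10319 := d8_2 (iv F13467) D11015 F13228 (iv F13006) (iv F13470) (iv D10438) D10437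
theorem F14921 : act 1 n10320 = n11015 := d16_3 (iv F13447) (iv F14916) (iv F14918) (iv D11015) D11014 F14916 F13447 D10780 (iv F14315) F10594 F14315 (iv D10780)
theorem F14922 : act 3 n11015 = n9195 := d5_2 (iv F14918) F14921 D11014
def n11016 : Q := act 2 n9199
theorem D11016 : act 2 n9199 = n11016 := rfl
theorem F14923 : act 0 n11016 = n9203 := d1_1 D11016 F10854 (iv F14218) (iv D10749) F9916 (iv F9441) D9199
theorem F14924 : act 1 n11016 = n11016 := d4_1 D11016 (iv D11016) (iv F10847) (iv F11635) F11634 F11635 F10847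
theorem F14925 : act 3 n11016 = n9615 := d7_2 (iv F10846) D11016 (iv D9615)
theorem F14926 : act 4 n11016 = n10728 := d11_1 D11016 F14171 F11730 F7360 D8479 (iv F9441) D9199
def n11017 : Q := act 4 n9199
theorem D11017 : act 4 n9199 = n11017 := rfl
theorem F14927 : act 0 n11017 = n9200 := d3_1 D11017 (iv D9200) D9199
theorem F14928 : act 1 n11017 = n9614 := d6_1 D11017 F11679 F10847
theorem F14929 : act 2 n11017 = n10336 := d11_2 (iv D11016) D11017 (iv D10336) D10337 F13255 (iv F10854) (iv F14923)
theorem F14930 : act 3 n11017 = n9612 := d12_2 (iv F10846) D11017 F11676 F10865 (iv D9207) D9206 F10859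
def n11018 : Q := act 2 n9200
theorem D11018 : act 2 n9200 = n11018 := rfl
theorem F14931 : act 1 n11018 = n9494 := d4_1 D11018 (iv D9494) (iv D6825) (iv D3990) (iv F2978) D6818 (iv F10848)
theorem F14932 : act 3 n11018 = n9218 := d7_2 (iv F10849) D11018 (iv D9218)
def n11019 : Q := act 0 n9201
theorem D11019 : act 0 n9201 = n11019 := rfl
theorem F14933 : act 1 n11019 = n10716 := d0_2 (iv F10850) D11019 (iv D10716) (iv D8591) D8590 (iv F11459) (iv D9495)
theorem F14934 : act 2 n11019 = n10724 := d1_2 D9201 D11019 F14162 F10264 F7081 (iv D6454) (iv F5927)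
def n11020 : Q := act 3 n9201
theorem D11020 : act 3 n9201 = n11020 := rfl
theorem F14935 : act 1 n11020 = n9496 := d5_1 D11020 (iv D9496) (iv F10850)
theorem F14936 : act 2 n11020 = n9202 := d7_1 D11020 (iv D9202) D9201
def n11021 : Q := act 0 n9202
theorem D11021 : act 0 n9202 = n11021 := rfl
theorem F14937 : act 3 n11021 = n9616 := d2_2 D9202 D11021 F11681 (iv F10872) (iv D9210) (iv D6455) (iv F5927)
theorem F14938 : act 4 n11021 = n9217 := d3_2 (iv F10852) D11021 (iv D9217)
theorem F14939 : act 2 n11021 = n10359 := d10_2 D9202 D11021 (iv D10359) F8594 F7081 (iv D6454) (iv F5927)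
theorem F14940 : act 1 n9613 = n11021 := d6_3 F14938 (iv F10889) D9613
def n11022 : Q := act 2 n9204
theorem D11022 : act 2 n9204 = n11022 := rfl
theorem F14941 : act 0 n11022 = n10019 := d1_1 D11022 (iv D10019) F7756 (iv F7368) (iv D6452) (iv F5933) D9204
theorem F14942 : act 1 n9335 = n11022 := d16_3 D3820 D6619 D9335 (iv D11022) (iv F14151) (iv D10719) (iv D8596) F4799 (iv F4804) (iv F6205) (iv D6616) (iv D3819)
theorem F14943 : act 3 n11022 = n9333 := d5_2 D9335 F14942 (iv D9333)
def n11023 : Q := act 3 n9204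
theorem D11023 : act 3 n9204 = n11023 := rfl
theorem F14944 : act 0 n11023 = n9615 := d2_1 D11023 (iv F14925) F14923 (iv D9203) (iv D6449) D6451 D9204
theorem F14945 : act 1 n11023 = n9541 := d5_1 D11023 (iv F14152) F14151
theorem F14946 : act 2 n11023 = n9333 := d7_1 D11023 (iv F14943) (iv D11022)
theorem F14947 : act 4 n11023 = n9540 := d12_1 D11023 (iv F11928) (iv D9752) (iv D7141) F3198 D6451 D9204
def n11024 : Q := act 2 n9205
theorem D11024 : act 2 n9205 = n11024 := rfl
theorem F14948 : act 0 n11024 = n10080 := d1_1 D11024 F12681 (iv F12607) F12609 (iv F12674) F12675 (iv F10856)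
theorem F14949 : act 1 n11024 = n9369 := d4_1 D11024 F11181 F6241 F3564 (iv F3663) (iv F7368) D9205
theorem F14950 : act 3 n11024 = n9368 := d7_2 F10857 D11024 F11178
theorem F14951 : act 4 n11024 = n10042 := d8_2 (iv F10858) D11024 F12583 F12517 (iv D10016) F7754 (iv F7864)
def n11025 : Q := act 3 n9213
theorem D11025 : act 3 n9213 = n11025 := rfl
theorem F14952 : act 0 n11025 = n9420 := d2_1 D11025 (iv D9420) (iv D6700) (iv D3876) D3875 D6699 (iv F10879)
theorem F14953 : act 1 n11025 = n9417 := d5_1 D11025 F11288 (iv F10880)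
theorem F14954 : act 2 n11025 = n9214 := d7_1 D11025 (iv D9214) D9213
theorem F14955 : act 4 n11025 = n9971 := d9_2 (iv F10881) D11025 F12403 F11179 (iv F14950) F14951 (iv D10042)
def n11026 : Q := act 2 n9217
theorem D11026 : act 2 n9217 = n11026 := rfl
theorem F14956 : act 0 n11026 = n9219 := d1_1 D11026 F10892 (iv F14219) (iv D10750) F9918 (iv F9452) D9217
theorem F14957 : act 1 n11026 = n11026 := d4_1 D11026 (iv D11026) (iv F10889) (iv F11639) F11638 F11639 F10889
theorem F14958 : act 3 n11026 = n9611 := d7_2 (iv F10888) D11026 (iv D9611)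
def n11027 : Q := act 0 n9218
theorem D11027 : act 0 n9218 = n11027 := rfl
theorem F14959 : act 1 n11027 = n10745 := d0_2 (iv F10890) D11027 (iv D10745) (iv D8675) D8674 (iv F13910) F13909
theorem F14960 : act 2 n11027 = n10742 := d1_2 D9218 D11027 F14203 (iv F10894) (iv D9221) (iv D6483) (iv F5985)
def n11028 : Q := act 2 n9220
theorem D11028 : act 2 n9220 = n11028 := rfl
theorem F14961 : act 0 n11028 = n9991 := d1_1 D11028 (iv D9991) F7656 (iv F7076) (iv D6482) (iv F5990) D9220
theorem F14962 : act 1 n9316 = n11028 := d16_3 (iv F2839) D6604 D9316 (iv D11028) (iv F14139) F14138 F9662 F5055 (iv F5063) (iv F6528) (iv D6801) (iv D3956)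
theorem F14963 : act 3 n11028 = n9314 := d5_2 D9316 F14962 (iv D9314)
def n11029 : Q := act 3 n9220
theorem D11029 : act 3 n9220 = n11029 := rfl
theorem F14964 : act 0 n11029 = n9611 := d2_1 D11029 (iv F14958) F14956 (iv D9219) (iv D6479) D6481 D9220
theorem F14965 : act 1 n11029 = n9537 := d5_1 D11029 (iv F14140) F14139
theorem F14966 : act 2 n11029 = n9314 := d7_1 D11029 (iv F14963) (iv D11028)
theorem F14967 : act 4 n11029 = n9536 := d9_2 F11927 D11029 (iv F12145) F12144 D11023 F14947 (iv F11928)
def n11030 : Q := act 4 n9226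
theorem D11030 : act 4 n9226 = n11030 := rfl
theorem F14968 : act 0 n11030 = n9265 := d3_1 D11030 F10993 (iv F10911)
theorem F14969 : act 1 n11030 = n11002 := d6_1 D11030 (iv D11002) (iv F10912)
theorem F14970 : act 2 n11030 = n9229 := d8_1 D11030 (iv D9229) (iv F10918) (iv F14907) F14906 (iv D9240) (iv F10913)
theorem F14971 : act 3 n11030 = n9474 := d9_1 D11030 (iv D9474) (iv F10910) (iv D9225) (iv D6495) D6496 D9226
def n11031 : Q := act 3 n9230
theorem D11031 : act 3 n9230 = n11031 := rfl
theorem F14972 : act 0 n11031 = n10245 := d2_1 D11031 F13045 F9971 D8735 (iv F12658) (iv D10070) (iv F10922)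
theorem F14973 : act 1 n11031 = n9231 := d5_1 D11031 (iv D9231) (iv F10923)
theorem F14974 : act 2 n11031 = n10226 := d7_1 D11031 (iv D10226) (iv F10924)
def n11032 : Q := act 2 n9232
theorem D11032 : act 2 n9232 = n11032 := rfl
theorem F14975 : act 0 n11032 = n10266 := d1_1 D11032 F13091 (iv D9429) F6368 D9058 (iv F12673) F12671
theorem F14976 : act 3 n11032 = n10974 := d7_2 F14573 D11032 F14797
theorem F14977 : act 4 n10263 = n11032 := d3_0 F14975 (iv D10266) D10263
def n11033 : Q := act 0 n9235
theorem D11033 : act 0 n9235 = n11033 := rfl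
theorem F14978 : act 2 n11033 = n10821 := d1_2 D9235 D11033 (iv D10821) (iv D8816) D8815 (iv F10929) (iv D9234)
theorem F14979 : act 3 n11033 = n10821 := d2_2 (iv F10931) D11033 (iv D10821) F10109 D8844 F10164 F6463
def n11034 : Q := act 4 n9235
theorem D11034 : act 4 n9235 = n11034 := rfl
theorem F14980 : act 3 n11034 = n9244 := d12_2 (iv F10931) D11034 F10950 (iv F9716) (iv F10165) F10164 F6463
def n11035 : Q := act 3 n9237
theorem D11035 : act 3 n9237 = n11035 := rfl
theorem F14981 : act 2 n11035 = n9238 := d7_1 D11035 (iv D9238) D9237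
theorem F14982 : act 0 n11035 = n9361 := d10_1 D11035 (iv D9361) (iv D6642) (iv D3834) D3832 D6637 (iv F10935)
def n11036 : Q := act 4 n9237
theorem D11036 : act 4 n9237 = n11036 := rfl
theorem F14983 : act 0 n11036 = n9357 := d3_1 D11036 (iv D9357) (iv F10935)
theorem F14984 : act 2 n11036 = n9349 := d11_2 D9237 D11036 (iv D9349) (iv D6634) (iv D3831) D3829 (iv F6024)
def n11037 : Q := act 4 n9238
theorem D11037 : act 4 n9238 = n11037 := rfl
theorem F14985 : act 0 n11037 = n9370 := d3_1 D11037 (iv D9370) (iv F10937)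
theorem F14986 : act 1 n11037 = n9240 := d6_1 D11037 (iv D9240) (iv F10936)
theorem F14987 : act 3 n11037 = n9454 := d12_2 D9238 D11037 F11370 (iv F11436) (iv D9342) (iv D6630) (iv F6024)
def n11038 : Q := act 3 n9239
theorem D11038 : act 3 n9239 = n11038 := rfl
theorem F14988 : act 1 n11038 = n9241 := d5_1 D11038 (iv D9241) (iv F10939)
theorem F14989 : act 4 n11038 = n9266 := d9_2 D9239 D11038 F10996 D9454 (iv F14987) (iv D11037) (iv D9238)
theorem F14990 : act 0 n11038 = n9470 := d16_8 (iv F10699) (iv D9127) (iv D6362) (iv F2977) D6816 (iv F6561) (iv F10938) D11038 F11389 F7844 (iv F7636) F7635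
def n11039 : Q := act 0 n9243
theorem D11039 : act 0 n9243 = n11039 := rfl
theorem F14991 : act 2 n11039 = n10823 := d1_2 (iv F10949) D11039 (iv D10823) F10117 D8821 (iv F10952) (iv D9245)
theorem F14992 : act 3 n11039 = n10823 := d2_2 D9243 D11039 (iv D10823) (iv D8819) D8818 F10114 F6265
def n11040 : Q := act 4 n9243
theorem D11040 : act 4 n9243 = n11040 := rfl
theorem F14993 : act 3 n11040 = n9476 := d9_1 D11040 (iv D9476) (iv F10931) D11034 F14980 (iv D9244) D9243
def n11041 : Q := act 2 n9248
theorem D11041 : act 2 n9248 = n11041 := rfl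
theorem F14994 : act 0 n11041 = n10320 := d1_1 D11041 (iv F14748) (iv D10959) F10556 D9064 (iv F12702) F12700
theorem F14995 : act 3 n11041 = n10968 := d7_2 F14549 D11041 F14777
theorem F14996 : act 4 n10318 = n11041 := d9_0 F14995 F14778 (iv F13866) F14977 F14976 F14798 (iv F13876)
def n11042 : Q := act 1 n9250
theorem D11042 : act 1 n9250 = n11042 := rfl
theorem F14997 : act 0 n11042 = n10091 := d0_1 D11042 (iv D10091) (iv F12221) F12222 (iv F8684) (iv F8687) (iv F10962)
theorem F14998 : act 4 n11042 = n9251 := d6_2 (iv F10963) D11042 (iv D9251)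
theorem F14999 : act 2 n11042 = n10321 := d15_6 F4137 (iv F4086) D8051 (iv F8687) (iv F10962) D11042 (iv D10321) (iv D7970) D7969 F8512 F4134 F1800
def n11043 : Q := act 0 n9252
theorem D11043 : act 0 n9252 = n11043 := rfl
theorem F15000 : act 2 n11043 = n9330 := d1_2 D9252 D11043 (iv F11122) (iv D8397) F4536 D5509 (iv F6046)
theorem F15001 : act 4 n11043 = n9322 := d3_2 (iv F10968) D11043 F11103
def n11044 : Q := act 2 n9256
theorem D11044 : act 2 n9256 = n11044 := rfl
theorem F15002 : act 1 n11044 = n10443 := d4_1 D11044 (iv D10443) (iv D8156) F4189 F3693 (iv F6061) D9256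
theorem F15003 : act 3 n11044 = n10720 := d7_2 (iv F10971) D11044 F14155
theorem F15004 : act 4 n10928 = n11044 := d12_1 D10928 F15003 F14154 (iv F14678) (iv D10930) (iv D9024) D9023
def n11045 : Q := act 2 n9260
theorem D11045 : act 2 n9260 = n11045 := rfl
theorem F15005 : act 1 n11045 = n10444 := d4_1 D11045 (iv D10444) (iv D8160) F4199 D7569 (iv F7821) D9260
theorem F15006 : act 3 n11045 = n10722 := d7_2 (iv F10985) D11045 F14159
theorem F15007 : act 4 n10932 = n11045 := d9_0 F15006 (iv F14160) D10928 F15004 F15003 (iv F14156) D10932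
def n11046 : Q := act 2 n9266
theorem D11046 : act 2 n9266 = n11046 := rfl
theorem F15008 : act 0 n11046 = n9467 := d1_1 D11046 (iv D9467) (iv D6763) F2940 D3926 D6767 (iv F10995)
theorem F15009 : act 3 n11046 = n9453 := d7_2 (iv F10996) D11046 (iv D9453)
def n11047 : Q := act 4 n9270
theorem D11047 : act 4 n9270 = n11047 := rfl
theorem F15010 : act 0 n11047 = n10827 := d3_1 D11047 F14396 (iv F11006)
theorem F15011 : act 1 n11047 = n9272 := d6_1 D11047 (iv D9272) (iv F11007)
theorem F15012 : act 2 n11047 = n10584 := d8_1 D11047 (iv D10584) D10582 F13822 (iv D8598) D8600 (iv F11008)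
theorem F15013 : act 3 n11047 = n9281 := d12_2 D9270 D11047 (iv F12591) F12592 (iv D10000) (iv F11002) (iv D9268)
def n11048 : Q := act 2 n9271
theorem D11048 : act 2 n9271 = n11048 := rfl
theorem F15014 : act 4 n11048 = n10583 := d8_2 D9271 D11048 F13826 F11850 (iv F9857) (iv F11004) (iv D9269)
theorem F15015 : act 1 n11048 = n10581 := d16_5 (iv F14551) F14550 (iv D9273) (iv F11009) D11048 F13819 F13749 F13748 (iv F9810) (iv F11023) F11022 (iv F10926)
theorem F15016 : act 3 n10579 = n11048 := d5_0 F15015 (iv D10581) (iv F13816)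
def n11049 : Q := act 3 n9271
theorem D11049 : act 3 n9271 = n11049 := rfl
theorem F15017 : act 0 n11049 = n10826 := d2_1 D11049 F14394 F10157 F10130 (iv F12498) F12573 F12571
theorem F15018 : act 1 n11049 = n9273 := d5_1 D11049 (iv D9273) (iv F11009)
theorem F15019 : act 2 n11049 = n10579 := d7_1 D11049 F15016 (iv D11048)
theorem F15020 : act 4 n11049 = n9280 := d9_2 D9271 D11049 (iv D9280) D9281 (iv F15013) (iv D11047) (iv D9270)
def n11050 : Q := act 2 n9281
theorem D11050 : act 2 n9281 = n11050 := rfl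
theorem F15021 : act 3 n11050 = n10584 := d7_2 F15013 D11050 (iv F15012)
theorem F15022 : act 4 n11050 = n10578 := d8_2 D9281 D11050 F13814 (iv D9705) (iv F9677) (iv F11029) (iv D9279)
theorem F15023 : act 1 n11050 = n10580 := d16_5 (iv F14575) F14574 F11010 (iv F11034) D11050 F13817 (iv F13785) F13784 (iv F9798) (iv F11020) F11019 (iv F10961)
def n11051 : Q := act 2 n9285
theorem D11051 : act 2 n9285 = n11051 := rfl
theorem F15024 : act 1 n11051 = n10715 := d4_1 D11051 F14143 F10127 (iv D8515) F4697 D6575 D9285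
theorem F15025 : act 4 n9495 = n11051 := d6_0 F15024 (iv D10715) (iv F11459)
theorem F15026 : act 0 n9497 = n11051 := d14_11 F15024 F14143 F10127 F9532 (iv F4889) (iv D5768) (iv F4881) (iv F6624) (iv F7073) D9750 (iv F11923)
theorem F15027 : act 3 n10625 = n11051 := d16_2 (iv F12135) (iv F13911) F15024 F14143 F10127 F9532 F4711 D8259 (iv F11404) (iv F13936) F13935 F9363
theorem F15028 : act 2 n10942 = n10625 := d7_3 F15027 (iv D11051) (iv F14707)
def n11052 : Q := act 1 n9291
theorem D11052 : act 1 n9291 = n11052 := rfl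
def n11053 : Q := act 4 n9291
theorem D11053 : act 4 n9291 = n11053 := rfl
theorem F15029 : act 2 n11053 = n9305 := d8_1 D11053 (iv D9305) (iv F6663) (iv D6873) (iv F3020) D6583 D9291
def n11054 : Q := act 1 n9293
theorem D11054 : act 1 n9293 = n11054 := rfl
theorem F15030 : act 3 n11054 = n10179 := d5_2 F14641 D11054 (iv F14640)
theorem F15031 : act 2 n11054 = n10160 := d17_8 (iv F11094) F11092 F9342 D8421 (iv F11056) (iv D9294) D9293 D11054 (iv D10160) (iv F12867) (iv F13556) (iv D10481)
def n11055 : Q := act 4 n9293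
theorem D11055 : act 4 n9293 = n11055 := rfl
theorem F15032 : act 0 n11055 = n9296 := d3_1 D11055 (iv D9296) D9293
theorem F15033 : act 2 n11055 = n9303 := d8_1 D11055 (iv D9303) (iv D6592) (iv D3805) D3804 D6591 (iv F11052)
def n11056 : Q := act 1 n9298
theorem D11056 : act 1 n9298 = n11056 := rfl
theorem F15034 : act 3 n11056 = n10161 := d5_2 F12353 D11056 F12871
theorem F15035 : act 2 n11056 = n10162 := d17_8 (iv F11135) F11133 F9351 (iv F9344) (iv F11065) F11064 D9298 D11056 F12872 (iv F12904) (iv F13583) (iv D10496)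
def n11057 : Q := act 4 n9298
theorem D11057 : act 4 n9298 = n11057 := rfl
theorem F15036 : act 0 n11057 = n9299 := d3_1 D11057 (iv D9299) D9298
theorem F15037 : act 2 n11057 = n9309 := d8_1 D11057 (iv D9309) (iv D6598) D6599 D9310 F11081 (iv F11067)
def n11058 : Q := act 4 n9300
theorem D11058 : act 4 n9300 = n11058 := rfl
theorem F15038 : act 0 n11058 = n10458 := d3_1 D11058 (iv D10458) (iv F11071)
theorem F15039 : act 1 n11058 = n9302 := d6_1 D11058 (iv D9302) D9300
def n11059 : Q := act 1 n9301
theorem D11059 : act 1 n9301 = n11059 := rfl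
def n11060 : Q := act 4 n9301
theorem D11060 : act 4 n9301 = n11060 := rfl
theorem F15040 : act 2 n11060 = n9307 := d8_1 D11060 (iv D9307) F6723 (iv F11528) (iv F11530) (iv D9302) D9301
def n11061 : Q := act 4 n9304
theorem D11061 : act 4 n9304 = n11061 := rfl
theorem F15041 : act 0 n11061 = n10453 := d3_1 D11061 F13499 (iv F11074)
theorem F15042 : act 1 n11061 = n9305 := d6_1 D11061 (iv D9305) D9304
def n11062 : Q := act 4 n9306
theorem D11062 : act 4 n9306 = n11062 := rfl
theorem F15043 : act 0 n11062 = n10455 := d3_1 D11062 F13502 F12458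
theorem F15044 : act 1 n11062 = n9307 := d6_1 D11062 (iv D9307) D9306
def n11063 : Q := act 2 n9311
theorem D11063 : act 2 n9311 = n11063 := rfl
theorem F15045 : act 0 n11063 = n9315 := d1_1 D11063 (iv D9315) (iv D6604) (iv D3813) D3812 D6601 D9311
theorem F15046 : act 1 n11063 = n11046 := d4_1 D11063 (iv D11046) (iv D9266) (iv F10909) F10908 F10717 (iv F11083)
theorem F15047 : act 3 n11063 = n9446 := d7_2 (iv F11084) D11063 F11351
def n11064 : Q := act 2 n9312
theorem D11064 : act 2 n9312 = n11064 := rfl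
theorem F15048 : act 0 n11064 = n9316 := d1_1 D11064 (iv F14809) (iv D10978) F10642 D9101 F10644 D9312
theorem F15049 : act 1 n11064 = n11032 := d4_1 D11064 (iv D11032) (iv D9232) (iv D6504) (iv F3859) D7789 (iv F11086)
theorem F15050 : act 3 n11064 = n9480 := d7_2 (iv F11087) D11064 (iv D9480)
theorem F15051 : act 4 n10604 = n11064 := d12_1 D10604 F15050 F11411 (iv D6802) F6497 (iv F4529) D8392
def n11065 : Q := act 0 n9313
theorem D11065 : act 0 n9313 = n11065 := rfl
theorem F15052 : act 1 n11065 = n9630 := d0_2 F13182 D11065 (iv D9630) D9631 F11716 (iv F11719) (iv F13181)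
theorem F15053 : act 3 n11065 = n9327 := d2_2 (iv F11089) D11065 (iv D9327) D9329 (iv F11120) (iv F8193) (iv F11126)
theorem F15054 : act 4 n11065 = n10606 := d3_2 F12819 D11065 F13871
def n11066 : Q := act 4 n9314
theorem D11066 : act 4 n9314 = n11066 := rfl
theorem F15055 : act 0 n11066 = n10487 := d3_1 D11066 (iv F14790) F14788
theorem F15056 : act 1 n11066 = n9317 := d6_1 D11066 (iv D9317) D9314
theorem F15057 : act 2 n11066 = n9524 := d17_4 D9537 (iv F14965) F14966 D11066 (iv D9524) (iv F9264) (iv F13825) F13826 F11850 (iv F9857) F9856 F9855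
def n11067 : Q := act 4 n9315
theorem D11067 : act 4 n9315 = n11067 := rfl
theorem F15058 : act 2 n11067 = n9319 := d8_1 D11067 F11095 F9312 (iv F8092) F11091 (iv D9317) D9315
def n11068 : Q := act 1 n9319
theorem D11068 : act 1 n9319 = n11068 := rfl
theorem F15059 : act 0 n11068 = n9984 := d0_1 D11068 F12437 F8957 F4255 (iv F4252) (iv F6183) D9319
theorem F15060 : act 3 n11068 = n10997 := d5_2 F12946 D11068 F14863
theorem F15061 : act 4 n11068 = n10480 := d6_2 (iv F11095) D11068 (iv D10480)
theorem F15062 : act 2 n11068 = n9522 := d14_1 D11068 F11508 (iv F9221) F9222 (iv F11868) (iv D9727) (iv D7100) (iv F6976) F6977 (iv F6183) D9319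
def n11069 : Q := act 3 n9320
theorem D11069 : act 3 n9320 = n11069 := rfl
theorem F15063 : act 0 n11069 = n9334 := d2_1 D11069 F14764 (iv D10964) (iv D9069) D9067 (iv F10571) (iv F11096)
theorem F15064 : act 1 n11069 = n11035 := d5_1 D11069 (iv D11035) (iv F11097)
theorem F15065 : act 2 n11069 = n9321 := d7_1 D11069 (iv D9321) D9320
def n11070 : Q := act 4 n9320
theorem D11070 : act 4 n9320 = n11070 := rfl
theorem F15066 : act 0 n11070 = n9332 := d3_1 D11070 (iv D9332) (iv F11096)
theorem F15067 : act 1 n11070 = n11036 := d6_1 D11070 (iv D11036) (iv F11097)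
theorem F15068 : act 2 n11070 = n9327 := d8_1 D11070 F11123 (iv D8397) (iv D5503) D5501 (iv F6195) D9320
def n11071 : Q := act 3 n9323
theorem D11071 : act 3 n9323 = n11071 := rfl
theorem F15069 : act 0 n11071 = n9335 := d2_1 D11071 (iv D9335) (iv D6619) (iv D3820) D3819 D6618 (iv F11104)
theorem F15070 : act 1 n11071 = n11041 := d5_1 D11071 F14995 F14776
theorem F15071 : act 2 n11071 = n9324 := d7_1 D11071 (iv D9324) D9323
theorem F15072 : act 4 n11071 = n10610 := d9_2 F11105 D11071 (iv D10610) F11412 (iv F15050) (iv F15051) (iv D10604)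
def n11072 : Q := act 2 n9325
theorem D11072 : act 2 n9325 = n11072 := rfl
theorem F15073 : act 0 n11072 = n9486 := d1_1 D11072 (iv F14753) F14751 F10575 (iv F11113) (iv D9326) (iv F11109)
theorem F15074 : act 3 n11072 = n9947 := d7_2 (iv F11111) D11072 (iv D9947)
theorem F15075 : act 4 n10605 = n11072 := d12_1 (iv F13870) F15074 F12809 F12808 F11137 F9320 D10201
def n11073 : Q := act 1 n9326
theorem D11073 : act 1 n9326 = n11073 := rfl
theorem F15076 : act 0 n11073 = n9846 := d0_1 D11073 (iv D9846) (iv D7275) (iv D4390) D4389 D7273 (iv F11113)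
theorem F15077 : act 2 n11073 = n10653 := d4_2 D9326 D11073 (iv D10653) (iv D8496) F4642 D5620 (iv F6199)
theorem F15078 : act 3 n11073 = n9482 := d5_2 (iv F11112) D11073 (iv D9482)
theorem F15079 : act 4 n11073 = n10696 := d6_2 F12802 D11073 F14099
def n11074 : Q := act 3 n9328
theorem D11074 : act 3 n9328 = n11074 := rfl
theorem F15080 : act 1 n11074 = n9329 := d5_1 D11074 (iv D9329) D9328
theorem F15081 : act 2 n11074 = n10655 := d7_1 D11074 F13988 F13623
theorem F15082 : act 4 n11074 = n10712 := d9_2 F11118 D11074 F14137 F11416 (iv F15078) F15079 F14100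
theorem F15083 : act 0 n9850 = n11074 := d3_3 F15082 (iv D10712) (iv F12126)
def n11075 : Q := act 2 n9331
theorem D11075 : act 2 n9331 = n11075 := rfl
theorem F15084 : act 0 n11075 = n9340 := d1_1 D11075 (iv F14803) F14801 F10643 F11120 F11119 D9331
theorem F15085 : act 3 n11075 = n9966 := d7_2 (iv F11124) D11075 (iv D9966)
theorem F15086 : act 4 n10611 = n11075 := d9_0 F15085 (iv F12948) (iv F13870) F15075 F15074 (iv F12810) (iv F13880)
def n11076 : Q := act 0 n9333
theorem D11076 : act 0 n9333 = n11076 := rfl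
theorem F15087 : act 1 n11076 = n9619 := d0_2 D9333 D11076 F11689 F8976 F6494 F6115 D6619
theorem F15088 : act 2 n11076 = n9617 := d1_2 F14946 D11076 F11683 (iv F10861) F10859 D9615 (iv F14944)
theorem F15089 : act 3 n11076 = n10749 := d2_2 F14943 D11076 F14218 (iv D8906) D8905 (iv F12524) (iv F14941)
theorem F15090 : act 4 n10491 = n11076 := d6_0 F15087 (iv F11690) D10491
def n11077 : Q := act 4 n9333
theorem D11077 : act 4 n9333 = n11077 := rfl
theorem F15091 : act 0 n11077 = n10491 := d3_1 D11077 F15090 (iv D11076)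
theorem F15092 : act 1 n11077 = n9336 := d6_1 D11077 (iv D9336) D9333
theorem F15093 : act 2 n11077 = n9531 := d17_4 D9541 (iv F14945) F14946 D11077 (iv D9531) (iv F9240) (iv F13813) F13814 (iv D9705) (iv F9677) F9676 F9675
def n11078 : Q := act 4 n9334
theorem D11078 : act 4 n9334 = n11078 := rfl
theorem F15094 : act 2 n11078 = n9339 := d8_1 D11078 F11137 (iv F9319) F8188 F11132 (iv D9336) D9334
def n11079 : Q := act 0 n9338
theorem D11079 : act 0 n9338 = n11079 := rfl
theorem F15095 : act 1 n11079 = n9681 := d0_2 F13186 D11079 (iv D9681) D9682 (iv F12629) F12630 (iv F13185)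
theorem F15096 : act 3 n11079 = n9481 := d2_2 (iv F11136) D11079 (iv D9481) (iv F11112) F11113 F8103 (iv F11114)
theorem F15097 : act 4 n11079 = n10607 := d3_2 F12956 D11079 F13873
def n11080 : Q := act 1 n9339
theorem D11080 : act 1 n9339 = n11080 := rfl
theorem F15098 : act 0 n11080 = n9986 := d0_1 D11080 F12441 F8978 F4268 (iv F4271) F6536 D9339
theorem F15099 : act 3 n11080 = n9977 := d5_2 F12808 D11080 (iv F12807)
theorem F15100 : act 4 n11080 = n10493 := d6_2 (iv F11137) D11080 F13573
theorem F15101 : act 2 n11080 = n10996 := d14_1 D11080 F14860 F13308 F9224 F11855 (iv D9721) (iv D7092) D7093 F6961 F6536 D9339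
def n11081 : Q := act 2 n9342
theorem D11081 : act 2 n9342 = n11081 := rfl
theorem F15102 : act 3 n11081 = n9457 := d7_2 (iv F11436) D11081 (iv D9457)
def n11082 : Q := act 3 n9343
theorem D11082 : act 3 n9343 = n11082 := rfl
theorem F15103 : act 2 n11082 = n9344 := d7_1 D11082 (iv D9344) D9343
def n11083 : Q := act 4 n9343
theorem D11083 : act 4 n9343 = n11083 := rfl
theorem F15104 : act 0 n11083 = n9366 := d3_1 D11083 (iv D9366) (iv F11144)
theorem F15105 : act 2 n11083 = n9352 := d8_1 D11083 (iv D9352) (iv D6634) (iv D3831) D3829 D6631 D9343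
def n11084 : Q := act 1 n9345
theorem D11084 : act 1 n9345 = n11084 := rfl
theorem F15106 : act 0 n11084 = n10790 := d0_1 D11084 (iv D10790) (iv D8752) (iv F9760) (iv F11159) F11157 (iv F11145)
theorem F15107 : act 2 n11084 = n10958 := d4_2 D9345 D11084 F14743 (iv D9569) F6756 D7790 F8207
def n11085 : Q := act 3 n9345
theorem D11085 : act 3 n9345 = n11085 := rfl
theorem F15108 : act 0 n11085 = n9362 := d2_1 D11085 (iv D9362) (iv D6642) (iv D3834) D3832 D6638 (iv F11145)
theorem F15109 : act 2 n11085 = n9346 := d7_1 D11085 (iv D9346) D9345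
def n11086 : Q := act 4 n9345
theorem D11086 : act 4 n9345 = n11086 := rfl
theorem F15110 : act 0 n11086 = n9358 := d3_1 D11086 (iv D9358) (iv F11145)
def n11087 : Q := act 2 n9347
theorem D11087 : act 2 n9347 = n11087 := rfl
theorem F15111 : act 3 n11087 = n9948 := d7_2 (iv F11150) D11087 (iv D9948)
theorem F15112 : act 0 n11087 = n9472 := d10_3 (iv F6228) (iv F11149) D11087 (iv D9472) (iv D6768) (iv D3927) (iv F2938)
def n11088 : Q := act 1 n9348
theorem D11088 : act 1 n9348 = n11088 := rfl
theorem F15113 : act 2 n11088 = n10536 := d4_2 D9348 D11088 F13692 (iv D8473) F4587 D5585 (iv F6227)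
theorem F15114 : act 3 n11088 = n9461 := d5_2 (iv F11151) D11088 (iv D9461)
def n11089 : Q := act 4 n9348
theorem D11089 : act 4 n9348 = n11089 := rfl
def n11090 : Q := act 3 n9349
theorem D11090 : act 3 n9349 = n11090 := rfl
theorem F15115 : act 0 n11090 = n9376 := d2_1 D11090 F11186 D9953 (iv F12366) (iv F12367) (iv D9351) D9349
theorem F15116 : act 1 n11090 = n9696 := d5_1 D11090 (iv D9696) (iv F11152)
def n11091 : Q := act 4 n9349
theorem D11091 : act 4 n9349 = n11091 := rfl
theorem F15117 : act 0 n11091 = n9352 := d3_1 D11091 (iv D9352) D9349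
theorem F15118 : act 1 n11091 = n9697 := d6_1 D11091 (iv D9697) (iv F11152)
theorem F15119 : act 2 n11091 = n10588 := d8_1 D11091 (iv F14443) F14442 (iv D9239) D9237 D11036 F14984
def n11092 : Q := act 0 n9350
theorem D11092 : act 0 n9350 = n11092 := rfl
theorem F15120 : act 1 n11092 = n9698 := d0_2 D9350 D11092 (iv D9698) (iv D7063) D7062 (iv F11152) (iv D9349)
theorem F15121 : act 2 n11092 = n9746 := d1_2 (iv F11153) D11092 F11912 F10255 F9453 (iv D8281) (iv F9087)
theorem F15122 : act 4 n11092 = n10704 := d3_2 F11489 D11092 F14117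
theorem F15123 : act 3 n11092 = n9393 := d10_4 (iv D8282) (iv F9087) (iv F11153) D11092 (iv D9393) F6282 (iv F9102)
def n11093 : Q := act 3 n9350
theorem D11093 : act 3 n9350 = n11093 := rfl
theorem F15124 : act 1 n11093 = n9351 := d5_1 D11093 (iv D9351) D9350
theorem F15125 : act 2 n11093 = n10537 := d7_1 D11093 (iv D10537) (iv F11153)
def n11094 : Q := act 4 n9351
theorem D11094 : act 4 n9351 = n11094 := rfl
def n11095 : Q := act 3 n9352
theorem D11095 : act 3 n9352 = n11095 := rfl
def n11096 : Q := act 2 n9353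
theorem D11096 : act 2 n9353 = n11096 := rfl
theorem F15126 : act 3 n11096 = n9952 := d7_2 (iv F11155) D11096 (iv D9952)
theorem F15127 : act 0 n11096 = n9373 := d10_3 D6635 D9353 D11096 (iv D9373) (iv D6651) (iv D3838) (iv F2853)
def n11097 : Q := act 4 n9354
theorem D11097 : act 4 n9354 = n11097 := rfl
theorem F15128 : act 0 n11097 = n9440 := d3_1 D11097 F11334 (iv F11159)
theorem F15129 : act 1 n11097 = n9358 := d6_1 D11097 (iv D9358) (iv F11157)
theorem F15130 : act 2 n11097 = n10388 := d8_1 D11097 F13367 (iv D8633) (iv D5796) D5795 D8632 (iv F11158)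
theorem F15131 : act 3 n11097 = n9463 := d12_2 D9354 D11097 (iv F14408) F14411 F11343 (iv F10107) F10105
def n11098 : Q := act 3 n9355
theorem D11098 : act 3 n9355 = n11098 := rfl
theorem F15132 : act 1 n11098 = n9359 := d5_1 D11098 (iv D9359) (iv F11160)
theorem F15133 : act 2 n11098 = n10387 := d7_1 D11098 F13365 (iv F11161)
theorem F15134 : act 4 n11098 = n9438 := d9_2 D9355 D11098 F11328 D9463 (iv F15131) (iv D11097) (iv D9354)
theorem F15135 : act 0 n11098 = n9439 := d10_1 D11098 F11331 (iv F14183) F14186 (iv F14193) (iv F14382) F14380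
def n11099 : Q := act 4 n9356
theorem D11099 : act 4 n9356 = n11099 := rfl
theorem F15136 : act 0 n11099 = n10785 := d3_1 D11099 (iv D10785) (iv F11164)
theorem F15137 : act 1 n11099 = n10870 := d6_1 D11099 (iv D10870) (iv F11162)
theorem F15138 : act 2 n11099 = n9472 := d11_2 (iv F11163) D11099 (iv F15112) (iv D11087) (iv D9347) D9345 F11145
theorem F15139 : act 3 n9465 = n11099 := d7_0 F15138 (iv D9472) (iv F11386)
def n11100 : Q := act 3 n9357
theorem D11100 : act 3 n9357 = n11100 := rfl
theorem F15140 : act 1 n11100 = n10871 := d5_1 D11100 (iv D10871) (iv F11165)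
theorem F15141 : act 2 n11100 = n9373 := d7_1 D11100 (iv D9373) (iv F11166)
theorem F15142 : act 4 n11100 = n9464 := d9_2 D9357 D11100 (iv D9464) D9465 F15139 (iv D11099) (iv D9356)
theorem F15143 : act 0 n11100 = n10801 := d10_1 D11100 F14337 (iv F12367) (iv D9351) D9349 (iv F14984) F14983
def n11101 : Q := act 0 n9359
theorem D11101 : act 0 n9359 = n11101 := rfl
theorem F15144 : act 4 n11101 = n9459 := d3_2 (iv F11168) D11101 F11377
def n11102 : Q := act 3 n9360
theorem D11102 : act 3 n9360 = n11102 := rfl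
theorem F15145 : act 0 n11102 = n9398 := d2_1 D11102 (iv D9398) (iv D6674) D6675 (iv F10364) D10887 F14564
theorem F15146 : act 1 n11102 = n9362 := d5_1 D11102 (iv D9362) D9360
theorem F15147 : act 2 n11102 = n10719 := d7_1 D11102 F14152 F11542
def n11103 : Q := act 4 n9360
theorem D11103 : act 4 n9360 = n11103 := rfl
theorem F15148 : act 1 n11103 = n9363 := d6_1 D11103 (iv D9363) D9360
def n11104 : Q := act 3 n9361
theorem D11104 : act 3 n9361 = n11104 := rfl
theorem F15149 : act 0 n11104 = n10784 := d2_1 D11104 (iv D10784) (iv F11164) (iv D9356) (iv F10935) D11035 F14982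
theorem F15150 : act 1 n11104 = n10964 := d5_1 D11104 (iv F14764) F14765
theorem F15151 : act 2 n11104 = n9362 := d7_1 D11104 (iv D9362) D9361
def n11105 : Q := act 4 n9361
theorem D11105 : act 4 n9361 = n11105 := rfl
theorem F15152 : act 1 n11105 = n11078 := d6_1 D11105 (iv D11078) F14765
theorem F15153 : act 2 n11105 = n9372 := d11_2 D9361 D11105 (iv D9372) (iv D6650) (iv D3837) (iv F2856) D6642
def n11106 : Q := act 4 n9362
theorem D11106 : act 4 n9362 = n11106 := rfl
theorem F15154 : act 3 n11106 = n9367 := d12_2 D9362 D11106 (iv D9367) (iv D6645) (iv D3835) D3834 D6642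
def n11107 : Q := act 2 n9363
theorem D11107 : act 2 n9363 = n11107 := rfl
def n11108 : Q := act 3 n9363
theorem D11108 : act 3 n9363 = n11108 := rfl
theorem F15155 : act 4 n11108 = n9468 := d9_2 D9363 D11108 (iv D9468) (iv F11176) (iv F15154) (iv D11106) (iv D9362)
def n11109 : Q := act 0 n9364
theorem D11109 : act 0 n9364 = n11109 := rfl
theorem F15156 : act 2 n11109 = n9370 := d10_2 (iv F11170) D11109 (iv F14985) F14987 F11370 D9457 F11376
def n11110 : Q := act 0 n9365
theorem D11110 : act 0 n9365 = n11110 := rfl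
theorem F15157 : act 2 n11110 = n9470 := d10_2 D9365 D11110 (iv F14990) (iv D11038) F10938 D9343 F11144
def n11111 : Q := act 1 n9367
theorem D11111 : act 1 n9367 = n11111 := rfl
theorem F15158 : act 4 n11111 = n9466 := d6_2 (iv F11176) D11111 (iv D9466)
def n11112 : Q := act 2 n9367
theorem D11112 : act 2 n9367 = n11112 := rfl
def n11113 : Q := act 4 n9369
theorem D11113 : act 4 n9369 = n11113 := rfl
theorem F15159 : act 0 n11113 = n10786 := d3_1 D11113 (iv D10786) (iv F11180)
theorem F15160 : act 1 n11113 = n10042 := d6_1 D11113 (iv F14951) F14949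
theorem F15161 : act 3 n11113 = n9470 := d12_2 D9369 D11113 (iv F14990) (iv D11038) (iv D9239) D9238 F10937
def n11114 : Q := act 3 n9370
theorem D11114 : act 3 n9370 = n11114 := rfl
theorem F15162 : act 0 n11114 = n10788 := d2_1 D11114 (iv D10788) (iv F11143) F11436 (iv F11370) (iv F14987) F14985
theorem F15163 : act 1 n11114 = n9971 := d5_1 D11114 F12403 (iv F11182)
theorem F15164 : act 4 n11114 = n9417 := d9_2 D9370 D11114 F11288 D9470 (iv F15161) (iv D11113) (iv D9369)
def n11115 : Q := act 0 n9371
theorem D11115 : act 0 n9371 = n11115 := rfl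
theorem F15165 : act 3 n11115 = n9460 := d2_2 (iv F11183) D11115 (iv D9460) (iv F11151) F12363 F12362 (iv D9949)
theorem F15166 : act 1 n11115 = n9717 := d13_2 D9371 D11115 (iv D9717) (iv D7090) F3148 F1246 F462 (iv F3394) F1097 (iv F2857) (iv F6243)
def n11116 : Q := act 4 n9371
theorem D11116 : act 4 n9371 = n11116 := rfl
theorem F15167 : act 1 n11116 = n10299 := d6_1 D11116 (iv F13711) F13709
def n11117 : Q := act 1 n9372
theorem D11117 : act 1 n9372 = n11117 := rfl
theorem F15168 : act 0 n11117 = n9940 := d0_1 D11117 (iv F13539) F13538 F8941 (iv F8945) F8946 D9372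
theorem F15169 : act 2 n11117 = n10368 := d4_2 F15153 D11117 (iv F14860) (iv F15101) (iv D11080) (iv F15094) (iv F15152)
theorem F15170 : act 3 n9924 = n11117 := d7_0 F15169 (iv D10368) (iv F12304)
def n11118 : Q := act 3 n9372
theorem D11118 : act 3 n9372 = n11118 := rfl
theorem F15171 : act 0 n11118 = n9948 := d2_1 D11118 (iv F15111) F15112 (iv D9472) (iv D6768) (iv F6246) D9372
theorem F15172 : act 1 n11118 = n9924 := d5_1 D11118 F15170 (iv D11117)
def n11119 : Q := act 4 n9373
theorem D11119 : act 4 n9373 = n11119 := rfl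
theorem F15173 : act 1 n11119 = n10331 := d6_1 D11119 (iv D10331) (iv F11184)
theorem F15174 : act 3 n11119 = n9473 := d12_2 D9373 D11119 F11394 F8921 F8926 (iv D6653) D6651
def n11120 : Q := act 3 n9374
theorem D11120 : act 3 n9374 = n11120 := rfl
theorem F15175 : act 1 n11120 = n10325 := d5_1 D11120 (iv F13235) F11494
theorem F15176 : act 4 n11120 = n9472 := d9_2 D9374 D11120 (iv D9472) D9473 (iv F15174) (iv D11119) (iv D9373)
def n11121 : Q := act 2 n9375
theorem D11121 : act 2 n9375 = n11121 := rfl
theorem F15177 : act 1 n11121 = n11067 := d4_1 D11121 F15058 D11068 F15062 F11508 D9523 F11510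
theorem F15178 : act 4 n11121 = n9467 := d11_1 D11121 (iv D9467) (iv D6763) F2940 (iv F2860) (iv F6249) D9375
def n11122 : Q := act 3 n9375
theorem D11122 : act 3 n9375 = n11122 := rfl
theorem F15179 : act 0 n11122 = n9952 := d2_1 D11122 (iv F15126) F15127 (iv D9373) (iv D6651) D6653 D9375
theorem F15180 : act 1 n11122 = n9956 := d5_1 D11122 F12370 F11510
def n11123 : Q := act 4 n9376
theorem D11123 : act 4 n9376 = n11123 := rfl
theorem F15181 : act 1 n11123 = n10298 := d6_1 D11123 (iv F13715) F13713
def n11124 : Q := act 4 n9377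
theorem D11124 : act 4 n9377 = n11124 := rfl
theorem F15182 : act 0 n11124 = n9410 := d3_1 D11124 (iv D9410) (iv F11189)
theorem F15183 : act 1 n11124 = n10971 := d6_1 D11124 (iv D10971) (iv F11187)
theorem F15184 : act 3 n11124 = n9418 := d9_1 D11124 (iv D9418) (iv D6695) D6696 F11193 (iv D9378) D9377
theorem F15185 : act 2 n11124 = n9414 := d11_2 (iv F11188) D11124 (iv D9414) (iv D6690) (iv D3861) D3859 (iv F6258)
def n11125 : Q := act 2 n9379
theorem D11125 : act 2 n9379 = n11125 := rfl
theorem F15186 : act 0 n11125 = n9411 := d1_1 D11125 (iv D9411) F6307 D6686 D9412 F11276 (iv F11194)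
theorem F15187 : act 1 n11125 = n10896 := d4_1 D11125 F14586 F11875 (iv F10684) F10687 (iv F10003) (iv F11195)
theorem F15188 : act 3 n11125 = n9419 := d7_2 (iv F11196) D11125 (iv D9419)
theorem F15189 : act 4 n10895 = n11125 := d9_0 F15188 (iv F11295) (iv D8971) F6350 (iv F11199) (iv F11200) D10895
def n11126 : Q := act 0 n9382
theorem D11126 : act 0 n9382 = n11126 := rfl
theorem F15190 : act 1 n11126 = n10923 := d0_2 F14821 D11126 (iv D10923) D10924 F14664 (iv F13914) (iv F14824)
theorem F15191 : act 2 n11126 = n9387 := d1_2 D9382 D11126 F11213 D9404 (iv F14634) F14636 F11201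
theorem F15192 : act 3 n11126 = n9423 := d2_2 (iv F11203) D11126 (iv D9423) (iv F11277) (iv D9412) F6309 D6739
theorem F15193 : act 4 n11126 = n10924 := d3_2 F13640 D11126 F14664
def n11127 : Q := act 0 n9383
theorem D11127 : act 0 n9383 = n11127 := rfl
theorem F15194 : act 1 n11127 = n11083 := d0_2 D9383 D11127 F15104 F11174 F6802 F4555 (iv F6268)
theorem F15195 : act 2 n11127 = n9497 := d1_2 (iv F11204) D11127 F15026 (iv D11051) (iv F14457) F14459 F13917
theorem F15196 : act 4 n11127 = n10614 := d3_2 (iv F11205) D11127 F13889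
def n11128 : Q := act 0 n9384
theorem D11128 : act 0 n9384 = n11128 := rfl
theorem F15197 : act 1 n11128 = n10938 := d0_2 F14828 D11128 (iv D10938) D10939 F14699 (iv F13912) (iv F14831)
theorem F15198 : act 2 n11128 = n9406 := d1_2 (iv F11206) D11128 (iv D9406) (iv F11259) (iv F14714) F14717 (iv D9385)
theorem F15199 : act 3 n11128 = n9426 := d2_2 D9384 D11128 (iv D9426) (iv D6706) F2908 (iv F4844) (iv F6268)
theorem F15200 : act 4 n11128 = n10939 := d3_2 F13649 D11128 F14699
def n11129 : Q := act 0 n9390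
theorem D11129 : act 0 n9390 = n11129 := rfl
theorem F15201 : act 4 n11129 = n10693 := d3_2 F11223 D11129 F14095
theorem F15202 : act 2 n11129 = n9846 := d10_2 (iv F11222) D11129 (iv F15076) F15078 F11415 (iv F11364) (iv D9451)
def n11130 : Q := act 3 n9392
theorem D11130 : act 3 n9392 = n11130 := rfl
theorem F15203 : act 0 n11130 = n9416 := d2_1 D11130 F11287 (iv F11323) F14629 F14627 (iv F11225) (iv F11226)
theorem F15204 : act 1 n11130 = n10897 := d5_1 D11130 (iv D10897) (iv F11227)
theorem F15205 : act 2 n11130 = n10895 := d7_1 D11130 (iv D10895) (iv F11228)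
theorem F15206 : act 4 n11130 = n9414 := d9_2 D9392 D11130 F11282 (iv F11318) (iv D9432) (iv D6715) (iv F6281)
def n11131 : Q := act 0 n9394
theorem D11131 : act 0 n9394 = n11131 := rfl
theorem F15207 : act 4 n11131 = n10710 := d3_2 (iv F11233) D11131 (iv D10710)
theorem F15208 : act 2 n11131 = n9850 := d10_2 D9394 D11131 F15083 (iv D11074) F11117 (iv F11230) (iv D9393)
def n11132 : Q := act 4 n9398
theorem D11132 : act 4 n9398 = n11132 := rfl
theorem F15209 : act 1 n11132 = n11040 := d6_1 D11132 (iv D11040) (iv F11241)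
theorem F15210 : act 2 n11132 = n10718 := d8_1 D11132 (iv D10718) F9654 F4795 F5048 D7525 (iv F11242)
theorem F15211 : act 3 n11132 = n9445 := d12_2 D9398 D11132 F11349 F11248 (iv D9400) (iv D6675) D6674
def n11133 : Q := act 3 n9399
theorem D11133 : act 3 n9399 = n11133 := rfl
theorem F15212 : act 1 n11133 = n11034 := d5_1 D11133 F14980 (iv F11244)
theorem F15213 : act 2 n11133 = n10714 := d7_1 D11133 F14144 (iv F11245)
theorem F15214 : act 4 n11133 = n9444 := d9_2 D9399 D11133 (iv D9444) D9445 (iv F15211) (iv D11132) (iv D9398)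
def n11134 : Q := act 4 n9407
theorem D11134 : act 4 n9407 = n11134 := rfl
theorem F15215 : act 0 n11134 = n9408 := d3_1 D11134 (iv D9408) D9407
theorem F15216 : act 1 n11134 = n10793 := d6_1 D11134 (iv D10793) (iv F11263)
theorem F15217 : act 2 n11134 = n10727 := d8_1 D11134 (iv D10727) (iv D8624) (iv D5785) D5783 D8623 (iv F11264)
theorem F15218 : act 3 n11134 = n9439 := d9_1 D11134 (iv D9439) (iv D6722) D6723 D9440 F11334 (iv F11265)
def n11135 : Q := act 1 n9412
theorem D11135 : act 1 n9412 = n11135 := rfl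
theorem F15219 : act 0 n11135 = n10167 := d0_1 D11135 (iv F13644) (iv D10518) F9034 (iv F9350) F9347 D9412
theorem F15220 : act 2 n11135 = n9912 := d4_2 (iv F11276) D11135 F12281 F7525 F3514 (iv F3748) (iv F6321)
theorem F15221 : act 3 n11135 = n9424 := d5_2 (iv F11277) D11135 (iv D9424)
theorem F15222 : act 4 n11135 = n10167 := d6_2 F13641 D11135 (iv F13644)
def n11136 : Q := act 0 n9415
theorem D11136 : act 0 n9415 = n11136 := rfl
theorem F15223 : act 2 n11136 = n10296 := d1_2 (iv F11283) D11136 (iv F14525) F14526 (iv F13596) F13598 F9123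
theorem F15224 : act 4 n11136 = n10294 := d3_2 F11285 D11136 (iv D10294)
theorem F15225 : act 3 n11136 = n10300 := d10_4 (iv F9125) F9123 (iv F11283) D11136 (iv F13708) (iv D10542) F9136
def n11137 : Q := act 0 n9424
theorem D11137 : act 0 n9424 = n11137 := rfl
theorem F15226 : act 2 n11137 = n10155 := d1_2 (iv F11303) D11137 F12861 (iv F12892) D10833 F14416 (iv D9911)
theorem F15227 : act 4 n11137 = n10152 := d3_2 (iv F11304) D11137 F12855
def n11138 : Q := act 0 n9425
theorem D11138 : act 0 n9425 = n11138 := rfl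
theorem F15228 : act 2 n11138 = n10173 := d1_2 (iv F11306) D11138 (iv D10173) (iv F10178) D10837 F14427 (iv D9915)
theorem F15229 : act 4 n11138 = n10180 := d3_2 F11307 D11138 (iv D10180)
def n11139 : Q := act 4 n9426
theorem D11139 : act 4 n9426 = n11139 := rfl
theorem F15230 : act 0 n11139 = n9427 := d3_1 D11139 (iv D9427) D9426
theorem F15231 : act 1 n11139 = n10925 := d6_1 D11139 (iv F14666) F12928
theorem F15232 : act 2 n11139 = n9437 := d8_1 D11139 (iv D9437) (iv D6721) F6276 (iv F11211) (iv F11212) (iv F11308)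
theorem F15233 : act 3 n11139 = n10924 := d9_1 D11139 (iv F15193) F15192 (iv F13023) F14700 (iv F15200) F15199
def n11140 : Q := act 3 n9429
theorem D11140 : act 3 n9429 = n11140 := rfl
theorem F15234 : act 1 n11140 = n11033 := d5_1 D11140 F14979 F14384
theorem F15235 : act 2 n11140 = n10877 := d7_1 D11140 F14535 F13091
def n11141 : Q := act 1 n9431
theorem D11141 : act 1 n9431 = n11141 := rfl
theorem F15236 : act 0 n11141 = n9694 := d0_1 D11141 (iv D9694) (iv F8333) F8334 (iv D6712) D6713 D9431
theorem F15237 : act 4 n11141 = n10286 := d6_2 (iv F11313) D11141 (iv D10286)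
def n11142 : Q := act 3 n9431
theorem D11142 : act 3 n9431 = n11142 := rfl
theorem F15238 : act 0 n11142 = n9950 := d2_1 D11142 (iv F13710) F13708 (iv F15225) (iv D11136) F11284 D9431
theorem F15239 : act 2 n11142 = n10289 := d7_1 D11142 (iv F13153) (iv F11314)
theorem F15240 : act 4 n11142 = n10285 := d12_1 D11142 F13142 (iv D7936) (iv F8409) F11285 F11284 D9431
def n11143 : Q := act 1 n9434
theorem D11143 : act 1 n9434 = n11143 := rfl
theorem F15241 : act 0 n11143 = n9699 := d0_1 D11143 F11832 (iv F8470) F8471 (iv D6718) (iv F6385) D9434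
theorem F15242 : act 4 n11143 = n10304 := d6_2 (iv F11320) D11143 (iv D10304)
def n11144 : Q := act 3 n9434
theorem D11144 : act 3 n9434 = n11144 := rfl
theorem F15243 : act 0 n11144 = n9954 := d2_1 D11144 (iv F13714) F13712 (iv D9433) (iv D6716) D6717 D9434
theorem F15244 : act 2 n11144 = n10292 := d7_1 D11144 F13165 (iv F11321)
theorem F15245 : act 4 n11144 = n10287 := d9_2 (iv F11320) D11144 (iv D10287) (iv F11313) D11142 F15240 F13142
def n11145 : Q := act 0 n9444
theorem D11145 : act 0 n9444 = n11145 := rfl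
theorem F15246 : act 2 n11145 = n10713 := d1_2 (iv F11348) D11145 F14138 F9661 (iv F7675) (iv D7504) (iv F7665)
theorem F15247 : act 3 n11145 = n9466 := d2_2 D9444 D11145 (iv F14559) F14561 F10381 (iv D6733) D6732
theorem F15248 : act 1 n11145 = n9468 := d13_2 (iv F11348) D11145 (iv F12967) (iv D10210) F8209 (iv D6693) (iv D3871) F1661 (iv F1477) (iv F3613) (iv F7665)
def n11146 : Q := act 4 n9446
theorem D11146 : act 4 n9446 = n11146 := rfl
theorem F15249 : act 0 n11146 = n9447 := d3_1 D11146 (iv D9447) D9446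
theorem F15250 : act 2 n11146 = n9481 := d8_1 D11146 F11419 (iv D8468) (iv D5573) D5571 F9413 (iv F11351)
def n11147 : Q := act 0 n9448
theorem D11147 : act 0 n9448 = n11147 := rfl
theorem F15251 : act 2 n11147 = n10587 := d1_2 (iv F11356) D11147 F13833 (iv F14621) F14622 F11058 (iv F9288)
theorem F15252 : act 3 n11147 = n10586 := d2_2 (iv F11354) D11147 F13832 (iv F14639) (iv D10914) (iv D9008) (iv F9287)
theorem F15253 : act 4 n11147 = n10747 := d3_2 (iv F11355) D11147 F14213
def n11148 : Q := act 0 n9449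
theorem D11148 : act 0 n9449 = n11148 := rfl
theorem F15254 : act 4 n11148 = n10634 := d3_2 (iv F11358) D11148 F13933
theorem F15255 : act 2 n11148 = n10635 := d11_4 D5554 D8449 (iv F11357) D11148 (iv D10635) (iv D8435) F4569
def n11149 : Q := act 3 n9451
theorem D11149 : act 3 n9451 = n11149 := rfl
theorem F15256 : act 1 n11149 = n9874 := d5_1 D11149 F12190 F12059
theorem F15257 : act 2 n11149 = n9866 := d7_1 D11149 (iv F12166) (iv F11364)
theorem F15258 : act 4 n11149 = n10706 := d9_2 (iv F11363) D11149 (iv D10706) (iv F11229) (iv F15123) F15122 F14119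
theorem F15259 : act 0 n11149 = n9461 := d10_1 D11149 F11379 F9163 F9095 F9092 (iv F7279) D9451
def n11150 : Q := act 4 n9453
theorem D11150 : act 4 n9453 = n11150 := rfl
theorem F15260 : act 0 n11150 = n9465 := d3_1 D11150 (iv D9465) (iv F11368)
theorem F15261 : act 1 n11150 = n11146 := d6_1 D11150 (iv D11146) (iv F11369)
theorem F15262 : act 2 n11150 = n9460 := d11_2 D9453 D11150 (iv D9460) (iv D6757) (iv D3921) D3919 D6752
def n11151 : Q := act 4 n9457
theorem D11151 : act 4 n9457 = n11151 := rfl
theorem F15263 : act 0 n11151 = n9469 := d3_1 D11151 (iv D9469) (iv F11376)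
theorem F15264 : act 1 n11151 = n11148 := d6_1 D11151 F15254 F13932
theorem F15265 : act 2 n11151 = n9462 := d8_1 D11151 (iv D9462) (iv D6757) (iv D3921) D3919 D6755 D9457
def n11152 : Q := act 1 n9459
theorem D11152 : act 1 n9459 = n11152 := rfl
theorem F15266 : act 0 n11152 = n10794 := d0_1 D11152 (iv D10794) (iv D8758) (iv F6389) D9438 (iv F11329) (iv F11377)
theorem F15267 : act 2 n11152 = n10979 := d4_2 D9459 D11152 F14812 F11599 F6760 (iv F8214) F8213
def n11153 : Q := act 4 n9460
theorem D11153 : act 4 n9460 = n11153 := rfl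
theorem F15268 : act 0 n11153 = n9462 := d3_1 D11153 (iv D9462) D9460
theorem F15269 : act 1 n11153 = n9873 := d6_1 D11153 (iv D9873) (iv F11378)
def n11154 : Q := act 3 n9462
theorem D11154 : act 3 n9462 = n11154 := rfl
def n11155 : Q := act 3 n9467
theorem D11155 : act 3 n9467 = n11155 := rfl
theorem F15270 : act 0 n11155 = n10800 := d2_1 D11155 (iv D10800) (iv F11384) (iv D9464) (iv F11368) (iv F15009) F15008
theorem F15271 : act 1 n11155 = n10978 := d5_1 D11155 (iv F14810) F14811
theorem F15272 : act 2 n11155 = n9468 := d7_1 D11155 (iv D9468) D9467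
def n11156 : Q := act 4 n9471
theorem D11156 : act 4 n9471 = n11156 := rfl
theorem F15273 : act 0 n11156 = n10371 := d3_1 D11156 (iv D10371) (iv F11390)
theorem F15274 : act 1 n11156 = n9473 := d6_1 D11156 (iv D9473) D9471
theorem F15275 : act 2 n11156 = n10339 := d8_1 D11156 (iv D10339) F8565 (iv F4027) D7346 (iv F8599) (iv F11391)
theorem F15276 : act 3 n11156 = n10331 := d9_1 D11156 (iv D10331) (iv F8552) D9516 F13235 (iv D10325) F11392
def n11157 : Q := act 4 n9479
theorem D11157 : act 4 n9479 = n11157 := rfl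
theorem F15277 : act 0 n11157 = n9484 := d3_1 D11157 (iv D9484) (iv F11410)
theorem F15278 : act 2 n11157 = n9483 := d8_1 D11157 (iv D9483) (iv D6800) (iv D3955) D3953 D6798 D9479
def n11158 : Q := act 2 n9491
theorem D11158 : act 2 n9491 = n11158 := rfl
theorem F15279 : act 3 n11158 = n10188 := d7_2 F11447 D11158 (iv D10188)
theorem F15280 : act 0 n11158 = n10141 := d10_3 D7719 (iv F11445) D11158 (iv D10141) (iv D7721) (iv D4836) D4835
def n11159 : Q := act 4 n9494
theorem D11159 : act 4 n9494 = n11159 := rfl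
theorem F15281 : act 0 n11159 = n10619 := d3_1 D11159 (iv D10619) (iv F11457)
theorem F15282 : act 3 n11159 = n9497 := d12_2 (iv F11456) D11159 F15026 (iv F15027) (iv D10625) D10624 F13909
def n11160 : Q := act 2 n9495
theorem D11160 : act 2 n9495 = n11160 := rfl
theorem F15283 : act 0 n11160 = n10618 := d1_1 D11160 F13899 (iv D8416) (iv D5517) (iv F2985) D6828 D9495
theorem F15284 : act 1 n11160 = n11043 := d4_1 D11160 F15000 F11121 (iv F13728) F13727 F12054 (iv F11459)
theorem F15285 : act 3 n11160 = n10640 := d7_2 (iv F11458) D11160 (iv D10640)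
theorem F15286 : act 4 n11160 = n10558 := d8_2 (iv F15025) D11160 (iv D10558) D10560 (iv F14453) F14454 D11051
def n11161 : Q := act 4 n9496
theorem D11161 : act 4 n9496 = n11161 := rfl
theorem F15287 : act 0 n11161 = n10620 := d3_1 D11161 F13902 (iv F11460)
theorem F15288 : act 3 n11161 = n10635 := d9_1 D11161 (iv D10635) (iv F11456) D11159 F15282 (iv D9497) D9496
def n11162 : Q := act 2 n9498
theorem D11162 : act 2 n9498 = n11162 := rfl
theorem F15289 : act 3 n11162 = n10138 := d7_2 (iv F11462) D11162 (iv D10138)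
theorem F15290 : act 0 n11162 = n10191 := d10_3 D7761 (iv F11463) D11162 (iv D10191) (iv D7763) (iv D4865) D4864
def n11163 : Q := act 2 n9501
theorem D11163 : act 2 n9501 = n11163 := rfl
theorem F15291 : act 0 n11163 = n10988 := d1_1 D11163 F14838 F13028 D10774 (iv F14727) (iv D10949) (iv F11473)
theorem F15292 : act 3 n11163 = n10083 := d7_2 (iv F11474) D11163 (iv D10083)
def n11164 : Q := act 1 n9502
theorem D11164 : act 1 n9502 = n11164 := rfl
theorem F15293 : act 0 n11164 = n10478 := d13_3 F13044 F13043 D11164 F14238 (iv D10754) (iv D8711) F5142 (iv D3266) (iv F2336) (iv F5171) (iv F9971)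
def n11165 : Q := act 4 n9502
theorem D11165 : act 4 n9502 = n11165 := rfl
def n11166 : Q := act 4 n9503
theorem D11166 : act 4 n9503 = n11166 := rfl
theorem F15294 : act 3 n11166 = n10293 := d12_2 (iv F11475) D11166 F13166 (iv F8509) (iv D7967) F7747 D7929
def n11167 : Q := act 2 n9505
theorem D11167 : act 2 n9505 = n11167 := rfl
theorem F15295 : act 3 n11167 = n9511 := d7_2 (iv F11477) D11167 (iv D9511)
theorem F15296 : act 4 n11167 = n11088 := d8_2 D9505 D11167 F15113 (iv D10536) F9086 (iv D6841) D6840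
theorem F15297 : act 1 n11089 = n11167 := d17_1 D11089 (iv D11167) (iv D9505) (iv D6840) (iv D4001) D4000 (iv F3999) D7186 D9773 F11983 D9790 (iv F12363)
theorem E916 : n11095 = n11089 := (c5_1 D11095 F15297 F15295 (iv F11490))
theorem F15298 : act 3 n11089 = n9352 := (sb E916 (iv D11095))
theorem E917 : n11154 = n11094 := ((c9_5 D11089 F15298 (iv D9352) D9351 D11094 (iv D11154) (iv D9462) (iv F11151))).symm
theorem F15299 : act 3 n11094 = n9462 := (sb E917 (iv D11154))
def n11168 : Q := act 4 n9506
theorem D11168 : act 4 n9506 = n11168 := rfl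
theorem F15300 : act 0 n11168 = n9706 := d3_1 D11168 (iv D9706) (iv F11478)
theorem F15301 : act 2 n11168 = n9717 := d11_2 (iv F11479) D11168 (iv D9717) (iv D7090) (iv D4199) D4197 (iv F6612)
theorem F15302 : act 3 n11168 = n9870 := d12_2 D9506 D11168 F12180 (iv F8338) (iv D7862) (iv F6609) (iv F6608)
def n11169 : Q := act 3 n9507
theorem D11169 : act 3 n9507 = n11169 := rfl
theorem F15303 : act 0 n11169 = n9728 := d2_1 D11169 (iv F13111) F13108 F8337 (iv F8462) F8463 (iv F11480)
theorem F15304 : act 2 n11169 = n9696 := d7_1 D11169 (iv D9696) (iv F11481)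
theorem F15305 : act 4 n11169 = n9535 := d9_2 D9507 D11169 F11532 D9870 (iv F15302) (iv D11168) (iv D9506)
def n11170 : Q := act 2 n9510
theorem D11170 : act 2 n9510 = n11170 := rfl
theorem F15306 : act 3 n11170 = n9881 := d7_2 (iv F11488) D11170 (iv D9881)
theorem F15307 : act 4 n11170 = n11093 := d8_2 D9510 D11170 F15125 F13695 F9162 (iv D6849) (iv F6623)
theorem F15308 : act 1 n11094 = n11170 := d17_1 D11094 (iv D11170) (iv D9510) F6623 F2997 D4009 D6850 D9512 (iv F12022) (iv D9799) D9798 (iv F12367)
def n11171 : Q := act 1 n9512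
theorem D11171 : act 1 n9512 = n11171 := rfl
theorem F15309 : act 2 n11171 = n9650 := d4_2 D9512 D11171 F11761 F8794 F6629 (iv D6851) D6850
theorem F15310 : act 3 n11171 = n9649 := d5_2 F12407 D11171 (iv F12406)
theorem F15311 : act 0 n11171 = n9676 := d14_3 D6850 D9512 D11171 F11801 F11802 (iv F11799) F11798 F7070 F6623 F2997 D4009
def n11172 : Q := act 4 n9513
theorem D11172 : act 4 n9513 = n11172 := rfl
theorem F15312 : act 3 n11172 = n10303 := d9_1 D11172 (iv D10303) (iv F11475) D11166 F15294 (iv D10293) (iv F11491)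
def n11173 : Q := act 2 n9515
theorem D11173 : act 2 n9515 = n11173 := rfl
theorem F15313 : act 3 n11173 = n10084 := d7_2 F12508 D11173 (iv F12688)
theorem F15314 : act 0 n11173 = n10953 := d10_3 (iv F13040) F13038 D11173 F14732 (iv D9108) F5715 (iv F8277)
theorem F15315 : act 4 n10065 = n11173 := d3_0 F15314 (iv D10953) (iv F12645)
def n11174 : Q := act 1 n9519
theorem D11174 : act 1 n9519 = n11174 := rfl
theorem F15316 : act 0 n11174 = n10499 := d13_3 (iv F13042) F13041 D11174 F14271 (iv D10770) (iv D8726) F5157 F2365 D3271 D6002 D8788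
def n11175 : Q := act 4 n9519
theorem D11175 : act 4 n9519 = n11175 := rfl
def n11176 : Q := act 0 n9520
theorem D11176 : act 0 n9520 = n11176 := rfl
theorem F15317 : act 1 n11176 = n9969 := d0_2 (iv F11503) D11176 F12398 (iv D7907) (iv D4963) (iv F7152) (iv F7548)
theorem F15318 : act 3 n11176 = n11174 := d2_2 D9520 D11176 F15316 (iv D10499) (iv D8218) F4272 D6868
theorem F15319 : act 4 n11176 = n9658 := d3_2 (iv F11505) D11176 F11774
def n11177 : Q := act 1 n9521
theorem D11177 : act 1 n9521 = n11177 := rfl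
theorem F15320 : act 0 n11177 = n9814 := d0_1 D11177 (iv D9814) (iv D7230) F3262 (iv F3036) (iv F6656) D9521
theorem F15321 : act 2 n11177 = n10716 := d4_2 (iv F11507) D11177 (iv F14933) F14934 (iv D10724) (iv F11786) F11785
theorem F15322 : act 4 n11177 = n9653 := d6_2 (iv F11506) D11177 (iv D9653)
def n11178 : Q := act 3 n9521
theorem D11178 : act 3 n9521 = n11178 := rfl
theorem F15323 : act 2 n11178 = n9661 := d7_1 D11178 F13157 (iv F11507)
theorem F15324 : act 4 n11178 = n9652 := d12_1 D11178 F11765 F7464 (iv F6889) (iv F8982) F8981 D9521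
def n11179 : Q := act 4 n9523
theorem D11179 : act 4 n9523 = n11179 := rfl
theorem F15325 : act 0 n11179 = n10461 := d3_1 D11179 (iv F13514) F12321
theorem F15326 : act 1 n11179 = n10459 := d6_1 D11179 F13509 (iv F11510)
theorem F15327 : act 2 n11179 = n9525 := d8_1 D11179 (iv D9525) (iv D6872) (iv D4032) D4031 D6871 D9523
def n11180 : Q := act 0 n9524
theorem D11180 : act 0 n9524 = n11180 := rfl
theorem F15328 : act 3 n11180 = n10336 := d2_2 F13783 D11180 (iv D10336) F10895 (iv D9221) (iv F10866) (iv F13782)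
theorem F15329 : act 2 n11180 = n9612 := d10_2 F13783 D11180 F11676 F10865 F10863 D9208 (iv F13782)
def n11181 : Q := act 4 n9524
theorem D11181 : act 4 n9524 = n11181 := rfl
theorem F15330 : act 1 n11181 = n9525 := d6_1 D11181 (iv D9525) D9524
theorem F15331 : act 2 n11181 = n11061 := d8_1 D11181 (iv D11061) (iv F11533) (iv F14967) F14966 D11066 F15057
def n11182 : Q := act 4 n9527
theorem D11182 : act 4 n9527 = n11182 := rfl
theorem F15332 : act 0 n11182 = n10160 := d3_1 D11182 (iv D10160) (iv F11516)
theorem F15333 : act 3 n11182 = n10155 := d12_2 (iv F11515) D11182 F12861 (iv F12880) (iv D10166) D10165 F12876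
def n11183 : Q := act 4 n9530
theorem D11183 : act 4 n9530 = n11183 := rfl
theorem F15334 : act 0 n11183 = n10162 := d3_1 D11183 F12872 (iv F11526)
theorem F15335 : act 3 n11183 = n10173 := d9_1 D11183 F12897 (iv F11515) D11182 F15333 (iv D10155) (iv F11525)
def n11184 : Q := act 0 n9531
theorem D11184 : act 0 n9531 = n11184 := rfl
theorem F15336 : act 3 n11184 = n10359 := d2_2 F13747 D11184 (iv D10359) F8594 F7081 D9209 (iv F13746)
theorem F15337 : act 2 n11184 = n9616 := d10_2 F13747 D11184 F11681 (iv F10872) (iv D9210) (iv F10869) (iv F13746)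
def n11185 : Q := act 4 n9531
theorem D11185 : act 4 n9531 = n11185 := rfl
theorem F15338 : act 1 n11185 = n9532 := d6_1 D11185 (iv D9532) D9531
theorem F15339 : act 2 n11185 = n11062 := d8_1 D11185 (iv D11062) (iv F11540) (iv F14947) F14946 D11077 F15093
def n11186 : Q := act 2 n9532
theorem D11186 : act 2 n9532 = n11186 := rfl
theorem F15340 : act 4 n11186 = n11117 := d8_2 D9532 D11186 F15169 F13328 (iv D9533) (iv D6890) D6889
theorem F15341 : act 0 n11186 = n10471 := d10_3 (iv F13818) F13817 D11186 (iv F13802) F13799 F9233 (iv F9269)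
theorem F15342 : act 1 n11186 = n10474 := d17_5 (iv D4049) D4047 D6889 D9532 D11186 (iv D10474) (iv D8193) F4240 (iv F5291) (iv D5276) F1871 (iv F3043)
def n11187 : Q := act 1 n9533
theorem D11187 : act 1 n9533 = n11187 := rfl
theorem F15343 : act 2 n11187 = n11058 := d4_2 D9533 D11187 F15039 F11530 (iv D9534) (iv D6893) (iv F6701)
theorem F15344 : act 3 n11187 = n10998 := d5_2 (iv F13327) D11187 F14865
theorem F15345 : act 4 n11187 = n10996 := d6_2 F13328 D11187 F14860
def n11188 : Q := act 1 n9538
theorem D11188 : act 1 n9538 = n11188 := rfl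
theorem F15346 : act 2 n11188 = n10480 := d4_2 D9538 D11188 (iv D10480) F9312 F8091 F6675 (iv F6707)
theorem F15347 : act 3 n11188 = n10381 := d5_2 (iv F11536) D11188 (iv D10381)
theorem F15348 : act 4 n11001 = n11188 := d12_1 D11001 F15347 F13344 F8709 (iv D6371) D6370 D9136
def n11189 : Q := act 4 n9538
theorem D11189 : act 4 n9538 = n11189 := rfl
theorem F15349 : act 0 n11189 = n11048 := d3_1 D11189 F15014 F13824
theorem F15350 : act 1 n11189 = n11001 := d6_1 D11189 F15348 (iv D11188)
theorem F15351 : act 2 n11189 = n11111 := d8_1 D11189 F15158 (iv F11535) (iv D9537) (iv D6895) D6896 D9538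
theorem F15352 : act 3 n11189 = n10390 := d12_2 (iv F11536) D11189 F13372 (iv F9861) (iv D8679) (iv F8567) D8061
theorem E918 : n11112 = n11052 := (c4_3 F15351 (iv D11111) D11112 (iv D11052) (iv D9291) (iv F11051) (iv F14872) (iv F15350))
theorem F15353 : act 2 n11052 = n9367 := (sb E918 (iv D11112))
def n11190 : Q := act 0 n9539
theorem D11190 : act 0 n9539 = n11190 := rfl
theorem F15354 : act 1 n11190 = n11190 := d0_2 (iv F11537) D11190 (iv D11190) F11537 (iv F9748) F9749 F9748
theorem F15355 : act 2 n11190 = n9674 := d1_2 (iv F11538) D11190 F11798 F7071 D8483 D10650 F13977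
theorem F15356 : act 3 n11190 = n9673 := d2_2 D9539 D11190 F11797 (iv F11928) (iv D9752) (iv D7141) (iv F6710)
theorem F15357 : act 4 n11190 = n11026 := d3_2 (iv F11539) D11190 F14956
def n11191 : Q := act 1 n9542
theorem D11191 : act 1 n9542 = n11191 := rfl
theorem F15358 : act 2 n11191 = n10493 := d4_2 D9542 D11191 F13573 (iv F9319) F8187 F6703 (iv F6720)
theorem F15359 : act 3 n11191 = n10389 := d5_2 (iv F11543) D11191 F13369
theorem F15360 : act 4 n10999 = n11191 := d9_0 F15359 F13370 D11001 F15348 F15347 (iv F13346) D10999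
def n11192 : Q := act 4 n9542
theorem D11192 : act 4 n9542 = n11192 := rfl
theorem F15361 : act 0 n11192 = n11050 := d3_1 D11192 F15022 F13812
theorem F15362 : act 1 n11192 = n10999 := d6_1 D11192 F15360 (iv D11191)
theorem F15363 : act 2 n11192 = n11103 := d8_1 D11192 (iv D11103) (iv F11542) (iv D9541) (iv D6903) D6904 D9542
theorem F15364 : act 3 n11192 = n10382 := d9_1 D11192 (iv D10382) (iv F11536) D11189 F15352 (iv D10390) (iv F11543)
theorem E919 : n11107 = n11059 := (c4_3 F15363 F15148 D11107 (iv D11059) (iv D9301) D9300 (iv F14867) (iv F15362))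
theorem F15365 : act 2 n11059 = n9363 := (sb E919 (iv D11107))
def n11193 : Q := act 1 n9544
theorem D11193 : act 1 n9544 = n11193 := rfl
theorem F15366 : act 0 n11193 = n10917 := d0_1 D11193 F14645 (iv F14880) F14881 (iv F11641) (iv D9590) (iv F11548)
theorem F15367 : act 3 n11193 = n10819 := d5_2 F12158 D11193 F14378
theorem F15368 : act 4 n10816 = n11193 := d17_0 (iv D11193) (iv D9544) (iv D6913) (iv F5829) (iv F6003) F6002 F4491 (iv D3766) D3768 D6534 D9253 (iv F14370)
def n11194 : Q := act 4 n9544
theorem D11194 : act 4 n9544 = n11194 := rfl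
theorem F15369 : act 0 n11194 = n9592 := d3_1 D11194 (iv D9592) (iv F11548)
theorem F15370 : act 1 n11194 = n10816 := d6_1 D11194 F15368 (iv D11193)
theorem F15371 : act 2 n11194 = n9577 := d8_1 D11194 F11613 (iv F10717) (iv D9138) F5829 D6913 D9544
theorem F15372 : act 3 n11194 = n9548 := d12_2 F12158 D11194 F11555 F11627 (iv D9583) F7376 D9862
def n11195 : Q := act 3 n9546
theorem D11195 : act 3 n9546 = n11195 := rfl
theorem F15373 : act 0 n11195 = n10947 := d2_1 D11195 (iv D10947) (iv D9045) F8359 (iv F13129) (iv F13132) (iv F11551)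
theorem F15374 : act 1 n11195 = n9547 := d5_1 D11195 (iv D9547) D9546
theorem F15375 : act 4 n11195 = n10818 := d9_2 F11552 D11195 (iv D10818) D10819 (iv F15367) (iv F15368) (iv D10816)
def n11196 : Q := act 4 n9547
theorem D11196 : act 4 n9547 = n11196 := rfl
theorem F15376 : act 0 n11196 = n9605 := d3_1 D11196 (iv D9605) (iv F11554)
theorem F15377 : act 1 n11196 = n10818 := d6_1 D11196 (iv F15375) F15374
theorem F15378 : act 2 n11196 = n9576 := d8_1 D11196 (iv D9576) (iv F10719) D11002 F14875 (iv D9549) (iv F11553)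
theorem F15379 : act 3 n11196 = n10546 := d9_1 D11196 F13723 F12158 D11194 F15372 (iv D9548) D9547
def n11197 : Q := act 2 n9551
theorem D11197 : act 2 n9551 = n11197 := rfl
theorem F15380 : act 0 n11197 = n9750 := d1_1 D11197 (iv D9750) F7072 D7143 (iv F11496) F11498 (iv F11562)
theorem F15381 : act 1 n11197 = n9561 := d4_1 D11197 (iv D9561) (iv D6923) (iv D4083) (iv F3068) D6917 D9551
theorem F15382 : act 4 n11197 = n11019 := d8_2 (iv F11563) D11197 F14934 F14163 F10261 F6729 D8482
def n11198 : Q := act 2 n9554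
theorem D11198 : act 2 n9554 = n11198 := rfl
theorem F15383 : act 3 n11198 = n9565 := d7_2 (iv F11571) D11198 (iv D9565)
theorem F15384 : act 4 n11198 = n10810 := d8_2 D9554 D11198 F14357 F13428 F11618 (iv D8707) (iv F6745)
theorem F15385 : act 0 n11198 = n9589 := d10_3 F10446 (iv F11569) D11198 F11640 (iv F11554) F11553 (iv F10445)
theorem F15386 : act 1 n11198 = n10811 := d14_2 (iv F11570) D11198 F14359 F10042 F5234 (iv F5387) D8837 (iv F13656) F13657 F10207 (iv F8788)
def n11199 : Q := act 1 n9555
theorem D11199 : act 1 n9555 = n11199 := rfl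
theorem F15387 : act 0 n11199 = n10118 := d0_1 D11199 F12781 F8041 (iv F8057) F8056 F7377 (iv F11572)
theorem F15388 : act 4 n11199 = n10117 := d6_2 F13425 D11199 (iv F13424)
theorem F15389 : act 3 n10814 = n11199 := d16_2 F14364 (iv F14367) (iv D11199) (iv D9555) F6747 F4151 D6074 (iv F5530) F5529 (iv F5548) (iv F10414) (iv F14361)
def n11200 : Q := act 3 n9555
theorem D11200 : act 3 n9555 = n11200 := rfl
theorem F15390 : act 0 n11200 = n9591 := d2_1 D11200 (iv D9591) (iv F11548) (iv F12158) (iv D9862) (iv F7376) (iv F11572)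
theorem F15391 : act 1 n11200 = n10814 := d5_1 D11200 F15389 (iv D11199)
theorem F15392 : act 2 n11200 = n9556 := d7_1 D11200 (iv D9556) D9555
theorem F15393 : act 4 n11200 = n10813 := d9_2 F13425 D11200 F14366 F13454 (iv F15383) F15384 F14358
def n11201 : Q := act 4 n9556
theorem D11201 : act 4 n9556 = n11201 := rfl
theorem F15394 : act 0 n11201 = n9608 := d3_1 D11201 (iv D9608) (iv F11573)
theorem F15395 : act 1 n11201 = n10410 := d6_1 D11201 (iv D10410) (iv F11574)
theorem F15396 : act 2 n11201 = n10773 := d8_1 D11201 F14276 (iv F11607) (iv F13457) (iv F14365) (iv F15393) F15392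
theorem F15397 : act 3 n11201 = n9566 := d9_1 D11201 (iv D9566) (iv F11571) (iv D9554) (iv D6919) D6920 D9556
def n11202 : Q := act 3 n9557
theorem D11202 : act 3 n9557 = n11202 := rfl
theorem F15398 : act 0 n11202 = n9595 := d2_1 D11202 (iv D9595) (iv D6962) D6964 (iv F11578) (iv D9559) D9557
theorem F15399 : act 2 n11202 = n9568 := d7_1 D11202 (iv D9568) (iv F11575)
def n11203 : Q := act 2 n9558
theorem D11203 : act 2 n9558 = n11203 := rfl
theorem F15400 : act 0 n11203 = n10740 := d1_1 D11203 F14198 F13339 (iv F12273) (iv F13754) (iv F13756) (iv F11576)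
theorem F15401 : act 4 n10739 = n11203 := d3_0 F15400 (iv D10740) D10739
def n11204 : Q := act 3 n9561
theorem D11204 : act 3 n9561 = n11204 := rfl
theorem F15402 : act 0 n11204 = n10737 := d2_1 D11204 F14192 (iv D9166) D9168 D11010 F14903 (iv F14147)
theorem F15403 : act 2 n11204 = n9562 := d7_1 D11204 (iv D9562) D9561
theorem F15404 : act 4 n11204 = n10736 := d12_1 D11204 (iv F14210) (iv D10745) (iv F12751) (iv F14902) F14903 (iv F14147)
def n11205 : Q := act 3 n9563
theorem D11205 : act 3 n9563 = n11205 := rfl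
theorem F15405 : act 0 n11205 = n9600 := d2_1 D11205 (iv D9600) (iv D6968) (iv D4106) (iv F3070) D6924 D9563
theorem F15406 : act 2 n11205 = n9567 := d7_1 D11205 F11592 (iv F11584)
def n11206 : Q := act 1 n9565
theorem D11206 : act 1 n9565 = n11206 := rfl
theorem F15407 : act 0 n11206 = n10200 := d0_1 D11206 F12942 F8159 (iv F8170) F8169 F7089 (iv F11587)
theorem F15408 : act 3 n11206 = n10811 := d5_2 F15383 D11206 (iv F15386)
theorem F15409 : act 4 n11206 = n10199 := d6_2 F13454 D11206 (iv F13453)
def n11207 : Q := act 4 n9568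
theorem D11207 : act 4 n9568 = n11207 := rfl
theorem F15410 : act 0 n11207 = n9593 := d3_1 D11207 (iv D9593) (iv F11593)
theorem F15411 : act 1 n11207 = n11173 := d6_1 D11207 (iv F15315) F12646
theorem F15412 : act 3 n11207 = n9582 := d9_1 D11207 F11624 (iv F11592) (iv D9567) (iv D6928) D6929 D9568
theorem F15413 : act 2 n11207 = n9573 := d11_2 F15399 D11207 F11602 F11672 (iv D9608) (iv F11647) (iv F15398)
def n11208 : Q := act 4 n9569
theorem D11208 : act 4 n9569 = n11208 := rfl
theorem F15414 : act 0 n11208 = n9614 := d3_1 D11208 F11679 (iv F11595)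
theorem F15415 : act 1 n11208 = n10092 := d6_1 D11208 (iv F14745) F14743
theorem F15416 : act 3 n11208 = n9572 := d12_2 (iv F11594) D11208 F11600 (iv D6987) (iv D4121) D4120 (iv F6772)
def n11209 : Q := act 2 n9570
theorem D11209 : act 2 n9570 = n11209 := rfl
theorem F15417 : act 0 n11209 = n11140 := d1_1 D11209 F15235 (iv D10877) F10304 (iv F12720) (iv D10096) (iv F11596)
theorem F15418 : act 1 n11209 = n10210 := d4_1 D11209 (iv D10210) (iv D7791) (iv D4881) (iv F3075) D6931 D9570
theorem F15419 : act 3 n11209 = n11152 := d7_2 F14813 D11209 F15267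
def n11210 : Q := act 4 n9571
theorem D11210 : act 4 n9571 = n11210 := rfl
theorem F15420 : act 0 n11210 = n9613 := d3_1 D11210 (iv D9613) (iv F11598)
theorem F15421 : act 1 n11210 = n10100 := d6_1 D11210 (iv F14814) F14812
theorem F15422 : act 3 n11210 = n9581 := d9_1 D11210 (iv D9581) (iv F11594) D11208 F15416 (iv D9572) D9571
def n11211 : Q := act 2 n9580
theorem D11211 : act 2 n9580 = n11211 := rfl
theorem F15423 : act 1 n11211 = n11085 := d4_1 D11211 F15109 F11147 F10538 (iv D6944) D6945 D9580
theorem F15424 : act 3 n11211 = n11084 := d7_2 F14744 D11211 F15107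
def n11212 : Q := act 1 n9586
theorem D11212 : act 1 n9586 = n11212 := rfl
theorem F15425 : act 0 n11212 = n11181 := d0_1 D11212 F15330 (iv F13819) (iv F15015) (iv F15349) F15350 F14871
theorem F15426 : act 2 n11212 = n9637 := d4_2 D9586 D11212 F11732 F11642 (iv D9590) (iv D6960) (iv F6785)
theorem F15427 : act 4 n11180 = n11212 := d17_0 (iv D11212) (iv D9586) (iv D6956) D6955 F6784 F6783 (iv D6870) (iv D4031) D4032 D6872 D9524 D11180
def n11213 : Q := act 4 n9586
theorem D11213 : act 4 n9586 = n11213 := rfl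
theorem F15428 : act 0 n11213 = n11188 := d3_1 D11213 (iv F15348) F14871
theorem F15429 : act 1 n11213 = n11180 := d6_1 D11213 F15427 (iv D11212)
theorem F15430 : act 2 n11213 = n10476 := d8_1 D11213 F13546 F11740 (iv D9585) (iv D6955) D6956 D9586
def n11214 : Q := act 4 n9588
theorem D11214 : act 4 n9588 = n11214 := rfl
theorem F15431 : act 0 n11214 = n10773 := d3_1 D11214 F14276 (iv F11637)
theorem F15432 : act 1 n11214 = n11214 := d6_1 D11214 (iv D11214) F11638
theorem F15433 : act 3 n11214 = n9606 := d9_1 D11214 F11666 (iv F11636) (iv D9587) (iv D6957) D6958 D9588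
theorem F15434 : act 2 n11214 = n9593 := d11_2 (iv F11639) D11214 (iv F15410) F15413 (iv D9573) (iv F11599) F11598
def n11215 : Q := act 1 n9589
theorem D11215 : act 1 n9589 = n11215 := rfl
theorem F15435 : act 0 n11215 = n10757 := d0_1 D11215 F14239 F9942 (iv F10042) (iv F14359) (iv F15386) F15385
theorem F15436 : act 3 n11215 = n9604 := d5_2 (iv F11640) D11215 (iv D9604)
theorem F15437 : act 4 n10754 = n11215 := d17_0 (iv D11215) (iv D9589) (iv D6959) (iv F6788) F6787 F6786 (iv D5931) (iv D3225) D3227 D5935 D8711 D10754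
theorem F15438 : act 2 n9640 = n11215 := d17_10 F15384 (iv D10810) F10038 (iv D7188) D7186 D9771 F11979 F11733 F11734 D9640 (iv D11215) (iv F15385)
def n11216 : Q := act 4 n9589
theorem D11216 : act 4 n9589 = n11216 := rfl
theorem F15439 : act 0 n11216 = n10810 := d3_1 D11216 (iv F15384) F15385
theorem F15440 : act 1 n11216 = n10754 := d6_1 D11216 F15437 (iv D11215)
theorem F15441 : act 2 n11216 = n9614 := d8_1 D11216 F11679 (iv F11635) (iv D9587) F6788 D6959 D9589
theorem F15442 : act 3 n11216 = n9592 := d12_2 (iv F11640) D11216 (iv F15369) F15372 (iv D9548) D9547 F11554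
def n11217 : Q := act 3 n9590
theorem D11217 : act 3 n9590 = n11217 := rfl
theorem F15443 : act 0 n11217 = n10772 := d2_1 D11217 F14275 (iv D9148) (iv D6383) D6382 D9146 (iv F11641)
theorem F15444 : act 1 n11217 = n9591 := d5_1 D11217 (iv D9591) D9590
theorem F15445 : act 2 n11217 = n9641 := d7_1 D11217 (iv D9641) F11642
theorem F15446 : act 4 n11217 = n10770 := d9_2 F13547 D11217 F14270 F13587 (iv F15436) (iv F15437) F14237
def n11218 : Q := act 4 n9591
theorem D11218 : act 4 n9591 = n11218 := rfl
theorem F15447 : act 0 n11218 = n10813 := d3_1 D11218 (iv F15393) F15390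
theorem F15448 : act 1 n11218 = n10770 := d6_1 D11218 (iv F15446) F15444
theorem F15449 : act 2 n11218 = n9613 := d8_1 D11218 (iv D9613) (iv F11639) D11214 F15434 (iv D9593) (iv F11643)
theorem F15450 : act 3 n11218 = n9605 := d9_1 D11218 (iv D9605) (iv F11640) D11216 F15442 (iv D9592) D9591
def n11219 : Q := act 2 n9594
theorem D11219 : act 2 n9594 = n11219 := rfl
theorem F15451 : act 0 n11219 = n10928 := d10_3 D9021 (iv F11646) D11219 (iv D10928) (iv D9023) (iv D6257) D6256
def n11220 : Q := act 2 n9599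
theorem D11220 : act 2 n9599 = n11220 := rfl
theorem F15452 : act 3 n11220 = n10931 := d7_2 F11657 D11220 (iv D10931)
theorem F15453 : act 0 n11220 = n10932 := d10_3 D9034 (iv F11656) D11220 (iv D10932) (iv D9030) F5620 D6265
def n11221 : Q := act 1 n9602
theorem D11221 : act 1 n9602 = n11221 := rfl
theorem F15454 : act 0 n11221 = n11185 := d0_1 D11221 F15338 (iv F13817) (iv F15023) (iv F15361) F15362 F14866
theorem F15455 : act 2 n11221 = n9675 := d4_2 D9602 D11221 F11800 F11664 (iv D9604) (iv D6971) D6970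
theorem F15456 : act 4 n11184 = n11221 := d8_0 F15455 (iv D9675) D9673 F11796 (iv D9615) D9616 (iv F15337)
def n11222 : Q := act 4 n9602
theorem D11222 : act 4 n9602 = n11222 := rfl
theorem F15457 : act 0 n11222 = n11191 := d3_1 D11222 (iv F15360) F14866
theorem F15458 : act 1 n11222 = n11184 := d6_1 D11222 F15456 (iv D11221)
theorem F15459 : act 2 n11222 = n10497 := d11_2 D9602 D11222 F13585 (iv F12910) F12911 F12432 (iv F7639)
def n11223 : Q := act 2 n9603
theorem D11223 : act 2 n9603 = n11223 := rfl
theorem F15460 : act 0 n11223 = n11187 := d1_1 D11223 F15343 F15038 F13508 F12444 F12436 F12433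
theorem F15461 : act 1 n11223 = n11223 := d4_1 D11223 (iv D11223) F11662 D9606 F11667 (iv D9606) (iv F11662)
def n11224 : Q := act 4 n9620
theorem D11224 : act 4 n9620 = n11224 := rfl
theorem F15462 : act 0 n11224 = n9639 := d3_1 D11224 (iv D9639) (iv F11691)
theorem F15463 : act 1 n11224 = n11169 := d6_1 D11224 F15305 (iv F11692)
theorem F15464 : act 2 n11224 = n9630 := d11_2 D9620 D11224 (iv D9630) (iv D7005) (iv D4133) D4131 D6999
theorem F15465 : act 3 n11224 = n9645 := d12_2 (iv F11693) D11224 F11745 D9671 F11793 (iv D7299) D7298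
def n11225 : Q := act 4 n9623
theorem D11225 : act 4 n9623 = n11225 := rfl
theorem F15466 : act 0 n11225 = n9624 := d3_1 D11225 (iv D9624) D9623
theorem F15467 : act 1 n11225 = n10411 := d6_1 D11225 (iv D10411) (iv F11703)
theorem F15468 : act 2 n11225 = n10757 := d11_2 F11978 D11225 (iv F15435) (iv F15438) (iv D9640) (iv F11734) (iv F11979)
theorem F15469 : act 3 n11225 = n9651 := d12_2 (iv F11704) D11225 F11762 F11699 (iv D4510) D4509 D7352
def n11226 : Q := act 2 n9624
theorem D11226 : act 2 n9624 = n11226 := rfl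
theorem F15470 : act 3 n11226 = n9678 := d7_2 (iv F11707) D11226 F11805
def n11227 : Q := act 1 n9625
theorem D11227 : act 1 n9625 = n11227 := rfl
def n11228 : Q := act 3 n9625
theorem D11228 : act 3 n9625 = n11228 := rfl
theorem F15471 : act 2 n11228 = n9626 := d7_1 D11228 (iv D9626) D9625
def n11229 : Q := act 0 n9626
theorem D11229 : act 0 n9626 = n11229 := rfl
theorem F15472 : act 1 n11229 = n10412 := d0_2 F13495 D11229 F13411 (iv F14482) F14481 F14096 (iv F13494)
theorem F15473 : act 3 n11229 = n9655 := d2_2 D9626 D11229 (iv D9655) (iv D7025) (iv F6859) F11697 F11695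
theorem F15474 : act 4 n11229 = n9650 := d3_2 (iv F11706) D11229 F11760
theorem F15475 : act 2 n11229 = n10772 := d10_2 D9626 D11229 (iv F15443) (iv D11217) F11641 (iv F11696) F11695
def n11230 : Q := act 4 n9627
theorem D11230 : act 4 n9627 = n11230 := rfl
theorem F15476 : act 0 n11230 = n9640 := d3_1 D11230 (iv D9640) (iv F11710)
theorem F15477 : act 1 n11230 = n11166 := d6_1 D11230 (iv D11166) (iv F11708)
theorem F15478 : act 3 n11230 = n9657 := d12_2 (iv F11709) D11230 F11773 F6884 (iv D4515) D4514 (iv F7465)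
def n11231 : Q := act 2 n9628
theorem D11231 : act 2 n9628 = n11231 := rfl
theorem F15479 : act 3 n11231 = n9658 := d7_2 (iv F11713) D11231 (iv D9658)
theorem F15480 : act 0 n11231 = n9685 := d10_3 (iv F6843) (iv F11711) D11231 (iv D9685) (iv D7052) (iv D4165) (iv F3124)
theorem F15481 : act 4 n11164 = n11231 := d3_0 F15480 (iv F13549) (iv F15293)
theorem F15482 : act 1 n11231 = n11165 := d6_1 F15481 (iv D11165) D11164
def n11232 : Q := act 0 n9629
theorem D11232 : act 0 n9629 = n11232 := rfl
theorem F15483 : act 3 n11232 = n9659 := d2_2 (iv F11714) D11232 (iv D9659) F6873 D7357 (iv F11809) (iv D9681)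
theorem F15484 : act 1 n11232 = n10865 := d13_2 D9629 D11232 (iv D10865) (iv D8901) (iv F10251) F10252 F9968 F9969 (iv F8222) (iv F11712) F11711
theorem F15485 : act 4 n10755 = n11232 := d6_0 F15484 F14505 (iv F14231)
def n11233 : Q := act 1 n9629
theorem D11233 : act 1 n9629 = n11233 := rfl
theorem F15486 : act 2 n11233 = n10485 := d4_2 D9629 D11233 F13959 (iv D10644) F9425 (iv F7188) F7187
theorem F15487 : act 3 n11233 = n9682 := d5_2 (iv F11714) D11233 (iv D9682)
theorem F15488 : act 0 n11233 = n9847 := d16_6 (iv F6955) F6953 (iv F7189) F7187 D9629 D11233 (iv D9847) (iv D7275) (iv D4390) (iv D2167) (iv F1307) (iv F3284)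
def n11234 : Q := act 4 n9629
theorem D11234 : act 4 n9629 = n11234 := rfl
theorem F15489 : act 0 n11234 = n10755 := d3_1 D11234 F15485 (iv D11232)
def n11235 : Q := act 4 n9630
theorem D11235 : act 4 n9630 = n11235 := rfl
theorem F15490 : act 0 n11235 = n9633 := d3_1 D11235 (iv D9633) D9630
theorem F15491 : act 1 n11235 = n10606 := d6_1 D11235 (iv F15054) F15052
theorem F15492 : act 2 n11235 = n11005 := d8_1 D11235 (iv D11005) (iv F11696) (iv D9621) D9620 D11224 F15464
theorem F15493 : act 3 n11235 = n9885 := d12_2 (iv F11715) D11235 F12210 (iv F13158) (iv D9667) (iv D7032) D7030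
theorem F15494 : act 3 n11234 = n9633 := d2_6 F15493 F12210 (iv F13158) (iv F13458) F14232 (iv F15489) (iv F15490)
def n11236 : Q := act 3 n9631
theorem D11236 : act 3 n9631 = n11236 := rfl
theorem F15495 : act 0 n11236 = n9851 := d2_1 D11236 (iv D9851) (iv D7281) (iv D4396) D4394 D7279 (iv F11716)
theorem F15496 : act 1 n11236 = n9632 := d5_1 D11236 (iv D9632) D9631
theorem F15497 : act 2 n11236 = n10486 := d7_1 D11236 (iv D10486) F11722
def n11237 : Q := act 0 n9632
theorem D11237 : act 0 n9632 = n11237 := rfl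
theorem F15498 : act 3 n11237 = n9666 := d2_2 D9632 D11237 (iv D9666) (iv D7032) D7030 (iv F11715) (iv D9630)
theorem F15499 : act 1 n11237 = n10868 := d13_2 (iv F11723) D11237 (iv D10868) F10256 D8904 F10259 F10010 F10012 (iv F8227) (iv F11724) (iv D9634)
theorem F15500 : act 4 n11237 = n10771 := d17_0 F14272 F13434 F8828 (iv F8844) (iv F13456) F13455 (iv F12634) F12635 (iv F13567) (iv F15497) F15496 D11237
def n11238 : Q := act 4 n9632
theorem D11238 : act 4 n9632 = n11238 := rfl
theorem F15501 : act 0 n11238 = n10771 := d3_1 D11238 (iv F15500) (iv D11237)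
theorem F15502 : act 3 n11238 = n9683 := d9_1 D11238 (iv D9683) (iv F11714) D11234 F15494 (iv D9633) D9632
def n11239 : Q := act 2 n9634
theorem D11239 : act 2 n9634 = n11239 := rfl
theorem F15503 : act 3 n11239 = n9669 := d7_2 (iv F11725) D11239 (iv D9669)
theorem F15504 : act 0 n11239 = n9643 := d10_3 D7006 D9634 D11239 (iv D9643) (iv D7012) (iv D4136) (iv F3110)
theorem F15505 : act 4 n11174 = n11239 := d3_0 F15504 (iv F13589) (iv F15316)
theorem F15506 : act 1 n11239 = n11175 := d6_1 F15505 (iv D11175) D11174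
def n11240 : Q := act 4 n9636
theorem D11240 : act 4 n9636 = n11240 := rfl
theorem F15507 : act 0 n11240 = n9751 := d3_1 D11240 F11925 (iv F11730)
theorem F15508 : act 1 n11240 = n9640 := d6_1 D11240 (iv D9640) (iv F11731)
theorem F15509 : act 3 n11240 = n9675 := d12_2 D9636 D11240 (iv F12455) F12457 (iv D7543) (iv F7648) F7649
def n11241 : Q := act 3 n9637
theorem D11241 : act 3 n9637 = n11241 := rfl
theorem F15510 : act 0 n11241 = n9749 := d2_1 D11241 F11921 F7361 F7078 (iv F7660) (iv F12448) F12446
theorem F15511 : act 1 n11241 = n9641 := d5_1 D11241 (iv D9641) (iv F11732)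
theorem F15512 : act 4 n11241 = n9674 := d9_2 D9637 D11241 (iv D9674) D9675 (iv F15509) (iv D11240) (iv D9636)
def n11242 : Q := act 4 n9638
theorem D11242 : act 4 n9638 = n11242 := rfl
theorem F15513 : act 1 n11242 = n11242 := d6_1 D11242 (iv D11242) F11733
theorem F15514 : act 2 n11242 = n9685 := d8_1 D11242 (iv F13549) F14238 F15437 (iv F15438) (iv D9640) (iv F11734)
theorem F15515 : act 3 n9677 = n11242 := d7_0 F15514 (iv D9685) (iv F11804)
def n11243 : Q := act 3 n9639
theorem D11243 : act 3 n9639 = n11243 := rfl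
theorem F15516 : act 1 n11243 = n11243 := d5_1 D11243 (iv D11243) F11735
theorem F15517 : act 2 n11243 = n9643 := d7_1 D11243 (iv D9643) (iv F11736)
theorem F15518 : act 4 n11243 = n9676 := d9_2 D9639 D11243 (iv D9676) D9677 F15515 (iv D11242) (iv D9638)
def n11244 : Q := act 0 n9641
theorem D11244 : act 0 n9641 = n11244 := rfl
theorem F15519 : act 3 n11244 = n9672 := d2_2 D9641 D11244 (iv D9672) (iv D7039) F3123 (iv F4988) (iv F6845)
theorem F15520 : act 4 n11244 = n9656 := d3_2 (iv F11738) D11244 F11770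
theorem F15521 : act 1 n11172 = n11244 := d6_3 F15520 F11771 D11172
def n11245 : Q := act 4 n9644
theorem D11245 : act 4 n9644 = n11245 := rfl
theorem F15522 : act 0 n11245 = n9677 := d3_1 D11245 (iv D9677) (iv F11743)
theorem F15523 : act 1 n11245 = n11168 := d6_1 D11245 (iv D11168) (iv F11741)
theorem F15524 : act 3 n11245 = n9860 := d9_1 D11245 (iv D9860) (iv F11693) D11224 F15465 (iv D9645) D9644
theorem F15525 : act 2 n11245 = n9681 := d11_2 (iv F11742) D11245 (iv D9681) (iv D7051) (iv D4164) D4162 (iv F6858)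
def n11246 : Q := act 4 n9649
theorem D11246 : act 4 n9649 = n11246 := rfl
theorem F15526 : act 0 n11246 = n9670 := d3_1 D11246 (iv D9670) (iv F11759)
theorem F15527 : act 2 n11246 = n9659 := d8_1 D11246 (iv F13432) (iv F14224) (iv F14226) (iv F11764) (iv D9651) D9649
def n11247 : Q := act 0 n9652
theorem D11247 : act 0 n9652 = n11247 := rfl
theorem F15528 : act 2 n11247 = n9657 := d1_2 D9652 D11247 F11773 (iv F6885) D9143 (iv F11764) F11762
def n11248 : Q := act 1 n9652
theorem D11248 : act 1 n9652 = n11248 := rfl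
theorem F15529 : act 2 n11248 = n10377 := d4_2 D9652 D11248 F13334 (iv D9976) (iv F9066) (iv F11753) F11752
theorem F15530 : act 3 n11248 = n9883 := d5_2 (iv F11765) D11248 (iv D9883)
def n11249 : Q := act 3 n9653
theorem D11249 : act 3 n9653 = n11249 := rfl
theorem F15531 : act 1 n11249 = n9654 := d5_1 D11249 (iv D9654) D9653
theorem F15532 : act 2 n11249 = n10391 := d7_1 D11249 (iv F13772) F13773
def n11250 : Q := act 0 n9654
theorem D11250 : act 0 n9654 = n11250 := rfl
theorem F15533 : act 2 n11250 = n9672 := d1_2 (iv F11766) D11250 (iv D9672) F6886 D9148 (iv F11769) (iv D9655)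
def n11251 : Q := act 4 n9654
theorem D11251 : act 4 n9654 = n11251 := rfl
theorem F15534 : act 2 n11251 = n9667 := d8_1 D11251 (iv D9667) F6874 F3122 (iv F3471) (iv F11698) (iv F11766)
theorem F15535 : act 3 n11251 = n9884 := d9_1 D11251 (iv D9884) (iv F11765) (iv F15324) (iv D11178) F11506 D9654
def n11252 : Q := act 1 n9658
theorem D11252 : act 1 n9658 = n11252 := rfl
theorem F15536 : act 0 n11252 = n9919 := d0_1 D11252 (iv D9919) (iv D7419) (iv D4563) D4562 (iv F8637) (iv F11774)
theorem F15537 : act 3 n11252 = n11165 := d5_2 F15479 D11252 (iv F15482)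
theorem F15538 : act 4 n11252 = n9969 := d6_2 F15319 D11252 (iv F15317)
def n11253 : Q := act 3 n9662
theorem D11253 : act 3 n9662 = n11253 := rfl
theorem F15539 : act 0 n11253 = n9683 := d2_1 D11253 (iv F15502) F15501 F14273 F13431 F13157 (iv F11776)
theorem F15540 : act 1 n11253 = n10607 := d5_1 D11253 (iv D10607) (iv F11777)
theorem F15541 : act 2 n11253 = n11006 := d7_1 D11253 (iv D11006) (iv F11778)
theorem F15542 : act 4 n11253 = n9681 := d9_2 D9662 D11253 F11809 D9885 (iv F15493) (iv D11235) F11715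
def n11254 : Q := act 2 n9666
theorem D11254 : act 2 n9666 = n11254 := rfl
theorem F15543 : act 0 n11254 = n9671 := d1_1 D11254 F11792 (iv F11787) (iv D9669) (iv D7034) (iv F6874) D9666
theorem F15544 : act 4 n11254 = n9861 := d8_2 F13459 D11254 F12155 (iv F11768) F11769 (iv F14236) F14234
def n11255 : Q := act 1 n9669
theorem D11255 : act 1 n9669 = n11255 := rfl
theorem F15545 : act 0 n11255 = n9921 := d0_1 D11255 (iv D9921) (iv D7422) F3527 D4568 (iv F6894) (iv F11787)
theorem F15546 : act 3 n11255 = n11175 := d5_2 F15503 D11255 (iv F15506)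
theorem F15547 : act 4 n10233 = n11255 := d17_0 (iv D11255) (iv D9669) F6875 D7356 (iv F8440) (iv D7929) (iv D4989) D4990 D7934 F8450 (iv F12220) (iv F13017)
def n11256 : Q := act 4 n9669
theorem D11256 : act 4 n9669 = n11256 := rfl
theorem F15548 : act 0 n11256 = n9686 := d3_1 D11256 (iv D9686) (iv F11787)
theorem F15549 : act 1 n11256 = n10233 := d6_1 D11256 F15547 (iv D11255)
theorem F15550 : act 3 n11256 = n11164 := d9_1 D11256 F15481 F15479 (iv F15319) F15318 F15505 F15503
def n11257 : Q := act 1 n9678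
theorem D11257 : act 1 n9678 = n11257 := rfl
def n11258 : Q := act 3 n9679
theorem D11258 : act 3 n9679 = n11258 := rfl
theorem F15551 : act 0 n11258 = n10903 := d2_1 D11258 F14608 F10482 F7141 F7137 (iv F8914) (iv F11807)
theorem F15552 : act 1 n11258 = n10650 := d5_1 D11258 F13976 F12459
theorem F15553 : act 2 n11258 = n9680 := d7_1 D11258 (iv D9680) D9679
theorem F15554 : act 4 n11258 = n10454 := d9_2 (iv F11806) D11258 (iv D10454) F8903 D8661 (iv F13505) (iv D10456)
def n11259 : Q := act 2 n9684
theorem D11259 : act 2 n9684 = n11259 := rfl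
theorem F15555 : act 0 n11259 = n10996 := d1_1 D11259 (iv F15101) F15098 (iv D9986) (iv D7484) (iv F7643) (iv F11810)
theorem F15556 : act 1 n11259 = n11259 := d4_1 D11259 (iv D11259) (iv D9684) (iv F11804) F11803 F11804 D9684
theorem F15557 : act 3 n11259 = n10334 := d7_2 F13961 D11259 (iv F13960)
theorem F15558 : act 4 n11259 = n11223 := d8_2 F13586 D11259 (iv D11223) (iv D9603) D9602 D11222 F15459
def n11260 : Q := act 3 n9688
theorem D11260 : act 3 n9688 = n11260 := rfl
theorem F15559 : act 1 n11260 = n9689 := d5_1 D11260 (iv D9689) D9688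
theorem F15560 : act 2 n11260 = n10256 := d7_1 D11260 (iv D10256) (iv F11817)
theorem F15561 : act 0 n11260 = n10267 := d10_1 D11260 (iv D10267) (iv D7853) (iv D4926) D4925 D7851 (iv F11816)
def n11261 : Q := act 4 n9688
theorem D11261 : act 4 n9688 = n11261 := rfl
theorem F15562 : act 0 n11261 = n10103 := d3_1 D11261 F12736 (iv F11816)
theorem F15563 : act 1 n11261 = n9690 := d6_1 D11261 (iv D9690) D9688
theorem F15564 : act 2 n11261 = n10263 := d8_1 D11261 F14977 (iv D11032) (iv F12668) (iv F13074) (iv D10257) (iv F11817)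
def n11262 : Q := act 4 n9689
theorem D11262 : act 4 n9689 = n11262 := rfl
theorem F15565 : act 0 n11262 = n9707 := d3_1 D11262 (iv D9707) (iv F11818)
theorem F15566 : act 3 n11262 = n9704 := d12_2 D9689 D11262 (iv D9704) (iv D7071) (iv D4188) D4187 (iv F6908)
def n11263 : Q := act 3 n9690
theorem D11263 : act 3 n9690 = n11263 := rfl
theorem F15567 : act 0 n11263 = n9709 := d2_1 D11263 (iv D9709) F6938 F6930 (iv F3438) F6932 (iv F11820)
theorem F15568 : act 4 n11263 = n9831 := d9_2 D9690 D11263 F12081 (iv F11836) (iv F15566) (iv D11262) (iv D9689)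
def n11264 : Q := act 2 n9691
theorem D11264 : act 2 n9691 = n11264 := rfl
theorem F15569 : act 0 n11264 = n9729 := d1_1 D11264 F13110 F13108 D10276 F13114 (iv D9716) (iv F11821)
theorem F15570 : act 3 n11264 = n9703 := d7_2 (iv F11823) D11264 (iv D9703)
def n11265 : Q := act 1 n9692
theorem D11265 : act 1 n9692 = n11265 := rfl
theorem F15571 : act 0 n11265 = n10234 := d0_1 D11265 F13019 (iv D9891) (iv D7375) (iv F4077) (iv F8660) (iv F11824)
theorem F15572 : act 2 n11265 = n10227 := d4_2 D9692 D11265 F13001 (iv D9947) D9946 F12359 F8225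
theorem F15573 : act 4 n10215 = n11265 := d17_0 (iv D11265) (iv D9692) (iv D7060) D7058 D9688 F11816 F8368 (iv D4951) D4953 D7897 F8998 (iv F12981)
def n11266 : Q := act 3 n9692
theorem D11266 : act 3 n9692 = n11266 := rfl
theorem F15574 : act 0 n11266 = n9722 := d2_1 D11266 (iv D9722) (iv D7092) F3149 D4478 D7334 (iv F11824)
theorem F15575 : act 2 n11266 = n9693 := d7_1 D11266 (iv D9693) D9692
def n11267 : Q := act 4 n9692
theorem D11267 : act 4 n9692 = n11267 := rfl
theorem F15576 : act 0 n11267 = n9726 := d3_1 D11267 F11866 (iv F11824)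
theorem F15577 : act 1 n11267 = n10215 := d6_1 D11267 F15573 (iv D11265)
def n11268 : Q := act 4 n9694
theorem D11268 : act 4 n9694 = n11268 := rfl
theorem F15578 : act 0 n11268 = n10286 := d3_1 D11268 (iv F15237) F15236
theorem F15579 : act 1 n11268 = n9695 := d6_1 D11268 (iv D9695) D9694
theorem F15580 : act 2 n11268 = n11034 := d8_1 D11268 (iv D11034) (iv D9235) D9236 (iv F13626) (iv F13627) F12305
theorem F15581 : act 3 n11268 = n9700 := d12_2 (iv F11828) D11268 (iv F14024) (iv F14216) F14217 (iv F12190) (iv D9874)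
def n11269 : Q := act 4 n9696
theorem D11269 : act 4 n9696 = n11269 := rfl
theorem F15582 : act 0 n11269 = n9732 := d3_1 D11269 (iv D9732) (iv F11829)
theorem F15583 : act 2 n11269 = n11193 := d8_1 D11269 (iv F15368) F14371 F11487 D9535 (iv F15305) F15304
theorem F15584 : act 3 n11269 = n9873 := d12_2 D9696 D11269 F12188 (iv F13107) (iv D9701) (iv D7064) D7062
def n11270 : Q := act 3 n9697
theorem D11270 : act 3 n9697 = n11270 := rfl
theorem F15585 : act 0 n11270 = n9720 := d2_1 D11270 (iv F14725) (iv D10948) F13123 F13120 F13106 (iv F11830)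
theorem F15586 : act 2 n11270 = n11195 := d7_1 D11270 (iv D11195) (iv F11831)
theorem F15587 : act 4 n11270 = n9717 := d9_2 D9697 D11270 F11852 D9873 (iv F15584) (iv D11269) (iv D9696)
def n11271 : Q := act 4 n9699
theorem D11271 : act 4 n9699 = n11271 := rfl
theorem F15588 : act 0 n11271 = n10304 := d3_1 D11271 (iv F15242) F15241
theorem F15589 : act 1 n11271 = n9701 := d6_1 D11271 (iv D9701) (iv F11832)
theorem F15590 : act 2 n11271 = n11040 := d8_1 D11271 (iv D11040) F10949 D9246 (iv F13654) F13655 F12371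
theorem F15591 : act 3 n11271 = n9876 := d9_1 D11271 (iv D9876) (iv F11828) D11268 F15581 (iv D9700) D9699
def n11272 : Q := act 1 n9703
theorem D11272 : act 1 n9703 = n11272 := rfl
theorem F15592 : act 0 n11272 = n10440 := d0_1 D11272 F13473 (iv D9894) F7490 (iv F4085) (iv F6970) (iv F11835)
theorem F15593 : act 2 n11272 = n10436 := d4_2 D9703 D11272 F13463 (iv D9966) D9965 F12390 F8488
def n11273 : Q := act 4 n9703
theorem D11273 : act 4 n9703 = n11273 := rfl
theorem F15594 : act 0 n11273 = n9725 := d3_1 D11273 (iv D9725) (iv F11835)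
def n11274 : Q := act 1 n9704
theorem D11274 : act 1 n9704 = n11274 := rfl
theorem F15595 : act 0 n11274 = n10095 := d0_1 D11274 F12714 (iv F12486) F12487 (iv F9783) F9784 D9704
theorem F15596 : act 4 n11274 = n9872 := d6_2 (iv F11836) D11274 (iv D9872)
theorem F15597 : act 2 n11274 = n10318 := d15_6 D3132 D5824 (iv F9785) F9784 D9704 D11274 (iv D10318) (iv D7966) (iv F8502) F8501 F4961 F2242
def n11275 : Q := act 1 n9710
theorem D11275 : act 1 n9710 = n11275 := rfl
theorem F15598 : act 2 n11275 = n10445 := d4_2 (iv F11842) D11275 (iv D10445) (iv D8163) (iv D5210) D5211 (iv F7818)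
theorem F15599 : act 3 n11275 = n10544 := d5_2 F13133 D11275 F13718
def n11276 : Q := act 4 n9710
theorem D11276 : act 4 n9710 = n11276 := rfl
theorem F15600 : act 0 n11276 = n9711 := d3_1 D11276 (iv D9711) D9710
theorem F15601 : act 2 n11276 = n9720 := d8_1 D11276 (iv D9720) (iv D7090) (iv D4199) D4197 D7088 (iv F11842)
def n11277 : Q := act 1 n9712
theorem D11277 : act 1 n9712 = n11277 := rfl
theorem F15602 : act 2 n11277 = n10441 := d4_2 (iv F11846) D11277 (iv D10441) (iv D8152) F4182 D5202 (iv F7426)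
theorem F15603 : act 3 n11277 = n10585 := d5_2 F13128 D11277 F13829
def n11278 : Q := act 4 n9712
theorem D11278 : act 4 n9712 = n11278 := rfl
theorem F15604 : act 0 n11278 = n9713 := d3_1 D11278 (iv D9713) D9712
theorem F15605 : act 2 n11278 = n9732 := d8_1 D11278 (iv D9732) (iv D7103) F3151 D4476 D7332 (iv F11846)
def n11279 : Q := act 1 n9716
theorem D11279 : act 1 n9716 = n11279 := rfl
theorem F15606 : act 2 n11279 = n10572 := d4_2 D9716 D11279 (iv D10572) F9231 (iv D6183) (iv F3286) (iv F6957)
theorem F15607 : act 3 n11279 = n9731 := d5_2 (iv F11851) D11279 (iv D9731)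
def n11280 : Q := act 0 n9718
theorem D11280 : act 0 n9718 = n11280 := rfl
theorem F15608 : act 1 n11280 = n10300 := d0_2 D9718 D11280 (iv F13708) F13709 D11115 F15166 (iv D9717)
theorem F15609 : act 2 n11280 = n11280 := d1_2 (iv F13540) D11280 (iv D11280) F13540 F13538 F8942 (iv F13538)
theorem F15610 : act 4 n11280 = n10045 := d11_5 (iv F11041) D10473 (iv F13540) D11280 F15609 F12590 (iv F11039)
def n11281 : Q := act 3 n9718
theorem D11281 : act 3 n9718 = n11281 := rfl
theorem F15611 : act 1 n11281 = n9719 := d5_1 D11281 (iv D9719) D9718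
theorem F15612 : act 2 n11281 = n10570 := d7_1 D11281 F13791 (iv F13540)
def n11282 : Q := act 4 n9718
theorem D11282 : act 4 n9718 = n11282 := rfl
theorem F15613 : act 0 n11282 = n10045 := d3_1 D11282 (iv F15610) (iv D11280)
theorem F15614 : act 1 n11282 = n9720 := d6_1 D11282 (iv D9720) D9718
theorem F15615 : act 2 n11282 = n10469 := d8_1 D11282 F13535 (iv D9283) D9284 (iv F11041) D10473 (iv F13540)
def n11283 : Q := act 4 n9721
theorem D11283 : act 4 n9721 = n11283 := rfl
theorem F15616 : act 0 n11283 = n9939 := d3_1 D11283 (iv D9939) (iv F11854)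
theorem F15617 : act 1 n11283 = n9723 := d6_1 D11283 (iv D9723) D9721
theorem F15618 : act 2 n11283 = n10580 := d8_1 D11283 (iv D10580) F9241 D9262 (iv F13790) (iv D10569) F11855
theorem F15619 : act 3 n11283 = n10574 := d12_2 (iv F11856) D11283 (iv F13990) F13992 (iv F13663) F12069 F9480
def n11284 : Q := act 4 n9727
theorem D11284 : act 4 n9727 = n11284 := rfl
theorem F15620 : act 0 n11284 = n9933 := d3_1 D11284 (iv D9933) (iv F11867)
theorem F15621 : act 1 n11284 = n9730 := d6_1 D11284 (iv D9730) D9727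
theorem F15622 : act 2 n11284 = n10581 := d8_1 D11284 F13820 (iv F9265) (iv D6531) (iv F4494) D8342 (iv F11868)
theorem F15623 : act 3 n11284 = n10568 := d9_1 D11284 (iv D10568) (iv F11856) D11283 F15619 (iv D10574) F11869
def n11285 : Q := act 4 n9731
theorem D11285 : act 4 n9731 = n11285 := rfl
theorem F15624 : act 0 n11285 = n10043 := d3_1 D11285 (iv F12585) F12018
theorem F15625 : act 1 n11285 = n9732 := d6_1 D11285 (iv D9732) D9731
theorem F15626 : act 2 n11285 = n10464 := d8_1 D11285 F13518 F10885 D9267 F10999 D10463 F13517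
def n11286 : Q := act 3 n9739
theorem D11286 : act 3 n9739 = n11286 := rfl
theorem F15627 : act 0 n11286 = n11248 := d2_1 D11286 F15530 (iv F14897) F14899 F13379 (iv D9741) D9739
theorem F15628 : act 1 n11286 = n10274 := d5_1 D11286 F13105 (iv F11894)
theorem F15629 : act 2 n11286 = n11010 := d7_1 D11286 F14903 F14146
theorem F15630 : act 4 n11286 = n10273 := d12_1 D11286 F13103 (iv F9377) (iv F13377) F13378 (iv D9741) D9739
def n11287 : Q := act 2 n9749
theorem D11287 : act 2 n9749 = n11287 := rfl
theorem F15631 : act 3 n11287 = n9856 := d7_2 (iv F11921) D11287 (iv D9856)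
theorem F15632 : act 4 n11287 = n11020 := d8_2 D9749 D11287 F14936 F10852 F9452 (iv D8484) (iv F7071)
theorem F15633 : act 1 n11287 = n11161 := d16_5 F5014 (iv F7439) (iv F11488) (iv F11920) D11287 F15287 (iv D10620) F9327 (iv F9332) F9333 F4674 (iv F4780)
def n11288 : Q := act 3 n9750
theorem D11288 : act 3 n9750 = n11288 := rfl
theorem F15634 : act 1 n11288 = n11159 := d5_1 D11288 F15282 F11923
theorem F15635 : act 2 n11288 = n9751 := d7_1 D11288 (iv D9751) D9750
theorem F15636 : act 4 n11288 = n11018 := d9_2 (iv F11922) D11288 F14932 (iv F12142) (iv F15631) F15632 (iv D11020)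
def n11289 : Q := act 0 n9753
theorem D11289 : act 0 n9753 = n11289 := rfl
theorem F15637 : act 1 n11289 = n10555 := d0_2 (iv F11929) D11289 F13748 (iv F9810) F9809 F8620 F8619
theorem F15638 : act 4 n11289 = n10554 := d3_2 (iv F11931) D11289 F13746
theorem F15639 : act 3 n11289 = n11181 := d10_4 F12448 F7660 D9753 D11289 (iv F15425) F15426 (iv F12446)
def n11290 : Q := act 0 n9754
theorem D11290 : act 0 n9754 = n11290 := rfl
theorem F15640 : act 1 n11290 = n10567 := d0_2 (iv F11932) D11290 F13784 (iv F9798) F9797 F6399 (iv F7539)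
theorem F15641 : act 4 n11290 = n10566 := d3_2 (iv F11934) D11290 F13782
theorem F15642 : act 3 n11290 = n11185 := d10_4 F12457 F7759 (iv F11933) D11290 (iv F15454) F15455 (iv F12455)
def n11291 : Q := act 0 n9755
theorem D11291 : act 0 n9755 = n11291 := rfl
theorem F15643 : act 4 n11291 = n10348 := d3_2 F13703 D11291 (iv F13701)
theorem F15644 : act 2 n11291 = n10929 := d10_2 (iv F11935) D11291 (iv D10929) (iv D9024) D9023 (iv F12092) (iv D9834)
theorem F15645 : act 3 n11291 = n10353 := d12_4 D8300 (iv F9150) (iv F11935) D11291 (iv D10353) (iv D8010) (iv F4384)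
def n11292 : Q := act 2 n9755
theorem D11292 : act 2 n9755 = n11292 := rfl
theorem F15646 : act 0 n11292 = n10350 := d1_1 D11292 F13274 (iv D9026) (iv F10507) D10929 (iv F15644) (iv D11291)
theorem F15647 : act 1 n11292 = n9900 := d4_1 D11292 F12247 F7502 F7145 F7143 (iv F7116) D9755
theorem F15648 : act 3 n11292 = n9835 := d7_2 (iv F11935) D11292 (iv D9835)
theorem F15649 : act 4 n11292 = n10349 := d8_2 F13703 D11292 F13270 (iv D9027) (iv F10507) D10930 F14679
def n11293 : Q := act 4 n9760
theorem D11293 : act 4 n9760 = n11293 := rfl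
theorem F15650 : act 0 n11293 = n9769 := d3_1 D11293 (iv D9769) (iv F11947)
theorem F15651 : act 1 n11293 = n11291 := d6_1 D11293 F15643 F13268
theorem F15652 : act 2 n11293 = n9764 := d8_1 D11293 (iv D9764) (iv D7172) (iv D4271) D4269 D7170 D9760
theorem F15653 : act 3 n11293 = n9779 := d9_1 D11293 (iv D9779) (iv D7190) D7191 (iv F11992) (iv D9777) (iv F11948)
def n11294 : Q := act 1 n9761
theorem D11294 : act 1 n9761 = n11294 := rfl
theorem F15654 : act 2 n11294 = n10413 := d4_2 D9761 D11294 F13414 F8799 (iv F8229) F8230 (iv F7167)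
theorem F15655 : act 3 n11294 = n10212 := d5_2 (iv F11949) D11294 (iv D10212)
theorem F15656 : act 4 n11294 = n9807 := d6_2 F11951 D11294 (iv D9807)
def n11295 : Q := act 0 n9763
theorem D11295 : act 0 n9763 = n11295 := rfl
theorem F15657 : act 1 n11295 = n11136 := d0_2 D9763 D11295 (iv D11136) (iv D9415) D9414 (iv F11955) (iv D9762)
theorem F15658 : act 2 n11295 = n11295 := d1_2 F13238 D11295 (iv D11295) (iv F13238) (iv F13526) F13528 F13526
theorem F15659 : act 3 n11295 = n11280 := d10_4 (iv F13529) F13526 F13238 D11295 (iv D11280) F13540 F13538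
def n11296 : Q := act 4 n9763
theorem D11296 : act 4 n9763 = n11296 := rfl
theorem F15660 : act 1 n11296 = n9764 := d6_1 D11296 (iv D9764) D9763
theorem F15661 : act 2 n11296 = n10793 := d8_1 D11296 (iv D10793) F9998 D8756 (iv F13523) F13525 F13238
theorem F15662 : act 3 n11296 = n9797 := d9_1 D11296 (iv D9797) (iv D7205) D7206 F12015 (iv D9794) (iv F11956)
def n11297 : Q := act 4 n9771
theorem D11297 : act 4 n9771 = n11297 := rfl
theorem F15663 : act 0 n11297 = n11242 := d3_1 D11297 (iv D11242) (iv F11979)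
theorem F15664 : act 1 n11297 = n9773 := d6_1 D11297 (iv D9773) D9771
theorem F15665 : act 2 n11297 = n11232 := d8_1 D11297 (iv F15485) (iv D10755) D10757 (iv F15468) (iv D11225) (iv F11978)
theorem F15666 : act 3 n11297 = n11246 := d12_2 F12156 D11297 F15526 (iv F11790) (iv D7300) D7299 D9861
def n11298 : Q := act 4 n9772
theorem D11298 : act 4 n9772 = n11298 := rfl
theorem F15667 : act 0 n11298 = n9809 := d3_1 D11298 (iv D9809) (iv F11980)
theorem F15668 : act 1 n11298 = n11254 := d6_1 D11298 F15544 F12154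
theorem F15669 : act 2 n11298 = n9800 := d11_2 (iv F11981) D11298 F12023 (iv D7237) (iv D4339) (iv F3270) (iv F7198)
theorem F15670 : act 3 n11298 = n9799 := d12_2 D9772 D11298 F12021 (iv D7216) (iv D4318) D4317 (iv F7197)
def n11299 : Q := act 3 n9773
theorem D11299 : act 3 n9773 = n11299 := rfl
theorem F15671 : act 0 n11299 = n9810 := d2_1 D11299 (iv D9810) F7247 (iv F8417) (iv F11969) F11971 (iv F11982)
theorem F15672 : act 1 n11299 = n11246 := d5_1 D11299 (iv F15666) F15664
theorem F15673 : act 2 n11299 = n9791 := d7_1 D11299 (iv D9791) (iv F11983)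
theorem F15674 : act 4 n11299 = n9972 := d9_2 D9773 D11299 F12407 (iv F12022) (iv F15670) (iv D11298) (iv D9772)
def n11300 : Q := act 4 n9776
theorem D11300 : act 4 n9776 = n11300 := rfl
theorem F15675 : act 0 n11300 = n9777 := d3_1 D11300 (iv D9777) D9776
theorem F15676 : act 2 n11300 = n9789 := d8_1 D11300 (iv D9789) (iv D7198) (iv D4308) D4306 D7196 (iv F11990)
def n11301 : Q := act 4 n9778
theorem D11301 : act 4 n9778 = n11301 := rfl
theorem F15677 : act 0 n11301 = n9779 := d3_1 D11301 (iv D9779) D9778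
theorem F15678 : act 2 n11301 = n9803 := d8_1 D11301 (iv D9803) (iv D7211) (iv F7169) D9761 (iv F11951) (iv F11993)
def n11302 : Q := act 4 n9780
theorem D11302 : act 4 n9780 = n11302 := rfl
theorem F15679 : act 0 n11302 = n9783 := d3_1 D11302 (iv D9783) D9780
theorem F15680 : act 2 n11302 = n10690 := d11_2 (iv F12114) D11302 F14086 F12706 (iv D9504) D9503 (iv F12112)
theorem F15681 : act 3 n10689 = n11302 := d7_0 F15680 (iv D10690) D10689
def n11303 : Q := act 1 n9786
theorem D11303 : act 1 n9786 = n11303 := rfl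
theorem F15682 : act 0 n11303 = n10087 := d0_1 D11303 F12694 (iv D9960) (iv D7455) D7454 (iv F7597) (iv F12006)
theorem F15683 : act 2 n11303 = n10880 := d4_2 D9786 D11303 (iv D10880) (iv D8934) (iv F8497) (iv D7959) (iv F7213)
theorem F15684 : act 3 n11303 = n9802 := d5_2 (iv F12005) D11303 (iv D9802)
theorem F15685 : act 4 n10085 = n11303 := d17_0 (iv D11303) (iv D9786) (iv D7197) (iv F7210) (iv F11997) (iv F11999) (iv F8448) F8449 (iv F8401) (iv F12690) (iv D10086) D10085
def n11304 : Q := act 4 n9786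
theorem D11304 : act 4 n9786 = n11304 := rfl
theorem F15686 : act 0 n11304 = n9827 := d3_1 D11304 F12071 (iv F12006)
theorem F15687 : act 1 n11304 = n10085 := d6_1 D11304 F15685 (iv D11303)
theorem F15688 : act 3 n11304 = n9789 := d12_2 (iv F12005) D11304 F12009 (iv D7246) (iv D4346) D4345 (iv F7228)
def n11305 : Q := act 0 n9787
theorem D11305 : act 0 n9787 = n11305 := rfl
theorem F15689 : act 4 n11305 = n10949 := d3_2 (iv F14279) D11305 F14727
def n11306 : Q := act 3 n9787
theorem D11306 : act 3 n9787 = n11306 := rfl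
theorem F15690 : act 1 n11306 = n9788 := d5_1 D11306 (iv D9788) D9787
theorem F15691 : act 2 n11306 = n10878 := d7_1 D11306 F14537 F14280
theorem F15692 : act 0 n11306 = n10069 := d12_3 (iv F14277) (iv F14279) D11306 F13021 (iv D10234) F8257 D10085
theorem F15693 : act 4 n10066 = n11306 := d3_0 F15692 (iv D10069) D10066
def n11307 : Q := act 4 n9788
theorem D11307 : act 4 n9788 = n11307 := rfl
theorem F15694 : act 0 n11307 = n9826 := d3_1 D11307 (iv D9826) (iv F12007)
theorem F15695 : act 1 n11307 = n10066 := d6_1 D11307 F15693 F15690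
theorem F15696 : act 3 n11307 = n9803 := d9_1 D11307 (iv D9803) (iv F12005) D11304 F15688 (iv D9789) D9788
def n11308 : Q := act 4 n9790
theorem D11308 : act 4 n9790 = n11308 := rfl
theorem F15697 : act 0 n11308 = n11089 := d3_1 D11308 (iv D11089) F12363
theorem F15698 : act 1 n11308 = n9792 := d6_1 D11308 (iv D9792) D9790
def n11309 : Q := act 4 n9791
theorem D11309 : act 4 n9791 = n11309 := rfl
theorem F15699 : act 0 n11309 = n9824 := d3_1 D11309 (iv D9824) (iv F12010)
theorem F15700 : act 2 n11309 = n11199 := d8_1 D11309 F15388 F12780 F11989 D9972 (iv F15674) F15673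
theorem F15701 : act 3 n11309 = n9801 := d12_2 D9791 D11309 F12024 (iv F11957) (iv D9764) F7170 D7200
def n11310 : Q := act 3 n9792
theorem D11310 : act 3 n9792 = n11310 := rfl
theorem F15702 : act 0 n11310 = n9819 := d2_1 D11310 F12058 (iv F10422) (iv D8978) (iv F5559) (iv F11954) (iv F12011)
theorem F15703 : act 2 n11310 = n11206 := d7_1 D11310 F15408 F14360
theorem F15704 : act 4 n11310 = n9800 := d9_2 D9792 D11310 (iv D9800) D9801 (iv F15701) (iv D11309) (iv D9791)
def n11311 : Q := act 1 n9793
theorem D11311 : act 1 n9793 = n11311 := rfl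
theorem F15705 : act 0 n11311 = n11088 := d0_1 D11311 (iv D11088) F12363 (iv D9790) (iv D7200) D7201 D9793
theorem F15706 : act 3 n11129 = n11311 := d16_2 (iv F11222) D11129 (iv D11311) F12012 D11311 F15705 F15114 (iv F15259) F15256 F12189 F12059 (iv D9451)
def n11312 : Q := act 3 n9793
theorem D11312 : act 3 n9793 = n11312 := rfl
theorem F15707 : act 0 n11312 = n11281 := d2_1 D11312 (iv D11281) D11280 (iv F15659) (iv D11295) F11956 D9793
theorem F15708 : act 1 n11312 = n11129 := d5_1 D11312 F15706 (iv D11311)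
theorem F15709 : act 2 n11312 = n11312 := d7_1 D11312 (iv D11312) F12012
def n11313 : Q := act 1 n9796
theorem D11313 : act 1 n9796 = n11313 := rfl
theorem F15710 : act 0 n11313 = n11093 := d0_1 D11313 F15124 F12367 (iv D9798) (iv D7207) (iv F7223) D9796
theorem F15711 : act 3 n11131 = n11313 := d16_2 D9394 D11131 (iv D11313) F12019 D11313 F15710 (iv D11093) D11092 F15120 (iv F12073) F12072 (iv D9393)
def n11314 : Q := act 3 n9796
theorem D11314 : act 3 n9796 = n11314 := rfl
theorem F15712 : act 0 n11314 = n11279 := d2_1 D11314 F15607 (iv F12018) (iv D9795) (iv D7204) D7205 D9796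
theorem F15713 : act 1 n11314 = n11131 := d5_1 D11314 F15711 (iv D11313)
theorem F15714 : act 2 n11314 = n11314 := d7_1 D11314 (iv D11314) F12019
def n11315 : Q := act 4 n9798
theorem D11315 : act 4 n9798 = n11315 := rfl
theorem F15715 : act 0 n11315 = n11094 := d3_1 D11315 (iv D11094) F12367
theorem F15716 : act 1 n11315 = n9801 := d6_1 D11315 (iv D9801) D9798
def n11316 : Q := act 1 n9799
theorem D11316 : act 1 n9799 = n11316 := rfl
theorem F15717 : act 3 n11316 = n11254 := d5_2 F15670 D11316 (iv F15668)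
theorem F15718 : act 4 n11316 = n11171 := d6_2 (iv F12022) D11316 (iv D11171)
theorem F15719 : act 2 n11316 = n11237 := d14_1 D11316 F15499 (iv D10868) (iv F14508) F14509 (iv D10332) F8554 F4047 (iv F7236) F7235 (iv F12021)
theorem F15720 : act 0 n11316 = n11243 := d14_3 (iv D9798) D9799 D11316 F15516 F15517 F13965 (iv D10646) (iv F13694) (iv F15125) F15124 F12367
def n11317 : Q := act 0 n9802
theorem D11317 : act 0 n9802 = n11317 := rfl
theorem F15721 : act 3 n11317 = n10986 := d12_4 F14277 F15685 F15684 D11317 (iv D10986) (iv F14726) F14727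
def n11318 : Q := act 4 n9802
theorem D11318 : act 4 n9802 = n11318 := rfl
theorem F15722 : act 1 n11318 = n9803 := d6_1 D11318 (iv D9803) D9802
theorem F15723 : act 2 n11318 = n10394 := d8_1 D11318 F14354 (iv D10808) F10017 D8789 D10815 F14369
theorem F15724 : act 3 n11318 = n10066 := d9_1 D11318 F15693 (iv D11306) F14279 F14277 F15685 F15684
theorem F15725 : act 0 n10951 = n11318 := d10_7 F15724 (iv D10066) (iv D7620) (iv F7909) D10065 F12645 (iv F14729)
theorem F15726 : act 3 n11305 = n10952 := d12_4 F15724 F15693 (iv D11306) D11305 (iv D10952) D10951 F15725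
theorem F15727 : act 4 n10951 = n11317 := d9_4 (iv F15689) F15726 (iv D10952) D10951 F15721 (iv D10986) (iv F14726)
def n11319 : Q := act 0 n9807
theorem D11319 : act 0 n9807 = n11319 := rfl
theorem F15728 : act 2 n11319 = n10686 := d10_2 F12729 D11319 F14076 (iv D10100) (iv D7664) D7665 D10101
theorem F15729 : act 3 n11319 = n10685 := d12_4 D9782 (iv F12726) F12729 D11319 F14075 F12115 (iv D9780)
def n11320 : Q := act 0 n9811
theorem D11320 : act 0 n9811 = n11320 := rfl
theorem F15730 : act 1 n11320 = n9884 := d0_2 D9811 D11320 F12208 F7472 (iv F7254) (iv D7228) D7227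
theorem F15731 : act 2 n11320 = n10745 := d1_2 (iv F12042) D11320 (iv D10745) F10772 F10769 D9171 F10785
theorem F15732 : act 4 n11320 = n9883 := d3_2 F14900 D11320 (iv F14897)
def n11321 : Q := act 4 n9812
theorem D11321 : act 4 n9812 = n11321 := rfl
theorem F15733 : act 1 n11321 = n10379 := d6_1 D11321 (iv D10379) (iv F12044)
theorem F15734 : act 2 n11321 = n9824 := d8_1 D11321 (iv D9824) F7282 F3273 (iv F4757) (iv F7275) (iv F12045)
theorem F15735 : act 3 n11321 = n9816 := d12_2 D9812 D11321 F12052 (iv F11975) (iv D9769) F7179 D7227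
def n11322 : Q := act 3 n9813
theorem D11322 : act 3 n9813 = n11322 := rfl
theorem F15736 : act 1 n11322 = n10393 := d5_1 D11322 (iv F14899) F14898
theorem F15737 : act 2 n11322 = n9819 := d7_1 D11322 F12058 (iv F12047)
theorem F15738 : act 4 n11322 = n9815 := d9_2 D9813 D11322 (iv D9815) D9816 (iv F15735) (iv D11321) (iv D9812)
def n11323 : Q := act 0 n9818
theorem D11323 : act 0 n9818 = n11323 := rfl
theorem F15739 : act 1 n11323 = n11144 := d0_2 D9818 D11323 F15243 (iv D9954) D9953 F12365 F12023
theorem F15740 : act 3 n11323 = n11143 := d2_2 (iv F12057) D11323 F15241 (iv D9699) D9698 (iv F12074) (iv D9828)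
theorem F15741 : act 2 n11323 = n11143 := d10_2 (iv F12057) D11323 F15241 (iv D9699) D9698 (iv F12073) (iv D9828)
theorem F15742 : act 4 n11323 = n10081 := d17_0 (iv F13145) F13146 F8380 F3980 (iv F3974) (iv F4953) (iv F4955) F3270 D4339 D7237 D9818 D11323
def n11324 : Q := act 4 n9818
theorem D11324 : act 4 n9818 = n11324 := rfl
theorem F15743 : act 0 n11324 = n10081 := d3_1 D11324 (iv F15742) (iv D11323)
theorem F15744 : act 1 n11324 = n9819 := d6_1 D11324 (iv D9819) D9818
theorem F15745 : act 2 n11324 = n10824 := d8_1 D11324 (iv D10824) F10117 D8822 F13324 (iv D10374) (iv F12056)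
theorem F15746 : act 3 n11324 = n9823 := d12_2 (iv F12057) D11324 (iv F14214) F14216 F14025 (iv F12074) (iv D9828)
def n11325 : Q := act 0 n9822
theorem D11325 : act 0 n9822 = n11325 := rfl
theorem F15747 : act 1 n11325 = n11142 := d0_2 (iv F12063) D11325 F15238 (iv D9950) D9949 F12361 F12010
theorem F15748 : act 3 n11325 = n11141 := d2_2 D9822 D11325 F15236 F11828 D9874 F12190 (iv D9820)
theorem F15749 : act 2 n11325 = n11141 := d10_2 D9822 D11325 F15236 F11828 D9874 F12189 (iv D9820)
theorem F15750 : act 4 n11325 = n10078 := d17_0 (iv F13141) (iv D10285) (iv D7883) F3929 (iv F3923) D7877 F8362 F4757 (iv F3273) (iv F7282) (iv F12063) D11325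
def n11326 : Q := act 4 n9822
theorem D11326 : act 4 n9822 = n11326 := rfl
theorem F15751 : act 0 n11326 = n10078 := d3_1 D11326 (iv F15750) (iv D11325)
theorem F15752 : act 1 n11326 = n9824 := d6_1 D11326 (iv D9824) (iv F12063)
theorem F15753 : act 2 n11326 = n10822 := d8_1 D11326 (iv D10822) (iv D8816) D8817 F13313 (iv D10370) (iv F12064)
theorem F15754 : act 3 n11326 = n9830 := d9_1 D11326 (iv D9830) (iv F12057) D11324 F15746 (iv D9823) D9822
def n11327 : Q := act 1 n9831
theorem D11327 : act 1 n9831 = n11327 := rfl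
theorem F15755 : act 0 n11327 = n9842 := d0_1 D11327 F12116 (iv F13999) (iv D10658) (iv F9849) (iv F9850) (iv F12080)
theorem F15756 : act 2 n11327 = n10251 := d4_2 D9831 D11327 F13058 F9296 F6140 F5638 (iv F7291)
theorem F15757 : act 3 n11327 = n9872 := d5_2 (iv F12081) D11327 (iv D9872)
def n11328 : Q := act 0 n9833
theorem D11328 : act 0 n9833 = n11328 := rfl
theorem F15758 : act 4 n11328 = n10193 := d3_2 (iv F12086) D11328 (iv D10193)
def n11329 : Q := act 1 n9834
theorem D11329 : act 1 n9834 = n11329 := rfl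
theorem F15759 : act 4 n11329 = n10282 := d6_2 F13716 D11329 (iv F13718)
theorem F15760 : act 2 n11329 = n10918 := d15_6 F5799 F3309 D4377 D7262 D9834 D11329 (iv D10918) (iv D9012) (iv D6249) F2547 D3568 D6351
theorem F15761 : act 3 n11278 = n11329 := d7_0 F15760 F14649 (iv F15605)
def n11330 : Q := act 3 n9834
theorem D11330 : act 3 n9834 = n11330 := rfl
theorem F15762 : act 1 n11330 = n11278 := d5_1 D11330 F15761 (iv D11329)
theorem F15763 : act 2 n11330 = n10928 := d7_1 D11330 (iv D10928) (iv F12092)
theorem F15764 : act 4 n11330 = n11277 := d12_1 D11330 F15603 F13830 (iv F13702) F13703 F11935 D9834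
theorem F15765 : act 0 n11330 = n11227 := d16_8 D8982 F10433 F7144 F3304 D4377 D7262 D9834 D11330 (iv D11227) (iv D9625) F8901 F8900
def n11331 : Q := act 0 n9836
theorem D11331 : act 0 n9836 = n11331 := rfl
theorem F15766 : act 2 n11331 = n10346 := d1_2 (iv F12094) D11331 F13267 F8576 D9028 D10931 F14680
theorem F15767 : act 4 n11331 = n10347 := d3_2 F12095 D11331 (iv D10347)
theorem F15768 : act 1 n11331 = n11226 := d15_5 F14360 F12011 (iv F11991) (iv F12093) D11331 (iv D11226) (iv F15466) F15468 F14239 F9942 (iv F10042) (iv F14359)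
theorem F15769 : act 3 n11331 = n11257 := d16_2 D9836 D11331 (iv D11257) F11805 F10444 F8915 (iv D6221) F2529 F1322 D2161 D4379 D7263
def n11332 : Q := act 1 n9838
theorem D11332 : act 1 n9838 = n11332 := rfl
theorem F15770 : act 4 n11332 = n10280 := d6_2 F13831 D11332 (iv F13829)
theorem F15771 : act 2 n11332 = n10948 := d15_6 F5808 (iv D4381) (iv F3310) (iv F7314) D9838 D11332 (iv D10948) (iv D9046) (iv D6273) F2561 (iv F2635) D6355
theorem F15772 : act 3 n11276 = n11332 := d7_0 F15771 F14725 (iv F15601)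
def n11333 : Q := act 3 n9838
theorem D11333 : act 3 n9838 = n11333 := rfl
theorem F15773 : act 0 n11333 = n11257 := d2_1 D11333 (iv F15769) (iv D11331) (iv D9836) (iv D7263) D7265 D9838
theorem F15774 : act 1 n11333 = n11276 := d5_1 D11333 F15772 (iv D11332)
theorem F15775 : act 2 n11333 = n10932 := d7_1 D11333 (iv D10932) (iv F12101)
theorem F15776 : act 4 n11333 = n11275 := d9_2 F13831 D11333 F15599 F13716 D11330 F15764 F15603
def n11334 : Q := act 0 n9840
theorem D11334 : act 0 n9840 = n11334 := rfl
theorem F15777 : act 4 n11334 = n10143 := d3_2 F12104 D11334 (iv D10143)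
def n11335 : Q := act 4 n9843
theorem D11335 : act 4 n9843 = n11335 := rfl
theorem F15778 : act 0 n11335 = n11166 := d3_1 D11335 (iv D11166) (iv F12112)
theorem F15779 : act 1 n11335 = n10700 := d6_1 D11335 (iv D10700) (iv F12113)
theorem F15780 : act 2 n11335 = n10779 := d8_1 D11335 (iv D10779) (iv F14050) (iv F14088) (iv F15680) (iv D11302) F12114
theorem F15781 : act 3 n11335 = n9855 := d12_2 D9843 D11335 (iv D9855) F7357 (iv D5029) F3314 D7270
def n11336 : Q := act 3 n9844
theorem D11336 : act 3 n9844 = n11336 := rfl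
theorem F15782 : act 0 n11336 = n11172 := d2_1 D11336 F15312 F13189 F8444 F8307 F7320 (iv F12117)
theorem F15783 : act 1 n11336 = n10702 := d5_1 D11336 (iv D10702) (iv F12118)
theorem F15784 : act 2 n11336 = n10804 := d7_1 D11336 F14344 F14043
theorem F15785 : act 4 n11336 = n10268 := d9_2 D9844 D11336 (iv D10268) (iv F12141) (iv F15781) (iv D11335) (iv D9843)
def n11337 : Q := act 3 n9845
theorem D11337 : act 3 n9845 = n11337 := rfl
theorem F15786 : act 0 n11337 = n11165 := d2_1 D11337 (iv F15537) F15536 (iv F12295) F8274 (iv F7321) D9845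
theorem F15787 : act 2 n11337 = n11305 := d7_1 D11337 F15726 F14730
theorem F15788 : act 4 n11337 = n10246 := d12_1 D11337 (iv D10246) (iv D7831) (iv D4913) D4914 (iv F7321) D9845
def n11338 : Q := act 3 n9846
theorem D11338 : act 3 n9846 = n11338 := rfl
theorem F15789 : act 0 n11338 = n10866 := d2_1 D11338 F14507 (iv F12165) (iv F12166) (iv F11415) (iv F15078) F15076
theorem F15790 : act 1 n11338 = n9847 := d5_1 D11338 (iv D9847) D9846
theorem F15791 : act 2 n11338 = n11311 := d7_1 D11338 (iv F15706) F15202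
theorem F15792 : act 4 n11338 = n10695 := d12_1 D11338 F14098 D10712 F14137 F11416 (iv F15078) F15076
def n11339 : Q := act 3 n9848
theorem D11339 : act 3 n9848 = n11339 := rfl
theorem F15793 : act 0 n11339 = n10485 := d2_1 D11339 F13566 F8978 (iv F8963) F11943 F11941 D9848
theorem F15794 : act 2 n11339 = n11339 := d7_1 D11339 (iv D11339) F12122
theorem F15795 : act 4 n11339 = n10484 := d12_1 D11339 F13564 (iv D9095) (iv F8961) (iv F11942) F11941 D9848
def n11340 : Q := act 3 n9849
theorem D11340 : act 3 n9849 = n11340 := rfl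
theorem F15796 : act 0 n11340 = n10486 := d2_1 D11340 (iv D10486) F8957 F4447 F3327 D7280 D9849
theorem F15797 : act 2 n11340 = n11340 := d7_1 D11340 (iv D11340) F12124
theorem F15798 : act 4 n11340 = n10490 := d9_2 (iv F12125) D11340 (iv D10490) (iv F12123) D11339 F15795 F13564
def n11341 : Q := act 3 n9850
theorem D11341 : act 3 n9850 = n11341 := rfl
theorem F15799 : act 0 n11341 = n10867 := d2_1 D11341 (iv D10867) (iv F11912) F11913 (iv F11117) D11074 (iv F15083)
theorem F15800 : act 1 n11341 = n9851 := d5_1 D11341 (iv D9851) D9850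
theorem F15801 : act 2 n11341 = n11313 := d7_1 D11341 (iv F15711) F15208
theorem F15802 : act 4 n11341 = n10697 := d9_2 (iv F12126) D11341 (iv D10697) (iv F12120) D11338 F15792 F14098
def n11342 : Q := act 3 n9852
theorem D11342 : act 3 n9852 = n11342 := rfl
theorem F15803 : act 0 n11342 = n11175 := d2_1 D11342 (iv F15546) F15545 (iv F12300) F8846 (iv F7343) D9852
theorem F15804 : act 2 n11342 = n11317 := d7_1 D11342 F15721 F14834
theorem F15805 : act 4 n11342 = n10244 := d9_2 (iv F12128) D11342 (iv D10244) (iv F12119) D11337 F15788 (iv D10246)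
def n11343 : Q := act 0 n9856
theorem D11343 : act 0 n9856 = n11343 := rfl
theorem F15806 : act 2 n11343 = n10741 := d1_2 D9856 D11343 F14200 (iv F12147) (iv D9858) (iv D7297) (iv F7361)
theorem F15807 : act 4 n11343 = n11027 := d3_2 (iv F12142) D11343 (iv D11027)
def n11344 : Q := act 3 n9863
theorem D11344 : act 3 n9863 = n11344 := rfl
theorem F15808 : act 0 n11344 = n11249 := d2_1 D11344 (iv D11249) (iv F14890) F14892 F13339 F11893 D9863
theorem F15809 : act 1 n11344 = n10309 := d5_1 D11344 F13204 F12184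
theorem F15810 : act 2 n11344 = n11008 := d7_1 D11344 F14896 F14212
theorem F15811 : act 4 n11344 = n10308 := d9_2 (iv F12159) D11344 F13202 (iv F11895) D11286 F15630 F13103
def n11345 : Q := act 4 n9878
theorem D11345 : act 4 n9878 = n11345 := rfl
theorem F15812 : act 0 n11345 = n9879 := d3_1 D11345 (iv D9879) D9878
theorem F15813 : act 1 n11345 = n10512 := d6_1 D11345 (iv F13731) F13730
theorem F15814 : act 2 n11345 = n10342 := d8_1 D11345 (iv D10342) (iv F10020) (iv F10021) (iv D8688) F8538 (iv F12196)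
theorem F15815 : act 3 n11345 = n10333 := d9_1 D11345 (iv D10333) F8555 D8486 (iv F13232) (iv D10324) (iv F12197)
def n11346 : Q := act 4 n9888
theorem D11346 : act 4 n9888 = n11346 := rfl
theorem F15816 : act 0 n11346 = n10063 := d3_1 D11346 (iv D10063) (iv F12218)
theorem F15817 : act 1 n11346 = n9890 := d6_1 D11346 (iv D9890) (iv F12216)
theorem F15818 : act 2 n11346 = n10036 := d8_1 D11346 (iv D10036) (iv F12558) (iv F14400) F14398 (iv F10283) (iv F12217)
theorem F15819 : act 3 n11346 = n9889 := d9_1 D11346 (iv D9889) (iv D7372) (iv D4526) D4525 D7371 D9888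
def n11347 : Q := act 4 n9900
theorem D11347 : act 4 n9900 = n11347 := rfl
theorem F15820 : act 0 n11347 = n9913 := d3_1 D11347 (iv D9913) (iv F12248)
theorem F15821 : act 1 n11347 = n10349 := d6_1 D11347 (iv F15649) F15647
theorem F15822 : act 2 n11347 = n9906 := d8_1 D11347 (iv D9906) F7514 D7395 (iv F12255) (iv D9902) (iv F12247)
theorem F15823 : act 3 n11347 = n9903 := d9_1 D11347 (iv D9903) (iv D7388) D7389 (iv F12252) (iv D9901) D9900
def n11348 : Q := act 3 n9911
theorem D11348 : act 3 n9911 = n11348 := rfl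
theorem F15824 : act 4 n11348 = n10150 := d12_1 D11348 F12851 (iv D7759) (iv F8130) (iv F12282) (iv D9912) D9911
theorem F15825 : act 0 n11348 = n10151 := d12_3 (iv D10168) (iv F12280) D11348 (iv F12854) (iv D7757) D7756 (iv F12882)
def n11349 : Q := act 0 n9912
theorem D11349 : act 0 n9912 = n11349 := rfl
theorem F15826 : act 1 n11349 = n10351 := d0_2 (iv F12281) D11349 F13279 (iv F13272) (iv F15646) F15647 F12248
theorem F15827 : act 3 n11349 = n10170 := d2_2 D9912 D11349 F12887 F12854 (iv F15825) (iv D11348) (iv D9911)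
theorem F15828 : act 4 n11349 = n10147 := d3_2 (iv F12282) D11349 F12844
def n11350 : Q := act 3 n9915
theorem D11350 : act 3 n9915 = n11350 := rfl
theorem F15829 : act 0 n11350 = n10153 := d2_1 D11350 (iv D10153) (iv F12287) (iv D9914) (iv D7406) D7407 D9915
theorem F15830 : act 4 n11350 = n10168 := d9_2 (iv F12289) D11350 (iv D10168) (iv F12280) D11348 F15824 F12851
def n11351 : Q := act 4 n9924
theorem D11351 : act 4 n9924 = n11351 := rfl
theorem F15831 : act 0 n11351 = n9926 := d3_1 D11351 (iv D9926) D9924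
theorem F15832 : act 2 n11351 = n10555 := d8_1 D11351 (iv D10555) (iv D8321) (iv D5442) (iv F4068) D8036 (iv F12304)
theorem F15833 : act 3 n11351 = n11179 := d12_2 (iv F15170) D11351 F15325 F13796 (iv D10571) (iv F12342) (iv F15168)
def n11352 : Q := act 0 n9925
theorem D11352 : act 0 n9925 = n11352 := rfl
theorem F15834 : act 2 n11352 = n10369 := d1_2 (iv F12305) D11352 (iv D10369) (iv F12064) D11325 F15749 F15236
theorem F15835 : act 3 n11352 = n10369 := d2_2 (iv F12306) D11352 (iv D10369) F12062 (iv F13628) F13631 F12192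
def n11353 : Q := act 4 n9927
theorem D11353 : act 4 n9927 = n11353 := rfl
theorem F15836 : act 0 n11353 = n10442 := d3_1 D11353 (iv D10442) (iv F12311)
theorem F15837 : act 1 n11353 = n11348 := d6_1 D11353 F15824 F12852
theorem F15838 : act 2 n11353 = n9933 := d8_1 D11353 (iv D9933) (iv D7434) (iv D4579) (iv F3532) D7430 D9927
theorem F15839 : act 3 n11353 = n9929 := d12_2 (iv F12312) D11353 F12315 F12309 (iv D5447) D5446 D8331
def n11354 : Q := act 4 n9928
theorem D11354 : act 4 n9928 = n11354 := rfl
theorem F15840 : act 0 n11354 = n10446 := d3_1 D11354 (iv D10446) (iv F12313)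
theorem F15841 : act 1 n11354 = n11350 := d6_1 D11354 F15830 F12883
theorem F15842 : act 2 n11354 = n9939 := d8_1 D11354 (iv D9939) F7574 D7440 F12320 (iv D9930) (iv F12314)
theorem F15843 : act 3 n11354 = n9963 := d9_1 D11354 F12384 (iv F12312) D11353 F15839 (iv D9929) D9928
def n11355 : Q := act 2 n9942
theorem D11355 : act 2 n9942 = n11355 := rfl
theorem F15844 : act 0 n11355 = n9944 := d1_1 D11355 (iv D9944) F7584 D7704 (iv F12793) (iv D10121) (iv F12347)
theorem F15845 : act 3 n11355 = n10598 := d7_2 (iv F12349) D11355 (iv D10598)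
def n11356 : Q := act 4 n9943
theorem D11356 : act 4 n9943 = n11356 := rfl
theorem F15846 : act 0 n11356 = n10122 := d3_1 D11356 (iv D10122) (iv F12350)
theorem F15847 : act 1 n11356 = n10257 := d6_1 D11356 (iv D10257) (iv F12351)
theorem F15848 : act 3 n11356 = n10600 := d12_2 (iv F12352) D11356 F13863 F9297 (iv D5495) D5494 D8390
def n11357 : Q := act 4 n9944
theorem D11357 : act 4 n9944 = n11357 := rfl
theorem F15849 : act 1 n11357 = n10833 := d6_1 D11357 F14417 F12871
theorem F15850 : act 2 n11357 = n9945 := d8_1 D11357 (iv D9945) (iv D7444) (iv D4584) D4583 D7443 D9944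
theorem F15851 : act 3 n11357 = n11055 := d12_2 (iv F12353) D11357 F15032 (iv F11062) (iv D6588) D6587 D9298
def n11358 : Q := act 1 n9948
theorem D11358 : act 1 n9948 = n11358 := rfl
theorem F15852 : act 2 n11358 = n11252 := d4_2 D9948 D11358 (iv D11252) (iv D9658) F6872 (iv F8218) F8217
theorem F15853 : act 4 n10064 = n11358 := d8_0 F15852 F15538 (iv D9969) (iv D7461) (iv F3738) D7618 D10064
def n11359 : Q := act 4 n9948
theorem D11359 : act 4 n9948 = n11359 := rfl
theorem F15854 : act 1 n11359 = n10064 := d6_1 D11359 F15853 (iv D11358)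
def n11360 : Q := act 2 n9949
theorem D11360 : act 2 n9949 = n11360 := rfl
theorem F15855 : act 1 n11360 = n10875 := d4_1 D11360 F14530 (iv F12360) (iv F15527) (iv F15672) F15673 (iv F12361)
theorem F15856 : act 3 n11360 = n10785 := d7_2 F12362 D11360 F14307
theorem F15857 : act 4 n11360 = n10800 := d11_1 D11360 F14336 (iv F11289) (iv D9417) F6334 D7449 D9949
def n11361 : Q := act 4 n9949
theorem D11361 : act 4 n9949 = n11361 := rfl
theorem F15858 : act 0 n11361 = n9951 := d3_1 D11361 (iv D9951) D9949
theorem F15859 : act 1 n11361 = n11309 := d6_1 D11361 (iv D11309) (iv F12361)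
theorem F15860 : act 3 n11361 = n11315 := d12_2 F12362 D11361 F15715 F15299 (iv D9462) (iv F11151) F12363
theorem F15861 : act 2 n11361 = n10400 := d17_4 D10875 (iv F15855) (iv D11360) D11361 (iv D10400) (iv D8097) F8621 (iv D6729) (iv D3895) (iv F2924) (iv F5481) (iv F10298)
theorem F15862 : act 3 n11123 = n9951 := d12_6 F15860 (iv D11315) F12366 (iv D9953) (iv F11186) D11123 (iv F15858)
theorem F15863 : act 3 n11116 = n9955 := d9_5 D11123 F15862 (iv D9951) (iv F11183) D11116 (iv D9955) (iv F11186)
def n11362 : Q := act 4 n9950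
theorem D11362 : act 4 n9950 = n11362 := rfl
theorem F15864 : act 0 n11362 = n10285 := d3_1 D11362 (iv F15240) F15238
theorem F15865 : act 1 n11362 = n9951 := d6_1 D11362 (iv D9951) D9950
theorem F15866 : act 2 n11362 = n9973 := d8_1 D11362 (iv D9973) (iv D7470) D7471 D9974 (iv F12414) (iv F12364)
theorem F15867 : act 3 n11362 = n10298 := d12_2 F13710 D11362 (iv D10298) (iv F13169) (iv F15224) F15225 (iv F13708)
def n11363 : Q := act 2 n9951
theorem D11363 : act 2 n9951 = n11363 := rfl
theorem F15868 : act 1 n11363 = n11137 := d4_1 D11363 F15226 F12862 (iv D9993) (iv F12409) (iv F15866) F15865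
def n11364 : Q := act 1 n9952
theorem D11364 : act 1 n9952 = n11364 := rfl
theorem F15869 : act 2 n11364 = n11255 := d4_2 D9952 D11364 (iv D11255) (iv D9669) (iv F6876) D7956 F8491
theorem F15870 : act 4 n10083 = n11364 := d8_0 F15869 (iv F15547) (iv D10233) (iv F12509) F12688 (iv D10084) D10083
def n11365 : Q := act 4 n9952
theorem D11365 : act 4 n9952 = n11365 := rfl
theorem F15871 : act 1 n11365 = n10083 := d6_1 D11365 F15870 (iv D11364)
def n11366 : Q := act 2 n9953
theorem D11366 : act 2 n9953 = n11366 := rfl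
theorem F15872 : act 1 n11366 = n10879 := d4_1 D11366 (iv D10879) (iv F12391) D11254 (iv F15668) F15669 (iv F12365)
theorem F15873 : act 3 n11366 = n10801 := d7_2 F12366 D11366 F14337
theorem F15874 : act 4 n11366 = n10784 := d11_1 D11366 F14306 (iv F11180) F11181 (iv F6242) D7451 D9953
def n11367 : Q := act 4 n9953
theorem D11367 : act 4 n9953 = n11367 := rfl
theorem F15875 : act 0 n11367 = n9955 := d3_1 D11367 (iv D9955) D9953
theorem F15876 : act 1 n11367 = n11310 := d6_1 D11367 F15704 (iv F12365)
theorem F15877 : act 3 n11367 = n11308 := d9_1 D11367 (iv D11308) F12362 D11361 F15860 (iv D11315) F12366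
theorem F15878 : act 2 n11367 = n10404 := d17_4 (iv F14540) (iv F15872) (iv D11366) D11367 (iv D10404) (iv D8101) (iv F6405) F6406 (iv F6306) (iv F11270) F11269 D10431
def n11368 : Q := act 4 n9954
theorem D11368 : act 4 n9954 = n11368 := rfl
theorem F15879 : act 0 n11368 = n10287 := d3_1 D11368 (iv F15245) F15243
theorem F15880 : act 1 n11368 = n9955 := d6_1 D11368 (iv D9955) D9954
theorem F15881 : act 2 n11368 = n10015 := d8_1 D11368 (iv D10015) (iv D7537) D7538 (iv F9135) F12238 (iv F12368)
theorem F15882 : act 3 n11368 = n10299 := d9_1 D11368 (iv F13711) F13710 D11362 F15867 (iv F13715) F13714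
def n11369 : Q := act 2 n9955
theorem D11369 : act 2 n9955 = n11369 := rfl
theorem F15883 : act 1 n11369 = n11138 := d4_1 D11369 F15228 F12898 (iv D10020) (iv F12512) (iv F15881) F15880
def n11370 : Q := act 4 n9956
theorem D11370 : act 4 n9956 = n11370 := rfl
theorem F15884 : act 0 n11370 = n9958 := d3_1 D11370 (iv D9958) D9956
theorem F15885 : act 2 n11370 = n10567 := d8_1 D11370 (iv D10567) (iv D8334) D8335 (iv F13326) (iv D10375) (iv F12369)
theorem F15886 : act 3 n11370 = n11186 := d9_1 D11370 F15340 (iv F15170) D11351 F15833 (iv D11179) (iv F12370)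
def n11371 : Q := act 0 n9957
theorem D11371 : act 0 n9957 = n11371 := rfl
theorem F15887 : act 2 n11371 = n10373 := d1_2 (iv F12371) D11371 (iv D10373) (iv F12056) D11323 F15741 F15241
theorem F15888 : act 3 n11371 = n10373 := d2_2 (iv F12372) D11371 (iv D10373) (iv F12076) (iv F13632) (iv F13635) (iv F9179)
def n11372 : Q := act 2 n9967
theorem D11372 : act 2 n9967 = n11372 := rfl
theorem F15889 : act 0 n11372 = n10208 := d1_1 D11372 (iv D10208) (iv D7786) D7787 (iv F12395) (iv D9968) D9967
theorem F15890 : act 1 n11372 = n10321 := d4_1 D11372 (iv F14999) (iv D11042) (iv D9250) (iv F8492) (iv F13219) F13218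
theorem F15891 : act 3 n11372 = n10599 := d7_2 (iv F12392) D11372 F13862
theorem F15892 : act 4 n10595 = n11372 := d9_0 F15891 (iv D10599) (iv F12349) (iv D9942) F7581 D8380 D10595
def n11373 : Q := act 2 n9988
theorem D11373 : act 2 n9988 = n11373 := rfl
theorem F15893 : act 3 n11373 = n9993 := d7_2 (iv F12448) D11373 (iv D9993)
theorem F15894 : act 4 n11373 = n10049 := d8_2 D9988 D11373 (iv D10049) (iv F10876) F10877 (iv D7488) D7487
theorem F15895 : act 1 n11373 = n11182 := d16_5 (iv F8400) (iv F12408) F12410 (iv F12447) D11373 F15332 F12870 F8146 F7716 (iv D7522) F3643 (iv F3970)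
def n11374 : Q := act 4 n9989
theorem D11374 : act 4 n9989 = n11374 := rfl
theorem F15896 : act 0 n11374 = n9990 := d3_1 D11374 (iv D9990) D9989
theorem F15897 : act 1 n11374 = n10122 := d6_1 D11374 (iv D10122) (iv F12449)
theorem F15898 : act 2 n11374 = n11289 := d11_2 (iv F12450) D11374 (iv D11289) (iv D9753) (iv D7142) (iv F7074) D9752
theorem F15899 : act 3 n11061 = n11374 := d7_0 F15898 F15639 F15331
def n11375 : Q := act 2 n9990
theorem D11375 : act 2 n9990 = n11375 := rfl
theorem F15900 : act 0 n11375 = n9993 := d1_1 D11375 (iv D9993) F7660 D9753 D11289 (iv F15898) F15896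
theorem F15901 : act 1 n11375 = n11203 := d4_1 D11375 (iv D11203) (iv D9558) (iv D6921) (iv F6739) D9550 (iv F12452)
theorem F15902 : act 3 n11375 = n11343 := d7_2 F14202 D11375 F15806
def n11376 : Q := act 4 n9991
theorem D11376 : act 4 n9991 = n11376 := rfl
theorem F15903 : act 1 n11376 = n10725 := d6_1 D11376 F14166 (iv F12453)
theorem F15904 : act 3 n11376 = n10724 := d12_2 (iv F12454) D11376 F14162 (iv F13286) F13287 (iv D8938) D8937
def n11377 : Q := act 2 n9992
theorem D11377 : act 2 n9992 = n11377 := rfl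
theorem F15905 : act 3 n11377 = n10020 := d7_2 (iv F12457) D11377 (iv D10020)
theorem F15906 : act 4 n11377 = n10062 := d8_2 D9992 D11377 (iv D10062) F10862 F10861 (iv D7496) (iv F7659)
theorem F15907 : act 1 n11377 = n11183 := d16_5 D7898 (iv F12511) F12513 (iv F12456) D11377 F15334 (iv D10162) F8127 F7692 (iv D7511) F3625 (iv F3934)
def n11378 : Q := act 4 n10011
theorem D11378 : act 4 n10011 = n11378 := rfl
theorem F15908 : act 0 n11378 = n10312 := d3_1 D11378 (iv D10312) (iv F12499)
theorem F15909 : act 1 n11378 = n10315 := d6_1 D11378 (iv D10315) (iv F12500)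
theorem F15910 : act 3 n11378 = n10601 := d9_1 D11378 (iv D10601) (iv F12352) D11356 F15848 (iv D10600) (iv F12501)
def n11379 : Q := act 2 n10012
theorem D11379 : act 2 n10012 = n11379 := rfl
theorem F15911 : act 1 n11379 = n10837 := d4_1 D11379 F14427 (iv F12386) (iv D9963) (iv F12382) (iv F13150) F13147
theorem F15912 : act 3 n11379 = n11057 := d7_2 (iv F12503) D11379 F15037
theorem F15913 : act 4 n11379 = n10915 := d8_2 D10012 D11379 (iv D10915) F12396 (iv D9968) F7599 D7532
def n11380 : Q := act 4 n10017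
theorem D11380 : act 4 n10017 = n11380 := rfl
theorem F15914 : act 0 n11380 = n10018 := d3_1 D11380 (iv D10018) D10017
theorem F15915 : act 1 n11380 = n10312 := d6_1 D11380 (iv D10312) (iv F12518)
theorem F15916 : act 3 n11380 = n11062 := d9_1 D11380 (iv D11062) (iv F12451) D11374 (iv F15899) (iv D11061) (iv F12520)
theorem F15917 : act 2 n11380 = n11290 := d11_2 (iv F12519) D11380 (iv D11290) F11933 F7083 (iv F7366) D9857
def n11381 : Q := act 2 n10018
theorem D11381 : act 2 n10018 = n11381 := rfl
theorem F15918 : act 0 n11381 = n10020 := d1_1 D11381 (iv D10020) F7759 (iv F11933) D11290 (iv F15917) F15914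
theorem F15919 : act 1 n11381 = n11204 := d4_1 D11381 F15403 F11583 F6748 (iv F6742) (iv F11564) (iv F12521)
theorem F15920 : act 3 n11381 = n11197 := d7_2 F12522 D11381 (iv D11197)
def n11382 : Q := act 4 n10019
theorem D11382 : act 4 n10019 = n11382 := rfl
theorem F15921 : act 1 n11382 = n10743 := d6_1 D11382 F14207 (iv F12523)
theorem F15922 : act 3 n11382 = n10742 := d9_1 D11382 F14204 (iv F12454) D11376 F15904 F14163 (iv F12524)
def n11383 : Q := act 0 n10021
theorem D11383 : act 0 n10021 = n11383 := rfl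
theorem F15923 : act 1 n11383 = n10208 := d0_2 F13678 D11383 (iv F15889) F15890 (iv D10321) D10322 (iv F13675)
theorem F15924 : act 2 n11383 = n10998 := d1_2 D10021 D11383 F14864 F10707 F9875 (iv D7545) D7544
theorem F15925 : act 4 n11383 = n11000 := d3_2 (iv F13679) D11383 F14868
theorem F15926 : act 3 n11383 = n11058 := d10_4 F7645 D7544 D10021 D11383 F15038 F13508 F12444
def n11384 : Q := act 3 n10022
theorem D11384 : act 3 n10022 = n11384 := rfl
theorem F15927 : act 0 n11384 = n10483 := d2_1 D11384 (iv D10483) (iv F13552) F13553 F12805 (iv F12430) (iv F12525)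
theorem F15928 : act 1 n11384 = n10023 := d5_1 D11384 (iv D10023) D10022
theorem F15929 : act 2 n11384 = n10729 := d7_1 D11384 F14173 (iv F12526)
theorem F15930 : act 4 n11384 = n10335 := d12_1 D11384 F13251 (iv F12427) (iv D9979) D9980 (iv F12430) (iv F12525)
def n11385 : Q := act 3 n10024
theorem D11385 : act 3 n10024 = n11385 := rfl
theorem F15931 : act 0 n11385 = n10695 := d2_1 D11385 F14098 D10712 F14137 (iv D8693) (iv F9629) (iv F12530)
theorem F15932 : act 1 n11385 = n10026 := d5_1 D11385 (iv D10026) D10024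
theorem F15933 : act 2 n11385 = n10538 := d7_1 D11385 (iv D10538) (iv F12532)
theorem F15934 : act 4 n11385 = n10866 := d12_1 D11385 F14507 (iv F12165) (iv F12166) (iv D8695) (iv F9629) (iv F12530)
def n11386 : Q := act 3 n10025
theorem D11386 : act 3 n10025 = n11386 := rfl
theorem F15935 : act 1 n11386 = n10617 := d5_1 D11386 (iv D10617) (iv F12534)
theorem F15936 : act 2 n11386 = n10026 := d7_1 D11386 (iv D10026) D10025
theorem F15937 : act 4 n11386 = n10862 := d12_1 D11386 F14496 (iv D8942) (iv F10279) (iv F13570) F13569 (iv F12533)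
def n11387 : Q := act 2 n10027
theorem D11387 : act 2 n10027 = n11387 := rfl
theorem F15938 : act 0 n11387 = n10489 := d1_1 D11387 (iv D10489) F8966 (iv D8133) F4173 (iv F7776) D10027
theorem F15939 : act 1 n11387 = n10164 := d4_1 D11387 (iv D10164) D10163 F12874 (iv F13704) F13705 F13170
theorem F15940 : act 3 n11387 = n10876 := d7_2 (iv F12538) D11387 F14532
theorem F15941 : act 4 n11387 = n10873 := d8_2 (iv F12537) D11387 F14523 (iv D8917) (iv D6140) D6142 D8918
def n11388 : Q := act 3 n10029
theorem D11388 : act 3 n10029 = n11388 := rfl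
theorem F15942 : act 0 n11388 = n10697 := d2_1 D11388 (iv D10697) D10696 F14100 (iv D8573) D8575 (iv F12542)
theorem F15943 : act 1 n11388 = n10031 := d5_1 D11388 (iv D10031) D10029
theorem F15944 : act 2 n11388 = n10548 := d7_1 D11388 (iv D10548) (iv F12544)
theorem F15945 : act 4 n11388 = n10867 := d9_2 (iv F12543) D11388 (iv D10867) (iv F12531) D11385 F15934 F14507
def n11389 : Q := act 3 n10030
theorem D11389 : act 3 n10030 = n11389 := rfl
theorem F15946 : act 1 n11389 = n10637 := d5_1 D11389 (iv D10637) (iv F12546)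
theorem F15947 : act 2 n11389 = n10031 := d7_1 D11389 (iv D10031) D10030
theorem F15948 : act 4 n11389 = n10863 := d9_2 (iv F12547) D11389 (iv D10863) (iv F12535) D11386 F15937 F14496
def n11390 : Q := act 3 n10032
theorem D11390 : act 3 n10032 = n11390 := rfl
theorem F15949 : act 0 n11390 = n10495 := d2_1 D11390 (iv D10495) D10493 (iv F13574) (iv F13741) (iv D10552) (iv F12549)
theorem F15950 : act 1 n11390 = n10033 := d5_1 D11390 (iv D10033) D10032
theorem F15951 : act 2 n11390 = n10386 := d7_1 D11390 F13361 (iv F12550)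
theorem F15952 : act 4 n11390 = n10365 := d9_2 (iv F12551) D11390 F13298 (iv F12527) D11384 F15930 F13251
def n11391 : Q := act 2 n10039
theorem D11391 : act 2 n10039 = n11391 := rfl
theorem F15953 : act 1 n11391 = n10160 := d4_1 D11391 (iv F15031) (iv D11054) F11052 F6158 D7578 D10039
theorem F15954 : act 3 n11391 = n10175 := d7_2 F12573 D11391 F12902
theorem F15955 : act 4 n11391 = n10156 := d8_2 (iv F12572) D11391 F12864 F12469 F7724 (iv F7677) (iv F11001)
def n11392 : Q := act 3 n10043
theorem D11392 : act 3 n10043 = n11392 := rfl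
theorem F15956 : act 1 n11392 = n10294 := d5_1 D11392 F13169 (iv F12584)
theorem F15957 : act 2 n11392 = n10044 := d7_1 D11392 (iv D10044) D10043
theorem F15958 : act 4 n11392 = n11295 := d9_2 F12585 D11392 F15659 F15610 (iv D10045) F7854 D9795
theorem F15959 : act 0 n11392 = n11296 := d10_1 D11392 F15661 F14322 (iv D10465) D10464 (iv F15626) F15624
def n11393 : Q := act 2 n10046
theorem D11393 : act 2 n10046 = n11393 := rfl
theorem F15960 : act 1 n11393 = n10162 := d4_1 D11393 (iv F15035) (iv D11056) F11067 (iv D7588) D7589 D10046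
theorem F15961 : act 3 n11393 = n10157 := d7_2 (iv F12592) D11393 F12866
theorem F15962 : act 4 n11393 = n10174 := d8_2 F12593 D11393 F12900 (iv D9997) F7668 D7503 (iv F11026)
def n11394 : Q := act 0 n10049
theorem D11394 : act 0 n10049 = n11394 := rfl
theorem F15963 : act 2 n11394 = n10487 := d1_2 D10049 D11394 (iv F15055) F15057 D11180 F15329 F11676
def n11395 : Q := act 1 n10050
theorem D11395 : act 1 n10050 = n11395 := rfl
theorem F15964 : act 0 n11395 = n10158 := d0_1 D11395 (iv F13556) (iv D10481) (iv F10978) F10977 (iv F11092) (iv F12603)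
theorem F15965 : act 2 n11395 = n10150 := d4_2 D10050 D11395 F12852 (iv D9927) (iv F7837) F7838 D7594
theorem F15966 : act 4 n11395 = n10158 := d6_2 F13554 D11395 (iv F13556)
theorem F15967 : act 3 n10178 = n11395 := d7_0 F15965 F12851 (iv F12905)
def n11396 : Q := act 3 n10050
theorem D11396 : act 3 n10050 = n11396 := rfl
theorem F15968 : act 1 n11396 = n10178 := d5_1 D11396 F15967 (iv D11395)
theorem F15969 : act 2 n11396 = n10051 := d7_1 D11396 (iv D10051) D10050
theorem F15970 : act 4 n11396 = n10176 := d12_1 D11396 F13584 (iv D10496) (iv F10967) F10968 (iv F11093) (iv F12603)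
def n11397 : Q := act 3 n10055
theorem D11397 : act 3 n10055 = n11397 := rfl
theorem F15971 : act 0 n11397 = n10966 := d2_1 D11397 F14771 F10629 (iv F11946) (iv F12624) (iv D10056) D10055
theorem F15972 : act 1 n11397 = n11234 := d5_1 D11397 F15494 F12621
theorem F15973 : act 2 n11397 = n10488 := d7_1 D11397 (iv D10488) (iv F12619)
theorem F15974 : act 4 n11397 = n11233 := d12_1 D11397 F15487 (iv F12629) F12632 F12625 (iv D10056) D10055
def n11398 : Q := act 3 n10057
theorem D11398 : act 3 n10057 = n11398 := rfl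
theorem F15975 : act 0 n11398 = n10967 := d2_1 D11398 (iv D10967) F10589 (iv F7327) (iv F3721) D7603 D10057
theorem F15976 : act 1 n11398 = n11238 := d5_1 D11398 F15502 F12628
theorem F15977 : act 2 n11398 = n10492 := d7_1 D11398 (iv D10492) (iv F12626)
theorem F15978 : act 4 n11398 = n11236 := d9_2 (iv F12627) D11398 (iv D11236) (iv F12620) D11397 F15974 F15487
def n11399 : Q := act 1 n10060
theorem D11399 : act 1 n10060 = n11399 := rfl
theorem F15979 : act 0 n11399 = n10177 := d0_1 D11399 (iv F13583) (iv D10496) (iv F10982) F10981 (iv F11133) (iv F12637)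
theorem F15980 : act 2 n11399 = n10168 := d4_2 D10060 D11399 F12883 F12314 (iv F7891) (iv D7607) D7606
theorem F15981 : act 4 n11399 = n10177 := d6_2 F13581 D11399 (iv F13583)
theorem F15982 : act 3 n10159 = n11399 := d16_2 D7746 (iv F12868) (iv D11399) (iv D10060) (iv D7606) (iv D4727) (iv D2454) D2452 (iv F2467) D6148 (iv F8133) F8132
def n11400 : Q := act 3 n10060
theorem D11400 : act 3 n10060 = n11400 := rfl
theorem F15983 : act 1 n11400 = n10159 := d5_1 D11400 F15982 (iv D11399)
theorem F15984 : act 2 n11400 = n10061 := d7_1 D11400 (iv D10061) D10060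
theorem F15985 : act 4 n11400 = n10131 := d9_2 F13581 D11400 F13557 F13554 D11396 F15970 F13584
def n11401 : Q := act 0 n10062
theorem D11401 : act 0 n10062 = n11401 := rfl
theorem F15986 : act 2 n11401 = n10491 := d1_2 D10062 D11401 (iv F15091) F15093 D11184 F15337 F11681
def n11402 : Q := act 3 n10064
theorem D11402 : act 3 n10064 = n11402 := rfl
theorem F15987 : act 0 n11402 = n10955 := d2_1 D11402 (iv D10955) (iv D9054) D9056 D10957 F14741 F12984
theorem F15988 : act 2 n11402 = n10065 := d7_1 D11402 (iv D10065) D10064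
def n11403 : Q := act 0 n10068
theorem D11403 : act 0 n10068 = n11403 := rfl
theorem F15989 : act 1 n11403 = n11273 := d0_2 (iv F12652) D11403 F15594 F11863 F8682 (iv F12234) F12233
theorem F15990 : act 3 n11403 = n10950 := d2_2 D10068 D11403 (iv D10950) D10951 F15725 F15724 (iv D10066)
theorem F15991 : act 4 n11403 = n11272 := d3_2 F13475 D11403 F15592
def n11404 : Q := act 3 n10074
theorem D11404 : act 3 n10074 = n11404 := rfl
theorem F15992 : act 0 n11404 = n10673 := d2_1 D11404 (iv F14344) F14342 (iv F14298) F14295 (iv D10075) D10074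
theorem F15993 : act 1 n11404 = n10883 := d5_1 D11404 F14551 (iv F12667)
theorem F15994 : act 2 n11404 = n10900 := d7_1 D11404 F14600 F13074
theorem F15995 : act 4 n11404 = n10882 := d12_1 D11404 F14549 (iv F12700) (iv F12738) F12739 (iv D10075) D10074
def n11405 : Q := act 3 n10089
theorem D11405 : act 3 n10089 = n11405 := rfl
theorem F15996 : act 0 n11405 = n10681 := d2_1 D11405 F14294 F14292 F14288 F14285 F12663 D10089
theorem F15997 : act 1 n11405 = n10892 := d5_1 D11405 F14575 (iv F12698)
theorem F15998 : act 2 n11405 = n10905 := d7_1 D11405 F14615 F13222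
theorem F15999 : act 4 n11405 = n10891 := d9_2 F12699 D11405 F14573 (iv F12668) D11404 F15995 F14549
def n11406 : Q := act 2 n10105
theorem D11406 : act 2 n10105 = n11406 := rfl
theorem F16000 : act 0 n11406 = n10140 := d1_1 D11406 (iv D10140) (iv D7721) (iv D4836) D4835 D7718 (iv F12741)
def n11407 : Q := act 1 n10121
theorem D11407 : act 1 n10121 = n11407 := rfl
theorem F16001 : act 3 n11407 = n11059 := d5_2 (iv F12792) D11407 (iv D11059)
theorem F16002 : act 2 n11407 = n11108 := d17_8 (iv F12824) F12822 F11300 D9430 (iv F12798) (iv D10123) (iv F12793) D11407 F15155 (iv F15272) F15271 (iv D10978)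
def n11408 : Q := act 4 n10121
theorem D11408 : act 4 n10121 = n11408 := rfl
theorem F16003 : act 0 n11408 = n10124 := d3_1 D11408 (iv D10124) (iv F12793)
theorem F16004 : act 2 n11408 = n10122 := d8_1 D11408 (iv D10122) (iv D7703) (iv D4822) D4821 D7702 D10121
theorem F16005 : act 3 n11053 = n11408 := d7_0 F16004 F12794 (iv F15029)
def n11409 : Q := act 2 n10125
theorem D11409 : act 2 n10125 = n11409 := rfl
theorem F16006 : act 3 n11409 = n11043 := d7_2 (iv F12803) D11409 F15000
theorem F16007 : act 4 n11409 = n10960 := d8_2 (iv F12802) D11409 (iv D10960) (iv D9066) F6197 D6613 D9326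
theorem F16008 : act 1 n10640 = n11409 := d16_3 F13900 (iv F15283) F15285 (iv D11409) (iv F14099) (iv D10696) D10697 (iv F15942) F15943 (iv F15947) F15946 F13938
def n11410 : Q := act 2 n10126
theorem D11410 : act 2 n10126 = n11410 := rfl
theorem F16009 : act 0 n11410 = n10131 := d1_1 D11410 (iv D10131) (iv D7713) (iv D4831) D4830 D7710 D10126
theorem F16010 : act 1 n11410 = n11406 := d4_1 D11410 (iv D11406) (iv D10105) F7996 (iv F10923) F10924 (iv F12804)
def n11411 : Q := act 2 n10128
theorem D11411 : act 2 n10128 = n11411 := rfl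
theorem F16011 : act 0 n11411 = n10134 := d1_1 D11411 (iv D10134) (iv F11114) (iv D7447) D7446 D9947 F12809
theorem F16012 : act 3 n11411 = n11078 := d7_2 (iv F12808) D11411 F15094
theorem F16013 : act 4 n11411 = n10978 := d8_2 D10128 D11411 F14809 F12812 (iv D10129) (iv D7712) D7710
def n11412 : Q := act 1 n10129
theorem D11412 : act 1 n10129 = n11412 := rfl
theorem F16014 : act 0 n11412 = n11376 := d0_1 D11412 F15903 F14164 (iv D10264) D10263 (iv F13868) F13867
theorem F16015 : act 2 n11412 = n10554 := d4_2 D10129 D11412 (iv D10554) (iv D8321) F4471 D6876 (iv F8094)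
theorem F16016 : act 3 n11412 = n11077 := d5_2 (iv F12811) D11412 F15092
theorem F16017 : act 4 n11412 = n11028 := d6_2 F12812 D11412 (iv F14962)
def n11413 : Q := act 2 n10133
theorem D11413 : act 2 n10133 = n11413 := rfl
theorem F16018 : act 3 n11413 = n11157 := d7_2 (iv F12821) D11413 F15278
theorem F16019 : act 4 n11413 = n10975 := d8_2 (iv F12820) D11413 (iv D10975) (iv D9096) (iv F6525) (iv F6202) (iv F11119)
theorem F16020 : act 1 n11413 = n10623 := d16_3 (iv F11422) (iv F15277) (iv F16018) (iv D10623) D10622 F13907 (iv F13478) F13479 F12863 (iv F12867) (iv F13556) (iv D10481)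
def n11414 : Q := act 3 n10135
theorem D11414 : act 3 n10135 = n11414 := rfl
theorem F16021 : act 0 n11414 = n10763 := d2_1 D11414 (iv F14254) F11648 (iv F6801) (iv F6749) (iv F11581) (iv F12825)
theorem F16022 : act 1 n11414 = n10136 := d5_1 D11414 (iv D10136) D10135
theorem F16023 : act 2 n11414 = n11208 := d7_1 D11414 F15416 (iv F12826)
theorem F16024 : act 4 n11414 = n11205 := d12_1 D11414 (iv D11205) (iv D9563) (iv D6924) D6925 (iv F11581) (iv F12825)
def n11415 : Q := act 4 n10136
theorem D11415 : act 4 n10136 = n11415 := rfl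
theorem F16025 : act 0 n11415 = n10760 := d3_1 D11415 (iv D10760) F12829
theorem F16026 : act 1 n11415 = n11205 := d6_1 D11415 (iv F16024) F16022
theorem F16027 : act 3 n11415 = n10187 := d12_2 D10136 D11415 (iv F14691) (iv D10936) D10937 F14694 F12741
def n11416 : Q := act 2 n10137
theorem D11416 : act 2 n10137 = n11416 := rfl
theorem F16028 : act 0 n11416 = n10144 := d10_3 D10921 F14655 D11416 F14661 (iv D10923) (iv D9014) D9013
def n11417 : Q := act 3 n10137
theorem D11417 : act 3 n10137 = n11417 := rfl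
theorem F16029 : act 0 n11417 = n10769 := d2_1 D11417 (iv F14669) (iv D10926) (iv D9015) D9013 D10921 F14655
theorem F16030 : act 1 n11417 = n11202 := d5_1 D11417 (iv D11202) (iv F12830)
theorem F16031 : act 4 n11417 = n10186 := d9_2 D10137 D11417 (iv D10186) D10187 (iv F16027) (iv D11415) (iv D10136)
def n11418 : Q := act 0 n10138
theorem D11418 : act 0 n10138 = n11418 := rfl
theorem F16032 : act 3 n11418 = n10193 := d2_2 F15289 D11418 (iv D10193) (iv D7765) D7763 D10191 (iv F15290)
theorem F16033 : act 1 n11418 = n10272 := d13_2 D10138 D11418 (iv D10272) (iv D7860) F3914 F1691 F627 (iv F600) (iv F1624) (iv F3827) (iv F8110)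
def n11419 : Q := act 1 n10138
theorem D11419 : act 1 n10138 = n11419 := rfl
theorem F16034 : act 2 n11419 = n11176 := d4_2 D10138 D11419 F15317 (iv D9969) F7601 D7462 (iv F8111)
theorem F16035 : act 0 n11419 = n11178 := d15_12 F15323 (iv F13431) (iv F14224) (iv D10752) F9939 (iv F8350) F8348 (iv F11820) (iv F13101) (iv F16033) (iv D11418) D11419
theorem F16036 : act 4 n11247 = n11419 := d17_0 (iv D11419) (iv D10138) (iv D7720) D7718 D10135 F12825 (iv F12749) F12748 D10377 (iv F15529) (iv D11248) D11247
def n11420 : Q := act 4 n10138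
theorem D11420 : act 4 n10138 = n11420 := rfl
theorem F16037 : act 1 n11420 = n11247 := d6_1 D11420 F16036 (iv D11419)
def n11421 : Q := act 4 n10139
theorem D11421 : act 4 n10139 = n11421 := rfl
theorem F16038 : act 0 n11421 = n11321 := d3_1 D11421 (iv D11321) (iv F12831)
theorem F16039 : act 1 n11421 = n10142 := d6_1 D11421 (iv D10142) D10139
theorem F16040 : act 2 n11421 = n11307 := d8_1 D11421 (iv D11307) F12008 F7217 D7800 (iv F12004) (iv F12832)
theorem F16041 : act 3 n11421 = n11301 := d12_2 F12833 D11421 F15677 (iv F15653) (iv D11293) F11948 D9776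
def n11422 : Q := act 3 n10140
theorem D11422 : act 3 n10140 = n11422 := rfl
theorem F16042 : act 1 n11422 = n10424 := d5_1 D11422 (iv D10424) (iv F12834)
theorem F16043 : act 2 n11422 = n10141 := d7_1 D11422 (iv D10141) D10140
theorem F16044 : act 0 n11422 = n10759 := d10_1 D11422 (iv D10759) F12829 (iv D10136) (iv F12741) D11406 F16000
theorem F16045 : act 4 n10759 = n11422 := d17_0 F16042 F13438 (iv F10246) (iv D8898) F5446 F5162 (iv F5446) D8898 F10246 (iv F13438) (iv F16042) F16044
def n11423 : Q := act 4 n10140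
theorem D11423 : act 4 n10140 = n11423 := rfl
theorem F16046 : act 1 n11423 = n10425 := d6_1 D11423 (iv D10425) (iv F12834)
theorem F16047 : act 2 n11423 = n10145 := d11_2 D10140 D11423 (iv D10145) (iv D7726) (iv D4838) D4836 D7721
theorem F16048 : act 3 n10768 = n11423 := d7_0 F16047 (iv F12839) D10768
def n11424 : Q := act 4 n10141
theorem D11424 : act 4 n10141 = n11424 := rfl
theorem F16049 : act 1 n11424 = n11300 := d6_1 D11424 (iv D11300) (iv F12835)
theorem F16050 : act 3 n11424 = n10192 := d12_2 D10141 D11424 F12927 (iv F12103) (iv F12104) (iv D7723) D7721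
def n11425 : Q := act 3 n10142
theorem D11425 : act 3 n10142 = n11425 := rfl
theorem F16051 : act 1 n11425 = n11301 := d5_1 D11425 (iv F16041) F16039
theorem F16052 : act 4 n11425 = n10191 := d9_2 D10142 D11425 (iv D10191) D10192 (iv F16050) (iv D11424) (iv D10141)
def n11426 : Q := act 1 n10143
theorem D11426 : act 1 n10143 = n11426 := rfl
theorem F16053 : act 0 n11426 = n10280 := d0_1 D11426 (iv F13829) F13830 F12102 (iv F12105) F12106 D10143
theorem F16054 : act 2 n11426 = n11262 := d15_6 (iv F7112) (iv F7345) (iv F12107) F12106 D10143 D11426 F15565 (iv F12786) (iv D10119) (iv D7698) (iv F8052) F8054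
theorem F16055 : act 3 n10307 = n11426 := d7_0 F16054 F15566 (iv F13200)
def n11427 : Q := act 2 n10143
theorem D11427 : act 2 n10143 = n11427 := rfl
theorem F16056 : act 1 n11427 = n10609 := d16_5 (iv F8461) D10307 F16055 (iv D11426) D11427 (iv F14799) F14800 F11103 F6208 (iv D5520) (iv F4441) (iv F6907)
def n11428 : Q := act 3 n10143
theorem D11428 : act 3 n10143 = n11428 := rfl
theorem F16057 : act 0 n11428 = n10188 := d2_1 D11428 (iv F15279) F15280 (iv D10141) (iv D7721) D7723 D10143
theorem F16058 : act 1 n11428 = n10307 := d5_1 D11428 F16055 (iv D11426)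
def n11429 : Q := act 3 n10146
theorem D11429 : act 3 n10146 = n11429 := rfl
theorem F16059 : act 1 n11429 = n10873 := d5_1 D11429 F14524 (iv F12841)
theorem F16060 : act 2 n11429 = n10147 := d7_1 D11429 (iv D10147) D10146
theorem F16061 : act 0 n11429 = n10164 := d10_1 D11429 (iv D10164) (iv D7737) (iv D4846) D4845 D7734 (iv F12840)
theorem F16062 : act 4 n10164 = n11429 := d17_0 F16059 F14523 (iv D8917) (iv D6140) D6139 F5457 (iv D6139) D6140 D8917 (iv F14523) (iv F16059) F16061
def n11430 : Q := act 2 n10151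
theorem D11430 : act 2 n10151 = n11430 := rfl
theorem F16063 : act 1 n11430 = n11110 := d4_1 D11430 F15157 F11389 F7844 (iv F7636) D9981 (iv F12853)
theorem F16064 : act 3 n11430 = n10180 := d7_2 F12854 D11430 F12906
def n11431 : Q := act 1 n10152
theorem D11431 : act 1 n10152 = n11431 := rfl
theorem F16065 : act 2 n11431 = n11114 := d4_2 D10152 D11431 F15163 (iv D9971) F7614 D7477 (iv F8124)
theorem F16066 : act 4 n11431 = n11363 := d6_2 F15227 D11431 F15868
theorem F16067 : act 3 n11109 = n11431 := d16_2 (iv F11170) D11109 (iv D11431) (iv D10152) F8124 (iv F12419) F12420 (iv D9172) (iv F9362) D10634 F13932 F11376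
def n11432 : Q := act 3 n10152
theorem D11432 : act 3 n10152 = n11432 := rfl
theorem F16068 : act 1 n11432 = n11109 := d5_1 D11432 F16067 (iv D11431)
theorem F16069 : act 2 n11432 = n10153 := d7_1 D11432 (iv D10153) D10152
def n11433 : Q := act 0 n10154
theorem D11433 : act 0 n10154 = n11433 := rfl
theorem F16070 : act 1 n11433 = n10739 := d0_2 D10154 D11433 (iv D10739) (iv D8658) (iv F8139) F8137 (iv F8125)
theorem F16071 : act 2 n11433 = n11376 := d1_2 (iv F12858) D11433 (iv F16014) F16015 F13746 F10869 D9210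
theorem F16072 : act 4 n11433 = n11375 := d3_2 F12860 D11433 F15900
theorem F16073 : act 3 n11433 = n11019 := d10_4 D6455 D9210 (iv F12858) D11433 (iv D11019) (iv D9201) F5927
def n11434 : Q := act 4 n10163
theorem D11434 : act 4 n10163 = n11434 := rfl
theorem F16074 : act 0 n11434 = n10727 := d3_1 D11434 (iv D10727) (iv F12873)
theorem F16075 : act 1 n11434 = n10166 := d6_1 D11434 (iv D10166) D10163
theorem F16076 : act 2 n11434 = n10829 := d8_1 D11434 (iv D10829) F10140 (iv D7514) D7513 D10004 (iv F12874)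
theorem F16077 : act 3 n11434 = n10171 := d9_1 D11434 (iv D10171) (iv D7744) D7745 D10172 F12896 F12875
def n11435 : Q := act 3 n10164
theorem D11435 : act 3 n10164 = n11435 := rfl
theorem F16078 : act 0 n11435 = n10178 := d2_1 D11435 F15967 F15964 (iv D10158) (iv F12840) D11429 F16061
theorem F16079 : act 1 n11435 = n10876 := d5_1 D11435 (iv F15940) F15939
theorem F16080 : act 2 n11435 = n10165 := d7_1 D11435 (iv D10165) D10164
theorem F16081 : act 4 n11435 = n10169 := d9_2 (iv F16062) D11435 (iv D10169) F8134 D7746 (iv F12842) D11429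
def n11436 : Q := act 0 n10176
theorem D11436 : act 0 n10176 = n11436 := rfl
theorem F16082 : act 2 n11436 = n10201 := d1_2 (iv F12903) D11436 (iv D10201) (iv D7780) (iv D4874) D4875 D7783
def n11437 : Q := act 1 n10180
theorem D11437 : act 1 n10180 = n11437 := rfl
theorem F16083 : act 2 n11437 = n11113 := d4_2 (iv F12906) D11437 F15160 F12583 F7862 D9137 (iv F10714)
theorem F16084 : act 3 n11437 = n11110 := d5_2 F16064 D11437 (iv F16063)
theorem F16085 : act 4 n11437 = n11369 := d6_2 F15229 D11437 F15883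
def n11438 : Q := act 0 n10183
theorem D11438 : act 0 n10183 = n11438 := rfl
theorem F16086 : act 1 n11438 = n10736 := d0_2 D10183 D11438 (iv D10736) (iv D8650) D8649 (iv F12877) F12876
theorem F16087 : act 4 n11438 = n11381 := d3_2 (iv F12914) D11438 F15918
theorem F16088 : act 3 n11438 = n11027 := d10_4 F5935 (iv F10863) (iv F12912) D11438 (iv D11027) (iv D9218) F5985
theorem F16089 : act 2 n11438 = n11382 := d11_4 (iv F7368) D9207 (iv F12912) D11438 (iv D11382) (iv D10019) F7756
def n11439 : Q := act 2 n10184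
theorem D11439 : act 2 n10184 = n11439 := rfl
theorem F16090 : act 0 n11439 = n10190 := d1_1 D11439 (iv D10190) (iv D7763) (iv D4865) D4864 D7760 D10184
theorem F16091 : act 1 n11439 = n11436 := d4_1 D11439 F16082 F12945 (iv F10965) (iv D9251) (iv F8153) (iv F12915)
def n11440 : Q := act 3 n10185
theorem D11440 : act 3 n10185 = n11440 := rfl
theorem F16092 : act 0 n11440 = n10765 := d2_1 D11440 (iv F14260) F11660 F6809 D8430 (iv F11586) (iv F12917)
theorem F16093 : act 1 n11440 = n10186 := d5_1 D11440 (iv D10186) D10185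
theorem F16094 : act 2 n11440 = n11210 := d7_1 D11440 F15422 (iv F12916)
theorem F16095 : act 4 n11440 = n11202 := d9_2 F12918 D11440 (iv D11202) F12827 D11414 F16024 (iv D11205)
def n11441 : Q := act 2 n10187
theorem D11441 : act 2 n10187 = n11441 := rfl
theorem F16096 : act 0 n11441 = n10194 := d10_3 D10936 F14691 D11441 F14696 (iv D10938) (iv D9038) D9037
def n11442 : Q := act 1 n10188
theorem D11442 : act 1 n10188 = n11442 := rfl
theorem F16097 : act 2 n11442 = n11256 := d4_2 D10188 D11442 F15549 (iv D10233) F8254 (iv F11450) F11449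
theorem F16098 : act 0 n11442 = n11251 := d15_12 F15534 (iv F13458) (iv F14234) F14233 F9940 (iv F8474) F8472 D9704 (iv F13200) (iv F16058) F16057 D11442
theorem F16099 : act 4 n11250 = n11442 := d17_0 (iv D11442) (iv D10188) (iv D7762) D7760 D10185 F12917 (iv F12933) F12936 D10391 (iv F15532) F15531 D11250
def n11443 : Q := act 4 n10188
theorem D11443 : act 4 n10188 = n11443 := rfl
theorem F16100 : act 1 n11443 = n11250 := d6_1 D11443 F16099 (iv D11442)
def n11444 : Q := act 4 n10189
theorem D11444 : act 4 n10189 = n11444 := rfl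
theorem F16101 : act 0 n11444 = n11322 := d3_1 D11444 F15738 (iv F12922)
theorem F16102 : act 1 n11444 = n10192 := d6_1 D11444 (iv D10192) D10189
theorem F16103 : act 2 n11444 = n11304 := d8_1 D11444 (iv D11304) (iv D9786) (iv D7197) (iv F7210) D9784 (iv F12923)
theorem F16104 : act 3 n11444 = n11300 := d9_1 D11444 (iv D11300) F12833 D11421 F16041 (iv D11301) F12924
def n11445 : Q := act 3 n10190
theorem D11445 : act 3 n10190 = n11445 := rfl
theorem F16105 : act 1 n11445 = n10429 := d5_1 D11445 (iv D10429) (iv F12925)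
theorem F16106 : act 2 n11445 = n10191 := d7_1 D11445 (iv D10191) D10190
theorem F16107 : act 0 n11445 = n10768 := d10_1 D11445 (iv D10768) (iv F12920) (iv D10186) D10184 D11439 F16090
theorem F16108 : act 4 n10768 = n11445 := d17_0 F16105 F13449 (iv F10310) F10309 F5473 F5211 (iv F5473) (iv F10309) F10310 (iv F13449) (iv F16105) F16107
def n11446 : Q := act 4 n10190
theorem D11446 : act 4 n10190 = n11446 := rfl
theorem F16109 : act 1 n11446 = n10430 := d6_1 D11446 (iv D10430) (iv F12925)
theorem F16110 : act 3 n11446 = n10759 := d9_1 D11446 F16045 (iv D11422) D11423 (iv F16048) F16108 (iv D11445)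
theorem F16111 : act 2 n11446 = n10195 := d11_2 D10190 D11446 (iv D10195) (iv D7767) (iv D4867) D4865 D7763
def n11447 : Q := act 1 n10193
theorem D11447 : act 1 n10193 = n11447 := rfl
theorem F16112 : act 0 n11447 = n10282 := d0_1 D11447 (iv F13718) (iv D10544) F9149 (iv F9145) F9146 D10193
theorem F16113 : act 3 n11447 = n10272 := d5_2 F16032 D11447 (iv F16033)
theorem F16114 : act 2 n11447 = n11263 := d15_6 F4380 D5396 D8299 F9146 D10193 D11447 F15567 (iv F12773) (iv D10115) (iv D7688) D7689 F8032
def n11448 : Q := act 2 n10193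
theorem D11448 : act 2 n10193 = n11448 := rfl
theorem F16115 : act 1 n11448 = n10603 := d16_5 (iv F8319) D10272 (iv F16113) (iv D11447) D11448 (iv F14749) F14750 F11410 F6531 (iv D5532) (iv F5744) (iv F7414)
def n11449 : Q := act 2 n10203
theorem D11449 : act 2 n10203 = n11449 := rfl
theorem F16116 : act 0 n11449 = n10207 := d1_1 D11449 (iv D10207) (iv F11126) (iv D7459) D7458 D9966 F12947
theorem F16117 : act 3 n11449 = n11067 := d7_2 (iv F12946) D11449 F15058
theorem F16118 : act 4 n11449 = n10964 := d8_2 D10203 D11449 F14763 F12950 (iv D10204) (iv D7782) D7780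
def n11450 : Q := act 1 n10204
theorem D11450 : act 1 n10204 = n11450 := rfl
theorem F16119 : act 0 n11450 = n11382 := d0_1 D11450 F15921 F14205 (iv D10319) D10318 (iv F13878) F13877
theorem F16120 : act 2 n11450 = n10566 := d4_2 D10204 D11450 (iv D10566) (iv D8334) (iv F4476) (iv F6674) (iv F8190)
theorem F16121 : act 3 n11450 = n11066 := d5_2 (iv F12949) D11450 F15056
theorem F16122 : act 4 n11450 = n11022 := d6_2 F12950 D11450 (iv F14942)
def n11451 : Q := act 4 n10210
theorem D11451 : act 4 n10210 = n11451 := rfl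
theorem F16123 : act 0 n11451 = n11108 := d3_1 D11451 F15155 (iv F12967)
theorem F16124 : act 3 n11451 = n11086 := d12_2 (iv F12966) D11451 F15110 F11167 (iv D6761) D6760 (iv F11377)
def n11452 : Q := act 3 n10214
theorem D11452 : act 3 n10214 = n11452 := rfl
theorem F16125 : act 0 n11452 = n10218 := d2_1 D11452 (iv D10218) (iv F8769) D10394 F13381 (iv D10238) (iv F12979)
theorem F16126 : act 1 n11452 = n10595 := d5_1 D11452 (iv D10595) (iv F12980)
theorem F16127 : act 2 n11452 = n11403 := d7_1 D11452 F15990 F14728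
theorem F16128 : act 4 n10321 = n11452 := d8_0 F16127 F15991 F15593 (iv D10436) (iv F10965) (iv F14998) F14999
def n11453 : Q := act 4 n10216
theorem D11453 : act 4 n10216 = n11453 := rfl
theorem F16129 : act 0 n11453 = n10250 := d3_1 D11453 F13056 (iv F12983)
theorem F16130 : act 1 n11453 = n10599 := d6_1 D11453 (iv D10599) (iv F12982)
theorem F16131 : act 3 n11453 = n10321 := d9_1 D11453 F16128 (iv D11452) (iv D10214) (iv D7805) D7806 D10216
def n11454 : Q := act 1 n10217
theorem D11454 : act 1 n10217 = n11454 := rfl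
theorem F16132 : act 0 n11454 = n10513 := d13_3 D10064 (iv F12984) D11454 F13626 F10932 (iv D7630) (iv D4749) (iv D2467) (iv F1575) (iv F3739) (iv F7909)
theorem F16133 : act 4 n11352 = n11454 := d17_0 (iv D11454) (iv D10217) (iv D7808) F3887 (iv F3883) F3882 F1901 F1945 D4574 D7427 D9925 D11352
def n11455 : Q := act 4 n10217
theorem D11455 : act 4 n10217 = n11455 := rfl
theorem F16134 : act 0 n11455 = n11358 := d3_1 D11455 (iv F15853) (iv F12984)
theorem F16135 : act 1 n11455 = n11352 := d6_1 D11455 F16133 (iv D11454)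
theorem F16136 : act 2 n11455 = n10225 := d8_1 D11455 (iv D10225) (iv D7811) (iv D4901) (iv F3887) D7808 D10217
theorem F16137 : act 3 n11455 = n10221 := d12_2 F14741 D11455 F12987 F10552 (iv D9057) D9056 D10957
def n11456 : Q := act 2 n10219
theorem D11456 : act 2 n10219 = n11456 := rfl
theorem F16138 : act 0 n11456 = n11034 := d1_1 D11456 (iv F15580) F15578 F13143 F12683 F13313 F13311
theorem F16139 : act 4 n11456 = n11033 := d11_1 D11456 F14978 (iv D10821) (iv D8816) D8817 F13313 F13311
def n11457 : Q := act 3 n10219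
theorem D11457 : act 3 n10219 = n11457 := rfl
theorem F16140 : act 0 n11457 = n10522 := d2_1 D11457 (iv D10522) (iv D8254) D8256 (iv F10121) (iv F13314) F13311
theorem F16141 : act 1 n11457 = n10220 := d5_1 D11457 (iv D10220) D10219
theorem F16142 : act 4 n11457 = n11371 := d12_1 D11457 F15888 (iv D10373) (iv F12076) F12077 (iv F13314) F13311
def n11458 : Q := act 4 n10220
theorem D11458 : act 4 n10220 = n11458 := rfl
theorem F16143 : act 0 n11458 = n11364 := d3_1 D11458 (iv F15870) (iv F12986)
theorem F16144 : act 1 n11458 = n11371 := d6_1 D11458 (iv F16142) F16141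
theorem F16145 : act 2 n11458 = n10232 := d8_1 D11458 (iv D10232) F8253 D7817 (iv F12989) (iv D10222) (iv F12985)
theorem F16146 : act 3 n11458 = n10439 := d9_1 D11458 (iv F14740) F14741 D11455 F16137 (iv D10221) D10220
def n11459 : Q := act 4 n10226
theorem D11459 : act 4 n10226 = n11459 := rfl
theorem F16147 : act 0 n11459 = n10249 := d3_1 D11459 (iv D10249) (iv F12999)
theorem F16148 : act 1 n11459 = n11075 := d6_1 D11459 (iv F15086) F13879
theorem F16149 : act 3 n11459 = n10436 := d12_2 D10226 D11459 F13462 (iv F13016) (iv D10232) (iv D7814) D7812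
def n11460 : Q := act 3 n10227
theorem D11460 : act 3 n10227 = n11460 := rfl
theorem F16150 : act 1 n11460 = n11072 := d5_1 D11460 F15074 (iv F13001)
theorem F16151 : act 4 n11460 = n10240 := d9_2 D10227 D11460 F13034 D10436 (iv F16149) (iv D11459) (iv D10226)
theorem F16152 : act 0 n11460 = n10242 := d10_1 D11460 (iv F14739) F14738 (iv F10552) (iv F12987) F12988 (iv F13000)
def n11461 : Q := act 4 n10238
theorem D11461 : act 4 n10238 = n11461 := rfl
theorem F16153 : act 0 n11461 = n10808 := d3_1 D11461 (iv F14354) F13381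
theorem F16154 : act 1 n11461 = n10899 := d6_1 D11461 (iv D10899) (iv F13031)
theorem F16155 : act 3 n11461 = n10250 := d9_1 D11461 F13056 (iv F13030) (iv D10237) (iv D7822) D7823 D10238
theorem F16156 : act 2 n11461 = n10243 := d11_2 F14737 D11461 F13038 D11173 (iv F15315) (iv F15988) F15987
def n11462 : Q := act 4 n10239
theorem D11462 : act 4 n10239 = n11462 := rfl
theorem F16157 : act 0 n11462 = n10775 := d3_1 D11462 (iv D10775) (iv F13033)
theorem F16158 : act 1 n11462 = n11339 := d6_1 D11462 F15795 F13565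
theorem F16159 : act 3 n11462 = n10242 := d12_2 (iv F13032) D11462 (iv F16152) (iv D11460) (iv D10227) D10226 F12999
def n11463 : Q := act 4 n10241
theorem D11463 : act 4 n10241 = n11463 := rfl
theorem F16160 : act 0 n11463 = n10815 := d3_1 D11463 (iv D10815) (iv F13035)
theorem F16161 : act 1 n11463 = n11340 := d6_1 D11463 F15798 F13572
theorem F16162 : act 3 n11463 = n10249 := d9_1 D11463 (iv D10249) (iv F13032) D11462 F16159 (iv D10242) D10241
def n11464 : Q := act 2 n10253
theorem D11464 : act 2 n10253 = n11464 := rfl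
theorem F16163 : act 0 n11464 = n10423 := d1_1 D11464 F13436 (iv F15679) F15680 F14086 F12706 (iv F13063)
theorem F16164 : act 1 n11464 = n10969 := d4_1 D11464 F14780 F13565 (iv D10239) F8270 D7972 (iv F13064)
theorem F16165 : act 3 n11464 = n10271 := d7_2 (iv F13065) D11464 (iv D10271)
theorem F16166 : act 4 n11464 = n10780 := d11_1 D11464 (iv F14314) (iv F15106) F15107 F14745 F12706 (iv F13063)
def n11465 : Q := act 3 n10254
theorem D11465 : act 3 n10254 = n11465 := rfl
theorem F16167 : act 0 n11465 = n10427 := d2_1 D11465 (iv D10427) F13090 (iv D10265) D10263 F13866 F13865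
theorem F16168 : act 1 n11465 = n10970 := d5_1 D11465 (iv D10970) (iv F13066)
theorem F16169 : act 2 n11465 = n10255 := d7_1 D11465 (iv D10255) D10254
theorem F16170 : act 4 n11465 = n10805 := d9_2 (iv F13067) D11465 (iv F14346) (iv F13100) (iv F16165) F16166 F14316
def n11466 : Q := act 2 n10259
theorem D11466 : act 2 n10259 = n11466 := rfl
theorem F16171 : act 1 n11466 = n11456 := d4_1 D11466 (iv D11456) (iv D10219) (iv D7809) (iv F8250) (iv F10822) (iv F13079)
theorem F16172 : act 3 n11466 = n10317 := d7_2 (iv F13084) D11466 (iv D10317)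
theorem F16173 : act 4 n11466 = n11140 := d8_2 D10259 D11466 F15235 F14534 (iv D10262) (iv D7848) (iv F8303)
def n11467 : Q := act 1 n10260
theorem D11467 : act 1 n10260 = n11467 := rfl
theorem F16174 : act 0 n11467 = n10822 := d0_1 D11467 F14385 F11341 F6394 (iv F6377) (iv F8310) (iv F13080)
theorem F16175 : act 2 n11467 = n11454 := d4_2 D10260 D11467 (iv D11454) (iv D10217) (iv F10812) (iv F13077) F13076
theorem F16176 : act 4 n11467 = n10821 := d6_2 F13081 D11467 F14384
def n11468 : Q := act 3 n10260
theorem D11468 : act 3 n10260 = n11468 := rfl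
theorem F16177 : act 2 n11468 = n10261 := d7_1 D11468 (iv D10261) D10260
def n11469 : Q := act 3 n10267
theorem D11469 : act 3 n10267 = n11469 := rfl
theorem F16178 : act 0 n11469 = n11294 := d2_1 D11469 F15655 F12972 F8392 (iv F11816) D11260 F15561
theorem F16179 : act 1 n11469 = n10707 := d5_1 D11469 (iv D10707) F14009
theorem F16180 : act 2 n11469 = n10268 := d7_1 D11469 (iv D10268) D10267
theorem F16181 : act 4 n11469 = n11319 := d9_2 F14085 D11469 F15729 F14075 F12115 D11302 (iv F15681)
def n11470 : Q := act 4 n10272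
theorem D11470 : act 4 n10272 = n11470 := rfl
theorem F16182 : act 0 n11470 = n10274 := d3_1 D11470 (iv D10274) D10272
theorem F16183 : act 2 n11470 = n11267 := d8_1 D11470 (iv D11267) (iv D9692) (iv D7060) D7058 D9690 (iv F13101)
def n11471 : Q := act 0 n10273
theorem D11471 : act 0 n10273 = n11471 := rfl
theorem F16184 : act 1 n11471 = n11178 := d0_2 D10273 D11471 (iv F16035) (iv D11419) D11418 F16033 (iv D10272)
theorem F16185 : act 2 n11471 = n10739 := d1_2 (iv F13102) D11471 (iv D10739) (iv F10098) (iv F10760) (iv F13752) (iv D10556)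
theorem F16186 : act 3 n11471 = n11177 := d2_2 (iv F13103) D11471 F15320 (iv F12049) D10392 F13377 F9377
theorem F16187 : act 4 n11471 = n11248 := d3_2 F15630 D11471 (iv F15627)
def n11472 : Q := act 2 n10293
theorem D11472 : act 2 n10293 = n11472 := rfl
theorem F16188 : act 0 n11472 = n11466 := d1_1 D11472 (iv D11466) (iv F13415) (iv F14287) F14285 F12662 (iv F13166)
theorem F16189 : act 4 n11472 = n11209 := d8_2 D10293 D11472 (iv D11209) (iv F11597) (iv F12401) (iv D9970) (iv F8391)
theorem F16190 : act 1 n11472 = n11451 := d16_5 (iv F11737) (iv F15476) F15478 (iv F13167) D11472 F16123 (iv D11108) F11169 F9823 F9820 (iv F5011) (iv F6888)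
def n11473 : Q := act 2 n10303
theorem D11473 : act 2 n10303 = n11473 := rfl
theorem F16191 : act 0 n11473 = n11468 := d1_1 D11473 F16177 (iv F13421) (iv F14297) F14295 F12670 (iv F13189)
theorem F16192 : act 4 n11473 = n11211 := d8_2 D10303 D11473 (iv D11211) (iv F11620) (iv F12507) (iv D10013) (iv F8441)
def n11474 : Q := act 4 n10307
theorem D11474 : act 4 n10307 = n11474 := rfl
theorem F16193 : act 0 n11474 = n10309 := d3_1 D11474 (iv D10309) D10307
theorem F16194 : act 2 n11474 = n11273 := d8_1 D11474 (iv D11273) (iv D9703) F6914 D7321 (iv F11836) (iv F13200)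
def n11475 : Q := act 0 n10308
theorem D11475 : act 0 n10308 = n11475 := rfl
theorem F16195 : act 1 n11475 = n11251 := d0_2 D10308 D11475 (iv F16098) (iv D11442) (iv F16057) F16058 (iv D10307)
theorem F16196 : act 2 n11475 = n10736 := d1_2 (iv F13201) D11475 (iv D10736) (iv F10076) (iv F10754) (iv F13776) (iv D10564)
theorem F16197 : act 3 n11475 = n11320 := d2_2 (iv F13202) D11475 (iv D11320) (iv F12043) D10378 F13337 F9194
theorem F16198 : act 4 n11475 = n11249 := d3_2 F15811 D11475 (iv F15808)
def n11476 : Q := act 2 n10312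
theorem D11476 : act 2 n10312 = n11476 := rfl
theorem F16199 : act 3 n11476 = n11060 := d7_2 (iv F13213) D11476 F15040
theorem F16200 : act 4 n11476 = n10914 := d8_2 D10312 D11476 F14638 F12961 (iv D10208) F8197 D7952
theorem F16201 : act 0 n11476 = n10313 := d10_3 (iv F15910) F15908 D11476 F13215 (iv F13856) F13858 (iv F13864)
def n11477 : Q := act 1 n10317
theorem D11477 : act 1 n10317 = n11477 := rfl
theorem F16202 : act 0 n11477 = n10824 := d0_1 D11477 F14387 (iv D9442) F6396 D6731 (iv F8511) (iv F13227)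
theorem F16203 : act 2 n11477 = n11457 := d4_2 D10317 D11477 F16141 F12985 (iv F10813) (iv F13226) F13224
theorem F16204 : act 3 n11477 = n11456 := d5_2 F16172 D11477 (iv F16171)
theorem F16205 : act 4 n11477 = n10823 := d6_2 F14747 D11477 (iv F14746)
def n11478 : Q := act 0 n10323
theorem D11478 : act 0 n10323 = n11478 := rfl
theorem F16206 : act 1 n11478 = n11305 := d0_2 D10323 D11478 (iv D11305) (iv D9787) (iv F8601) (iv D8019) (iv F8535)
def n11479 : Q := act 4 n10323
theorem D11479 : act 4 n10323 = n11479 := rfl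
theorem F16207 : act 1 n11479 = n10324 := d6_1 D11479 (iv D10324) D10323
theorem F16208 : act 2 n11479 = n10857 := d8_1 D11479 (iv D10857) (iv F12026) (iv F13697) (iv F15933) F15934 F14506
theorem F16209 : act 3 n11479 = n10508 := d12_2 F13733 D11479 (iv D10508) F9018 D8262 (iv F9169) D10550
def n11480 : Q := act 1 n10326
theorem D11480 : act 1 n10326 = n11480 := rfl
theorem F16210 : act 4 n11480 = n10988 := d6_2 F13530 D11480 F14837
theorem F16211 : act 2 n11480 = n11462 := d14_1 D11480 F16158 F15793 F13959 (iv D10644) F9425 F5114 F2311 D5040 D7983 D10326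
theorem F16212 : act 3 n10956 = n11480 := d7_0 F16211 F16159 (iv F14739)
def n11481 : Q := act 3 n10326
theorem D11481 : act 3 n10326 = n11481 := rfl
theorem F16213 : act 0 n11481 = n10570 := d2_1 D11481 F13791 F13538 (iv F13529) F13526 (iv D10327) D10326
theorem F16214 : act 1 n11481 = n10956 := d5_1 D11481 F16212 (iv D11480)
theorem F16215 : act 2 n11481 = n11481 := d7_1 D11481 (iv D11481) F13236
theorem F16216 : act 4 n11481 = n10954 := d12_1 D11481 (iv F14735) (iv D10798) (iv F13524) F13525 (iv D10327) D10326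
def n11482 : Q := act 1 n10329
theorem D11482 : act 1 n10329 = n11482 := rfl
theorem F16217 : act 4 n11482 = n10955 := d6_2 F14331 D11482 F14736
theorem F16218 : act 2 n11482 = n11463 := d14_1 D11482 F16161 F15796 F13969 (iv D10647) F9433 (iv D5918) F2312 (iv F4018) (iv F8549) D10329
theorem F16219 : act 3 n10989 = n11482 := d7_0 F16218 F16162 (iv F14840)
def n11483 : Q := act 3 n10329
theorem D11483 : act 3 n10329 = n11483 := rfl
theorem F16220 : act 0 n11483 = n10572 := d2_1 D11483 F13797 F13515 (iv F8932) F4237 D7987 D10329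
theorem F16221 : act 1 n11483 = n10989 := d5_1 D11483 F16219 (iv D11482)
theorem F16222 : act 2 n11483 = n11483 := d7_1 D11483 (iv D11483) F13242
theorem F16223 : act 4 n11483 = n10987 := d9_2 F14331 D11483 (iv F14836) F13530 D11481 F16216 (iv F14735)
def n11484 : Q := act 0 n10332
theorem D11484 : act 0 n10332 = n11484 := rfl
theorem F16224 : act 1 n11484 = n11317 := d0_2 D10332 D11484 (iv D11317) (iv D9802) F7228 (iv F4047) (iv F8554)
def n11485 : Q := act 4 n10332
theorem D11485 : act 4 n10332 = n11485 := rfl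
theorem F16225 : act 1 n11485 = n10333 := d6_1 D11485 (iv D10333) D10332
theorem F16226 : act 2 n11485 = n10858 := d8_1 D11485 (iv D10858) (iv F14004) F14005 (iv F15944) F15945 F14509
theorem F16227 : act 3 n11485 = n10512 := d9_1 D11485 (iv F13731) F13733 D11479 F16209 F13616 (iv F13246)
def n11486 : Q := act 1 n10336
theorem D11486 : act 1 n10336 = n11486 := rfl
theorem F16228 : act 0 n11486 = n10729 := d0_1 D11486 (iv D10729) (iv F10024) (iv D8777) F5220 D7995 D10336
theorem F16229 : act 3 n11486 = n11213 := d5_2 F15328 D11486 F15429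
theorem F16230 : act 4 n10990 = n11486 := d17_0 (iv D11486) (iv F14929) (iv D11017) D11016 F14924 F14923 F10853 (iv F11158) D11097 F15130 F13368 (iv F14842)
def n11487 : Q := act 4 n10336
theorem D11487 : act 4 n10336 = n11487 := rfl
theorem F16231 : act 0 n11487 = n10338 := d3_1 D11487 (iv D10338) D10336
theorem F16232 : act 1 n11487 = n10990 := d6_1 D11487 F16230 (iv D11486)
theorem F16233 : act 2 n11487 = n11240 := d8_1 D11487 (iv D11240) (iv F14171) (iv F14926) (iv D11016) D11017 F14929
theorem F16234 : act 3 n11487 = n11221 := d12_2 F15328 D11487 F15454 (iv F15642) F15641 F13783 D11180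
def n11488 : Q := act 0 n10337
theorem D11488 : act 0 n10337 = n11488 := rfl
theorem F16235 : act 1 n11488 = n10488 := d0_2 (iv F13253) D11488 (iv F14779) (iv F16164) F16163 F13435 (iv F10267)
theorem F16236 : act 3 n11488 = n10487 := d2_2 (iv F13254) D11488 (iv F15055) (iv F16121) F16119 F15922 F14203
theorem F16237 : act 4 n11488 = n10749 := d3_2 (iv F13255) D11488 F14218
def n11489 : Q := act 2 n10341
theorem D11489 : act 2 n10341 = n11489 := rfl
theorem F16238 : act 1 n11489 = n10850 := d4_1 D11489 F14462 (iv F14479) (iv F16208) F16207 F13231 (iv F13261)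
theorem F16239 : act 3 n11489 = n10848 := d7_2 F13919 D11489 F14459
theorem F16240 : act 4 n11489 = n10852 := d8_2 D10341 D11489 F14467 (iv D10619) (iv F13895) (iv F13897) (iv D10340)
theorem F16241 : act 0 n11489 = n10852 := d10_3 F13887 F13885 D11489 (iv D10852) D10851 F14465 F13926
def n11490 : Q := act 4 n10345
theorem D11490 : act 4 n10345 = n11490 := rfl
theorem F16242 : act 0 n11490 = n10927 := d3_1 D11490 (iv F14672) F13477
theorem F16243 : act 1 n11490 = n10448 := d6_1 D11490 (iv F13558) F13560
theorem F16244 : act 2 n11490 = n11227 := d11_2 F14257 D11490 (iv F15765) F15763 F15004 (iv D11044) (iv F14255)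
theorem F16245 : act 3 n11490 = n10356 := d12_2 D10345 D11490 F13283 (iv F13273) (iv D10350) (iv D8003) D8001
def n11491 : Q := act 3 n10346
theorem D11491 : act 3 n10346 = n11491 := rfl
theorem F16246 : act 0 n11491 = n10934 := d2_1 D11491 (iv D10934) (iv F12098) (iv D9837) F7311 F8575 (iv F13267)
theorem F16247 : act 1 n11491 = n10457 := d5_1 D11491 (iv F14845) F14843
theorem F16248 : act 2 n11491 = n11257 := d7_1 D11491 (iv F15769) F15766
theorem F16249 : act 4 n11491 = n10355 := d9_2 D10346 D11491 (iv D10355) D10356 (iv F16245) (iv D11490) (iv D10345)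
def n11492 : Q := act 1 n10347
theorem D11492 : act 1 n10347 = n11492 := rfl
theorem F16250 : act 4 n11492 = n11226 := d6_2 F15767 D11492 (iv F15768)
theorem F16251 : act 2 n11492 = n11234 := d14_1 D11492 (iv F15972) F15971 F14770 (iv D10695) F9607 (iv D7973) (iv F4008) D7189 (iv F8572) D10347
theorem F16252 : act 3 n10479 = n11492 := d7_0 F16251 F15494 (iv F13551)
def n11493 : Q := act 3 n10347
theorem D11493 : act 3 n10347 = n11493 := rfl
theorem F16253 : act 0 n11493 = n11277 := d2_1 D11493 F15603 F13830 (iv F13702) F13701 (iv D10348) D10347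
theorem F16254 : act 1 n11493 = n10479 := d5_1 D11493 F16252 (iv D11492)
theorem F16255 : act 4 n11227 = n11493 := d6_0 F16254 F13550 D11227
def n11494 : Q := act 1 n10352
theorem D11494 : act 1 n10352 = n11494 := rfl
theorem F16256 : act 2 n11494 = n11238 := d14_1 D11494 (iv F15976) F15975 F14773 F14101 F9610 (iv D7976) F4011 (iv F7202) (iv F8588) D10352
theorem F16257 : act 3 n10500 = n11494 := d7_0 F16256 F15502 (iv F13591)
theorem F16258 : act 4 n11228 = n11494 := d8_0 F16256 (iv D11238) F11723 F6844 (iv F6893) (iv F11706) (iv F15471)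
def n11495 : Q := act 3 n10352
theorem D11495 : act 3 n10352 = n11495 := rfl
theorem F16259 : act 0 n11495 = n11275 := d2_1 D11495 F15599 (iv D10544) (iv D8300) F4384 D8010 D10352
theorem F16260 : act 1 n11495 = n10500 := d5_1 D11495 F16257 (iv D11494)
theorem F16261 : act 4 n11495 = n11257 := d12_1 D11495 (iv F15769) (iv D11331) (iv D9836) F7309 D8010 D10352
def n11496 : Q := act 4 n10352
theorem D11496 : act 4 n10352 = n11496 := rfl
theorem F16262 : act 0 n11496 = n10353 := d3_1 D11496 (iv D10353) D10352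
theorem F16263 : act 1 n11496 = n11228 := d6_1 D11496 F16258 (iv D11494)
theorem F16264 : act 3 n11496 = n11227 := d9_1 D11496 F16255 (iv D11493) (iv F15767) F15769 (iv F16261) (iv D11495)
theorem F16265 : act 2 n11496 = n10356 := d11_2 F14180 D11496 F13283 (iv F13275) (iv D8722) (iv F9767) D10732
def n11497 : Q := act 2 n10358
theorem D11497 : act 2 n10358 = n11497 := rfl
theorem F16266 : act 1 n11497 = n10849 := d4_1 D11497 F14460 (iv F14482) (iv F16226) F16225 F13248 (iv F13284)
theorem F16267 : act 3 n11497 = n10853 := d7_2 F13947 D11497 F14469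
theorem F16268 : act 4 n11497 = n10847 := d8_2 D10358 D11497 F14456 F13902 (iv F13937) (iv F13939) (iv D10357)
theorem F16269 : act 0 n11497 = n10847 := d10_3 D10615 (iv F13892) D11497 (iv D10847) D10846 F14453 F13762
def n11498 : Q := act 1 n10359
theorem D11498 : act 1 n10359 = n11498 := rfl
theorem F16270 : act 0 n11498 = n10386 := d0_1 D11498 (iv D10386) (iv D8075) F4110 (iv F4041) D8016 D10359
theorem F16271 : act 3 n11498 = n11222 := d5_2 F15336 D11498 F15458
theorem F16272 : act 4 n10994 = n11498 := d17_0 (iv D11498) (iv F14939) F14938 D11026 F14957 F14956 F10891 (iv F11327) (iv F15134) F15133 F13364 (iv F14855)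
def n11499 : Q := act 4 n10359
theorem D11499 : act 4 n10359 = n11499 := rfl
theorem F16273 : act 0 n11499 = n10361 := d3_1 D11499 (iv D10361) D10359
theorem F16274 : act 1 n11499 = n10994 := d6_1 D11499 F16272 (iv D11498)
theorem F16275 : act 2 n11499 = n11241 := d8_1 D11499 F15512 (iv F15355) F15357 (iv D11026) (iv F14938) F14939
theorem F16276 : act 3 n11499 = n11212 := d9_1 D11499 (iv F15427) F15328 D11487 F16234 (iv F15456) F15336
def n11500 : Q := act 0 n10360
theorem D11500 : act 0 n10360 = n11500 := rfl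
theorem F16277 : act 1 n11500 = n10492 := d0_2 (iv F13285) D11500 (iv F14782) (iv F16168) F16167 F13443 (iv F10270)
theorem F16278 : act 3 n11500 = n10491 := d2_2 (iv F13286) D11500 (iv F15091) (iv F16016) F16014 F15904 F14162
theorem F16279 : act 4 n11500 = n10750 := d3_2 (iv F13287) D11500 F14219
def n11501 : Q := act 0 n10362
theorem D11501 : act 0 n10362 = n11501 := rfl
theorem F16280 : act 1 n11501 = n11501 := d0_2 D10362 D11501 (iv D11501) (iv D10362) (iv F8598) F4053 F8598
theorem F16281 : act 3 n11501 = n11223 := d2_2 (iv F13290) D11501 F15460 F15344 F14864 F10708 D9176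
theorem F16282 : act 4 n11501 = n10364 := d3_2 (iv F13291) D11501 (iv D10364)
theorem F16283 : act 2 n11501 = n10995 := d10_2 (iv F13290) D11501 F14857 F10701 F5869 D6410 D9176
def n11502 : Q := act 4 n10373
theorem D11502 : act 4 n10373 = n11502 := rfl
theorem F16284 : act 0 n11502 = n10374 := d3_1 D11502 (iv D10374) D10373
theorem F16285 : act 1 n11502 = n10957 := d6_1 D11502 F14740 F13472
theorem F16286 : act 3 n11502 = n11454 := d9_1 D11502 (iv F16133) F15835 F13310 D11457 F16142 F15888
def n11503 : Q := act 2 n10382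
theorem D11503 : act 2 n10382 = n11503 := rfl
theorem F16287 : act 0 n11503 = n11133 := d1_1 D11503 F15213 F14141 F12866 F12473 F10134 (iv F13347)
theorem F16288 : act 1 n11503 = n11108 := d4_1 D11503 (iv F16002) (iv D11407) (iv D10121) (iv F12416) F12417 (iv F13348)
theorem F16289 : act 3 n11503 = n11103 := d7_2 F15364 D11503 (iv F15363)
theorem F16290 : act 4 n11503 = n11145 := d8_2 D10382 D11503 F15246 (iv D10713) (iv D8587) D8588 F9649
def n11504 : Q := act 2 n10390
theorem D11504 : act 2 n10390 = n11504 := rfl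
theorem F16291 : act 0 n11504 = n11132 := d1_1 D11504 F15210 F14149 F12902 F12498 F10129 (iv F13372)
theorem F16292 : act 3 n11504 = n11111 := d7_2 F15352 D11504 (iv F15351)
theorem F16293 : act 4 n11504 = n11102 := d8_2 D10390 D11504 F15147 F14153 F9781 (iv F9658) F9656
theorem F16294 : act 1 n11106 = n11504 := d16_3 D6645 D9367 (iv F15154) (iv D11504) F13373 (iv D9136) (iv D6370) D6368 D9133 (iv F11161) F11160 F6231
def n11505 : Q := act 1 n10395
theorem D11505 : act 1 n10395 = n11505 := rfl
theorem F16295 : act 2 n11505 = n11424 := d4_2 D10395 D11505 F16049 F15676 (iv F14278) (iv D10774) F9972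
theorem F16296 : act 3 n11505 = n10408 := d5_2 (iv F13382) D11505 (iv D10408)
def n11506 : Q := act 4 n10395
theorem D11506 : act 4 n10395 = n11506 := rfl
theorem F16297 : act 0 n11506 = n10850 := d3_1 D11506 F14463 (iv F13383)
theorem F16298 : act 2 n11506 = n10416 := d8_1 D11506 F13420 F8808 (iv D6080) (iv F4142) D8094 D10395
theorem F16299 : act 3 n11506 = n10398 := d12_2 (iv F13382) D11506 F13387 F10171 (iv D6077) D6076 (iv F8784)
def n11507 : Q := act 0 n10396
theorem D11507 : act 0 n10396 = n11507 := rfl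
theorem F16300 : act 2 n11507 = n10921 := d1_2 (iv F13384) D11507 F14655 D11416 F16028 (iv D10144) (iv F12836)
theorem F16301 : act 3 n10920 = n11507 := d7_0 F16300 (iv D10921) D10920
def n11508 : Q := act 3 n10396
theorem D11508 : act 3 n10396 = n11508 := rfl
theorem F16302 : act 1 n11508 = n10397 := d5_1 D11508 (iv D10397) D10396
theorem F16303 : act 2 n11508 = n11425 := d7_1 D11508 (iv D11425) (iv F13384)
def n11509 : Q := act 4 n10396
theorem D11509 : act 4 n10396 = n11509 := rfl
theorem F16304 : act 1 n11509 = n10398 := d6_1 D11509 (iv D10398) D10396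
theorem F16305 : act 2 n11509 = n10941 := d8_1 D11509 F14705 (iv F16047) (iv D11423) (iv D10140) D10142 (iv F13384)
def n11510 : Q := act 4 n10397
theorem D11510 : act 4 n10397 = n11510 := rfl
theorem F16306 : act 0 n11510 = n10849 := d3_1 D11510 (iv D10849) (iv F13385)
theorem F16307 : act 2 n11510 = n10415 := d8_1 D11510 (iv D10415) F8799 D8855 (iv F13391) (iv D10399) (iv F13386)
theorem F16308 : act 3 n11510 = n10409 := d9_1 D11510 (iv D10409) (iv F13382) D11506 F16299 (iv D10398) D10397
def n11511 : Q := act 0 n10400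
theorem D11511 : act 0 n10400 = n11511 := rfl
theorem F16309 : act 1 n11511 = n11408 := d0_2 D10400 D11511 F16003 F12799 F11301 (iv F8621) D8097
theorem F16310 : act 4 n11511 = n11407 := d17_0 (iv D11407) (iv D10121) (iv D7702) (iv D4821) (iv F3022) F3021 (iv D2724) D2725 D5161 (iv F8775) D10400 D11511
def n11512 : Q := act 3 n10400
theorem D11512 : act 3 n10400 = n11512 := rfl
theorem F16311 : act 1 n11512 = n10401 := d5_1 D11512 (iv D10401) D10400
theorem F16312 : act 2 n11512 = n11315 := d7_1 D11512 (iv F15860) F15861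
theorem F16313 : act 4 n10802 = n11512 := d8_0 F16312 (iv D11315) (iv F14337) (iv D10801) (iv D8765) D8767 D10802
def n11513 : Q := act 4 n10400
theorem D11513 : act 4 n10400 = n11513 := rfl
theorem F16314 : act 0 n11513 = n11407 := d3_1 D11513 (iv F16310) (iv D11511)
theorem F16315 : act 1 n11513 = n10402 := d6_1 D11513 (iv D10402) D10400
theorem F16316 : act 2 n11513 = n10788 := d8_1 D11513 F14311 (iv F14336) (iv F15857) (iv D11360) D11361 F15861
theorem F16317 : act 3 n10787 = n11513 := d7_0 F16316 (iv D10788) D10787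
def n11514 : Q := act 4 n10401
theorem D11514 : act 4 n10401 = n11514 := rfl
theorem F16318 : act 0 n11514 = n10845 := d3_1 D11514 (iv D10845) (iv F13392)
theorem F16319 : act 1 n11514 = n10802 := d6_1 D11514 F16313 F16311
theorem F16320 : act 2 n11514 = n10412 := d8_1 D11514 (iv D10412) F8794 D8111 (iv F13408) (iv D10410) (iv F13393)
theorem F16321 : act 3 n11514 = n10406 := d12_2 D10401 D11514 F13400 (iv F13397) (iv D10403) (iv D8098) D8097
def n11515 : Q := act 3 n10402
theorem D11515 : act 3 n10402 = n11515 := rfl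
theorem F16322 : act 0 n11515 = n10841 := d2_1 D11515 F14440 (iv F10393) F10395 F5534 F8778 (iv F13394)
theorem F16323 : act 1 n11515 = n10787 := d5_1 D11515 F16317 F16315
theorem F16324 : act 2 n11515 = n10411 := d7_1 D11515 F13410 (iv F13395)
theorem F16325 : act 4 n11515 = n10405 := d9_2 D10402 D11515 (iv D10405) D10406 (iv F16321) (iv D11514) (iv D10401)
def n11516 : Q := act 0 n10404
theorem D11516 : act 0 n10404 = n11516 := rfl
theorem F16326 : act 1 n11516 = n11476 := d0_2 D10404 D11516 F16201 F13214 F11311 F6405 D8101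
def n11517 : Q := act 3 n10404
theorem D11517 : act 3 n10404 = n11517 := rfl
theorem F16327 : act 1 n11517 = n10405 := d5_1 D11517 (iv D10405) D10404
theorem F16328 : act 2 n11517 = n11308 := d7_1 D11517 (iv F15877) F15878
theorem F16329 : act 4 n10787 = n11517 := d8_0 F16328 (iv D11308) (iv F14307) (iv D10785) (iv D8744) D8746 D10787
def n11518 : Q := act 4 n10404
theorem D11518 : act 4 n10404 = n11518 := rfl
theorem F16330 : act 1 n11518 = n10406 := d6_1 D11518 (iv D10406) D10404
theorem F16331 : act 2 n11518 = n10786 := d8_1 D11518 (iv D10786) (iv F14306) (iv F15874) (iv D11366) D11367 F15878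
theorem F16332 : act 3 n11518 = n10802 := d9_1 D11518 F16313 (iv D11512) D11513 (iv F16317) F16329 (iv D11517)
def n11519 : Q := act 0 n10408
theorem D11519 : act 0 n10408 = n11519 := rfl
theorem F16333 : act 2 n11519 = n10936 := d1_2 F14428 D11519 F14691 D11441 F16096 (iv D10194) (iv F12927)
theorem F16334 : act 3 n10935 = n11519 := d7_0 F16333 (iv D10936) D10935
def n11520 : Q := act 4 n10408
theorem D11520 : act 4 n10408 = n11520 := rfl
theorem F16335 : act 1 n11520 = n10409 := d6_1 D11520 (iv D10409) D10408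
theorem F16336 : act 2 n11520 = n10926 := d8_1 D11520 F14668 (iv F16111) (iv D11446) (iv D10190) D10192 F14428
def n11521 : Q := act 4 n10424
theorem D11521 : act 4 n10424 = n11521 := rfl
theorem F16337 : act 0 n11521 = n11386 := d3_1 D11521 F15937 F14494
theorem F16338 : act 1 n11521 = n10759 := d6_1 D11521 F16045 F16042
theorem F16339 : act 2 n11521 = n10435 := d8_1 D11521 F14503 (iv D10864) (iv D8900) D8898 F10246 (iv F13438)
theorem F16340 : act 3 n11521 = n10430 := d12_2 D10424 D11521 (iv F14531) (iv F15940) F15941 F14524 F10301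
def n11522 : Q := act 3 n10425
theorem D11522 : act 3 n10425 = n11522 := rfl
theorem F16341 : act 0 n11522 = n11389 := d2_1 D11522 (iv D11389) F12545 (iv D8209) (iv F7777) D10028 (iv F13439)
theorem F16342 : act 1 n11522 = n10768 := d5_1 D11522 F16048 F16046
theorem F16343 : act 2 n11522 = n10426 := d7_1 D11522 (iv D10426) (iv F13440)
theorem F16344 : act 4 n11522 = n10429 := d9_2 D10425 D11522 (iv D10429) D10430 (iv F16340) (iv D11521) (iv D10424)
def n11523 : Q := act 4 n10443
theorem D11523 : act 4 n10443 = n11523 := rfl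
theorem F16345 : act 0 n11523 = n11391 := d3_1 D11523 F15955 (iv F13479)
theorem F16346 : act 1 n11523 = n10928 := d6_1 D11523 F15004 F15002
theorem F16347 : act 3 n10723 = n11523 := d5_0 F16346 (iv D10928) (iv F14161)
def n11524 : Q := act 4 n10444
theorem D11524 : act 4 n10444 = n11524 := rfl
theorem F16348 : act 0 n11524 = n11393 := d3_1 D11524 F15962 (iv F13481)
theorem F16349 : act 1 n11524 = n10932 := d6_1 D11524 F15007 F15005
theorem F16350 : act 3 n11524 = n10721 := d9_1 D11524 (iv D10721) (iv F13478) D11523 (iv F16347) (iv D10723) (iv F13480)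
def n11525 : Q := act 4 n10449
theorem D11525 : act 4 n10449 = n11525 := rfl
theorem F16351 : act 0 n11525 = n10839 := d3_1 D11525 (iv D10839) (iv F13489)
theorem F16352 : act 1 n11525 = n10452 := d6_1 D11525 (iv D10452) (iv F13488)
theorem F16353 : act 2 n11525 = n10648 := d8_1 D11525 (iv D10648) D10647 F13968 F13580 (iv F14853) F14854
theorem F16354 : act 3 n11525 = n10458 := d9_1 D11525 (iv D10458) (iv F13486) (iv D10447) (iv D8168) D8169 D10449
def n11526 : Q := act 2 n10453
theorem D11526 : act 2 n10453 = n11526 := rfl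
theorem F16355 : act 0 n11526 = n11373 := d1_1 D11526 (iv D11373) F12446 (iv F15426) F15425 F15331 F15041
theorem F16356 : act 1 n11526 = n11219 := d4_1 D11526 (iv D11219) (iv D9594) F6792 (iv F5569) (iv F8902) D10453
theorem F16357 : act 4 n11526 = n11394 := d8_2 (iv F13499) D11526 F15963 (iv F14790) F14789 F11670 (iv F9812)
def n11527 : Q := act 3 n10453
theorem D11527 : act 3 n10453 = n11527 := rfl
theorem F16358 : act 0 n11527 = n10859 := d2_1 D11527 F14486 (iv F14200) F14202 (iv F15896) (iv F15899) F15041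
theorem F16359 : act 1 n11527 = n10454 := d5_1 D11527 (iv D10454) D10453
theorem F16360 : act 4 n11527 = n10650 := d12_1 D11527 F13976 F12458 (iv F12451) D11374 (iv F15899) F15041
def n11528 : Q := act 2 n10455
theorem D11528 : act 2 n10455 = n11528 := rfl
theorem F16361 : act 0 n11528 = n11377 := d1_1 D11528 (iv D11377) F12455 (iv F15455) F15454 F15339 F15043
theorem F16362 : act 1 n11528 = n11220 := d4_1 D11528 (iv D11220) (iv D9599) (iv F10447) (iv D8985) (iv F8911) D10455
theorem F16363 : act 4 n11528 = n11401 := d8_2 (iv F13502) D11528 F15986 F15090 F15088 F11685 D9994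
def n11529 : Q := act 3 n10455
theorem D11529 : act 3 n10455 = n11529 := rfl
theorem F16364 : act 0 n11529 = n10860 := d2_1 D11529 (iv D10860) (iv F11562) F12522 (iv F15914) F15916 F15043
theorem F16365 : act 1 n11529 = n10456 := d5_1 D11529 (iv D10456) D10455
theorem F16366 : act 4 n11529 = n10649 := d9_2 (iv F13502) D11529 F13974 (iv F13499) D11527 F16360 F13976
def n11530 : Q := act 2 n10459
theorem D11530 : act 2 n10459 = n11530 := rfl
theorem F16367 : act 1 n11530 = n11053 := d4_1 D11530 F15029 (iv F15042) (iv F15331) F15330 (iv F15327) F15326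
theorem F16368 : act 4 n11530 = n11052 := d8_2 (iv F13509) D11530 F15353 F11176 D9467 (iv F15178) (iv D11121)
theorem F16369 : act 3 n11511 = n11530 := d5_0 F16367 F16005 (iv F16309)
def n11531 : Q := act 3 n10459
theorem D11531 : act 3 n10459 = n11531 := rfl
theorem F16370 : act 1 n11531 = n11351 := d5_1 D11531 F15833 F15326
theorem F16371 : act 2 n11531 = n11511 := d7_1 D11531 F16369 (iv D11530)
theorem F16372 : act 4 n11531 = n11118 := d12_1 D11531 (iv D11118) (iv D9372) F6246 D6770 F8921 D10459
theorem F16373 : act 0 n11531 = n11359 := d16_8 D6950 F6777 (iv D4104) (iv F1851) (iv F4226) D8181 D10459 D11531 F15854 (iv D10064) F7910 F6754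
def n11532 : Q := act 0 n10460
theorem D11532 : act 0 n10460 = n11532 := rfl
theorem F16374 : act 4 n11532 = n11110 := d3_2 (iv F13512) D11532 (iv D11110)
theorem F16375 : act 2 n11532 = n11123 := d11_4 (iv F6249) (iv F8926) D10460 D11532 (iv D11123) (iv D9376) (iv D6655)
theorem F16376 : act 3 n11532 = n11363 := d12_4 F11170 D9469 (iv F13511) D11532 (iv F16066) (iv F16067) (iv D11109)
def n11533 : Q := act 1 n10464
theorem D11533 : act 1 n10464 = n11533 := rfl
theorem F16377 : act 0 n11533 = n11111 := d0_1 D11533 (iv D11111) (iv D9367) F9817 (iv D8662) (iv F8927) D10464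
theorem F16378 : act 2 n11533 = n11523 := d4_2 F15626 D11533 F16346 (iv F15763) F15762 F15605 (iv F15625)
theorem F16379 : act 4 n11533 = n10886 := d6_2 (iv F13518) D11533 F14560
theorem F16380 : act 3 n10888 = n11533 := d16_2 F11248 (iv F14565) (iv D11533) (iv F15626) F15625 (iv F15582) F15584 F12188 (iv F12194) F12195 F11402 F11349
def n11534 : Q := act 3 n10464
theorem D11534 : act 3 n10464 = n11534 := rfl
theorem F16381 : act 1 n11534 = n10888 := d5_1 D11534 F16380 (iv D11533)
theorem F16382 : act 4 n11534 = n10884 := d12_1 D11534 F14553 (iv F13534) F13533 F13521 (iv D10465) D10464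
def n11535 : Q := act 1 n10469
theorem D11535 : act 1 n10469 = n11535 := rfl
theorem F16383 : act 0 n11535 = n11103 := d0_1 D11535 F15148 F11169 F9823 (iv D8663) (iv F8939) D10469
theorem F16384 : act 2 n11535 = n11524 := d4_2 F15615 D11535 F16349 (iv F15775) F15774 F15601 (iv F15614)
theorem F16385 : act 4 n11535 = n10887 := d6_2 (iv F13535) D11535 F14562
theorem F16386 : act 3 n10890 = n11535 := d16_2 D9401 (iv F14570) (iv D11535) (iv F15615) F15614 (iv F15585) (iv D11270) F11830 (iv F11833) F11834 (iv F11244) F11243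
def n11536 : Q := act 3 n10469
theorem D11536 : act 3 n10469 = n11536 := rfl
theorem F16387 : act 1 n11536 = n10890 := d5_1 D11536 F16386 (iv D11535)
theorem F16388 : act 4 n11536 = n10889 := d9_2 (iv F13535) D11536 F14569 (iv F13518) D11534 F16382 F14553
def n11537 : Q := act 2 n10474
theorem D11537 : act 2 n10474 = n11537 := rfl
theorem F16389 : act 1 n11537 = n11060 := d4_1 D11537 F15040 (iv F15044) (iv F15339) F15338 D11186 F15342
theorem F16390 : act 4 n11537 = n11059 := d8_2 (iv F13541) D11537 F15365 (iv D9363) D9361 D11105 F15153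
theorem F16391 : act 3 n11516 = n11537 := d12_0 F16390 (iv F16001) (iv F16314) (iv F16317) F16329 (iv D11517) D11516
def n11538 : Q := act 3 n10474
theorem D11538 : act 3 n10474 = n11538 := rfl
theorem F16392 : act 1 n11538 = n11370 := d5_1 D11538 F15886 F15342
theorem F16393 : act 2 n11538 = n11516 := d7_1 D11538 F16391 (iv D11537)
theorem F16394 : act 4 n11538 = n11122 := d9_2 (iv F13541) D11538 (iv D11122) (iv F13509) D11531 F16372 (iv D11118)
theorem F16395 : act 0 n11538 = n11365 := d16_8 (iv D4098) F1227 D2010 F1879 (iv F4240) D8193 D10474 D11538 F15871 (iv D10083) F7928 (iv D6953)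
def n11539 : Q := act 0 n10475
theorem D11539 : act 0 n10475 = n11539 := rfl
theorem F16396 : act 4 n11539 = n11109 := d3_2 (iv F13544) D11539 (iv D11109)
theorem F16397 : act 2 n11539 = n11116 := d11_4 D6650 F8944 D10475 D11539 (iv D11116) (iv D9371) F6243
theorem F16398 : act 3 n11539 = n11369 := d12_4 (iv D9365) D9366 (iv F13543) D11539 (iv F16085) F16084 (iv D11110)
def n11540 : Q := act 3 n10476
theorem D11540 : act 3 n10476 = n11540 := rfl
theorem F16399 : act 0 n11540 = n10534 := d2_1 D11540 (iv D10534) F9084 D8283 (iv F9106) (iv F12440) (iv F13545)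
theorem F16400 : act 1 n11540 = n10478 := d5_1 D11540 (iv D10478) D10476
theorem F16401 : act 2 n11540 = n11486 := d7_1 D11540 F16229 F15430
theorem F16402 : act 4 n11540 = n10645 := d12_1 D11540 F13961 F11810 (iv D7482) D7483 (iv F12440) (iv F13545)
def n11541 : Q := act 3 n10497
theorem D11541 : act 3 n10497 = n11541 := rfl
theorem F16403 : act 0 n11541 = n10545 := d2_1 D11541 (iv D10545) (iv D8303) D8304 (iv F12239) (iv F12242) (iv F13585)
theorem F16404 : act 1 n11541 = n10499 := d5_1 D11541 (iv D10499) D10497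
theorem F16405 : act 2 n11541 = n11498 := d7_1 D11541 F16271 F15459
theorem F16406 : act 4 n11541 = n10646 := d9_2 (iv F13586) D11541 F13963 (iv F13546) D11540 F16402 F13961
def n11542 : Q := act 4 n10506
theorem D11542 : act 4 n10506 = n11542 := rfl
theorem F16407 : act 0 n11542 = n10683 := d3_1 D11542 F14071 (iv F13611)
theorem F16408 : act 1 n11542 = n10657 := d6_1 D11542 F13996 (iv F13609)
theorem F16409 : act 2 n11542 = n10666 := d8_1 D11542 (iv D10666) (iv F14019) (iv F14407) F14406 F10617 (iv F13610)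
theorem F16410 : act 3 n11542 = n10528 := d9_1 D11542 F13669 (iv F13608) (iv D10505) (iv D8231) D8232 D10506
def n11543 : Q := act 2 n10535
theorem D11543 : act 2 n10535 = n11543 := rfl
theorem F16411 : act 0 n11543 = n10538 := d1_1 D11543 (iv F15933) F15931 (iv D10695) F9606 (iv F9086) D10535
theorem F16412 : act 1 n11543 = n11302 := d4_1 D11543 F15680 F14087 (iv F14036) F14035 F13044 (iv F13691)
theorem F16413 : act 3 n11543 = n10708 := d7_2 (iv F13690) D11543 F14128
theorem F16414 : act 4 n11543 = n10698 := d11_1 D11543 F14104 F9612 (iv D6840) D6841 (iv F9086) D10535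
def n11544 : Q := act 4 n10535
theorem D11544 : act 4 n10535 = n11544 := rfl
theorem F16415 : act 0 n11544 = n10536 := d3_1 D11544 (iv D10536) D10535
theorem F16416 : act 1 n11544 = n11337 := d6_1 D11544 F15788 (iv F13691)
theorem F16417 : act 2 n11544 = n11478 := d11_2 (iv D11543) D11544 (iv D11478) (iv F14506) (iv F15934) F15933 (iv F16411)
theorem F16418 : act 3 n11544 = n10651 := d12_2 (iv F13690) D11544 (iv D10651) (iv F9464) (iv D5911) (iv F4785) D8586
def n11545 : Q := act 0 n10537
theorem D11545 : act 0 n10537 = n11545 := rfl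
theorem F16419 : act 1 n11545 = n11342 := d0_2 (iv F13694) D11545 F15803 (iv F15506) F15504 F13965 (iv D10646)
theorem F16420 : act 2 n11545 = n11484 := d1_2 F15125 D11545 (iv D11484) (iv F14509) (iv F15799) F15801 F15710
theorem F16421 : act 3 n11545 = n10652 := d2_2 D10537 D11545 (iv D10652) (iv D8493) (iv F9102) (iv D8282) (iv F9087)
theorem F16422 : act 4 n11545 = n10547 := d3_2 (iv F13695) D11545 (iv D10547)
def n11546 : Q := act 3 n10539
theorem D11546 : act 3 n10539 = n11546 := rfl
theorem F16423 : act 0 n11546 = n10708 := d2_1 D11546 (iv F16413) F16411 (iv D10538) (iv D8278) D8279 D10539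
theorem F16424 : act 1 n11546 = n10662 := d5_1 D11546 F14011 (iv F13698)
theorem F16425 : act 2 n11546 = n10712 := d7_1 D11546 F14137 (iv F13699)
theorem F16426 : act 4 n11546 = n10661 := d12_1 D11546 F14007 F9616 (iv F4879) F4880 D8279 D10539
def n11547 : Q := act 2 n10547
theorem D11547 : act 2 n10547 = n11547 := rfl
theorem F16427 : act 0 n11547 = n10548 := d1_1 D11547 (iv F15944) F15942 F14101 F9609 (iv F9162) D10547
theorem F16428 : act 1 n11547 = n11319 := d4_1 D11547 F15728 F14077 (iv F14040) F14039 (iv F13042) (iv F13725)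
theorem F16429 : act 3 n11547 = n10699 := d7_2 (iv F13724) D11547 F14106
theorem F16430 : act 4 n11547 = n10707 := d11_1 D11547 F14126 F9632 F6623 D6849 (iv F9162) D10547
def n11548 : Q := act 3 n10549
theorem D11548 : act 3 n10549 = n11548 := rfl
theorem F16431 : act 0 n11548 = n10699 := d2_1 D11548 (iv F16429) F16427 (iv D10548) (iv D8308) D8309 D10549
theorem F16432 : act 1 n11548 = n10659 := d5_1 D11548 F14002 (iv F13727)
theorem F16433 : act 2 n11548 = n10696 := d7_1 D11548 F14100 (iv F13728)
theorem F16434 : act 4 n11548 = n10658 := d9_2 (iv F13729) D11548 F13998 (iv F13700) D11546 F16426 F14007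
def n11549 : Q := act 3 n10558
theorem D11549 : act 3 n10558 = n11549 := rfl
theorem F16435 : act 1 n11549 = n10975 := d5_1 D11549 F14800 (iv F13759)
theorem F16436 : act 2 n11549 = n10559 := d7_1 D11549 (iv D10559) D10558
theorem F16437 : act 0 n11549 = n10623 := d10_1 D11549 (iv D10623) (iv D8411) (iv D5514) D5512 D8405 (iv F13758)
theorem F16438 : act 4 n10623 = n11549 := d17_0 F16435 (iv D10975) (iv D9096) (iv F6525) (iv F6516) F6515 F6516 F6525 D9096 D10975 (iv F16435) F16437
def n11550 : Q := act 2 n10576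
theorem D11550 : act 2 n10576 = n11550 := rfl
theorem F16439 : act 0 n11550 = n10640 := d1_1 D11550 (iv D10640) (iv D8443) F4570 (iv F4552) (iv F9340) (iv F13807)
theorem F16440 : act 1 n11550 = n10960 := d4_1 D11550 (iv D10960) F10567 (iv F13607) F13606 F9478 D10576
theorem F16441 : act 3 n11550 = n10631 := d7_2 (iv F13808) D11550 (iv D10631)
theorem F16442 : act 4 n11550 = n10640 := d11_1 D11550 (iv D10640) (iv D8443) F4570 (iv F4551) (iv F9340) (iv F13807)
def n11551 : Q := act 1 n10586
theorem D11551 : act 1 n10586 = n11551 := rfl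
theorem F16443 : act 0 n11551 = n11530 := d13_3 D9291 (iv F13832) D11551 (iv D11530) (iv D10459) (iv D8181) (iv D5228) (iv D2773) (iv F1846) (iv F2829) (iv F6146)
def n11552 : Q := act 4 n10586
theorem D11552 : act 4 n10586 = n11552 := rfl
theorem F16444 : act 0 n11552 = n11053 := d3_1 D11552 (iv D11053) (iv F13832)
theorem F16445 : act 2 n11552 = n10592 := d8_1 D11552 (iv D10592) (iv D8376) (iv D5485) (iv F4513) D8373 D10586
theorem F16446 : act 3 n11552 = n10590 := d12_2 F15252 D11552 F13838 F13855 (iv D10596) (iv F11354) D11147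
def n11553 : Q := act 3 n10588
theorem D11553 : act 3 n10588 = n11553 := rfl
theorem F16447 : act 1 n11553 = n10589 := d5_1 D11553 (iv D10589) D10588
theorem F16448 : act 0 n11553 = n11537 := d10_1 D11553 (iv D11537) (iv D10474) F8943 (iv F11185) (iv F14449) F14447
def n11554 : Q := act 4 n10589
theorem D11554 : act 4 n10589 = n11554 := rfl
theorem F16449 : act 0 n11554 = n11060 := d3_1 D11554 (iv D11060) (iv F13836)
theorem F16450 : act 2 n11554 = n10593 := d8_1 D11554 (iv D10593) F9282 D8379 (iv F13843) (iv D10591) (iv F13837)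
theorem F16451 : act 3 n11554 = n10747 := d9_1 D11554 (iv F15253) F15252 D11552 F16446 (iv D10590) D10589
def n11555 : Q := act 1 n10594
theorem D11555 : act 1 n10594 = n11555 := rfl
theorem F16452 : act 0 n11555 = n10920 := d13_3 D9005 (iv F13850) D11555 (iv D10920) (iv D9013) (iv D6253) (iv D3486) (iv D1654) (iv F961) (iv F2542) (iv F5594)
theorem F16453 : act 2 n10628 = n10908 := d15_8 (iv D10920) (iv D9013) D9014 D10924 F14664 (iv F13914) F13915 D10628 (iv D10908) (iv F13850) D11555 F16452
theorem F16454 : act 2 n11555 = n11328 := d17_8 (iv F16007) (iv F16008) (iv D10640) (iv F13916) F16453 (iv D10908) (iv F13850) D11555 F15758 D11448 F16115 (iv F14749)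
theorem F16455 : act 4 n10920 = n11555 := d17_0 (iv D11555) (iv D10594) (iv D8380) F4519 F2827 F2563 (iv F2827) (iv F4519) D8380 D10594 D11555 F16452
def n11556 : Q := act 3 n10594
theorem D11556 : act 3 n10594 = n11556 := rfl
theorem F16456 : act 0 n11556 = n10915 := d2_1 D11556 F14641 (iv D9293) D9295 (iv F14622) (iv D10909) (iv F13850)
theorem F16457 : act 2 n11556 = n10595 := d7_1 D11556 (iv D10595) D10594
def n11557 : Q := act 4 n10594
theorem D11557 : act 4 n10594 = n11557 := rfl
theorem F16458 : act 0 n11557 = n10910 := d3_1 D11557 (iv D10910) (iv F13850)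
theorem F16459 : act 1 n11557 = n10920 := d6_1 D11557 F16455 (iv D11555)
theorem F16460 : act 2 n11557 = n10600 := d8_1 D11557 (iv D10600) F9296 (iv D6576) (iv F4519) D8380 D10594
def n11558 : Q := act 1 n10598
theorem D11558 : act 1 n10598 = n11558 := rfl
theorem F16461 : act 0 n11558 = n10935 := d13_3 D9041 (iv F13860) D11558 (iv D10935) (iv D9037) (iv D6267) (iv D3495) F962 D1659 D3498 D6270
theorem F16462 : act 2 n11558 = n11334 := d15_6 (iv D10626) (iv F13911) (iv F15028) (iv D10942) (iv F13860) D11558 (iv D11334) (iv F14695) (iv F15197) (iv D11128) (iv F14828) F14831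
theorem F16463 : act 4 n10935 = n11558 := d17_0 (iv D11558) (iv D10598) D10599 F13862 F11049 F10648 (iv F11049) (iv F13862) (iv D10599) D10598 D11558 F16461
def n11559 : Q := act 4 n10598
theorem D11559 : act 4 n10598 = n11559 := rfl
theorem F16464 : act 0 n11559 = n10943 := d3_1 D11559 (iv D10943) (iv F13860)
theorem F16465 : act 1 n11559 = n10935 := d6_1 D11559 F16463 (iv D11558)
theorem F16466 : act 2 n11559 = n10601 := d8_1 D11559 (iv D10601) F9300 D9289 (iv F13862) (iv D10599) D10598
def n11560 : Q := act 2 n10602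
theorem D11560 : act 2 n10602 = n11560 := rfl
theorem F16467 : act 0 n11560 = n10685 := d1_1 D11560 (iv D10685) F9583 (iv F5665) (iv F8284) D10254 (iv F13865)
theorem F16468 : act 1 n11560 = n11263 := d4_1 D11560 (iv F16114) (iv D11447) D11448 F16115 (iv D10603) D10602
theorem F16469 : act 3 n11560 = n11261 := d7_2 F13866 D11560 F15564
theorem F16470 : act 4 n11560 = n11327 := d8_2 F14778 D11560 F15756 (iv F14599) (iv F15994) F15995 (iv F14777)
def n11561 : Q := act 3 n10603
theorem D11561 : act 3 n10603 = n11561 := rfl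
theorem F16471 : act 0 n11561 = n11400 := d2_1 D11561 (iv D11400) F12637 F11134 (iv F11410) (iv F14750) F14749
theorem F16472 : act 2 n11561 = n10604 := d7_1 D11561 (iv D10604) D10603
theorem F16473 : act 4 n11410 = n11561 := d8_0 F16472 F15051 (iv D11064) F11088 D9947 (iv F12810) D11410
def n11562 : Q := act 4 n10603
theorem D11562 : act 4 n10603 = n11562 := rfl
theorem F16474 : act 0 n11562 = n11409 := d3_1 D11562 F16007 F14749
theorem F16475 : act 2 n11562 = n10605 := d8_1 D11562 F15075 (iv D11072) (iv D9325) D9323 (iv F11105) D10603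
theorem F16476 : act 3 n11562 = n11436 := d12_2 (iv D11561) D11562 (iv D11436) F13584 F13581 D11400 (iv F16471)
def n11563 : Q := act 2 n10608
theorem D11563 : act 2 n10608 = n11563 := rfl
theorem F16477 : act 0 n11563 = n10689 := d1_1 D11563 (iv D10689) F9588 (iv F5714) (iv F8314) D10271 (iv F13875)
theorem F16478 : act 1 n11563 = n11262 := d4_1 D11563 (iv F16054) (iv D11426) D11427 F16056 (iv D10609) D10608
theorem F16479 : act 3 n11563 = n11274 := d7_2 F13876 D11563 F15597
theorem F16480 : act 4 n11563 = n11260 := d8_2 F14798 D11563 F15560 (iv F14614) (iv F15998) F15999 (iv F14797)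
def n11564 : Q := act 3 n10609
theorem D11564 : act 3 n10609 = n11564 := rfl
theorem F16481 : act 0 n11564 = n11396 := d2_1 D11564 (iv D11396) F12603 F11093 (iv F11103) (iv F14800) F14799
theorem F16482 : act 2 n11564 = n10610 := d7_1 D11564 (iv D10610) D10609
theorem F16483 : act 4 n11564 = n11436 := d12_1 D11564 (iv F16476) F16474 F16006 F15001 (iv F14800) F14799
def n11565 : Q := act 4 n10609
theorem D11565 : act 4 n10609 = n11565 := rfl
theorem F16484 : act 0 n11565 = n11413 := d3_1 D11565 F16019 F14799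
theorem F16485 : act 2 n11565 = n10611 := d8_1 D11565 F15086 (iv D11075) F11125 D9480 (iv F11412) D10609
theorem F16486 : act 3 n11565 = n11410 := d9_1 D11565 F16473 (iv D11561) D11562 F16476 (iv F16483) (iv D11564)
def n11566 : Q := act 2 n10613
theorem D11566 : act 2 n10613 = n11566 := rfl
theorem F16487 : act 1 n11566 = n11081 := d4_1 D11566 (iv D11081) (iv F11435) (iv D9488) F6558 D9124 (iv F13886)
theorem F16488 : act 3 n11566 = n10634 := d7_2 F13887 D11566 (iv D10634)
def n11567 : Q := act 3 n10614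
theorem D11567 : act 3 n10614 = n11567 := rfl
theorem F16489 : act 1 n11567 = n11082 := d5_1 D11567 (iv D11082) (iv F13888)
theorem F16490 : act 2 n11567 = n10615 := d7_1 D11567 (iv D10615) D10614
def n11568 : Q := act 4 n10622
theorem D11568 : act 4 n10622 = n11568 := rfl
theorem F16491 : act 0 n11568 = n10721 := d3_1 D11568 (iv D10721) (iv F13907)
theorem F16492 : act 1 n11568 = n10625 := d6_1 D11568 (iv D10625) D10622
theorem F16493 : act 2 n11568 = n10827 := d8_1 D11568 F14396 F10156 (iv D8512) D8511 D10662 F14012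
theorem F16494 : act 3 n11568 = n10715 := d12_2 F13908 D11568 F14142 (iv F14144) (iv D10714) F9652 D8674
def n11569 : Q := act 3 n10623
theorem D11569 : act 3 n10623 = n11569 := rfl
theorem F16495 : act 0 n11569 = n10638 := d2_1 D11569 F13941 (iv F13896) (iv D10617) (iv F13758) D11549 F16437
theorem F16496 : act 1 n11569 = n11157 := d5_1 D11569 (iv F16018) F16020
theorem F16497 : act 2 n11569 = n10624 := d7_1 D11569 (iv D10624) D10623
theorem F16498 : act 4 n11569 = n10631 := d9_2 (iv F16438) D11569 (iv F16441) F16442 (iv F15285) F15286 D11549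
def n11570 : Q := act 4 n10624
theorem D11570 : act 4 n10624 = n11570 := rfl
theorem F16499 : act 0 n11570 = n10635 := d3_1 D11570 (iv D10635) (iv F13909)
theorem F16500 : act 1 n11570 = n10744 := d6_1 D11570 (iv D10744) (iv F13910)
theorem F16501 : act 3 n11570 = n10628 := d9_1 D11570 F13916 (iv F11458) F15025 (iv F15027) (iv D10625) D10624
def n11571 : Q := act 1 n10628
theorem D11571 : act 1 n10628 = n11571 := rfl
theorem F16502 : act 0 n11571 = n10723 := d0_1 D11571 F14161 (iv D9023) (iv F10471) (iv F12129) (iv F12133) D10628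
theorem F16503 : act 2 n11571 = n10826 := d4_2 (iv F16453) D11571 F14393 (iv D10663) F9531 D9005 D10908
theorem F16504 : act 3 n11571 = n10744 := d5_2 F16501 D11571 (iv F16500)
theorem F16505 : act 4 n11571 = n10639 := d6_2 (iv F13916) D11571 (iv D10639)
def n11572 : Q := act 2 n10651
theorem D11572 : act 2 n10651 = n11572 := rfl
theorem F16506 : act 0 n11572 = n10653 := d1_1 D11572 (iv F15077) F15076 (iv F15202) (iv D11129) F11221 D10651
theorem F16507 : act 3 n11572 = n11478 := d7_2 F16418 D11572 (iv F16417)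
theorem F16508 : act 4 n11572 = n10701 := d8_2 (iv F13979) D11572 (iv D10701) (iv D8563) D8561 D10699 F14106
theorem F16509 : act 1 n10952 = n11572 := d16_3 (iv D11306) D11305 F15726 (iv D11572) F13978 (iv D9845) F7321 (iv F8274) (iv F12297) (iv F12332) (iv F12654) (iv F15692)
def n11573 : Q := act 2 n10652
theorem D11573 : act 2 n10652 = n11573 := rfl
theorem F16510 : act 0 n11573 = n10655 := d1_1 D11573 (iv F15081) (iv F15083) (iv F15208) (iv D11131) F11232 D10652
theorem F16511 : act 3 n11573 = n11484 := d7_2 F16421 D11573 (iv F16420)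
theorem F16512 : act 4 n11573 = n10709 := d8_2 (iv F13981) D11573 (iv D10709) (iv D8579) D8577 D10708 F14128
theorem F16513 : act 1 n10986 = n11573 := d16_3 F15684 D11317 F15721 (iv D11573) F13980 (iv D9852) F7343 (iv F8846) (iv F12302) (iv F12380) (iv F12694) (iv F15682)
def n11574 : Q := act 4 n10671
theorem D11574 : act 4 n10671 = n11574 := rfl
theorem F16514 : act 0 n11574 = n10809 := d3_1 D11574 (iv D10809) (iv F14038)
theorem F16515 : act 1 n11574 = n10807 := d6_1 D11574 F14351 (iv F14039)
theorem F16516 : act 2 n11574 = n10676 := d8_1 D11574 (iv D10676) (iv F14046) F14341 F14340 (iv D10687) (iv F14040)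
theorem F16517 : act 3 n11574 = n10683 := d9_1 D11574 F14071 (iv F14037) (iv D10670) (iv D8529) D8530 D10671
def n11575 : Q := act 2 n10677
theorem D11575 : act 2 n10677 = n11575 := rfl
theorem F16518 : act 1 n11575 = n10693 := d4_1 D11575 (iv D10693) F9605 (iv D6230) (iv F4719) (iv F9569) D10677
theorem F16519 : act 3 n11575 = n10797 := d7_2 F14054 D11575 (iv D10797)
theorem F16520 : act 4 n11575 = n11312 := d11_1 D11575 F15709 F15707 F15612 (iv F13792) (iv F14558) F14555
def n11576 : Q := act 2 n10679
theorem D11576 : act 2 n10679 = n11576 := rfl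
theorem F16521 : act 1 n11576 = n10710 := d4_1 D11576 F14131 F9643 (iv D6241) D6240 (iv F9570) D10679
theorem F16522 : act 3 n11576 = n10789 := d7_2 F14060 D11576 (iv D10789)
theorem F16523 : act 4 n11576 = n11314 := d11_1 D11576 F15714 F15712 F15606 (iv F13798) (iv F14582) F14579
def n11577 : Q := act 2 n10692
theorem D11577 : act 2 n10692 = n11577 := rfl
theorem F16524 : act 1 n11577 = n10789 := d4_1 D11577 (iv D10789) (iv F14062) F14063 F9576 D8992 (iv F14093)
theorem F16525 : act 3 n11577 = n10710 := d7_2 F14094 D11577 F14131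
theorem F16526 : act 4 n11577 = n11311 := d8_2 D10692 D11577 (iv F15791) F15792 (iv D10695) (iv D8558) (iv F9604)
theorem F16527 : act 0 n11577 = n11167 := d10_3 (iv F14480) F14478 D11577 F15295 (iv F14117) (iv D10704) (iv F10218)
def n11578 : Q := act 3 n10693
theorem D11578 : act 3 n10693 = n11578 := rfl
theorem F16528 : act 0 n11578 = n11170 := d2_1 D11578 F15306 (iv F14124) (iv D10706) F9624 (iv F9614) (iv F14095)
theorem F16529 : act 1 n11578 = n10797 := d5_1 D11578 (iv F16519) F16518
theorem F16530 : act 2 n11578 = n10694 := d7_1 D11578 (iv D10694) D10693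
theorem F16531 : act 4 n11578 = n11313 := d9_2 F15201 D11578 (iv F15711) F15207 (iv F16525) F16526 (iv F15706)
def n11579 : Q := act 2 n10700
theorem D11579 : act 2 n10700 = n11579 := rfl
theorem F16532 : act 0 n11579 = n11479 := d1_1 D11579 F16208 F14478 D11577 F16527 (iv D11167) (iv F14107)
theorem F16533 : act 1 n11579 = n10949 := d4_1 D11579 (iv D10949) F10544 D10672 (iv F14293) (iv F15780) F15779
theorem F16534 : act 3 n11579 = n10709 := d7_2 (iv F14108) D11579 (iv D10709)
theorem F16535 : act 4 n11579 = n11478 := d8_2 D10700 D11579 (iv F16417) (iv D11544) D11543 F16414 F14104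
def n11580 : Q := act 3 n10701
theorem D11580 : act 3 n10701 = n11580 := rfl
theorem F16536 : act 0 n11580 = n11485 := d2_1 D11580 F16227 (iv D10512) (iv D8236) D8235 D10510 (iv F14109)
theorem F16537 : act 1 n11580 = n10951 := d5_1 D11580 (iv D10951) (iv F14110)
theorem F16538 : act 2 n11580 = n10702 := d7_1 D11580 (iv D10702) D10701
theorem F16539 : act 4 n11580 = n11484 := d9_2 F16508 D11580 (iv F16511) F16512 (iv F16534) F16535 (iv F16507)
def n11581 : Q := act 1 n10731
theorem D11581 : act 1 n10731 = n11581 := rfl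
theorem F16540 : act 0 n11581 = n11018 := d0_1 D11581 F14931 F11457 (iv F9796) (iv D8634) D8635 D10731
theorem F16541 : act 2 n11581 = n11488 := d4_2 (iv F14179) D11581 F16235 (iv F15973) F15972 (iv F16251) (iv D11492)
theorem F16542 : act 3 n11394 = n11581 := d7_0 F16541 F16236 (iv F15963)
def n11582 : Q := act 3 n10731
theorem D11582 : act 3 n10731 = n11582 := rfl
theorem F16543 : act 0 n11582 = n11044 := d2_1 D11582 F15003 F14154 (iv F14678) F14676 F14168 D10731
theorem F16544 : act 1 n11582 = n11394 := d5_1 D11582 F16542 (iv D11581)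
theorem F16545 : act 2 n11582 = n11493 := d7_1 D11582 (iv D11493) (iv F14179)
theorem F16546 : act 4 n11219 = n11582 := d8_0 F16545 (iv F16255) (iv F16244) (iv D11490) (iv F14257) (iv F14258) D11219
def n11583 : Q := act 1 n10732
theorem D11583 : act 1 n10732 = n11583 := rfl
theorem F16547 : act 0 n11583 = n11020 := d0_1 D11583 F14935 F11460 F9791 (iv D8638) (iv F9766) D10732
theorem F16548 : act 2 n11583 = n11500 := d4_2 (iv F14180) D11583 F16277 (iv F15977) F15976 (iv F16256) (iv D11494)
theorem F16549 : act 3 n11401 = n11583 := d7_0 F16548 F16278 (iv F15986)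
def n11584 : Q := act 3 n10732
theorem D11584 : act 3 n10732 = n11584 := rfl
theorem F16550 : act 0 n11584 = n11045 := d2_1 D11584 F15006 F14158 (iv F10510) F5621 D8637 D10732
theorem F16551 : act 1 n11584 = n11401 := d5_1 D11584 F16549 (iv D11583)
theorem F16552 : act 2 n11584 = n11495 := d7_1 D11584 (iv D11495) (iv F14180)
theorem F16553 : act 4 n11584 = n11220 := d12_1 D11584 F15452 F14680 (iv D9029) F5618 D8637 D10732
def n11585 : Q := act 4 n10732
theorem D11585 : act 4 n10732 = n11585 := rfl
theorem F16554 : act 0 n11585 = n10733 := d3_1 D11585 (iv D10733) D10732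
theorem F16555 : act 2 n11585 = n10767 := d8_1 D11585 (iv D10767) F9956 D10356 (iv F16265) (iv D11496) (iv F14180)
theorem F16556 : act 3 n11585 = n11219 := d9_1 D11585 F16546 (iv D11582) (iv F14681) (iv F15452) (iv F16553) (iv D11584)
def n11586 : Q := act 4 n10745
theorem D11586 : act 4 n10745 = n11586 := rfl
theorem F16557 : act 0 n11586 = n10746 := d3_1 D11586 (iv D10746) D10745
theorem F16558 : act 1 n11586 = n11343 := d6_1 D11586 F15807 F14959
theorem F16559 : act 2 n11586 = n10817 := d8_1 D11586 (iv D10817) F10094 D10643 F13955 (iv F15732) F15731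
theorem F16560 : act 3 n11586 = n11203 := d9_1 D11586 (iv F15401) F14196 F14148 D11204 F15404 (iv F14210)
def n11587 : Q := act 2 n10760
theorem D11587 : act 2 n10760 = n11587 := rfl
theorem F16561 : act 1 n11587 = n11506 := d4_1 D11587 F16298 (iv F14301) (iv D10782) F9986 (iv F9950) (iv F14245)
theorem F16562 : act 3 n11587 = n11509 := d7_2 F14706 D11587 F16305
theorem F16563 : act 4 n11587 = n11505 := d8_2 D10760 D11587 F16295 (iv D11424) (iv F16043) (iv F16045) (iv D10759)
theorem F16564 : act 0 n11587 = n11505 := d10_3 (iv F16027) F16025 D11587 F16296 D11519 F16333 F14691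
def n11588 : Q := act 2 n10769
theorem D11588 : act 2 n10769 = n11588 := rfl
theorem F16565 : act 1 n11588 = n11510 := d4_1 D11588 F16307 (iv F14349) (iv D10806) F10016 (iv F9961) (iv F14269)
theorem F16566 : act 3 n11588 = n11520 := d7_2 F14669 D11588 F16336
theorem F16567 : act 4 n11588 = n11508 := d8_2 D10769 D11588 F16303 F16052 (iv F16106) (iv F16108) (iv D10768)
theorem F16568 : act 0 n11588 = n11508 := d10_3 D11417 F16029 D11588 (iv D11508) D11507 F16300 F14655
def n11589 : Q := act 4 n10783
theorem D11589 : act 4 n10783 = n11589 := rfl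
theorem F16569 : act 0 n11589 = n10870 := d3_1 D11589 (iv D10870) (iv F14303)
theorem F16570 : act 1 n11589 = n10785 := d6_1 D11589 (iv D10785) D10783
theorem F16571 : act 2 n11589 = n10865 := d8_1 D11589 F14505 (iv D10420) (iv D8126) (iv F8821) (iv F10238) (iv F14302)
theorem F16572 : act 3 n11589 = n10875 := d12_2 F14304 D11589 F14529 (iv F14522) (iv D10872) F10277 D10431
def n11590 : Q := act 4 n10790
theorem D11590 : act 4 n10790 = n11590 := rfl
theorem F16573 : act 1 n11590 = n10792 := d6_1 D11590 (iv D10792) D10790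
theorem F16574 : act 2 n11590 = n10907 := d8_1 D11590 F14620 F13062 D10253 D11464 F16166 (iv F14314)
theorem F16575 : act 3 n11590 = n10906 := d12_2 F14317 D11590 F14617 F10652 F10557 (iv D9062) D9061
def n11591 : Q := act 4 n10791
theorem D11591 : act 4 n10791 = n11591 := rfl
theorem F16576 : act 0 n11591 = n11534 := d3_1 D11591 F16382 F14554
theorem F16577 : act 1 n11591 = n10901 := d6_1 D11591 F14601 (iv F14318)
theorem F16578 : act 2 n11591 = n10954 := d11_2 F14319 D11591 F14734 (iv F14558) (iv D10885) D10884 F14554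
theorem F16579 : act 3 n11591 = n10796 := d12_2 D10791 D11591 F14327 (iv F14323) (iv D10793) (iv D8753) D8752
def n11592 : Q := act 3 n10792
theorem D11592 : act 3 n10792 = n11592 := rfl
theorem F16580 : act 0 n11592 = n11536 := d2_1 D11592 (iv D11536) (iv D10469) (iv D8190) (iv F5204) (iv F11336) (iv F14320)
theorem F16581 : act 1 n11592 = n10906 := d5_1 D11592 (iv F16575) F16573
theorem F16582 : act 2 n11592 = n10987 := d7_1 D11592 (iv F14836) (iv F14321)
theorem F16583 : act 4 n11592 = n10795 := d9_2 D10792 D11592 (iv D10795) D10796 (iv F16579) (iv D11591) (iv D10791)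
def n11593 : Q := act 4 n10794
theorem D11593 : act 4 n10794 = n11593 := rfl
theorem F16584 : act 1 n11593 = n10796 := d6_1 D11593 (iv D10796) D10794
theorem F16585 : act 2 n11593 = n10902 := d8_1 D11593 F14605 F13098 (iv F13070) (iv F16169) F16170 F14345
theorem F16586 : act 3 n11593 = n10901 := d9_1 D11593 F14601 F14317 D11590 F16575 F14616 (iv F14326)
def n11594 : Q := act 4 n10799
theorem D11594 : act 4 n10799 = n11594 := rfl
theorem F16587 : act 0 n11594 = n10871 := d3_1 D11594 F14519 (iv F14333)
theorem F16588 : act 1 n11594 = n10801 := d6_1 D11594 (iv D10801) D10799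
theorem F16589 : act 2 n11594 = n10868 := d8_1 D11594 F14511 F13434 F8828 (iv F8844) (iv F10300) (iv F14332)
theorem F16590 : act 3 n11594 = n10879 := d9_1 D11594 F14540 F14304 D11589 F16572 (iv D10875) F14334
def n11595 : Q := act 3 n10833
theorem D11595 : act 3 n10833 = n11595 := rfl
theorem F16591 : act 1 n11595 = n11055 := d5_1 D11595 (iv F15851) F15849
theorem F16592 : act 2 n11595 = n11348 := d7_1 D11595 (iv D11348) (iv F14416)
theorem F16593 : act 0 n11595 = n11054 := d10_1 D11595 F15031 (iv F15332) F15333 F12861 (iv F12892) D10833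
theorem F16594 : act 4 n11054 = n11595 := d17_0 F16591 F15033 (iv D9303) (iv D6592) (iv F3546) F3545 F3546 D6592 D9303 (iv F15033) (iv F16591) F16593
def n11596 : Q := act 0 n10834
theorem D11596 : act 0 n10834 = n11596 := rfl
theorem F16595 : act 1 n11596 = n10836 := d0_2 (iv F14418) D11596 F14424 (iv F10763) F10762 F10195 (iv F10169)
theorem F16596 : act 2 n11596 = n11349 := d1_2 (iv F14419) D11596 (iv D11349) (iv F15220) F15219 (iv D10167) (iv F12879)
theorem F16597 : act 3 n11596 = n10838 := d2_2 D10834 D11596 F14430 (iv F15030) (iv F16593) (iv D11595) (iv D10833)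
theorem F16598 : act 4 n11596 = n10834 := d17_0 F14418 F10168 D8850 F10173 (iv F7492) F7491 F7492 (iv F10173) (iv D8850) (iv F10168) (iv F14418) D11596
def n11597 : Q := act 3 n10837
theorem D11597 : act 3 n10837 = n11597 := rfl
theorem F16599 : act 0 n11597 = n11056 := d2_1 D11597 F15034 (iv F14420) (iv F14423) (iv D8851) D8852 D10837
theorem F16600 : act 1 n11597 = n11057 := d5_1 D11597 (iv F15912) F15911
theorem F16601 : act 2 n11597 = n11350 := d7_1 D11597 (iv D11350) (iv F14427)
theorem F16602 : act 4 n11597 = n11056 := d9_2 F14429 D11597 F15034 (iv F14417) D11595 (iv F16594) F15030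
def n11598 : Q := act 4 n10840
theorem D11598 : act 4 n10840 = n11598 := rfl
theorem F16603 : act 0 n11598 = n11517 := d3_1 D11598 (iv F16329) (iv F14437)
theorem F16604 : act 1 n11598 = n10841 := d6_1 D11598 (iv D10841) D10840
theorem F16605 : act 2 n11598 = n11120 := d8_1 D11598 F15176 (iv F15138) (iv D11099) F11163 D9358 F14438
theorem F16606 : act 3 n10844 = n11598 := d7_0 F16605 (iv D11120) (iv F14449)
def n11599 : Q := act 3 n10842
theorem D11599 : act 3 n10842 = n11599 := rfl
theorem F16607 : act 1 n11599 = n11552 := d5_1 D11599 F16446 (iv F14441)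
theorem F16608 : act 2 n11599 = n11038 := d7_1 D11599 (iv D11038) (iv F14442)
theorem F16609 : act 0 n11599 = n11052 := d10_1 D11599 F15353 (iv D9367) (iv D6645) (iv F6231) F10390 D10842
theorem F16610 : act 4 n11551 = n11599 := d3_0 F16609 (iv F16368) (iv F16443)
def n11600 : Q := act 4 n10843
theorem D11600 : act 4 n10843 = n11600 := rfl
theorem F16611 : act 0 n11600 = n11512 := d3_1 D11600 (iv F16313) (iv F14446)
theorem F16612 : act 1 n11600 = n10845 := d6_1 D11600 (iv D10845) (iv F14444)
theorem F16613 : act 2 n11600 = n11119 := d8_1 D11600 (iv D11119) (iv F15141) F15142 F11383 (iv F11168) (iv F14445)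
theorem F16614 : act 3 n11600 = n10855 := d9_1 D11600 (iv D10855) (iv F14436) D11598 (iv F16606) (iv D10844) D10843
def n11601 : Q := act 3 n10846
theorem D11601 : act 3 n10846 = n11601 := rfl
theorem F16615 : act 1 n11601 = n10910 := d5_1 D11601 F14625 (iv F14452)
theorem F16616 : act 2 n11601 = n10981 := d7_1 D11601 F14819 (iv F14453)
theorem F16617 : act 0 n11601 = n10908 := d10_1 D11601 (iv F16453) (iv D10628) (iv D8414) (iv F9327) (iv F10191) D10846
theorem F16618 : act 4 n10908 = n11601 := d17_0 F16615 F14624 (iv D9287) (iv D6577) (iv F4644) F4643 F4644 D6577 D9287 (iv F14624) (iv F16615) F16617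
def n11602 : Q := act 3 n10851
theorem D11602 : act 3 n10851 = n11602 := rfl
theorem F16619 : act 0 n11602 = n10942 := d2_1 D11602 F14707 (iv F14457) (iv F16239) F16241 (iv D10852) D10851
theorem F16620 : act 1 n11602 = n10943 := d5_1 D11602 F14709 (iv F14464)
theorem F16621 : act 2 n11602 = n10983 := d7_1 D11602 F14826 (iv F14465)
theorem F16622 : act 4 n11602 = n10942 := d12_1 D11602 F14707 (iv F14457) (iv F16239) F16240 (iv D10852) D10851
def n11603 : Q := act 4 n10851
theorem D11603 : act 4 n10851 = n11603 := rfl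
theorem F16623 : act 0 n11603 = n10853 := d3_1 D11603 (iv D10853) D10851
theorem F16624 : act 1 n11603 = n10909 := d6_1 D11603 (iv F14623) (iv F14464)
theorem F16625 : act 2 n11603 = n11570 := d8_1 D11603 (iv D11570) (iv F16497) F16498 (iv D10631) D10632 (iv F14465)
theorem F16626 : act 3 n11603 = n10908 := d9_1 D11603 F16618 (iv D11601) F14454 (iv F14707) (iv F16622) (iv D11602)
def n11604 : Q := act 3 n10854
theorem D11604 : act 3 n10854 = n11604 := rfl
theorem F16627 : act 0 n11604 = n11059 := d2_1 D11604 (iv F16001) (iv F16314) (iv F16317) (iv F14437) F14436 D10854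
theorem F16628 : act 1 n11604 = n11554 := d5_1 D11604 F16451 (iv F14470)
theorem F16629 : act 2 n11604 = n11037 := d7_1 D11604 F14987 (iv F14471)
theorem F16630 : act 4 n11604 = n11553 := d12_1 D11604 (iv D11553) (iv F14447) F16606 (iv D11598) F14436 D10854
def n11605 : Q := act 4 n10854
theorem D11605 : act 4 n10854 = n11605 := rfl
theorem F16631 : act 0 n11605 = n10855 := d3_1 D11605 (iv D10855) D10854
theorem F16632 : act 1 n11605 = n11147 := d6_1 D11605 F15253 (iv F14470)
theorem F16633 : act 2 n11605 = n11153 := d8_1 D11605 (iv D11153) (iv F15262) (iv D11150) (iv D9453) D9454 (iv F14471)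
theorem F16634 : act 3 n11605 = n11551 := d9_1 D11605 F16610 (iv D11599) F14443 D11553 (iv F16630) (iv D11604)
def n11606 : Q := act 1 n10893
theorem D11606 : act 1 n10893 = n11606 := rfl
theorem F16635 : act 0 n11606 = n10980 := d0_1 D11606 (iv F14817) (iv F16407) F16408 F13994 (iv F13806) (iv F14576)
theorem F16636 : act 2 n11606 = n11453 := d4_2 D10893 D11606 F16130 F13862 F11049 (iv D9103) (iv F10385)
theorem F16637 : act 3 n11606 = n11042 := d5_2 (iv F14577) D11606 (iv D11042)
theorem F16638 : act 4 n11606 = n11031 := d6_2 (iv F14578) D11606 F14973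
def n11607 : Q := act 1 n10914
theorem D11607 : act 1 n10914 = n11607 := rfl
theorem F16639 : act 0 n11607 = n11518 := d0_1 D11607 F16330 F13400 (iv F11345) (iv F14630) F14631 D10914
theorem F16640 : act 2 n11607 = n11106 := d4_2 (iv F14638) D11607 F16294 (iv D11504) F13373 D11000 F14869
theorem F16641 : act 3 n11607 = n11052 := d5_2 (iv F14639) D11607 (iv D11052)
theorem F16642 : act 4 n11607 = n11516 := d6_2 F16200 D11607 F16326
def n11608 : Q := act 0 n10916
theorem D11608 : act 0 n10916 = n11608 := rfl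
theorem F16643 : act 1 n11608 = n10950 := d0_2 (iv F14643) D11608 (iv D10950) (iv F14110) F14109 (iv F13985) F13984
theorem F16644 : act 3 n11608 = n11273 := d2_2 F14644 D11608 F15594 F11864 F7427 (iv F6980) (iv F11873)
theorem F16645 : act 4 n11608 = n11266 := d3_2 (iv F14642) D11608 F15574
def n11609 : Q := act 1 n10918
theorem D11609 : act 1 n10918 = n11609 := rfl
theorem F16646 : act 0 n11609 = n11575 := d0_1 D11609 F16518 F14095 (iv F11224) (iv F14627) F14626 D10918
theorem F16647 : act 2 n11609 = n11534 := d4_2 F15760 D11609 F16381 F14566 F14161 (iv F12092) D11329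
theorem F16648 : act 3 n11609 = n11285 := d5_2 (iv F14649) D11609 F15625
theorem F16649 : act 4 n11609 = n11281 := d6_2 (iv F14648) D11609 F15611
def n11610 : Q := act 2 n10922
theorem D11610 : act 2 n10922 = n11610 := rfl
theorem F16650 : act 0 n11610 = n11448 := d1_1 D11610 (iv D11448) (iv D10193) F8152 (iv F8119) F10492 (iv F14657)
theorem F16651 : act 1 n11610 = n11562 := d4_1 D11610 F16475 F13869 (iv F14546) F14545 (iv F12769) (iv F14658)
theorem F16652 : act 3 n11610 = n11439 := d7_2 F14659 D11610 (iv D11439)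
theorem F16653 : act 4 n11610 = n11448 := d8_2 D10922 D11610 (iv D11448) (iv F15758) (iv F16454) (iv F16455) (iv D10920)
def n11611 : Q := act 0 n10925
theorem D11611 : act 0 n10925 = n11611 := rfl
theorem F16654 : act 4 n11611 = n11441 := d3_2 F14666 D11611 F16096
theorem F16655 : act 2 n11611 = n11443 := d11_4 D7767 F10498 (iv F14665) D11611 (iv D11443) (iv D10188) F8150
def n11612 : Q := act 1 n10931
theorem D11612 : act 1 n10931 = n11612 := rfl
theorem F16656 : act 0 n11612 = n11288 := d0_1 D11612 F15634 F15281 (iv F14176) F14175 F11337 (iv F14680)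
theorem F16657 : act 2 n11612 = n11529 := d4_2 D10931 D11612 F16365 F13504 F10427 (iv F11659) F11658
theorem F16658 : act 3 n11612 = n11528 := d5_2 F15452 D11612 F16362
theorem F16659 : act 4 n11612 = n11581 := d6_2 (iv F14681) D11612 (iv D11581)
def n11613 : Q := act 2 n10937
theorem D11613 : act 2 n10937 = n11613 := rfl
theorem F16660 : act 0 n11613 = n11427 := d1_1 D11613 (iv D11427) (iv D10143) F8113 D7725 F10527 (iv F14692)
theorem F16661 : act 1 n11613 = n11565 := d4_1 D11613 F16485 F13879 (iv F14974) F14973 (iv F12743) (iv F14693)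
theorem F16662 : act 3 n11613 = n11406 := d7_2 (iv F14694) D11613 (iv D11406)
theorem F16663 : act 4 n11613 = n11427 := d8_2 D10937 D11613 (iv D11427) (iv F15777) (iv F16462) (iv F16463) (iv D10935)
def n11614 : Q := act 0 n10940
theorem D11614 : act 0 n10940 = n11614 := rfl
theorem F16664 : act 4 n11614 = n11416 := d3_2 (iv F14703) D11614 F16028
theorem F16665 : act 2 n11614 = n11420 := d11_4 D7726 F10524 (iv F14702) D11614 (iv D11420) (iv D10138) F8110
def n11615 : Q := act 0 n10946
theorem D11615 : act 0 n10946 = n11615 := rfl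
theorem F16666 : act 1 n11615 = n10985 := d0_2 (iv F14719) D11615 (iv D10985) (iv F14129) F14130 (iv F13991) F13990
theorem F16667 : act 3 n11615 = n11267 := d2_2 F14720 D11615 F15576 (iv D9726) F6971 F6966 (iv F11858)
theorem F16668 : act 4 n11615 = n11264 := d3_2 (iv F14718) D11615 F15569
def n11616 : Q := act 1 n10948
theorem D11616 : act 1 n10948 = n11616 := rfl
theorem F16669 : act 0 n11616 = n11576 := d0_1 D11616 F16521 (iv D10710) (iv F11235) (iv F14710) F14711 D10948
theorem F16670 : act 2 n11616 = n11536 := d4_2 F15771 D11616 F16387 F14571 F14157 (iv F12101) D11332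
theorem F16671 : act 3 n11616 = n11282 := d5_2 (iv F14725) D11616 F15614
theorem F16672 : act 4 n11616 = n11279 := d6_2 (iv F14724) D11616 (iv D11279)
def n11617 : Q := act 4 n10950
theorem D11617 : act 4 n10950 = n11617 := rfl
theorem F16673 : act 0 n11617 = n10952 := d3_1 D11617 (iv D10952) D10950
theorem F16674 : act 1 n11617 = n11266 := d6_1 D11617 (iv F16645) F16643
theorem F16675 : act 2 n11617 = n11460 := d8_1 D11617 F16151 (iv F14546) (iv D10881) F10350 D10214 (iv F14728)
theorem F16676 : act 3 n11617 = n11265 := d12_2 F15990 D11617 F15571 (iv F13021) (iv D10069) D10068 D11403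
def n11618 : Q := act 3 n10959
theorem D11618 : act 3 n10959 = n11618 := rfl
theorem F16677 : act 0 n11618 = n11211 := d2_1 D11618 F15424 F15106 (iv F14317) (iv D9061) D9062 D10959
theorem F16678 : act 1 n11618 = n11039 := d5_1 D11618 F14992 (iv F14746)
theorem F16679 : act 2 n11618 = n11014 := d7_1 D11618 (iv F14918) (iv F14748)
theorem F16680 : act 4 n11618 = n11468 := d9_2 (iv F14747) D11618 (iv D11468) (iv F13081) D11140 (iv F16173) F16172
def n11619 : Q := act 4 n10985
theorem D11619 : act 4 n10985 = n11619 := rfl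
theorem F16681 : act 0 n11619 = n10986 := d3_1 D11619 (iv D10986) D10985
theorem F16682 : act 1 n11619 = n11264 := d6_1 D11619 (iv F16668) F16666
theorem F16683 : act 2 n11619 = n11459 := d8_1 D11619 (iv D11459) (iv F14974) (iv F16638) F16636 (iv D11453) (iv F14832)
theorem F16684 : act 3 n11619 = n11272 := d9_1 D11619 (iv F15991) F15990 D11617 F16676 (iv F15573) (iv F14833)
def n11620 : Q := act 4 n11035
theorem D11620 : act 4 n11035 = n11620 := rfl
theorem F16685 : act 0 n11620 = n11105 := d3_1 D11620 (iv D11105) (iv F14982)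
theorem F16686 : act 2 n11620 = n11115 := d11_2 (iv F14981) D11620 (iv D11115) (iv D9371) (iv D6649) D6647 (iv F10937)
theorem F16687 : act 3 n11620 = n11150 := d12_2 D11035 D11620 F15260 F15139 (iv D11099) (iv D9356) (iv F10935)
def n11621 : Q := act 3 n11036
theorem D11621 : act 3 n11036 = n11621 := rfl
theorem F16688 : act 2 n11621 = n11090 := d7_1 D11621 (iv D11090) (iv F14984)
theorem F16689 : act 4 n11621 = n11046 := d9_2 D11036 D11621 F15009 D11150 (iv F16687) (iv D11620) (iv D11035)
theorem F16690 : act 0 n11621 = n11121 := d10_1 D11621 (iv D11121) (iv D9375) (iv D6653) D6651 (iv F11166) (iv F14983)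
def n11622 : Q := act 4 n11039
theorem D11622 : act 4 n11039 = n11622 := rfl
theorem F16691 : act 0 n11622 = n11040 := d3_1 D11622 (iv D11040) D11039
theorem F16692 : act 1 n11622 = n11468 := d6_1 D11622 (iv F16680) F16678
theorem F16693 : act 2 n11622 = n11502 := d8_1 D11622 (iv D11502) (iv F15887) (iv F16142) (iv F16203) F16205 (iv F14991)
theorem F16694 : act 3 n11622 = n11467 := d9_1 D11622 F16176 (iv F14979) (iv F16139) (iv F16204) F16205 (iv F14992)
def n11623 : Q := act 4 n11063
theorem D11623 : act 4 n11063 = n11623 := rfl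
theorem F16695 : act 0 n11623 = n11067 := d3_1 D11623 (iv D11067) (iv F15045)
theorem F16696 : act 1 n11623 = n11621 := d6_1 D11623 F16689 (iv F15046)
theorem F16697 : act 2 n11623 = n11065 := d8_1 D11623 F15054 (iv D10606) (iv D8396) (iv F9307) (iv F11085) D11063
theorem F16698 : act 3 n11623 = n11070 := d12_2 (iv F15047) D11623 F15066 (iv F14804) (iv D10976) (iv F10637) D9446
def n11624 : Q := act 4 n11069
theorem D11624 : act 4 n11069 = n11624 := rfl
theorem F16699 : act 0 n11624 = n11078 := d3_1 D11624 (iv D11078) (iv F15063)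
theorem F16700 : act 1 n11624 = n11620 := d6_1 D11624 (iv D11620) (iv F15064)
theorem F16701 : act 2 n11624 = n11079 := d8_1 D11624 F15097 F13874 F9318 (iv F9415) (iv F11099) (iv F15065)
theorem F16702 : act 3 n11624 = n11146 := d9_1 D11624 (iv D11146) (iv F15047) D11623 F16698 (iv D11070) D11069
def n11625 : Q := act 0 n11081
theorem D11625 : act 0 n11081 = n11625 := rfl
theorem F16703 : act 2 n11625 = n11086 := d1_2 D11081 D11625 F15110 F14438 F14437 (iv D10787) (iv F11143)
def n11626 : Q := act 4 n11081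
theorem D11626 : act 4 n11081 = n11626 := rfl
theorem F16704 : act 2 n11626 = n11089 := d8_1 D11626 (iv D11089) (iv D9348) (iv D6633) (iv F6226) D9342 D11081
theorem F16705 : act 3 n11626 = n11083 := d12_2 (iv F15102) D11626 F15104 (iv F13543) F13544 F11170 (iv F11376)
def n11627 : Q := act 0 n11082
theorem D11627 : act 0 n11082 = n11627 := rfl
theorem F16706 : act 2 n11627 = n11101 := d1_2 (iv F15103) D11627 (iv D11101) (iv F14445) F14446 (iv D10802) (iv F11437)
def n11628 : Q := act 4 n11082
theorem D11628 : act 4 n11082 = n11628 := rfl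
theorem F16707 : act 2 n11628 = n11094 := d8_1 D11628 (iv D11094) F11154 F6230 (iv F6450) (iv F11438) (iv F15103)
theorem F16708 : act 3 n11628 = n11151 := d9_1 D11628 (iv D11151) (iv F15102) D11626 F16705 (iv D11083) D11082
def n11629 : Q := act 4 n11084
theorem D11629 : act 4 n11084 = n11629 := rfl
theorem F16709 : act 0 n11629 = n11590 := d3_1 D11629 (iv D11590) (iv F15106)
theorem F16710 : act 1 n11629 = n11086 := d6_1 D11629 (iv D11086) D11084
theorem F16711 : act 2 n11629 = n11166 := d8_1 D11629 (iv D11166) (iv D9503) D9504 (iv F12706) (iv F14745) (iv F15107)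
theorem F16712 : act 3 n11629 = n11472 := d12_2 F15424 D11629 F16188 F16172 (iv F14747) D11618 F16677
def n11630 : Q := act 4 n11085
theorem D11630 : act 4 n11085 = n11630 := rfl
theorem F16713 : act 0 n11630 = n11106 := d3_1 D11630 (iv D11106) (iv F15108)
theorem F16714 : act 1 n11630 = n11473 := d6_1 D11630 F16192 F15423
theorem F16715 : act 3 n11630 = n11101 := d9_1 D11630 F15144 (iv F12966) D11451 F16124 (iv D11086) D11085
def n11631 : Q := act 1 n11087
theorem D11631 : act 1 n11087 = n11631 := rfl
theorem F16716 : act 0 n11631 = n11480 := d0_1 D11631 (iv D11480) (iv D10326) (iv D7983) D7982 (iv F11393) (iv F15112)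
theorem F16717 : act 2 n11631 = n11165 := d4_2 D11087 D11631 (iv F15482) (iv D11231) F11712 (iv F12964) F12963
theorem F16718 : act 3 n11631 = n11358 := d5_2 (iv F15111) D11631 (iv D11358)
theorem F16719 : act 4 n11163 = n11631 := d17_0 (iv D11631) (iv D11087) (iv D9347) D9345 D11084 F15106 (iv D10790) F9997 D10792 F14321 (iv F14837) (iv F15291)
def n11632 : Q := act 4 n11087
theorem D11632 : act 4 n11087 = n11632 := rfl
theorem F16720 : act 0 n11632 = n11120 := d3_1 D11632 F15176 (iv F15112)
theorem F16721 : act 1 n11632 = n11163 := d6_1 D11632 F16719 (iv D11631)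
theorem F16722 : act 3 n11632 = n11365 := d12_2 (iv F15111) D11632 (iv F16395) (iv D11538) F13541 D11118 F15171
def n11633 : Q := act 4 n11090
theorem D11633 : act 4 n11090 = n11633 := rfl
theorem F16723 : act 0 n11633 = n11123 := d3_1 D11633 (iv D11123) (iv F15115)
theorem F16724 : act 1 n11633 = n11269 := d6_1 D11633 (iv D11269) (iv F15116)
theorem F16725 : act 2 n11633 = n11551 := d8_1 D11633 F16610 F16608 F14989 D11046 (iv F16689) F16688
theorem F16726 : act 3 n11633 = n11153 := d12_2 D11090 D11633 F15268 (iv F15299) (iv D11094) (iv D9351) D9349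
def n11634 : Q := act 3 n11091
theorem D11634 : act 3 n11091 = n11634 := rfl
theorem F16727 : act 0 n11634 = n11116 := d2_1 D11634 F15863 (iv F15875) F15877 F15697 F15298 (iv F15117)
theorem F16728 : act 1 n11634 = n11270 := d5_1 D11634 (iv D11270) (iv F15118)
theorem F16729 : act 2 n11634 = n11553 := d7_1 D11634 (iv D11553) (iv F15119)
theorem F16730 : act 4 n11634 = n11115 := d9_2 D11091 D11634 F15165 D11153 (iv F16726) (iv D11633) (iv D11090)
def n11635 : Q := act 1 n11096
theorem D11635 : act 1 n11096 = n11635 := rfl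
theorem F16731 : act 0 n11635 = n11482 := d0_1 D11635 (iv D11482) (iv D10329) F8549 D7988 (iv F11184) (iv F15127)
theorem F16732 : act 2 n11635 = n11175 := d4_2 D11096 D11635 (iv F15506) (iv D11239) F11724 (iv F12970) F12969
theorem F16733 : act 3 n11635 = n11364 := d5_2 (iv F15126) D11635 (iv D11364)
theorem F16734 : act 4 n11402 = n11635 := d17_0 (iv D11635) (iv D11096) F11156 D9459 D11152 F15266 (iv D10794) F10005 D10796 (iv F14330) (iv F14736) (iv F15987)
def n11636 : Q := act 4 n11096
theorem D11636 : act 4 n11096 = n11636 := rfl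
theorem F16735 : act 0 n11636 = n11119 := d3_1 D11636 (iv D11119) (iv F15127)
theorem F16736 : act 1 n11636 = n11402 := d6_1 D11636 F16734 (iv D11635)
theorem F16737 : act 3 n11636 = n11359 := d9_1 D11636 (iv D11359) (iv F15111) D11632 F16722 (iv D11365) (iv F15126)
def n11637 : Q := act 1 n11101
theorem D11637 : act 1 n11101 = n11637 := rfl
theorem F16738 : act 0 n11637 = n11593 := d0_1 D11637 F16584 F14327 (iv F11330) (iv F15135) F15132 D11101
theorem F16739 : act 3 n11637 = n11473 := d5_2 F16715 D11637 (iv F16714)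
theorem F16740 : act 4 n11637 = n11152 := d6_2 (iv F15144) D11637 (iv D11152)
theorem F16741 : act 2 n11637 = n11172 := d14_1 D11637 F15521 (iv D11244) (iv F15511) (iv F16275) F16274 F14855 (iv F13364) (iv F15133) F15132 D11101
def n11638 : Q := act 4 n11104
theorem D11638 : act 4 n11104 = n11638 := rfl
theorem F16742 : act 0 n11638 = n11366 := d3_1 D11638 F15874 (iv F15149)
theorem F16743 : act 1 n11638 = n11449 := d6_1 D11638 F16118 (iv F15150)
theorem F16744 : act 2 n11638 = n11122 := d8_1 D11638 (iv F16394) F16393 (iv F16642) F16640 (iv D11106) (iv F15151)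
theorem F16745 : act 3 n11638 = n11121 := d12_2 D11104 D11638 (iv F16690) (iv D11621) (iv D11036) D11035 F14982
def n11639 : Q := act 3 n11105
theorem D11639 : act 3 n11105 = n11639 := rfl
theorem F16746 : act 0 n11639 = n11360 := d2_1 D11639 F15856 (iv F15136) (iv F15139) (iv F15260) (iv F16687) F16685
theorem F16747 : act 1 n11639 = n11411 := d5_1 D11639 F16012 (iv F15152)
theorem F16748 : act 2 n11639 = n11118 := d7_1 D11639 (iv D11118) (iv F15153)
theorem F16749 : act 4 n11639 = n11155 := d9_2 D11105 D11639 (iv D11155) (iv F15178) (iv F16745) (iv D11638) (iv D11104)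
def n11640 : Q := act 3 n11127
theorem D11640 : act 3 n11127 = n11640 := rfl
theorem F16750 : act 0 n11640 = n11566 := d2_1 D11640 F16488 F13933 (iv F13913) (iv F14831) F14829 D11127
theorem F16751 : act 1 n11640 = n11626 := d5_1 D11640 F16705 (iv F15194)
theorem F16752 : act 2 n11640 = n11159 := d7_1 D11640 F15282 (iv F15195)
theorem F16753 : act 4 n11640 = n11566 := d12_1 D11640 F16488 F13933 (iv F13913) (iv F14830) F14829 D11127
def n11641 : Q := act 3 n11137
theorem D11641 : act 3 n11137 = n11641 := rfl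
theorem F16754 : act 0 n11641 = n11430 := d2_1 D11641 F16064 (iv D10180) (iv F12881) (iv F15219) F15221 D11137
theorem F16755 : act 1 n11641 = n11532 := d5_1 D11641 F16376 F15868
theorem F16756 : act 2 n11641 = n11182 := d7_1 D11641 F15333 (iv F15226)
theorem F16757 : act 4 n11641 = n11430 := d12_1 D11641 F16064 (iv D10180) (iv F12881) (iv F15222) F15221 D11137
def n11642 : Q := act 3 n11138
theorem D11642 : act 3 n11138 = n11642 := rfl
theorem F16758 : act 0 n11642 = n11432 := d2_1 D11642 (iv D11432) F12855 F8129 (iv F6364) D9425 D11138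
theorem F16759 : act 1 n11642 = n11539 := d5_1 D11642 F16398 F15883
theorem F16760 : act 2 n11642 = n11183 := d7_1 D11642 F15335 (iv F15228)
theorem F16761 : act 4 n11642 = n11432 := d9_2 (iv F15229) D11642 (iv D11432) (iv F15227) D11641 F16757 F16064
def n11643 : Q := act 3 n11148
theorem D11643 : act 3 n11148 = n11643 := rfl
theorem F16762 : act 0 n11643 = n11567 := d2_1 D11643 (iv D11567) F13889 D10627 (iv F14824) F14822 D11148
theorem F16763 : act 1 n11643 = n11628 := d5_1 D11643 F16708 F15264
theorem F16764 : act 2 n11643 = n11161 := d7_1 D11643 F15288 (iv F15255)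
theorem F16765 : act 4 n11643 = n11567 := d9_2 (iv F15254) D11643 (iv D11567) (iv F15196) D11640 F16753 F16488
def n11644 : Q := act 1 n11158
theorem D11644 : act 1 n11158 = n11644 := rfl
theorem F16766 : act 0 n11644 = n11492 := d0_1 D11644 (iv D11492) (iv D10347) F8572 D9776 (iv F12835) (iv F15280)
theorem F16767 : act 2 n11644 = n11164 := d4_2 D11158 D11644 (iv D11164) (iv D9502) F6601 (iv F6573) D9491
theorem F16768 : act 3 n11644 = n11442 := d5_2 (iv F15279) D11644 (iv D11442)
def n11645 : Q := act 4 n11158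
theorem D11645 : act 4 n11158 = n11645 := rfl
theorem F16769 : act 0 n11645 = n11424 := d3_1 D11645 (iv D11424) (iv F15280)
theorem F16770 : act 3 n11420 = n11645 := d12_2 F15289 D11420 F16769 F16050 (iv D10192) D10191 (iv F15290)
def n11646 : Q := act 1 n11162
theorem D11646 : act 1 n11162 = n11646 := rfl
theorem F16771 : act 0 n11646 = n11494 := d0_1 D11646 (iv D11494) (iv D10352) F8588 D9778 (iv F12926) (iv F15290)
theorem F16772 : act 2 n11646 = n11174 := d4_2 D11162 D11646 (iv D11174) (iv D9519) (iv D6867) (iv F6589) D9498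
theorem F16773 : act 3 n11646 = n11419 := d5_2 (iv F15289) D11646 (iv D11419)
def n11647 : Q := act 4 n11162
theorem D11647 : act 4 n11162 = n11647 := rfl
theorem F16774 : act 0 n11647 = n11425 := d3_1 D11647 F16052 (iv F15290)
theorem F16775 : act 3 n11647 = n11443 := d9_1 D11647 (iv D11443) (iv F15279) D11645 (iv F16770) (iv D11420) (iv F15289)
def n11648 : Q := act 0 n11226
theorem D11648 : act 0 n11226 = n11648 := rfl
theorem F16776 : act 1 n11648 = n11645 := d0_2 F15768 D11648 F16769 F16049 F15675 (iv F12093) D11331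
theorem F16777 : act 2 n11648 = n11230 := d1_2 D11226 D11648 F15476 F15438 F15435 (iv F15468) F15466
theorem F16778 : act 3 n11648 = n11247 := d2_2 (iv F15470) D11648 (iv D11247) F11765 F7464 (iv F6889) D9678
theorem F16779 : act 4 n11648 = n11644 := d3_2 F16250 D11648 F16766
def n11649 : Q := act 0 n11228
theorem D11649 : act 0 n11228 = n11649 := rfl
theorem F16780 : act 1 n11649 = n11647 := d0_2 F16263 D11649 F16774 F16051 F15677 (iv F13282) (iv F16262)
theorem F16781 : act 2 n11649 = n11244 := d1_2 (iv F15471) D11649 (iv D11244) (iv F15445) F15443 (iv F15475) (iv D11229)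
theorem F16782 : act 3 n11649 = n11250 := d2_2 D11228 D11649 (iv D11250) (iv D9654) F6867 (iv F6846) (iv F11705)
theorem F16783 : act 4 n11649 = n11646 := d3_2 (iv F16258) D11649 F16771
def n11650 : Q := act 0 n11287
theorem D11650 : act 0 n11287 = n11650 := rfl
theorem F16784 : act 1 n11650 = n11585 := d0_2 (iv F15633) D11650 F16554 F14181 (iv F14183) F14184 (iv F15287)
theorem F16785 : act 2 n11650 = n11527 := d1_2 D11287 D11650 F16358 F14485 (iv F16273) F16275 F15510
theorem F16786 : act 3 n11650 = n11526 := d2_2 (iv F15631) D11650 F16355 F15893 (iv F15900) F15902 (iv D11343)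
theorem F16787 : act 4 n11650 = n11583 := d3_2 (iv F15632) D11650 F16547
def n11651 : Q := act 1 n11328
theorem D11651 : act 1 n11328 = n11651 := rfl
theorem F16788 : act 0 n11651 = n11329 := d0_1 D11651 (iv D11329) (iv D9834) (iv D7262) D7261 D9833 D11328
theorem F16789 : act 2 n11651 = n11608 := d4_2 F16454 D11651 F16643 F14728 F12980 D10594 D11555
theorem F16790 : act 4 n11651 = n11447 := d6_2 (iv F15758) D11651 (iv D11447)
theorem F16791 : act 3 n11474 = n11651 := d16_2 (iv F13204) (iv F16193) (iv D11651) (iv F16454) (iv D11555) F13850 D10909 F14622 F11057 (iv D8428) (iv F7424) (iv F12183)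
def n11652 : Q := act 3 n11328
theorem D11652 : act 3 n11328 = n11652 := rfl
theorem F16792 : act 0 n11652 = n11443 := d2_1 D11652 (iv F16775) F16774 (iv D11425) F12836 (iv F12085) D11328
theorem F16793 : act 1 n11652 = n11474 := d5_1 D11652 F16791 (iv D11651)
theorem F16794 : act 4 n11652 = n11428 := d12_1 D11652 (iv D11428) (iv D10143) (iv D7723) D7724 (iv F12085) D11328
def n11653 : Q := act 0 n11332
theorem D11653 : act 0 n11332 = n11653 := rfl
theorem F16795 : act 1 n11653 = n11334 := d0_2 D11332 D11653 (iv D11334) (iv D9840) (iv D7266) (iv F7314) D9838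
theorem F16796 : act 2 n11653 = n11615 := d1_2 (iv F15771) D11653 (iv D11615) (iv D10946) (iv D9045) D9046 D10948
theorem F16797 : act 3 n11653 = n11470 := d2_2 F15772 D11653 F16182 F13105 F11814 F11845 (iv F15600)
theorem F16798 : act 4 n11653 = n11426 := d3_2 (iv F15770) D11653 F16053
def n11654 : Q := act 3 n11334
theorem D11654 : act 3 n11334 = n11654 := rfl
theorem F16799 : act 0 n11654 = n11420 := d2_1 D11654 F16770 F16769 F16050 F12927 (iv F12103) D11334
theorem F16800 : act 1 n11654 = n11470 := d5_1 D11654 (iv F16797) F16795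
theorem F16801 : act 4 n11654 = n11418 := d9_2 (iv F15777) D11654 F16032 (iv F15758) D11652 F16794 (iv D11428)
def n11655 : Q := act 1 n11355
theorem D11655 : act 1 n11355 = n11655 := rfl
theorem F16802 : act 0 n11655 = n11509 := d0_1 D11655 F16304 F13387 (iv F14421) F14420 F12871 (iv F15844)
theorem F16803 : act 2 n11655 = n11654 := d4_2 D11355 D11655 F16800 F16183 F15577 (iv D10215) (iv F12348)
theorem F16804 : act 3 n11655 = n11558 := d5_2 (iv F15845) D11655 (iv D11558)
theorem F16805 : act 4 n11507 = n11655 := d17_0 (iv D11655) (iv D11355) (iv D9942) (iv D7441) (iv F3857) F3855 F1657 (iv F1801) D5152 D8095 D10396 D11507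
def n11656 : Q := act 4 n11355
theorem D11656 : act 4 n11355 = n11656 := rfl
theorem F16806 : act 0 n11656 = n11357 := d3_1 D11656 (iv D11357) (iv F15844)
theorem F16807 : act 1 n11656 = n11507 := d6_1 D11656 F16805 (iv D11655)
theorem F16808 : act 2 n11656 = n11356 := d8_1 D11656 (iv D11356) (iv D9943) (iv D7442) D7441 D9942 D11355
theorem F16809 : act 3 n11656 = n11557 := d12_2 (iv F15845) D11656 F16458 F14625 (iv D9286) (iv F10528) (iv F13860)
def n11657 : Q := act 2 n11359
theorem D11657 : act 2 n11359 = n11657 := rfl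
theorem F16810 : act 0 n11657 = n11363 := d1_1 D11657 (iv D11363) (iv F15858) F15861 D11511 (iv F16371) F16373
theorem F16811 : act 1 n11657 = n11416 := d4_1 D11657 (iv D11416) F12830 F11575 (iv F7910) D10064 (iv F15854)
def n11658 : Q := act 2 n11365
theorem D11658 : act 2 n11365 = n11658 := rfl
theorem F16812 : act 0 n11658 = n11369 := d1_1 D11658 (iv D11369) (iv F15875) F15878 D11516 (iv F16393) F16395
theorem F16813 : act 1 n11658 = n11441 := d4_1 D11658 (iv D11441) F12921 F11584 (iv F7928) D10083 (iv F15871)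
def n11659 : Q := act 2 n11378
theorem D11659 : act 2 n11378 = n11659 := rfl
theorem F16814 : act 0 n11659 = n11379 := d1_1 D11659 (iv D11379) F12502 D10313 (iv F16201) (iv D11476) (iv F15908)
theorem F16815 : act 1 n11659 = n11519 := d4_1 D11659 F16333 F14689 F12932 (iv F12698) (iv F13222) (iv F15909)
theorem F16816 : act 3 n11659 = n11559 := d7_2 (iv F15910) D11659 F16466
theorem F16817 : act 4 n11659 = n11556 := d8_2 D11378 D11659 F16457 F15892 (iv D11372) F12393 D10011
def n11660 : Q := act 4 n11406
theorem D11660 : act 4 n11406 = n11660 := rfl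
theorem F16818 : act 0 n11660 = n11423 := d3_1 D11660 (iv D11423) (iv F16000)
theorem F16819 : act 1 n11660 = n11561 := d6_1 D11660 (iv F16473) F16010
theorem F16820 : act 2 n11660 = n11418 := d8_1 D11660 (iv F16801) (iv F16803) (iv F16805) F16300 (iv F14656) D11406
theorem F16821 : act 3 n11448 = n11660 := d7_0 F16820 F16032 D11448
def n11661 : Q := act 2 n11415
theorem D11661 : act 2 n11415 = n11661 := rfl
theorem F16822 : act 3 n11661 = n11441 := d7_2 (iv F16027) D11661 (iv D11441)
def n11662 : Q := act 3 n11416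
theorem D11662 : act 3 n11416 = n11662 := rfl
theorem F16823 : act 2 n11662 = n11417 := d7_1 D11662 (iv D11417) D11416
def n11663 : Q := act 3 n11427
theorem D11663 : act 3 n11427 = n11663 := rfl
theorem F16824 : act 0 n11663 = n11446 := d2_1 D11663 F16110 (iv F16044) (iv D11422) (iv F16000) (iv F16662) F16660
theorem F16825 : act 1 n11663 = n11564 := d5_1 D11663 (iv D11564) (iv F16056)
theorem F16826 : act 2 n11663 = n11428 := d7_1 D11663 (iv D11428) D11427
theorem F16827 : act 4 n11663 = n11439 := d9_2 F16663 D11663 (iv F16652) F16653 F16821 (iv D11660) (iv F16662)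
def n11664 : Q := act 0 n11431
theorem D11664 : act 0 n11431 = n11664 := rfl
theorem F16828 : act 1 n11664 = n11614 := d0_2 D11431 D11664 (iv D11614) F14701 F13022 F9043 (iv F12855)
theorem F16829 : act 2 n11664 = n11451 := d1_2 (iv F16065) D11664 F16123 (iv F16002) (iv F16314) F16316 (iv F15162)
theorem F16830 : act 3 n11664 = n11625 := d2_2 F16067 D11664 (iv D11625) F15102 F11376 (iv F11170) D11109
theorem F16831 : act 4 n11664 = n11657 := d3_2 (iv F16066) D11664 F16810
def n11665 : Q := act 0 n11437
theorem D11665 : act 0 n11437 = n11665 := rfl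
theorem F16832 : act 1 n11665 = n11611 := d0_2 D11437 D11665 (iv D11611) (iv F15231) F15230 F11309 D10180
theorem F16833 : act 2 n11665 = n11630 := d1_2 (iv F16083) D11665 F16713 (iv F16640) F16639 F16331 (iv F15159)
theorem F16834 : act 3 n11665 = n11627 := d2_2 (iv F16084) D11665 (iv D11627) (iv D11082) F11144 D9365 D11110
theorem F16835 : act 4 n11665 = n11658 := d3_2 (iv F16085) D11665 F16812
def n11666 : Q := act 4 n11519
theorem D11666 : act 4 n11519 = n11666 := rfl
theorem F16836 : act 0 n11666 = n11520 := d3_1 D11666 (iv D11520) D11519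
theorem F16837 : act 1 n11666 = n11556 := d6_1 D11666 (iv F16817) F16815
theorem F16838 : act 2 n11666 = n11652 := d8_1 D11666 F16794 (iv F16826) F16827 (iv D11439) (iv F14690) (iv F16333)
theorem F16839 : act 3 n11666 = n11555 := d9_1 D11666 (iv F16455) F16301 F16805 F16804 (iv F16463) F16334
def n11667 : Q := act 3 n11611
theorem D11667 : act 3 n11611 = n11667 := rfl
theorem F16840 : act 0 n11667 = n11662 := d2_1 D11667 (iv D11662) F16028 F14661 (iv D10923) D10925 D11611
theorem F16841 : act 1 n11667 = n11627 := d5_1 D11667 (iv F16834) F16832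
theorem F16842 : act 2 n11667 = n11647 := d7_1 D11667 F16775 (iv F16655)
theorem F16843 : act 4 n11667 = n11662 := d12_1 D11667 (iv D11662) F16028 F14661 (iv F14662) D10925 D11611
def n11668 : Q := act 3 n11614
theorem D11668 : act 3 n11614 = n11668 := rfl
theorem F16844 : act 0 n11668 = n11661 := d2_1 D11668 F16822 F16096 F14696 (iv D10938) D10940 D11614
theorem F16845 : act 1 n11668 = n11625 := d5_1 D11668 (iv F16830) F16828
theorem F16846 : act 2 n11668 = n11645 := d7_1 D11668 (iv F16770) (iv F16665)
theorem F16847 : act 4 n11668 = n11661 := d9_2 (iv F16664) D11668 F16822 (iv F16654) D11667 F16843 (iv D11662)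
def n11669 : Q := act 4 n11625
theorem D11669 : act 4 n11625 = n11669 := rfl
theorem F16848 : act 0 n11669 = n11626 := d3_1 D11669 (iv D11626) D11625
theorem F16849 : act 1 n11669 = n11661 := d6_1 D11669 (iv F16847) F16845
theorem F16850 : act 2 n11669 = n11632 := d8_1 D11669 (iv D11632) (iv D11087) (iv D9347) D9345 D11086 (iv F16703)
theorem F16851 : act 3 n11669 = n11658 := d12_2 F16830 D11669 F16812 (iv F16398) F16396 F16067 D11664
def n11670 : Q := act 4 n11627
theorem D11670 : act 4 n11627 = n11670 := rfl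
theorem F16852 : act 0 n11670 = n11628 := d3_1 D11670 (iv D11628) D11627
theorem F16853 : act 1 n11670 = n11662 := d6_1 D11670 (iv F16843) F16841
theorem F16854 : act 2 n11670 = n11636 := d8_1 D11670 (iv D11636) (iv D11096) F11156 D9459 (iv F15144) (iv F16706)
theorem F16855 : act 3 n11670 = n11657 := d9_1 D11670 (iv F16831) F16830 D11669 F16851 (iv F16835) F16834

end Cfsg.Agent.Helper17.HCPTC
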