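import Cfsg.Agent.Helper17.HCPTC.Final

set_option autoImplicit false
set_option linter.all false
set_option maxRecDepth 100000

noncomputable section

namespace Cfsg.Agent.Helper17.HCPTC

theorem N1 : nd 1 = n1 := ndS (p := 0) (l := 1) rfl N0 D1
theorem N2 : nd 2 = n2 := ndS (p := 0) (l := 2) rfl N0 D2
theorem N3 : nd 3 = n3 := ndS (p := 0) (l := 3) rfl N0 D3
theorem N4 : nd 4 = n4 := ndS (p := 0) (l := 4) rfl N0 D4
theorem N5 : nd 5 = n5 := ndS (p := 1) (l := 0) rfl N1 D5
theorem N6 : nd 6 = n6 := ndS (p := 1) (l := 2) rfl N1 D6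
theorem N7 : nd 7 = n7 := ndS (p := 1) (l := 3) rfl N1 D7
theorem N8 : nd 8 = n8 := ndS (p := 1) (l := 4) rfl N1 D8
theorem N9 : nd 9 = n9 := ndS (p := 2) (l := 0) rfl N2 D9
theorem N10 : nd 10 = n10 := ndS (p := 2) (l := 1) rfl N2 D10
theorem N11 : nd 11 = n11 := ndS (p := 2) (l := 3) rfl N2 D11
theorem N12 : nd 12 = n12 := ndS (p := 2) (l := 4) rfl N2 D12
theorem N13 : nd 13 = n13 := ndS (p := 3) (l := 0) rfl N3 D13
theorem N14 : nd 14 = n14 := ndS (p := 3) (l := 4) rfl N3 D14
theorem N15 : nd 15 = n15 := ndS (p := 4) (l := 2) rfl N4 D15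
theorem N16 : nd 16 = n16 := ndS (p := 4) (l := 3) rfl N4 D16
theorem N17 : nd 17 = n17 := ndS (p := 5) (l := 1) rfl N5 D17
theorem N18 : nd 18 = n18 := ndS (p := 5) (l := 2) rfl N5 D18
theorem N19 : nd 19 = n19 := ndS (p := 5) (l := 3) rfl N5 D19
theorem N20 : nd 20 = n20 := ndS (p := 5) (l := 4) rfl N5 D20
theorem N21 : nd 21 = n21 := ndS (p := 6) (l := 0) rfl N6 D21
theorem N22 : nd 22 = n22 := ndS (p := 6) (l := 1) rfl N6 D22
theorem N23 : nd 23 = n23 := ndS (p := 6) (l := 3) rfl N6 D23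
theorem N24 : nd 24 = n24 := ndS (p := 6) (l := 4) rfl N6 D24
theorem N25 : nd 25 = n25 := ndS (p := 7) (l := 0) rfl N7 D25
theorem N26 : nd 26 = n26 := ndS (p := 7) (l := 4) rfl N7 D26
theorem N27 : nd 27 = n27 := ndS (p := 8) (l := 2) rfl N8 D27
theorem N28 : nd 28 = n28 := ndS (p := 8) (l := 3) rfl N8 D28
theorem N29 : nd 29 = n29 := ndS (p := 9) (l := 1) rfl N9 D29
theorem N30 : nd 30 = n30 := ndS (p := 9) (l := 2) rfl N9 D30
theorem N31 : nd 31 = n31 := ndS (p := 9) (l := 3) rfl N9 D31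
theorem N32 : nd 32 = n32 := ndS (p := 9) (l := 4) rfl N9 D32
theorem N33 : nd 33 = n33 := ndS (p := 10) (l := 0) rfl N10 D33
theorem N34 : nd 34 = n34 := ndS (p := 10) (l := 2) rfl N10 D34
theorem N35 : nd 35 = n35 := ndS (p := 10) (l := 3) rfl N10 D35
theorem N36 : nd 36 = n36 := ndS (p := 10) (l := 4) rfl N10 D36
theorem N37 : nd 37 = n37 := ndS (p := 11) (l := 0) rfl N11 D37
theorem N38 : nd 38 = n38 := ndS (p := 11) (l := 4) rfl N11 D38
theorem N39 : nd 39 = n39 := ndS (p := 12) (l := 2) rfl N12 D39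
theorem N40 : nd 40 = n40 := ndS (p := 12) (l := 3) rfl N12 D40
theorem N41 : nd 41 = n41 := ndS (p := 13) (l := 1) rfl N13 D41
theorem N42 : nd 42 = n42 := ndS (p := 13) (l := 2) rfl N13 D42
theorem N43 : nd 43 = n43 := ndS (p := 13) (l := 3) rfl N13 D43
theorem N44 : nd 44 = n44 := ndS (p := 13) (l := 4) rfl N13 D44
theorem N45 : nd 45 = n45 := ndS (p := 14) (l := 2) rfl N14 D45
theorem N46 : nd 46 = n46 := ndS (p := 14) (l := 3) rfl N14 D46
theorem N47 : nd 47 = n47 := ndS (p := 15) (l := 0) rfl N15 D47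
theorem N48 : nd 48 = n48 := ndS (p := 15) (l := 1) rfl N15 D48
theorem N49 : nd 49 = n49 := ndS (p := 15) (l := 3) rfl N15 D49
theorem N50 : nd 50 = n50 := ndS (p := 15) (l := 4) rfl N15 D50
theorem N51 : nd 51 = n51 := ndS (p := 16) (l := 0) rfl N16 D51
theorem N52 : nd 52 = n52 := ndS (p := 16) (l := 4) rfl N16 D52
theorem N53 : nd 53 = n53 := ndS (p := 17) (l := 2) rfl N17 D53
theorem N54 : nd 54 = n54 := ndS (p := 17) (l := 3) rfl N17 D54
theorem N55 : nd 55 = n55 := ndS (p := 17) (l := 4) rfl N17 D55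
theorem N56 : nd 56 = n56 := ndS (p := 18) (l := 0) rfl N18 D56
theorem N57 : nd 57 = n57 := ndS (p := 18) (l := 1) rfl N18 D57
theorem N58 : nd 58 = n58 := ndS (p := 18) (l := 3) rfl N18 D58
theorem N59 : nd 59 = n59 := ndS (p := 18) (l := 4) rfl N18 D59
theorem N60 : nd 60 = n60 := ndS (p := 19) (l := 0) rfl N19 D60
theorem N61 : nd 61 = n61 := ndS (p := 19) (l := 4) rfl N19 D61
theorem N62 : nd 62 = n62 := ndS (p := 20) (l := 2) rfl N20 D62
theorem N63 : nd 63 = n63 := ndS (p := 20) (l := 3) rfl N20 D63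
theorem N64 : nd 64 = n64 := ndS (p := 21) (l := 1) rfl N21 D64
theorem N65 : nd 65 = n65 := ndS (p := 21) (l := 2) rfl N21 D65
theorem N66 : nd 66 = n66 := ndS (p := 21) (l := 3) rfl N21 D66
theorem N67 : nd 67 = n67 := ndS (p := 21) (l := 4) rfl N21 D67
theorem N68 : nd 68 = n68 := ndS (p := 22) (l := 0) rfl N22 D68
theorem N69 : nd 69 = n69 := ndS (p := 22) (l := 2) rfl N22 D69
theorem N70 : nd 70 = n70 := ndS (p := 22) (l := 3) rfl N22 D70
theorem N71 : nd 71 = n71 := ndS (p := 22) (l := 4) rfl N22 D71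
theorem N72 : nd 72 = n72 := ndS (p := 23) (l := 0) rfl N23 D72
theorem N73 : nd 73 = n73 := ndS (p := 23) (l := 4) rfl N23 D73
theorem N74 : nd 74 = n74 := ndS (p := 24) (l := 2) rfl N24 D74
theorem N75 : nd 75 = n75 := ndS (p := 24) (l := 3) rfl N24 D75
theorem N76 : nd 76 = n76 := ndS (p := 25) (l := 1) rfl N25 D76
theorem N77 : nd 77 = n77 := ndS (p := 25) (l := 2) rfl N25 D77
theorem N78 : nd 78 = n78 := ndS (p := 25) (l := 3) rfl N25 D78
theorem N79 : nd 79 = n79 := ndS (p := 25) (l := 4) rfl N25 D79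
theorem N80 : nd 80 = n80 := ndS (p := 26) (l := 2) rfl N26 D80
theorem N81 : nd 81 = n81 := ndS (p := 26) (l := 3) rfl N26 D81
theorem N82 : nd 82 = n82 := ndS (p := 27) (l := 0) rfl N27 D82
theorem N83 : nd 83 = n83 := ndS (p := 27) (l := 1) rfl N27 D83
theorem N84 : nd 84 = n84 := ndS (p := 27) (l := 3) rfl N27 D84
theorem N85 : nd 85 = n85 := ndS (p := 27) (l := 4) rfl N27 D85
theorem N86 : nd 86 = n86 := ndS (p := 28) (l := 0) rfl N28 D86
theorem N87 : nd 87 = n87 := ndS (p := 28) (l := 4) rfl N28 D87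
theorem N88 : nd 88 = n88 := ndS (p := 29) (l := 0) rfl N29 D88
theorem N89 : nd 89 = n89 := ndS (p := 29) (l := 2) rfl N29 D89
theorem N90 : nd 90 = n90 := ndS (p := 29) (l := 3) rfl N29 D90
theorem N91 : nd 91 = n91 := ndS (p := 29) (l := 4) rfl N29 D91
theorem N92 : nd 92 = n92 := ndS (p := 30) (l := 1) rfl N30 D92
theorem N93 : nd 93 = n93 := ndS (p := 30) (l := 3) rfl N30 D93
theorem N94 : nd 94 = n94 := ndS (p := 30) (l := 4) rfl N30 D94
theorem N95 : nd 95 = n95 := ndS (p := 31) (l := 4) rfl N31 D95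
theorem N96 : nd 96 = n96 := ndS (p := 32) (l := 2) rfl N32 D96
theorem N97 : nd 97 = n97 := ndS (p := 32) (l := 3) rfl N32 D97
theorem N98 : nd 98 = n98 := ndS (p := 33) (l := 1) rfl N33 D98
theorem N99 : nd 99 = n99 := ndS (p := 33) (l := 2) rfl N33 D99
theorem N100 : nd 100 = n100 := ndS (p := 33) (l := 3) rfl N33 D100
theorem N101 : nd 101 = n101 := ndS (p := 33) (l := 4) rfl N33 D101
theorem N102 : nd 102 = n102 := ndS (p := 34) (l := 0) rfl N34 D102
theorem N103 : nd 103 = n103 := ndS (p := 34) (l := 3) rfl N34 D103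
theorem N104 : nd 104 = n104 := ndS (p := 34) (l := 4) rfl N34 D104
theorem N105 : nd 105 = n105 := ndS (p := 35) (l := 0) rfl N35 D105
theorem N106 : nd 106 = n106 := ndS (p := 35) (l := 4) rfl N35 D106
theorem N107 : nd 107 = n107 := ndS (p := 36) (l := 2) rfl N36 D107
theorem N108 : nd 108 = n108 := ndS (p := 36) (l := 3) rfl N36 D108
theorem N109 : nd 109 = n109 := ndS (p := 37) (l := 1) rfl N37 D109
theorem N110 : nd 110 = n110 := ndS (p := 37) (l := 2) rfl N37 D110
theorem N111 : nd 111 = n111 := ndS (p := 37) (l := 3) rfl N37 D111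
theorem N112 : nd 112 = n112 := ndS (p := 37) (l := 4) rfl N37 D112
theorem N113 : nd 113 = n113 := ndS (p := 38) (l := 2) rfl N38 D113
theorem N114 : nd 114 = n114 := ndS (p := 38) (l := 3) rfl N38 D114
theorem N115 : nd 115 = n115 := ndS (p := 39) (l := 1) rfl N39 D115
theorem N116 : nd 116 = n116 := ndS (p := 39) (l := 3) rfl N39 D116
theorem N117 : nd 117 = n117 := ndS (p := 39) (l := 4) rfl N39 D117
theorem N118 : nd 118 = n118 := ndS (p := 40) (l := 0) rfl N40 D118
theorem N119 : nd 119 = n119 := ndS (p := 40) (l := 4) rfl N40 D119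
theorem N120 : nd 120 = n120 := ndS (p := 41) (l := 0) rfl N41 D120
theorem N121 : nd 121 = n121 := ndS (p := 41) (l := 2) rfl N41 D121
theorem N122 : nd 122 = n122 := ndS (p := 41) (l := 3) rfl N41 D122
theorem N123 : nd 123 = n123 := ndS (p := 41) (l := 4) rfl N41 D123
theorem N124 : nd 124 = n124 := ndS (p := 42) (l := 1) rfl N42 D124
theorem N125 : nd 125 = n125 := ndS (p := 42) (l := 3) rfl N42 D125
theorem N126 : nd 126 = n126 := ndS (p := 42) (l := 4) rfl N42 D126
theorem N127 : nd 127 = n127 := ndS (p := 43) (l := 4) rfl N43 D127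
theorem N128 : nd 128 = n128 := ndS (p := 44) (l := 2) rfl N44 D128
theorem N129 : nd 129 = n129 := ndS (p := 44) (l := 3) rfl N44 D129
theorem N130 : nd 130 = n130 := ndS (p := 45) (l := 0) rfl N45 D130
theorem N131 : nd 131 = n131 := ndS (p := 45) (l := 1) rfl N45 D131
theorem N132 : nd 132 = n132 := ndS (p := 45) (l := 3) rfl N45 D132
theorem N133 : nd 133 = n133 := ndS (p := 45) (l := 4) rfl N45 D133
theorem N134 : nd 134 = n134 := ndS (p := 46) (l := 4) rfl N46 D134
theorem N135 : nd 135 = n135 := ndS (p := 47) (l := 1) rfl N47 D135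
theorem N136 : nd 136 = n136 := ndS (p := 47) (l := 3) rfl N47 D136
theorem N137 : nd 137 = n137 := ndS (p := 47) (l := 4) rfl N47 D137
theorem N138 : nd 138 = n138 := ndS (p := 48) (l := 0) rfl N48 D138
theorem N139 : nd 139 = n139 := ndS (p := 48) (l := 2) rfl N48 D139
theorem N140 : nd 140 = n140 := ndS (p := 48) (l := 3) rfl N48 D140
theorem N141 : nd 141 = n141 := ndS (p := 48) (l := 4) rfl N48 D141
theorem N142 : nd 142 = n142 := ndS (p := 49) (l := 0) rfl N49 D142
theorem N143 : nd 143 = n143 := ndS (p := 49) (l := 4) rfl N49 D143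
theorem N144 : nd 144 = n145 := ndS (p := 51) (l := 1) rfl N51 D145
theorem N145 : nd 145 = n146 := ndS (p := 51) (l := 2) rfl N51 D146
theorem N146 : nd 146 = n147 := ndS (p := 51) (l := 4) rfl N51 D147
theorem N147 : nd 147 = n149 := ndS (p := 53) (l := 0) rfl N53 D149
theorem N148 : nd 148 = n150 := ndS (p := 53) (l := 1) rfl N53 D150
theorem N149 : nd 149 = n151 := ndS (p := 53) (l := 3) rfl N53 D151
theorem N150 : nd 150 = n152 := ndS (p := 53) (l := 4) rfl N53 D152
theorem N151 : nd 151 = n153 := ndS (p := 54) (l := 0) rfl N54 D153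
theorem N152 : nd 152 = n154 := ndS (p := 54) (l := 4) rfl N54 D154
theorem N153 : nd 153 = n155 := ndS (p := 55) (l := 2) rfl N55 D155
theorem N154 : nd 154 = n156 := ndS (p := 55) (l := 3) rfl N55 D156
theorem N155 : nd 155 = n157 := ndS (p := 56) (l := 1) rfl N56 D157
theorem N156 : nd 156 = n158 := ndS (p := 56) (l := 2) rfl N56 D158
theorem N157 : nd 157 = n159 := ndS (p := 56) (l := 3) rfl N56 D159
theorem N158 : nd 158 = n160 := ndS (p := 56) (l := 4) rfl N56 D160
theorem N159 : nd 159 = n161 := ndS (p := 57) (l := 0) rfl N57 D161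
theorem N160 : nd 160 = n162 := ndS (p := 57) (l := 2) rfl N57 D162
theorem N161 : nd 161 = n163 := ndS (p := 57) (l := 3) rfl N57 D163
theorem N162 : nd 162 = n164 := ndS (p := 57) (l := 4) rfl N57 D164
theorem N163 : nd 163 = n165 := ndS (p := 58) (l := 0) rfl N58 D165
theorem N164 : nd 164 = n166 := ndS (p := 58) (l := 4) rfl N58 D166
theorem N165 : nd 165 = n167 := ndS (p := 59) (l := 2) rfl N59 D167
theorem N166 : nd 166 = n168 := ndS (p := 59) (l := 3) rfl N59 D168
theorem N167 : nd 167 = n169 := ndS (p := 60) (l := 1) rfl N60 D169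
theorem N168 : nd 168 = n170 := ndS (p := 60) (l := 2) rfl N60 D170
theorem N169 : nd 169 = n171 := ndS (p := 60) (l := 3) rfl N60 D171
theorem N170 : nd 170 = n172 := ndS (p := 60) (l := 4) rfl N60 D172
theorem N171 : nd 171 = n173 := ndS (p := 61) (l := 2) rfl N61 D173
theorem N172 : nd 172 = n174 := ndS (p := 61) (l := 3) rfl N61 D174
theorem N173 : nd 173 = n175 := ndS (p := 62) (l := 0) rfl N62 D175
theorem N174 : nd 174 = n176 := ndS (p := 62) (l := 1) rfl N62 D176
theorem N175 : nd 175 = n177 := ndS (p := 62) (l := 3) rfl N62 D177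
theorem N176 : nd 176 = n178 := ndS (p := 62) (l := 4) rfl N62 D178
theorem N177 : nd 177 = n179 := ndS (p := 63) (l := 0) rfl N63 D179
theorem N178 : nd 178 = n180 := ndS (p := 63) (l := 4) rfl N63 D180
theorem N179 : nd 179 = n181 := ndS (p := 64) (l := 0) rfl N64 D181
theorem N180 : nd 180 = n182 := ndS (p := 64) (l := 2) rfl N64 D182
theorem N181 : nd 181 = n183 := ndS (p := 64) (l := 3) rfl N64 D183
theorem N182 : nd 182 = n184 := ndS (p := 64) (l := 4) rfl N64 D184
theorem N183 : nd 183 = n185 := ndS (p := 65) (l := 1) rfl N65 D185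
theorem N184 : nd 184 = n186 := ndS (p := 65) (l := 3) rfl N65 D186
theorem N185 : nd 185 = n187 := ndS (p := 65) (l := 4) rfl N65 D187
theorem N186 : nd 186 = n188 := ndS (p := 66) (l := 4) rfl N66 D188
theorem N187 : nd 187 = n189 := ndS (p := 67) (l := 2) rfl N67 D189
theorem N188 : nd 188 = n190 := ndS (p := 67) (l := 3) rfl N67 D190
theorem N189 : nd 189 = n191 := ndS (p := 68) (l := 1) rfl N68 D191
theorem N190 : nd 190 = n192 := ndS (p := 68) (l := 2) rfl N68 D192
theorem N191 : nd 191 = n193 := ndS (p := 68) (l := 3) rfl N68 D193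
theorem N192 : nd 192 = n194 := ndS (p := 68) (l := 4) rfl N68 D194
theorem N193 : nd 193 = n195 := ndS (p := 69) (l := 0) rfl N69 D195
theorem N194 : nd 194 = n196 := ndS (p := 69) (l := 3) rfl N69 D196
theorem N195 : nd 195 = n197 := ndS (p := 69) (l := 4) rfl N69 D197
theorem N196 : nd 196 = n198 := ndS (p := 70) (l := 0) rfl N70 D198
theorem N197 : nd 197 = n199 := ndS (p := 70) (l := 4) rfl N70 D199
theorem N198 : nd 198 = n200 := ndS (p := 71) (l := 2) rfl N71 D200
theorem N199 : nd 199 = n201 := ndS (p := 71) (l := 3) rfl N71 D201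
theorem N200 : nd 200 = n202 := ndS (p := 72) (l := 1) rfl N72 D202
theorem N201 : nd 201 = n203 := ndS (p := 72) (l := 2) rfl N72 D203
theorem N202 : nd 202 = n204 := ndS (p := 72) (l := 3) rfl N72 D204
theorem N203 : nd 203 = n205 := ndS (p := 72) (l := 4) rfl N72 D205
theorem N204 : nd 204 = n206 := ndS (p := 73) (l := 2) rfl N73 D206
theorem N205 : nd 205 = n207 := ndS (p := 73) (l := 3) rfl N73 D207
theorem N206 : nd 206 = n208 := ndS (p := 74) (l := 1) rfl N74 D208
theorem N207 : nd 207 = n209 := ndS (p := 74) (l := 3) rfl N74 D209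
theorem N208 : nd 208 = n210 := ndS (p := 74) (l := 4) rfl N74 D210
theorem N209 : nd 209 = n211 := ndS (p := 75) (l := 0) rfl N75 D211
theorem N210 : nd 210 = n212 := ndS (p := 75) (l := 4) rfl N75 D212
theorem N211 : nd 211 = n213 := ndS (p := 76) (l := 0) rfl N76 D213
theorem N212 : nd 212 = n214 := ndS (p := 76) (l := 2) rfl N76 D214
theorem N213 : nd 213 = n215 := ndS (p := 76) (l := 3) rfl N76 D215
theorem N214 : nd 214 = n216 := ndS (p := 76) (l := 4) rfl N76 D216
theorem N215 : nd 215 = n217 := ndS (p := 77) (l := 1) rfl N77 D217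
theorem N216 : nd 216 = n218 := ndS (p := 77) (l := 3) rfl N77 D218
theorem N217 : nd 217 = n219 := ndS (p := 77) (l := 4) rfl N77 D219
theorem N218 : nd 218 = n220 := ndS (p := 78) (l := 4) rfl N78 D220
theorem N219 : nd 219 = n221 := ndS (p := 79) (l := 2) rfl N79 D221
theorem N220 : nd 220 = n222 := ndS (p := 79) (l := 3) rfl N79 D222
theorem N221 : nd 221 = n223 := ndS (p := 80) (l := 0) rfl N80 D223
theorem N222 : nd 222 = n224 := ndS (p := 80) (l := 1) rfl N80 D224
theorem N223 : nd 223 = n225 := ndS (p := 80) (l := 3) rfl N80 D225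
theorem N224 : nd 224 = n226 := ndS (p := 80) (l := 4) rfl N80 D226
theorem N225 : nd 225 = n227 := ndS (p := 81) (l := 4) rfl N81 D227
theorem N226 : nd 226 = n228 := ndS (p := 82) (l := 1) rfl N82 D228
theorem N227 : nd 227 = n229 := ndS (p := 82) (l := 3) rfl N82 D229
theorem N228 : nd 228 = n230 := ndS (p := 82) (l := 4) rfl N82 D230
theorem N229 : nd 229 = n231 := ndS (p := 83) (l := 0) rfl N83 D231
theorem N230 : nd 230 = n232 := ndS (p := 83) (l := 2) rfl N83 D232
theorem N231 : nd 231 = n233 := ndS (p := 83) (l := 3) rfl N83 D233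
theorem N232 : nd 232 = n234 := ndS (p := 83) (l := 4) rfl N83 D234
theorem N233 : nd 233 = n235 := ndS (p := 84) (l := 0) rfl N84 D235
theorem N234 : nd 234 = n236 := ndS (p := 84) (l := 4) rfl N84 D236
theorem N235 : nd 235 = n238 := ndS (p := 86) (l := 1) rfl N86 D238
theorem N236 : nd 236 = n239 := ndS (p := 86) (l := 2) rfl N86 D239
theorem N237 : nd 237 = n240 := ndS (p := 86) (l := 4) rfl N86 D240
theorem N238 : nd 238 = n242 := ndS (p := 88) (l := 1) rfl N88 D242
theorem N239 : nd 239 = n243 := ndS (p := 88) (l := 2) rfl N88 D243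
theorem N240 : nd 240 = n244 := ndS (p := 88) (l := 3) rfl N88 D244
theorem N241 : nd 241 = n245 := ndS (p := 88) (l := 4) rfl N88 D245
theorem N242 : nd 242 = n246 := ndS (p := 89) (l := 0) rfl N89 D246
theorem N243 : nd 243 = n247 := ndS (p := 89) (l := 1) rfl N89 D247
theorem N244 : nd 244 = n248 := ndS (p := 89) (l := 3) rfl N89 D248
theorem N245 : nd 245 = n249 := ndS (p := 89) (l := 4) rfl N89 D249
theorem N246 : nd 246 = n250 := ndS (p := 90) (l := 0) rfl N90 D250
theorem N247 : nd 247 = n251 := ndS (p := 90) (l := 4) rfl N90 D251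
theorem N248 : nd 248 = n252 := ndS (p := 91) (l := 2) rfl N91 D252
theorem N249 : nd 249 = n253 := ndS (p := 91) (l := 3) rfl N91 D253
theorem N250 : nd 250 = n254 := ndS (p := 92) (l := 0) rfl N92 D254
theorem N251 : nd 251 = n255 := ndS (p := 92) (l := 2) rfl N92 D255
theorem N252 : nd 252 = n256 := ndS (p := 92) (l := 3) rfl N92 D256
theorem N253 : nd 253 = n257 := ndS (p := 92) (l := 4) rfl N92 D257
theorem N254 : nd 254 = n258 := ndS (p := 93) (l := 4) rfl N93 D258
theorem N255 : nd 255 = n259 := ndS (p := 94) (l := 3) rfl N94 D259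
theorem N256 : nd 256 = n260 := ndS (p := 95) (l := 2) rfl N95 D260
theorem N257 : nd 257 = n261 := ndS (p := 95) (l := 3) rfl N95 D261
theorem N258 : nd 258 = n262 := ndS (p := 96) (l := 1) rfl N96 D262
theorem N259 : nd 259 = n263 := ndS (p := 96) (l := 3) rfl N96 D263
theorem N260 : nd 260 = n264 := ndS (p := 96) (l := 4) rfl N96 D264
theorem N261 : nd 261 = n265 := ndS (p := 97) (l := 0) rfl N97 D265
theorem N262 : nd 262 = n266 := ndS (p := 97) (l := 4) rfl N97 D266
theorem N263 : nd 263 = n267 := ndS (p := 98) (l := 2) rfl N98 D267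
theorem N264 : nd 264 = n268 := ndS (p := 98) (l := 3) rfl N98 D268
theorem N265 : nd 265 = n269 := ndS (p := 98) (l := 4) rfl N98 D269
theorem N266 : nd 266 = n270 := ndS (p := 99) (l := 0) rfl N99 D270
theorem N267 : nd 267 = n271 := ndS (p := 99) (l := 1) rfl N99 D271
theorem N268 : nd 268 = n272 := ndS (p := 99) (l := 3) rfl N99 D272
theorem N269 : nd 269 = n273 := ndS (p := 99) (l := 4) rfl N99 D273
theorem N270 : nd 270 = n274 := ndS (p := 100) (l := 0) rfl N100 D274
theorem N271 : nd 271 = n275 := ndS (p := 100) (l := 4) rfl N100 D275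
theorem N272 : nd 272 = n276 := ndS (p := 101) (l := 2) rfl N101 D276
theorem N273 : nd 273 = n277 := ndS (p := 101) (l := 3) rfl N101 D277
theorem N274 : nd 274 = n278 := ndS (p := 102) (l := 1) rfl N102 D278
theorem N275 : nd 275 = n279 := ndS (p := 102) (l := 2) rfl N102 D279
theorem N276 : nd 276 = n280 := ndS (p := 102) (l := 3) rfl N102 D280
theorem N277 : nd 277 = n281 := ndS (p := 102) (l := 4) rfl N102 D281
theorem N278 : nd 278 = n282 := ndS (p := 103) (l := 0) rfl N103 D282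
theorem N279 : nd 279 = n283 := ndS (p := 103) (l := 4) rfl N103 D283
theorem N280 : nd 280 = n284 := ndS (p := 104) (l := 2) rfl N104 D284
theorem N281 : nd 281 = n285 := ndS (p := 104) (l := 3) rfl N104 D285
theorem N282 : nd 282 = n286 := ndS (p := 105) (l := 1) rfl N105 D286
theorem N283 : nd 283 = n287 := ndS (p := 105) (l := 2) rfl N105 D287
theorem N284 : nd 284 = n288 := ndS (p := 105) (l := 3) rfl N105 D288
theorem N285 : nd 285 = n289 := ndS (p := 105) (l := 4) rfl N105 D289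
theorem N286 : nd 286 = n290 := ndS (p := 106) (l := 2) rfl N106 D290
theorem N287 : nd 287 = n291 := ndS (p := 106) (l := 3) rfl N106 D291
theorem N288 : nd 288 = n292 := ndS (p := 107) (l := 0) rfl N107 D292
theorem N289 : nd 289 = n293 := ndS (p := 107) (l := 1) rfl N107 D293
theorem N290 : nd 290 = n294 := ndS (p := 107) (l := 3) rfl N107 D294
theorem N291 : nd 291 = n295 := ndS (p := 107) (l := 4) rfl N107 D295
theorem N292 : nd 292 = n296 := ndS (p := 108) (l := 0) rfl N108 D296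
theorem N293 : nd 293 = n297 := ndS (p := 108) (l := 4) rfl N108 D297
theorem N294 : nd 294 = n298 := ndS (p := 109) (l := 0) rfl N109 D298
theorem N295 : nd 295 = n299 := ndS (p := 109) (l := 2) rfl N109 D299
theorem N296 : nd 296 = n300 := ndS (p := 109) (l := 3) rfl N109 D300
theorem N297 : nd 297 = n301 := ndS (p := 109) (l := 4) rfl N109 D301
theorem N298 : nd 298 = n302 := ndS (p := 110) (l := 1) rfl N110 D302
theorem N299 : nd 299 = n303 := ndS (p := 110) (l := 3) rfl N110 D303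
theorem N300 : nd 300 = n304 := ndS (p := 110) (l := 4) rfl N110 D304
theorem N301 : nd 301 = n305 := ndS (p := 111) (l := 4) rfl N111 D305
theorem N302 : nd 302 = n306 := ndS (p := 112) (l := 2) rfl N112 D306
theorem N303 : nd 303 = n307 := ndS (p := 112) (l := 3) rfl N112 D307
theorem N304 : nd 304 = n308 := ndS (p := 113) (l := 0) rfl N113 D308
theorem N305 : nd 305 = n309 := ndS (p := 113) (l := 1) rfl N113 D309
theorem N306 : nd 306 = n310 := ndS (p := 113) (l := 3) rfl N113 D310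
theorem N307 : nd 307 = n311 := ndS (p := 113) (l := 4) rfl N113 D311
theorem N308 : nd 308 = n312 := ndS (p := 114) (l := 4) rfl N114 D312
theorem N309 : nd 309 = n313 := ndS (p := 115) (l := 0) rfl N115 D313
theorem N310 : nd 310 = n314 := ndS (p := 115) (l := 2) rfl N115 D314
theorem N311 : nd 311 = n315 := ndS (p := 115) (l := 3) rfl N115 D315
theorem N312 : nd 312 = n316 := ndS (p := 115) (l := 4) rfl N115 D316
theorem N313 : nd 313 = n317 := ndS (p := 116) (l := 0) rfl N116 D317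
theorem N314 : nd 314 = n318 := ndS (p := 116) (l := 4) rfl N116 D318
theorem N315 : nd 315 = n320 := ndS (p := 118) (l := 1) rfl N118 D320
theorem N316 : nd 316 = n321 := ndS (p := 118) (l := 2) rfl N118 D321
theorem N317 : nd 317 = n322 := ndS (p := 118) (l := 4) rfl N118 D322
theorem N318 : nd 318 = n324 := ndS (p := 120) (l := 2) rfl N120 D324
theorem N319 : nd 319 = n325 := ndS (p := 120) (l := 3) rfl N120 D325
theorem N320 : nd 320 = n326 := ndS (p := 120) (l := 4) rfl N120 D326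
theorem N321 : nd 321 = n327 := ndS (p := 121) (l := 0) rfl N121 D327
theorem N322 : nd 322 = n328 := ndS (p := 121) (l := 1) rfl N121 D328
theorem N323 : nd 323 = n329 := ndS (p := 121) (l := 3) rfl N121 D329
theorem N324 : nd 324 = n330 := ndS (p := 121) (l := 4) rfl N121 D330
theorem N325 : nd 325 = n331 := ndS (p := 122) (l := 0) rfl N122 D331
theorem N326 : nd 326 = n332 := ndS (p := 122) (l := 4) rfl N122 D332
theorem N327 : nd 327 = n333 := ndS (p := 123) (l := 2) rfl N123 D333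
theorem N328 : nd 328 = n334 := ndS (p := 123) (l := 3) rfl N123 D334
theorem N329 : nd 329 = n335 := ndS (p := 124) (l := 0) rfl N124 D335
theorem N330 : nd 330 = n336 := ndS (p := 124) (l := 2) rfl N124 D336
theorem N331 : nd 331 = n337 := ndS (p := 124) (l := 3) rfl N124 D337
theorem N332 : nd 332 = n338 := ndS (p := 124) (l := 4) rfl N124 D338
theorem N333 : nd 333 = n339 := ndS (p := 125) (l := 4) rfl N125 D339
theorem N334 : nd 334 = n340 := ndS (p := 126) (l := 3) rfl N126 D340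
theorem N335 : nd 335 = n341 := ndS (p := 127) (l := 2) rfl N127 D341
theorem N336 : nd 336 = n342 := ndS (p := 128) (l := 0) rfl N128 D342
theorem N337 : nd 337 = n343 := ndS (p := 128) (l := 1) rfl N128 D343
theorem N338 : nd 338 = n344 := ndS (p := 128) (l := 3) rfl N128 D344
theorem N339 : nd 339 = n345 := ndS (p := 128) (l := 4) rfl N128 D345
theorem N340 : nd 340 = n346 := ndS (p := 129) (l := 4) rfl N129 D346
theorem N341 : nd 341 = n347 := ndS (p := 130) (l := 1) rfl N130 D347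
theorem N342 : nd 342 = n348 := ndS (p := 130) (l := 3) rfl N130 D348
theorem N343 : nd 343 = n349 := ndS (p := 130) (l := 4) rfl N130 D349
theorem N344 : nd 344 = n350 := ndS (p := 131) (l := 0) rfl N131 D350
theorem N345 : nd 345 = n351 := ndS (p := 131) (l := 2) rfl N131 D351
theorem N346 : nd 346 = n352 := ndS (p := 131) (l := 3) rfl N131 D352
theorem N347 : nd 347 = n353 := ndS (p := 131) (l := 4) rfl N131 D353
theorem N348 : nd 348 = n354 := ndS (p := 132) (l := 0) rfl N132 D354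
theorem N349 : nd 349 = n355 := ndS (p := 132) (l := 4) rfl N132 D355
theorem N350 : nd 350 = n358 := ndS (p := 135) (l := 0) rfl N135 D358
theorem N351 : nd 351 = n359 := ndS (p := 135) (l := 2) rfl N135 D359
theorem N352 : nd 352 = n360 := ndS (p := 135) (l := 3) rfl N135 D360
theorem N353 : nd 353 = n361 := ndS (p := 135) (l := 4) rfl N135 D361
theorem N354 : nd 354 = n362 := ndS (p := 136) (l := 4) rfl N136 D362
theorem N355 : nd 355 = n363 := ndS (p := 137) (l := 3) rfl N137 D363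
theorem N356 : nd 356 = n364 := ndS (p := 138) (l := 1) rfl N138 D364
theorem N357 : nd 357 = n365 := ndS (p := 138) (l := 2) rfl N138 D365
theorem N358 : nd 358 = n366 := ndS (p := 138) (l := 3) rfl N138 D366
theorem N359 : nd 359 = n367 := ndS (p := 138) (l := 4) rfl N138 D367
theorem N360 : nd 360 = n368 := ndS (p := 139) (l := 0) rfl N139 D368
theorem N361 : nd 361 = n369 := ndS (p := 139) (l := 3) rfl N139 D369
theorem N362 : nd 362 = n370 := ndS (p := 139) (l := 4) rfl N139 D370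
theorem N363 : nd 363 = n371 := ndS (p := 140) (l := 0) rfl N140 D371
theorem N364 : nd 364 = n372 := ndS (p := 140) (l := 4) rfl N140 D372
theorem N365 : nd 365 = n373 := ndS (p := 141) (l := 2) rfl N141 D373
theorem N366 : nd 366 = n375 := ndS (p := 142) (l := 1) rfl N142 D375
theorem N367 : nd 367 = n376 := ndS (p := 142) (l := 2) rfl N142 D376
theorem N368 : nd 368 = n377 := ndS (p := 142) (l := 3) rfl N142 D377
theorem N369 : nd 369 = n378 := ndS (p := 142) (l := 4) rfl N142 D378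
theorem N370 : nd 370 = n383 := ndS (p := 144) (l := 0) rfl N144 D383
theorem N371 : nd 371 = n384 := ndS (p := 144) (l := 2) rfl N144 D384
theorem N372 : nd 372 = n385 := ndS (p := 144) (l := 4) rfl N144 D385
theorem N373 : nd 373 = n386 := ndS (p := 145) (l := 1) rfl N145 D386
theorem N374 : nd 374 = n387 := ndS (p := 145) (l := 4) rfl N145 D387
theorem N375 : nd 375 = n388 := ndS (p := 146) (l := 2) rfl N146 D388
theorem N376 : nd 376 = n392 := ndS (p := 147) (l := 1) rfl N147 D392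
theorem N377 : nd 377 = n393 := ndS (p := 147) (l := 2) rfl N147 D393
theorem N378 : nd 378 = n394 := ndS (p := 147) (l := 3) rfl N147 D394
theorem N379 : nd 379 = n395 := ndS (p := 147) (l := 4) rfl N147 D395
theorem N380 : nd 380 = n396 := ndS (p := 148) (l := 0) rfl N148 D396
theorem N381 : nd 381 = n397 := ndS (p := 148) (l := 2) rfl N148 D397
theorem N382 : nd 382 = n398 := ndS (p := 148) (l := 3) rfl N148 D398
theorem N383 : nd 383 = n399 := ndS (p := 148) (l := 4) rfl N148 D399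
theorem N384 : nd 384 = n400 := ndS (p := 149) (l := 0) rfl N149 D400
theorem N385 : nd 385 = n401 := ndS (p := 149) (l := 4) rfl N149 D401
theorem N386 : nd 386 = n402 := ndS (p := 150) (l := 2) rfl N150 D402
theorem N387 : nd 387 = n403 := ndS (p := 150) (l := 3) rfl N150 D403
theorem N388 : nd 388 = n404 := ndS (p := 151) (l := 1) rfl N151 D404
theorem N389 : nd 389 = n405 := ndS (p := 151) (l := 2) rfl N151 D405
theorem N390 : nd 390 = n406 := ndS (p := 151) (l := 3) rfl N151 D406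
theorem N391 : nd 391 = n407 := ndS (p := 151) (l := 4) rfl N151 D407
theorem N392 : nd 392 = n408 := ndS (p := 152) (l := 2) rfl N152 D408
theorem N393 : nd 393 = n409 := ndS (p := 152) (l := 3) rfl N152 D409
theorem N394 : nd 394 = n410 := ndS (p := 153) (l := 0) rfl N153 D410
theorem N395 : nd 395 = n411 := ndS (p := 153) (l := 1) rfl N153 D411
theorem N396 : nd 396 = n412 := ndS (p := 153) (l := 3) rfl N153 D412
theorem N397 : nd 397 = n413 := ndS (p := 153) (l := 4) rfl N153 D413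
theorem N398 : nd 398 = n414 := ndS (p := 154) (l := 0) rfl N154 D414
theorem N399 : nd 399 = n415 := ndS (p := 154) (l := 4) rfl N154 D415
theorem N400 : nd 400 = n416 := ndS (p := 155) (l := 2) rfl N155 D416
theorem N401 : nd 401 = n417 := ndS (p := 155) (l := 3) rfl N155 D417
theorem N402 : nd 402 = n418 := ndS (p := 155) (l := 4) rfl N155 D418
theorem N403 : nd 403 = n419 := ndS (p := 156) (l := 1) rfl N156 D419
theorem N404 : nd 404 = n420 := ndS (p := 156) (l := 3) rfl N156 D420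
theorem N405 : nd 405 = n421 := ndS (p := 156) (l := 4) rfl N156 D421
theorem N406 : nd 406 = n422 := ndS (p := 157) (l := 4) rfl N157 D422
theorem N407 : nd 407 = n423 := ndS (p := 158) (l := 2) rfl N158 D423
theorem N408 : nd 408 = n424 := ndS (p := 158) (l := 3) rfl N158 D424
theorem N409 : nd 409 = n425 := ndS (p := 159) (l := 1) rfl N159 D425
theorem N410 : nd 410 = n426 := ndS (p := 159) (l := 2) rfl N159 D426
theorem N411 : nd 411 = n427 := ndS (p := 159) (l := 3) rfl N159 D427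
theorem N412 : nd 412 = n428 := ndS (p := 159) (l := 4) rfl N159 D428
theorem N413 : nd 413 = n429 := ndS (p := 160) (l := 0) rfl N160 D429
theorem N414 : nd 414 = n430 := ndS (p := 160) (l := 3) rfl N160 D430
theorem N415 : nd 415 = n431 := ndS (p := 160) (l := 4) rfl N160 D431
theorem N416 : nd 416 = n432 := ndS (p := 161) (l := 0) rfl N161 D432
theorem N417 : nd 417 = n433 := ndS (p := 161) (l := 4) rfl N161 D433
theorem N418 : nd 418 = n434 := ndS (p := 162) (l := 2) rfl N162 D434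
theorem N419 : nd 419 = n435 := ndS (p := 162) (l := 3) rfl N162 D435
theorem N420 : nd 420 = n436 := ndS (p := 163) (l := 1) rfl N163 D436
theorem N421 : nd 421 = n437 := ndS (p := 163) (l := 2) rfl N163 D437
theorem N422 : nd 422 = n438 := ndS (p := 163) (l := 3) rfl N163 D438
theorem N423 : nd 423 = n439 := ndS (p := 163) (l := 4) rfl N163 D439
theorem N424 : nd 424 = n440 := ndS (p := 164) (l := 2) rfl N164 D440
theorem N425 : nd 425 = n441 := ndS (p := 164) (l := 3) rfl N164 D441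
theorem N426 : nd 426 = n442 := ndS (p := 165) (l := 1) rfl N165 D442
theorem N427 : nd 427 = n443 := ndS (p := 165) (l := 3) rfl N165 D443
theorem N428 : nd 428 = n444 := ndS (p := 165) (l := 4) rfl N165 D444
theorem N429 : nd 429 = n445 := ndS (p := 166) (l := 0) rfl N166 D445
theorem N430 : nd 430 = n446 := ndS (p := 166) (l := 4) rfl N166 D446
theorem N431 : nd 431 = n447 := ndS (p := 167) (l := 0) rfl N167 D447
theorem N432 : nd 432 = n448 := ndS (p := 167) (l := 2) rfl N167 D448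
theorem N433 : nd 433 = n449 := ndS (p := 167) (l := 3) rfl N167 D449
theorem N434 : nd 434 = n450 := ndS (p := 167) (l := 4) rfl N167 D450
theorem N435 : nd 435 = n451 := ndS (p := 168) (l := 1) rfl N168 D451
theorem N436 : nd 436 = n452 := ndS (p := 168) (l := 3) rfl N168 D452
theorem N437 : nd 437 = n453 := ndS (p := 168) (l := 4) rfl N168 D453
theorem N438 : nd 438 = n454 := ndS (p := 169) (l := 4) rfl N169 D454
theorem N439 : nd 439 = n455 := ndS (p := 170) (l := 2) rfl N170 D455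
theorem N440 : nd 440 = n456 := ndS (p := 170) (l := 3) rfl N170 D456
theorem N441 : nd 441 = n457 := ndS (p := 171) (l := 0) rfl N171 D457
theorem N442 : nd 442 = n458 := ndS (p := 171) (l := 1) rfl N171 D458
theorem N443 : nd 443 = n459 := ndS (p := 171) (l := 3) rfl N171 D459
theorem N444 : nd 444 = n460 := ndS (p := 171) (l := 4) rfl N171 D460
theorem N445 : nd 445 = n461 := ndS (p := 172) (l := 4) rfl N172 D461
theorem N446 : nd 446 = n462 := ndS (p := 173) (l := 1) rfl N173 D462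
theorem N447 : nd 447 = n463 := ndS (p := 173) (l := 3) rfl N173 D463
theorem N448 : nd 448 = n464 := ndS (p := 173) (l := 4) rfl N173 D464
theorem N449 : nd 449 = n465 := ndS (p := 174) (l := 0) rfl N174 D465
theorem N450 : nd 450 = n466 := ndS (p := 174) (l := 2) rfl N174 D466
theorem N451 : nd 451 = n467 := ndS (p := 174) (l := 3) rfl N174 D467
theorem N452 : nd 452 = n468 := ndS (p := 174) (l := 4) rfl N174 D468
theorem N453 : nd 453 = n469 := ndS (p := 175) (l := 0) rfl N175 D469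
theorem N454 : nd 454 = n470 := ndS (p := 175) (l := 4) rfl N175 D470
theorem N455 : nd 455 = n472 := ndS (p := 177) (l := 1) rfl N177 D472
theorem N456 : nd 456 = n473 := ndS (p := 177) (l := 2) rfl N177 D473
theorem N457 : nd 457 = n474 := ndS (p := 177) (l := 4) rfl N177 D474
theorem N458 : nd 458 = n476 := ndS (p := 179) (l := 1) rfl N179 D476
theorem N459 : nd 459 = n477 := ndS (p := 179) (l := 2) rfl N179 D477
theorem N460 : nd 460 = n478 := ndS (p := 179) (l := 3) rfl N179 D478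
theorem N461 : nd 461 = n479 := ndS (p := 179) (l := 4) rfl N179 D479
theorem N462 : nd 462 = n480 := ndS (p := 180) (l := 0) rfl N180 D480
theorem N463 : nd 463 = n481 := ndS (p := 180) (l := 1) rfl N180 D481
theorem N464 : nd 464 = n482 := ndS (p := 180) (l := 3) rfl N180 D482
theorem N465 : nd 465 = n483 := ndS (p := 180) (l := 4) rfl N180 D483
theorem N466 : nd 466 = n484 := ndS (p := 181) (l := 0) rfl N181 D484
theorem N467 : nd 467 = n485 := ndS (p := 181) (l := 4) rfl N181 D485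
theorem N468 : nd 468 = n486 := ndS (p := 182) (l := 2) rfl N182 D486
theorem N469 : nd 469 = n487 := ndS (p := 182) (l := 3) rfl N182 D487
theorem N470 : nd 470 = n488 := ndS (p := 183) (l := 2) rfl N183 D488
theorem N471 : nd 471 = n489 := ndS (p := 183) (l := 3) rfl N183 D489
theorem N472 : nd 472 = n490 := ndS (p := 183) (l := 4) rfl N183 D490
theorem N473 : nd 473 = n491 := ndS (p := 184) (l := 4) rfl N184 D491
theorem N474 : nd 474 = n492 := ndS (p := 185) (l := 3) rfl N185 D492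
theorem N475 : nd 475 = n493 := ndS (p := 186) (l := 2) rfl N186 D493
theorem N476 : nd 476 = n494 := ndS (p := 186) (l := 3) rfl N186 D494
theorem N477 : nd 477 = n495 := ndS (p := 187) (l := 1) rfl N187 D495
theorem N478 : nd 478 = n496 := ndS (p := 187) (l := 3) rfl N187 D496
theorem N479 : nd 479 = n497 := ndS (p := 187) (l := 4) rfl N187 D497
theorem N480 : nd 480 = n498 := ndS (p := 188) (l := 0) rfl N188 D498
theorem N481 : nd 481 = n499 := ndS (p := 188) (l := 4) rfl N188 D499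
theorem N482 : nd 482 = n500 := ndS (p := 189) (l := 3) rfl N189 D500
theorem N483 : nd 483 = n501 := ndS (p := 189) (l := 4) rfl N189 D501
theorem N484 : nd 484 = n502 := ndS (p := 190) (l := 0) rfl N190 D502
theorem N485 : nd 485 = n503 := ndS (p := 190) (l := 1) rfl N190 D503
theorem N486 : nd 486 = n504 := ndS (p := 190) (l := 3) rfl N190 D504
theorem N487 : nd 487 = n505 := ndS (p := 190) (l := 4) rfl N190 D505
theorem N488 : nd 488 = n506 := ndS (p := 191) (l := 0) rfl N191 D506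
theorem N489 : nd 489 = n507 := ndS (p := 191) (l := 4) rfl N191 D507
theorem N490 : nd 490 = n508 := ndS (p := 192) (l := 2) rfl N192 D508
theorem N491 : nd 491 = n509 := ndS (p := 192) (l := 3) rfl N192 D509
theorem N492 : nd 492 = n511 := ndS (p := 193) (l := 2) rfl N193 D511
theorem N493 : nd 493 = n512 := ndS (p := 193) (l := 3) rfl N193 D512
theorem N494 : nd 494 = n513 := ndS (p := 193) (l := 4) rfl N193 D513
theorem N495 : nd 495 = n514 := ndS (p := 194) (l := 0) rfl N194 D514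
theorem N496 : nd 496 = n515 := ndS (p := 194) (l := 4) rfl N194 D515
theorem N497 : nd 497 = n516 := ndS (p := 195) (l := 2) rfl N195 D516
theorem N498 : nd 498 = n517 := ndS (p := 195) (l := 3) rfl N195 D517
theorem N499 : nd 499 = n518 := ndS (p := 196) (l := 1) rfl N196 D518
theorem N500 : nd 500 = n519 := ndS (p := 196) (l := 2) rfl N196 D519
theorem N501 : nd 501 = n520 := ndS (p := 196) (l := 3) rfl N196 D520
theorem N502 : nd 502 = n521 := ndS (p := 196) (l := 4) rfl N196 D521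
theorem N503 : nd 503 = n522 := ndS (p := 197) (l := 2) rfl N197 D522
theorem N504 : nd 504 = n523 := ndS (p := 197) (l := 3) rfl N197 D523
theorem N505 : nd 505 = n524 := ndS (p := 198) (l := 0) rfl N198 D524
theorem N506 : nd 506 = n525 := ndS (p := 198) (l := 1) rfl N198 D525
theorem N507 : nd 507 = n526 := ndS (p := 198) (l := 3) rfl N198 D526
theorem N508 : nd 508 = n527 := ndS (p := 198) (l := 4) rfl N198 D527
theorem N509 : nd 509 = n528 := ndS (p := 199) (l := 0) rfl N199 D528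
theorem N510 : nd 510 = n529 := ndS (p := 199) (l := 4) rfl N199 D529
theorem N511 : nd 511 = n530 := ndS (p := 200) (l := 0) rfl N200 D530
theorem N512 : nd 512 = n531 := ndS (p := 200) (l := 2) rfl N200 D531
theorem N513 : nd 513 = n532 := ndS (p := 200) (l := 3) rfl N200 D532
theorem N514 : nd 514 = n533 := ndS (p := 200) (l := 4) rfl N200 D533
theorem N515 : nd 515 = n534 := ndS (p := 201) (l := 1) rfl N201 D534
theorem N516 : nd 516 = n535 := ndS (p := 201) (l := 3) rfl N201 D535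
theorem N517 : nd 517 = n536 := ndS (p := 201) (l := 4) rfl N201 D536
theorem N518 : nd 518 = n537 := ndS (p := 202) (l := 4) rfl N202 D537
theorem N519 : nd 519 = n538 := ndS (p := 203) (l := 2) rfl N203 D538
theorem N520 : nd 520 = n539 := ndS (p := 203) (l := 3) rfl N203 D539
theorem N521 : nd 521 = n540 := ndS (p := 204) (l := 0) rfl N204 D540
theorem N522 : nd 522 = n541 := ndS (p := 204) (l := 1) rfl N204 D541
theorem N523 : nd 523 = n542 := ndS (p := 204) (l := 3) rfl N204 D542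
theorem N524 : nd 524 = n543 := ndS (p := 204) (l := 4) rfl N204 D543
theorem N525 : nd 525 = n544 := ndS (p := 205) (l := 4) rfl N205 D544
theorem N526 : nd 526 = n545 := ndS (p := 206) (l := 0) rfl N206 D545
theorem N527 : nd 527 = n546 := ndS (p := 206) (l := 2) rfl N206 D546
theorem N528 : nd 528 = n547 := ndS (p := 206) (l := 3) rfl N206 D547
theorem N529 : nd 529 = n548 := ndS (p := 207) (l := 0) rfl N207 D548
theorem N530 : nd 530 = n549 := ndS (p := 207) (l := 4) rfl N207 D549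
theorem N531 : nd 531 = n551 := ndS (p := 209) (l := 1) rfl N209 D551
theorem N532 : nd 532 = n552 := ndS (p := 209) (l := 2) rfl N209 D552
theorem N533 : nd 533 = n553 := ndS (p := 209) (l := 4) rfl N209 D553
theorem N534 : nd 534 = n555 := ndS (p := 211) (l := 2) rfl N211 D555
theorem N535 : nd 535 = n556 := ndS (p := 211) (l := 3) rfl N211 D556
theorem N536 : nd 536 = n557 := ndS (p := 211) (l := 4) rfl N211 D557
theorem N537 : nd 537 = n558 := ndS (p := 212) (l := 0) rfl N212 D558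
theorem N538 : nd 538 = n559 := ndS (p := 212) (l := 1) rfl N212 D559
theorem N539 : nd 539 = n560 := ndS (p := 212) (l := 3) rfl N212 D560
theorem N540 : nd 540 = n561 := ndS (p := 212) (l := 4) rfl N212 D561
theorem N541 : nd 541 = n563 := ndS (p := 213) (l := 4) rfl N213 D563
theorem N542 : nd 542 = n564 := ndS (p := 214) (l := 2) rfl N214 D564
theorem N543 : nd 543 = n565 := ndS (p := 214) (l := 3) rfl N214 D565
theorem N544 : nd 544 = n566 := ndS (p := 215) (l := 0) rfl N215 D566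
theorem N545 : nd 545 = n567 := ndS (p := 215) (l := 2) rfl N215 D567
theorem N546 : nd 546 = n568 := ndS (p := 215) (l := 3) rfl N215 D568
theorem N547 : nd 547 = n569 := ndS (p := 215) (l := 4) rfl N215 D569
theorem N548 : nd 548 = n570 := ndS (p := 216) (l := 4) rfl N216 D570
theorem N549 : nd 549 = n571 := ndS (p := 217) (l := 3) rfl N217 D571
theorem N550 : nd 550 = n572 := ndS (p := 218) (l := 2) rfl N218 D572
theorem N551 : nd 551 = n573 := ndS (p := 219) (l := 0) rfl N219 D573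
theorem N552 : nd 552 = n574 := ndS (p := 219) (l := 1) rfl N219 D574
theorem N553 : nd 553 = n575 := ndS (p := 219) (l := 3) rfl N219 D575
theorem N554 : nd 554 = n576 := ndS (p := 219) (l := 4) rfl N219 D576
theorem N555 : nd 555 = n577 := ndS (p := 220) (l := 4) rfl N220 D577
theorem N556 : nd 556 = n578 := ndS (p := 221) (l := 1) rfl N221 D578
theorem N557 : nd 557 = n579 := ndS (p := 221) (l := 3) rfl N221 D579
theorem N558 : nd 558 = n580 := ndS (p := 221) (l := 4) rfl N221 D580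
theorem N559 : nd 559 = n581 := ndS (p := 222) (l := 0) rfl N222 D581
theorem N560 : nd 560 = n582 := ndS (p := 222) (l := 2) rfl N222 D582
theorem N561 : nd 561 = n583 := ndS (p := 222) (l := 3) rfl N222 D583
theorem N562 : nd 562 = n584 := ndS (p := 222) (l := 4) rfl N222 D584
theorem N563 : nd 563 = n585 := ndS (p := 223) (l := 0) rfl N223 D585
theorem N564 : nd 564 = n586 := ndS (p := 223) (l := 4) rfl N223 D586
theorem N565 : nd 565 = n589 := ndS (p := 226) (l := 0) rfl N226 D589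
theorem N566 : nd 566 = n590 := ndS (p := 226) (l := 2) rfl N226 D590
theorem N567 : nd 567 = n591 := ndS (p := 226) (l := 3) rfl N226 D591
theorem N568 : nd 568 = n592 := ndS (p := 226) (l := 4) rfl N226 D592
theorem N569 : nd 569 = n593 := ndS (p := 227) (l := 4) rfl N227 D593
theorem N570 : nd 570 = n594 := ndS (p := 228) (l := 3) rfl N228 D594
theorem N571 : nd 571 = n595 := ndS (p := 229) (l := 1) rfl N229 D595
theorem N572 : nd 572 = n596 := ndS (p := 229) (l := 2) rfl N229 D596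
theorem N573 : nd 573 = n597 := ndS (p := 229) (l := 3) rfl N229 D597
theorem N574 : nd 574 = n598 := ndS (p := 229) (l := 4) rfl N229 D598
theorem N575 : nd 575 = n599 := ndS (p := 230) (l := 0) rfl N230 D599
theorem N576 : nd 576 = n600 := ndS (p := 230) (l := 3) rfl N230 D600
theorem N577 : nd 577 = n601 := ndS (p := 230) (l := 4) rfl N230 D601
theorem N578 : nd 578 = n602 := ndS (p := 231) (l := 0) rfl N231 D602
theorem N579 : nd 579 = n603 := ndS (p := 231) (l := 4) rfl N231 D603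
theorem N580 : nd 580 = n604 := ndS (p := 232) (l := 2) rfl N232 D604
theorem N581 : nd 581 = n606 := ndS (p := 233) (l := 1) rfl N233 D606
theorem N582 : nd 582 = n607 := ndS (p := 233) (l := 2) rfl N233 D607
theorem N583 : nd 583 = n608 := ndS (p := 233) (l := 3) rfl N233 D608
theorem N584 : nd 584 = n609 := ndS (p := 233) (l := 4) rfl N233 D609
theorem N585 : nd 585 = n614 := ndS (p := 235) (l := 0) rfl N235 D614
theorem N586 : nd 586 = n615 := ndS (p := 235) (l := 2) rfl N235 D615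
theorem N587 : nd 587 = n616 := ndS (p := 235) (l := 4) rfl N235 D616
theorem N588 : nd 588 = n617 := ndS (p := 236) (l := 1) rfl N236 D617
theorem N589 : nd 589 = n618 := ndS (p := 236) (l := 4) rfl N236 D618
theorem N590 : nd 590 = n619 := ndS (p := 237) (l := 2) rfl N237 D619
theorem N591 : nd 591 = n623 := ndS (p := 238) (l := 2) rfl N238 D623
theorem N592 : nd 592 = n624 := ndS (p := 238) (l := 3) rfl N238 D624
theorem N593 : nd 593 = n625 := ndS (p := 238) (l := 4) rfl N238 D625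
theorem N594 : nd 594 = n626 := ndS (p := 239) (l := 1) rfl N239 D626
theorem N595 : nd 595 = n627 := ndS (p := 239) (l := 3) rfl N239 D627
theorem N596 : nd 596 = n628 := ndS (p := 239) (l := 4) rfl N239 D628
theorem N597 : nd 597 = n629 := ndS (p := 240) (l := 0) rfl N240 D629
theorem N598 : nd 598 = n630 := ndS (p := 240) (l := 4) rfl N240 D630
theorem N599 : nd 599 = n631 := ndS (p := 241) (l := 2) rfl N241 D631
theorem N600 : nd 600 = n632 := ndS (p := 241) (l := 3) rfl N241 D632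
theorem N601 : nd 601 = n633 := ndS (p := 242) (l := 1) rfl N242 D633
theorem N602 : nd 602 = n634 := ndS (p := 242) (l := 2) rfl N242 D634
theorem N603 : nd 603 = n635 := ndS (p := 242) (l := 3) rfl N242 D635
theorem N604 : nd 604 = n636 := ndS (p := 242) (l := 4) rfl N242 D636
theorem N605 : nd 605 = n639 := ndS (p := 243) (l := 3) rfl N243 D639
theorem N606 : nd 606 = n640 := ndS (p := 243) (l := 4) rfl N243 D640
theorem N607 : nd 607 = n641 := ndS (p := 244) (l := 0) rfl N244 D641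
theorem N608 : nd 608 = n642 := ndS (p := 244) (l := 4) rfl N244 D642
theorem N609 : nd 609 = n643 := ndS (p := 245) (l := 2) rfl N245 D643
theorem N610 : nd 610 = n644 := ndS (p := 245) (l := 3) rfl N245 D644
theorem N611 : nd 611 = n645 := ndS (p := 246) (l := 1) rfl N246 D645
theorem N612 : nd 612 = n646 := ndS (p := 246) (l := 2) rfl N246 D646
theorem N613 : nd 613 = n647 := ndS (p := 246) (l := 3) rfl N246 D647
theorem N614 : nd 614 = n648 := ndS (p := 246) (l := 4) rfl N246 D648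
theorem N615 : nd 615 = n649 := ndS (p := 247) (l := 2) rfl N247 D649
theorem N616 : nd 616 = n650 := ndS (p := 247) (l := 3) rfl N247 D650
theorem N617 : nd 617 = n651 := ndS (p := 248) (l := 0) rfl N248 D651
theorem N618 : nd 618 = n652 := ndS (p := 248) (l := 1) rfl N248 D652
theorem N619 : nd 619 = n653 := ndS (p := 248) (l := 3) rfl N248 D653
theorem N620 : nd 620 = n654 := ndS (p := 248) (l := 4) rfl N248 D654
theorem N621 : nd 621 = n655 := ndS (p := 249) (l := 0) rfl N249 D655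
theorem N622 : nd 622 = n656 := ndS (p := 249) (l := 4) rfl N249 D656
theorem N623 : nd 623 = n657 := ndS (p := 250) (l := 2) rfl N250 D657
theorem N624 : nd 624 = n658 := ndS (p := 250) (l := 3) rfl N250 D658
theorem N625 : nd 625 = n659 := ndS (p := 250) (l := 4) rfl N250 D659
theorem N626 : nd 626 = n661 := ndS (p := 251) (l := 3) rfl N251 D661
theorem N627 : nd 627 = n662 := ndS (p := 251) (l := 4) rfl N251 D662
theorem N628 : nd 628 = n663 := ndS (p := 252) (l := 0) rfl N252 D663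
theorem N629 : nd 629 = n664 := ndS (p := 252) (l := 4) rfl N252 D664
theorem N630 : nd 630 = n665 := ndS (p := 253) (l := 2) rfl N253 D665
theorem N631 : nd 631 = n666 := ndS (p := 253) (l := 3) rfl N253 D666
theorem N632 : nd 632 = n667 := ndS (p := 254) (l := 3) rfl N254 D667
theorem N633 : nd 633 = n668 := ndS (p := 255) (l := 4) rfl N255 D668
theorem N634 : nd 634 = n669 := ndS (p := 256) (l := 1) rfl N256 D669
theorem N635 : nd 635 = n670 := ndS (p := 256) (l := 3) rfl N256 D670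
theorem N636 : nd 636 = n671 := ndS (p := 256) (l := 4) rfl N256 D671
theorem N637 : nd 637 = n672 := ndS (p := 257) (l := 4) rfl N257 D672
theorem N638 : nd 638 = n673 := ndS (p := 258) (l := 0) rfl N258 D673
theorem N639 : nd 639 = n674 := ndS (p := 258) (l := 2) rfl N258 D674
theorem N640 : nd 640 = n675 := ndS (p := 258) (l := 3) rfl N258 D675
theorem N641 : nd 641 = n676 := ndS (p := 258) (l := 4) rfl N258 D676
theorem N642 : nd 642 = n677 := ndS (p := 259) (l := 4) rfl N259 D677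
theorem N643 : nd 643 = n679 := ndS (p := 261) (l := 1) rfl N261 D679
theorem N644 : nd 644 = n682 := ndS (p := 263) (l := 3) rfl N263 D682
theorem N645 : nd 645 = n683 := ndS (p := 263) (l := 4) rfl N263 D683
theorem N646 : nd 646 = n684 := ndS (p := 264) (l := 0) rfl N264 D684
theorem N647 : nd 647 = n685 := ndS (p := 264) (l := 4) rfl N264 D685
theorem N648 : nd 648 = n686 := ndS (p := 265) (l := 2) rfl N265 D686
theorem N649 : nd 649 = n687 := ndS (p := 265) (l := 3) rfl N265 D687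
theorem N650 : nd 650 = n688 := ndS (p := 266) (l := 1) rfl N266 D688
theorem N651 : nd 651 = n689 := ndS (p := 266) (l := 2) rfl N266 D689
theorem N652 : nd 652 = n690 := ndS (p := 266) (l := 3) rfl N266 D690
theorem N653 : nd 653 = n691 := ndS (p := 266) (l := 4) rfl N266 D691
theorem N654 : nd 654 = n692 := ndS (p := 267) (l := 0) rfl N267 D692
theorem N655 : nd 655 = n693 := ndS (p := 267) (l := 2) rfl N267 D693
theorem N656 : nd 656 = n694 := ndS (p := 267) (l := 3) rfl N267 D694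
theorem N657 : nd 657 = n695 := ndS (p := 267) (l := 4) rfl N267 D695
theorem N658 : nd 658 = n696 := ndS (p := 268) (l := 0) rfl N268 D696
theorem N659 : nd 659 = n697 := ndS (p := 268) (l := 4) rfl N268 D697
theorem N660 : nd 660 = n698 := ndS (p := 269) (l := 2) rfl N269 D698
theorem N661 : nd 661 = n699 := ndS (p := 269) (l := 3) rfl N269 D699
theorem N662 : nd 662 = n700 := ndS (p := 270) (l := 1) rfl N270 D700
theorem N663 : nd 663 = n701 := ndS (p := 270) (l := 2) rfl N270 D701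
theorem N664 : nd 664 = n702 := ndS (p := 270) (l := 3) rfl N270 D702
theorem N665 : nd 665 = n703 := ndS (p := 270) (l := 4) rfl N270 D703
theorem N666 : nd 666 = n704 := ndS (p := 271) (l := 2) rfl N271 D704
theorem N667 : nd 667 = n705 := ndS (p := 271) (l := 3) rfl N271 D705
theorem N668 : nd 668 = n706 := ndS (p := 272) (l := 0) rfl N272 D706
theorem N669 : nd 669 = n707 := ndS (p := 272) (l := 1) rfl N272 D707
theorem N670 : nd 670 = n708 := ndS (p := 272) (l := 3) rfl N272 D708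
theorem N671 : nd 671 = n709 := ndS (p := 272) (l := 4) rfl N272 D709
theorem N672 : nd 672 = n710 := ndS (p := 273) (l := 0) rfl N273 D710
theorem N673 : nd 673 = n711 := ndS (p := 273) (l := 4) rfl N273 D711
theorem N674 : nd 674 = n712 := ndS (p := 274) (l := 2) rfl N274 D712
theorem N675 : nd 675 = n713 := ndS (p := 274) (l := 3) rfl N274 D713
theorem N676 : nd 676 = n714 := ndS (p := 274) (l := 4) rfl N274 D714
theorem N677 : nd 677 = n715 := ndS (p := 275) (l := 3) rfl N275 D715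
theorem N678 : nd 678 = n716 := ndS (p := 275) (l := 4) rfl N275 D716
theorem N679 : nd 679 = n717 := ndS (p := 276) (l := 4) rfl N276 D717
theorem N680 : nd 680 = n718 := ndS (p := 277) (l := 2) rfl N277 D718
theorem N681 : nd 681 = n719 := ndS (p := 277) (l := 3) rfl N277 D719
theorem N682 : nd 682 = n720 := ndS (p := 278) (l := 1) rfl N278 D720
theorem N683 : nd 683 = n721 := ndS (p := 278) (l := 2) rfl N278 D721
theorem N684 : nd 684 = n722 := ndS (p := 278) (l := 3) rfl N278 D722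
theorem N685 : nd 685 = n723 := ndS (p := 278) (l := 4) rfl N278 D723
theorem N686 : nd 686 = n724 := ndS (p := 279) (l := 2) rfl N279 D724
theorem N687 : nd 687 = n725 := ndS (p := 279) (l := 3) rfl N279 D725
theorem N688 : nd 688 = n726 := ndS (p := 280) (l := 1) rfl N280 D726
theorem N689 : nd 689 = n727 := ndS (p := 280) (l := 3) rfl N280 D727
theorem N690 : nd 690 = n728 := ndS (p := 280) (l := 4) rfl N280 D728
theorem N691 : nd 691 = n729 := ndS (p := 281) (l := 0) rfl N281 D729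
theorem N692 : nd 692 = n730 := ndS (p := 281) (l := 4) rfl N281 D730
theorem N693 : nd 693 = n731 := ndS (p := 282) (l := 0) rfl N282 D731
theorem N694 : nd 694 = n732 := ndS (p := 282) (l := 2) rfl N282 D732
theorem N695 : nd 695 = n733 := ndS (p := 282) (l := 3) rfl N282 D733
theorem N696 : nd 696 = n734 := ndS (p := 282) (l := 4) rfl N282 D734
theorem N697 : nd 697 = n735 := ndS (p := 283) (l := 1) rfl N283 D735
theorem N698 : nd 698 = n736 := ndS (p := 283) (l := 3) rfl N283 D736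
theorem N699 : nd 699 = n737 := ndS (p := 283) (l := 4) rfl N283 D737
theorem N700 : nd 700 = n738 := ndS (p := 284) (l := 4) rfl N284 D738
theorem N701 : nd 701 = n739 := ndS (p := 285) (l := 2) rfl N285 D739
theorem N702 : nd 702 = n740 := ndS (p := 285) (l := 3) rfl N285 D740
theorem N703 : nd 703 = n741 := ndS (p := 286) (l := 0) rfl N286 D741
theorem N704 : nd 704 = n742 := ndS (p := 286) (l := 1) rfl N286 D742
theorem N705 : nd 705 = n743 := ndS (p := 286) (l := 3) rfl N286 D743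
theorem N706 : nd 706 = n744 := ndS (p := 286) (l := 4) rfl N286 D744
theorem N707 : nd 707 = n745 := ndS (p := 287) (l := 4) rfl N287 D745
theorem N708 : nd 708 = n746 := ndS (p := 288) (l := 1) rfl N288 D746
theorem N709 : nd 709 = n747 := ndS (p := 288) (l := 3) rfl N288 D747
theorem N710 : nd 710 = n748 := ndS (p := 288) (l := 4) rfl N288 D748
theorem N711 : nd 711 = n749 := ndS (p := 289) (l := 0) rfl N289 D749
theorem N712 : nd 712 = n750 := ndS (p := 289) (l := 2) rfl N289 D750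
theorem N713 : nd 713 = n751 := ndS (p := 289) (l := 3) rfl N289 D751
theorem N714 : nd 714 = n753 := ndS (p := 290) (l := 0) rfl N290 D753
theorem N715 : nd 715 = n754 := ndS (p := 290) (l := 4) rfl N290 D754
theorem N716 : nd 716 = n756 := ndS (p := 292) (l := 1) rfl N292 D756
theorem N717 : nd 717 = n757 := ndS (p := 292) (l := 2) rfl N292 D757
theorem N718 : nd 718 = n758 := ndS (p := 292) (l := 4) rfl N292 D758
theorem N719 : nd 719 = n760 := ndS (p := 294) (l := 2) rfl N294 D760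
theorem N720 : nd 720 = n761 := ndS (p := 294) (l := 3) rfl N294 D761
theorem N721 : nd 721 = n762 := ndS (p := 294) (l := 4) rfl N294 D762
theorem N722 : nd 722 = n763 := ndS (p := 295) (l := 0) rfl N295 D763
theorem N723 : nd 723 = n764 := ndS (p := 295) (l := 1) rfl N295 D764
theorem N724 : nd 724 = n765 := ndS (p := 295) (l := 3) rfl N295 D765
theorem N725 : nd 725 = n766 := ndS (p := 295) (l := 4) rfl N295 D766
theorem N726 : nd 726 = n767 := ndS (p := 296) (l := 0) rfl N296 D767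
theorem N727 : nd 727 = n768 := ndS (p := 296) (l := 4) rfl N296 D768
theorem N728 : nd 728 = n769 := ndS (p := 297) (l := 2) rfl N297 D769
theorem N729 : nd 729 = n770 := ndS (p := 297) (l := 3) rfl N297 D770
theorem N730 : nd 730 = n771 := ndS (p := 298) (l := 0) rfl N298 D771
theorem N731 : nd 731 = n772 := ndS (p := 298) (l := 2) rfl N298 D772
theorem N732 : nd 732 = n773 := ndS (p := 298) (l := 3) rfl N298 D773
theorem N733 : nd 733 = n774 := ndS (p := 298) (l := 4) rfl N298 D774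
theorem N734 : nd 734 = n775 := ndS (p := 299) (l := 4) rfl N299 D775
theorem N735 : nd 735 = n776 := ndS (p := 300) (l := 3) rfl N300 D776
theorem N736 : nd 736 = n777 := ndS (p := 301) (l := 2) rfl N301 D777
theorem N737 : nd 737 = n778 := ndS (p := 302) (l := 1) rfl N302 D778
theorem N738 : nd 738 = n779 := ndS (p := 302) (l := 3) rfl N302 D779
theorem N739 : nd 739 = n780 := ndS (p := 302) (l := 4) rfl N302 D780
theorem N740 : nd 740 = n781 := ndS (p := 303) (l := 4) rfl N303 D781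
theorem N741 : nd 741 = n782 := ndS (p := 304) (l := 1) rfl N304 D782
theorem N742 : nd 742 = n783 := ndS (p := 304) (l := 3) rfl N304 D783
theorem N743 : nd 743 = n784 := ndS (p := 304) (l := 4) rfl N304 D784
theorem N744 : nd 744 = n785 := ndS (p := 305) (l := 0) rfl N305 D785
theorem N745 : nd 745 = n786 := ndS (p := 305) (l := 2) rfl N305 D786
theorem N746 : nd 746 = n787 := ndS (p := 305) (l := 3) rfl N305 D787
theorem N747 : nd 747 = n788 := ndS (p := 305) (l := 4) rfl N305 D788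
theorem N748 : nd 748 = n789 := ndS (p := 306) (l := 4) rfl N306 D789
theorem N749 : nd 749 = n792 := ndS (p := 309) (l := 1) rfl N309 D792
theorem N750 : nd 750 = n793 := ndS (p := 309) (l := 2) rfl N309 D793
theorem N751 : nd 751 = n794 := ndS (p := 309) (l := 3) rfl N309 D794
theorem N752 : nd 752 = n795 := ndS (p := 309) (l := 4) rfl N309 D795
theorem N753 : nd 753 = n796 := ndS (p := 310) (l := 0) rfl N310 D796
theorem N754 : nd 754 = n797 := ndS (p := 310) (l := 3) rfl N310 D797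
theorem N755 : nd 755 = n798 := ndS (p := 310) (l := 4) rfl N310 D798
theorem N756 : nd 756 = n799 := ndS (p := 311) (l := 0) rfl N311 D799
theorem N757 : nd 757 = n800 := ndS (p := 311) (l := 4) rfl N311 D800
theorem N758 : nd 758 = n801 := ndS (p := 312) (l := 2) rfl N312 D801
theorem N759 : nd 759 = n803 := ndS (p := 313) (l := 1) rfl N313 D803
theorem N760 : nd 760 = n804 := ndS (p := 313) (l := 3) rfl N313 D804
theorem N761 : nd 761 = n805 := ndS (p := 313) (l := 4) rfl N313 D805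
theorem N762 : nd 762 = n810 := ndS (p := 315) (l := 0) rfl N315 D810
theorem N763 : nd 763 = n811 := ndS (p := 315) (l := 2) rfl N315 D811
theorem N764 : nd 764 = n812 := ndS (p := 315) (l := 4) rfl N315 D812
theorem N765 : nd 765 = n813 := ndS (p := 316) (l := 1) rfl N316 D813
theorem N766 : nd 766 = n814 := ndS (p := 316) (l := 4) rfl N316 D814
theorem N767 : nd 767 = n815 := ndS (p := 317) (l := 2) rfl N317 D815
theorem N768 : nd 768 = n819 := ndS (p := 318) (l := 0) rfl N318 D819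
theorem N769 : nd 769 = n820 := ndS (p := 318) (l := 1) rfl N318 D820
theorem N770 : nd 770 = n821 := ndS (p := 318) (l := 3) rfl N318 D821
theorem N771 : nd 771 = n822 := ndS (p := 318) (l := 4) rfl N318 D822
theorem N772 : nd 772 = n823 := ndS (p := 319) (l := 0) rfl N319 D823
theorem N773 : nd 773 = n824 := ndS (p := 319) (l := 4) rfl N319 D824
theorem N774 : nd 774 = n825 := ndS (p := 320) (l := 2) rfl N320 D825
theorem N775 : nd 775 = n826 := ndS (p := 320) (l := 3) rfl N320 D826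
theorem N776 : nd 776 = n827 := ndS (p := 321) (l := 1) rfl N321 D827
theorem N777 : nd 777 = n828 := ndS (p := 321) (l := 2) rfl N321 D828
theorem N778 : nd 778 = n829 := ndS (p := 321) (l := 3) rfl N321 D829
theorem N779 : nd 779 = n830 := ndS (p := 321) (l := 4) rfl N321 D830
theorem N780 : nd 780 = n831 := ndS (p := 322) (l := 2) rfl N322 D831
theorem N781 : nd 781 = n832 := ndS (p := 322) (l := 4) rfl N322 D832
theorem N782 : nd 782 = n833 := ndS (p := 323) (l := 0) rfl N323 D833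
theorem N783 : nd 783 = n834 := ndS (p := 323) (l := 4) rfl N323 D834
theorem N784 : nd 784 = n835 := ndS (p := 324) (l := 2) rfl N324 D835
theorem N785 : nd 785 = n836 := ndS (p := 324) (l := 3) rfl N324 D836
theorem N786 : nd 786 = n838 := ndS (p := 325) (l := 2) rfl N325 D838
theorem N787 : nd 787 = n840 := ndS (p := 325) (l := 4) rfl N325 D840
theorem N788 : nd 788 = n841 := ndS (p := 326) (l := 2) rfl N326 D841
theorem N789 : nd 789 = n842 := ndS (p := 327) (l := 0) rfl N327 D842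
theorem N790 : nd 790 = n843 := ndS (p := 327) (l := 1) rfl N327 D843
theorem N791 : nd 791 = n844 := ndS (p := 327) (l := 3) rfl N327 D844
theorem N792 : nd 792 = n845 := ndS (p := 327) (l := 4) rfl N327 D845
theorem N793 : nd 793 = n846 := ndS (p := 328) (l := 0) rfl N328 D846
theorem N794 : nd 794 = n847 := ndS (p := 328) (l := 4) rfl N328 D847
theorem N795 : nd 795 = n848 := ndS (p := 329) (l := 1) rfl N329 D848
theorem N796 : nd 796 = n849 := ndS (p := 329) (l := 2) rfl N329 D849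
theorem N797 : nd 797 = n850 := ndS (p := 329) (l := 3) rfl N329 D850
theorem N798 : nd 798 = n851 := ndS (p := 329) (l := 4) rfl N329 D851
theorem N799 : nd 799 = n852 := ndS (p := 330) (l := 0) rfl N330 D852
theorem N800 : nd 800 = n853 := ndS (p := 330) (l := 3) rfl N330 D853
theorem N801 : nd 801 = n854 := ndS (p := 330) (l := 4) rfl N330 D854
theorem N802 : nd 802 = n855 := ndS (p := 331) (l := 0) rfl N331 D855
theorem N803 : nd 803 = n856 := ndS (p := 331) (l := 4) rfl N331 D856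
theorem N804 : nd 804 = n857 := ndS (p := 332) (l := 2) rfl N332 D857
theorem N805 : nd 805 = n858 := ndS (p := 332) (l := 3) rfl N332 D858
theorem N806 : nd 806 = n859 := ndS (p := 334) (l := 4) rfl N334 D859
theorem N807 : nd 807 = n860 := ndS (p := 335) (l := 1) rfl N335 D860
theorem N808 : nd 808 = n861 := ndS (p := 335) (l := 4) rfl N335 D861
theorem N809 : nd 809 = n862 := ndS (p := 336) (l := 1) rfl N336 D862
theorem N810 : nd 810 = n864 := ndS (p := 337) (l := 0) rfl N337 D864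
theorem N811 : nd 811 = n865 := ndS (p := 337) (l := 2) rfl N337 D865
theorem N812 : nd 812 = n866 := ndS (p := 337) (l := 3) rfl N337 D866
theorem N813 : nd 813 = n867 := ndS (p := 337) (l := 4) rfl N337 D867
theorem N814 : nd 814 = n868 := ndS (p := 338) (l := 4) rfl N338 D868
theorem N815 : nd 815 = n871 := ndS (p := 341) (l := 0) rfl N341 D871
theorem N816 : nd 816 = n872 := ndS (p := 341) (l := 2) rfl N341 D872
theorem N817 : nd 817 = n873 := ndS (p := 341) (l := 3) rfl N341 D873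
theorem N818 : nd 818 = n874 := ndS (p := 341) (l := 4) rfl N341 D874
theorem N819 : nd 819 = n875 := ndS (p := 342) (l := 4) rfl N342 D875
theorem N820 : nd 820 = n876 := ndS (p := 343) (l := 3) rfl N343 D876
theorem N821 : nd 821 = n877 := ndS (p := 344) (l := 1) rfl N344 D877
theorem N822 : nd 822 = n878 := ndS (p := 344) (l := 2) rfl N344 D878
theorem N823 : nd 823 = n879 := ndS (p := 344) (l := 3) rfl N344 D879
theorem N824 : nd 824 = n880 := ndS (p := 344) (l := 4) rfl N344 D880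
theorem N825 : nd 825 = n881 := ndS (p := 345) (l := 0) rfl N345 D881
theorem N826 : nd 826 = n882 := ndS (p := 345) (l := 3) rfl N345 D882
theorem N827 : nd 827 = n883 := ndS (p := 345) (l := 4) rfl N345 D883
theorem N828 : nd 828 = n884 := ndS (p := 346) (l := 0) rfl N346 D884
theorem N829 : nd 829 = n885 := ndS (p := 346) (l := 4) rfl N346 D885
theorem N830 : nd 830 = n886 := ndS (p := 347) (l := 2) rfl N347 D886
theorem N831 : nd 831 = n888 := ndS (p := 348) (l := 1) rfl N348 D888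
theorem N832 : nd 832 = n889 := ndS (p := 348) (l := 4) rfl N348 D889
theorem N833 : nd 833 = n897 := ndS (p := 350) (l := 1) rfl N350 D897
theorem N834 : nd 834 = n898 := ndS (p := 350) (l := 2) rfl N350 D898
theorem N835 : nd 835 = n899 := ndS (p := 350) (l := 3) rfl N350 D899
theorem N836 : nd 836 = n900 := ndS (p := 350) (l := 4) rfl N350 D900
theorem N837 : nd 837 = n901 := ndS (p := 351) (l := 0) rfl N351 D901
theorem N838 : nd 838 = n902 := ndS (p := 351) (l := 1) rfl N351 D902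
theorem N839 : nd 839 = n903 := ndS (p := 351) (l := 3) rfl N351 D903
theorem N840 : nd 840 = n904 := ndS (p := 351) (l := 4) rfl N351 D904
theorem N841 : nd 841 = n905 := ndS (p := 352) (l := 0) rfl N352 D905
theorem N842 : nd 842 = n906 := ndS (p := 352) (l := 4) rfl N352 D906
theorem N843 : nd 843 = n907 := ndS (p := 353) (l := 2) rfl N353 D907
theorem N844 : nd 844 = n908 := ndS (p := 353) (l := 3) rfl N353 D908
theorem N845 : nd 845 = n913 := ndS (p := 356) (l := 2) rfl N356 D913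
theorem N846 : nd 846 = n914 := ndS (p := 356) (l := 3) rfl N356 D914
theorem N847 : nd 847 = n915 := ndS (p := 356) (l := 4) rfl N356 D915
theorem N848 : nd 848 = n916 := ndS (p := 357) (l := 0) rfl N357 D916
theorem N849 : nd 849 = n917 := ndS (p := 357) (l := 1) rfl N357 D917
theorem N850 : nd 850 = n918 := ndS (p := 357) (l := 3) rfl N357 D918
theorem N851 : nd 851 = n919 := ndS (p := 357) (l := 4) rfl N357 D919
theorem N852 : nd 852 = n920 := ndS (p := 358) (l := 0) rfl N358 D920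
theorem N853 : nd 853 = n921 := ndS (p := 358) (l := 4) rfl N358 D921
theorem N854 : nd 854 = n922 := ndS (p := 359) (l := 2) rfl N359 D922
theorem N855 : nd 855 = n923 := ndS (p := 359) (l := 3) rfl N359 D923
theorem N856 : nd 856 = n924 := ndS (p := 360) (l := 1) rfl N360 D924
theorem N857 : nd 857 = n925 := ndS (p := 360) (l := 2) rfl N360 D925
theorem N858 : nd 858 = n926 := ndS (p := 360) (l := 3) rfl N360 D926
theorem N859 : nd 859 = n927 := ndS (p := 360) (l := 4) rfl N360 D927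
theorem N860 : nd 860 = n928 := ndS (p := 361) (l := 0) rfl N361 D928
theorem N861 : nd 861 = n929 := ndS (p := 361) (l := 4) rfl N361 D929
theorem N862 : nd 862 = n930 := ndS (p := 362) (l := 2) rfl N362 D930
theorem N863 : nd 863 = n932 := ndS (p := 363) (l := 1) rfl N363 D932
theorem N864 : nd 864 = n933 := ndS (p := 363) (l := 2) rfl N363 D933
theorem N865 : nd 865 = n934 := ndS (p := 363) (l := 3) rfl N363 D934
theorem N866 : nd 866 = n935 := ndS (p := 363) (l := 4) rfl N363 D935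
theorem N867 : nd 867 = n936 := ndS (p := 364) (l := 2) rfl N364 D936
theorem N868 : nd 868 = n938 := ndS (p := 365) (l := 0) rfl N365 D938
theorem N869 : nd 869 = n944 := ndS (p := 366) (l := 0) rfl N366 D944
theorem N870 : nd 870 = n945 := ndS (p := 366) (l := 2) rfl N366 D945
theorem N871 : nd 871 = n946 := ndS (p := 366) (l := 3) rfl N366 D946
theorem N872 : nd 872 = n947 := ndS (p := 366) (l := 4) rfl N366 D947
theorem N873 : nd 873 = n948 := ndS (p := 367) (l := 1) rfl N367 D948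
theorem N874 : nd 874 = n962 := ndS (p := 370) (l := 2) rfl N370 D962
theorem N875 : nd 875 = n963 := ndS (p := 370) (l := 4) rfl N370 D963
theorem N876 : nd 876 = n964 := ndS (p := 371) (l := 0) rfl N371 D964
theorem N877 : nd 877 = n965 := ndS (p := 371) (l := 1) rfl N371 D965
theorem N878 : nd 878 = n966 := ndS (p := 371) (l := 4) rfl N371 D966
theorem N879 : nd 879 = n967 := ndS (p := 372) (l := 2) rfl N372 D967
theorem N880 : nd 880 = n968 := ndS (p := 373) (l := 0) rfl N373 D968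
theorem N881 : nd 881 = n969 := ndS (p := 373) (l := 2) rfl N373 D969
theorem N882 : nd 882 = n970 := ndS (p := 373) (l := 4) rfl N373 D970
theorem N883 : nd 883 = n973 := ndS (p := 375) (l := 1) rfl N375 D973
theorem N884 : nd 884 = n982 := ndS (p := 376) (l := 2) rfl N376 D982
theorem N885 : nd 885 = n983 := ndS (p := 376) (l := 3) rfl N376 D983
theorem N886 : nd 886 = n984 := ndS (p := 376) (l := 4) rfl N376 D984
theorem N887 : nd 887 = n985 := ndS (p := 377) (l := 3) rfl N377 D985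
theorem N888 : nd 888 = n986 := ndS (p := 377) (l := 4) rfl N377 D986
theorem N889 : nd 889 = n987 := ndS (p := 378) (l := 4) rfl N378 D987
theorem N890 : nd 890 = n988 := ndS (p := 379) (l := 2) rfl N379 D988
theorem N891 : nd 891 = n989 := ndS (p := 379) (l := 3) rfl N379 D989
theorem N892 : nd 892 = n990 := ndS (p := 380) (l := 2) rfl N380 D990
theorem N893 : nd 893 = n991 := ndS (p := 380) (l := 3) rfl N380 D991
theorem N894 : nd 894 = n992 := ndS (p := 380) (l := 4) rfl N380 D992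
theorem N895 : nd 895 = n993 := ndS (p := 381) (l := 3) rfl N381 D993
theorem N896 : nd 896 = n994 := ndS (p := 381) (l := 4) rfl N381 D994
theorem N897 : nd 897 = n995 := ndS (p := 382) (l := 0) rfl N382 D995
theorem N898 : nd 898 = n996 := ndS (p := 382) (l := 4) rfl N382 D996
theorem N899 : nd 899 = n997 := ndS (p := 383) (l := 2) rfl N383 D997
theorem N900 : nd 900 = n998 := ndS (p := 383) (l := 3) rfl N383 D998
theorem N901 : nd 901 = n999 := ndS (p := 384) (l := 1) rfl N384 D999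
theorem N902 : nd 902 = n1000 := ndS (p := 384) (l := 2) rfl N384 D1000
theorem N903 : nd 903 = n1001 := ndS (p := 384) (l := 3) rfl N384 D1001
theorem N904 : nd 904 = n1002 := ndS (p := 384) (l := 4) rfl N384 D1002
theorem N905 : nd 905 = n1003 := ndS (p := 385) (l := 2) rfl N385 D1003
theorem N906 : nd 906 = n1004 := ndS (p := 385) (l := 3) rfl N385 D1004
theorem N907 : nd 907 = n1005 := ndS (p := 386) (l := 3) rfl N386 D1005
theorem N908 : nd 908 = n1006 := ndS (p := 387) (l := 0) rfl N387 D1006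
theorem N909 : nd 909 = n1007 := ndS (p := 387) (l := 4) rfl N387 D1007
theorem N910 : nd 910 = n1008 := ndS (p := 388) (l := 0) rfl N388 D1008
theorem N911 : nd 911 = n1009 := ndS (p := 388) (l := 2) rfl N388 D1009
theorem N912 : nd 912 = n1011 := ndS (p := 388) (l := 4) rfl N388 D1011
theorem N913 : nd 913 = n1012 := ndS (p := 389) (l := 1) rfl N389 D1012
theorem N914 : nd 914 = n1013 := ndS (p := 389) (l := 3) rfl N389 D1013
theorem N915 : nd 915 = n1014 := ndS (p := 389) (l := 4) rfl N389 D1014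
theorem N916 : nd 916 = n1015 := ndS (p := 390) (l := 4) rfl N390 D1015
theorem N917 : nd 917 = n1016 := ndS (p := 391) (l := 2) rfl N391 D1016
theorem N918 : nd 918 = n1017 := ndS (p := 391) (l := 3) rfl N391 D1017
theorem N919 : nd 919 = n1018 := ndS (p := 392) (l := 0) rfl N392 D1018
theorem N920 : nd 920 = n1019 := ndS (p := 392) (l := 1) rfl N392 D1019
theorem N921 : nd 921 = n1020 := ndS (p := 392) (l := 3) rfl N392 D1020
theorem N922 : nd 922 = n1021 := ndS (p := 392) (l := 4) rfl N392 D1021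
theorem N923 : nd 923 = n1022 := ndS (p := 393) (l := 4) rfl N393 D1022
theorem N924 : nd 924 = n1023 := ndS (p := 394) (l := 1) rfl N394 D1023
theorem N925 : nd 925 = n1024 := ndS (p := 394) (l := 3) rfl N394 D1024
theorem N926 : nd 926 = n1025 := ndS (p := 394) (l := 4) rfl N394 D1025
theorem N927 : nd 927 = n1026 := ndS (p := 395) (l := 0) rfl N395 D1026
theorem N928 : nd 928 = n1027 := ndS (p := 395) (l := 2) rfl N395 D1027
theorem N929 : nd 929 = n1028 := ndS (p := 395) (l := 3) rfl N395 D1028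
theorem N930 : nd 930 = n1029 := ndS (p := 395) (l := 4) rfl N395 D1029
theorem N931 : nd 931 = n1030 := ndS (p := 396) (l := 0) rfl N396 D1030
theorem N932 : nd 932 = n1031 := ndS (p := 396) (l := 4) rfl N396 D1031
theorem N933 : nd 933 = n1033 := ndS (p := 398) (l := 1) rfl N398 D1033
theorem N934 : nd 934 = n1034 := ndS (p := 398) (l := 2) rfl N398 D1034
theorem N935 : nd 935 = n1035 := ndS (p := 398) (l := 4) rfl N398 D1035
theorem N936 : nd 936 = n1037 := ndS (p := 400) (l := 3) rfl N400 D1037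
theorem N937 : nd 937 = n1038 := ndS (p := 400) (l := 4) rfl N400 D1038
theorem N938 : nd 938 = n1039 := ndS (p := 401) (l := 4) rfl N401 D1039
theorem N939 : nd 939 = n1040 := ndS (p := 402) (l := 2) rfl N402 D1040
theorem N940 : nd 940 = n1041 := ndS (p := 402) (l := 3) rfl N402 D1041
theorem N941 : nd 941 = n1042 := ndS (p := 403) (l := 3) rfl N403 D1042
theorem N942 : nd 942 = n1043 := ndS (p := 403) (l := 4) rfl N403 D1043
theorem N943 : nd 943 = n1044 := ndS (p := 404) (l := 4) rfl N404 D1044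
theorem N944 : nd 944 = n1045 := ndS (p := 405) (l := 3) rfl N405 D1045
theorem N945 : nd 945 = n1046 := ndS (p := 406) (l := 2) rfl N406 D1046
theorem N946 : nd 946 = n1047 := ndS (p := 406) (l := 3) rfl N406 D1047
theorem N947 : nd 947 = n1048 := ndS (p := 407) (l := 1) rfl N407 D1048
theorem N948 : nd 948 = n1049 := ndS (p := 407) (l := 3) rfl N407 D1049
theorem N949 : nd 949 = n1050 := ndS (p := 407) (l := 4) rfl N407 D1050
theorem N950 : nd 950 = n1051 := ndS (p := 408) (l := 0) rfl N408 D1051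
theorem N951 : nd 951 = n1052 := ndS (p := 408) (l := 4) rfl N408 D1052
theorem N952 : nd 952 = n1053 := ndS (p := 409) (l := 3) rfl N409 D1053
theorem N953 : nd 953 = n1054 := ndS (p := 409) (l := 4) rfl N409 D1054
theorem N954 : nd 954 = n1055 := ndS (p := 410) (l := 0) rfl N410 D1055
theorem N955 : nd 955 = n1056 := ndS (p := 410) (l := 3) rfl N410 D1056
theorem N956 : nd 956 = n1057 := ndS (p := 410) (l := 4) rfl N410 D1057
theorem N957 : nd 957 = n1058 := ndS (p := 411) (l := 0) rfl N411 D1058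
theorem N958 : nd 958 = n1059 := ndS (p := 411) (l := 4) rfl N411 D1059
theorem N959 : nd 959 = n1060 := ndS (p := 412) (l := 2) rfl N412 D1060
theorem N960 : nd 960 = n1061 := ndS (p := 412) (l := 3) rfl N412 D1061
theorem N961 : nd 961 = n1062 := ndS (p := 413) (l := 2) rfl N413 D1062
theorem N962 : nd 962 = n1063 := ndS (p := 413) (l := 3) rfl N413 D1063
theorem N963 : nd 963 = n1064 := ndS (p := 413) (l := 4) rfl N413 D1064
theorem N964 : nd 964 = n1065 := ndS (p := 414) (l := 0) rfl N414 D1065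
theorem N965 : nd 965 = n1066 := ndS (p := 414) (l := 4) rfl N414 D1066
theorem N966 : nd 966 = n1067 := ndS (p := 415) (l := 2) rfl N415 D1067
theorem N967 : nd 967 = n1068 := ndS (p := 415) (l := 3) rfl N415 D1068
theorem N968 : nd 968 = n1069 := ndS (p := 416) (l := 1) rfl N416 D1069
theorem N969 : nd 969 = n1070 := ndS (p := 416) (l := 2) rfl N416 D1070
theorem N970 : nd 970 = n1071 := ndS (p := 416) (l := 3) rfl N416 D1071
theorem N971 : nd 971 = n1072 := ndS (p := 416) (l := 4) rfl N416 D1072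
theorem N972 : nd 972 = n1073 := ndS (p := 417) (l := 2) rfl N417 D1073
theorem N973 : nd 973 = n1074 := ndS (p := 417) (l := 3) rfl N417 D1074
theorem N974 : nd 974 = n1075 := ndS (p := 418) (l := 0) rfl N418 D1075
theorem N975 : nd 975 = n1076 := ndS (p := 418) (l := 1) rfl N418 D1076
theorem N976 : nd 976 = n1077 := ndS (p := 418) (l := 3) rfl N418 D1077
theorem N977 : nd 977 = n1078 := ndS (p := 418) (l := 4) rfl N418 D1078
theorem N978 : nd 978 = n1079 := ndS (p := 419) (l := 0) rfl N419 D1079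
theorem N979 : nd 979 = n1080 := ndS (p := 419) (l := 4) rfl N419 D1080
theorem N980 : nd 980 = n1081 := ndS (p := 420) (l := 0) rfl N420 D1081
theorem N981 : nd 981 = n1082 := ndS (p := 420) (l := 2) rfl N420 D1082
theorem N982 : nd 982 = n1083 := ndS (p := 420) (l := 3) rfl N420 D1083
theorem N983 : nd 983 = n1084 := ndS (p := 420) (l := 4) rfl N420 D1084
theorem N984 : nd 984 = n1085 := ndS (p := 421) (l := 1) rfl N421 D1085
theorem N985 : nd 985 = n1086 := ndS (p := 421) (l := 3) rfl N421 D1086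
theorem N986 : nd 986 = n1087 := ndS (p := 421) (l := 4) rfl N421 D1087
theorem N987 : nd 987 = n1088 := ndS (p := 422) (l := 4) rfl N422 D1088
theorem N988 : nd 988 = n1089 := ndS (p := 423) (l := 2) rfl N423 D1089
theorem N989 : nd 989 = n1090 := ndS (p := 423) (l := 3) rfl N423 D1090
theorem N990 : nd 990 = n1091 := ndS (p := 424) (l := 0) rfl N424 D1091
theorem N991 : nd 991 = n1092 := ndS (p := 424) (l := 1) rfl N424 D1092
theorem N992 : nd 992 = n1093 := ndS (p := 424) (l := 3) rfl N424 D1093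
theorem N993 : nd 993 = n1094 := ndS (p := 424) (l := 4) rfl N424 D1094
theorem N994 : nd 994 = n1095 := ndS (p := 425) (l := 4) rfl N425 D1095
theorem N995 : nd 995 = n1096 := ndS (p := 426) (l := 0) rfl N426 D1096
theorem N996 : nd 996 = n1097 := ndS (p := 426) (l := 2) rfl N426 D1097
theorem N997 : nd 997 = n1098 := ndS (p := 426) (l := 3) rfl N426 D1098
theorem N998 : nd 998 = n1099 := ndS (p := 427) (l := 0) rfl N427 D1099
theorem N999 : nd 999 = n1100 := ndS (p := 427) (l := 4) rfl N427 D1100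
theorem N1000 : nd 1000 = n1102 := ndS (p := 429) (l := 1) rfl N429 D1102
theorem N1001 : nd 1001 = n1103 := ndS (p := 429) (l := 2) rfl N429 D1103
theorem N1002 : nd 1002 = n1104 := ndS (p := 429) (l := 4) rfl N429 D1104
theorem N1003 : nd 1003 = n1106 := ndS (p := 431) (l := 2) rfl N431 D1106
theorem N1004 : nd 1004 = n1107 := ndS (p := 431) (l := 3) rfl N431 D1107
theorem N1005 : nd 1005 = n1108 := ndS (p := 431) (l := 4) rfl N431 D1108
theorem N1006 : nd 1006 = n1109 := ndS (p := 432) (l := 0) rfl N432 D1109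
theorem N1007 : nd 1007 = n1110 := ndS (p := 432) (l := 4) rfl N432 D1110
theorem N1008 : nd 1008 = n1112 := ndS (p := 433) (l := 4) rfl N433 D1112
theorem N1009 : nd 1009 = n1113 := ndS (p := 434) (l := 2) rfl N434 D1113
theorem N1010 : nd 1010 = n1114 := ndS (p := 434) (l := 3) rfl N434 D1114
theorem N1011 : nd 1011 = n1115 := ndS (p := 435) (l := 0) rfl N435 D1115
theorem N1012 : nd 1012 = n1116 := ndS (p := 435) (l := 2) rfl N435 D1116
theorem N1013 : nd 1013 = n1117 := ndS (p := 435) (l := 3) rfl N435 D1117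
theorem N1014 : nd 1014 = n1118 := ndS (p := 435) (l := 4) rfl N435 D1118
theorem N1015 : nd 1015 = n1119 := ndS (p := 436) (l := 4) rfl N436 D1119
theorem N1016 : nd 1016 = n1120 := ndS (p := 437) (l := 3) rfl N437 D1120
theorem N1017 : nd 1017 = n1121 := ndS (p := 438) (l := 2) rfl N438 D1121
theorem N1018 : nd 1018 = n1122 := ndS (p := 439) (l := 0) rfl N439 D1122
theorem N1019 : nd 1019 = n1123 := ndS (p := 439) (l := 1) rfl N439 D1123
theorem N1020 : nd 1020 = n1124 := ndS (p := 439) (l := 3) rfl N439 D1124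
theorem N1021 : nd 1021 = n1125 := ndS (p := 439) (l := 4) rfl N439 D1125
theorem N1022 : nd 1022 = n1126 := ndS (p := 440) (l := 4) rfl N440 D1126
theorem N1023 : nd 1023 = n1127 := ndS (p := 441) (l := 1) rfl N441 D1127
theorem N1024 : nd 1024 = n1128 := ndS (p := 441) (l := 3) rfl N441 D1128
theorem N1025 : nd 1025 = n1129 := ndS (p := 441) (l := 4) rfl N441 D1129
theorem N1026 : nd 1026 = n1130 := ndS (p := 442) (l := 0) rfl N442 D1130
theorem N1027 : nd 1027 = n1131 := ndS (p := 442) (l := 2) rfl N442 D1131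
theorem N1028 : nd 1028 = n1132 := ndS (p := 442) (l := 3) rfl N442 D1132
theorem N1029 : nd 1029 = n1133 := ndS (p := 442) (l := 4) rfl N442 D1133
theorem N1030 : nd 1030 = n1134 := ndS (p := 443) (l := 0) rfl N443 D1134
theorem N1031 : nd 1031 = n1135 := ndS (p := 443) (l := 4) rfl N443 D1135
theorem N1032 : nd 1032 = n1138 := ndS (p := 446) (l := 2) rfl N446 D1138
theorem N1033 : nd 1033 = n1139 := ndS (p := 446) (l := 3) rfl N446 D1139
theorem N1034 : nd 1034 = n1140 := ndS (p := 446) (l := 4) rfl N446 D1140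
theorem N1035 : nd 1035 = n1141 := ndS (p := 447) (l := 4) rfl N447 D1141
theorem N1036 : nd 1036 = n1142 := ndS (p := 448) (l := 3) rfl N448 D1142
theorem N1037 : nd 1037 = n1143 := ndS (p := 449) (l := 1) rfl N449 D1143
theorem N1038 : nd 1038 = n1144 := ndS (p := 449) (l := 2) rfl N449 D1144
theorem N1039 : nd 1039 = n1145 := ndS (p := 449) (l := 3) rfl N449 D1145
theorem N1040 : nd 1040 = n1146 := ndS (p := 449) (l := 4) rfl N449 D1146
theorem N1041 : nd 1041 = n1147 := ndS (p := 450) (l := 0) rfl N450 D1147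
theorem N1042 : nd 1042 = n1148 := ndS (p := 450) (l := 3) rfl N450 D1148
theorem N1043 : nd 1043 = n1149 := ndS (p := 450) (l := 4) rfl N450 D1149
theorem N1044 : nd 1044 = n1150 := ndS (p := 451) (l := 0) rfl N451 D1150
theorem N1045 : nd 1045 = n1151 := ndS (p := 451) (l := 4) rfl N451 D1151
theorem N1046 : nd 1046 = n1152 := ndS (p := 452) (l := 2) rfl N452 D1152
theorem N1047 : nd 1047 = n1154 := ndS (p := 453) (l := 1) rfl N453 D1154
theorem N1048 : nd 1048 = n1155 := ndS (p := 453) (l := 2) rfl N453 D1155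
theorem N1049 : nd 1049 = n1156 := ndS (p := 453) (l := 3) rfl N453 D1156
theorem N1050 : nd 1050 = n1157 := ndS (p := 453) (l := 4) rfl N453 D1157
theorem N1051 : nd 1051 = n1162 := ndS (p := 455) (l := 0) rfl N455 D1162
theorem N1052 : nd 1052 = n1163 := ndS (p := 455) (l := 2) rfl N455 D1163
theorem N1053 : nd 1053 = n1164 := ndS (p := 455) (l := 4) rfl N455 D1164
theorem N1054 : nd 1054 = n1165 := ndS (p := 456) (l := 1) rfl N456 D1165
theorem N1055 : nd 1055 = n1166 := ndS (p := 456) (l := 4) rfl N456 D1166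
theorem N1056 : nd 1056 = n1167 := ndS (p := 457) (l := 2) rfl N457 D1167
theorem N1057 : nd 1057 = n1171 := ndS (p := 458) (l := 3) rfl N458 D1171
theorem N1058 : nd 1058 = n1172 := ndS (p := 458) (l := 4) rfl N458 D1172
theorem N1059 : nd 1059 = n1173 := ndS (p := 459) (l := 3) rfl N459 D1173
theorem N1060 : nd 1060 = n1174 := ndS (p := 459) (l := 4) rfl N459 D1174
theorem N1061 : nd 1061 = n1175 := ndS (p := 460) (l := 0) rfl N460 D1175
theorem N1062 : nd 1062 = n1176 := ndS (p := 460) (l := 4) rfl N460 D1176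
theorem N1063 : nd 1063 = n1177 := ndS (p := 461) (l := 2) rfl N461 D1177
theorem N1064 : nd 1064 = n1178 := ndS (p := 461) (l := 3) rfl N461 D1178
theorem N1065 : nd 1065 = n1179 := ndS (p := 462) (l := 3) rfl N462 D1179
theorem N1066 : nd 1066 = n1180 := ndS (p := 462) (l := 4) rfl N462 D1180
theorem N1067 : nd 1067 = n1181 := ndS (p := 463) (l := 2) rfl N463 D1181
theorem N1068 : nd 1068 = n1182 := ndS (p := 463) (l := 3) rfl N463 D1182
theorem N1069 : nd 1069 = n1183 := ndS (p := 463) (l := 4) rfl N463 D1183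
theorem N1070 : nd 1070 = n1184 := ndS (p := 464) (l := 0) rfl N464 D1184
theorem N1071 : nd 1071 = n1185 := ndS (p := 464) (l := 4) rfl N464 D1185
theorem N1072 : nd 1072 = n1186 := ndS (p := 465) (l := 2) rfl N465 D1186
theorem N1073 : nd 1073 = n1187 := ndS (p := 465) (l := 3) rfl N465 D1187
theorem N1074 : nd 1074 = n1188 := ndS (p := 466) (l := 1) rfl N466 D1188
theorem N1075 : nd 1075 = n1189 := ndS (p := 466) (l := 2) rfl N466 D1189
theorem N1076 : nd 1076 = n1190 := ndS (p := 466) (l := 3) rfl N466 D1190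
theorem N1077 : nd 1077 = n1191 := ndS (p := 466) (l := 4) rfl N466 D1191
theorem N1078 : nd 1078 = n1192 := ndS (p := 467) (l := 2) rfl N467 D1192
theorem N1079 : nd 1079 = n1193 := ndS (p := 467) (l := 3) rfl N467 D1193
theorem N1080 : nd 1080 = n1194 := ndS (p := 468) (l := 0) rfl N468 D1194
theorem N1081 : nd 1081 = n1195 := ndS (p := 468) (l := 1) rfl N468 D1195
theorem N1082 : nd 1082 = n1196 := ndS (p := 468) (l := 3) rfl N468 D1196
theorem N1083 : nd 1083 = n1197 := ndS (p := 468) (l := 4) rfl N468 D1197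
theorem N1084 : nd 1084 = n1198 := ndS (p := 469) (l := 0) rfl N469 D1198
theorem N1085 : nd 1085 = n1199 := ndS (p := 469) (l := 4) rfl N469 D1199
theorem N1086 : nd 1086 = n1200 := ndS (p := 470) (l := 3) rfl N470 D1200
theorem N1087 : nd 1087 = n1201 := ndS (p := 470) (l := 4) rfl N470 D1201
theorem N1088 : nd 1088 = n1202 := ndS (p := 471) (l := 0) rfl N471 D1202
theorem N1089 : nd 1089 = n1203 := ndS (p := 471) (l := 4) rfl N471 D1203
theorem N1090 : nd 1090 = n1204 := ndS (p := 472) (l := 2) rfl N472 D1204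
theorem N1091 : nd 1091 = n1205 := ndS (p := 472) (l := 3) rfl N472 D1205
theorem N1092 : nd 1092 = n1206 := ndS (p := 473) (l := 3) rfl N473 D1206
theorem N1093 : nd 1093 = n1207 := ndS (p := 474) (l := 4) rfl N474 D1207
theorem N1094 : nd 1094 = n1208 := ndS (p := 475) (l := 1) rfl N475 D1208
theorem N1095 : nd 1095 = n1209 := ndS (p := 475) (l := 3) rfl N475 D1209
theorem N1096 : nd 1096 = n1210 := ndS (p := 475) (l := 4) rfl N475 D1210
theorem N1097 : nd 1097 = n1211 := ndS (p := 476) (l := 4) rfl N476 D1211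
theorem N1098 : nd 1098 = n1212 := ndS (p := 477) (l := 0) rfl N477 D1212
theorem N1099 : nd 1099 = n1213 := ndS (p := 477) (l := 2) rfl N477 D1213
theorem N1100 : nd 1100 = n1214 := ndS (p := 477) (l := 3) rfl N477 D1214
theorem N1101 : nd 1101 = n1215 := ndS (p := 477) (l := 4) rfl N477 D1215
theorem N1102 : nd 1102 = n1216 := ndS (p := 478) (l := 4) rfl N478 D1216
theorem N1103 : nd 1103 = n1218 := ndS (p := 480) (l := 1) rfl N480 D1218
theorem N1104 : nd 1104 = n1221 := ndS (p := 482) (l := 0) rfl N482 D1221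
theorem N1105 : nd 1105 = n1222 := ndS (p := 482) (l := 4) rfl N482 D1222
theorem N1106 : nd 1106 = n1223 := ndS (p := 483) (l := 2) rfl N483 D1223
theorem N1107 : nd 1107 = n1224 := ndS (p := 483) (l := 3) rfl N483 D1224
theorem N1108 : nd 1108 = n1225 := ndS (p := 484) (l := 3) rfl N484 D1225
theorem N1109 : nd 1109 = n1226 := ndS (p := 484) (l := 4) rfl N484 D1226
theorem N1110 : nd 1110 = n1227 := ndS (p := 485) (l := 3) rfl N485 D1227
theorem N1111 : nd 1111 = n1228 := ndS (p := 485) (l := 4) rfl N485 D1228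
theorem N1112 : nd 1112 = n1229 := ndS (p := 486) (l := 0) rfl N486 D1229
theorem N1113 : nd 1113 = n1230 := ndS (p := 486) (l := 4) rfl N486 D1230
theorem N1114 : nd 1114 = n1231 := ndS (p := 487) (l := 2) rfl N487 D1231
theorem N1115 : nd 1115 = n1232 := ndS (p := 487) (l := 3) rfl N487 D1232
theorem N1116 : nd 1116 = n1233 := ndS (p := 488) (l := 2) rfl N488 D1233
theorem N1117 : nd 1117 = n1234 := ndS (p := 488) (l := 4) rfl N488 D1234
theorem N1118 : nd 1118 = n1235 := ndS (p := 489) (l := 2) rfl N489 D1235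
theorem N1119 : nd 1119 = n1236 := ndS (p := 489) (l := 3) rfl N489 D1236
theorem N1120 : nd 1120 = n1237 := ndS (p := 490) (l := 0) rfl N490 D1237
theorem N1121 : nd 1121 = n1238 := ndS (p := 490) (l := 1) rfl N490 D1238
theorem N1122 : nd 1122 = n1239 := ndS (p := 490) (l := 3) rfl N490 D1239
theorem N1123 : nd 1123 = n1240 := ndS (p := 490) (l := 4) rfl N490 D1240
theorem N1124 : nd 1124 = n1241 := ndS (p := 491) (l := 0) rfl N491 D1241
theorem N1125 : nd 1125 = n1242 := ndS (p := 491) (l := 4) rfl N491 D1242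
theorem N1126 : nd 1126 = n1243 := ndS (p := 492) (l := 3) rfl N492 D1243
theorem N1127 : nd 1127 = n1244 := ndS (p := 492) (l := 4) rfl N492 D1244
theorem N1128 : nd 1128 = n1245 := ndS (p := 493) (l := 4) rfl N493 D1245
theorem N1129 : nd 1129 = n1246 := ndS (p := 494) (l := 2) rfl N494 D1246
theorem N1130 : nd 1130 = n1247 := ndS (p := 494) (l := 3) rfl N494 D1247
theorem N1131 : nd 1131 = n1248 := ndS (p := 495) (l := 1) rfl N495 D1248
theorem N1132 : nd 1132 = n1249 := ndS (p := 495) (l := 2) rfl N495 D1249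
theorem N1133 : nd 1133 = n1250 := ndS (p := 495) (l := 3) rfl N495 D1250
theorem N1134 : nd 1134 = n1251 := ndS (p := 495) (l := 4) rfl N495 D1251
theorem N1135 : nd 1135 = n1252 := ndS (p := 496) (l := 2) rfl N496 D1252
theorem N1136 : nd 1136 = n1253 := ndS (p := 496) (l := 3) rfl N496 D1253
theorem N1137 : nd 1137 = n1254 := ndS (p := 497) (l := 1) rfl N497 D1254
theorem N1138 : nd 1138 = n1255 := ndS (p := 497) (l := 3) rfl N497 D1255
theorem N1139 : nd 1139 = n1256 := ndS (p := 497) (l := 4) rfl N497 D1256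
theorem N1140 : nd 1140 = n1257 := ndS (p := 498) (l := 0) rfl N498 D1257
theorem N1141 : nd 1141 = n1258 := ndS (p := 498) (l := 4) rfl N498 D1258
theorem N1142 : nd 1142 = n1259 := ndS (p := 499) (l := 0) rfl N499 D1259
theorem N1143 : nd 1143 = n1260 := ndS (p := 499) (l := 2) rfl N499 D1260
theorem N1144 : nd 1144 = n1261 := ndS (p := 499) (l := 4) rfl N499 D1261
theorem N1145 : nd 1145 = n1262 := ndS (p := 500) (l := 1) rfl N500 D1262
theorem N1146 : nd 1146 = n1263 := ndS (p := 500) (l := 3) rfl N500 D1263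
theorem N1147 : nd 1147 = n1264 := ndS (p := 500) (l := 4) rfl N500 D1264
theorem N1148 : nd 1148 = n1265 := ndS (p := 501) (l := 4) rfl N501 D1265
theorem N1149 : nd 1149 = n1266 := ndS (p := 502) (l := 2) rfl N502 D1266
theorem N1150 : nd 1150 = n1267 := ndS (p := 502) (l := 3) rfl N502 D1267
theorem N1151 : nd 1151 = n1268 := ndS (p := 503) (l := 0) rfl N503 D1268
theorem N1152 : nd 1152 = n1269 := ndS (p := 503) (l := 1) rfl N503 D1269
theorem N1153 : nd 1153 = n1270 := ndS (p := 503) (l := 3) rfl N503 D1270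
theorem N1154 : nd 1154 = n1271 := ndS (p := 503) (l := 4) rfl N503 D1271
theorem N1155 : nd 1155 = n1272 := ndS (p := 504) (l := 4) rfl N504 D1272
theorem N1156 : nd 1156 = n1273 := ndS (p := 505) (l := 1) rfl N505 D1273
theorem N1157 : nd 1157 = n1274 := ndS (p := 505) (l := 3) rfl N505 D1274
theorem N1158 : nd 1158 = n1275 := ndS (p := 505) (l := 4) rfl N505 D1275
theorem N1159 : nd 1159 = n1276 := ndS (p := 506) (l := 0) rfl N506 D1276
theorem N1160 : nd 1160 = n1277 := ndS (p := 506) (l := 2) rfl N506 D1277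
theorem N1161 : nd 1161 = n1278 := ndS (p := 506) (l := 3) rfl N506 D1278
theorem N1162 : nd 1162 = n1280 := ndS (p := 507) (l := 0) rfl N507 D1280
theorem N1163 : nd 1163 = n1281 := ndS (p := 507) (l := 4) rfl N507 D1281
theorem N1164 : nd 1164 = n1283 := ndS (p := 509) (l := 1) rfl N509 D1283
theorem N1165 : nd 1165 = n1284 := ndS (p := 509) (l := 2) rfl N509 D1284
theorem N1166 : nd 1166 = n1285 := ndS (p := 509) (l := 4) rfl N509 D1285
theorem N1167 : nd 1167 = n1287 := ndS (p := 511) (l := 2) rfl N511 D1287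
theorem N1168 : nd 1168 = n1288 := ndS (p := 511) (l := 3) rfl N511 D1288
theorem N1169 : nd 1169 = n1289 := ndS (p := 511) (l := 4) rfl N511 D1289
theorem N1170 : nd 1170 = n1290 := ndS (p := 512) (l := 0) rfl N512 D1290
theorem N1171 : nd 1171 = n1291 := ndS (p := 512) (l := 1) rfl N512 D1291
theorem N1172 : nd 1172 = n1292 := ndS (p := 512) (l := 3) rfl N512 D1292
theorem N1173 : nd 1173 = n1293 := ndS (p := 512) (l := 4) rfl N512 D1293
theorem N1174 : nd 1174 = n1294 := ndS (p := 513) (l := 0) rfl N513 D1294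
theorem N1175 : nd 1175 = n1295 := ndS (p := 513) (l := 4) rfl N513 D1295
theorem N1176 : nd 1176 = n1296 := ndS (p := 514) (l := 2) rfl N514 D1296
theorem N1177 : nd 1177 = n1297 := ndS (p := 514) (l := 3) rfl N514 D1297
theorem N1178 : nd 1178 = n1298 := ndS (p := 515) (l := 0) rfl N515 D1298
theorem N1179 : nd 1179 = n1299 := ndS (p := 515) (l := 2) rfl N515 D1299
theorem N1180 : nd 1180 = n1300 := ndS (p := 515) (l := 3) rfl N515 D1300
theorem N1181 : nd 1181 = n1301 := ndS (p := 515) (l := 4) rfl N515 D1301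
theorem N1182 : nd 1182 = n1302 := ndS (p := 516) (l := 4) rfl N516 D1302
theorem N1183 : nd 1183 = n1303 := ndS (p := 517) (l := 3) rfl N517 D1303
theorem N1184 : nd 1184 = n1304 := ndS (p := 518) (l := 2) rfl N518 D1304
theorem N1185 : nd 1185 = n1305 := ndS (p := 519) (l := 1) rfl N519 D1305
theorem N1186 : nd 1186 = n1306 := ndS (p := 519) (l := 3) rfl N519 D1306
theorem N1187 : nd 1187 = n1307 := ndS (p := 519) (l := 4) rfl N519 D1307
theorem N1188 : nd 1188 = n1308 := ndS (p := 520) (l := 4) rfl N520 D1308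
theorem N1189 : nd 1189 = n1309 := ndS (p := 521) (l := 1) rfl N521 D1309
theorem N1190 : nd 1190 = n1310 := ndS (p := 521) (l := 3) rfl N521 D1310
theorem N1191 : nd 1191 = n1311 := ndS (p := 521) (l := 4) rfl N521 D1311
theorem N1192 : nd 1192 = n1312 := ndS (p := 522) (l := 0) rfl N522 D1312
theorem N1193 : nd 1193 = n1313 := ndS (p := 522) (l := 2) rfl N522 D1313
theorem N1194 : nd 1194 = n1314 := ndS (p := 522) (l := 3) rfl N522 D1314
theorem N1195 : nd 1195 = n1315 := ndS (p := 522) (l := 4) rfl N522 D1315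
theorem N1196 : nd 1196 = n1316 := ndS (p := 523) (l := 4) rfl N523 D1316
theorem N1197 : nd 1197 = n1319 := ndS (p := 526) (l := 2) rfl N526 D1319
theorem N1198 : nd 1198 = n1321 := ndS (p := 527) (l := 0) rfl N527 D1321
theorem N1199 : nd 1199 = n1322 := ndS (p := 527) (l := 3) rfl N527 D1322
theorem N1200 : nd 1200 = n1323 := ndS (p := 527) (l := 4) rfl N527 D1323
theorem N1201 : nd 1201 = n1324 := ndS (p := 528) (l := 0) rfl N528 D1324
theorem N1202 : nd 1202 = n1325 := ndS (p := 528) (l := 4) rfl N528 D1325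
theorem N1203 : nd 1203 = n1326 := ndS (p := 529) (l := 1) rfl N529 D1326
theorem N1204 : nd 1204 = n1327 := ndS (p := 529) (l := 3) rfl N529 D1327
theorem N1205 : nd 1205 = n1328 := ndS (p := 529) (l := 4) rfl N529 D1328
theorem N1206 : nd 1206 = n1333 := ndS (p := 531) (l := 0) rfl N531 D1333
theorem N1207 : nd 1207 = n1334 := ndS (p := 531) (l := 2) rfl N531 D1334
theorem N1208 : nd 1208 = n1335 := ndS (p := 531) (l := 4) rfl N531 D1335
theorem N1209 : nd 1209 = n1336 := ndS (p := 532) (l := 1) rfl N532 D1336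
theorem N1210 : nd 1210 = n1337 := ndS (p := 532) (l := 4) rfl N532 D1337
theorem N1211 : nd 1211 = n1338 := ndS (p := 533) (l := 2) rfl N533 D1338
theorem N1212 : nd 1212 = n1342 := ndS (p := 534) (l := 0) rfl N534 D1342
theorem N1213 : nd 1213 = n1343 := ndS (p := 534) (l := 1) rfl N534 D1343
theorem N1214 : nd 1214 = n1344 := ndS (p := 534) (l := 3) rfl N534 D1344
theorem N1215 : nd 1215 = n1345 := ndS (p := 534) (l := 4) rfl N534 D1345
theorem N1216 : nd 1216 = n1347 := ndS (p := 535) (l := 4) rfl N535 D1347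
theorem N1217 : nd 1217 = n1348 := ndS (p := 536) (l := 2) rfl N536 D1348
theorem N1218 : nd 1218 = n1349 := ndS (p := 536) (l := 3) rfl N536 D1349
theorem N1219 : nd 1219 = n1350 := ndS (p := 537) (l := 1) rfl N537 D1350
theorem N1220 : nd 1220 = n1351 := ndS (p := 537) (l := 2) rfl N537 D1351
theorem N1221 : nd 1221 = n1352 := ndS (p := 537) (l := 3) rfl N537 D1352
theorem N1222 : nd 1222 = n1353 := ndS (p := 537) (l := 4) rfl N537 D1353
theorem N1223 : nd 1223 = n1354 := ndS (p := 538) (l := 0) rfl N538 D1354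
theorem N1224 : nd 1224 = n1355 := ndS (p := 538) (l := 2) rfl N538 D1355
theorem N1225 : nd 1225 = n1356 := ndS (p := 538) (l := 3) rfl N538 D1356
theorem N1226 : nd 1226 = n1357 := ndS (p := 538) (l := 4) rfl N538 D1357
theorem N1227 : nd 1227 = n1358 := ndS (p := 539) (l := 0) rfl N539 D1358
theorem N1228 : nd 1228 = n1359 := ndS (p := 539) (l := 4) rfl N539 D1359
theorem N1229 : nd 1229 = n1360 := ndS (p := 540) (l := 2) rfl N540 D1360
theorem N1230 : nd 1230 = n1361 := ndS (p := 540) (l := 3) rfl N540 D1361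
theorem N1231 : nd 1231 = n1366 := ndS (p := 541) (l := 2) rfl N541 D1366
theorem N1232 : nd 1232 = n1367 := ndS (p := 542) (l := 0) rfl N542 D1367
theorem N1233 : nd 1233 = n1368 := ndS (p := 542) (l := 1) rfl N542 D1368
theorem N1234 : nd 1234 = n1369 := ndS (p := 542) (l := 3) rfl N542 D1369
theorem N1235 : nd 1235 = n1370 := ndS (p := 542) (l := 4) rfl N542 D1370
theorem N1236 : nd 1236 = n1372 := ndS (p := 543) (l := 4) rfl N543 D1372
theorem N1237 : nd 1237 = n1373 := ndS (p := 544) (l := 1) rfl N544 D1373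
theorem N1238 : nd 1238 = n1374 := ndS (p := 544) (l := 2) rfl N544 D1374
theorem N1239 : nd 1239 = n1375 := ndS (p := 544) (l := 3) rfl N544 D1375
theorem N1240 : nd 1240 = n1376 := ndS (p := 544) (l := 4) rfl N544 D1376
theorem N1241 : nd 1241 = n1377 := ndS (p := 545) (l := 0) rfl N545 D1377
theorem N1242 : nd 1242 = n1378 := ndS (p := 545) (l := 3) rfl N545 D1378
theorem N1243 : nd 1243 = n1379 := ndS (p := 545) (l := 4) rfl N545 D1379
theorem N1244 : nd 1244 = n1380 := ndS (p := 546) (l := 0) rfl N546 D1380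
theorem N1245 : nd 1245 = n1381 := ndS (p := 546) (l := 4) rfl N546 D1381
theorem N1246 : nd 1246 = n1382 := ndS (p := 547) (l := 2) rfl N547 D1382
theorem N1247 : nd 1247 = n1383 := ndS (p := 547) (l := 3) rfl N547 D1383
theorem N1248 : nd 1248 = n1384 := ndS (p := 549) (l := 4) rfl N549 D1384
theorem N1249 : nd 1249 = n1385 := ndS (p := 550) (l := 1) rfl N550 D1385
theorem N1250 : nd 1250 = n1386 := ndS (p := 550) (l := 4) rfl N550 D1386
theorem N1251 : nd 1251 = n1387 := ndS (p := 551) (l := 1) rfl N551 D1387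
theorem N1252 : nd 1252 = n1389 := ndS (p := 552) (l := 0) rfl N552 D1389
theorem N1253 : nd 1253 = n1390 := ndS (p := 552) (l := 2) rfl N552 D1390
theorem N1254 : nd 1254 = n1391 := ndS (p := 552) (l := 3) rfl N552 D1391
theorem N1255 : nd 1255 = n1392 := ndS (p := 552) (l := 4) rfl N552 D1392
theorem N1256 : nd 1256 = n1393 := ndS (p := 553) (l := 4) rfl N553 D1393
theorem N1257 : nd 1257 = n1396 := ndS (p := 556) (l := 0) rfl N556 D1396
theorem N1258 : nd 1258 = n1397 := ndS (p := 556) (l := 2) rfl N556 D1397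
theorem N1259 : nd 1259 = n1398 := ndS (p := 556) (l := 3) rfl N556 D1398
theorem N1260 : nd 1260 = n1399 := ndS (p := 556) (l := 4) rfl N556 D1399
theorem N1261 : nd 1261 = n1400 := ndS (p := 557) (l := 4) rfl N557 D1400
theorem N1262 : nd 1262 = n1401 := ndS (p := 558) (l := 3) rfl N558 D1401
theorem N1263 : nd 1263 = n1402 := ndS (p := 559) (l := 1) rfl N559 D1402
theorem N1264 : nd 1264 = n1403 := ndS (p := 559) (l := 2) rfl N559 D1403
theorem N1265 : nd 1265 = n1404 := ndS (p := 559) (l := 3) rfl N559 D1404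
theorem N1266 : nd 1266 = n1405 := ndS (p := 559) (l := 4) rfl N559 D1405
theorem N1267 : nd 1267 = n1406 := ndS (p := 560) (l := 0) rfl N560 D1406
theorem N1268 : nd 1268 = n1407 := ndS (p := 560) (l := 3) rfl N560 D1407
theorem N1269 : nd 1269 = n1408 := ndS (p := 560) (l := 4) rfl N560 D1408
theorem N1270 : nd 1270 = n1409 := ndS (p := 561) (l := 0) rfl N561 D1409
theorem N1271 : nd 1271 = n1410 := ndS (p := 561) (l := 4) rfl N561 D1410
theorem N1272 : nd 1272 = n1411 := ndS (p := 562) (l := 2) rfl N562 D1411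
theorem N1273 : nd 1273 = n1413 := ndS (p := 563) (l := 1) rfl N563 D1413
theorem N1274 : nd 1274 = n1414 := ndS (p := 563) (l := 4) rfl N563 D1414
theorem N1275 : nd 1275 = n1422 := ndS (p := 565) (l := 1) rfl N565 D1422
theorem N1276 : nd 1276 = n1423 := ndS (p := 565) (l := 2) rfl N565 D1423
theorem N1277 : nd 1277 = n1424 := ndS (p := 565) (l := 3) rfl N565 D1424
theorem N1278 : nd 1278 = n1425 := ndS (p := 565) (l := 4) rfl N565 D1425
theorem N1279 : nd 1279 = n1426 := ndS (p := 566) (l := 0) rfl N566 D1426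
theorem N1280 : nd 1280 = n1427 := ndS (p := 566) (l := 1) rfl N566 D1427
theorem N1281 : nd 1281 = n1428 := ndS (p := 566) (l := 3) rfl N566 D1428
theorem N1282 : nd 1282 = n1429 := ndS (p := 566) (l := 4) rfl N566 D1429
theorem N1283 : nd 1283 = n1430 := ndS (p := 567) (l := 0) rfl N567 D1430
theorem N1284 : nd 1284 = n1431 := ndS (p := 567) (l := 4) rfl N567 D1431
theorem N1285 : nd 1285 = n1432 := ndS (p := 568) (l := 2) rfl N568 D1432
theorem N1286 : nd 1286 = n1433 := ndS (p := 568) (l := 3) rfl N568 D1433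
theorem N1287 : nd 1287 = n1438 := ndS (p := 571) (l := 3) rfl N571 D1438
theorem N1288 : nd 1288 = n1439 := ndS (p := 572) (l := 0) rfl N572 D1439
theorem N1289 : nd 1289 = n1440 := ndS (p := 572) (l := 1) rfl N572 D1440
theorem N1290 : nd 1290 = n1441 := ndS (p := 572) (l := 3) rfl N572 D1441
theorem N1291 : nd 1291 = n1442 := ndS (p := 572) (l := 4) rfl N572 D1442
theorem N1292 : nd 1292 = n1443 := ndS (p := 573) (l := 0) rfl N573 D1443
theorem N1293 : nd 1293 = n1444 := ndS (p := 573) (l := 4) rfl N573 D1444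
theorem N1294 : nd 1294 = n1445 := ndS (p := 574) (l := 2) rfl N574 D1445
theorem N1295 : nd 1295 = n1446 := ndS (p := 574) (l := 3) rfl N574 D1446
theorem N1296 : nd 1296 = n1448 := ndS (p := 575) (l := 2) rfl N575 D1448
theorem N1297 : nd 1297 = n1449 := ndS (p := 575) (l := 3) rfl N575 D1449
theorem N1298 : nd 1298 = n1450 := ndS (p := 575) (l := 4) rfl N575 D1450
theorem N1299 : nd 1299 = n1451 := ndS (p := 576) (l := 0) rfl N576 D1451
theorem N1300 : nd 1300 = n1452 := ndS (p := 576) (l := 4) rfl N576 D1452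
theorem N1301 : nd 1301 = n1453 := ndS (p := 577) (l := 2) rfl N577 D1453
theorem N1302 : nd 1302 = n1455 := ndS (p := 578) (l := 1) rfl N578 D1455
theorem N1303 : nd 1303 = n1456 := ndS (p := 578) (l := 2) rfl N578 D1456
theorem N1304 : nd 1304 = n1457 := ndS (p := 578) (l := 3) rfl N578 D1457
theorem N1305 : nd 1305 = n1458 := ndS (p := 578) (l := 4) rfl N578 D1458
theorem N1306 : nd 1306 = n1459 := ndS (p := 579) (l := 2) rfl N579 D1459
theorem N1307 : nd 1307 = n1461 := ndS (p := 580) (l := 0) rfl N580 D1461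
theorem N1308 : nd 1308 = n1467 := ndS (p := 581) (l := 0) rfl N581 D1467
theorem N1309 : nd 1309 = n1468 := ndS (p := 581) (l := 2) rfl N581 D1468
theorem N1310 : nd 1310 = n1469 := ndS (p := 581) (l := 3) rfl N581 D1469
theorem N1311 : nd 1311 = n1470 := ndS (p := 581) (l := 4) rfl N581 D1470
theorem N1312 : nd 1312 = n1471 := ndS (p := 582) (l := 1) rfl N582 D1471
theorem N1313 : nd 1313 = n1485 := ndS (p := 585) (l := 2) rfl N585 D1485
theorem N1314 : nd 1314 = n1486 := ndS (p := 585) (l := 4) rfl N585 D1486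
theorem N1315 : nd 1315 = n1487 := ndS (p := 586) (l := 0) rfl N586 D1487
theorem N1316 : nd 1316 = n1488 := ndS (p := 586) (l := 1) rfl N586 D1488
theorem N1317 : nd 1317 = n1489 := ndS (p := 586) (l := 4) rfl N586 D1489
theorem N1318 : nd 1318 = n1490 := ndS (p := 587) (l := 2) rfl N587 D1490
theorem N1319 : nd 1319 = n1491 := ndS (p := 588) (l := 0) rfl N588 D1491
theorem N1320 : nd 1320 = n1492 := ndS (p := 588) (l := 2) rfl N588 D1492
theorem N1321 : nd 1321 = n1493 := ndS (p := 588) (l := 4) rfl N588 D1493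
theorem N1322 : nd 1322 = n1496 := ndS (p := 590) (l := 1) rfl N590 D1496
theorem N1323 : nd 1323 = n1505 := ndS (p := 591) (l := 3) rfl N591 D1505
theorem N1324 : nd 1324 = n1506 := ndS (p := 591) (l := 4) rfl N591 D1506
theorem N1325 : nd 1325 = n1507 := ndS (p := 592) (l := 0) rfl N592 D1507
theorem N1326 : nd 1326 = n1508 := ndS (p := 592) (l := 4) rfl N592 D1508
theorem N1327 : nd 1327 = n1509 := ndS (p := 593) (l := 2) rfl N593 D1509
theorem N1328 : nd 1328 = n1510 := ndS (p := 593) (l := 3) rfl N593 D1510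
theorem N1329 : nd 1329 = n1511 := ndS (p := 594) (l := 3) rfl N594 D1511
theorem N1330 : nd 1330 = n1512 := ndS (p := 594) (l := 4) rfl N594 D1512
theorem N1331 : nd 1331 = n1513 := ndS (p := 595) (l := 0) rfl N595 D1513
theorem N1332 : nd 1332 = n1514 := ndS (p := 595) (l := 4) rfl N595 D1514
theorem N1333 : nd 1333 = n1515 := ndS (p := 596) (l := 2) rfl N596 D1515
theorem N1334 : nd 1334 = n1516 := ndS (p := 596) (l := 3) rfl N596 D1516
theorem N1335 : nd 1335 = n1517 := ndS (p := 597) (l := 1) rfl N597 D1517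
theorem N1336 : nd 1336 = n1518 := ndS (p := 597) (l := 2) rfl N597 D1518
theorem N1337 : nd 1337 = n1519 := ndS (p := 597) (l := 3) rfl N597 D1519
theorem N1338 : nd 1338 = n1520 := ndS (p := 597) (l := 4) rfl N597 D1520
theorem N1339 : nd 1339 = n1521 := ndS (p := 598) (l := 2) rfl N598 D1521
theorem N1340 : nd 1340 = n1522 := ndS (p := 598) (l := 3) rfl N598 D1522
theorem N1341 : nd 1341 = n1523 := ndS (p := 599) (l := 0) rfl N599 D1523
theorem N1342 : nd 1342 = n1524 := ndS (p := 599) (l := 1) rfl N599 D1524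
theorem N1343 : nd 1343 = n1525 := ndS (p := 599) (l := 3) rfl N599 D1525
theorem N1344 : nd 1344 = n1526 := ndS (p := 599) (l := 4) rfl N599 D1526
theorem N1345 : nd 1345 = n1527 := ndS (p := 600) (l := 0) rfl N600 D1527
theorem N1346 : nd 1346 = n1528 := ndS (p := 600) (l := 4) rfl N600 D1528
theorem N1347 : nd 1347 = n1529 := ndS (p := 601) (l := 3) rfl N601 D1529
theorem N1348 : nd 1348 = n1530 := ndS (p := 601) (l := 4) rfl N601 D1530
theorem N1349 : nd 1349 = n1531 := ndS (p := 602) (l := 3) rfl N602 D1531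
theorem N1350 : nd 1350 = n1532 := ndS (p := 602) (l := 4) rfl N602 D1532
theorem N1351 : nd 1351 = n1533 := ndS (p := 603) (l := 4) rfl N603 D1533
theorem N1352 : nd 1352 = n1534 := ndS (p := 604) (l := 2) rfl N604 D1534
theorem N1353 : nd 1353 = n1535 := ndS (p := 604) (l := 3) rfl N604 D1535
theorem N1354 : nd 1354 = n1536 := ndS (p := 605) (l := 4) rfl N605 D1536
theorem N1355 : nd 1355 = n1537 := ndS (p := 606) (l := 3) rfl N606 D1537
theorem N1356 : nd 1356 = n1538 := ndS (p := 607) (l := 1) rfl N607 D1538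
theorem N1357 : nd 1357 = n1539 := ndS (p := 607) (l := 2) rfl N607 D1539
theorem N1358 : nd 1358 = n1540 := ndS (p := 607) (l := 3) rfl N607 D1540
theorem N1359 : nd 1359 = n1541 := ndS (p := 607) (l := 4) rfl N607 D1541
theorem N1360 : nd 1360 = n1542 := ndS (p := 608) (l := 2) rfl N608 D1542
theorem N1361 : nd 1361 = n1543 := ndS (p := 608) (l := 3) rfl N608 D1543
theorem N1362 : nd 1362 = n1544 := ndS (p := 609) (l := 1) rfl N609 D1544
theorem N1363 : nd 1363 = n1545 := ndS (p := 609) (l := 3) rfl N609 D1545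
theorem N1364 : nd 1364 = n1546 := ndS (p := 609) (l := 4) rfl N609 D1546
theorem N1365 : nd 1365 = n1547 := ndS (p := 610) (l := 0) rfl N610 D1547
theorem N1366 : nd 1366 = n1548 := ndS (p := 610) (l := 4) rfl N610 D1548
theorem N1367 : nd 1367 = n1549 := ndS (p := 611) (l := 2) rfl N611 D1549
theorem N1368 : nd 1368 = n1550 := ndS (p := 611) (l := 3) rfl N611 D1550
theorem N1369 : nd 1369 = n1551 := ndS (p := 611) (l := 4) rfl N611 D1551
theorem N1370 : nd 1370 = n1552 := ndS (p := 612) (l := 1) rfl N612 D1552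
theorem N1371 : nd 1371 = n1553 := ndS (p := 612) (l := 3) rfl N612 D1553
theorem N1372 : nd 1372 = n1554 := ndS (p := 612) (l := 4) rfl N612 D1554
theorem N1373 : nd 1373 = n1555 := ndS (p := 613) (l := 4) rfl N613 D1555
theorem N1374 : nd 1374 = n1556 := ndS (p := 614) (l := 2) rfl N614 D1556
theorem N1375 : nd 1375 = n1557 := ndS (p := 614) (l := 3) rfl N614 D1557
theorem N1376 : nd 1376 = n1558 := ndS (p := 615) (l := 0) rfl N615 D1558
theorem N1377 : nd 1377 = n1559 := ndS (p := 615) (l := 1) rfl N615 D1559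
theorem N1378 : nd 1378 = n1560 := ndS (p := 615) (l := 3) rfl N615 D1560
theorem N1379 : nd 1379 = n1561 := ndS (p := 615) (l := 4) rfl N615 D1561
theorem N1380 : nd 1380 = n1562 := ndS (p := 616) (l := 4) rfl N616 D1562
theorem N1381 : nd 1381 = n1563 := ndS (p := 617) (l := 1) rfl N617 D1563
theorem N1382 : nd 1382 = n1564 := ndS (p := 617) (l := 3) rfl N617 D1564
theorem N1383 : nd 1383 = n1565 := ndS (p := 617) (l := 4) rfl N617 D1565
theorem N1384 : nd 1384 = n1566 := ndS (p := 618) (l := 0) rfl N618 D1566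
theorem N1385 : nd 1385 = n1567 := ndS (p := 618) (l := 2) rfl N618 D1567
theorem N1386 : nd 1386 = n1568 := ndS (p := 618) (l := 3) rfl N618 D1568
theorem N1387 : nd 1387 = n1569 := ndS (p := 618) (l := 4) rfl N618 D1569
theorem N1388 : nd 1388 = n1570 := ndS (p := 619) (l := 0) rfl N619 D1570
theorem N1389 : nd 1389 = n1571 := ndS (p := 619) (l := 4) rfl N619 D1571
theorem N1390 : nd 1390 = n1573 := ndS (p := 621) (l := 1) rfl N621 D1573
theorem N1391 : nd 1391 = n1574 := ndS (p := 621) (l := 2) rfl N621 D1574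
theorem N1392 : nd 1392 = n1575 := ndS (p := 621) (l := 4) rfl N621 D1575
theorem N1393 : nd 1393 = n1577 := ndS (p := 623) (l := 3) rfl N623 D1577
theorem N1394 : nd 1394 = n1578 := ndS (p := 623) (l := 4) rfl N623 D1578
theorem N1395 : nd 1395 = n1579 := ndS (p := 624) (l := 0) rfl N624 D1579
theorem N1396 : nd 1396 = n1580 := ndS (p := 624) (l := 4) rfl N624 D1580
theorem N1397 : nd 1397 = n1581 := ndS (p := 625) (l := 2) rfl N625 D1581
theorem N1398 : nd 1398 = n1582 := ndS (p := 625) (l := 3) rfl N625 D1582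
theorem N1399 : nd 1399 = n1583 := ndS (p := 626) (l := 0) rfl N626 D1583
theorem N1400 : nd 1400 = n1584 := ndS (p := 626) (l := 4) rfl N626 D1584
theorem N1401 : nd 1401 = n1585 := ndS (p := 627) (l := 2) rfl N627 D1585
theorem N1402 : nd 1402 = n1586 := ndS (p := 627) (l := 3) rfl N627 D1586
theorem N1403 : nd 1403 = n1587 := ndS (p := 628) (l := 2) rfl N628 D1587
theorem N1404 : nd 1404 = n1588 := ndS (p := 628) (l := 3) rfl N628 D1588
theorem N1405 : nd 1405 = n1589 := ndS (p := 628) (l := 4) rfl N628 D1589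
theorem N1406 : nd 1406 = n1590 := ndS (p := 629) (l := 2) rfl N629 D1590
theorem N1407 : nd 1407 = n1591 := ndS (p := 629) (l := 3) rfl N629 D1591
theorem N1408 : nd 1408 = n1592 := ndS (p := 630) (l := 3) rfl N630 D1592
theorem N1409 : nd 1409 = n1593 := ndS (p := 630) (l := 4) rfl N630 D1593
theorem N1410 : nd 1410 = n1594 := ndS (p := 631) (l := 0) rfl N631 D1594
theorem N1411 : nd 1411 = n1595 := ndS (p := 631) (l := 4) rfl N631 D1595
theorem N1412 : nd 1412 = n1596 := ndS (p := 632) (l := 4) rfl N632 D1596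
theorem N1413 : nd 1413 = n1597 := ndS (p := 634) (l := 0) rfl N634 D1597
theorem N1414 : nd 1414 = n1598 := ndS (p := 634) (l := 2) rfl N634 D1598
theorem N1415 : nd 1415 = n1599 := ndS (p := 634) (l := 3) rfl N634 D1599
theorem N1416 : nd 1416 = n1600 := ndS (p := 634) (l := 4) rfl N634 D1600
theorem N1417 : nd 1417 = n1601 := ndS (p := 635) (l := 4) rfl N635 D1601
theorem N1418 : nd 1418 = n1604 := ndS (p := 638) (l := 1) rfl N638 D1604
theorem N1419 : nd 1419 = n1605 := ndS (p := 638) (l := 2) rfl N638 D1605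
theorem N1420 : nd 1420 = n1606 := ndS (p := 638) (l := 3) rfl N638 D1606
theorem N1421 : nd 1421 = n1607 := ndS (p := 638) (l := 4) rfl N638 D1607
theorem N1422 : nd 1422 = n1608 := ndS (p := 639) (l := 0) rfl N639 D1608
theorem N1423 : nd 1423 = n1609 := ndS (p := 639) (l := 3) rfl N639 D1609
theorem N1424 : nd 1424 = n1610 := ndS (p := 639) (l := 4) rfl N639 D1610
theorem N1425 : nd 1425 = n1611 := ndS (p := 640) (l := 0) rfl N640 D1611
theorem N1426 : nd 1426 = n1612 := ndS (p := 640) (l := 4) rfl N640 D1612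
theorem N1427 : nd 1427 = n1613 := ndS (p := 641) (l := 2) rfl N641 D1613
theorem N1428 : nd 1428 = n1618 := ndS (p := 643) (l := 0) rfl N643 D1618
theorem N1429 : nd 1429 = n1619 := ndS (p := 643) (l := 2) rfl N643 D1619
theorem N1430 : nd 1430 = n1623 := ndS (p := 644) (l := 0) rfl N644 D1623
theorem N1431 : nd 1431 = n1624 := ndS (p := 644) (l := 4) rfl N644 D1624
theorem N1432 : nd 1432 = n1625 := ndS (p := 645) (l := 3) rfl N645 D1625
theorem N1433 : nd 1433 = n1626 := ndS (p := 646) (l := 1) rfl N646 D1626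
theorem N1434 : nd 1434 = n1627 := ndS (p := 646) (l := 3) rfl N646 D1627
theorem N1435 : nd 1435 = n1628 := ndS (p := 646) (l := 4) rfl N646 D1628
theorem N1436 : nd 1436 = n1629 := ndS (p := 647) (l := 2) rfl N647 D1629
theorem N1437 : nd 1437 = n1630 := ndS (p := 647) (l := 3) rfl N647 D1630
theorem N1438 : nd 1438 = n1631 := ndS (p := 648) (l := 1) rfl N648 D1631
theorem N1439 : nd 1439 = n1632 := ndS (p := 648) (l := 3) rfl N648 D1632
theorem N1440 : nd 1440 = n1633 := ndS (p := 649) (l := 0) rfl N649 D1633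
theorem N1441 : nd 1441 = n1634 := ndS (p := 649) (l := 4) rfl N649 D1634
theorem N1442 : nd 1442 = n1635 := ndS (p := 650) (l := 3) rfl N650 D1635
theorem N1443 : nd 1443 = n1636 := ndS (p := 650) (l := 4) rfl N650 D1636
theorem N1444 : nd 1444 = n1637 := ndS (p := 651) (l := 3) rfl N651 D1637
theorem N1445 : nd 1445 = n1638 := ndS (p := 651) (l := 4) rfl N651 D1638
theorem N1446 : nd 1446 = n1639 := ndS (p := 652) (l := 4) rfl N652 D1639
theorem N1447 : nd 1447 = n1640 := ndS (p := 653) (l := 2) rfl N653 D1640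
theorem N1448 : nd 1448 = n1641 := ndS (p := 653) (l := 3) rfl N653 D1641
theorem N1449 : nd 1449 = n1642 := ndS (p := 654) (l := 3) rfl N654 D1642
theorem N1450 : nd 1450 = n1643 := ndS (p := 654) (l := 4) rfl N654 D1643
theorem N1451 : nd 1451 = n1644 := ndS (p := 655) (l := 3) rfl N655 D1644
theorem N1452 : nd 1452 = n1645 := ndS (p := 655) (l := 4) rfl N655 D1645
theorem N1453 : nd 1453 = n1646 := ndS (p := 656) (l := 0) rfl N656 D1646
theorem N1454 : nd 1454 = n1647 := ndS (p := 656) (l := 4) rfl N656 D1647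
theorem N1455 : nd 1455 = n1648 := ndS (p := 657) (l := 2) rfl N657 D1648
theorem N1456 : nd 1456 = n1649 := ndS (p := 657) (l := 3) rfl N657 D1649
theorem N1457 : nd 1457 = n1650 := ndS (p := 658) (l := 1) rfl N658 D1650
theorem N1458 : nd 1458 = n1651 := ndS (p := 658) (l := 2) rfl N658 D1651
theorem N1459 : nd 1459 = n1652 := ndS (p := 658) (l := 3) rfl N658 D1652
theorem N1460 : nd 1460 = n1653 := ndS (p := 658) (l := 4) rfl N658 D1653
theorem N1461 : nd 1461 = n1654 := ndS (p := 659) (l := 2) rfl N659 D1654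
theorem N1462 : nd 1462 = n1655 := ndS (p := 659) (l := 3) rfl N659 D1655
theorem N1463 : nd 1463 = n1656 := ndS (p := 660) (l := 1) rfl N660 D1656
theorem N1464 : nd 1464 = n1657 := ndS (p := 660) (l := 3) rfl N660 D1657
theorem N1465 : nd 1465 = n1658 := ndS (p := 660) (l := 4) rfl N660 D1658
theorem N1466 : nd 1466 = n1659 := ndS (p := 661) (l := 0) rfl N661 D1659
theorem N1467 : nd 1467 = n1660 := ndS (p := 661) (l := 4) rfl N661 D1660
theorem N1468 : nd 1468 = n1661 := ndS (p := 662) (l := 0) rfl N662 D1661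
theorem N1469 : nd 1469 = n1662 := ndS (p := 662) (l := 4) rfl N662 D1662
theorem N1470 : nd 1470 = n1663 := ndS (p := 663) (l := 1) rfl N663 D1663
theorem N1471 : nd 1471 = n1664 := ndS (p := 663) (l := 3) rfl N663 D1664
theorem N1472 : nd 1472 = n1665 := ndS (p := 663) (l := 4) rfl N663 D1665
theorem N1473 : nd 1473 = n1666 := ndS (p := 664) (l := 4) rfl N664 D1666
theorem N1474 : nd 1474 = n1667 := ndS (p := 665) (l := 2) rfl N665 D1667
theorem N1475 : nd 1475 = n1668 := ndS (p := 665) (l := 3) rfl N665 D1668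
theorem N1476 : nd 1476 = n1669 := ndS (p := 666) (l := 0) rfl N666 D1669
theorem N1477 : nd 1477 = n1670 := ndS (p := 666) (l := 1) rfl N666 D1670
theorem N1478 : nd 1478 = n1671 := ndS (p := 666) (l := 3) rfl N666 D1671
theorem N1479 : nd 1479 = n1672 := ndS (p := 666) (l := 4) rfl N666 D1672
theorem N1480 : nd 1480 = n1673 := ndS (p := 667) (l := 4) rfl N667 D1673
theorem N1481 : nd 1481 = n1674 := ndS (p := 668) (l := 1) rfl N668 D1674
theorem N1482 : nd 1482 = n1675 := ndS (p := 668) (l := 3) rfl N668 D1675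
theorem N1483 : nd 1483 = n1676 := ndS (p := 668) (l := 4) rfl N668 D1676
theorem N1484 : nd 1484 = n1677 := ndS (p := 669) (l := 0) rfl N669 D1677
theorem N1485 : nd 1485 = n1678 := ndS (p := 669) (l := 2) rfl N669 D1678
theorem N1486 : nd 1486 = n1679 := ndS (p := 669) (l := 3) rfl N669 D1679
theorem N1487 : nd 1487 = n1680 := ndS (p := 669) (l := 4) rfl N669 D1680
theorem N1488 : nd 1488 = n1681 := ndS (p := 670) (l := 0) rfl N670 D1681
theorem N1489 : nd 1489 = n1682 := ndS (p := 670) (l := 4) rfl N670 D1682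
theorem N1490 : nd 1490 = n1684 := ndS (p := 672) (l := 1) rfl N672 D1684
theorem N1491 : nd 1491 = n1685 := ndS (p := 672) (l := 2) rfl N672 D1685
theorem N1492 : nd 1492 = n1686 := ndS (p := 672) (l := 4) rfl N672 D1686
theorem N1493 : nd 1493 = n1688 := ndS (p := 674) (l := 3) rfl N674 D1688
theorem N1494 : nd 1494 = n1689 := ndS (p := 674) (l := 4) rfl N674 D1689
theorem N1495 : nd 1495 = n1690 := ndS (p := 675) (l := 0) rfl N675 D1690
theorem N1496 : nd 1496 = n1691 := ndS (p := 675) (l := 4) rfl N675 D1691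
theorem N1497 : nd 1497 = n1692 := ndS (p := 676) (l := 2) rfl N676 D1692
theorem N1498 : nd 1498 = n1693 := ndS (p := 676) (l := 3) rfl N676 D1693
theorem N1499 : nd 1499 = n1694 := ndS (p := 677) (l := 4) rfl N677 D1694
theorem N1500 : nd 1500 = n1695 := ndS (p := 678) (l := 3) rfl N678 D1695
theorem N1501 : nd 1501 = n1696 := ndS (p := 679) (l := 2) rfl N679 D1696
theorem N1502 : nd 1502 = n1697 := ndS (p := 679) (l := 3) rfl N679 D1697
theorem N1503 : nd 1503 = n1698 := ndS (p := 680) (l := 1) rfl N680 D1698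
theorem N1504 : nd 1504 = n1699 := ndS (p := 680) (l := 3) rfl N680 D1699
theorem N1505 : nd 1505 = n1700 := ndS (p := 680) (l := 4) rfl N680 D1700
theorem N1506 : nd 1506 = n1701 := ndS (p := 681) (l := 0) rfl N681 D1701
theorem N1507 : nd 1507 = n1702 := ndS (p := 681) (l := 4) rfl N681 D1702
theorem N1508 : nd 1508 = n1703 := ndS (p := 682) (l := 0) rfl N682 D1703
theorem N1509 : nd 1509 = n1704 := ndS (p := 682) (l := 2) rfl N682 D1704
theorem N1510 : nd 1510 = n1705 := ndS (p := 682) (l := 3) rfl N682 D1705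
theorem N1511 : nd 1511 = n1706 := ndS (p := 682) (l := 4) rfl N682 D1706
theorem N1512 : nd 1512 = n1707 := ndS (p := 683) (l := 1) rfl N683 D1707
theorem N1513 : nd 1513 = n1708 := ndS (p := 683) (l := 3) rfl N683 D1708
theorem N1514 : nd 1514 = n1709 := ndS (p := 683) (l := 4) rfl N683 D1709
theorem N1515 : nd 1515 = n1710 := ndS (p := 684) (l := 4) rfl N684 D1710
theorem N1516 : nd 1516 = n1711 := ndS (p := 685) (l := 2) rfl N685 D1711
theorem N1517 : nd 1517 = n1712 := ndS (p := 685) (l := 3) rfl N685 D1712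
theorem N1518 : nd 1518 = n1713 := ndS (p := 686) (l := 0) rfl N686 D1713
theorem N1519 : nd 1519 = n1714 := ndS (p := 686) (l := 1) rfl N686 D1714
theorem N1520 : nd 1520 = n1715 := ndS (p := 686) (l := 3) rfl N686 D1715
theorem N1521 : nd 1521 = n1716 := ndS (p := 686) (l := 4) rfl N686 D1716
theorem N1522 : nd 1522 = n1717 := ndS (p := 687) (l := 4) rfl N687 D1717
theorem N1523 : nd 1523 = n1718 := ndS (p := 688) (l := 0) rfl N688 D1718
theorem N1524 : nd 1524 = n1719 := ndS (p := 688) (l := 2) rfl N688 D1719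
theorem N1525 : nd 1525 = n1720 := ndS (p := 688) (l := 3) rfl N688 D1720
theorem N1526 : nd 1526 = n1721 := ndS (p := 689) (l := 0) rfl N689 D1721
theorem N1527 : nd 1527 = n1722 := ndS (p := 689) (l := 4) rfl N689 D1722
theorem N1528 : nd 1528 = n1724 := ndS (p := 691) (l := 1) rfl N691 D1724
theorem N1529 : nd 1529 = n1725 := ndS (p := 691) (l := 2) rfl N691 D1725
theorem N1530 : nd 1530 = n1726 := ndS (p := 691) (l := 4) rfl N691 D1726
theorem N1531 : nd 1531 = n1728 := ndS (p := 693) (l := 2) rfl N693 D1728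
theorem N1532 : nd 1532 = n1729 := ndS (p := 693) (l := 3) rfl N693 D1729
theorem N1533 : nd 1533 = n1730 := ndS (p := 693) (l := 4) rfl N693 D1730
theorem N1534 : nd 1534 = n1731 := ndS (p := 694) (l := 3) rfl N694 D1731
theorem N1535 : nd 1535 = n1732 := ndS (p := 694) (l := 4) rfl N694 D1732
theorem N1536 : nd 1536 = n1734 := ndS (p := 695) (l := 4) rfl N695 D1734
theorem N1537 : nd 1537 = n1735 := ndS (p := 696) (l := 2) rfl N696 D1735
theorem N1538 : nd 1538 = n1736 := ndS (p := 696) (l := 3) rfl N696 D1736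
theorem N1539 : nd 1539 = n1737 := ndS (p := 697) (l := 0) rfl N697 D1737
theorem N1540 : nd 1540 = n1738 := ndS (p := 697) (l := 2) rfl N697 D1738
theorem N1541 : nd 1541 = n1739 := ndS (p := 697) (l := 3) rfl N697 D1739
theorem N1542 : nd 1542 = n1740 := ndS (p := 697) (l := 4) rfl N697 D1740
theorem N1543 : nd 1543 = n1741 := ndS (p := 698) (l := 4) rfl N698 D1741
theorem N1544 : nd 1544 = n1742 := ndS (p := 699) (l := 3) rfl N699 D1742
theorem N1545 : nd 1545 = n1743 := ndS (p := 700) (l := 2) rfl N700 D1743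
theorem N1546 : nd 1546 = n1744 := ndS (p := 701) (l := 0) rfl N701 D1744
theorem N1547 : nd 1547 = n1745 := ndS (p := 701) (l := 1) rfl N701 D1745
theorem N1548 : nd 1548 = n1746 := ndS (p := 701) (l := 3) rfl N701 D1746
theorem N1549 : nd 1549 = n1747 := ndS (p := 701) (l := 4) rfl N701 D1747
theorem N1550 : nd 1550 = n1748 := ndS (p := 702) (l := 4) rfl N702 D1748
theorem N1551 : nd 1551 = n1749 := ndS (p := 703) (l := 1) rfl N703 D1749
theorem N1552 : nd 1552 = n1750 := ndS (p := 703) (l := 3) rfl N703 D1750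
theorem N1553 : nd 1553 = n1751 := ndS (p := 703) (l := 4) rfl N703 D1751
theorem N1554 : nd 1554 = n1752 := ndS (p := 704) (l := 0) rfl N704 D1752
theorem N1555 : nd 1555 = n1753 := ndS (p := 704) (l := 2) rfl N704 D1753
theorem N1556 : nd 1556 = n1754 := ndS (p := 704) (l := 3) rfl N704 D1754
theorem N1557 : nd 1557 = n1756 := ndS (p := 705) (l := 0) rfl N705 D1756
theorem N1558 : nd 1558 = n1757 := ndS (p := 705) (l := 4) rfl N705 D1757
theorem N1559 : nd 1559 = n1760 := ndS (p := 708) (l := 0) rfl N708 D1760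
theorem N1560 : nd 1560 = n1761 := ndS (p := 708) (l := 2) rfl N708 D1761
theorem N1561 : nd 1561 = n1762 := ndS (p := 708) (l := 3) rfl N708 D1762
theorem N1562 : nd 1562 = n1763 := ndS (p := 708) (l := 4) rfl N708 D1763
theorem N1563 : nd 1563 = n1764 := ndS (p := 709) (l := 4) rfl N709 D1764
theorem N1564 : nd 1564 = n1765 := ndS (p := 710) (l := 3) rfl N710 D1765
theorem N1565 : nd 1565 = n1766 := ndS (p := 711) (l := 1) rfl N711 D1766
theorem N1566 : nd 1566 = n1767 := ndS (p := 711) (l := 3) rfl N711 D1767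
theorem N1567 : nd 1567 = n1768 := ndS (p := 712) (l := 0) rfl N712 D1768
theorem N1568 : nd 1568 = n1769 := ndS (p := 712) (l := 3) rfl N712 D1769
theorem N1569 : nd 1569 = n1770 := ndS (p := 713) (l := 0) rfl N713 D1770
theorem N1570 : nd 1570 = n1772 := ndS (p := 714) (l := 1) rfl N714 D1772
theorem N1571 : nd 1571 = n1773 := ndS (p := 714) (l := 2) rfl N714 D1773
theorem N1572 : nd 1572 = n1774 := ndS (p := 714) (l := 3) rfl N714 D1774
theorem N1573 : nd 1573 = n1775 := ndS (p := 714) (l := 4) rfl N714 D1775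
theorem N1574 : nd 1574 = n1780 := ndS (p := 716) (l := 0) rfl N716 D1780
theorem N1575 : nd 1575 = n1781 := ndS (p := 716) (l := 2) rfl N716 D1781
theorem N1576 : nd 1576 = n1782 := ndS (p := 716) (l := 4) rfl N716 D1782
theorem N1577 : nd 1577 = n1783 := ndS (p := 717) (l := 1) rfl N717 D1783
theorem N1578 : nd 1578 = n1784 := ndS (p := 717) (l := 4) rfl N717 D1784
theorem N1579 : nd 1579 = n1785 := ndS (p := 718) (l := 2) rfl N718 D1785
theorem N1580 : nd 1580 = n1789 := ndS (p := 719) (l := 0) rfl N719 D1789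
theorem N1581 : nd 1581 = n1790 := ndS (p := 719) (l := 1) rfl N719 D1790
theorem N1582 : nd 1582 = n1792 := ndS (p := 719) (l := 4) rfl N719 D1792
theorem N1583 : nd 1583 = n1793 := ndS (p := 720) (l := 0) rfl N720 D1793
theorem N1584 : nd 1584 = n1794 := ndS (p := 720) (l := 4) rfl N720 D1794
theorem N1585 : nd 1585 = n1795 := ndS (p := 721) (l := 2) rfl N721 D1795
theorem N1586 : nd 1586 = n1796 := ndS (p := 721) (l := 3) rfl N721 D1796
theorem N1587 : nd 1587 = n1797 := ndS (p := 722) (l := 1) rfl N722 D1797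
theorem N1588 : nd 1588 = n1798 := ndS (p := 722) (l := 2) rfl N722 D1798
theorem N1589 : nd 1589 = n1799 := ndS (p := 722) (l := 3) rfl N722 D1799
theorem N1590 : nd 1590 = n1800 := ndS (p := 722) (l := 4) rfl N722 D1800
theorem N1591 : nd 1591 = n1801 := ndS (p := 723) (l := 0) rfl N723 D1801
theorem N1592 : nd 1592 = n1802 := ndS (p := 723) (l := 2) rfl N723 D1802
theorem N1593 : nd 1593 = n1803 := ndS (p := 723) (l := 3) rfl N723 D1803
theorem N1594 : nd 1594 = n1804 := ndS (p := 723) (l := 4) rfl N723 D1804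
theorem N1595 : nd 1595 = n1805 := ndS (p := 724) (l := 0) rfl N724 D1805
theorem N1596 : nd 1596 = n1806 := ndS (p := 724) (l := 4) rfl N724 D1806
theorem N1597 : nd 1597 = n1807 := ndS (p := 725) (l := 2) rfl N725 D1807
theorem N1598 : nd 1598 = n1808 := ndS (p := 725) (l := 3) rfl N725 D1808
theorem N1599 : nd 1599 = n1810 := ndS (p := 726) (l := 2) rfl N726 D1810
theorem N1600 : nd 1600 = n1812 := ndS (p := 726) (l := 4) rfl N726 D1812
theorem N1601 : nd 1601 = n1813 := ndS (p := 727) (l := 2) rfl N727 D1813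
theorem N1602 : nd 1602 = n1814 := ndS (p := 728) (l := 0) rfl N728 D1814
theorem N1603 : nd 1603 = n1815 := ndS (p := 728) (l := 1) rfl N728 D1815
theorem N1604 : nd 1604 = n1816 := ndS (p := 728) (l := 3) rfl N728 D1816
theorem N1605 : nd 1605 = n1817 := ndS (p := 728) (l := 4) rfl N728 D1817
theorem N1606 : nd 1606 = n1818 := ndS (p := 729) (l := 0) rfl N729 D1818
theorem N1607 : nd 1607 = n1819 := ndS (p := 729) (l := 4) rfl N729 D1819
theorem N1608 : nd 1608 = n1820 := ndS (p := 730) (l := 1) rfl N730 D1820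
theorem N1609 : nd 1609 = n1821 := ndS (p := 730) (l := 2) rfl N730 D1821
theorem N1610 : nd 1610 = n1822 := ndS (p := 730) (l := 3) rfl N730 D1822
theorem N1611 : nd 1611 = n1823 := ndS (p := 730) (l := 4) rfl N730 D1823
theorem N1612 : nd 1612 = n1824 := ndS (p := 731) (l := 3) rfl N731 D1824
theorem N1613 : nd 1613 = n1825 := ndS (p := 731) (l := 4) rfl N731 D1825
theorem N1614 : nd 1614 = n1826 := ndS (p := 732) (l := 0) rfl N732 D1826
theorem N1615 : nd 1615 = n1827 := ndS (p := 732) (l := 4) rfl N732 D1827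
theorem N1616 : nd 1616 = n1828 := ndS (p := 733) (l := 2) rfl N733 D1828
theorem N1617 : nd 1617 = n1829 := ndS (p := 733) (l := 3) rfl N733 D1829
theorem N1618 : nd 1618 = n1830 := ndS (p := 735) (l := 4) rfl N735 D1830
theorem N1619 : nd 1619 = n1831 := ndS (p := 736) (l := 1) rfl N736 D1831
theorem N1620 : nd 1620 = n1832 := ndS (p := 736) (l := 4) rfl N736 D1832
theorem N1621 : nd 1621 = n1833 := ndS (p := 737) (l := 0) rfl N737 D1833
theorem N1622 : nd 1622 = n1834 := ndS (p := 737) (l := 2) rfl N737 D1834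
theorem N1623 : nd 1623 = n1835 := ndS (p := 737) (l := 3) rfl N737 D1835
theorem N1624 : nd 1624 = n1836 := ndS (p := 737) (l := 4) rfl N737 D1836
theorem N1625 : nd 1625 = n1837 := ndS (p := 738) (l := 4) rfl N738 D1837
theorem N1626 : nd 1626 = n1840 := ndS (p := 741) (l := 0) rfl N741 D1840
theorem N1627 : nd 1627 = n1841 := ndS (p := 741) (l := 2) rfl N741 D1841
theorem N1628 : nd 1628 = n1842 := ndS (p := 741) (l := 3) rfl N741 D1842
theorem N1629 : nd 1629 = n1843 := ndS (p := 741) (l := 4) rfl N741 D1843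
theorem N1630 : nd 1630 = n1844 := ndS (p := 742) (l := 4) rfl N742 D1844
theorem N1631 : nd 1631 = n1845 := ndS (p := 743) (l := 3) rfl N743 D1845
theorem N1632 : nd 1632 = n1846 := ndS (p := 744) (l := 1) rfl N744 D1846
theorem N1633 : nd 1633 = n1847 := ndS (p := 744) (l := 2) rfl N744 D1847
theorem N1634 : nd 1634 = n1848 := ndS (p := 744) (l := 3) rfl N744 D1848
theorem N1635 : nd 1635 = n1849 := ndS (p := 744) (l := 4) rfl N744 D1849
theorem N1636 : nd 1636 = n1850 := ndS (p := 745) (l := 0) rfl N745 D1850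
theorem N1637 : nd 1637 = n1851 := ndS (p := 745) (l := 3) rfl N745 D1851
theorem N1638 : nd 1638 = n1852 := ndS (p := 745) (l := 4) rfl N745 D1852
theorem N1639 : nd 1639 = n1853 := ndS (p := 746) (l := 0) rfl N746 D1853
theorem N1640 : nd 1640 = n1854 := ndS (p := 746) (l := 4) rfl N746 D1854
theorem N1641 : nd 1641 = n1855 := ndS (p := 747) (l := 2) rfl N747 D1855
theorem N1642 : nd 1642 = n1862 := ndS (p := 749) (l := 3) rfl N749 D1862
theorem N1643 : nd 1643 = n1863 := ndS (p := 750) (l := 0) rfl N750 D1863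
theorem N1644 : nd 1644 = n1864 := ndS (p := 750) (l := 1) rfl N750 D1864
theorem N1645 : nd 1645 = n1865 := ndS (p := 750) (l := 3) rfl N750 D1865
theorem N1646 : nd 1646 = n1866 := ndS (p := 750) (l := 4) rfl N750 D1866
theorem N1647 : nd 1647 = n1867 := ndS (p := 751) (l := 0) rfl N751 D1867
theorem N1648 : nd 1648 = n1868 := ndS (p := 751) (l := 4) rfl N751 D1868
theorem N1649 : nd 1649 = n1869 := ndS (p := 752) (l := 2) rfl N752 D1869
theorem N1650 : nd 1650 = n1870 := ndS (p := 752) (l := 3) rfl N752 D1870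
theorem N1651 : nd 1651 = n1871 := ndS (p := 753) (l := 1) rfl N753 D1871
theorem N1652 : nd 1652 = n1872 := ndS (p := 753) (l := 2) rfl N753 D1872
theorem N1653 : nd 1653 = n1873 := ndS (p := 753) (l := 3) rfl N753 D1873
theorem N1654 : nd 1654 = n1874 := ndS (p := 753) (l := 4) rfl N753 D1874
theorem N1655 : nd 1655 = n1875 := ndS (p := 754) (l := 0) rfl N754 D1875
theorem N1656 : nd 1656 = n1876 := ndS (p := 754) (l := 4) rfl N754 D1876
theorem N1657 : nd 1657 = n1877 := ndS (p := 755) (l := 2) rfl N755 D1877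
theorem N1658 : nd 1658 = n1879 := ndS (p := 756) (l := 1) rfl N756 D1879
theorem N1659 : nd 1659 = n1880 := ndS (p := 756) (l := 2) rfl N756 D1880
theorem N1660 : nd 1660 = n1881 := ndS (p := 756) (l := 3) rfl N756 D1881
theorem N1661 : nd 1661 = n1882 := ndS (p := 756) (l := 4) rfl N756 D1882
theorem N1662 : nd 1662 = n1883 := ndS (p := 757) (l := 2) rfl N757 D1883
theorem N1663 : nd 1663 = n1885 := ndS (p := 758) (l := 0) rfl N758 D1885
theorem N1664 : nd 1664 = n1891 := ndS (p := 759) (l := 0) rfl N759 D1891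
theorem N1665 : nd 1665 = n1892 := ndS (p := 759) (l := 2) rfl N759 D1892
theorem N1666 : nd 1666 = n1893 := ndS (p := 759) (l := 3) rfl N759 D1893
theorem N1667 : nd 1667 = n1894 := ndS (p := 759) (l := 4) rfl N759 D1894
theorem N1668 : nd 1668 = n1906 := ndS (p := 762) (l := 2) rfl N762 D1906
theorem N1669 : nd 1669 = n1907 := ndS (p := 762) (l := 4) rfl N762 D1907
theorem N1670 : nd 1670 = n1908 := ndS (p := 763) (l := 0) rfl N763 D1908
theorem N1671 : nd 1671 = n1909 := ndS (p := 763) (l := 1) rfl N763 D1909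
theorem N1672 : nd 1672 = n1910 := ndS (p := 763) (l := 4) rfl N763 D1910
theorem N1673 : nd 1673 = n1911 := ndS (p := 764) (l := 2) rfl N764 D1911
theorem N1674 : nd 1674 = n1912 := ndS (p := 765) (l := 0) rfl N765 D1912
theorem N1675 : nd 1675 = n1913 := ndS (p := 765) (l := 2) rfl N765 D1913
theorem N1676 : nd 1676 = n1914 := ndS (p := 765) (l := 4) rfl N765 D1914
theorem N1677 : nd 1677 = n1916 := ndS (p := 767) (l := 1) rfl N767 D1916
theorem N1678 : nd 1678 = n1925 := ndS (p := 768) (l := 2) rfl N768 D1925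
theorem N1679 : nd 1679 = n1926 := ndS (p := 768) (l := 3) rfl N768 D1926
theorem N1680 : nd 1680 = n1927 := ndS (p := 768) (l := 4) rfl N768 D1927
theorem N1681 : nd 1681 = n1928 := ndS (p := 769) (l := 2) rfl N769 D1928
theorem N1682 : nd 1682 = n1929 := ndS (p := 769) (l := 3) rfl N769 D1929
theorem N1683 : nd 1683 = n1930 := ndS (p := 769) (l := 4) rfl N769 D1930
theorem N1684 : nd 1684 = n1931 := ndS (p := 770) (l := 0) rfl N770 D1931
theorem N1685 : nd 1685 = n1932 := ndS (p := 770) (l := 4) rfl N770 D1932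
theorem N1686 : nd 1686 = n1933 := ndS (p := 771) (l := 2) rfl N771 D1933
theorem N1687 : nd 1687 = n1934 := ndS (p := 771) (l := 3) rfl N771 D1934
theorem N1688 : nd 1688 = n1936 := ndS (p := 772) (l := 2) rfl N772 D1936
theorem N1689 : nd 1689 = n1938 := ndS (p := 772) (l := 4) rfl N772 D1938
theorem N1690 : nd 1690 = n1939 := ndS (p := 773) (l := 2) rfl N773 D1939
theorem N1691 : nd 1691 = n1940 := ndS (p := 774) (l := 0) rfl N774 D1940
theorem N1692 : nd 1692 = n1941 := ndS (p := 774) (l := 1) rfl N774 D1941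
theorem N1693 : nd 1693 = n1942 := ndS (p := 774) (l := 3) rfl N774 D1942
theorem N1694 : nd 1694 = n1943 := ndS (p := 774) (l := 4) rfl N774 D1943
theorem N1695 : nd 1695 = n1944 := ndS (p := 775) (l := 0) rfl N775 D1944
theorem N1696 : nd 1696 = n1945 := ndS (p := 775) (l := 4) rfl N775 D1945
theorem N1697 : nd 1697 = n1947 := ndS (p := 776) (l := 2) rfl N776 D1947
theorem N1698 : nd 1698 = n1949 := ndS (p := 776) (l := 4) rfl N776 D1949
theorem N1699 : nd 1699 = n1950 := ndS (p := 777) (l := 1) rfl N777 D1950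
theorem N1700 : nd 1700 = n1951 := ndS (p := 777) (l := 3) rfl N777 D1951
theorem N1701 : nd 1701 = n1952 := ndS (p := 777) (l := 4) rfl N777 D1952
theorem N1702 : nd 1702 = n1953 := ndS (p := 778) (l := 4) rfl N778 D1953
theorem N1703 : nd 1703 = n1954 := ndS (p := 779) (l := 2) rfl N779 D1954
theorem N1704 : nd 1704 = n1955 := ndS (p := 779) (l := 3) rfl N779 D1955
theorem N1705 : nd 1705 = n1956 := ndS (p := 780) (l := 4) rfl N780 D1956
theorem N1706 : nd 1706 = n1957 := ndS (p := 781) (l := 2) rfl N781 D1957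
theorem N1707 : nd 1707 = n1958 := ndS (p := 782) (l := 1) rfl N782 D1958
theorem N1708 : nd 1708 = n1959 := ndS (p := 782) (l := 2) rfl N782 D1959
theorem N1709 : nd 1709 = n1960 := ndS (p := 782) (l := 3) rfl N782 D1960
theorem N1710 : nd 1710 = n1961 := ndS (p := 782) (l := 4) rfl N782 D1961
theorem N1711 : nd 1711 = n1962 := ndS (p := 783) (l := 2) rfl N783 D1962
theorem N1712 : nd 1712 = n1963 := ndS (p := 783) (l := 3) rfl N783 D1963
theorem N1713 : nd 1713 = n1964 := ndS (p := 784) (l := 1) rfl N784 D1964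
theorem N1714 : nd 1714 = n1965 := ndS (p := 784) (l := 3) rfl N784 D1965
theorem N1715 : nd 1715 = n1966 := ndS (p := 784) (l := 4) rfl N784 D1966
theorem N1716 : nd 1716 = n1967 := ndS (p := 785) (l := 0) rfl N785 D1967
theorem N1717 : nd 1717 = n1968 := ndS (p := 785) (l := 4) rfl N785 D1968
theorem N1718 : nd 1718 = n1974 := ndS (p := 786) (l := 4) rfl N786 D1974
theorem N1719 : nd 1719 = n1976 := ndS (p := 787) (l := 2) rfl N787 D1976
theorem N1720 : nd 1720 = n1978 := ndS (p := 788) (l := 0) rfl N788 D1978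
theorem N1721 : nd 1721 = n1979 := ndS (p := 788) (l := 4) rfl N788 D1979
theorem N1722 : nd 1722 = n1980 := ndS (p := 789) (l := 1) rfl N789 D1980
theorem N1723 : nd 1723 = n1981 := ndS (p := 789) (l := 3) rfl N789 D1981
theorem N1724 : nd 1724 = n1982 := ndS (p := 789) (l := 4) rfl N789 D1982
theorem N1725 : nd 1725 = n1983 := ndS (p := 790) (l := 2) rfl N790 D1983
theorem N1726 : nd 1726 = n1984 := ndS (p := 790) (l := 3) rfl N790 D1984
theorem N1727 : nd 1727 = n1985 := ndS (p := 790) (l := 4) rfl N790 D1985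
theorem N1728 : nd 1728 = n1986 := ndS (p := 791) (l := 0) rfl N791 D1986
theorem N1729 : nd 1729 = n1987 := ndS (p := 791) (l := 4) rfl N791 D1987
theorem N1730 : nd 1730 = n1990 := ndS (p := 793) (l := 2) rfl N793 D1990
theorem N1731 : nd 1731 = n1991 := ndS (p := 793) (l := 4) rfl N793 D1991
theorem N1732 : nd 1732 = n1993 := ndS (p := 795) (l := 2) rfl N795 D1993
theorem N1733 : nd 1733 = n1994 := ndS (p := 795) (l := 3) rfl N795 D1994
theorem N1734 : nd 1734 = n1995 := ndS (p := 795) (l := 4) rfl N795 D1995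
theorem N1735 : nd 1735 = n1996 := ndS (p := 796) (l := 0) rfl N796 D1996
theorem N1736 : nd 1736 = n1997 := ndS (p := 796) (l := 1) rfl N796 D1997
theorem N1737 : nd 1737 = n1998 := ndS (p := 796) (l := 3) rfl N796 D1998
theorem N1738 : nd 1738 = n1999 := ndS (p := 796) (l := 4) rfl N796 D1999
theorem N1739 : nd 1739 = n2000 := ndS (p := 797) (l := 0) rfl N797 D2000
theorem N1740 : nd 1740 = n2001 := ndS (p := 797) (l := 4) rfl N797 D2001
theorem N1741 : nd 1741 = n2002 := ndS (p := 798) (l := 2) rfl N798 D2002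
theorem N1742 : nd 1742 = n2003 := ndS (p := 798) (l := 3) rfl N798 D2003
theorem N1743 : nd 1743 = n2004 := ndS (p := 799) (l := 1) rfl N799 D2004
theorem N1744 : nd 1744 = n2005 := ndS (p := 799) (l := 3) rfl N799 D2005
theorem N1745 : nd 1745 = n2006 := ndS (p := 799) (l := 4) rfl N799 D2006
theorem N1746 : nd 1746 = n2007 := ndS (p := 800) (l := 0) rfl N800 D2007
theorem N1747 : nd 1747 = n2008 := ndS (p := 800) (l := 4) rfl N800 D2008
theorem N1748 : nd 1748 = n2009 := ndS (p := 801) (l := 2) rfl N801 D2009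
theorem N1749 : nd 1749 = n2010 := ndS (p := 801) (l := 3) rfl N801 D2010
theorem N1750 : nd 1750 = n2011 := ndS (p := 802) (l := 1) rfl N802 D2011
theorem N1751 : nd 1751 = n2012 := ndS (p := 802) (l := 2) rfl N802 D2012
theorem N1752 : nd 1752 = n2013 := ndS (p := 802) (l := 3) rfl N802 D2013
theorem N1753 : nd 1753 = n2014 := ndS (p := 802) (l := 4) rfl N802 D2014
theorem N1754 : nd 1754 = n2015 := ndS (p := 803) (l := 2) rfl N803 D2015
theorem N1755 : nd 1755 = n2016 := ndS (p := 804) (l := 0) rfl N804 D2016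
theorem N1756 : nd 1756 = n2017 := ndS (p := 804) (l := 1) rfl N804 D2017
theorem N1757 : nd 1757 = n2018 := ndS (p := 804) (l := 3) rfl N804 D2018
theorem N1758 : nd 1758 = n2019 := ndS (p := 804) (l := 4) rfl N804 D2019
theorem N1759 : nd 1759 = n2020 := ndS (p := 805) (l := 0) rfl N805 D2020
theorem N1760 : nd 1760 = n2021 := ndS (p := 805) (l := 4) rfl N805 D2021
theorem N1761 : nd 1761 = n2022 := ndS (p := 807) (l := 0) rfl N807 D2022
theorem N1762 : nd 1762 = n2023 := ndS (p := 807) (l := 2) rfl N807 D2023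
theorem N1763 : nd 1763 = n2024 := ndS (p := 807) (l := 4) rfl N807 D2024
theorem N1764 : nd 1764 = n2025 := ndS (p := 809) (l := 0) rfl N809 D2025
theorem N1765 : nd 1765 = n2026 := ndS (p := 809) (l := 2) rfl N809 D2026
theorem N1766 : nd 1766 = n2028 := ndS (p := 810) (l := 1) rfl N810 D2028
theorem N1767 : nd 1767 = n2029 := ndS (p := 810) (l := 2) rfl N810 D2029
theorem N1768 : nd 1768 = n2030 := ndS (p := 810) (l := 3) rfl N810 D2030
theorem N1769 : nd 1769 = n2031 := ndS (p := 810) (l := 4) rfl N810 D2031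
theorem N1770 : nd 1770 = n2032 := ndS (p := 811) (l := 0) rfl N811 D2032
theorem N1771 : nd 1771 = n2033 := ndS (p := 811) (l := 3) rfl N811 D2033
theorem N1772 : nd 1772 = n2034 := ndS (p := 811) (l := 4) rfl N811 D2034
theorem N1773 : nd 1773 = n2035 := ndS (p := 812) (l := 0) rfl N812 D2035
theorem N1774 : nd 1774 = n2036 := ndS (p := 812) (l := 4) rfl N812 D2036
theorem N1775 : nd 1775 = n2037 := ndS (p := 813) (l := 2) rfl N813 D2037
theorem N1776 : nd 1776 = n2044 := ndS (p := 815) (l := 1) rfl N815 D2044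
theorem N1777 : nd 1777 = n2045 := ndS (p := 815) (l := 2) rfl N815 D2045
theorem N1778 : nd 1778 = n2046 := ndS (p := 815) (l := 3) rfl N815 D2046
theorem N1779 : nd 1779 = n2047 := ndS (p := 815) (l := 4) rfl N815 D2047
theorem N1780 : nd 1780 = n2048 := ndS (p := 816) (l := 0) rfl N816 D2048
theorem N1781 : nd 1781 = n2049 := ndS (p := 816) (l := 1) rfl N816 D2049
theorem N1782 : nd 1782 = n2050 := ndS (p := 816) (l := 3) rfl N816 D2050
theorem N1783 : nd 1783 = n2051 := ndS (p := 816) (l := 4) rfl N816 D2051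
theorem N1784 : nd 1784 = n2052 := ndS (p := 817) (l := 0) rfl N817 D2052
theorem N1785 : nd 1785 = n2053 := ndS (p := 817) (l := 4) rfl N817 D2053
theorem N1786 : nd 1786 = n2054 := ndS (p := 818) (l := 2) rfl N818 D2054
theorem N1787 : nd 1787 = n2055 := ndS (p := 818) (l := 3) rfl N818 D2055
theorem N1788 : nd 1788 = n2059 := ndS (p := 821) (l := 2) rfl N821 D2059
theorem N1789 : nd 1789 = n2060 := ndS (p := 821) (l := 3) rfl N821 D2060
theorem N1790 : nd 1790 = n2061 := ndS (p := 821) (l := 4) rfl N821 D2061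
theorem N1791 : nd 1791 = n2062 := ndS (p := 822) (l := 0) rfl N822 D2062
theorem N1792 : nd 1792 = n2063 := ndS (p := 822) (l := 1) rfl N822 D2063
theorem N1793 : nd 1793 = n2064 := ndS (p := 822) (l := 3) rfl N822 D2064
theorem N1794 : nd 1794 = n2065 := ndS (p := 822) (l := 4) rfl N822 D2065
theorem N1795 : nd 1795 = n2066 := ndS (p := 823) (l := 0) rfl N823 D2066
theorem N1796 : nd 1796 = n2067 := ndS (p := 823) (l := 4) rfl N823 D2067
theorem N1797 : nd 1797 = n2068 := ndS (p := 824) (l := 2) rfl N824 D2068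
theorem N1798 : nd 1798 = n2069 := ndS (p := 824) (l := 3) rfl N824 D2069
theorem N1799 : nd 1799 = n2070 := ndS (p := 825) (l := 1) rfl N825 D2070
theorem N1800 : nd 1800 = n2071 := ndS (p := 825) (l := 2) rfl N825 D2071
theorem N1801 : nd 1801 = n2072 := ndS (p := 825) (l := 3) rfl N825 D2072
theorem N1802 : nd 1802 = n2073 := ndS (p := 825) (l := 4) rfl N825 D2073
theorem N1803 : nd 1803 = n2074 := ndS (p := 826) (l := 0) rfl N826 D2074
theorem N1804 : nd 1804 = n2075 := ndS (p := 826) (l := 4) rfl N826 D2075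
theorem N1805 : nd 1805 = n2076 := ndS (p := 827) (l := 2) rfl N827 D2076
theorem N1806 : nd 1806 = n2078 := ndS (p := 828) (l := 1) rfl N828 D2078
theorem N1807 : nd 1807 = n2079 := ndS (p := 828) (l := 2) rfl N828 D2079
theorem N1808 : nd 1808 = n2080 := ndS (p := 828) (l := 3) rfl N828 D2080
theorem N1809 : nd 1809 = n2081 := ndS (p := 828) (l := 4) rfl N828 D2081
theorem N1810 : nd 1810 = n2082 := ndS (p := 829) (l := 2) rfl N829 D2082
theorem N1811 : nd 1811 = n2084 := ndS (p := 830) (l := 0) rfl N830 D2084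
theorem N1812 : nd 1812 = n2090 := ndS (p := 831) (l := 0) rfl N831 D2090
theorem N1813 : nd 1813 = n2091 := ndS (p := 831) (l := 2) rfl N831 D2091
theorem N1814 : nd 1814 = n2092 := ndS (p := 831) (l := 4) rfl N831 D2092
theorem N1815 : nd 1815 = n2108 := ndS (p := 833) (l := 2) rfl N833 D2108
theorem N1816 : nd 1816 = n2109 := ndS (p := 833) (l := 3) rfl N833 D2109
theorem N1817 : nd 1817 = n2110 := ndS (p := 833) (l := 4) rfl N833 D2110
theorem N1818 : nd 1818 = n2111 := ndS (p := 834) (l := 1) rfl N834 D2111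
theorem N1819 : nd 1819 = n2112 := ndS (p := 834) (l := 3) rfl N834 D2112
theorem N1820 : nd 1820 = n2113 := ndS (p := 834) (l := 4) rfl N834 D2113
theorem N1821 : nd 1821 = n2114 := ndS (p := 835) (l := 0) rfl N835 D2114
theorem N1822 : nd 1822 = n2115 := ndS (p := 835) (l := 4) rfl N835 D2115
theorem N1823 : nd 1823 = n2116 := ndS (p := 836) (l := 2) rfl N836 D2116
theorem N1824 : nd 1824 = n2117 := ndS (p := 836) (l := 3) rfl N836 D2117
theorem N1825 : nd 1825 = n2118 := ndS (p := 837) (l := 1) rfl N837 D2118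
theorem N1826 : nd 1826 = n2119 := ndS (p := 837) (l := 2) rfl N837 D2119
theorem N1827 : nd 1827 = n2120 := ndS (p := 837) (l := 3) rfl N837 D2120
theorem N1828 : nd 1828 = n2121 := ndS (p := 837) (l := 4) rfl N837 D2121
theorem N1829 : nd 1829 = n2122 := ndS (p := 838) (l := 3) rfl N838 D2122
theorem N1830 : nd 1830 = n2123 := ndS (p := 838) (l := 4) rfl N838 D2123
theorem N1831 : nd 1831 = n2124 := ndS (p := 839) (l := 0) rfl N839 D2124
theorem N1832 : nd 1832 = n2125 := ndS (p := 839) (l := 4) rfl N839 D2125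
theorem N1833 : nd 1833 = n2126 := ndS (p := 840) (l := 2) rfl N840 D2126
theorem N1834 : nd 1834 = n2127 := ndS (p := 840) (l := 3) rfl N840 D2127
theorem N1835 : nd 1835 = n2128 := ndS (p := 841) (l := 1) rfl N841 D2128
theorem N1836 : nd 1836 = n2129 := ndS (p := 841) (l := 2) rfl N841 D2129
theorem N1837 : nd 1837 = n2130 := ndS (p := 841) (l := 3) rfl N841 D2130
theorem N1838 : nd 1838 = n2131 := ndS (p := 841) (l := 4) rfl N841 D2131
theorem N1839 : nd 1839 = n2132 := ndS (p := 842) (l := 2) rfl N842 D2132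
theorem N1840 : nd 1840 = n2134 := ndS (p := 843) (l := 0) rfl N843 D2134
theorem N1841 : nd 1841 = n2135 := ndS (p := 843) (l := 1) rfl N843 D2135
theorem N1842 : nd 1842 = n2136 := ndS (p := 843) (l := 3) rfl N843 D2136
theorem N1843 : nd 1843 = n2137 := ndS (p := 843) (l := 4) rfl N843 D2137
theorem N1844 : nd 1844 = n2138 := ndS (p := 844) (l := 0) rfl N844 D2138
theorem N1845 : nd 1845 = n2147 := ndS (p := 845) (l := 3) rfl N845 D2147
theorem N1846 : nd 1846 = n2148 := ndS (p := 846) (l := 0) rfl N846 D2148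
theorem N1847 : nd 1847 = n2149 := ndS (p := 846) (l := 4) rfl N846 D2149
theorem N1848 : nd 1848 = n2150 := ndS (p := 847) (l := 3) rfl N847 D2150
theorem N1849 : nd 1849 = n2151 := ndS (p := 848) (l := 1) rfl N848 D2151
theorem N1850 : nd 1850 = n2152 := ndS (p := 848) (l := 2) rfl N848 D2152
theorem N1851 : nd 1851 = n2153 := ndS (p := 848) (l := 3) rfl N848 D2153
theorem N1852 : nd 1852 = n2154 := ndS (p := 848) (l := 4) rfl N848 D2154
theorem N1853 : nd 1853 = n2155 := ndS (p := 849) (l := 0) rfl N849 D2155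
theorem N1854 : nd 1854 = n2156 := ndS (p := 849) (l := 2) rfl N849 D2156
theorem N1855 : nd 1855 = n2157 := ndS (p := 849) (l := 3) rfl N849 D2157
theorem N1856 : nd 1856 = n2158 := ndS (p := 849) (l := 4) rfl N849 D2158
theorem N1857 : nd 1857 = n2159 := ndS (p := 850) (l := 0) rfl N850 D2159
theorem N1858 : nd 1858 = n2160 := ndS (p := 850) (l := 4) rfl N850 D2160
theorem N1859 : nd 1859 = n2161 := ndS (p := 851) (l := 2) rfl N851 D2161
theorem N1860 : nd 1860 = n2162 := ndS (p := 851) (l := 3) rfl N851 D2162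
theorem N1861 : nd 1861 = n2163 := ndS (p := 852) (l := 1) rfl N852 D2163
theorem N1862 : nd 1862 = n2164 := ndS (p := 852) (l := 2) rfl N852 D2164
theorem N1863 : nd 1863 = n2165 := ndS (p := 852) (l := 3) rfl N852 D2165
theorem N1864 : nd 1864 = n2166 := ndS (p := 852) (l := 4) rfl N852 D2166
theorem N1865 : nd 1865 = n2167 := ndS (p := 853) (l := 2) rfl N853 D2167
theorem N1866 : nd 1866 = n2169 := ndS (p := 854) (l := 0) rfl N854 D2169
theorem N1867 : nd 1867 = n2170 := ndS (p := 854) (l := 1) rfl N854 D2170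
theorem N1868 : nd 1868 = n2171 := ndS (p := 854) (l := 3) rfl N854 D2171
theorem N1869 : nd 1869 = n2172 := ndS (p := 854) (l := 4) rfl N854 D2172
theorem N1870 : nd 1870 = n2173 := ndS (p := 855) (l := 0) rfl N855 D2173
theorem N1871 : nd 1871 = n2175 := ndS (p := 856) (l := 2) rfl N856 D2175
theorem N1872 : nd 1872 = n2176 := ndS (p := 856) (l := 3) rfl N856 D2176
theorem N1873 : nd 1873 = n2177 := ndS (p := 856) (l := 4) rfl N856 D2177
theorem N1874 : nd 1874 = n2178 := ndS (p := 857) (l := 3) rfl N857 D2178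
theorem N1875 : nd 1875 = n2179 := ndS (p := 857) (l := 4) rfl N857 D2179
theorem N1876 : nd 1876 = n2180 := ndS (p := 858) (l := 4) rfl N858 D2180
theorem N1877 : nd 1877 = n2182 := ndS (p := 859) (l := 3) rfl N859 D2182
theorem N1878 : nd 1878 = n2183 := ndS (p := 860) (l := 1) rfl N860 D2183
theorem N1879 : nd 1879 = n2184 := ndS (p := 860) (l := 2) rfl N860 D2184
theorem N1880 : nd 1880 = n2185 := ndS (p := 860) (l := 3) rfl N860 D2185
theorem N1881 : nd 1881 = n2186 := ndS (p := 860) (l := 4) rfl N860 D2186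
theorem N1882 : nd 1882 = n2187 := ndS (p := 861) (l := 2) rfl N861 D2187
theorem N1883 : nd 1883 = n2194 := ndS (p := 863) (l := 0) rfl N863 D2194
theorem N1884 : nd 1884 = n2195 := ndS (p := 863) (l := 2) rfl N863 D2195
theorem N1885 : nd 1885 = n2196 := ndS (p := 863) (l := 3) rfl N863 D2196
theorem N1886 : nd 1886 = n2197 := ndS (p := 863) (l := 4) rfl N863 D2197
theorem N1887 : nd 1887 = n2198 := ndS (p := 864) (l := 1) rfl N864 D2198
theorem N1888 : nd 1888 = n2199 := ndS (p := 864) (l := 3) rfl N864 D2199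
theorem N1889 : nd 1889 = n2200 := ndS (p := 864) (l := 4) rfl N864 D2200
theorem N1890 : nd 1890 = n2202 := ndS (p := 866) (l := 2) rfl N866 D2202
theorem N1891 : nd 1891 = n2204 := ndS (p := 867) (l := 0) rfl N867 D2204
theorem N1892 : nd 1892 = n2209 := ndS (p := 868) (l := 1) rfl N868 D2209
theorem N1893 : nd 1893 = n2210 := ndS (p := 868) (l := 3) rfl N868 D2210
theorem N1894 : nd 1894 = n2217 := ndS (p := 869) (l := 2) rfl N869 D2217
theorem N1895 : nd 1895 = n2218 := ndS (p := 869) (l := 3) rfl N869 D2218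
theorem N1896 : nd 1896 = n2219 := ndS (p := 869) (l := 4) rfl N869 D2219
theorem N1897 : nd 1897 = n2220 := ndS (p := 870) (l := 0) rfl N870 D2220
theorem N1898 : nd 1898 = n2221 := ndS (p := 870) (l := 1) rfl N870 D2221
theorem N1899 : nd 1899 = n2222 := ndS (p := 870) (l := 3) rfl N870 D2222
theorem N1900 : nd 1900 = n2223 := ndS (p := 870) (l := 4) rfl N870 D2223
theorem N1901 : nd 1901 = n2224 := ndS (p := 871) (l := 0) rfl N871 D2224
theorem N1902 : nd 1902 = n2226 := ndS (p := 872) (l := 2) rfl N872 D2226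
theorem N1903 : nd 1903 = n2228 := ndS (p := 873) (l := 0) rfl N873 D2228
theorem N1904 : nd 1904 = n2229 := ndS (p := 873) (l := 2) rfl N873 D2229
theorem N1905 : nd 1905 = n2254 := ndS (p := 874) (l := 0) rfl N874 D2254
theorem N1906 : nd 1906 = n2255 := ndS (p := 874) (l := 1) rfl N874 D2255
theorem N1907 : nd 1907 = n2256 := ndS (p := 874) (l := 4) rfl N874 D2256
theorem N1908 : nd 1908 = n2257 := ndS (p := 875) (l := 2) rfl N875 D2257
theorem N1909 : nd 1909 = n2258 := ndS (p := 876) (l := 1) rfl N876 D2258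
theorem N1910 : nd 1910 = n2259 := ndS (p := 876) (l := 2) rfl N876 D2259
theorem N1911 : nd 1911 = n2260 := ndS (p := 876) (l := 3) rfl N876 D2260
theorem N1912 : nd 1912 = n2261 := ndS (p := 876) (l := 4) rfl N876 D2261
theorem N1913 : nd 1913 = n2262 := ndS (p := 877) (l := 2) rfl N877 D2262
theorem N1914 : nd 1914 = n2263 := ndS (p := 877) (l := 4) rfl N877 D2263
theorem N1915 : nd 1915 = n2264 := ndS (p := 878) (l := 2) rfl N878 D2264
theorem N1916 : nd 1916 = n2266 := ndS (p := 879) (l := 0) rfl N879 D2266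
theorem N1917 : nd 1917 = n2267 := ndS (p := 879) (l := 1) rfl N879 D2267
theorem N1918 : nd 1918 = n2269 := ndS (p := 880) (l := 1) rfl N880 D2269
theorem N1919 : nd 1919 = n2270 := ndS (p := 880) (l := 2) rfl N880 D2270
theorem N1920 : nd 1920 = n2271 := ndS (p := 880) (l := 3) rfl N880 D2271
theorem N1921 : nd 1921 = n2272 := ndS (p := 880) (l := 4) rfl N880 D2272
theorem N1922 : nd 1922 = n2273 := ndS (p := 881) (l := 0) rfl N881 D2273
theorem N1923 : nd 1923 = n2274 := ndS (p := 881) (l := 4) rfl N881 D2274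
theorem N1924 : nd 1924 = n2275 := ndS (p := 882) (l := 2) rfl N882 D2275
theorem N1925 : nd 1925 = n2280 := ndS (p := 883) (l := 0) rfl N883 D2280
theorem N1926 : nd 1926 = n2281 := ndS (p := 883) (l := 2) rfl N883 D2281
theorem N1927 : nd 1927 = n2300 := ndS (p := 884) (l := 1) rfl N884 D2300
theorem N1928 : nd 1928 = n2301 := ndS (p := 884) (l := 3) rfl N884 D2301
theorem N1929 : nd 1929 = n2302 := ndS (p := 884) (l := 4) rfl N884 D2302
theorem N1930 : nd 1930 = n2303 := ndS (p := 885) (l := 4) rfl N885 D2303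
theorem N1931 : nd 1931 = n2304 := ndS (p := 886) (l := 2) rfl N886 D2304
theorem N1932 : nd 1932 = n2305 := ndS (p := 886) (l := 3) rfl N886 D2305
theorem N1933 : nd 1933 = n2306 := ndS (p := 887) (l := 4) rfl N887 D2306
theorem N1934 : nd 1934 = n2307 := ndS (p := 888) (l := 3) rfl N888 D2307
theorem N1935 : nd 1935 = n2308 := ndS (p := 889) (l := 2) rfl N889 D2308
theorem N1936 : nd 1936 = n2309 := ndS (p := 889) (l := 3) rfl N889 D2309
theorem N1937 : nd 1937 = n2310 := ndS (p := 890) (l := 3) rfl N890 D2310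
theorem N1938 : nd 1938 = n2311 := ndS (p := 891) (l := 0) rfl N891 D2311
theorem N1939 : nd 1939 = n2312 := ndS (p := 891) (l := 4) rfl N891 D2312
theorem N1940 : nd 1940 = n2313 := ndS (p := 892) (l := 3) rfl N892 D2313
theorem N1941 : nd 1941 = n2314 := ndS (p := 892) (l := 4) rfl N892 D2314
theorem N1942 : nd 1942 = n2315 := ndS (p := 893) (l := 4) rfl N893 D2315
theorem N1943 : nd 1943 = n2316 := ndS (p := 894) (l := 2) rfl N894 D2316
theorem N1944 : nd 1944 = n2317 := ndS (p := 894) (l := 3) rfl N894 D2317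
theorem N1945 : nd 1945 = n2318 := ndS (p := 895) (l := 0) rfl N895 D2318
theorem N1946 : nd 1946 = n2319 := ndS (p := 895) (l := 4) rfl N895 D2319
theorem N1947 : nd 1947 = n2320 := ndS (p := 896) (l := 2) rfl N896 D2320
theorem N1948 : nd 1948 = n2321 := ndS (p := 896) (l := 3) rfl N896 D2321
theorem N1949 : nd 1949 = n2322 := ndS (p := 897) (l := 2) rfl N897 D2322
theorem N1950 : nd 1950 = n2323 := ndS (p := 897) (l := 4) rfl N897 D2323
theorem N1951 : nd 1951 = n2324 := ndS (p := 898) (l := 2) rfl N898 D2324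
theorem N1952 : nd 1952 = n2325 := ndS (p := 898) (l := 3) rfl N898 D2325
theorem N1953 : nd 1953 = n2326 := ndS (p := 899) (l := 1) rfl N899 D2326
theorem N1954 : nd 1954 = n2327 := ndS (p := 899) (l := 3) rfl N899 D2327
theorem N1955 : nd 1955 = n2328 := ndS (p := 899) (l := 4) rfl N899 D2328
theorem N1956 : nd 1956 = n2329 := ndS (p := 900) (l := 0) rfl N900 D2329
theorem N1957 : nd 1957 = n2330 := ndS (p := 900) (l := 4) rfl N900 D2330
theorem N1958 : nd 1958 = n2331 := ndS (p := 901) (l := 0) rfl N901 D2331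
theorem N1959 : nd 1959 = n2332 := ndS (p := 901) (l := 2) rfl N901 D2332
theorem N1960 : nd 1960 = n2333 := ndS (p := 901) (l := 3) rfl N901 D2333
theorem N1961 : nd 1961 = n2334 := ndS (p := 901) (l := 4) rfl N901 D2334
theorem N1962 : nd 1962 = n2335 := ndS (p := 902) (l := 1) rfl N902 D2335
theorem N1963 : nd 1963 = n2336 := ndS (p := 902) (l := 3) rfl N902 D2336
theorem N1964 : nd 1964 = n2337 := ndS (p := 902) (l := 4) rfl N902 D2337
theorem N1965 : nd 1965 = n2338 := ndS (p := 903) (l := 4) rfl N903 D2338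
theorem N1966 : nd 1966 = n2339 := ndS (p := 904) (l := 2) rfl N904 D2339
theorem N1967 : nd 1967 = n2340 := ndS (p := 904) (l := 3) rfl N904 D2340
theorem N1968 : nd 1968 = n2341 := ndS (p := 905) (l := 0) rfl N905 D2341
theorem N1969 : nd 1969 = n2343 := ndS (p := 905) (l := 3) rfl N905 D2343
theorem N1970 : nd 1970 = n2345 := ndS (p := 906) (l := 4) rfl N906 D2345
theorem N1971 : nd 1971 = n2346 := ndS (p := 907) (l := 0) rfl N907 D2346
theorem N1972 : nd 1972 = n2347 := ndS (p := 907) (l := 4) rfl N907 D2347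
theorem N1973 : nd 1973 = n2348 := ndS (p := 908) (l := 1) rfl N908 D2348
theorem N1974 : nd 1974 = n2349 := ndS (p := 908) (l := 2) rfl N908 D2349
theorem N1975 : nd 1975 = n2350 := ndS (p := 908) (l := 4) rfl N908 D2350
theorem N1976 : nd 1976 = n2352 := ndS (p := 910) (l := 2) rfl N910 D2352
theorem N1977 : nd 1977 = n2354 := ndS (p := 910) (l := 4) rfl N910 D2354
theorem N1978 : nd 1978 = n2355 := ndS (p := 911) (l := 0) rfl N911 D2355
theorem N1979 : nd 1979 = n2356 := ndS (p := 911) (l := 1) rfl N911 D2356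
theorem N1980 : nd 1980 = n2358 := ndS (p := 911) (l := 4) rfl N911 D2358
theorem N1981 : nd 1981 = n2361 := ndS (p := 912) (l := 2) rfl N912 D2361
theorem N1982 : nd 1982 = n2363 := ndS (p := 913) (l := 0) rfl N913 D2363
theorem N1983 : nd 1983 = n2364 := ndS (p := 913) (l := 2) rfl N913 D2364
theorem N1984 : nd 1984 = n2365 := ndS (p := 913) (l := 3) rfl N913 D2365
theorem N1985 : nd 1985 = n2366 := ndS (p := 913) (l := 4) rfl N913 D2366
theorem N1986 : nd 1986 = n2367 := ndS (p := 914) (l := 4) rfl N914 D2367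
theorem N1987 : nd 1987 = n2368 := ndS (p := 915) (l := 3) rfl N915 D2368
theorem N1988 : nd 1988 = n2369 := ndS (p := 916) (l := 2) rfl N916 D2369
theorem N1989 : nd 1989 = n2370 := ndS (p := 917) (l := 0) rfl N917 D2370
theorem N1990 : nd 1990 = n2371 := ndS (p := 917) (l := 1) rfl N917 D2371
theorem N1991 : nd 1991 = n2372 := ndS (p := 917) (l := 3) rfl N917 D2372
theorem N1992 : nd 1992 = n2373 := ndS (p := 917) (l := 4) rfl N917 D2373
theorem N1993 : nd 1993 = n2374 := ndS (p := 918) (l := 4) rfl N918 D2374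
theorem N1994 : nd 1994 = n2375 := ndS (p := 919) (l := 1) rfl N919 D2375
theorem N1995 : nd 1995 = n2376 := ndS (p := 919) (l := 3) rfl N919 D2376
theorem N1996 : nd 1996 = n2377 := ndS (p := 919) (l := 4) rfl N919 D2377
theorem N1997 : nd 1997 = n2378 := ndS (p := 920) (l := 0) rfl N920 D2378
theorem N1998 : nd 1998 = n2379 := ndS (p := 920) (l := 2) rfl N920 D2379
theorem N1999 : nd 1999 = n2380 := ndS (p := 920) (l := 3) rfl N920 D2380
theorem N2000 : nd 2000 = n2381 := ndS (p := 920) (l := 4) rfl N920 D2381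
theorem N2001 : nd 2001 = n2382 := ndS (p := 921) (l := 0) rfl N921 D2382
theorem N2002 : nd 2002 = n2383 := ndS (p := 921) (l := 4) rfl N921 D2383
theorem N2003 : nd 2003 = n2386 := ndS (p := 924) (l := 2) rfl N924 D2386
theorem N2004 : nd 2004 = n2387 := ndS (p := 924) (l := 3) rfl N924 D2387
theorem N2005 : nd 2005 = n2388 := ndS (p := 924) (l := 4) rfl N924 D2388
theorem N2006 : nd 2006 = n2389 := ndS (p := 925) (l := 4) rfl N925 D2389
theorem N2007 : nd 2007 = n2390 := ndS (p := 926) (l := 3) rfl N926 D2390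
theorem N2008 : nd 2008 = n2391 := ndS (p := 927) (l := 2) rfl N927 D2391
theorem N2009 : nd 2009 = n2392 := ndS (p := 927) (l := 3) rfl N927 D2392
theorem N2010 : nd 2010 = n2393 := ndS (p := 928) (l := 3) rfl N928 D2393
theorem N2011 : nd 2011 = n2394 := ndS (p := 928) (l := 4) rfl N928 D2394
theorem N2012 : nd 2012 = n2395 := ndS (p := 929) (l := 0) rfl N929 D2395
theorem N2013 : nd 2013 = n2396 := ndS (p := 929) (l := 4) rfl N929 D2396
theorem N2014 : nd 2014 = n2398 := ndS (p := 931) (l := 1) rfl N931 D2398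
theorem N2015 : nd 2015 = n2399 := ndS (p := 931) (l := 2) rfl N931 D2399
theorem N2016 : nd 2016 = n2400 := ndS (p := 931) (l := 3) rfl N931 D2400
theorem N2017 : nd 2017 = n2401 := ndS (p := 931) (l := 4) rfl N931 D2401
theorem N2018 : nd 2018 = n2406 := ndS (p := 933) (l := 0) rfl N933 D2406
theorem N2019 : nd 2019 = n2407 := ndS (p := 933) (l := 2) rfl N933 D2407
theorem N2020 : nd 2020 = n2408 := ndS (p := 933) (l := 4) rfl N933 D2408
theorem N2021 : nd 2021 = n2409 := ndS (p := 934) (l := 1) rfl N934 D2409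
theorem N2022 : nd 2022 = n2410 := ndS (p := 934) (l := 4) rfl N934 D2410
theorem N2023 : nd 2023 = n2411 := ndS (p := 935) (l := 2) rfl N935 D2411
theorem N2024 : nd 2024 = n2415 := ndS (p := 936) (l := 4) rfl N936 D2415
theorem N2025 : nd 2025 = n2416 := ndS (p := 937) (l := 3) rfl N937 D2416
theorem N2026 : nd 2026 = n2417 := ndS (p := 938) (l := 2) rfl N938 D2417
theorem N2027 : nd 2027 = n2418 := ndS (p := 938) (l := 3) rfl N938 D2418
theorem N2028 : nd 2028 = n2419 := ndS (p := 939) (l := 1) rfl N939 D2419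
theorem N2029 : nd 2029 = n2420 := ndS (p := 939) (l := 3) rfl N939 D2420
theorem N2030 : nd 2030 = n2421 := ndS (p := 939) (l := 4) rfl N939 D2421
theorem N2031 : nd 2031 = n2422 := ndS (p := 940) (l := 0) rfl N940 D2422
theorem N2032 : nd 2032 = n2423 := ndS (p := 940) (l := 4) rfl N940 D2423
theorem N2033 : nd 2033 = n2424 := ndS (p := 941) (l := 4) rfl N941 D2424
theorem N2034 : nd 2034 = n2425 := ndS (p := 942) (l := 3) rfl N942 D2425
theorem N2035 : nd 2035 = n2426 := ndS (p := 943) (l := 3) rfl N943 D2426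
theorem N2036 : nd 2036 = n2427 := ndS (p := 944) (l := 4) rfl N944 D2427
theorem N2037 : nd 2037 = n2428 := ndS (p := 945) (l := 1) rfl N945 D2428
theorem N2038 : nd 2038 = n2429 := ndS (p := 945) (l := 3) rfl N945 D2429
theorem N2039 : nd 2039 = n2430 := ndS (p := 945) (l := 4) rfl N945 D2430
theorem N2040 : nd 2040 = n2431 := ndS (p := 946) (l := 4) rfl N946 D2431
theorem N2041 : nd 2041 = n2432 := ndS (p := 947) (l := 2) rfl N947 D2432
theorem N2042 : nd 2042 = n2433 := ndS (p := 947) (l := 3) rfl N947 D2433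
theorem N2043 : nd 2043 = n2434 := ndS (p := 948) (l := 4) rfl N948 D2434
theorem N2044 : nd 2044 = n2435 := ndS (p := 950) (l := 1) rfl N950 D2435
theorem N2045 : nd 2045 = n2438 := ndS (p := 952) (l := 0) rfl N952 D2438
theorem N2046 : nd 2046 = n2439 := ndS (p := 952) (l := 4) rfl N952 D2439
theorem N2047 : nd 2047 = n2440 := ndS (p := 953) (l := 2) rfl N953 D2440
theorem N2048 : nd 2048 = n2441 := ndS (p := 953) (l := 3) rfl N953 D2441
theorem N2049 : nd 2049 = n2442 := ndS (p := 954) (l := 3) rfl N954 D2442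
theorem N2050 : nd 2050 = n2443 := ndS (p := 954) (l := 4) rfl N954 D2443
theorem N2051 : nd 2051 = n2444 := ndS (p := 955) (l := 0) rfl N955 D2444
theorem N2052 : nd 2052 = n2445 := ndS (p := 955) (l := 4) rfl N955 D2445
theorem N2053 : nd 2053 = n2446 := ndS (p := 956) (l := 2) rfl N956 D2446
theorem N2054 : nd 2054 = n2447 := ndS (p := 956) (l := 3) rfl N956 D2447
theorem N2055 : nd 2055 = n2448 := ndS (p := 957) (l := 2) rfl N957 D2448
theorem N2056 : nd 2056 = n2449 := ndS (p := 957) (l := 4) rfl N957 D2449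
theorem N2057 : nd 2057 = n2450 := ndS (p := 958) (l := 2) rfl N958 D2450
theorem N2058 : nd 2058 = n2451 := ndS (p := 958) (l := 3) rfl N958 D2451
theorem N2059 : nd 2059 = n2452 := ndS (p := 959) (l := 0) rfl N959 D2452
theorem N2060 : nd 2060 = n2453 := ndS (p := 959) (l := 1) rfl N959 D2453
theorem N2061 : nd 2061 = n2454 := ndS (p := 959) (l := 3) rfl N959 D2454
theorem N2062 : nd 2062 = n2455 := ndS (p := 959) (l := 4) rfl N959 D2455
theorem N2063 : nd 2063 = n2456 := ndS (p := 960) (l := 0) rfl N960 D2456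
theorem N2064 : nd 2064 = n2457 := ndS (p := 960) (l := 4) rfl N960 D2457
theorem N2065 : nd 2065 = n2458 := ndS (p := 961) (l := 3) rfl N961 D2458
theorem N2066 : nd 2066 = n2459 := ndS (p := 961) (l := 4) rfl N961 D2459
theorem N2067 : nd 2067 = n2460 := ndS (p := 962) (l := 4) rfl N962 D2460
theorem N2068 : nd 2068 = n2461 := ndS (p := 963) (l := 2) rfl N963 D2461
theorem N2069 : nd 2069 = n2462 := ndS (p := 963) (l := 3) rfl N963 D2462
theorem N2070 : nd 2070 = n2463 := ndS (p := 964) (l := 1) rfl N964 D2463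
theorem N2071 : nd 2071 = n2464 := ndS (p := 964) (l := 2) rfl N964 D2464
theorem N2072 : nd 2072 = n2465 := ndS (p := 964) (l := 3) rfl N964 D2465
theorem N2073 : nd 2073 = n2466 := ndS (p := 964) (l := 4) rfl N964 D2466
theorem N2074 : nd 2074 = n2467 := ndS (p := 965) (l := 2) rfl N965 D2467
theorem N2075 : nd 2075 = n2468 := ndS (p := 965) (l := 3) rfl N965 D2468
theorem N2076 : nd 2076 = n2469 := ndS (p := 966) (l := 3) rfl N966 D2469
theorem N2077 : nd 2077 = n2470 := ndS (p := 967) (l := 0) rfl N967 D2470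
theorem N2078 : nd 2078 = n2471 := ndS (p := 967) (l := 4) rfl N967 D2471
theorem N2079 : nd 2079 = n2472 := ndS (p := 968) (l := 0) rfl N968 D2472
theorem N2080 : nd 2080 = n2473 := ndS (p := 968) (l := 2) rfl N968 D2473
theorem N2081 : nd 2081 = n2474 := ndS (p := 968) (l := 4) rfl N968 D2474
theorem N2082 : nd 2082 = n2475 := ndS (p := 969) (l := 1) rfl N969 D2475
theorem N2083 : nd 2083 = n2476 := ndS (p := 969) (l := 3) rfl N969 D2476
theorem N2084 : nd 2084 = n2477 := ndS (p := 969) (l := 4) rfl N969 D2477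
theorem N2085 : nd 2085 = n2478 := ndS (p := 970) (l := 4) rfl N970 D2478
theorem N2086 : nd 2086 = n2479 := ndS (p := 971) (l := 2) rfl N971 D2479
theorem N2087 : nd 2087 = n2480 := ndS (p := 971) (l := 3) rfl N971 D2480
theorem N2088 : nd 2088 = n2481 := ndS (p := 972) (l := 0) rfl N972 D2481
theorem N2089 : nd 2089 = n2482 := ndS (p := 972) (l := 1) rfl N972 D2482
theorem N2090 : nd 2090 = n2483 := ndS (p := 972) (l := 3) rfl N972 D2483
theorem N2091 : nd 2091 = n2484 := ndS (p := 972) (l := 4) rfl N972 D2484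
theorem N2092 : nd 2092 = n2485 := ndS (p := 973) (l := 4) rfl N973 D2485
theorem N2093 : nd 2093 = n2486 := ndS (p := 974) (l := 3) rfl N974 D2486
theorem N2094 : nd 2094 = n2487 := ndS (p := 975) (l := 2) rfl N975 D2487
theorem N2095 : nd 2095 = n2488 := ndS (p := 975) (l := 3) rfl N975 D2488
theorem N2096 : nd 2096 = n2489 := ndS (p := 976) (l := 0) rfl N976 D2489
theorem N2097 : nd 2097 = n2490 := ndS (p := 976) (l := 4) rfl N976 D2490
theorem N2098 : nd 2098 = n2492 := ndS (p := 978) (l := 1) rfl N978 D2492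
theorem N2099 : nd 2099 = n2493 := ndS (p := 978) (l := 2) rfl N978 D2493
theorem N2100 : nd 2100 = n2494 := ndS (p := 978) (l := 4) rfl N978 D2494
theorem N2101 : nd 2101 = n2498 := ndS (p := 980) (l := 4) rfl N980 D2498
theorem N2102 : nd 2102 = n2499 := ndS (p := 981) (l := 0) rfl N981 D2499
theorem N2103 : nd 2103 = n2500 := ndS (p := 981) (l := 1) rfl N981 D2500
theorem N2104 : nd 2104 = n2501 := ndS (p := 981) (l := 3) rfl N981 D2501
theorem N2105 : nd 2105 = n2502 := ndS (p := 981) (l := 4) rfl N981 D2502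
theorem N2106 : nd 2106 = n2503 := ndS (p := 982) (l := 0) rfl N982 D2503
theorem N2107 : nd 2107 = n2504 := ndS (p := 982) (l := 4) rfl N982 D2504
theorem N2108 : nd 2108 = n2505 := ndS (p := 983) (l := 2) rfl N983 D2505
theorem N2109 : nd 2109 = n2506 := ndS (p := 983) (l := 3) rfl N983 D2506
theorem N2110 : nd 2110 = n2507 := ndS (p := 984) (l := 0) rfl N984 D2507
theorem N2111 : nd 2111 = n2508 := ndS (p := 984) (l := 2) rfl N984 D2508
theorem N2112 : nd 2112 = n2509 := ndS (p := 984) (l := 3) rfl N984 D2509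
theorem N2113 : nd 2113 = n2510 := ndS (p := 984) (l := 4) rfl N984 D2510
theorem N2114 : nd 2114 = n2511 := ndS (p := 985) (l := 4) rfl N985 D2511
theorem N2115 : nd 2115 = n2512 := ndS (p := 986) (l := 3) rfl N986 D2512
theorem N2116 : nd 2116 = n2513 := ndS (p := 987) (l := 2) rfl N987 D2513
theorem N2117 : nd 2117 = n2514 := ndS (p := 988) (l := 1) rfl N988 D2514
theorem N2118 : nd 2118 = n2515 := ndS (p := 988) (l := 3) rfl N988 D2515
theorem N2119 : nd 2119 = n2516 := ndS (p := 988) (l := 4) rfl N988 D2516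
theorem N2120 : nd 2120 = n2517 := ndS (p := 989) (l := 4) rfl N989 D2517
theorem N2121 : nd 2121 = n2518 := ndS (p := 990) (l := 1) rfl N990 D2518
theorem N2122 : nd 2122 = n2519 := ndS (p := 990) (l := 3) rfl N990 D2519
theorem N2123 : nd 2123 = n2520 := ndS (p := 990) (l := 4) rfl N990 D2520
theorem N2124 : nd 2124 = n2521 := ndS (p := 991) (l := 0) rfl N991 D2521
theorem N2125 : nd 2125 = n2522 := ndS (p := 991) (l := 2) rfl N991 D2522
theorem N2126 : nd 2126 = n2523 := ndS (p := 991) (l := 3) rfl N991 D2523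
theorem N2127 : nd 2127 = n2524 := ndS (p := 991) (l := 4) rfl N991 D2524
theorem N2128 : nd 2128 = n2525 := ndS (p := 992) (l := 4) rfl N992 D2525
theorem N2129 : nd 2129 = n2527 := ndS (p := 995) (l := 2) rfl N995 D2527
theorem N2130 : nd 2130 = n2528 := ndS (p := 996) (l := 0) rfl N996 D2528
theorem N2131 : nd 2131 = n2529 := ndS (p := 996) (l := 3) rfl N996 D2529
theorem N2132 : nd 2132 = n2530 := ndS (p := 996) (l := 4) rfl N996 D2530
theorem N2133 : nd 2133 = n2531 := ndS (p := 997) (l := 0) rfl N997 D2531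
theorem N2134 : nd 2134 = n2532 := ndS (p := 997) (l := 4) rfl N997 D2532
theorem N2135 : nd 2135 = n2533 := ndS (p := 998) (l := 1) rfl N998 D2533
theorem N2136 : nd 2136 = n2534 := ndS (p := 998) (l := 3) rfl N998 D2534
theorem N2137 : nd 2137 = n2535 := ndS (p := 998) (l := 4) rfl N998 D2535
theorem N2138 : nd 2138 = n2537 := ndS (p := 1000) (l := 0) rfl N1000 D2537
theorem N2139 : nd 2139 = n2538 := ndS (p := 1000) (l := 2) rfl N1000 D2538
theorem N2140 : nd 2140 = n2539 := ndS (p := 1000) (l := 4) rfl N1000 D2539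
theorem N2141 : nd 2141 = n2540 := ndS (p := 1001) (l := 1) rfl N1001 D2540
theorem N2142 : nd 2142 = n2541 := ndS (p := 1001) (l := 4) rfl N1001 D2541
theorem N2143 : nd 2143 = n2542 := ndS (p := 1002) (l := 2) rfl N1002 D2542
theorem N2144 : nd 2144 = n2546 := ndS (p := 1003) (l := 0) rfl N1003 D2546
theorem N2145 : nd 2145 = n2547 := ndS (p := 1003) (l := 3) rfl N1003 D2547
theorem N2146 : nd 2146 = n2548 := ndS (p := 1003) (l := 4) rfl N1003 D2548
theorem N2147 : nd 2147 = n2549 := ndS (p := 1004) (l := 4) rfl N1004 D2549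
theorem N2148 : nd 2148 = n2550 := ndS (p := 1005) (l := 2) rfl N1005 D2550
theorem N2149 : nd 2149 = n2551 := ndS (p := 1005) (l := 3) rfl N1005 D2551
theorem N2150 : nd 2150 = n2552 := ndS (p := 1006) (l := 2) rfl N1006 D2552
theorem N2151 : nd 2151 = n2553 := ndS (p := 1006) (l := 4) rfl N1006 D2553
theorem N2152 : nd 2152 = n2554 := ndS (p := 1007) (l := 2) rfl N1007 D2554
theorem N2153 : nd 2153 = n2555 := ndS (p := 1009) (l := 0) rfl N1009 D2555
theorem N2154 : nd 2154 = n2556 := ndS (p := 1009) (l := 3) rfl N1009 D2556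
theorem N2155 : nd 2155 = n2557 := ndS (p := 1009) (l := 4) rfl N1009 D2557
theorem N2156 : nd 2156 = n2558 := ndS (p := 1010) (l := 4) rfl N1010 D2558
theorem N2157 : nd 2157 = n2559 := ndS (p := 1011) (l := 1) rfl N1011 D2559
theorem N2158 : nd 2158 = n2560 := ndS (p := 1011) (l := 2) rfl N1011 D2560
theorem N2159 : nd 2159 = n2561 := ndS (p := 1011) (l := 3) rfl N1011 D2561
theorem N2160 : nd 2160 = n2562 := ndS (p := 1011) (l := 4) rfl N1011 D2562
theorem N2161 : nd 2161 = n2563 := ndS (p := 1012) (l := 0) rfl N1012 D2563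
theorem N2162 : nd 2162 = n2564 := ndS (p := 1012) (l := 4) rfl N1012 D2564
theorem N2163 : nd 2163 = n2565 := ndS (p := 1013) (l := 0) rfl N1013 D2565
theorem N2164 : nd 2164 = n2566 := ndS (p := 1013) (l := 4) rfl N1013 D2566
theorem N2165 : nd 2165 = n2567 := ndS (p := 1014) (l := 2) rfl N1014 D2567
theorem N2166 : nd 2166 = n2568 := ndS (p := 1014) (l := 3) rfl N1014 D2568
theorem N2167 : nd 2167 = n2569 := ndS (p := 1016) (l := 4) rfl N1016 D2569
theorem N2168 : nd 2168 = n2570 := ndS (p := 1017) (l := 1) rfl N1017 D2570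
theorem N2169 : nd 2169 = n2571 := ndS (p := 1017) (l := 4) rfl N1017 D2571
theorem N2170 : nd 2170 = n2572 := ndS (p := 1018) (l := 1) rfl N1018 D2572
theorem N2171 : nd 2171 = n2573 := ndS (p := 1019) (l := 0) rfl N1019 D2573
theorem N2172 : nd 2172 = n2574 := ndS (p := 1019) (l := 2) rfl N1019 D2574
theorem N2173 : nd 2173 = n2575 := ndS (p := 1019) (l := 3) rfl N1019 D2575
theorem N2174 : nd 2174 = n2576 := ndS (p := 1019) (l := 4) rfl N1019 D2576
theorem N2175 : nd 2175 = n2577 := ndS (p := 1020) (l := 4) rfl N1020 D2577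
theorem N2176 : nd 2176 = n2579 := ndS (p := 1023) (l := 0) rfl N1023 D2579
theorem N2177 : nd 2177 = n2580 := ndS (p := 1023) (l := 2) rfl N1023 D2580
theorem N2178 : nd 2178 = n2581 := ndS (p := 1023) (l := 3) rfl N1023 D2581
theorem N2179 : nd 2179 = n2582 := ndS (p := 1023) (l := 4) rfl N1023 D2582
theorem N2180 : nd 2180 = n2583 := ndS (p := 1024) (l := 4) rfl N1024 D2583
theorem N2181 : nd 2181 = n2584 := ndS (p := 1025) (l := 3) rfl N1025 D2584
theorem N2182 : nd 2182 = n2585 := ndS (p := 1026) (l := 1) rfl N1026 D2585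
theorem N2183 : nd 2183 = n2586 := ndS (p := 1026) (l := 2) rfl N1026 D2586
theorem N2184 : nd 2184 = n2587 := ndS (p := 1026) (l := 3) rfl N1026 D2587
theorem N2185 : nd 2185 = n2588 := ndS (p := 1026) (l := 4) rfl N1026 D2588
theorem N2186 : nd 2186 = n2589 := ndS (p := 1027) (l := 0) rfl N1027 D2589
theorem N2187 : nd 2187 = n2590 := ndS (p := 1027) (l := 3) rfl N1027 D2590
theorem N2188 : nd 2188 = n2591 := ndS (p := 1027) (l := 4) rfl N1027 D2591
theorem N2189 : nd 2189 = n2592 := ndS (p := 1028) (l := 0) rfl N1028 D2592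
theorem N2190 : nd 2190 = n2593 := ndS (p := 1028) (l := 4) rfl N1028 D2593
theorem N2191 : nd 2191 = n2594 := ndS (p := 1029) (l := 2) rfl N1029 D2594
theorem N2192 : nd 2192 = n2595 := ndS (p := 1030) (l := 1) rfl N1030 D2595
theorem N2193 : nd 2193 = n2596 := ndS (p := 1030) (l := 4) rfl N1030 D2596
theorem N2194 : nd 2194 = n2601 := ndS (p := 1032) (l := 3) rfl N1032 D2601
theorem N2195 : nd 2195 = n2602 := ndS (p := 1032) (l := 4) rfl N1032 D2602
theorem N2196 : nd 2196 = n2603 := ndS (p := 1033) (l := 4) rfl N1033 D2603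
theorem N2197 : nd 2197 = n2604 := ndS (p := 1034) (l := 2) rfl N1034 D2604
theorem N2198 : nd 2198 = n2605 := ndS (p := 1034) (l := 3) rfl N1034 D2605
theorem N2199 : nd 2199 = n2607 := ndS (p := 1037) (l := 3) rfl N1037 D2607
theorem N2200 : nd 2200 = n2608 := ndS (p := 1038) (l := 0) rfl N1038 D2608
theorem N2201 : nd 2201 = n2609 := ndS (p := 1038) (l := 3) rfl N1038 D2609
theorem N2202 : nd 2202 = n2610 := ndS (p := 1038) (l := 4) rfl N1038 D2610
theorem N2203 : nd 2203 = n2611 := ndS (p := 1039) (l := 0) rfl N1039 D2611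
theorem N2204 : nd 2204 = n2612 := ndS (p := 1039) (l := 4) rfl N1039 D2612
theorem N2205 : nd 2205 = n2613 := ndS (p := 1040) (l := 2) rfl N1040 D2613
theorem N2206 : nd 2206 = n2614 := ndS (p := 1040) (l := 3) rfl N1040 D2614
theorem N2207 : nd 2207 = n2615 := ndS (p := 1041) (l := 2) rfl N1041 D2615
theorem N2208 : nd 2208 = n2616 := ndS (p := 1041) (l := 3) rfl N1041 D2616
theorem N2209 : nd 2209 = n2617 := ndS (p := 1041) (l := 4) rfl N1041 D2617
theorem N2210 : nd 2210 = n2618 := ndS (p := 1042) (l := 0) rfl N1042 D2618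
theorem N2211 : nd 2211 = n2619 := ndS (p := 1042) (l := 4) rfl N1042 D2619
theorem N2212 : nd 2212 = n2620 := ndS (p := 1043) (l := 2) rfl N1043 D2620
theorem N2213 : nd 2213 = n2622 := ndS (p := 1044) (l := 1) rfl N1044 D2622
theorem N2214 : nd 2214 = n2623 := ndS (p := 1044) (l := 2) rfl N1044 D2623
theorem N2215 : nd 2215 = n2624 := ndS (p := 1044) (l := 3) rfl N1044 D2624
theorem N2216 : nd 2216 = n2625 := ndS (p := 1044) (l := 4) rfl N1044 D2625
theorem N2217 : nd 2217 = n2626 := ndS (p := 1045) (l := 2) rfl N1045 D2626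
theorem N2218 : nd 2218 = n2627 := ndS (p := 1047) (l := 0) rfl N1047 D2627
theorem N2219 : nd 2219 = n2628 := ndS (p := 1047) (l := 2) rfl N1047 D2628
theorem N2220 : nd 2220 = n2629 := ndS (p := 1047) (l := 3) rfl N1047 D2629
theorem N2221 : nd 2221 = n2630 := ndS (p := 1047) (l := 4) rfl N1047 D2630
theorem N2222 : nd 2222 = n2631 := ndS (p := 1048) (l := 1) rfl N1048 D2631
theorem N2223 : nd 2223 = n2637 := ndS (p := 1051) (l := 2) rfl N1051 D2637
theorem N2224 : nd 2224 = n2638 := ndS (p := 1051) (l := 4) rfl N1051 D2638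
theorem N2225 : nd 2225 = n2639 := ndS (p := 1052) (l := 0) rfl N1052 D2639
theorem N2226 : nd 2226 = n2640 := ndS (p := 1052) (l := 4) rfl N1052 D2640
theorem N2227 : nd 2227 = n2641 := ndS (p := 1053) (l := 2) rfl N1053 D2641
theorem N2228 : nd 2228 = n2642 := ndS (p := 1054) (l := 0) rfl N1054 D2642
theorem N2229 : nd 2229 = n2643 := ndS (p := 1054) (l := 2) rfl N1054 D2643
theorem N2230 : nd 2230 = n2644 := ndS (p := 1054) (l := 4) rfl N1054 D2644
theorem N2231 : nd 2231 = n2646 := ndS (p := 1056) (l := 1) rfl N1056 D2646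
theorem N2232 : nd 2232 = n2655 := ndS (p := 1057) (l := 0) rfl N1057 D2655
theorem N2233 : nd 2233 = n2656 := ndS (p := 1057) (l := 4) rfl N1057 D2656
theorem N2234 : nd 2234 = n2657 := ndS (p := 1058) (l := 2) rfl N1058 D2657
theorem N2235 : nd 2235 = n2658 := ndS (p := 1058) (l := 3) rfl N1058 D2658
theorem N2236 : nd 2236 = n2659 := ndS (p := 1059) (l := 0) rfl N1059 D2659
theorem N2237 : nd 2237 = n2660 := ndS (p := 1059) (l := 4) rfl N1059 D2660
theorem N2238 : nd 2238 = n2661 := ndS (p := 1060) (l := 2) rfl N1060 D2661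
theorem N2239 : nd 2239 = n2662 := ndS (p := 1060) (l := 3) rfl N1060 D2662
theorem N2240 : nd 2240 = n2663 := ndS (p := 1061) (l := 2) rfl N1061 D2663
theorem N2241 : nd 2241 = n2664 := ndS (p := 1061) (l := 4) rfl N1061 D2664
theorem N2242 : nd 2242 = n2665 := ndS (p := 1062) (l := 2) rfl N1062 D2665
theorem N2243 : nd 2243 = n2666 := ndS (p := 1062) (l := 3) rfl N1062 D2666
theorem N2244 : nd 2244 = n2667 := ndS (p := 1063) (l := 0) rfl N1063 D2667
theorem N2245 : nd 2245 = n2668 := ndS (p := 1063) (l := 1) rfl N1063 D2668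
theorem N2246 : nd 2246 = n2669 := ndS (p := 1063) (l := 3) rfl N1063 D2669
theorem N2247 : nd 2247 = n2670 := ndS (p := 1063) (l := 4) rfl N1063 D2670
theorem N2248 : nd 2248 = n2671 := ndS (p := 1064) (l := 0) rfl N1064 D2671
theorem N2249 : nd 2249 = n2672 := ndS (p := 1064) (l := 4) rfl N1064 D2672
theorem N2250 : nd 2250 = n2673 := ndS (p := 1065) (l := 4) rfl N1065 D2673
theorem N2251 : nd 2251 = n2674 := ndS (p := 1066) (l := 2) rfl N1066 D2674
theorem N2252 : nd 2252 = n2675 := ndS (p := 1066) (l := 3) rfl N1066 D2675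
theorem N2253 : nd 2253 = n2676 := ndS (p := 1067) (l := 3) rfl N1067 D2676
theorem N2254 : nd 2254 = n2677 := ndS (p := 1067) (l := 4) rfl N1067 D2677
theorem N2255 : nd 2255 = n2678 := ndS (p := 1068) (l := 0) rfl N1068 D2678
theorem N2256 : nd 2256 = n2679 := ndS (p := 1068) (l := 4) rfl N1068 D2679
theorem N2257 : nd 2257 = n2680 := ndS (p := 1069) (l := 2) rfl N1069 D2680
theorem N2258 : nd 2258 = n2681 := ndS (p := 1069) (l := 3) rfl N1069 D2681
theorem N2259 : nd 2259 = n2682 := ndS (p := 1070) (l := 1) rfl N1070 D2682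
theorem N2260 : nd 2260 = n2683 := ndS (p := 1070) (l := 2) rfl N1070 D2683
theorem N2261 : nd 2261 = n2684 := ndS (p := 1070) (l := 3) rfl N1070 D2684
theorem N2262 : nd 2262 = n2685 := ndS (p := 1070) (l := 4) rfl N1070 D2685
theorem N2263 : nd 2263 = n2686 := ndS (p := 1071) (l := 2) rfl N1071 D2686
theorem N2264 : nd 2264 = n2687 := ndS (p := 1071) (l := 3) rfl N1071 D2687
theorem N2265 : nd 2265 = n2688 := ndS (p := 1072) (l := 3) rfl N1072 D2688
theorem N2266 : nd 2266 = n2689 := ndS (p := 1072) (l := 4) rfl N1072 D2689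
theorem N2267 : nd 2267 = n2690 := ndS (p := 1073) (l := 0) rfl N1073 D2690
theorem N2268 : nd 2268 = n2691 := ndS (p := 1073) (l := 4) rfl N1073 D2691
theorem N2269 : nd 2269 = n2692 := ndS (p := 1074) (l := 2) rfl N1074 D2692
theorem N2270 : nd 2270 = n2693 := ndS (p := 1074) (l := 3) rfl N1074 D2693
theorem N2271 : nd 2271 = n2694 := ndS (p := 1074) (l := 4) rfl N1074 D2694
theorem N2272 : nd 2272 = n2695 := ndS (p := 1075) (l := 1) rfl N1075 D2695
theorem N2273 : nd 2273 = n2696 := ndS (p := 1075) (l := 3) rfl N1075 D2696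
theorem N2274 : nd 2274 = n2697 := ndS (p := 1075) (l := 4) rfl N1075 D2697
theorem N2275 : nd 2275 = n2698 := ndS (p := 1076) (l := 4) rfl N1076 D2698
theorem N2276 : nd 2276 = n2699 := ndS (p := 1077) (l := 2) rfl N1077 D2699
theorem N2277 : nd 2277 = n2700 := ndS (p := 1077) (l := 3) rfl N1077 D2700
theorem N2278 : nd 2278 = n2701 := ndS (p := 1078) (l := 0) rfl N1078 D2701
theorem N2279 : nd 2279 = n2702 := ndS (p := 1078) (l := 1) rfl N1078 D2702
theorem N2280 : nd 2280 = n2703 := ndS (p := 1078) (l := 3) rfl N1078 D2703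
theorem N2281 : nd 2281 = n2704 := ndS (p := 1078) (l := 4) rfl N1078 D2704
theorem N2282 : nd 2282 = n2705 := ndS (p := 1079) (l := 4) rfl N1079 D2705
theorem N2283 : nd 2283 = n2706 := ndS (p := 1080) (l := 1) rfl N1080 D2706
theorem N2284 : nd 2284 = n2707 := ndS (p := 1080) (l := 3) rfl N1080 D2707
theorem N2285 : nd 2285 = n2708 := ndS (p := 1080) (l := 4) rfl N1080 D2708
theorem N2286 : nd 2286 = n2709 := ndS (p := 1081) (l := 0) rfl N1081 D2709
theorem N2287 : nd 2287 = n2710 := ndS (p := 1081) (l := 2) rfl N1081 D2710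
theorem N2288 : nd 2288 = n2711 := ndS (p := 1081) (l := 3) rfl N1081 D2711
theorem N2289 : nd 2289 = n2712 := ndS (p := 1081) (l := 4) rfl N1081 D2712
theorem N2290 : nd 2290 = n2713 := ndS (p := 1082) (l := 0) rfl N1082 D2713
theorem N2291 : nd 2291 = n2714 := ndS (p := 1082) (l := 4) rfl N1082 D2714
theorem N2292 : nd 2292 = n2716 := ndS (p := 1084) (l := 1) rfl N1084 D2716
theorem N2293 : nd 2293 = n2717 := ndS (p := 1084) (l := 2) rfl N1084 D2717
theorem N2294 : nd 2294 = n2718 := ndS (p := 1084) (l := 4) rfl N1084 D2718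
theorem N2295 : nd 2295 = n2720 := ndS (p := 1086) (l := 0) rfl N1086 D2720
theorem N2296 : nd 2296 = n2721 := ndS (p := 1086) (l := 4) rfl N1086 D2721
theorem N2297 : nd 2297 = n2722 := ndS (p := 1087) (l := 2) rfl N1087 D2722
theorem N2298 : nd 2298 = n2723 := ndS (p := 1087) (l := 3) rfl N1087 D2723
theorem N2299 : nd 2299 = n2724 := ndS (p := 1088) (l := 1) rfl N1088 D2724
theorem N2300 : nd 2300 = n2725 := ndS (p := 1088) (l := 2) rfl N1088 D2725
theorem N2301 : nd 2301 = n2726 := ndS (p := 1088) (l := 3) rfl N1088 D2726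
theorem N2302 : nd 2302 = n2727 := ndS (p := 1088) (l := 4) rfl N1088 D2727
theorem N2303 : nd 2303 = n2728 := ndS (p := 1089) (l := 2) rfl N1089 D2728
theorem N2304 : nd 2304 = n2729 := ndS (p := 1089) (l := 3) rfl N1089 D2729
theorem N2305 : nd 2305 = n2730 := ndS (p := 1090) (l := 1) rfl N1090 D2730
theorem N2306 : nd 2306 = n2731 := ndS (p := 1090) (l := 3) rfl N1090 D2731
theorem N2307 : nd 2307 = n2732 := ndS (p := 1090) (l := 4) rfl N1090 D2732
theorem N2308 : nd 2308 = n2733 := ndS (p := 1091) (l := 0) rfl N1091 D2733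
theorem N2309 : nd 2309 = n2734 := ndS (p := 1091) (l := 4) rfl N1091 D2734
theorem N2310 : nd 2310 = n2735 := ndS (p := 1092) (l := 4) rfl N1092 D2735
theorem N2311 : nd 2311 = n2736 := ndS (p := 1094) (l := 0) rfl N1094 D2736
theorem N2312 : nd 2312 = n2737 := ndS (p := 1094) (l := 2) rfl N1094 D2737
theorem N2313 : nd 2313 = n2738 := ndS (p := 1094) (l := 3) rfl N1094 D2738
theorem N2314 : nd 2314 = n2739 := ndS (p := 1094) (l := 4) rfl N1094 D2739
theorem N2315 : nd 2315 = n2740 := ndS (p := 1095) (l := 4) rfl N1095 D2740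
theorem N2316 : nd 2316 = n2742 := ndS (p := 1098) (l := 2) rfl N1098 D2742
theorem N2317 : nd 2317 = n2743 := ndS (p := 1098) (l := 3) rfl N1098 D2743
theorem N2318 : nd 2318 = n2745 := ndS (p := 1099) (l := 3) rfl N1099 D2745
theorem N2319 : nd 2319 = n2747 := ndS (p := 1100) (l := 0) rfl N1100 D2747
theorem N2320 : nd 2320 = n2748 := ndS (p := 1100) (l := 4) rfl N1100 D2748
theorem N2321 : nd 2321 = n2749 := ndS (p := 1101) (l := 2) rfl N1101 D2749
theorem N2322 : nd 2322 = n2751 := ndS (p := 1103) (l := 0) rfl N1103 D2751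
theorem N2323 : nd 2323 = n2752 := ndS (p := 1103) (l := 2) rfl N1103 D2752
theorem N2324 : nd 2324 = n2756 := ndS (p := 1104) (l := 1) rfl N1104 D2756
theorem N2325 : nd 2325 = n2757 := ndS (p := 1104) (l := 3) rfl N1104 D2757
theorem N2326 : nd 2326 = n2758 := ndS (p := 1104) (l := 4) rfl N1104 D2758
theorem N2327 : nd 2327 = n2759 := ndS (p := 1105) (l := 2) rfl N1105 D2759
theorem N2328 : nd 2328 = n2760 := ndS (p := 1105) (l := 3) rfl N1105 D2760
theorem N2329 : nd 2329 = n2761 := ndS (p := 1106) (l := 0) rfl N1106 D2761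
theorem N2330 : nd 2330 = n2762 := ndS (p := 1106) (l := 3) rfl N1106 D2762
theorem N2331 : nd 2331 = n2763 := ndS (p := 1107) (l := 0) rfl N1107 D2763
theorem N2332 : nd 2332 = n2764 := ndS (p := 1107) (l := 4) rfl N1107 D2764
theorem N2333 : nd 2333 = n2765 := ndS (p := 1108) (l := 4) rfl N1108 D2765
theorem N2334 : nd 2334 = n2766 := ndS (p := 1109) (l := 2) rfl N1109 D2766
theorem N2335 : nd 2335 = n2767 := ndS (p := 1109) (l := 3) rfl N1109 D2767
theorem N2336 : nd 2336 = n2768 := ndS (p := 1110) (l := 0) rfl N1110 D2768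
theorem N2337 : nd 2337 = n2769 := ndS (p := 1110) (l := 4) rfl N1110 D2769
theorem N2338 : nd 2338 = n2770 := ndS (p := 1111) (l := 2) rfl N1111 D2770
theorem N2339 : nd 2339 = n2771 := ndS (p := 1111) (l := 3) rfl N1111 D2771
theorem N2340 : nd 2340 = n2772 := ndS (p := 1112) (l := 4) rfl N1112 D2772
theorem N2341 : nd 2341 = n2773 := ndS (p := 1113) (l := 2) rfl N1113 D2773
theorem N2342 : nd 2342 = n2774 := ndS (p := 1113) (l := 3) rfl N1113 D2774
theorem N2343 : nd 2343 = n2775 := ndS (p := 1114) (l := 1) rfl N1114 D2775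
theorem N2344 : nd 2344 = n2776 := ndS (p := 1114) (l := 3) rfl N1114 D2776
theorem N2345 : nd 2345 = n2777 := ndS (p := 1114) (l := 4) rfl N1114 D2777
theorem N2346 : nd 2346 = n2778 := ndS (p := 1115) (l := 0) rfl N1115 D2778
theorem N2347 : nd 2347 = n2779 := ndS (p := 1115) (l := 4) rfl N1115 D2779
theorem N2348 : nd 2348 = n2780 := ndS (p := 1116) (l := 4) rfl N1116 D2780
theorem N2349 : nd 2349 = n2781 := ndS (p := 1117) (l := 2) rfl N1117 D2781
theorem N2350 : nd 2350 = n2782 := ndS (p := 1117) (l := 3) rfl N1117 D2782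
theorem N2351 : nd 2351 = n2783 := ndS (p := 1118) (l := 0) rfl N1118 D2783
theorem N2352 : nd 2352 = n2784 := ndS (p := 1118) (l := 1) rfl N1118 D2784
theorem N2353 : nd 2353 = n2785 := ndS (p := 1118) (l := 3) rfl N1118 D2785
theorem N2354 : nd 2354 = n2786 := ndS (p := 1118) (l := 4) rfl N1118 D2786
theorem N2355 : nd 2355 = n2787 := ndS (p := 1119) (l := 4) rfl N1119 D2787
theorem N2356 : nd 2356 = n2788 := ndS (p := 1120) (l := 1) rfl N1120 D2788
theorem N2357 : nd 2357 = n2789 := ndS (p := 1120) (l := 3) rfl N1120 D2789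
theorem N2358 : nd 2358 = n2790 := ndS (p := 1120) (l := 4) rfl N1120 D2790
theorem N2359 : nd 2359 = n2791 := ndS (p := 1121) (l := 0) rfl N1121 D2791
theorem N2360 : nd 2360 = n2792 := ndS (p := 1121) (l := 2) rfl N1121 D2792
theorem N2361 : nd 2361 = n2793 := ndS (p := 1121) (l := 3) rfl N1121 D2793
theorem N2362 : nd 2362 = n2794 := ndS (p := 1121) (l := 4) rfl N1121 D2794
theorem N2363 : nd 2363 = n2795 := ndS (p := 1122) (l := 0) rfl N1122 D2795
theorem N2364 : nd 2364 = n2796 := ndS (p := 1122) (l := 4) rfl N1122 D2796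
theorem N2365 : nd 2365 = n2798 := ndS (p := 1124) (l := 2) rfl N1124 D2798
theorem N2366 : nd 2366 = n2799 := ndS (p := 1124) (l := 4) rfl N1124 D2799
theorem N2367 : nd 2367 = n2801 := ndS (p := 1126) (l := 4) rfl N1126 D2801
theorem N2368 : nd 2368 = n2802 := ndS (p := 1127) (l := 3) rfl N1127 D2802
theorem N2369 : nd 2369 = n2803 := ndS (p := 1128) (l := 2) rfl N1128 D2803
theorem N2370 : nd 2370 = n2804 := ndS (p := 1128) (l := 3) rfl N1128 D2804
theorem N2371 : nd 2371 = n2805 := ndS (p := 1129) (l := 1) rfl N1129 D2805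
theorem N2372 : nd 2372 = n2806 := ndS (p := 1129) (l := 3) rfl N1129 D2806
theorem N2373 : nd 2373 = n2807 := ndS (p := 1129) (l := 4) rfl N1129 D2807
theorem N2374 : nd 2374 = n2808 := ndS (p := 1130) (l := 0) rfl N1130 D2808
theorem N2375 : nd 2375 = n2809 := ndS (p := 1130) (l := 4) rfl N1130 D2809
theorem N2376 : nd 2376 = n2810 := ndS (p := 1131) (l := 2) rfl N1131 D2810
theorem N2377 : nd 2377 = n2811 := ndS (p := 1131) (l := 4) rfl N1131 D2811
theorem N2378 : nd 2378 = n2812 := ndS (p := 1132) (l := 1) rfl N1132 D2812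
theorem N2379 : nd 2379 = n2813 := ndS (p := 1132) (l := 4) rfl N1132 D2813
theorem N2380 : nd 2380 = n2814 := ndS (p := 1133) (l := 4) rfl N1133 D2814
theorem N2381 : nd 2381 = n2815 := ndS (p := 1134) (l := 2) rfl N1134 D2815
theorem N2382 : nd 2382 = n2816 := ndS (p := 1134) (l := 3) rfl N1134 D2816
theorem N2383 : nd 2383 = n2817 := ndS (p := 1135) (l := 0) rfl N1135 D2817
theorem N2384 : nd 2384 = n2818 := ndS (p := 1135) (l := 1) rfl N1135 D2818
theorem N2385 : nd 2385 = n2819 := ndS (p := 1135) (l := 3) rfl N1135 D2819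
theorem N2386 : nd 2386 = n2820 := ndS (p := 1135) (l := 4) rfl N1135 D2820
theorem N2387 : nd 2387 = n2821 := ndS (p := 1136) (l := 4) rfl N1136 D2821
theorem N2388 : nd 2388 = n2822 := ndS (p := 1137) (l := 0) rfl N1137 D2822
theorem N2389 : nd 2389 = n2823 := ndS (p := 1137) (l := 2) rfl N1137 D2823
theorem N2390 : nd 2390 = n2824 := ndS (p := 1137) (l := 3) rfl N1137 D2824
theorem N2391 : nd 2391 = n2825 := ndS (p := 1138) (l := 0) rfl N1138 D2825
theorem N2392 : nd 2392 = n2826 := ndS (p := 1138) (l := 4) rfl N1138 D2826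
theorem N2393 : nd 2393 = n2828 := ndS (p := 1140) (l := 1) rfl N1140 D2828
theorem N2394 : nd 2394 = n2829 := ndS (p := 1140) (l := 2) rfl N1140 D2829
theorem N2395 : nd 2395 = n2830 := ndS (p := 1140) (l := 4) rfl N1140 D2830
theorem N2396 : nd 2396 = n2832 := ndS (p := 1142) (l := 3) rfl N1142 D2832
theorem N2397 : nd 2397 = n2833 := ndS (p := 1142) (l := 4) rfl N1142 D2833
theorem N2398 : nd 2398 = n2834 := ndS (p := 1143) (l := 4) rfl N1143 D2834
theorem N2399 : nd 2399 = n2835 := ndS (p := 1144) (l := 2) rfl N1144 D2835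
theorem N2400 : nd 2400 = n2836 := ndS (p := 1144) (l := 3) rfl N1144 D2836
theorem N2401 : nd 2401 = n2837 := ndS (p := 1145) (l := 0) rfl N1145 D2837
theorem N2402 : nd 2402 = n2838 := ndS (p := 1145) (l := 2) rfl N1145 D2838
theorem N2403 : nd 2403 = n2839 := ndS (p := 1145) (l := 4) rfl N1145 D2839
theorem N2404 : nd 2404 = n2840 := ndS (p := 1146) (l := 4) rfl N1146 D2840
theorem N2405 : nd 2405 = n2841 := ndS (p := 1147) (l := 3) rfl N1147 D2841
theorem N2406 : nd 2406 = n2842 := ndS (p := 1148) (l := 2) rfl N1148 D2842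
theorem N2407 : nd 2407 = n2843 := ndS (p := 1149) (l := 0) rfl N1149 D2843
theorem N2408 : nd 2408 = n2844 := ndS (p := 1149) (l := 1) rfl N1149 D2844
theorem N2409 : nd 2409 = n2845 := ndS (p := 1149) (l := 3) rfl N1149 D2845
theorem N2410 : nd 2410 = n2846 := ndS (p := 1149) (l := 4) rfl N1149 D2846
theorem N2411 : nd 2411 = n2847 := ndS (p := 1150) (l := 4) rfl N1150 D2847
theorem N2412 : nd 2412 = n2848 := ndS (p := 1151) (l := 1) rfl N1151 D2848
theorem N2413 : nd 2413 = n2849 := ndS (p := 1151) (l := 3) rfl N1151 D2849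
theorem N2414 : nd 2414 = n2850 := ndS (p := 1151) (l := 4) rfl N1151 D2850
theorem N2415 : nd 2415 = n2851 := ndS (p := 1152) (l := 0) rfl N1152 D2851
theorem N2416 : nd 2416 = n2852 := ndS (p := 1152) (l := 2) rfl N1152 D2852
theorem N2417 : nd 2417 = n2853 := ndS (p := 1152) (l := 3) rfl N1152 D2853
theorem N2418 : nd 2418 = n2855 := ndS (p := 1153) (l := 0) rfl N1153 D2855
theorem N2419 : nd 2419 = n2856 := ndS (p := 1153) (l := 4) rfl N1153 D2856
theorem N2420 : nd 2420 = n2859 := ndS (p := 1156) (l := 2) rfl N1156 D2859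
theorem N2421 : nd 2421 = n2860 := ndS (p := 1156) (l := 3) rfl N1156 D2860
theorem N2422 : nd 2422 = n2861 := ndS (p := 1156) (l := 4) rfl N1156 D2861
theorem N2423 : nd 2423 = n2862 := ndS (p := 1157) (l := 4) rfl N1157 D2862
theorem N2424 : nd 2424 = n2863 := ndS (p := 1158) (l := 3) rfl N1158 D2863
theorem N2425 : nd 2425 = n2864 := ndS (p := 1159) (l := 1) rfl N1159 D2864
theorem N2426 : nd 2426 = n2865 := ndS (p := 1159) (l := 2) rfl N1159 D2865
theorem N2427 : nd 2427 = n2866 := ndS (p := 1159) (l := 3) rfl N1159 D2866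
theorem N2428 : nd 2428 = n2867 := ndS (p := 1160) (l := 0) rfl N1160 D2867
theorem N2429 : nd 2429 = n2868 := ndS (p := 1160) (l := 3) rfl N1160 D2868
theorem N2430 : nd 2430 = n2869 := ndS (p := 1161) (l := 0) rfl N1161 D2869
theorem N2431 : nd 2431 = n2871 := ndS (p := 1162) (l := 1) rfl N1162 D2871
theorem N2432 : nd 2432 = n2872 := ndS (p := 1162) (l := 2) rfl N1162 D2872
theorem N2433 : nd 2433 = n2873 := ndS (p := 1162) (l := 3) rfl N1162 D2873
theorem N2434 : nd 2434 = n2874 := ndS (p := 1162) (l := 4) rfl N1162 D2874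
theorem N2435 : nd 2435 = n2879 := ndS (p := 1164) (l := 0) rfl N1164 D2879
theorem N2436 : nd 2436 = n2880 := ndS (p := 1164) (l := 2) rfl N1164 D2880
theorem N2437 : nd 2437 = n2881 := ndS (p := 1164) (l := 4) rfl N1164 D2881
theorem N2438 : nd 2438 = n2882 := ndS (p := 1165) (l := 1) rfl N1165 D2882
theorem N2439 : nd 2439 = n2883 := ndS (p := 1165) (l := 4) rfl N1165 D2883
theorem N2440 : nd 2440 = n2884 := ndS (p := 1166) (l := 2) rfl N1166 D2884
theorem N2441 : nd 2441 = n2888 := ndS (p := 1167) (l := 0) rfl N1167 D2888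
theorem N2442 : nd 2442 = n2889 := ndS (p := 1167) (l := 4) rfl N1167 D2889
theorem N2443 : nd 2443 = n2890 := ndS (p := 1168) (l := 0) rfl N1168 D2890
theorem N2444 : nd 2444 = n2891 := ndS (p := 1168) (l := 4) rfl N1168 D2891
theorem N2445 : nd 2445 = n2892 := ndS (p := 1169) (l := 2) rfl N1169 D2892
theorem N2446 : nd 2446 = n2893 := ndS (p := 1169) (l := 3) rfl N1169 D2893
theorem N2447 : nd 2447 = n2894 := ndS (p := 1170) (l := 4) rfl N1170 D2894
theorem N2448 : nd 2448 = n2895 := ndS (p := 1171) (l := 0) rfl N1171 D2895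
theorem N2449 : nd 2449 = n2896 := ndS (p := 1171) (l := 2) rfl N1171 D2896
theorem N2450 : nd 2450 = n2897 := ndS (p := 1171) (l := 3) rfl N1171 D2897
theorem N2451 : nd 2451 = n2898 := ndS (p := 1171) (l := 4) rfl N1171 D2898
theorem N2452 : nd 2452 = n2899 := ndS (p := 1172) (l := 0) rfl N1172 D2899
theorem N2453 : nd 2453 = n2900 := ndS (p := 1172) (l := 4) rfl N1172 D2900
theorem N2454 : nd 2454 = n2901 := ndS (p := 1173) (l := 2) rfl N1173 D2901
theorem N2455 : nd 2455 = n2902 := ndS (p := 1173) (l := 3) rfl N1173 D2902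
theorem N2456 : nd 2456 = n2903 := ndS (p := 1174) (l := 2) rfl N1174 D2903
theorem N2457 : nd 2457 = n2904 := ndS (p := 1174) (l := 4) rfl N1174 D2904
theorem N2458 : nd 2458 = n2905 := ndS (p := 1175) (l := 2) rfl N1175 D2905
theorem N2459 : nd 2459 = n2906 := ndS (p := 1176) (l := 0) rfl N1176 D2906
theorem N2460 : nd 2460 = n2907 := ndS (p := 1176) (l := 1) rfl N1176 D2907
theorem N2461 : nd 2461 = n2908 := ndS (p := 1176) (l := 3) rfl N1176 D2908
theorem N2462 : nd 2462 = n2909 := ndS (p := 1176) (l := 4) rfl N1176 D2909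
theorem N2463 : nd 2463 = n2910 := ndS (p := 1177) (l := 0) rfl N1177 D2910
theorem N2464 : nd 2464 = n2911 := ndS (p := 1177) (l := 4) rfl N1177 D2911
theorem N2465 : nd 2465 = n2912 := ndS (p := 1178) (l := 2) rfl N1178 D2912
theorem N2466 : nd 2466 = n2913 := ndS (p := 1178) (l := 3) rfl N1178 D2913
theorem N2467 : nd 2467 = n2914 := ndS (p := 1178) (l := 4) rfl N1178 D2914
theorem N2468 : nd 2468 = n2915 := ndS (p := 1179) (l := 3) rfl N1179 D2915
theorem N2469 : nd 2469 = n2916 := ndS (p := 1179) (l := 4) rfl N1179 D2916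
theorem N2470 : nd 2470 = n2917 := ndS (p := 1180) (l := 4) rfl N1180 D2917
theorem N2471 : nd 2471 = n2918 := ndS (p := 1181) (l := 2) rfl N1181 D2918
theorem N2472 : nd 2472 = n2919 := ndS (p := 1181) (l := 3) rfl N1181 D2919
theorem N2473 : nd 2473 = n2920 := ndS (p := 1183) (l := 4) rfl N1183 D2920
theorem N2474 : nd 2474 = n2921 := ndS (p := 1184) (l := 1) rfl N1184 D2921
theorem N2475 : nd 2475 = n2922 := ndS (p := 1184) (l := 4) rfl N1184 D2922
theorem N2476 : nd 2476 = n2923 := ndS (p := 1185) (l := 0) rfl N1185 D2923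
theorem N2477 : nd 2477 = n2924 := ndS (p := 1185) (l := 2) rfl N1185 D2924
theorem N2478 : nd 2478 = n2925 := ndS (p := 1185) (l := 3) rfl N1185 D2925
theorem N2479 : nd 2479 = n2926 := ndS (p := 1185) (l := 4) rfl N1185 D2926
theorem N2480 : nd 2480 = n2927 := ndS (p := 1186) (l := 4) rfl N1186 D2927
theorem N2481 : nd 2481 = n2929 := ndS (p := 1189) (l := 0) rfl N1189 D2929
theorem N2482 : nd 2482 = n2930 := ndS (p := 1189) (l := 2) rfl N1189 D2930
theorem N2483 : nd 2483 = n2931 := ndS (p := 1189) (l := 3) rfl N1189 D2931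
theorem N2484 : nd 2484 = n2932 := ndS (p := 1189) (l := 4) rfl N1189 D2932
theorem N2485 : nd 2485 = n2933 := ndS (p := 1190) (l := 4) rfl N1190 D2933
theorem N2486 : nd 2486 = n2934 := ndS (p := 1191) (l := 3) rfl N1191 D2934
theorem N2487 : nd 2487 = n2935 := ndS (p := 1192) (l := 2) rfl N1192 D2935
theorem N2488 : nd 2488 = n2936 := ndS (p := 1192) (l := 3) rfl N1192 D2936
theorem N2489 : nd 2489 = n2937 := ndS (p := 1193) (l := 0) rfl N1193 D2937
theorem N2490 : nd 2490 = n2938 := ndS (p := 1193) (l := 3) rfl N1193 D2938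
theorem N2491 : nd 2491 = n2939 := ndS (p := 1193) (l := 4) rfl N1193 D2939
theorem N2492 : nd 2492 = n2940 := ndS (p := 1194) (l := 0) rfl N1194 D2940
theorem N2493 : nd 2493 = n2941 := ndS (p := 1195) (l := 2) rfl N1195 D2941
theorem N2494 : nd 2494 = n2945 := ndS (p := 1198) (l := 2) rfl N1198 D2945
theorem N2495 : nd 2495 = n2946 := ndS (p := 1198) (l := 3) rfl N1198 D2946
theorem N2496 : nd 2496 = n2947 := ndS (p := 1198) (l := 4) rfl N1198 D2947
theorem N2497 : nd 2497 = n2948 := ndS (p := 1199) (l := 0) rfl N1199 D2948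
theorem N2498 : nd 2498 = n2949 := ndS (p := 1199) (l := 4) rfl N1199 D2949
theorem N2499 : nd 2499 = n2950 := ndS (p := 1200) (l := 2) rfl N1200 D2950
theorem N2500 : nd 2500 = n2953 := ndS (p := 1201) (l := 2) rfl N1201 D2953
theorem N2501 : nd 2501 = n2954 := ndS (p := 1201) (l := 3) rfl N1201 D2954
theorem N2502 : nd 2502 = n2955 := ndS (p := 1201) (l := 4) rfl N1201 D2955
theorem N2503 : nd 2503 = n2956 := ndS (p := 1202) (l := 2) rfl N1202 D2956
theorem N2504 : nd 2504 = n2957 := ndS (p := 1203) (l := 0) rfl N1203 D2957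
theorem N2505 : nd 2505 = n2958 := ndS (p := 1203) (l := 2) rfl N1203 D2958
theorem N2506 : nd 2506 = n2959 := ndS (p := 1203) (l := 3) rfl N1203 D2959
theorem N2507 : nd 2507 = n2960 := ndS (p := 1203) (l := 4) rfl N1203 D2960
theorem N2508 : nd 2508 = n2965 := ndS (p := 1206) (l := 2) rfl N1206 D2965
theorem N2509 : nd 2509 = n2966 := ndS (p := 1206) (l := 4) rfl N1206 D2966
theorem N2510 : nd 2510 = n2967 := ndS (p := 1207) (l := 0) rfl N1207 D2967
theorem N2511 : nd 2511 = n2968 := ndS (p := 1207) (l := 1) rfl N1207 D2968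
theorem N2512 : nd 2512 = n2969 := ndS (p := 1207) (l := 4) rfl N1207 D2969
theorem N2513 : nd 2513 = n2970 := ndS (p := 1208) (l := 2) rfl N1208 D2970
theorem N2514 : nd 2514 = n2971 := ndS (p := 1209) (l := 0) rfl N1209 D2971
theorem N2515 : nd 2515 = n2972 := ndS (p := 1209) (l := 2) rfl N1209 D2972
theorem N2516 : nd 2516 = n2973 := ndS (p := 1209) (l := 4) rfl N1209 D2973
theorem N2517 : nd 2517 = n2974 := ndS (p := 1211) (l := 1) rfl N1211 D2974
theorem N2518 : nd 2518 = n2983 := ndS (p := 1212) (l := 4) rfl N1212 D2983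
theorem N2519 : nd 2519 = n2984 := ndS (p := 1213) (l := 0) rfl N1213 D2984
theorem N2520 : nd 2520 = n2985 := ndS (p := 1213) (l := 3) rfl N1213 D2985
theorem N2521 : nd 2521 = n2986 := ndS (p := 1213) (l := 4) rfl N1213 D2986
theorem N2522 : nd 2522 = n2987 := ndS (p := 1214) (l := 4) rfl N1214 D2987
theorem N2523 : nd 2523 = n2988 := ndS (p := 1215) (l := 2) rfl N1215 D2988
theorem N2524 : nd 2524 = n2989 := ndS (p := 1215) (l := 3) rfl N1215 D2989
theorem N2525 : nd 2525 = n2990 := ndS (p := 1216) (l := 2) rfl N1216 D2990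
theorem N2526 : nd 2526 = n2991 := ndS (p := 1217) (l := 0) rfl N1217 D2991
theorem N2527 : nd 2527 = n2992 := ndS (p := 1217) (l := 1) rfl N1217 D2992
theorem N2528 : nd 2528 = n2993 := ndS (p := 1217) (l := 3) rfl N1217 D2993
theorem N2529 : nd 2529 = n2994 := ndS (p := 1217) (l := 4) rfl N1217 D2994
theorem N2530 : nd 2530 = n2995 := ndS (p := 1218) (l := 4) rfl N1218 D2995
theorem N2531 : nd 2531 = n2996 := ndS (p := 1219) (l := 2) rfl N1219 D2996
theorem N2532 : nd 2532 = n2997 := ndS (p := 1219) (l := 4) rfl N1219 D2997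
theorem N2533 : nd 2533 = n2998 := ndS (p := 1220) (l := 3) rfl N1220 D2998
theorem N2534 : nd 2534 = n2999 := ndS (p := 1220) (l := 4) rfl N1220 D2999
theorem N2535 : nd 2535 = n3000 := ndS (p := 1221) (l := 4) rfl N1221 D3000
theorem N2536 : nd 2536 = n3001 := ndS (p := 1222) (l := 2) rfl N1222 D3001
theorem N2537 : nd 2537 = n3002 := ndS (p := 1222) (l := 3) rfl N1222 D3002
theorem N2538 : nd 2538 = n3003 := ndS (p := 1223) (l := 2) rfl N1223 D3003
theorem N2539 : nd 2539 = n3004 := ndS (p := 1223) (l := 4) rfl N1223 D3004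
theorem N2540 : nd 2540 = n3005 := ndS (p := 1224) (l := 4) rfl N1224 D3005
theorem N2541 : nd 2541 = n3006 := ndS (p := 1225) (l := 4) rfl N1225 D3006
theorem N2542 : nd 2542 = n3007 := ndS (p := 1226) (l := 2) rfl N1226 D3007
theorem N2543 : nd 2543 = n3008 := ndS (p := 1226) (l := 3) rfl N1226 D3008
theorem N2544 : nd 2544 = n3009 := ndS (p := 1227) (l := 1) rfl N1227 D3009
theorem N2545 : nd 2545 = n3010 := ndS (p := 1227) (l := 2) rfl N1227 D3010
theorem N2546 : nd 2546 = n3011 := ndS (p := 1227) (l := 4) rfl N1227 D3011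
theorem N2547 : nd 2547 = n3012 := ndS (p := 1228) (l := 2) rfl N1228 D3012
theorem N2548 : nd 2548 = n3013 := ndS (p := 1228) (l := 3) rfl N1228 D3013
theorem N2549 : nd 2549 = n3014 := ndS (p := 1229) (l := 3) rfl N1229 D3014
theorem N2550 : nd 2550 = n3015 := ndS (p := 1230) (l := 0) rfl N1230 D3015
theorem N2551 : nd 2551 = n3016 := ndS (p := 1230) (l := 4) rfl N1230 D3016
theorem N2552 : nd 2552 = n3017 := ndS (p := 1231) (l := 0) rfl N1231 D3017
theorem N2553 : nd 2553 = n3018 := ndS (p := 1231) (l := 1) rfl N1231 D3018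
theorem N2554 : nd 2554 = n3019 := ndS (p := 1231) (l := 4) rfl N1231 D3019
theorem N2555 : nd 2555 = n3020 := ndS (p := 1232) (l := 1) rfl N1232 D3020
theorem N2556 : nd 2556 = n3021 := ndS (p := 1232) (l := 3) rfl N1232 D3021
theorem N2557 : nd 2557 = n3022 := ndS (p := 1232) (l := 4) rfl N1232 D3022
theorem N2558 : nd 2558 = n3023 := ndS (p := 1233) (l := 0) rfl N1233 D3023
theorem N2559 : nd 2559 = n3024 := ndS (p := 1233) (l := 2) rfl N1233 D3024
theorem N2560 : nd 2560 = n3025 := ndS (p := 1233) (l := 3) rfl N1233 D3025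
theorem N2561 : nd 2561 = n3026 := ndS (p := 1233) (l := 4) rfl N1233 D3026
theorem N2562 : nd 2562 = n3027 := ndS (p := 1234) (l := 0) rfl N1234 D3027
theorem N2563 : nd 2563 = n3028 := ndS (p := 1234) (l := 4) rfl N1234 D3028
theorem N2564 : nd 2564 = n3031 := ndS (p := 1237) (l := 2) rfl N1237 D3031
theorem N2565 : nd 2565 = n3032 := ndS (p := 1237) (l := 4) rfl N1237 D3032
theorem N2566 : nd 2566 = n3033 := ndS (p := 1238) (l := 0) rfl N1238 D3033
theorem N2567 : nd 2567 = n3034 := ndS (p := 1238) (l := 1) rfl N1238 D3034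
theorem N2568 : nd 2568 = n3035 := ndS (p := 1238) (l := 3) rfl N1238 D3035
theorem N2569 : nd 2569 = n3036 := ndS (p := 1238) (l := 4) rfl N1238 D3036
theorem N2570 : nd 2570 = n3037 := ndS (p := 1239) (l := 4) rfl N1239 D3037
theorem N2571 : nd 2571 = n3038 := ndS (p := 1240) (l := 2) rfl N1240 D3038
theorem N2572 : nd 2572 = n3039 := ndS (p := 1240) (l := 3) rfl N1240 D3039
theorem N2573 : nd 2573 = n3040 := ndS (p := 1241) (l := 4) rfl N1241 D3040
theorem N2574 : nd 2574 = n3041 := ndS (p := 1242) (l := 0) rfl N1242 D3041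
theorem N2575 : nd 2575 = n3042 := ndS (p := 1242) (l := 4) rfl N1242 D3042
theorem N2576 : nd 2576 = n3043 := ndS (p := 1243) (l := 2) rfl N1243 D3043
theorem N2577 : nd 2577 = n3044 := ndS (p := 1243) (l := 3) rfl N1243 D3044
theorem N2578 : nd 2578 = n3045 := ndS (p := 1244) (l := 1) rfl N1244 D3045
theorem N2579 : nd 2579 = n3046 := ndS (p := 1244) (l := 2) rfl N1244 D3046
theorem N2580 : nd 2580 = n3047 := ndS (p := 1244) (l := 3) rfl N1244 D3047
theorem N2581 : nd 2581 = n3048 := ndS (p := 1244) (l := 4) rfl N1244 D3048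
theorem N2582 : nd 2582 = n3049 := ndS (p := 1245) (l := 2) rfl N1245 D3049
theorem N2583 : nd 2583 = n3050 := ndS (p := 1246) (l := 0) rfl N1246 D3050
theorem N2584 : nd 2584 = n3051 := ndS (p := 1246) (l := 1) rfl N1246 D3051
theorem N2585 : nd 2585 = n3052 := ndS (p := 1246) (l := 3) rfl N1246 D3052
theorem N2586 : nd 2586 = n3053 := ndS (p := 1246) (l := 4) rfl N1246 D3053
theorem N2587 : nd 2587 = n3054 := ndS (p := 1247) (l := 0) rfl N1247 D3054
theorem N2588 : nd 2588 = n3055 := ndS (p := 1247) (l := 4) rfl N1247 D3055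
theorem N2589 : nd 2589 = n3056 := ndS (p := 1249) (l := 0) rfl N1249 D3056
theorem N2590 : nd 2590 = n3057 := ndS (p := 1249) (l := 2) rfl N1249 D3057
theorem N2591 : nd 2591 = n3058 := ndS (p := 1249) (l := 4) rfl N1249 D3058
theorem N2592 : nd 2592 = n3059 := ndS (p := 1251) (l := 0) rfl N1251 D3059
theorem N2593 : nd 2593 = n3060 := ndS (p := 1251) (l := 2) rfl N1251 D3060
theorem N2594 : nd 2594 = n3061 := ndS (p := 1252) (l := 1) rfl N1252 D3061
theorem N2595 : nd 2595 = n3062 := ndS (p := 1252) (l := 2) rfl N1252 D3062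
theorem N2596 : nd 2596 = n3063 := ndS (p := 1252) (l := 3) rfl N1252 D3063
theorem N2597 : nd 2597 = n3064 := ndS (p := 1252) (l := 4) rfl N1252 D3064
theorem N2598 : nd 2598 = n3065 := ndS (p := 1253) (l := 0) rfl N1253 D3065
theorem N2599 : nd 2599 = n3066 := ndS (p := 1253) (l := 3) rfl N1253 D3066
theorem N2600 : nd 2600 = n3067 := ndS (p := 1253) (l := 4) rfl N1253 D3067
theorem N2601 : nd 2601 = n3068 := ndS (p := 1254) (l := 0) rfl N1254 D3068
theorem N2602 : nd 2602 = n3069 := ndS (p := 1254) (l := 4) rfl N1254 D3069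
theorem N2603 : nd 2603 = n3070 := ndS (p := 1255) (l := 2) rfl N1255 D3070
theorem N2604 : nd 2604 = n3074 := ndS (p := 1257) (l := 1) rfl N1257 D3074
theorem N2605 : nd 2605 = n3075 := ndS (p := 1257) (l := 2) rfl N1257 D3075
theorem N2606 : nd 2606 = n3076 := ndS (p := 1257) (l := 3) rfl N1257 D3076
theorem N2607 : nd 2607 = n3077 := ndS (p := 1257) (l := 4) rfl N1257 D3077
theorem N2608 : nd 2608 = n3078 := ndS (p := 1258) (l := 0) rfl N1258 D3078
theorem N2609 : nd 2609 = n3079 := ndS (p := 1258) (l := 1) rfl N1258 D3079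
theorem N2610 : nd 2610 = n3080 := ndS (p := 1258) (l := 3) rfl N1258 D3080
theorem N2611 : nd 2611 = n3081 := ndS (p := 1258) (l := 4) rfl N1258 D3081
theorem N2612 : nd 2612 = n3082 := ndS (p := 1259) (l := 0) rfl N1259 D3082
theorem N2613 : nd 2613 = n3083 := ndS (p := 1259) (l := 4) rfl N1259 D3083
theorem N2614 : nd 2614 = n3084 := ndS (p := 1260) (l := 2) rfl N1260 D3084
theorem N2615 : nd 2615 = n3085 := ndS (p := 1260) (l := 3) rfl N1260 D3085
theorem N2616 : nd 2616 = n3087 := ndS (p := 1263) (l := 2) rfl N1263 D3087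
theorem N2617 : nd 2617 = n3088 := ndS (p := 1263) (l := 4) rfl N1263 D3088
theorem N2618 : nd 2618 = n3089 := ndS (p := 1264) (l := 0) rfl N1264 D3089
theorem N2619 : nd 2619 = n3090 := ndS (p := 1264) (l := 1) rfl N1264 D3090
theorem N2620 : nd 2620 = n3091 := ndS (p := 1264) (l := 3) rfl N1264 D3091
theorem N2621 : nd 2621 = n3092 := ndS (p := 1264) (l := 4) rfl N1264 D3092
theorem N2622 : nd 2622 = n3093 := ndS (p := 1265) (l := 4) rfl N1265 D3093
theorem N2623 : nd 2623 = n3094 := ndS (p := 1266) (l := 2) rfl N1266 D3094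
theorem N2624 : nd 2624 = n3095 := ndS (p := 1266) (l := 3) rfl N1266 D3095
theorem N2625 : nd 2625 = n3096 := ndS (p := 1267) (l := 1) rfl N1267 D3096
theorem N2626 : nd 2626 = n3097 := ndS (p := 1267) (l := 2) rfl N1267 D3097
theorem N2627 : nd 2627 = n3098 := ndS (p := 1267) (l := 3) rfl N1267 D3098
theorem N2628 : nd 2628 = n3099 := ndS (p := 1267) (l := 4) rfl N1267 D3099
theorem N2629 : nd 2629 = n3100 := ndS (p := 1268) (l := 0) rfl N1268 D3100
theorem N2630 : nd 2630 = n3101 := ndS (p := 1268) (l := 4) rfl N1268 D3101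
theorem N2631 : nd 2631 = n3102 := ndS (p := 1269) (l := 2) rfl N1269 D3102
theorem N2632 : nd 2632 = n3104 := ndS (p := 1270) (l := 1) rfl N1270 D3104
theorem N2633 : nd 2633 = n3105 := ndS (p := 1270) (l := 2) rfl N1270 D3105
theorem N2634 : nd 2634 = n3106 := ndS (p := 1270) (l := 3) rfl N1270 D3106
theorem N2635 : nd 2635 = n3107 := ndS (p := 1270) (l := 4) rfl N1270 D3107
theorem N2636 : nd 2636 = n3108 := ndS (p := 1271) (l := 2) rfl N1271 D3108
theorem N2637 : nd 2637 = n3109 := ndS (p := 1272) (l := 0) rfl N1272 D3109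
theorem N2638 : nd 2638 = n3111 := ndS (p := 1273) (l := 0) rfl N1273 D3111
theorem N2639 : nd 2639 = n3112 := ndS (p := 1273) (l := 2) rfl N1273 D3112
theorem N2640 : nd 2640 = n3113 := ndS (p := 1273) (l := 4) rfl N1273 D3113
theorem N2641 : nd 2641 = n3114 := ndS (p := 1275) (l := 3) rfl N1275 D3114
theorem N2642 : nd 2642 = n3115 := ndS (p := 1276) (l := 3) rfl N1276 D3115
theorem N2643 : nd 2643 = n3116 := ndS (p := 1276) (l := 4) rfl N1276 D3116
theorem N2644 : nd 2644 = n3117 := ndS (p := 1277) (l := 0) rfl N1277 D3117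
theorem N2645 : nd 2645 = n3118 := ndS (p := 1277) (l := 4) rfl N1277 D3118
theorem N2646 : nd 2646 = n3119 := ndS (p := 1278) (l := 2) rfl N1278 D3119
theorem N2647 : nd 2647 = n3120 := ndS (p := 1278) (l := 3) rfl N1278 D3120
theorem N2648 : nd 2648 = n3121 := ndS (p := 1279) (l := 3) rfl N1279 D3121
theorem N2649 : nd 2649 = n3122 := ndS (p := 1279) (l := 4) rfl N1279 D3122
theorem N2650 : nd 2650 = n3123 := ndS (p := 1280) (l := 3) rfl N1280 D3123
theorem N2651 : nd 2651 = n3124 := ndS (p := 1280) (l := 4) rfl N1280 D3124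
theorem N2652 : nd 2652 = n3125 := ndS (p := 1281) (l := 0) rfl N1281 D3125
theorem N2653 : nd 2653 = n3126 := ndS (p := 1281) (l := 4) rfl N1281 D3126
theorem N2654 : nd 2654 = n3127 := ndS (p := 1282) (l := 3) rfl N1282 D3127
theorem N2655 : nd 2655 = n3128 := ndS (p := 1283) (l := 1) rfl N1283 D3128
theorem N2656 : nd 2656 = n3129 := ndS (p := 1283) (l := 2) rfl N1283 D3129
theorem N2657 : nd 2657 = n3130 := ndS (p := 1283) (l := 3) rfl N1283 D3130
theorem N2658 : nd 2658 = n3131 := ndS (p := 1283) (l := 4) rfl N1283 D3131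
theorem N2659 : nd 2659 = n3132 := ndS (p := 1284) (l := 2) rfl N1284 D3132
theorem N2660 : nd 2660 = n3133 := ndS (p := 1285) (l := 1) rfl N1285 D3133
theorem N2661 : nd 2661 = n3134 := ndS (p := 1285) (l := 3) rfl N1285 D3134
theorem N2662 : nd 2662 = n3135 := ndS (p := 1285) (l := 4) rfl N1285 D3135
theorem N2663 : nd 2663 = n3136 := ndS (p := 1286) (l := 0) rfl N1286 D3136
theorem N2664 : nd 2664 = n3137 := ndS (p := 1287) (l := 0) rfl N1287 D3137
theorem N2665 : nd 2665 = n3138 := ndS (p := 1288) (l := 3) rfl N1288 D3138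
theorem N2666 : nd 2666 = n3139 := ndS (p := 1288) (l := 4) rfl N1288 D3139
theorem N2667 : nd 2667 = n3140 := ndS (p := 1289) (l := 3) rfl N1289 D3140
theorem N2668 : nd 2668 = n3141 := ndS (p := 1290) (l := 0) rfl N1290 D3141
theorem N2669 : nd 2669 = n3142 := ndS (p := 1290) (l := 4) rfl N1290 D3142
theorem N2670 : nd 2670 = n3143 := ndS (p := 1291) (l := 2) rfl N1291 D3143
theorem N2671 : nd 2671 = n3144 := ndS (p := 1291) (l := 3) rfl N1291 D3144
theorem N2672 : nd 2672 = n3145 := ndS (p := 1292) (l := 2) rfl N1292 D3145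
theorem N2673 : nd 2673 = n3146 := ndS (p := 1292) (l := 4) rfl N1292 D3146
theorem N2674 : nd 2674 = n3147 := ndS (p := 1293) (l := 2) rfl N1293 D3147
theorem N2675 : nd 2675 = n3148 := ndS (p := 1294) (l := 0) rfl N1294 D3148
theorem N2676 : nd 2676 = n3149 := ndS (p := 1294) (l := 3) rfl N1294 D3149
theorem N2677 : nd 2677 = n3150 := ndS (p := 1294) (l := 4) rfl N1294 D3150
theorem N2678 : nd 2678 = n3151 := ndS (p := 1295) (l := 0) rfl N1295 D3151
theorem N2679 : nd 2679 = n3152 := ndS (p := 1296) (l := 3) rfl N1296 D3152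
theorem N2680 : nd 2680 = n3153 := ndS (p := 1296) (l := 4) rfl N1296 D3153
theorem N2681 : nd 2681 = n3154 := ndS (p := 1297) (l := 4) rfl N1297 D3154
theorem N2682 : nd 2682 = n3155 := ndS (p := 1298) (l := 2) rfl N1298 D3155
theorem N2683 : nd 2683 = n3156 := ndS (p := 1298) (l := 3) rfl N1298 D3156
theorem N2684 : nd 2684 = n3157 := ndS (p := 1299) (l := 1) rfl N1299 D3157
theorem N2685 : nd 2685 = n3158 := ndS (p := 1299) (l := 2) rfl N1299 D3158
theorem N2686 : nd 2686 = n3159 := ndS (p := 1299) (l := 3) rfl N1299 D3159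
theorem N2687 : nd 2687 = n3160 := ndS (p := 1299) (l := 4) rfl N1299 D3160
theorem N2688 : nd 2688 = n3161 := ndS (p := 1300) (l := 2) rfl N1300 D3161
theorem N2689 : nd 2689 = n3166 := ndS (p := 1302) (l := 0) rfl N1302 D3166
theorem N2690 : nd 2690 = n3167 := ndS (p := 1302) (l := 2) rfl N1302 D3167
theorem N2691 : nd 2691 = n3168 := ndS (p := 1302) (l := 4) rfl N1302 D3168
theorem N2692 : nd 2692 = n3169 := ndS (p := 1303) (l := 1) rfl N1303 D3169
theorem N2693 : nd 2693 = n3170 := ndS (p := 1303) (l := 3) rfl N1303 D3170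
theorem N2694 : nd 2694 = n3171 := ndS (p := 1303) (l := 4) rfl N1303 D3171
theorem N2695 : nd 2695 = n3172 := ndS (p := 1305) (l := 2) rfl N1305 D3172
theorem N2696 : nd 2696 = n3173 := ndS (p := 1306) (l := 0) rfl N1306 D3173
theorem N2697 : nd 2697 = n3176 := ndS (p := 1307) (l := 3) rfl N1307 D3176
theorem N2698 : nd 2698 = n3177 := ndS (p := 1308) (l := 2) rfl N1308 D3177
theorem N2699 : nd 2699 = n3178 := ndS (p := 1308) (l := 3) rfl N1308 D3178
theorem N2700 : nd 2700 = n3179 := ndS (p := 1308) (l := 4) rfl N1308 D3179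
theorem N2701 : nd 2701 = n3180 := ndS (p := 1309) (l := 0) rfl N1309 D3180
theorem N2702 : nd 2702 = n3181 := ndS (p := 1309) (l := 1) rfl N1309 D3181
theorem N2703 : nd 2703 = n3182 := ndS (p := 1309) (l := 3) rfl N1309 D3182
theorem N2704 : nd 2704 = n3183 := ndS (p := 1309) (l := 4) rfl N1309 D3183
theorem N2705 : nd 2705 = n3184 := ndS (p := 1310) (l := 0) rfl N1310 D3184
theorem N2706 : nd 2706 = n3185 := ndS (p := 1311) (l := 2) rfl N1311 D3185
theorem N2707 : nd 2707 = n3186 := ndS (p := 1312) (l := 0) rfl N1312 D3186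
theorem N2708 : nd 2708 = n3187 := ndS (p := 1312) (l := 2) rfl N1312 D3187
theorem N2709 : nd 2709 = n3188 := ndS (p := 1313) (l := 0) rfl N1313 D3188
theorem N2710 : nd 2710 = n3189 := ndS (p := 1313) (l := 1) rfl N1313 D3189
theorem N2711 : nd 2711 = n3190 := ndS (p := 1313) (l := 4) rfl N1313 D3190
theorem N2712 : nd 2712 = n3191 := ndS (p := 1314) (l := 2) rfl N1314 D3191
theorem N2713 : nd 2713 = n3192 := ndS (p := 1315) (l := 1) rfl N1315 D3192
theorem N2714 : nd 2714 = n3193 := ndS (p := 1315) (l := 2) rfl N1315 D3193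
theorem N2715 : nd 2715 = n3194 := ndS (p := 1315) (l := 3) rfl N1315 D3194
theorem N2716 : nd 2716 = n3195 := ndS (p := 1315) (l := 4) rfl N1315 D3195
theorem N2717 : nd 2717 = n3196 := ndS (p := 1316) (l := 0) rfl N1316 D3196
theorem N2718 : nd 2718 = n3197 := ndS (p := 1316) (l := 2) rfl N1316 D3197
theorem N2719 : nd 2719 = n3198 := ndS (p := 1316) (l := 4) rfl N1316 D3198
theorem N2720 : nd 2720 = n3201 := ndS (p := 1318) (l := 0) rfl N1318 D3201
theorem N2721 : nd 2721 = n3202 := ndS (p := 1318) (l := 1) rfl N1318 D3202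
theorem N2722 : nd 2722 = n3204 := ndS (p := 1319) (l := 1) rfl N1319 D3204
theorem N2723 : nd 2723 = n3205 := ndS (p := 1319) (l := 2) rfl N1319 D3205
theorem N2724 : nd 2724 = n3206 := ndS (p := 1319) (l := 3) rfl N1319 D3206
theorem N2725 : nd 2725 = n3207 := ndS (p := 1319) (l := 4) rfl N1319 D3207
theorem N2726 : nd 2726 = n3208 := ndS (p := 1320) (l := 0) rfl N1320 D3208
theorem N2727 : nd 2727 = n3209 := ndS (p := 1320) (l := 4) rfl N1320 D3209
theorem N2728 : nd 2728 = n3210 := ndS (p := 1321) (l := 2) rfl N1321 D3210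
theorem N2729 : nd 2729 = n3211 := ndS (p := 1322) (l := 0) rfl N1322 D3211
theorem N2730 : nd 2730 = n3212 := ndS (p := 1322) (l := 2) rfl N1322 D3212
theorem N2731 : nd 2731 = n3213 := ndS (p := 1323) (l := 0) rfl N1323 D3213
theorem N2732 : nd 2732 = n3214 := ndS (p := 1323) (l := 4) rfl N1323 D3214
theorem N2733 : nd 2733 = n3215 := ndS (p := 1324) (l := 3) rfl N1324 D3215
theorem N2734 : nd 2734 = n3216 := ndS (p := 1325) (l := 4) rfl N1325 D3216
theorem N2735 : nd 2735 = n3217 := ndS (p := 1326) (l := 2) rfl N1326 D3217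
theorem N2736 : nd 2736 = n3218 := ndS (p := 1326) (l := 3) rfl N1326 D3218
theorem N2737 : nd 2737 = n3219 := ndS (p := 1327) (l := 3) rfl N1327 D3219
theorem N2738 : nd 2738 = n3220 := ndS (p := 1328) (l := 0) rfl N1328 D3220
theorem N2739 : nd 2739 = n3221 := ndS (p := 1328) (l := 4) rfl N1328 D3221
theorem N2740 : nd 2740 = n3222 := ndS (p := 1329) (l := 0) rfl N1329 D3222
theorem N2741 : nd 2741 = n3223 := ndS (p := 1329) (l := 4) rfl N1329 D3223
theorem N2742 : nd 2742 = n3224 := ndS (p := 1330) (l := 3) rfl N1330 D3224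
theorem N2743 : nd 2743 = n3225 := ndS (p := 1331) (l := 2) rfl N1331 D3225
theorem N2744 : nd 2744 = n3226 := ndS (p := 1331) (l := 3) rfl N1331 D3226
theorem N2745 : nd 2745 = n3227 := ndS (p := 1331) (l := 4) rfl N1331 D3227
theorem N2746 : nd 2746 = n3228 := ndS (p := 1332) (l := 2) rfl N1332 D3228
theorem N2747 : nd 2747 = n3229 := ndS (p := 1332) (l := 3) rfl N1332 D3229
theorem N2748 : nd 2748 = n3230 := ndS (p := 1333) (l := 1) rfl N1333 D3230
theorem N2749 : nd 2749 = n3231 := ndS (p := 1333) (l := 3) rfl N1333 D3231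
theorem N2750 : nd 2750 = n3232 := ndS (p := 1333) (l := 4) rfl N1333 D3232
theorem N2751 : nd 2751 = n3233 := ndS (p := 1334) (l := 0) rfl N1334 D3233
theorem N2752 : nd 2752 = n3234 := ndS (p := 1334) (l := 4) rfl N1334 D3234
theorem N2753 : nd 2753 = n3235 := ndS (p := 1335) (l := 2) rfl N1335 D3235
theorem N2754 : nd 2754 = n3236 := ndS (p := 1335) (l := 4) rfl N1335 D3236
theorem N2755 : nd 2755 = n3237 := ndS (p := 1336) (l := 1) rfl N1336 D3237
theorem N2756 : nd 2756 = n3238 := ndS (p := 1336) (l := 3) rfl N1336 D3238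
theorem N2757 : nd 2757 = n3239 := ndS (p := 1336) (l := 4) rfl N1336 D3239
theorem N2758 : nd 2758 = n3240 := ndS (p := 1337) (l := 4) rfl N1337 D3240
theorem N2759 : nd 2759 = n3241 := ndS (p := 1338) (l := 2) rfl N1338 D3241
theorem N2760 : nd 2760 = n3242 := ndS (p := 1338) (l := 3) rfl N1338 D3242
theorem N2761 : nd 2761 = n3243 := ndS (p := 1339) (l := 0) rfl N1339 D3243
theorem N2762 : nd 2762 = n3244 := ndS (p := 1339) (l := 1) rfl N1339 D3244
theorem N2763 : nd 2763 = n3245 := ndS (p := 1339) (l := 3) rfl N1339 D3245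
theorem N2764 : nd 2764 = n3246 := ndS (p := 1339) (l := 4) rfl N1339 D3246
theorem N2765 : nd 2765 = n3247 := ndS (p := 1340) (l := 4) rfl N1340 D3247
theorem N2766 : nd 2766 = n3248 := ndS (p := 1341) (l := 3) rfl N1341 D3248
theorem N2767 : nd 2767 = n3249 := ndS (p := 1341) (l := 4) rfl N1341 D3249
theorem N2768 : nd 2768 = n3250 := ndS (p := 1342) (l := 0) rfl N1342 D3250
theorem N2769 : nd 2769 = n3251 := ndS (p := 1342) (l := 2) rfl N1342 D3251
theorem N2770 : nd 2770 = n3252 := ndS (p := 1342) (l := 3) rfl N1342 D3252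
theorem N2771 : nd 2771 = n3253 := ndS (p := 1342) (l := 4) rfl N1342 D3253
theorem N2772 : nd 2772 = n3254 := ndS (p := 1343) (l := 0) rfl N1343 D3254
theorem N2773 : nd 2773 = n3255 := ndS (p := 1343) (l := 4) rfl N1343 D3255
theorem N2774 : nd 2774 = n3257 := ndS (p := 1345) (l := 1) rfl N1345 D3257
theorem N2775 : nd 2775 = n3258 := ndS (p := 1345) (l := 2) rfl N1345 D3258
theorem N2776 : nd 2776 = n3259 := ndS (p := 1345) (l := 4) rfl N1345 D3259
theorem N2777 : nd 2777 = n3261 := ndS (p := 1347) (l := 0) rfl N1347 D3261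
theorem N2778 : nd 2778 = n3262 := ndS (p := 1347) (l := 4) rfl N1347 D3262
theorem N2779 : nd 2779 = n3263 := ndS (p := 1348) (l := 3) rfl N1348 D3263
theorem N2780 : nd 2780 = n3264 := ndS (p := 1349) (l := 4) rfl N1349 D3264
theorem N2781 : nd 2781 = n3265 := ndS (p := 1350) (l := 3) rfl N1350 D3265
theorem N2782 : nd 2782 = n3266 := ndS (p := 1351) (l := 2) rfl N1351 D3266
theorem N2783 : nd 2783 = n3267 := ndS (p := 1351) (l := 3) rfl N1351 D3267
theorem N2784 : nd 2784 = n3268 := ndS (p := 1352) (l := 1) rfl N1352 D3268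
theorem N2785 : nd 2785 = n3269 := ndS (p := 1352) (l := 3) rfl N1352 D3269
theorem N2786 : nd 2786 = n3270 := ndS (p := 1352) (l := 4) rfl N1352 D3270
theorem N2787 : nd 2787 = n3271 := ndS (p := 1353) (l := 0) rfl N1353 D3271
theorem N2788 : nd 2788 = n3272 := ndS (p := 1353) (l := 4) rfl N1353 D3272
theorem N2789 : nd 2789 = n3273 := ndS (p := 1354) (l := 3) rfl N1354 D3273
theorem N2790 : nd 2790 = n3274 := ndS (p := 1355) (l := 4) rfl N1355 D3274
theorem N2791 : nd 2791 = n3275 := ndS (p := 1356) (l := 0) rfl N1356 D3275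
theorem N2792 : nd 2792 = n3276 := ndS (p := 1356) (l := 3) rfl N1356 D3276
theorem N2793 : nd 2793 = n3277 := ndS (p := 1356) (l := 4) rfl N1356 D3277
theorem N2794 : nd 2794 = n3278 := ndS (p := 1357) (l := 3) rfl N1357 D3278
theorem N2795 : nd 2795 = n3279 := ndS (p := 1357) (l := 4) rfl N1357 D3279
theorem N2796 : nd 2796 = n3280 := ndS (p := 1358) (l := 4) rfl N1358 D3280
theorem N2797 : nd 2797 = n3281 := ndS (p := 1359) (l := 2) rfl N1359 D3281
theorem N2798 : nd 2798 = n3282 := ndS (p := 1359) (l := 3) rfl N1359 D3282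
theorem N2799 : nd 2799 = n3283 := ndS (p := 1360) (l := 0) rfl N1360 D3283
theorem N2800 : nd 2800 = n3284 := ndS (p := 1360) (l := 1) rfl N1360 D3284
theorem N2801 : nd 2801 = n3285 := ndS (p := 1360) (l := 3) rfl N1360 D3285
theorem N2802 : nd 2802 = n3286 := ndS (p := 1360) (l := 4) rfl N1360 D3286
theorem N2803 : nd 2803 = n3287 := ndS (p := 1361) (l := 4) rfl N1361 D3287
theorem N2804 : nd 2804 = n3288 := ndS (p := 1362) (l := 2) rfl N1362 D3288
theorem N2805 : nd 2805 = n3289 := ndS (p := 1362) (l := 3) rfl N1362 D3289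
theorem N2806 : nd 2806 = n3290 := ndS (p := 1363) (l := 0) rfl N1363 D3290
theorem N2807 : nd 2807 = n3291 := ndS (p := 1363) (l := 4) rfl N1363 D3291
theorem N2808 : nd 2808 = n3293 := ndS (p := 1365) (l := 1) rfl N1365 D3293
theorem N2809 : nd 2809 = n3294 := ndS (p := 1365) (l := 2) rfl N1365 D3294
theorem N2810 : nd 2810 = n3295 := ndS (p := 1365) (l := 4) rfl N1365 D3295
theorem N2811 : nd 2811 = n3297 := ndS (p := 1367) (l := 4) rfl N1367 D3297
theorem N2812 : nd 2812 = n3298 := ndS (p := 1368) (l := 4) rfl N1368 D3298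
theorem N2813 : nd 2813 = n3299 := ndS (p := 1369) (l := 2) rfl N1369 D3299
theorem N2814 : nd 2814 = n3300 := ndS (p := 1369) (l := 3) rfl N1369 D3300
theorem N2815 : nd 2815 = n3301 := ndS (p := 1370) (l := 4) rfl N1370 D3301
theorem N2816 : nd 2816 = n3302 := ndS (p := 1371) (l := 4) rfl N1371 D3302
theorem N2817 : nd 2817 = n3303 := ndS (p := 1372) (l := 3) rfl N1372 D3303
theorem N2818 : nd 2818 = n3304 := ndS (p := 1373) (l := 2) rfl N1373 D3304
theorem N2819 : nd 2819 = n3305 := ndS (p := 1374) (l := 0) rfl N1374 D3305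
theorem N2820 : nd 2820 = n3306 := ndS (p := 1374) (l := 1) rfl N1374 D3306
theorem N2821 : nd 2821 = n3307 := ndS (p := 1374) (l := 3) rfl N1374 D3307
theorem N2822 : nd 2822 = n3308 := ndS (p := 1374) (l := 4) rfl N1374 D3308
theorem N2823 : nd 2823 = n3309 := ndS (p := 1375) (l := 4) rfl N1375 D3309
theorem N2824 : nd 2824 = n3310 := ndS (p := 1376) (l := 1) rfl N1376 D3310
theorem N2825 : nd 2825 = n3311 := ndS (p := 1376) (l := 3) rfl N1376 D3311
theorem N2826 : nd 2826 = n3312 := ndS (p := 1376) (l := 4) rfl N1376 D3312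
theorem N2827 : nd 2827 = n3313 := ndS (p := 1377) (l := 0) rfl N1377 D3313
theorem N2828 : nd 2828 = n3314 := ndS (p := 1377) (l := 2) rfl N1377 D3314
theorem N2829 : nd 2829 = n3315 := ndS (p := 1377) (l := 3) rfl N1377 D3315
theorem N2830 : nd 2830 = n3316 := ndS (p := 1377) (l := 4) rfl N1377 D3316
theorem N2831 : nd 2831 = n3317 := ndS (p := 1378) (l := 0) rfl N1378 D3317
theorem N2832 : nd 2832 = n3318 := ndS (p := 1378) (l := 4) rfl N1378 D3318
theorem N2833 : nd 2833 = n3321 := ndS (p := 1381) (l := 0) rfl N1381 D3321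
theorem N2834 : nd 2834 = n3322 := ndS (p := 1381) (l := 3) rfl N1381 D3322
theorem N2835 : nd 2835 = n3323 := ndS (p := 1381) (l := 4) rfl N1381 D3323
theorem N2836 : nd 2836 = n3324 := ndS (p := 1382) (l := 4) rfl N1382 D3324
theorem N2837 : nd 2837 = n3325 := ndS (p := 1383) (l := 3) rfl N1383 D3325
theorem N2838 : nd 2838 = n3326 := ndS (p := 1384) (l := 1) rfl N1384 D3326
theorem N2839 : nd 2839 = n3327 := ndS (p := 1384) (l := 3) rfl N1384 D3327
theorem N2840 : nd 2840 = n3328 := ndS (p := 1385) (l := 3) rfl N1385 D3328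
theorem N2841 : nd 2841 = n3329 := ndS (p := 1386) (l := 0) rfl N1386 D3329
theorem N2842 : nd 2842 = n3330 := ndS (p := 1386) (l := 4) rfl N1386 D3330
theorem N2843 : nd 2843 = n3332 := ndS (p := 1388) (l := 1) rfl N1388 D3332
theorem N2844 : nd 2844 = n3333 := ndS (p := 1388) (l := 2) rfl N1388 D3333
theorem N2845 : nd 2845 = n3334 := ndS (p := 1388) (l := 3) rfl N1388 D3334
theorem N2846 : nd 2846 = n3335 := ndS (p := 1388) (l := 4) rfl N1388 D3335
theorem N2847 : nd 2847 = n3340 := ndS (p := 1390) (l := 0) rfl N1390 D3340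
theorem N2848 : nd 2848 = n3341 := ndS (p := 1390) (l := 2) rfl N1390 D3341
theorem N2849 : nd 2849 = n3342 := ndS (p := 1390) (l := 4) rfl N1390 D3342
theorem N2850 : nd 2850 = n3343 := ndS (p := 1391) (l := 1) rfl N1391 D3343
theorem N2851 : nd 2851 = n3344 := ndS (p := 1391) (l := 4) rfl N1391 D3344
theorem N2852 : nd 2852 = n3345 := ndS (p := 1392) (l := 2) rfl N1392 D3345
theorem N2853 : nd 2853 = n3349 := ndS (p := 1393) (l := 4) rfl N1393 D3349
theorem N2854 : nd 2854 = n3350 := ndS (p := 1394) (l := 2) rfl N1394 D3350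
theorem N2855 : nd 2855 = n3351 := ndS (p := 1394) (l := 3) rfl N1394 D3351
theorem N2856 : nd 2856 = n3352 := ndS (p := 1395) (l := 3) rfl N1395 D3352
theorem N2857 : nd 2857 = n3353 := ndS (p := 1395) (l := 4) rfl N1395 D3353
theorem N2858 : nd 2858 = n3354 := ndS (p := 1396) (l := 2) rfl N1396 D3354
theorem N2859 : nd 2859 = n3355 := ndS (p := 1396) (l := 3) rfl N1396 D3355
theorem N2860 : nd 2860 = n3356 := ndS (p := 1397) (l := 3) rfl N1397 D3356
theorem N2861 : nd 2861 = n3357 := ndS (p := 1397) (l := 4) rfl N1397 D3357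
theorem N2862 : nd 2862 = n3358 := ndS (p := 1398) (l := 0) rfl N1398 D3358
theorem N2863 : nd 2863 = n3359 := ndS (p := 1398) (l := 4) rfl N1398 D3359
theorem N2864 : nd 2864 = n3360 := ndS (p := 1399) (l := 1) rfl N1399 D3360
theorem N2865 : nd 2865 = n3361 := ndS (p := 1399) (l := 3) rfl N1399 D3361
theorem N2866 : nd 2866 = n3362 := ndS (p := 1399) (l := 4) rfl N1399 D3362
theorem N2867 : nd 2867 = n3363 := ndS (p := 1400) (l := 2) rfl N1400 D3363
theorem N2868 : nd 2868 = n3364 := ndS (p := 1400) (l := 3) rfl N1400 D3364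
theorem N2869 : nd 2869 = n3365 := ndS (p := 1401) (l := 1) rfl N1401 D3365
theorem N2870 : nd 2870 = n3366 := ndS (p := 1401) (l := 3) rfl N1401 D3366
theorem N2871 : nd 2871 = n3367 := ndS (p := 1401) (l := 4) rfl N1401 D3367
theorem N2872 : nd 2872 = n3368 := ndS (p := 1402) (l := 0) rfl N1402 D3368
theorem N2873 : nd 2873 = n3369 := ndS (p := 1402) (l := 4) rfl N1402 D3369
theorem N2874 : nd 2874 = n3370 := ndS (p := 1403) (l := 1) rfl N1403 D3370
theorem N2875 : nd 2875 = n3371 := ndS (p := 1403) (l := 3) rfl N1403 D3371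
theorem N2876 : nd 2876 = n3372 := ndS (p := 1403) (l := 4) rfl N1403 D3372
theorem N2877 : nd 2877 = n3373 := ndS (p := 1404) (l := 4) rfl N1404 D3373
theorem N2878 : nd 2878 = n3374 := ndS (p := 1405) (l := 2) rfl N1405 D3374
theorem N2879 : nd 2879 = n3375 := ndS (p := 1405) (l := 3) rfl N1405 D3375
theorem N2880 : nd 2880 = n3376 := ndS (p := 1406) (l := 0) rfl N1406 D3376
theorem N2881 : nd 2881 = n3378 := ndS (p := 1406) (l := 3) rfl N1406 D3378
theorem N2882 : nd 2882 = n3379 := ndS (p := 1406) (l := 4) rfl N1406 D3379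
theorem N2883 : nd 2883 = n3380 := ndS (p := 1407) (l := 4) rfl N1407 D3380
theorem N2884 : nd 2884 = n3381 := ndS (p := 1408) (l := 0) rfl N1408 D3381
theorem N2885 : nd 2885 = n3382 := ndS (p := 1408) (l := 4) rfl N1408 D3382
theorem N2886 : nd 2886 = n3384 := ndS (p := 1410) (l := 2) rfl N1410 D3384
theorem N2887 : nd 2887 = n3385 := ndS (p := 1410) (l := 4) rfl N1410 D3385
theorem N2888 : nd 2888 = n3387 := ndS (p := 1413) (l := 1) rfl N1413 D3387
theorem N2889 : nd 2889 = n3388 := ndS (p := 1413) (l := 2) rfl N1413 D3388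
theorem N2890 : nd 2890 = n3389 := ndS (p := 1413) (l := 3) rfl N1413 D3389
theorem N2891 : nd 2891 = n3390 := ndS (p := 1413) (l := 4) rfl N1413 D3390
theorem N2892 : nd 2892 = n3391 := ndS (p := 1414) (l := 0) rfl N1414 D3391
theorem N2893 : nd 2893 = n3392 := ndS (p := 1414) (l := 3) rfl N1414 D3392
theorem N2894 : nd 2894 = n3393 := ndS (p := 1414) (l := 4) rfl N1414 D3393
theorem N2895 : nd 2895 = n3394 := ndS (p := 1415) (l := 0) rfl N1415 D3394
theorem N2896 : nd 2896 = n3395 := ndS (p := 1415) (l := 4) rfl N1415 D3395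
theorem N2897 : nd 2897 = n3396 := ndS (p := 1416) (l := 2) rfl N1416 D3396
theorem N2898 : nd 2898 = n3400 := ndS (p := 1418) (l := 3) rfl N1418 D3400
theorem N2899 : nd 2899 = n3401 := ndS (p := 1419) (l := 1) rfl N1419 D3401
theorem N2900 : nd 2900 = n3402 := ndS (p := 1419) (l := 3) rfl N1419 D3402
theorem N2901 : nd 2901 = n3403 := ndS (p := 1419) (l := 4) rfl N1419 D3403
theorem N2902 : nd 2902 = n3404 := ndS (p := 1420) (l := 0) rfl N1420 D3404
theorem N2903 : nd 2903 = n3405 := ndS (p := 1420) (l := 4) rfl N1420 D3405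
theorem N2904 : nd 2904 = n3406 := ndS (p := 1421) (l := 2) rfl N1421 D3406
theorem N2905 : nd 2905 = n3407 := ndS (p := 1421) (l := 3) rfl N1421 D3407
theorem N2906 : nd 2906 = n3408 := ndS (p := 1422) (l := 1) rfl N1422 D3408
theorem N2907 : nd 2907 = n3409 := ndS (p := 1422) (l := 2) rfl N1422 D3409
theorem N2908 : nd 2908 = n3410 := ndS (p := 1422) (l := 3) rfl N1422 D3410
theorem N2909 : nd 2909 = n3411 := ndS (p := 1423) (l := 0) rfl N1423 D3411
theorem N2910 : nd 2910 = n3412 := ndS (p := 1423) (l := 4) rfl N1423 D3412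
theorem N2911 : nd 2911 = n3413 := ndS (p := 1424) (l := 2) rfl N1424 D3413
theorem N2912 : nd 2912 = n3415 := ndS (p := 1425) (l := 1) rfl N1425 D3415
theorem N2913 : nd 2913 = n3416 := ndS (p := 1425) (l := 2) rfl N1425 D3416
theorem N2914 : nd 2914 = n3417 := ndS (p := 1425) (l := 3) rfl N1425 D3417
theorem N2915 : nd 2915 = n3418 := ndS (p := 1425) (l := 4) rfl N1425 D3418
theorem N2916 : nd 2916 = n3419 := ndS (p := 1426) (l := 2) rfl N1426 D3419
theorem N2917 : nd 2917 = n3420 := ndS (p := 1427) (l := 0) rfl N1427 D3420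
theorem N2918 : nd 2918 = n3423 := ndS (p := 1428) (l := 2) rfl N1428 D3423
theorem N2919 : nd 2919 = n3425 := ndS (p := 1429) (l := 0) rfl N1429 D3425
theorem N2920 : nd 2920 = n3426 := ndS (p := 1429) (l := 1) rfl N1429 D3426
theorem N2921 : nd 2921 = n3427 := ndS (p := 1429) (l := 4) rfl N1429 D3427
theorem N2922 : nd 2922 = n3433 := ndS (p := 1430) (l := 3) rfl N1430 D3433
theorem N2923 : nd 2923 = n3434 := ndS (p := 1430) (l := 4) rfl N1430 D3434
theorem N2924 : nd 2924 = n3435 := ndS (p := 1431) (l := 3) rfl N1431 D3435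
theorem N2925 : nd 2925 = n3436 := ndS (p := 1432) (l := 0) rfl N1432 D3436
theorem N2926 : nd 2926 = n3437 := ndS (p := 1432) (l := 4) rfl N1432 D3437
theorem N2927 : nd 2927 = n3438 := ndS (p := 1433) (l := 0) rfl N1433 D3438
theorem N2928 : nd 2928 = n3439 := ndS (p := 1433) (l := 4) rfl N1433 D3439
theorem N2929 : nd 2929 = n3440 := ndS (p := 1434) (l := 4) rfl N1434 D3440
theorem N2930 : nd 2930 = n3441 := ndS (p := 1435) (l := 2) rfl N1435 D3441
theorem N2931 : nd 2931 = n3442 := ndS (p := 1435) (l := 3) rfl N1435 D3442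
theorem N2932 : nd 2932 = n3443 := ndS (p := 1436) (l := 1) rfl N1436 D3443
theorem N2933 : nd 2933 = n3444 := ndS (p := 1436) (l := 3) rfl N1436 D3444
theorem N2934 : nd 2934 = n3445 := ndS (p := 1437) (l := 4) rfl N1437 D3445
theorem N2935 : nd 2935 = n3446 := ndS (p := 1438) (l := 2) rfl N1438 D3446
theorem N2936 : nd 2936 = n3447 := ndS (p := 1438) (l := 3) rfl N1438 D3447
theorem N2937 : nd 2937 = n3448 := ndS (p := 1439) (l := 0) rfl N1439 D3448
theorem N2938 : nd 2938 = n3449 := ndS (p := 1439) (l := 4) rfl N1439 D3449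
theorem N2939 : nd 2939 = n3450 := ndS (p := 1440) (l := 1) rfl N1440 D3450
theorem N2940 : nd 2940 = n3451 := ndS (p := 1440) (l := 4) rfl N1440 D3451
theorem N2941 : nd 2941 = n3453 := ndS (p := 1442) (l := 4) rfl N1442 D3453
theorem N2942 : nd 2942 = n3454 := ndS (p := 1443) (l := 2) rfl N1443 D3454
theorem N2943 : nd 2943 = n3455 := ndS (p := 1443) (l := 3) rfl N1443 D3455
theorem N2944 : nd 2944 = n3456 := ndS (p := 1444) (l := 4) rfl N1444 D3456
theorem N2945 : nd 2945 = n3457 := ndS (p := 1445) (l := 3) rfl N1445 D3457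
theorem N2946 : nd 2946 = n3458 := ndS (p := 1446) (l := 2) rfl N1446 D3458
theorem N2947 : nd 2947 = n3459 := ndS (p := 1446) (l := 3) rfl N1446 D3459
theorem N2948 : nd 2948 = n3460 := ndS (p := 1447) (l := 1) rfl N1447 D3460
theorem N2949 : nd 2949 = n3461 := ndS (p := 1447) (l := 3) rfl N1447 D3461
theorem N2950 : nd 2950 = n3462 := ndS (p := 1447) (l := 4) rfl N1447 D3462
theorem N2951 : nd 2951 = n3463 := ndS (p := 1448) (l := 0) rfl N1448 D3463
theorem N2952 : nd 2952 = n3464 := ndS (p := 1448) (l := 4) rfl N1448 D3464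
theorem N2953 : nd 2953 = n3465 := ndS (p := 1449) (l := 0) rfl N1449 D3465
theorem N2954 : nd 2954 = n3466 := ndS (p := 1449) (l := 4) rfl N1449 D3466
theorem N2955 : nd 2955 = n3467 := ndS (p := 1450) (l := 2) rfl N1450 D3467
theorem N2956 : nd 2956 = n3468 := ndS (p := 1450) (l := 3) rfl N1450 D3468
theorem N2957 : nd 2957 = n3469 := ndS (p := 1451) (l := 0) rfl N1451 D3469
theorem N2958 : nd 2958 = n3470 := ndS (p := 1451) (l := 4) rfl N1451 D3470
theorem N2959 : nd 2959 = n3471 := ndS (p := 1452) (l := 3) rfl N1452 D3471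
theorem N2960 : nd 2960 = n3472 := ndS (p := 1453) (l := 3) rfl N1453 D3472
theorem N2961 : nd 2961 = n3473 := ndS (p := 1453) (l := 4) rfl N1453 D3473
theorem N2962 : nd 2962 = n3474 := ndS (p := 1454) (l := 2) rfl N1454 D3474
theorem N2963 : nd 2963 = n3475 := ndS (p := 1454) (l := 3) rfl N1454 D3475
theorem N2964 : nd 2964 = n3476 := ndS (p := 1455) (l := 1) rfl N1455 D3476
theorem N2965 : nd 2965 = n3477 := ndS (p := 1455) (l := 3) rfl N1455 D3477
theorem N2966 : nd 2966 = n3478 := ndS (p := 1456) (l := 0) rfl N1456 D3478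
theorem N2967 : nd 2967 = n3479 := ndS (p := 1456) (l := 4) rfl N1456 D3479
theorem N2968 : nd 2968 = n3480 := ndS (p := 1457) (l := 0) rfl N1457 D3480
theorem N2969 : nd 2969 = n3481 := ndS (p := 1457) (l := 4) rfl N1457 D3481
theorem N2970 : nd 2970 = n3482 := ndS (p := 1458) (l := 4) rfl N1458 D3482
theorem N2971 : nd 2971 = n3483 := ndS (p := 1459) (l := 4) rfl N1459 D3483
theorem N2972 : nd 2972 = n3484 := ndS (p := 1460) (l := 2) rfl N1460 D3484
theorem N2973 : nd 2973 = n3485 := ndS (p := 1460) (l := 3) rfl N1460 D3485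
theorem N2974 : nd 2974 = n3486 := ndS (p := 1461) (l := 0) rfl N1461 D3486
theorem N2975 : nd 2975 = n3487 := ndS (p := 1461) (l := 1) rfl N1461 D3487
theorem N2976 : nd 2976 = n3488 := ndS (p := 1461) (l := 3) rfl N1461 D3488
theorem N2977 : nd 2977 = n3489 := ndS (p := 1461) (l := 4) rfl N1461 D3489
theorem N2978 : nd 2978 = n3490 := ndS (p := 1462) (l := 4) rfl N1462 D3490
theorem N2979 : nd 2979 = n3491 := ndS (p := 1463) (l := 0) rfl N1463 D3491
theorem N2980 : nd 2980 = n3492 := ndS (p := 1463) (l := 2) rfl N1463 D3492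
theorem N2981 : nd 2981 = n3493 := ndS (p := 1463) (l := 3) rfl N1463 D3493
theorem N2982 : nd 2982 = n3494 := ndS (p := 1463) (l := 4) rfl N1463 D3494
theorem N2983 : nd 2983 = n3495 := ndS (p := 1464) (l := 0) rfl N1464 D3495
theorem N2984 : nd 2984 = n3496 := ndS (p := 1464) (l := 4) rfl N1464 D3496
theorem N2985 : nd 2985 = n3498 := ndS (p := 1466) (l := 1) rfl N1466 D3498
theorem N2986 : nd 2986 = n3499 := ndS (p := 1466) (l := 2) rfl N1466 D3499
theorem N2987 : nd 2987 = n3500 := ndS (p := 1466) (l := 4) rfl N1466 D3500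
theorem N2988 : nd 2988 = n3502 := ndS (p := 1468) (l := 2) rfl N1468 D3502
theorem N2989 : nd 2989 = n3503 := ndS (p := 1468) (l := 4) rfl N1468 D3503
theorem N2990 : nd 2990 = n3504 := ndS (p := 1469) (l := 2) rfl N1469 D3504
theorem N2991 : nd 2991 = n3505 := ndS (p := 1469) (l := 3) rfl N1469 D3505
theorem N2992 : nd 2992 = n3506 := ndS (p := 1470) (l := 0) rfl N1470 D3506
theorem N2993 : nd 2993 = n3507 := ndS (p := 1470) (l := 4) rfl N1470 D3507
theorem N2994 : nd 2994 = n3508 := ndS (p := 1471) (l := 4) rfl N1471 D3508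
theorem N2995 : nd 2995 = n3509 := ndS (p := 1472) (l := 3) rfl N1472 D3509
theorem N2996 : nd 2996 = n3510 := ndS (p := 1473) (l := 2) rfl N1473 D3510
theorem N2997 : nd 2997 = n3511 := ndS (p := 1474) (l := 0) rfl N1474 D3511
theorem N2998 : nd 2998 = n3512 := ndS (p := 1474) (l := 1) rfl N1474 D3512
theorem N2999 : nd 2999 = n3513 := ndS (p := 1474) (l := 3) rfl N1474 D3513
theorem N3000 : nd 3000 = n3514 := ndS (p := 1474) (l := 4) rfl N1474 D3514
theorem N3001 : nd 3001 = n3515 := ndS (p := 1475) (l := 4) rfl N1475 D3515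
theorem N3002 : nd 3002 = n3516 := ndS (p := 1476) (l := 1) rfl N1476 D3516
theorem N3003 : nd 3003 = n3517 := ndS (p := 1476) (l := 3) rfl N1476 D3517
theorem N3004 : nd 3004 = n3518 := ndS (p := 1476) (l := 4) rfl N1476 D3518
theorem N3005 : nd 3005 = n3519 := ndS (p := 1477) (l := 0) rfl N1477 D3519
theorem N3006 : nd 3006 = n3520 := ndS (p := 1477) (l := 2) rfl N1477 D3520
theorem N3007 : nd 3007 = n3521 := ndS (p := 1477) (l := 3) rfl N1477 D3521
theorem N3008 : nd 3008 = n3522 := ndS (p := 1477) (l := 4) rfl N1477 D3522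
theorem N3009 : nd 3009 = n3523 := ndS (p := 1478) (l := 0) rfl N1478 D3523
theorem N3010 : nd 3010 = n3524 := ndS (p := 1478) (l := 4) rfl N1478 D3524
theorem N3011 : nd 3011 = n3527 := ndS (p := 1481) (l := 2) rfl N1481 D3527
theorem N3012 : nd 3012 = n3528 := ndS (p := 1481) (l := 3) rfl N1481 D3528
theorem N3013 : nd 3013 = n3529 := ndS (p := 1482) (l := 4) rfl N1482 D3529
theorem N3014 : nd 3014 = n3530 := ndS (p := 1483) (l := 3) rfl N1483 D3530
theorem N3015 : nd 3015 = n3531 := ndS (p := 1484) (l := 3) rfl N1484 D3531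
theorem N3016 : nd 3016 = n3532 := ndS (p := 1485) (l := 0) rfl N1485 D3532
theorem N3017 : nd 3017 = n3533 := ndS (p := 1485) (l := 3) rfl N1485 D3533
theorem N3018 : nd 3018 = n3534 := ndS (p := 1485) (l := 4) rfl N1485 D3534
theorem N3019 : nd 3019 = n3535 := ndS (p := 1486) (l := 0) rfl N1486 D3535
theorem N3020 : nd 3020 = n3536 := ndS (p := 1486) (l := 4) rfl N1486 D3536
theorem N3021 : nd 3021 = n3538 := ndS (p := 1488) (l := 1) rfl N1488 D3538
theorem N3022 : nd 3022 = n3539 := ndS (p := 1488) (l := 2) rfl N1488 D3539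
theorem N3023 : nd 3023 = n3540 := ndS (p := 1488) (l := 3) rfl N1488 D3540
theorem N3024 : nd 3024 = n3541 := ndS (p := 1488) (l := 4) rfl N1488 D3541
theorem N3025 : nd 3025 = n3546 := ndS (p := 1490) (l := 0) rfl N1490 D3546
theorem N3026 : nd 3026 = n3547 := ndS (p := 1490) (l := 2) rfl N1490 D3547
theorem N3027 : nd 3027 = n3548 := ndS (p := 1490) (l := 4) rfl N1490 D3548
theorem N3028 : nd 3028 = n3549 := ndS (p := 1491) (l := 1) rfl N1491 D3549
theorem N3029 : nd 3029 = n3550 := ndS (p := 1491) (l := 4) rfl N1491 D3550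
theorem N3030 : nd 3030 = n3551 := ndS (p := 1492) (l := 2) rfl N1492 D3551
theorem N3031 : nd 3031 = n3555 := ndS (p := 1493) (l := 4) rfl N1493 D3555
theorem N3032 : nd 3032 = n3556 := ndS (p := 1494) (l := 3) rfl N1494 D3556
theorem N3033 : nd 3033 = n3557 := ndS (p := 1495) (l := 4) rfl N1495 D3557
theorem N3034 : nd 3034 = n3558 := ndS (p := 1496) (l := 2) rfl N1496 D3558
theorem N3035 : nd 3035 = n3559 := ndS (p := 1496) (l := 3) rfl N1496 D3559
theorem N3036 : nd 3036 = n3560 := ndS (p := 1497) (l := 0) rfl N1497 D3560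
theorem N3037 : nd 3037 = n3561 := ndS (p := 1497) (l := 1) rfl N1497 D3561
theorem N3038 : nd 3038 = n3562 := ndS (p := 1497) (l := 3) rfl N1497 D3562
theorem N3039 : nd 3039 = n3563 := ndS (p := 1497) (l := 4) rfl N1497 D3563
theorem N3040 : nd 3040 = n3564 := ndS (p := 1498) (l := 0) rfl N1498 D3564
theorem N3041 : nd 3041 = n3565 := ndS (p := 1498) (l := 4) rfl N1498 D3565
theorem N3042 : nd 3042 = n3566 := ndS (p := 1499) (l := 3) rfl N1499 D3566
theorem N3043 : nd 3043 = n3567 := ndS (p := 1500) (l := 4) rfl N1500 D3567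
theorem N3044 : nd 3044 = n3568 := ndS (p := 1501) (l := 1) rfl N1501 D3568
theorem N3045 : nd 3045 = n3569 := ndS (p := 1501) (l := 3) rfl N1501 D3569
theorem N3046 : nd 3046 = n3570 := ndS (p := 1501) (l := 4) rfl N1501 D3570
theorem N3047 : nd 3047 = n3571 := ndS (p := 1502) (l := 4) rfl N1502 D3571
theorem N3048 : nd 3048 = n3572 := ndS (p := 1503) (l := 0) rfl N1503 D3572
theorem N3049 : nd 3049 = n3573 := ndS (p := 1503) (l := 3) rfl N1503 D3573
theorem N3050 : nd 3050 = n3574 := ndS (p := 1504) (l := 4) rfl N1504 D3574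
theorem N3051 : nd 3051 = n3576 := ndS (p := 1506) (l := 1) rfl N1506 D3576
theorem N3052 : nd 3052 = n3579 := ndS (p := 1508) (l := 3) rfl N1508 D3579
theorem N3053 : nd 3053 = n3580 := ndS (p := 1508) (l := 4) rfl N1508 D3580
theorem N3054 : nd 3054 = n3581 := ndS (p := 1509) (l := 0) rfl N1509 D3581
theorem N3055 : nd 3055 = n3582 := ndS (p := 1509) (l := 3) rfl N1509 D3582
theorem N3056 : nd 3056 = n3583 := ndS (p := 1509) (l := 4) rfl N1509 D3583
theorem N3057 : nd 3057 = n3584 := ndS (p := 1510) (l := 4) rfl N1510 D3584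
theorem N3058 : nd 3058 = n3585 := ndS (p := 1511) (l := 2) rfl N1511 D3585
theorem N3059 : nd 3059 = n3586 := ndS (p := 1511) (l := 3) rfl N1511 D3586
theorem N3060 : nd 3060 = n3587 := ndS (p := 1512) (l := 0) rfl N1512 D3587
theorem N3061 : nd 3061 = n3588 := ndS (p := 1512) (l := 3) rfl N1512 D3588
theorem N3062 : nd 3062 = n3589 := ndS (p := 1512) (l := 4) rfl N1512 D3589
theorem N3063 : nd 3063 = n3590 := ndS (p := 1513) (l := 4) rfl N1513 D3590
theorem N3064 : nd 3064 = n3591 := ndS (p := 1514) (l := 3) rfl N1514 D3591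
theorem N3065 : nd 3065 = n3592 := ndS (p := 1515) (l := 2) rfl N1515 D3592
theorem N3066 : nd 3066 = n3593 := ndS (p := 1516) (l := 1) rfl N1516 D3593
theorem N3067 : nd 3067 = n3594 := ndS (p := 1516) (l := 3) rfl N1516 D3594
theorem N3068 : nd 3068 = n3595 := ndS (p := 1516) (l := 4) rfl N1516 D3595
theorem N3069 : nd 3069 = n3596 := ndS (p := 1517) (l := 4) rfl N1517 D3596
theorem N3070 : nd 3070 = n3597 := ndS (p := 1518) (l := 1) rfl N1518 D3597
theorem N3071 : nd 3071 = n3598 := ndS (p := 1518) (l := 3) rfl N1518 D3598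
theorem N3072 : nd 3072 = n3599 := ndS (p := 1518) (l := 4) rfl N1518 D3599
theorem N3073 : nd 3073 = n3600 := ndS (p := 1519) (l := 0) rfl N1519 D3600
theorem N3074 : nd 3074 = n3601 := ndS (p := 1519) (l := 2) rfl N1519 D3601
theorem N3075 : nd 3075 = n3602 := ndS (p := 1519) (l := 3) rfl N1519 D3602
theorem N3076 : nd 3076 = n3604 := ndS (p := 1520) (l := 4) rfl N1520 D3604
theorem N3077 : nd 3077 = n3607 := ndS (p := 1523) (l := 2) rfl N1523 D3607
theorem N3078 : nd 3078 = n3608 := ndS (p := 1523) (l := 3) rfl N1523 D3608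
theorem N3079 : nd 3079 = n3609 := ndS (p := 1524) (l := 3) rfl N1524 D3609
theorem N3080 : nd 3080 = n3610 := ndS (p := 1525) (l := 0) rfl N1525 D3610
theorem N3081 : nd 3081 = n3612 := ndS (p := 1526) (l := 1) rfl N1526 D3612
theorem N3082 : nd 3082 = n3613 := ndS (p := 1526) (l := 3) rfl N1526 D3613
theorem N3083 : nd 3083 = n3614 := ndS (p := 1526) (l := 4) rfl N1526 D3614
theorem N3084 : nd 3084 = n3619 := ndS (p := 1528) (l := 0) rfl N1528 D3619
theorem N3085 : nd 3085 = n3620 := ndS (p := 1528) (l := 2) rfl N1528 D3620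
theorem N3086 : nd 3086 = n3621 := ndS (p := 1528) (l := 4) rfl N1528 D3621
theorem N3087 : nd 3087 = n3622 := ndS (p := 1529) (l := 1) rfl N1529 D3622
theorem N3088 : nd 3088 = n3623 := ndS (p := 1529) (l := 4) rfl N1529 D3623
theorem N3089 : nd 3089 = n3624 := ndS (p := 1530) (l := 2) rfl N1530 D3624
theorem N3090 : nd 3090 = n3628 := ndS (p := 1531) (l := 3) rfl N1531 D3628
theorem N3091 : nd 3091 = n3629 := ndS (p := 1531) (l := 4) rfl N1531 D3629
theorem N3092 : nd 3092 = n3630 := ndS (p := 1532) (l := 4) rfl N1532 D3630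
theorem N3093 : nd 3093 = n3631 := ndS (p := 1533) (l := 2) rfl N1533 D3631
theorem N3094 : nd 3094 = n3632 := ndS (p := 1533) (l := 3) rfl N1533 D3632
theorem N3095 : nd 3095 = n3633 := ndS (p := 1534) (l := 4) rfl N1534 D3633
theorem N3096 : nd 3096 = n3634 := ndS (p := 1535) (l := 3) rfl N1535 D3634
theorem N3097 : nd 3097 = n3635 := ndS (p := 1536) (l := 2) rfl N1536 D3635
theorem N3098 : nd 3098 = n3636 := ndS (p := 1537) (l := 1) rfl N1537 D3636
theorem N3099 : nd 3099 = n3637 := ndS (p := 1537) (l := 3) rfl N1537 D3637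
theorem N3100 : nd 3100 = n3638 := ndS (p := 1538) (l := 4) rfl N1538 D3638
theorem N3101 : nd 3101 = n3639 := ndS (p := 1539) (l := 4) rfl N1539 D3639
theorem N3102 : nd 3102 = n3640 := ndS (p := 1540) (l := 3) rfl N1540 D3640
theorem N3103 : nd 3103 = n3641 := ndS (p := 1540) (l := 4) rfl N1540 D3641
theorem N3104 : nd 3104 = n3642 := ndS (p := 1541) (l := 0) rfl N1541 D3642
theorem N3105 : nd 3105 = n3643 := ndS (p := 1541) (l := 4) rfl N1541 D3643
theorem N3106 : nd 3106 = n3644 := ndS (p := 1542) (l := 2) rfl N1542 D3644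
theorem N3107 : nd 3107 = n3645 := ndS (p := 1542) (l := 3) rfl N1542 D3645
theorem N3108 : nd 3108 = n3646 := ndS (p := 1544) (l := 4) rfl N1544 D3646
theorem N3109 : nd 3109 = n3647 := ndS (p := 1545) (l := 1) rfl N1545 D3647
theorem N3110 : nd 3110 = n3648 := ndS (p := 1545) (l := 4) rfl N1545 D3648
theorem N3111 : nd 3111 = n3649 := ndS (p := 1546) (l := 1) rfl N1546 D3649
theorem N3112 : nd 3112 = n3651 := ndS (p := 1547) (l := 0) rfl N1547 D3651
theorem N3113 : nd 3113 = n3652 := ndS (p := 1547) (l := 2) rfl N1547 D3652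
theorem N3114 : nd 3114 = n3653 := ndS (p := 1547) (l := 3) rfl N1547 D3653
theorem N3115 : nd 3115 = n3654 := ndS (p := 1547) (l := 4) rfl N1547 D3654
theorem N3116 : nd 3116 = n3655 := ndS (p := 1548) (l := 4) rfl N1548 D3655
theorem N3117 : nd 3117 = n3658 := ndS (p := 1551) (l := 0) rfl N1551 D3658
theorem N3118 : nd 3118 = n3659 := ndS (p := 1551) (l := 2) rfl N1551 D3659
theorem N3119 : nd 3119 = n3660 := ndS (p := 1551) (l := 3) rfl N1551 D3660
theorem N3120 : nd 3120 = n3661 := ndS (p := 1551) (l := 4) rfl N1551 D3661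
theorem N3121 : nd 3121 = n3662 := ndS (p := 1552) (l := 4) rfl N1552 D3662
theorem N3122 : nd 3122 = n3663 := ndS (p := 1553) (l := 3) rfl N1553 D3663
theorem N3123 : nd 3123 = n3664 := ndS (p := 1554) (l := 1) rfl N1554 D3664
theorem N3124 : nd 3124 = n3665 := ndS (p := 1554) (l := 3) rfl N1554 D3665
theorem N3125 : nd 3125 = n3667 := ndS (p := 1555) (l := 0) rfl N1555 D3667
theorem N3126 : nd 3126 = n3668 := ndS (p := 1555) (l := 3) rfl N1555 D3668
theorem N3127 : nd 3127 = n3670 := ndS (p := 1556) (l := 0) rfl N1556 D3670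
theorem N3128 : nd 3128 = n3674 := ndS (p := 1557) (l := 1) rfl N1557 D3674
theorem N3129 : nd 3129 = n3675 := ndS (p := 1557) (l := 4) rfl N1557 D3675
theorem N3130 : nd 3130 = n3683 := ndS (p := 1559) (l := 3) rfl N1559 D3683
theorem N3131 : nd 3131 = n3684 := ndS (p := 1560) (l := 3) rfl N1560 D3684
theorem N3132 : nd 3132 = n3685 := ndS (p := 1561) (l := 0) rfl N1561 D3685
theorem N3133 : nd 3133 = n3686 := ndS (p := 1561) (l := 4) rfl N1561 D3686
theorem N3134 : nd 3134 = n3687 := ndS (p := 1562) (l := 3) rfl N1562 D3687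
theorem N3135 : nd 3135 = n3692 := ndS (p := 1565) (l := 3) rfl N1565 D3692
theorem N3136 : nd 3136 = n3693 := ndS (p := 1566) (l := 0) rfl N1566 D3693
theorem N3137 : nd 3137 = n3694 := ndS (p := 1566) (l := 4) rfl N1566 D3694
theorem N3138 : nd 3138 = n3695 := ndS (p := 1567) (l := 1) rfl N1567 D3695
theorem N3139 : nd 3139 = n3696 := ndS (p := 1567) (l := 3) rfl N1567 D3696
theorem N3140 : nd 3140 = n3697 := ndS (p := 1568) (l := 0) rfl N1568 D3697
theorem N3141 : nd 3141 = n3699 := ndS (p := 1569) (l := 1) rfl N1569 D3699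
theorem N3142 : nd 3142 = n3700 := ndS (p := 1569) (l := 3) rfl N1569 D3700
theorem N3143 : nd 3143 = n3704 := ndS (p := 1570) (l := 0) rfl N1570 D3704
theorem N3144 : nd 3144 = n3705 := ndS (p := 1570) (l := 2) rfl N1570 D3705
theorem N3145 : nd 3145 = n3706 := ndS (p := 1570) (l := 3) rfl N1570 D3706
theorem N3146 : nd 3146 = n3707 := ndS (p := 1570) (l := 4) rfl N1570 D3707
theorem N3147 : nd 3147 = n3708 := ndS (p := 1571) (l := 1) rfl N1571 D3708
theorem N3148 : nd 3148 = n3722 := ndS (p := 1574) (l := 2) rfl N1574 D3722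
theorem N3149 : nd 3149 = n3723 := ndS (p := 1574) (l := 4) rfl N1574 D3723
theorem N3150 : nd 3150 = n3724 := ndS (p := 1575) (l := 1) rfl N1575 D3724
theorem N3151 : nd 3151 = n3726 := ndS (p := 1576) (l := 2) rfl N1576 D3726
theorem N3152 : nd 3152 = n3727 := ndS (p := 1577) (l := 0) rfl N1577 D3727
theorem N3153 : nd 3153 = n3728 := ndS (p := 1577) (l := 2) rfl N1577 D3728
theorem N3154 : nd 3154 = n3729 := ndS (p := 1577) (l := 4) rfl N1577 D3729
theorem N3155 : nd 3155 = n3732 := ndS (p := 1579) (l := 1) rfl N1579 D3732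
theorem N3156 : nd 3156 = n3741 := ndS (p := 1580) (l := 2) rfl N1580 D3741
theorem N3157 : nd 3157 = n3742 := ndS (p := 1580) (l := 3) rfl N1580 D3742
theorem N3158 : nd 3158 = n3743 := ndS (p := 1580) (l := 4) rfl N1580 D3743
theorem N3159 : nd 3159 = n3744 := ndS (p := 1581) (l := 4) rfl N1581 D3744
theorem N3160 : nd 3160 = n3745 := ndS (p := 1582) (l := 2) rfl N1582 D3745
theorem N3161 : nd 3161 = n3746 := ndS (p := 1583) (l := 2) rfl N1583 D3746
theorem N3162 : nd 3162 = n3747 := ndS (p := 1583) (l := 4) rfl N1583 D3747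
theorem N3163 : nd 3163 = n3748 := ndS (p := 1584) (l := 2) rfl N1584 D3748
theorem N3164 : nd 3164 = n3749 := ndS (p := 1585) (l := 0) rfl N1585 D3749
theorem N3165 : nd 3165 = n3750 := ndS (p := 1585) (l := 1) rfl N1585 D3750
theorem N3166 : nd 3166 = n3751 := ndS (p := 1585) (l := 3) rfl N1585 D3751
theorem N3167 : nd 3167 = n3752 := ndS (p := 1585) (l := 4) rfl N1585 D3752
theorem N3168 : nd 3168 = n3753 := ndS (p := 1586) (l := 0) rfl N1586 D3753
theorem N3169 : nd 3169 = n3754 := ndS (p := 1586) (l := 4) rfl N1586 D3754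
theorem N3170 : nd 3170 = n3755 := ndS (p := 1587) (l := 4) rfl N1587 D3755
theorem N3171 : nd 3171 = n3756 := ndS (p := 1588) (l := 4) rfl N1588 D3756
theorem N3172 : nd 3172 = n3757 := ndS (p := 1589) (l := 4) rfl N1589 D3757
theorem N3173 : nd 3173 = n3758 := ndS (p := 1590) (l := 2) rfl N1590 D3758
theorem N3174 : nd 3174 = n3759 := ndS (p := 1590) (l := 3) rfl N1590 D3759
theorem N3175 : nd 3175 = n3760 := ndS (p := 1591) (l := 4) rfl N1591 D3760
theorem N3176 : nd 3176 = n3761 := ndS (p := 1592) (l := 4) rfl N1592 D3761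
theorem N3177 : nd 3177 = n3762 := ndS (p := 1593) (l := 4) rfl N1593 D3762
theorem N3178 : nd 3178 = n3763 := ndS (p := 1594) (l := 2) rfl N1594 D3763
theorem N3179 : nd 3179 = n3764 := ndS (p := 1594) (l := 3) rfl N1594 D3764
theorem N3180 : nd 3180 = n3765 := ndS (p := 1595) (l := 1) rfl N1595 D3765
theorem N3181 : nd 3181 = n3766 := ndS (p := 1595) (l := 2) rfl N1595 D3766
theorem N3182 : nd 3182 = n3767 := ndS (p := 1595) (l := 3) rfl N1595 D3767
theorem N3183 : nd 3183 = n3768 := ndS (p := 1595) (l := 4) rfl N1595 D3768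
theorem N3184 : nd 3184 = n3769 := ndS (p := 1596) (l := 2) rfl N1596 D3769
theorem N3185 : nd 3185 = n3770 := ndS (p := 1596) (l := 3) rfl N1596 D3770
theorem N3186 : nd 3186 = n3771 := ndS (p := 1597) (l := 1) rfl N1597 D3771
theorem N3187 : nd 3187 = n3772 := ndS (p := 1597) (l := 3) rfl N1597 D3772
theorem N3188 : nd 3188 = n3773 := ndS (p := 1597) (l := 4) rfl N1597 D3773
theorem N3189 : nd 3189 = n3774 := ndS (p := 1598) (l := 0) rfl N1598 D3774
theorem N3190 : nd 3190 = n3775 := ndS (p := 1598) (l := 4) rfl N1598 D3775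
theorem N3191 : nd 3191 = n3776 := ndS (p := 1599) (l := 4) rfl N1599 D3776
theorem N3192 : nd 3192 = n3777 := ndS (p := 1600) (l := 2) rfl N1600 D3777
theorem N3193 : nd 3193 = n3778 := ndS (p := 1601) (l := 0) rfl N1601 D3778
theorem N3194 : nd 3194 = n3779 := ndS (p := 1601) (l := 1) rfl N1601 D3779
theorem N3195 : nd 3195 = n3780 := ndS (p := 1601) (l := 4) rfl N1601 D3780
theorem N3196 : nd 3196 = n3781 := ndS (p := 1602) (l := 1) rfl N1602 D3781
theorem N3197 : nd 3197 = n3782 := ndS (p := 1602) (l := 3) rfl N1602 D3782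
theorem N3198 : nd 3198 = n3783 := ndS (p := 1602) (l := 4) rfl N1602 D3783
theorem N3199 : nd 3199 = n3784 := ndS (p := 1603) (l := 0) rfl N1603 D3784
theorem N3200 : nd 3200 = n3785 := ndS (p := 1603) (l := 2) rfl N1603 D3785
theorem N3201 : nd 3201 = n3786 := ndS (p := 1603) (l := 3) rfl N1603 D3786
theorem N3202 : nd 3202 = n3787 := ndS (p := 1603) (l := 4) rfl N1603 D3787
theorem N3203 : nd 3203 = n3788 := ndS (p := 1604) (l := 0) rfl N1604 D3788
theorem N3204 : nd 3204 = n3789 := ndS (p := 1604) (l := 4) rfl N1604 D3789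
theorem N3205 : nd 3205 = n3791 := ndS (p := 1606) (l := 2) rfl N1606 D3791
theorem N3206 : nd 3206 = n3792 := ndS (p := 1606) (l := 4) rfl N1606 D3792
theorem N3207 : nd 3207 = n3794 := ndS (p := 1608) (l := 4) rfl N1608 D3794
theorem N3208 : nd 3208 = n3795 := ndS (p := 1609) (l := 4) rfl N1609 D3795
theorem N3209 : nd 3209 = n3796 := ndS (p := 1610) (l := 0) rfl N1610 D3796
theorem N3210 : nd 3210 = n3797 := ndS (p := 1610) (l := 4) rfl N1610 D3797
theorem N3211 : nd 3211 = n3798 := ndS (p := 1611) (l := 2) rfl N1611 D3798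
theorem N3212 : nd 3212 = n3799 := ndS (p := 1611) (l := 3) rfl N1611 D3799
theorem N3213 : nd 3213 = n3800 := ndS (p := 1612) (l := 0) rfl N1612 D3800
theorem N3214 : nd 3214 = n3801 := ndS (p := 1612) (l := 4) rfl N1612 D3801
theorem N3215 : nd 3215 = n3802 := ndS (p := 1613) (l := 2) rfl N1613 D3802
theorem N3216 : nd 3216 = n3803 := ndS (p := 1613) (l := 3) rfl N1613 D3803
theorem N3217 : nd 3217 = n3804 := ndS (p := 1614) (l := 2) rfl N1614 D3804
theorem N3218 : nd 3218 = n3805 := ndS (p := 1614) (l := 4) rfl N1614 D3805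
theorem N3219 : nd 3219 = n3806 := ndS (p := 1615) (l := 2) rfl N1615 D3806
theorem N3220 : nd 3220 = n3807 := ndS (p := 1616) (l := 1) rfl N1616 D3807
theorem N3221 : nd 3221 = n3808 := ndS (p := 1616) (l := 3) rfl N1616 D3808
theorem N3222 : nd 3222 = n3809 := ndS (p := 1616) (l := 4) rfl N1616 D3809
theorem N3223 : nd 3223 = n3810 := ndS (p := 1617) (l := 0) rfl N1617 D3810
theorem N3224 : nd 3224 = n3811 := ndS (p := 1617) (l := 4) rfl N1617 D3811
theorem N3225 : nd 3225 = n3812 := ndS (p := 1619) (l := 0) rfl N1619 D3812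
theorem N3226 : nd 3226 = n3813 := ndS (p := 1619) (l := 2) rfl N1619 D3813
theorem N3227 : nd 3227 = n3814 := ndS (p := 1619) (l := 4) rfl N1619 D3814
theorem N3228 : nd 3228 = n3815 := ndS (p := 1621) (l := 1) rfl N1621 D3815
theorem N3229 : nd 3229 = n3816 := ndS (p := 1621) (l := 2) rfl N1621 D3816
theorem N3230 : nd 3230 = n3817 := ndS (p := 1621) (l := 3) rfl N1621 D3817
theorem N3231 : nd 3231 = n3818 := ndS (p := 1621) (l := 4) rfl N1621 D3818
theorem N3232 : nd 3232 = n3819 := ndS (p := 1622) (l := 0) rfl N1622 D3819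
theorem N3233 : nd 3233 = n3820 := ndS (p := 1622) (l := 3) rfl N1622 D3820
theorem N3234 : nd 3234 = n3821 := ndS (p := 1622) (l := 4) rfl N1622 D3821
theorem N3235 : nd 3235 = n3822 := ndS (p := 1623) (l := 0) rfl N1623 D3822
theorem N3236 : nd 3236 = n3823 := ndS (p := 1623) (l := 4) rfl N1623 D3823
theorem N3237 : nd 3237 = n3824 := ndS (p := 1624) (l := 2) rfl N1624 D3824
theorem N3238 : nd 3238 = n3828 := ndS (p := 1626) (l := 1) rfl N1626 D3828
theorem N3239 : nd 3239 = n3829 := ndS (p := 1626) (l := 2) rfl N1626 D3829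
theorem N3240 : nd 3240 = n3830 := ndS (p := 1626) (l := 3) rfl N1626 D3830
theorem N3241 : nd 3241 = n3831 := ndS (p := 1626) (l := 4) rfl N1626 D3831
theorem N3242 : nd 3242 = n3832 := ndS (p := 1627) (l := 0) rfl N1627 D3832
theorem N3243 : nd 3243 = n3833 := ndS (p := 1627) (l := 1) rfl N1627 D3833
theorem N3244 : nd 3244 = n3834 := ndS (p := 1627) (l := 3) rfl N1627 D3834
theorem N3245 : nd 3245 = n3835 := ndS (p := 1627) (l := 4) rfl N1627 D3835
theorem N3246 : nd 3246 = n3836 := ndS (p := 1628) (l := 0) rfl N1628 D3836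
theorem N3247 : nd 3247 = n3837 := ndS (p := 1628) (l := 4) rfl N1628 D3837
theorem N3248 : nd 3248 = n3838 := ndS (p := 1629) (l := 2) rfl N1629 D3838
theorem N3249 : nd 3249 = n3839 := ndS (p := 1629) (l := 3) rfl N1629 D3839
theorem N3250 : nd 3250 = n3841 := ndS (p := 1632) (l := 3) rfl N1632 D3841
theorem N3251 : nd 3251 = n3842 := ndS (p := 1633) (l := 0) rfl N1633 D3842
theorem N3252 : nd 3252 = n3843 := ndS (p := 1633) (l := 1) rfl N1633 D3843
theorem N3253 : nd 3253 = n3844 := ndS (p := 1633) (l := 3) rfl N1633 D3844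
theorem N3254 : nd 3254 = n3845 := ndS (p := 1633) (l := 4) rfl N1633 D3845
theorem N3255 : nd 3255 = n3846 := ndS (p := 1634) (l := 0) rfl N1634 D3846
theorem N3256 : nd 3256 = n3847 := ndS (p := 1634) (l := 4) rfl N1634 D3847
theorem N3257 : nd 3257 = n3848 := ndS (p := 1635) (l := 2) rfl N1635 D3848
theorem N3258 : nd 3258 = n3849 := ndS (p := 1635) (l := 3) rfl N1635 D3849
theorem N3259 : nd 3259 = n3850 := ndS (p := 1636) (l := 1) rfl N1636 D3850
theorem N3260 : nd 3260 = n3851 := ndS (p := 1636) (l := 2) rfl N1636 D3851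
theorem N3261 : nd 3261 = n3852 := ndS (p := 1636) (l := 3) rfl N1636 D3852
theorem N3262 : nd 3262 = n3853 := ndS (p := 1636) (l := 4) rfl N1636 D3853
theorem N3263 : nd 3263 = n3854 := ndS (p := 1637) (l := 0) rfl N1637 D3854
theorem N3264 : nd 3264 = n3855 := ndS (p := 1637) (l := 4) rfl N1637 D3855
theorem N3265 : nd 3265 = n3856 := ndS (p := 1638) (l := 2) rfl N1638 D3856
theorem N3266 : nd 3266 = n3858 := ndS (p := 1639) (l := 1) rfl N1639 D3858
theorem N3267 : nd 3267 = n3859 := ndS (p := 1639) (l := 2) rfl N1639 D3859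
theorem N3268 : nd 3268 = n3860 := ndS (p := 1639) (l := 3) rfl N1639 D3860
theorem N3269 : nd 3269 = n3861 := ndS (p := 1639) (l := 4) rfl N1639 D3861
theorem N3270 : nd 3270 = n3862 := ndS (p := 1640) (l := 2) rfl N1640 D3862
theorem N3271 : nd 3271 = n3863 := ndS (p := 1641) (l := 0) rfl N1641 D3863
theorem N3272 : nd 3272 = n3871 := ndS (p := 1642) (l := 0) rfl N1642 D3871
theorem N3273 : nd 3273 = n3872 := ndS (p := 1643) (l := 2) rfl N1643 D3872
theorem N3274 : nd 3274 = n3873 := ndS (p := 1643) (l := 3) rfl N1643 D3873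
theorem N3275 : nd 3275 = n3874 := ndS (p := 1643) (l := 4) rfl N1643 D3874
theorem N3276 : nd 3276 = n3875 := ndS (p := 1644) (l := 0) rfl N1644 D3875
theorem N3277 : nd 3277 = n3876 := ndS (p := 1644) (l := 3) rfl N1644 D3876
theorem N3278 : nd 3278 = n3877 := ndS (p := 1645) (l := 0) rfl N1645 D3877
theorem N3279 : nd 3279 = n3878 := ndS (p := 1645) (l := 4) rfl N1645 D3878
theorem N3280 : nd 3280 = n3879 := ndS (p := 1646) (l := 2) rfl N1646 D3879
theorem N3281 : nd 3281 = n3880 := ndS (p := 1646) (l := 3) rfl N1646 D3880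
theorem N3282 : nd 3282 = n3881 := ndS (p := 1647) (l := 2) rfl N1647 D3881
theorem N3283 : nd 3283 = n3882 := ndS (p := 1647) (l := 3) rfl N1647 D3882
theorem N3284 : nd 3284 = n3883 := ndS (p := 1647) (l := 4) rfl N1647 D3883
theorem N3285 : nd 3285 = n3884 := ndS (p := 1648) (l := 2) rfl N1648 D3884
theorem N3286 : nd 3286 = n3885 := ndS (p := 1649) (l := 0) rfl N1649 D3885
theorem N3287 : nd 3287 = n3886 := ndS (p := 1649) (l := 1) rfl N1649 D3886
theorem N3288 : nd 3288 = n3887 := ndS (p := 1649) (l := 3) rfl N1649 D3887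
theorem N3289 : nd 3289 = n3888 := ndS (p := 1649) (l := 4) rfl N1649 D3888
theorem N3290 : nd 3290 = n3889 := ndS (p := 1650) (l := 0) rfl N1650 D3889
theorem N3291 : nd 3291 = n3890 := ndS (p := 1651) (l := 0) rfl N1651 D3890
theorem N3292 : nd 3292 = n3891 := ndS (p := 1651) (l := 3) rfl N1651 D3891
theorem N3293 : nd 3293 = n3892 := ndS (p := 1651) (l := 4) rfl N1651 D3892
theorem N3294 : nd 3294 = n3893 := ndS (p := 1652) (l := 3) rfl N1652 D3893
theorem N3295 : nd 3295 = n3894 := ndS (p := 1652) (l := 4) rfl N1652 D3894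
theorem N3296 : nd 3296 = n3895 := ndS (p := 1653) (l := 4) rfl N1653 D3895
theorem N3297 : nd 3297 = n3896 := ndS (p := 1654) (l := 2) rfl N1654 D3896
theorem N3298 : nd 3298 = n3897 := ndS (p := 1654) (l := 3) rfl N1654 D3897
theorem N3299 : nd 3299 = n3898 := ndS (p := 1655) (l := 1) rfl N1655 D3898
theorem N3300 : nd 3300 = n3899 := ndS (p := 1655) (l := 2) rfl N1655 D3899
theorem N3301 : nd 3301 = n3900 := ndS (p := 1655) (l := 3) rfl N1655 D3900
theorem N3302 : nd 3302 = n3901 := ndS (p := 1655) (l := 4) rfl N1655 D3901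
theorem N3303 : nd 3303 = n3902 := ndS (p := 1656) (l := 2) rfl N1656 D3902
theorem N3304 : nd 3304 = n3907 := ndS (p := 1658) (l := 0) rfl N1658 D3907
theorem N3305 : nd 3305 = n3909 := ndS (p := 1658) (l := 3) rfl N1658 D3909
theorem N3306 : nd 3306 = n3910 := ndS (p := 1658) (l := 4) rfl N1658 D3910
theorem N3307 : nd 3307 = n3911 := ndS (p := 1659) (l := 1) rfl N1659 D3911
theorem N3308 : nd 3308 = n3912 := ndS (p := 1659) (l := 3) rfl N1659 D3912
theorem N3309 : nd 3309 = n3913 := ndS (p := 1659) (l := 4) rfl N1659 D3913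
theorem N3310 : nd 3310 = n3914 := ndS (p := 1661) (l := 2) rfl N1661 D3914
theorem N3311 : nd 3311 = n3915 := ndS (p := 1662) (l := 0) rfl N1662 D3915
theorem N3312 : nd 3312 = n3918 := ndS (p := 1663) (l := 3) rfl N1663 D3918
theorem N3313 : nd 3313 = n3919 := ndS (p := 1664) (l := 2) rfl N1664 D3919
theorem N3314 : nd 3314 = n3920 := ndS (p := 1664) (l := 3) rfl N1664 D3920
theorem N3315 : nd 3315 = n3921 := ndS (p := 1664) (l := 4) rfl N1664 D3921
theorem N3316 : nd 3316 = n3922 := ndS (p := 1665) (l := 0) rfl N1665 D3922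
theorem N3317 : nd 3317 = n3923 := ndS (p := 1665) (l := 1) rfl N1665 D3923
theorem N3318 : nd 3318 = n3924 := ndS (p := 1665) (l := 3) rfl N1665 D3924
theorem N3319 : nd 3319 = n3925 := ndS (p := 1665) (l := 4) rfl N1665 D3925
theorem N3320 : nd 3320 = n3926 := ndS (p := 1666) (l := 0) rfl N1666 D3926
theorem N3321 : nd 3321 = n3927 := ndS (p := 1667) (l := 2) rfl N1667 D3927
theorem N3322 : nd 3322 = n3936 := ndS (p := 1668) (l := 0) rfl N1668 D3936
theorem N3323 : nd 3323 = n3937 := ndS (p := 1668) (l := 1) rfl N1668 D3937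
theorem N3324 : nd 3324 = n3938 := ndS (p := 1668) (l := 4) rfl N1668 D3938
theorem N3325 : nd 3325 = n3939 := ndS (p := 1669) (l := 2) rfl N1669 D3939
theorem N3326 : nd 3326 = n3940 := ndS (p := 1670) (l := 1) rfl N1670 D3940
theorem N3327 : nd 3327 = n3941 := ndS (p := 1670) (l := 2) rfl N1670 D3941
theorem N3328 : nd 3328 = n3942 := ndS (p := 1670) (l := 3) rfl N1670 D3942
theorem N3329 : nd 3329 = n3943 := ndS (p := 1670) (l := 4) rfl N1670 D3943
theorem N3330 : nd 3330 = n3944 := ndS (p := 1671) (l := 0) rfl N1671 D3944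
theorem N3331 : nd 3331 = n3945 := ndS (p := 1671) (l := 2) rfl N1671 D3945
theorem N3332 : nd 3332 = n3946 := ndS (p := 1671) (l := 4) rfl N1671 D3946
theorem N3333 : nd 3333 = n3947 := ndS (p := 1672) (l := 2) rfl N1672 D3947
theorem N3334 : nd 3334 = n3949 := ndS (p := 1673) (l := 0) rfl N1673 D3949
theorem N3335 : nd 3335 = n3950 := ndS (p := 1673) (l := 1) rfl N1673 D3950
theorem N3336 : nd 3336 = n3952 := ndS (p := 1674) (l := 1) rfl N1674 D3952
theorem N3337 : nd 3337 = n3953 := ndS (p := 1674) (l := 2) rfl N1674 D3953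
theorem N3338 : nd 3338 = n3954 := ndS (p := 1674) (l := 3) rfl N1674 D3954
theorem N3339 : nd 3339 = n3955 := ndS (p := 1674) (l := 4) rfl N1674 D3955
theorem N3340 : nd 3340 = n3956 := ndS (p := 1675) (l := 0) rfl N1675 D3956
theorem N3341 : nd 3341 = n3957 := ndS (p := 1675) (l := 4) rfl N1675 D3957
theorem N3342 : nd 3342 = n3958 := ndS (p := 1676) (l := 2) rfl N1676 D3958
theorem N3343 : nd 3343 = n3959 := ndS (p := 1677) (l := 0) rfl N1677 D3959
theorem N3344 : nd 3344 = n3960 := ndS (p := 1677) (l := 2) rfl N1677 D3960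
theorem N3345 : nd 3345 = n3978 := ndS (p := 1678) (l := 3) rfl N1678 D3978
theorem N3346 : nd 3346 = n3979 := ndS (p := 1678) (l := 4) rfl N1678 D3979
theorem N3347 : nd 3347 = n3980 := ndS (p := 1679) (l := 4) rfl N1679 D3980
theorem N3348 : nd 3348 = n3981 := ndS (p := 1680) (l := 2) rfl N1680 D3981
theorem N3349 : nd 3349 = n3982 := ndS (p := 1680) (l := 3) rfl N1680 D3982
theorem N3350 : nd 3350 = n3983 := ndS (p := 1681) (l := 3) rfl N1681 D3983
theorem N3351 : nd 3351 = n3984 := ndS (p := 1681) (l := 4) rfl N1681 D3984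
theorem N3352 : nd 3352 = n3985 := ndS (p := 1682) (l := 4) rfl N1682 D3985
theorem N3353 : nd 3353 = n3986 := ndS (p := 1683) (l := 2) rfl N1683 D3986
theorem N3354 : nd 3354 = n3987 := ndS (p := 1683) (l := 3) rfl N1683 D3987
theorem N3355 : nd 3355 = n3988 := ndS (p := 1684) (l := 2) rfl N1684 D3988
theorem N3356 : nd 3356 = n3989 := ndS (p := 1684) (l := 4) rfl N1684 D3989
theorem N3357 : nd 3357 = n3990 := ndS (p := 1685) (l := 2) rfl N1685 D3990
theorem N3358 : nd 3358 = n3991 := ndS (p := 1685) (l := 3) rfl N1685 D3991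
theorem N3359 : nd 3359 = n3992 := ndS (p := 1686) (l := 1) rfl N1686 D3992
theorem N3360 : nd 3360 = n3993 := ndS (p := 1686) (l := 3) rfl N1686 D3993
theorem N3361 : nd 3361 = n3994 := ndS (p := 1686) (l := 4) rfl N1686 D3994
theorem N3362 : nd 3362 = n3995 := ndS (p := 1687) (l := 0) rfl N1687 D3995
theorem N3363 : nd 3363 = n3996 := ndS (p := 1687) (l := 4) rfl N1687 D3996
theorem N3364 : nd 3364 = n3997 := ndS (p := 1688) (l := 1) rfl N1688 D3997
theorem N3365 : nd 3365 = n3998 := ndS (p := 1688) (l := 4) rfl N1688 D3998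
theorem N3366 : nd 3366 = n3999 := ndS (p := 1689) (l := 2) rfl N1689 D3999
theorem N3367 : nd 3367 = n4000 := ndS (p := 1690) (l := 0) rfl N1690 D4000
theorem N3368 : nd 3368 = n4001 := ndS (p := 1690) (l := 1) rfl N1690 D4001
theorem N3369 : nd 3369 = n4002 := ndS (p := 1690) (l := 4) rfl N1690 D4002
theorem N3370 : nd 3370 = n4003 := ndS (p := 1691) (l := 1) rfl N1691 D4003
theorem N3371 : nd 3371 = n4004 := ndS (p := 1691) (l := 3) rfl N1691 D4004
theorem N3372 : nd 3372 = n4005 := ndS (p := 1691) (l := 4) rfl N1691 D4005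
theorem N3373 : nd 3373 = n4006 := ndS (p := 1692) (l := 2) rfl N1692 D4006
theorem N3374 : nd 3374 = n4007 := ndS (p := 1692) (l := 3) rfl N1692 D4007
theorem N3375 : nd 3375 = n4008 := ndS (p := 1692) (l := 4) rfl N1692 D4008
theorem N3376 : nd 3376 = n4009 := ndS (p := 1693) (l := 0) rfl N1693 D4009
theorem N3377 : nd 3377 = n4010 := ndS (p := 1693) (l := 4) rfl N1693 D4010
theorem N3378 : nd 3378 = n4012 := ndS (p := 1695) (l := 2) rfl N1695 D4012
theorem N3379 : nd 3379 = n4013 := ndS (p := 1695) (l := 4) rfl N1695 D4013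
theorem N3380 : nd 3380 = n4015 := ndS (p := 1697) (l := 4) rfl N1697 D4015
theorem N3381 : nd 3381 = n4016 := ndS (p := 1698) (l := 2) rfl N1698 D4016
theorem N3382 : nd 3382 = n4017 := ndS (p := 1699) (l := 3) rfl N1699 D4017
theorem N3383 : nd 3383 = n4018 := ndS (p := 1699) (l := 4) rfl N1699 D4018
theorem N3384 : nd 3384 = n4019 := ndS (p := 1700) (l := 4) rfl N1700 D4019
theorem N3385 : nd 3385 = n4020 := ndS (p := 1701) (l := 3) rfl N1701 D4020
theorem N3386 : nd 3386 = n4021 := ndS (p := 1702) (l := 2) rfl N1702 D4021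
theorem N3387 : nd 3387 = n4022 := ndS (p := 1702) (l := 3) rfl N1702 D4022
theorem N3388 : nd 3388 = n4023 := ndS (p := 1703) (l := 1) rfl N1703 D4023
theorem N3389 : nd 3389 = n4024 := ndS (p := 1703) (l := 3) rfl N1703 D4024
theorem N3390 : nd 3390 = n4025 := ndS (p := 1703) (l := 4) rfl N1703 D4025
theorem N3391 : nd 3391 = n4026 := ndS (p := 1704) (l := 0) rfl N1704 D4026
theorem N3392 : nd 3392 = n4027 := ndS (p := 1704) (l := 4) rfl N1704 D4027
theorem N3393 : nd 3393 = n4028 := ndS (p := 1705) (l := 2) rfl N1705 D4028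
theorem N3394 : nd 3394 = n4029 := ndS (p := 1706) (l := 1) rfl N1706 D4029
theorem N3395 : nd 3395 = n4030 := ndS (p := 1706) (l := 4) rfl N1706 D4030
theorem N3396 : nd 3396 = n4031 := ndS (p := 1707) (l := 2) rfl N1707 D4031
theorem N3397 : nd 3397 = n4032 := ndS (p := 1707) (l := 4) rfl N1707 D4032
theorem N3398 : nd 3398 = n4033 := ndS (p := 1708) (l := 1) rfl N1708 D4033
theorem N3399 : nd 3399 = n4034 := ndS (p := 1708) (l := 3) rfl N1708 D4034
theorem N3400 : nd 3400 = n4035 := ndS (p := 1708) (l := 4) rfl N1708 D4035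
theorem N3401 : nd 3401 = n4036 := ndS (p := 1709) (l := 4) rfl N1709 D4036
theorem N3402 : nd 3402 = n4037 := ndS (p := 1710) (l := 2) rfl N1710 D4037
theorem N3403 : nd 3403 = n4038 := ndS (p := 1710) (l := 3) rfl N1710 D4038
theorem N3404 : nd 3404 = n4039 := ndS (p := 1711) (l := 0) rfl N1711 D4039
theorem N3405 : nd 3405 = n4040 := ndS (p := 1711) (l := 1) rfl N1711 D4040
theorem N3406 : nd 3406 = n4041 := ndS (p := 1711) (l := 3) rfl N1711 D4041
theorem N3407 : nd 3407 = n4042 := ndS (p := 1711) (l := 4) rfl N1711 D4042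
theorem N3408 : nd 3408 = n4043 := ndS (p := 1713) (l := 2) rfl N1713 D4043
theorem N3409 : nd 3409 = n4044 := ndS (p := 1713) (l := 3) rfl N1713 D4044
theorem N3410 : nd 3410 = n4045 := ndS (p := 1714) (l := 0) rfl N1714 D4045
theorem N3411 : nd 3411 = n4046 := ndS (p := 1714) (l := 4) rfl N1714 D4046
theorem N3412 : nd 3412 = n4047 := ndS (p := 1716) (l := 1) rfl N1716 D4047
theorem N3413 : nd 3413 = n4048 := ndS (p := 1716) (l := 2) rfl N1716 D4048
theorem N3414 : nd 3414 = n4049 := ndS (p := 1716) (l := 4) rfl N1716 D4049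
theorem N3415 : nd 3415 = n4050 := ndS (p := 1718) (l := 3) rfl N1718 D4050
theorem N3416 : nd 3416 = n4051 := ndS (p := 1719) (l := 0) rfl N1719 D4051
theorem N3417 : nd 3417 = n4052 := ndS (p := 1719) (l := 4) rfl N1719 D4052
theorem N3418 : nd 3418 = n4053 := ndS (p := 1720) (l := 1) rfl N1720 D4053
theorem N3419 : nd 3419 = n4054 := ndS (p := 1720) (l := 3) rfl N1720 D4054
theorem N3420 : nd 3420 = n4055 := ndS (p := 1720) (l := 4) rfl N1720 D4055
theorem N3421 : nd 3421 = n4056 := ndS (p := 1722) (l := 0) rfl N1722 D4056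
theorem N3422 : nd 3422 = n4057 := ndS (p := 1722) (l := 2) rfl N1722 D4057
theorem N3423 : nd 3423 = n4058 := ndS (p := 1722) (l := 3) rfl N1722 D4058
theorem N3424 : nd 3424 = n4059 := ndS (p := 1722) (l := 4) rfl N1722 D4059
theorem N3425 : nd 3425 = n4060 := ndS (p := 1723) (l := 4) rfl N1723 D4060
theorem N3426 : nd 3426 = n4061 := ndS (p := 1724) (l := 3) rfl N1724 D4061
theorem N3427 : nd 3427 = n4062 := ndS (p := 1725) (l := 3) rfl N1725 D4062
theorem N3428 : nd 3428 = n4063 := ndS (p := 1725) (l := 4) rfl N1725 D4063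
theorem N3429 : nd 3429 = n4064 := ndS (p := 1727) (l := 2) rfl N1727 D4064
theorem N3430 : nd 3430 = n4065 := ndS (p := 1728) (l := 1) rfl N1728 D4065
theorem N3431 : nd 3431 = n4066 := ndS (p := 1728) (l := 2) rfl N1728 D4066
theorem N3432 : nd 3432 = n4067 := ndS (p := 1728) (l := 3) rfl N1728 D4067
theorem N3433 : nd 3433 = n4068 := ndS (p := 1728) (l := 4) rfl N1728 D4068
theorem N3434 : nd 3434 = n4069 := ndS (p := 1730) (l := 1) rfl N1730 D4069
theorem N3435 : nd 3435 = n4070 := ndS (p := 1730) (l := 4) rfl N1730 D4070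
theorem N3436 : nd 3436 = n4071 := ndS (p := 1731) (l := 2) rfl N1731 D4071
theorem N3437 : nd 3437 = n4072 := ndS (p := 1732) (l := 3) rfl N1732 D4072
theorem N3438 : nd 3438 = n4073 := ndS (p := 1732) (l := 4) rfl N1732 D4073
theorem N3439 : nd 3439 = n4074 := ndS (p := 1733) (l := 4) rfl N1733 D4074
theorem N3440 : nd 3440 = n4075 := ndS (p := 1734) (l := 2) rfl N1734 D4075
theorem N3441 : nd 3441 = n4076 := ndS (p := 1734) (l := 3) rfl N1734 D4076
theorem N3442 : nd 3442 = n4077 := ndS (p := 1735) (l := 3) rfl N1735 D4077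
theorem N3443 : nd 3443 = n4078 := ndS (p := 1735) (l := 4) rfl N1735 D4078
theorem N3444 : nd 3444 = n4079 := ndS (p := 1736) (l := 3) rfl N1736 D4079
theorem N3445 : nd 3445 = n4080 := ndS (p := 1736) (l := 4) rfl N1736 D4080
theorem N3446 : nd 3446 = n4081 := ndS (p := 1737) (l := 0) rfl N1737 D4081
theorem N3447 : nd 3447 = n4082 := ndS (p := 1737) (l := 4) rfl N1737 D4082
theorem N3448 : nd 3448 = n4083 := ndS (p := 1738) (l := 2) rfl N1738 D4083
theorem N3449 : nd 3449 = n4084 := ndS (p := 1738) (l := 3) rfl N1738 D4084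
theorem N3450 : nd 3450 = n4085 := ndS (p := 1739) (l := 2) rfl N1739 D4085
theorem N3451 : nd 3451 = n4086 := ndS (p := 1739) (l := 3) rfl N1739 D4086
theorem N3452 : nd 3452 = n4087 := ndS (p := 1739) (l := 4) rfl N1739 D4087
theorem N3453 : nd 3453 = n4088 := ndS (p := 1740) (l := 2) rfl N1740 D4088
theorem N3454 : nd 3454 = n4089 := ndS (p := 1741) (l := 0) rfl N1741 D4089
theorem N3455 : nd 3455 = n4090 := ndS (p := 1741) (l := 1) rfl N1741 D4090
theorem N3456 : nd 3456 = n4091 := ndS (p := 1741) (l := 3) rfl N1741 D4091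
theorem N3457 : nd 3457 = n4092 := ndS (p := 1741) (l := 4) rfl N1741 D4092
theorem N3458 : nd 3458 = n4093 := ndS (p := 1742) (l := 0) rfl N1742 D4093
theorem N3459 : nd 3459 = n4094 := ndS (p := 1742) (l := 4) rfl N1742 D4094
theorem N3460 : nd 3460 = n4095 := ndS (p := 1743) (l := 4) rfl N1743 D4095
theorem N3461 : nd 3461 = n4096 := ndS (p := 1744) (l := 4) rfl N1744 D4096
theorem N3462 : nd 3462 = n4097 := ndS (p := 1745) (l := 2) rfl N1745 D4097
theorem N3463 : nd 3463 = n4098 := ndS (p := 1745) (l := 3) rfl N1745 D4098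
theorem N3464 : nd 3464 = n4099 := ndS (p := 1746) (l := 1) rfl N1746 D4099
theorem N3465 : nd 3465 = n4100 := ndS (p := 1746) (l := 2) rfl N1746 D4100
theorem N3466 : nd 3466 = n4101 := ndS (p := 1746) (l := 3) rfl N1746 D4101
theorem N3467 : nd 3467 = n4102 := ndS (p := 1746) (l := 4) rfl N1746 D4102
theorem N3468 : nd 3468 = n4103 := ndS (p := 1747) (l := 2) rfl N1747 D4103
theorem N3469 : nd 3469 = n4104 := ndS (p := 1747) (l := 3) rfl N1747 D4104
theorem N3470 : nd 3470 = n4105 := ndS (p := 1748) (l := 1) rfl N1748 D4105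
theorem N3471 : nd 3471 = n4106 := ndS (p := 1748) (l := 3) rfl N1748 D4106
theorem N3472 : nd 3472 = n4107 := ndS (p := 1748) (l := 4) rfl N1748 D4107
theorem N3473 : nd 3473 = n4108 := ndS (p := 1749) (l := 0) rfl N1749 D4108
theorem N3474 : nd 3474 = n4109 := ndS (p := 1749) (l := 4) rfl N1749 D4109
theorem N3475 : nd 3475 = n4110 := ndS (p := 1750) (l := 2) rfl N1750 D4110
theorem N3476 : nd 3476 = n4111 := ndS (p := 1750) (l := 4) rfl N1750 D4111
theorem N3477 : nd 3477 = n4112 := ndS (p := 1751) (l := 3) rfl N1751 D4112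
theorem N3478 : nd 3478 = n4113 := ndS (p := 1751) (l := 4) rfl N1751 D4113
theorem N3479 : nd 3479 = n4114 := ndS (p := 1752) (l := 4) rfl N1752 D4114
theorem N3480 : nd 3480 = n4115 := ndS (p := 1753) (l := 2) rfl N1753 D4115
theorem N3481 : nd 3481 = n4116 := ndS (p := 1753) (l := 3) rfl N1753 D4116
theorem N3482 : nd 3482 = n4117 := ndS (p := 1754) (l := 0) rfl N1754 D4117
theorem N3483 : nd 3483 = n4118 := ndS (p := 1754) (l := 4) rfl N1754 D4118
theorem N3484 : nd 3484 = n4119 := ndS (p := 1755) (l := 1) rfl N1755 D4119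
theorem N3485 : nd 3485 = n4120 := ndS (p := 1755) (l := 3) rfl N1755 D4120
theorem N3486 : nd 3486 = n4121 := ndS (p := 1755) (l := 4) rfl N1755 D4121
theorem N3487 : nd 3487 = n4122 := ndS (p := 1756) (l := 3) rfl N1756 D4122
theorem N3488 : nd 3488 = n4123 := ndS (p := 1757) (l := 0) rfl N1757 D4123
theorem N3489 : nd 3489 = n4124 := ndS (p := 1757) (l := 4) rfl N1757 D4124
theorem N3490 : nd 3490 = n4126 := ndS (p := 1759) (l := 1) rfl N1759 D4126
theorem N3491 : nd 3491 = n4127 := ndS (p := 1759) (l := 2) rfl N1759 D4127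
theorem N3492 : nd 3492 = n4128 := ndS (p := 1759) (l := 4) rfl N1759 D4128
theorem N3493 : nd 3493 = n4130 := ndS (p := 1761) (l := 1) rfl N1761 D4130
theorem N3494 : nd 3494 = n4131 := ndS (p := 1761) (l := 2) rfl N1761 D4131
theorem N3495 : nd 3495 = n4132 := ndS (p := 1761) (l := 3) rfl N1761 D4132
theorem N3496 : nd 3496 = n4133 := ndS (p := 1761) (l := 4) rfl N1761 D4133
theorem N3497 : nd 3497 = n4134 := ndS (p := 1762) (l := 0) rfl N1762 D4134
theorem N3498 : nd 3498 = n4135 := ndS (p := 1762) (l := 4) rfl N1762 D4135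
theorem N3499 : nd 3499 = n4136 := ndS (p := 1763) (l := 2) rfl N1763 D4136
theorem N3500 : nd 3500 = n4137 := ndS (p := 1764) (l := 1) rfl N1764 D4137
theorem N3501 : nd 3501 = n4138 := ndS (p := 1764) (l := 3) rfl N1764 D4138
theorem N3502 : nd 3502 = n4139 := ndS (p := 1765) (l := 0) rfl N1765 D4139
theorem N3503 : nd 3503 = n4140 := ndS (p := 1765) (l := 1) rfl N1765 D4140
theorem N3504 : nd 3504 = n4142 := ndS (p := 1766) (l := 2) rfl N1766 D4142
theorem N3505 : nd 3505 = n4143 := ndS (p := 1766) (l := 3) rfl N1766 D4143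
theorem N3506 : nd 3506 = n4144 := ndS (p := 1766) (l := 4) rfl N1766 D4144
theorem N3507 : nd 3507 = n4145 := ndS (p := 1767) (l := 0) rfl N1767 D4145
theorem N3508 : nd 3508 = n4146 := ndS (p := 1767) (l := 1) rfl N1767 D4146
theorem N3509 : nd 3509 = n4147 := ndS (p := 1767) (l := 3) rfl N1767 D4147
theorem N3510 : nd 3510 = n4148 := ndS (p := 1767) (l := 4) rfl N1767 D4148
theorem N3511 : nd 3511 = n4149 := ndS (p := 1768) (l := 0) rfl N1768 D4149
theorem N3512 : nd 3512 = n4150 := ndS (p := 1768) (l := 4) rfl N1768 D4150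
theorem N3513 : nd 3513 = n4151 := ndS (p := 1769) (l := 2) rfl N1769 D4151
theorem N3514 : nd 3514 = n4152 := ndS (p := 1769) (l := 3) rfl N1769 D4152
theorem N3515 : nd 3515 = n4153 := ndS (p := 1770) (l := 1) rfl N1770 D4153
theorem N3516 : nd 3516 = n4154 := ndS (p := 1770) (l := 2) rfl N1770 D4154
theorem N3517 : nd 3517 = n4155 := ndS (p := 1770) (l := 3) rfl N1770 D4155
theorem N3518 : nd 3518 = n4156 := ndS (p := 1770) (l := 4) rfl N1770 D4156
theorem N3519 : nd 3519 = n4157 := ndS (p := 1771) (l := 0) rfl N1771 D4157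
theorem N3520 : nd 3520 = n4158 := ndS (p := 1771) (l := 4) rfl N1771 D4158
theorem N3521 : nd 3521 = n4159 := ndS (p := 1772) (l := 2) rfl N1772 D4159
theorem N3522 : nd 3522 = n4161 := ndS (p := 1773) (l := 1) rfl N1773 D4161
theorem N3523 : nd 3523 = n4162 := ndS (p := 1773) (l := 2) rfl N1773 D4162
theorem N3524 : nd 3524 = n4163 := ndS (p := 1773) (l := 3) rfl N1773 D4163
theorem N3525 : nd 3525 = n4164 := ndS (p := 1773) (l := 4) rfl N1773 D4164
theorem N3526 : nd 3526 = n4165 := ndS (p := 1774) (l := 2) rfl N1774 D4165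
theorem N3527 : nd 3527 = n4166 := ndS (p := 1775) (l := 0) rfl N1775 D4166
theorem N3528 : nd 3528 = n4175 := ndS (p := 1776) (l := 2) rfl N1776 D4175
theorem N3529 : nd 3529 = n4176 := ndS (p := 1776) (l := 3) rfl N1776 D4176
theorem N3530 : nd 3530 = n4177 := ndS (p := 1776) (l := 4) rfl N1776 D4177
theorem N3531 : nd 3531 = n4178 := ndS (p := 1777) (l := 1) rfl N1777 D4178
theorem N3532 : nd 3532 = n4180 := ndS (p := 1777) (l := 4) rfl N1777 D4180
theorem N3533 : nd 3533 = n4181 := ndS (p := 1778) (l := 0) rfl N1778 D4181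
theorem N3534 : nd 3534 = n4182 := ndS (p := 1778) (l := 4) rfl N1778 D4182
theorem N3535 : nd 3535 = n4183 := ndS (p := 1779) (l := 2) rfl N1779 D4183
theorem N3536 : nd 3536 = n4184 := ndS (p := 1779) (l := 3) rfl N1779 D4184
theorem N3537 : nd 3537 = n4185 := ndS (p := 1780) (l := 1) rfl N1780 D4185
theorem N3538 : nd 3538 = n4186 := ndS (p := 1780) (l := 2) rfl N1780 D4186
theorem N3539 : nd 3539 = n4187 := ndS (p := 1780) (l := 3) rfl N1780 D4187
theorem N3540 : nd 3540 = n4188 := ndS (p := 1780) (l := 4) rfl N1780 D4188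
theorem N3541 : nd 3541 = n4189 := ndS (p := 1781) (l := 0) rfl N1781 D4189
theorem N3542 : nd 3542 = n4190 := ndS (p := 1781) (l := 3) rfl N1781 D4190
theorem N3543 : nd 3543 = n4191 := ndS (p := 1781) (l := 4) rfl N1781 D4191
theorem N3544 : nd 3544 = n4192 := ndS (p := 1782) (l := 0) rfl N1782 D4192
theorem N3545 : nd 3545 = n4193 := ndS (p := 1782) (l := 4) rfl N1782 D4193
theorem N3546 : nd 3546 = n4194 := ndS (p := 1783) (l := 2) rfl N1783 D4194
theorem N3547 : nd 3547 = n4195 := ndS (p := 1783) (l := 3) rfl N1783 D4195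
theorem N3548 : nd 3548 = n4196 := ndS (p := 1784) (l := 1) rfl N1784 D4196
theorem N3549 : nd 3549 = n4197 := ndS (p := 1784) (l := 2) rfl N1784 D4197
theorem N3550 : nd 3550 = n4198 := ndS (p := 1784) (l := 3) rfl N1784 D4198
theorem N3551 : nd 3551 = n4199 := ndS (p := 1784) (l := 4) rfl N1784 D4199
theorem N3552 : nd 3552 = n4200 := ndS (p := 1785) (l := 2) rfl N1785 D4200
theorem N3553 : nd 3553 = n4201 := ndS (p := 1786) (l := 0) rfl N1786 D4201
theorem N3554 : nd 3554 = n4202 := ndS (p := 1786) (l := 1) rfl N1786 D4202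
theorem N3555 : nd 3555 = n4203 := ndS (p := 1786) (l := 3) rfl N1786 D4203
theorem N3556 : nd 3556 = n4204 := ndS (p := 1786) (l := 4) rfl N1786 D4204
theorem N3557 : nd 3557 = n4205 := ndS (p := 1787) (l := 0) rfl N1787 D4205
theorem N3558 : nd 3558 = n4208 := ndS (p := 1788) (l := 0) rfl N1788 D4208
theorem N3559 : nd 3559 = n4209 := ndS (p := 1788) (l := 3) rfl N1788 D4209
theorem N3560 : nd 3560 = n4210 := ndS (p := 1789) (l := 0) rfl N1789 D4210
theorem N3561 : nd 3561 = n4211 := ndS (p := 1789) (l := 4) rfl N1789 D4211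
theorem N3562 : nd 3562 = n4212 := ndS (p := 1790) (l := 3) rfl N1790 D4212
theorem N3563 : nd 3563 = n4213 := ndS (p := 1791) (l := 1) rfl N1791 D4213
theorem N3564 : nd 3564 = n4214 := ndS (p := 1791) (l := 2) rfl N1791 D4214
theorem N3565 : nd 3565 = n4215 := ndS (p := 1791) (l := 3) rfl N1791 D4215
theorem N3566 : nd 3566 = n4216 := ndS (p := 1791) (l := 4) rfl N1791 D4216
theorem N3567 : nd 3567 = n4217 := ndS (p := 1792) (l := 0) rfl N1792 D4217
theorem N3568 : nd 3568 = n4218 := ndS (p := 1792) (l := 2) rfl N1792 D4218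
theorem N3569 : nd 3569 = n4219 := ndS (p := 1792) (l := 3) rfl N1792 D4219
theorem N3570 : nd 3570 = n4220 := ndS (p := 1792) (l := 4) rfl N1792 D4220
theorem N3571 : nd 3571 = n4221 := ndS (p := 1793) (l := 0) rfl N1793 D4221
theorem N3572 : nd 3572 = n4222 := ndS (p := 1793) (l := 4) rfl N1793 D4222
theorem N3573 : nd 3573 = n4223 := ndS (p := 1794) (l := 2) rfl N1794 D4223
theorem N3574 : nd 3574 = n4224 := ndS (p := 1794) (l := 3) rfl N1794 D4224
theorem N3575 : nd 3575 = n4225 := ndS (p := 1795) (l := 2) rfl N1795 D4225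
theorem N3576 : nd 3576 = n4226 := ndS (p := 1795) (l := 3) rfl N1795 D4226
theorem N3577 : nd 3577 = n4227 := ndS (p := 1795) (l := 4) rfl N1795 D4227
theorem N3578 : nd 3578 = n4228 := ndS (p := 1796) (l := 2) rfl N1796 D4228
theorem N3579 : nd 3579 = n4229 := ndS (p := 1797) (l := 0) rfl N1797 D4229
theorem N3580 : nd 3580 = n4230 := ndS (p := 1797) (l := 1) rfl N1797 D4230
theorem N3581 : nd 3581 = n4231 := ndS (p := 1797) (l := 3) rfl N1797 D4231
theorem N3582 : nd 3582 = n4232 := ndS (p := 1797) (l := 4) rfl N1797 D4232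
theorem N3583 : nd 3583 = n4233 := ndS (p := 1798) (l := 0) rfl N1798 D4233
theorem N3584 : nd 3584 = n4234 := ndS (p := 1799) (l := 0) rfl N1799 D4234
theorem N3585 : nd 3585 = n4235 := ndS (p := 1799) (l := 2) rfl N1799 D4235
theorem N3586 : nd 3586 = n4236 := ndS (p := 1799) (l := 3) rfl N1799 D4236
theorem N3587 : nd 3587 = n4237 := ndS (p := 1799) (l := 4) rfl N1799 D4237
theorem N3588 : nd 3588 = n4238 := ndS (p := 1800) (l := 3) rfl N1800 D4238
theorem N3589 : nd 3589 = n4239 := ndS (p := 1800) (l := 4) rfl N1800 D4239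
theorem N3590 : nd 3590 = n4240 := ndS (p := 1801) (l := 4) rfl N1801 D4240
theorem N3591 : nd 3591 = n4241 := ndS (p := 1802) (l := 2) rfl N1802 D4241
theorem N3592 : nd 3592 = n4242 := ndS (p := 1802) (l := 3) rfl N1802 D4242
theorem N3593 : nd 3593 = n4243 := ndS (p := 1803) (l := 1) rfl N1803 D4243
theorem N3594 : nd 3594 = n4244 := ndS (p := 1803) (l := 2) rfl N1803 D4244
theorem N3595 : nd 3595 = n4245 := ndS (p := 1803) (l := 3) rfl N1803 D4245
theorem N3596 : nd 3596 = n4246 := ndS (p := 1803) (l := 4) rfl N1803 D4246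
theorem N3597 : nd 3597 = n4247 := ndS (p := 1804) (l := 2) rfl N1804 D4247
theorem N3598 : nd 3598 = n4254 := ndS (p := 1806) (l := 0) rfl N1806 D4254
theorem N3599 : nd 3599 = n4255 := ndS (p := 1806) (l := 2) rfl N1806 D4255
theorem N3600 : nd 3600 = n4256 := ndS (p := 1806) (l := 3) rfl N1806 D4256
theorem N3601 : nd 3601 = n4257 := ndS (p := 1806) (l := 4) rfl N1806 D4257
theorem N3602 : nd 3602 = n4258 := ndS (p := 1807) (l := 1) rfl N1807 D4258
theorem N3603 : nd 3603 = n4259 := ndS (p := 1807) (l := 3) rfl N1807 D4259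
theorem N3604 : nd 3604 = n4260 := ndS (p := 1807) (l := 4) rfl N1807 D4260
theorem N3605 : nd 3605 = n4261 := ndS (p := 1809) (l := 2) rfl N1809 D4261
theorem N3606 : nd 3606 = n4262 := ndS (p := 1810) (l := 0) rfl N1810 D4262
theorem N3607 : nd 3607 = n4265 := ndS (p := 1811) (l := 1) rfl N1811 D4265
theorem N3608 : nd 3608 = n4266 := ndS (p := 1811) (l := 3) rfl N1811 D4266
theorem N3609 : nd 3609 = n4269 := ndS (p := 1812) (l := 2) rfl N1812 D4269
theorem N3610 : nd 3610 = n4270 := ndS (p := 1812) (l := 3) rfl N1812 D4270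
theorem N3611 : nd 3611 = n4271 := ndS (p := 1812) (l := 4) rfl N1812 D4271
theorem N3612 : nd 3612 = n4272 := ndS (p := 1813) (l := 0) rfl N1813 D4272
theorem N3613 : nd 3613 = n4273 := ndS (p := 1813) (l := 1) rfl N1813 D4273
theorem N3614 : nd 3614 = n4274 := ndS (p := 1813) (l := 4) rfl N1813 D4274
theorem N3615 : nd 3615 = n4275 := ndS (p := 1814) (l := 2) rfl N1814 D4275
theorem N3616 : nd 3616 = n4296 := ndS (p := 1815) (l := 3) rfl N1815 D4296
theorem N3617 : nd 3617 = n4297 := ndS (p := 1816) (l := 0) rfl N1816 D4297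
theorem N3618 : nd 3618 = n4298 := ndS (p := 1816) (l := 4) rfl N1816 D4298
theorem N3619 : nd 3619 = n4299 := ndS (p := 1817) (l := 3) rfl N1817 D4299
theorem N3620 : nd 3620 = n4300 := ndS (p := 1818) (l := 3) rfl N1818 D4300
theorem N3621 : nd 3621 = n4301 := ndS (p := 1819) (l := 0) rfl N1819 D4301
theorem N3622 : nd 3622 = n4302 := ndS (p := 1819) (l := 4) rfl N1819 D4302
theorem N3623 : nd 3623 = n4303 := ndS (p := 1820) (l := 2) rfl N1820 D4303
theorem N3624 : nd 3624 = n4304 := ndS (p := 1820) (l := 3) rfl N1820 D4304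
theorem N3625 : nd 3625 = n4305 := ndS (p := 1821) (l := 1) rfl N1821 D4305
theorem N3626 : nd 3626 = n4306 := ndS (p := 1821) (l := 2) rfl N1821 D4306
theorem N3627 : nd 3627 = n4307 := ndS (p := 1821) (l := 3) rfl N1821 D4307
theorem N3628 : nd 3628 = n4308 := ndS (p := 1821) (l := 4) rfl N1821 D4308
theorem N3629 : nd 3629 = n4309 := ndS (p := 1822) (l := 2) rfl N1822 D4309
theorem N3630 : nd 3630 = n4310 := ndS (p := 1823) (l := 0) rfl N1823 D4310
theorem N3631 : nd 3631 = n4311 := ndS (p := 1823) (l := 1) rfl N1823 D4311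
theorem N3632 : nd 3632 = n4312 := ndS (p := 1823) (l := 3) rfl N1823 D4312
theorem N3633 : nd 3633 = n4313 := ndS (p := 1823) (l := 4) rfl N1823 D4313
theorem N3634 : nd 3634 = n4314 := ndS (p := 1824) (l := 0) rfl N1824 D4314
theorem N3635 : nd 3635 = n4315 := ndS (p := 1825) (l := 3) rfl N1825 D4315
theorem N3636 : nd 3636 = n4316 := ndS (p := 1825) (l := 4) rfl N1825 D4316
theorem N3637 : nd 3637 = n4317 := ndS (p := 1826) (l := 3) rfl N1826 D4317
theorem N3638 : nd 3638 = n4318 := ndS (p := 1826) (l := 4) rfl N1826 D4318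
theorem N3639 : nd 3639 = n4319 := ndS (p := 1827) (l := 4) rfl N1827 D4319
theorem N3640 : nd 3640 = n4320 := ndS (p := 1828) (l := 3) rfl N1828 D4320
theorem N3641 : nd 3641 = n4321 := ndS (p := 1829) (l := 4) rfl N1829 D4321
theorem N3642 : nd 3642 = n4322 := ndS (p := 1830) (l := 3) rfl N1830 D4322
theorem N3643 : nd 3643 = n4323 := ndS (p := 1831) (l := 1) rfl N1831 D4323
theorem N3644 : nd 3644 = n4324 := ndS (p := 1831) (l := 2) rfl N1831 D4324
theorem N3645 : nd 3645 = n4325 := ndS (p := 1831) (l := 3) rfl N1831 D4325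
theorem N3646 : nd 3646 = n4326 := ndS (p := 1831) (l := 4) rfl N1831 D4326
theorem N3647 : nd 3647 = n4327 := ndS (p := 1832) (l := 2) rfl N1832 D4327
theorem N3648 : nd 3648 = n4329 := ndS (p := 1833) (l := 3) rfl N1833 D4329
theorem N3649 : nd 3649 = n4330 := ndS (p := 1833) (l := 4) rfl N1833 D4330
theorem N3650 : nd 3650 = n4331 := ndS (p := 1834) (l := 0) rfl N1834 D4331
theorem N3651 : nd 3651 = n4333 := ndS (p := 1835) (l := 2) rfl N1835 D4333
theorem N3652 : nd 3652 = n4334 := ndS (p := 1835) (l := 3) rfl N1835 D4334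
theorem N3653 : nd 3653 = n4335 := ndS (p := 1835) (l := 4) rfl N1835 D4335
theorem N3654 : nd 3654 = n4336 := ndS (p := 1836) (l := 1) rfl N1836 D4336
theorem N3655 : nd 3655 = n4337 := ndS (p := 1836) (l := 3) rfl N1836 D4337
theorem N3656 : nd 3656 = n4338 := ndS (p := 1836) (l := 4) rfl N1836 D4338
theorem N3657 : nd 3657 = n4339 := ndS (p := 1837) (l := 4) rfl N1837 D4339
theorem N3658 : nd 3658 = n4340 := ndS (p := 1838) (l := 2) rfl N1838 D4340
theorem N3659 : nd 3659 = n4341 := ndS (p := 1838) (l := 3) rfl N1838 D4341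
theorem N3660 : nd 3660 = n4342 := ndS (p := 1839) (l := 0) rfl N1839 D4342
theorem N3661 : nd 3661 = n4343 := ndS (p := 1839) (l := 1) rfl N1839 D4343
theorem N3662 : nd 3662 = n4344 := ndS (p := 1839) (l := 4) rfl N1839 D4344
theorem N3663 : nd 3663 = n4345 := ndS (p := 1840) (l := 3) rfl N1840 D4345
theorem N3664 : nd 3664 = n4346 := ndS (p := 1840) (l := 4) rfl N1840 D4346
theorem N3665 : nd 3665 = n4347 := ndS (p := 1841) (l := 3) rfl N1841 D4347
theorem N3666 : nd 3666 = n4348 := ndS (p := 1842) (l := 0) rfl N1842 D4348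
theorem N3667 : nd 3667 = n4349 := ndS (p := 1842) (l := 4) rfl N1842 D4349
theorem N3668 : nd 3668 = n4351 := ndS (p := 1844) (l := 1) rfl N1844 D4351
theorem N3669 : nd 3669 = n4352 := ndS (p := 1844) (l := 2) rfl N1844 D4352
theorem N3670 : nd 3670 = n4357 := ndS (p := 1845) (l := 0) rfl N1845 D4357
theorem N3671 : nd 3671 = n4358 := ndS (p := 1846) (l := 1) rfl N1846 D4358
theorem N3672 : nd 3672 = n4359 := ndS (p := 1846) (l := 3) rfl N1846 D4359
theorem N3673 : nd 3673 = n4360 := ndS (p := 1846) (l := 4) rfl N1846 D4360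
theorem N3674 : nd 3674 = n4361 := ndS (p := 1848) (l := 0) rfl N1848 D4361
theorem N3675 : nd 3675 = n4362 := ndS (p := 1849) (l := 3) rfl N1849 D4362
theorem N3676 : nd 3676 = n4363 := ndS (p := 1849) (l := 4) rfl N1849 D4363
theorem N3677 : nd 3677 = n4364 := ndS (p := 1850) (l := 3) rfl N1850 D4364
theorem N3678 : nd 3678 = n4365 := ndS (p := 1850) (l := 4) rfl N1850 D4365
theorem N3679 : nd 3679 = n4366 := ndS (p := 1851) (l := 4) rfl N1851 D4366
theorem N3680 : nd 3680 = n4368 := ndS (p := 1853) (l := 3) rfl N1853 D4368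
theorem N3681 : nd 3681 = n4369 := ndS (p := 1854) (l := 3) rfl N1854 D4369
theorem N3682 : nd 3682 = n4370 := ndS (p := 1855) (l := 0) rfl N1855 D4370
theorem N3683 : nd 3683 = n4371 := ndS (p := 1855) (l := 4) rfl N1855 D4371
theorem N3684 : nd 3684 = n4372 := ndS (p := 1856) (l := 3) rfl N1856 D4372
theorem N3685 : nd 3685 = n4373 := ndS (p := 1857) (l := 1) rfl N1857 D4373
theorem N3686 : nd 3686 = n4374 := ndS (p := 1857) (l := 2) rfl N1857 D4374
theorem N3687 : nd 3687 = n4375 := ndS (p := 1857) (l := 3) rfl N1857 D4375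
theorem N3688 : nd 3688 = n4376 := ndS (p := 1857) (l := 4) rfl N1857 D4376
theorem N3689 : nd 3689 = n4377 := ndS (p := 1858) (l := 2) rfl N1858 D4377
theorem N3690 : nd 3690 = n4379 := ndS (p := 1859) (l := 1) rfl N1859 D4379
theorem N3691 : nd 3691 = n4380 := ndS (p := 1859) (l := 3) rfl N1859 D4380
theorem N3692 : nd 3692 = n4381 := ndS (p := 1860) (l := 0) rfl N1860 D4381
theorem N3693 : nd 3693 = n4383 := ndS (p := 1861) (l := 0) rfl N1861 D4383
theorem N3694 : nd 3694 = n4384 := ndS (p := 1861) (l := 4) rfl N1861 D4384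
theorem N3695 : nd 3695 = n4385 := ndS (p := 1862) (l := 1) rfl N1862 D4385
theorem N3696 : nd 3696 = n4386 := ndS (p := 1862) (l := 3) rfl N1862 D4386
theorem N3697 : nd 3697 = n4387 := ndS (p := 1862) (l := 4) rfl N1862 D4387
theorem N3698 : nd 3698 = n4388 := ndS (p := 1864) (l := 2) rfl N1864 D4388
theorem N3699 : nd 3699 = n4389 := ndS (p := 1865) (l := 0) rfl N1865 D4389
theorem N3700 : nd 3700 = n4390 := ndS (p := 1865) (l := 1) rfl N1865 D4390
theorem N3701 : nd 3701 = n4391 := ndS (p := 1865) (l := 4) rfl N1865 D4391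
theorem N3702 : nd 3702 = n4392 := ndS (p := 1866) (l := 1) rfl N1866 D4392
theorem N3703 : nd 3703 = n4393 := ndS (p := 1866) (l := 4) rfl N1866 D4393
theorem N3704 : nd 3704 = n4394 := ndS (p := 1867) (l := 0) rfl N1867 D4394
theorem N3705 : nd 3705 = n4395 := ndS (p := 1867) (l := 2) rfl N1867 D4395
theorem N3706 : nd 3706 = n4396 := ndS (p := 1867) (l := 3) rfl N1867 D4396
theorem N3707 : nd 3707 = n4397 := ndS (p := 1867) (l := 4) rfl N1867 D4397
theorem N3708 : nd 3708 = n4398 := ndS (p := 1868) (l := 0) rfl N1868 D4398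
theorem N3709 : nd 3709 = n4399 := ndS (p := 1868) (l := 4) rfl N1868 D4399
theorem N3710 : nd 3710 = n4401 := ndS (p := 1870) (l := 1) rfl N1870 D4401
theorem N3711 : nd 3711 = n4402 := ndS (p := 1870) (l := 2) rfl N1870 D4402
theorem N3712 : nd 3712 = n4403 := ndS (p := 1871) (l := 3) rfl N1871 D4403
theorem N3713 : nd 3713 = n4404 := ndS (p := 1872) (l := 0) rfl N1872 D4404
theorem N3714 : nd 3714 = n4405 := ndS (p := 1872) (l := 4) rfl N1872 D4405
theorem N3715 : nd 3715 = n4406 := ndS (p := 1873) (l := 3) rfl N1873 D4406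
theorem N3716 : nd 3716 = n4407 := ndS (p := 1874) (l := 4) rfl N1874 D4407
theorem N3717 : nd 3717 = n4408 := ndS (p := 1875) (l := 3) rfl N1875 D4408
theorem N3718 : nd 3718 = n4411 := ndS (p := 1877) (l := 0) rfl N1877 D4411
theorem N3719 : nd 3719 = n4413 := ndS (p := 1878) (l := 0) rfl N1878 D4413
theorem N3720 : nd 3720 = n4414 := ndS (p := 1878) (l := 2) rfl N1878 D4414
theorem N3721 : nd 3721 = n4415 := ndS (p := 1878) (l := 3) rfl N1878 D4415
theorem N3722 : nd 3722 = n4416 := ndS (p := 1878) (l := 4) rfl N1878 D4416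
theorem N3723 : nd 3723 = n4417 := ndS (p := 1879) (l := 1) rfl N1879 D4417
theorem N3724 : nd 3724 = n4418 := ndS (p := 1879) (l := 3) rfl N1879 D4418
theorem N3725 : nd 3725 = n4419 := ndS (p := 1879) (l := 4) rfl N1879 D4419
theorem N3726 : nd 3726 = n4421 := ndS (p := 1881) (l := 2) rfl N1881 D4421
theorem N3727 : nd 3727 = n4423 := ndS (p := 1882) (l := 0) rfl N1882 D4423
theorem N3728 : nd 3728 = n4434 := ndS (p := 1883) (l := 2) rfl N1883 D4434
theorem N3729 : nd 3729 = n4435 := ndS (p := 1883) (l := 3) rfl N1883 D4435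
theorem N3730 : nd 3730 = n4436 := ndS (p := 1883) (l := 4) rfl N1883 D4436
theorem N3731 : nd 3731 = n4437 := ndS (p := 1884) (l := 3) rfl N1884 D4437
theorem N3732 : nd 3732 = n4439 := ndS (p := 1886) (l := 2) rfl N1886 D4439
theorem N3733 : nd 3733 = n4440 := ndS (p := 1887) (l := 0) rfl N1887 D4440
theorem N3734 : nd 3734 = n4441 := ndS (p := 1887) (l := 2) rfl N1887 D4441
theorem N3735 : nd 3735 = n4442 := ndS (p := 1887) (l := 3) rfl N1887 D4442
theorem N3736 : nd 3736 = n4443 := ndS (p := 1887) (l := 4) rfl N1887 D4443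
theorem N3737 : nd 3737 = n4446 := ndS (p := 1890) (l := 0) rfl N1890 D4446
theorem N3738 : nd 3738 = n4447 := ndS (p := 1890) (l := 1) rfl N1890 D4447
theorem N3739 : nd 3739 = n4448 := ndS (p := 1890) (l := 4) rfl N1890 D4448
theorem N3740 : nd 3740 = n4449 := ndS (p := 1891) (l := 1) rfl N1891 D4449
theorem N3741 : nd 3741 = n4450 := ndS (p := 1891) (l := 3) rfl N1891 D4450
theorem N3742 : nd 3742 = n4455 := ndS (p := 1892) (l := 3) rfl N1892 D4455
theorem N3743 : nd 3743 = n4456 := ndS (p := 1893) (l := 4) rfl N1893 D4456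
theorem N3744 : nd 3744 = n4457 := ndS (p := 1894) (l := 0) rfl N1894 D4457
theorem N3745 : nd 3745 = n4458 := ndS (p := 1894) (l := 1) rfl N1894 D4458
theorem N3746 : nd 3746 = n4460 := ndS (p := 1894) (l := 4) rfl N1894 D4460
theorem N3747 : nd 3747 = n4461 := ndS (p := 1895) (l := 0) rfl N1895 D4461
theorem N3748 : nd 3748 = n4462 := ndS (p := 1896) (l := 2) rfl N1896 D4462
theorem N3749 : nd 3749 = n4463 := ndS (p := 1897) (l := 1) rfl N1897 D4463
theorem N3750 : nd 3750 = n4464 := ndS (p := 1897) (l := 2) rfl N1897 D4464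
theorem N3751 : nd 3751 = n4465 := ndS (p := 1897) (l := 3) rfl N1897 D4465
theorem N3752 : nd 3752 = n4466 := ndS (p := 1897) (l := 4) rfl N1897 D4466
theorem N3753 : nd 3753 = n4467 := ndS (p := 1898) (l := 0) rfl N1898 D4467
theorem N3754 : nd 3754 = n4468 := ndS (p := 1898) (l := 2) rfl N1898 D4468
theorem N3755 : nd 3755 = n4469 := ndS (p := 1898) (l := 3) rfl N1898 D4469
theorem N3756 : nd 3756 = n4470 := ndS (p := 1898) (l := 4) rfl N1898 D4470
theorem N3757 : nd 3757 = n4471 := ndS (p := 1899) (l := 0) rfl N1899 D4471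
theorem N3758 : nd 3758 = n4473 := ndS (p := 1900) (l := 2) rfl N1900 D4473
theorem N3759 : nd 3759 = n4476 := ndS (p := 1901) (l := 2) rfl N1901 D4476
theorem N3760 : nd 3760 = n4478 := ndS (p := 1902) (l := 0) rfl N1902 D4478
theorem N3761 : nd 3761 = n4479 := ndS (p := 1902) (l := 1) rfl N1902 D4479
theorem N3762 : nd 3762 = n4480 := ndS (p := 1902) (l := 4) rfl N1902 D4480
theorem N3763 : nd 3763 = n4481 := ndS (p := 1903) (l := 1) rfl N1903 D4481
theorem N3764 : nd 3764 = n4482 := ndS (p := 1903) (l := 2) rfl N1903 D4482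
theorem N3765 : nd 3765 = n4483 := ndS (p := 1904) (l := 4) rfl N1904 D4483
theorem N3766 : nd 3766 = n4484 := ndS (p := 1905) (l := 2) rfl N1905 D4484
theorem N3767 : nd 3767 = n4485 := ndS (p := 1905) (l := 4) rfl N1905 D4485
theorem N3768 : nd 3768 = n4486 := ndS (p := 1906) (l := 2) rfl N1906 D4486
theorem N3769 : nd 3769 = n4487 := ndS (p := 1906) (l := 4) rfl N1906 D4487
theorem N3770 : nd 3770 = n4488 := ndS (p := 1907) (l := 2) rfl N1907 D4488
theorem N3771 : nd 3771 = n4490 := ndS (p := 1908) (l := 0) rfl N1908 D4490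
theorem N3772 : nd 3772 = n4491 := ndS (p := 1908) (l := 1) rfl N1908 D4491
theorem N3773 : nd 3773 = n4494 := ndS (p := 1909) (l := 2) rfl N1909 D4494
theorem N3774 : nd 3774 = n4496 := ndS (p := 1909) (l := 4) rfl N1909 D4496
theorem N3775 : nd 3775 = n4497 := ndS (p := 1910) (l := 1) rfl N1910 D4497
theorem N3776 : nd 3776 = n4498 := ndS (p := 1910) (l := 4) rfl N1910 D4498
theorem N3777 : nd 3777 = n4499 := ndS (p := 1912) (l := 2) rfl N1912 D4499
theorem N3778 : nd 3778 = n4500 := ndS (p := 1913) (l := 4) rfl N1913 D4500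
theorem N3779 : nd 3779 = n4501 := ndS (p := 1914) (l := 2) rfl N1914 D4501
theorem N3780 : nd 3780 = n4502 := ndS (p := 1916) (l := 1) rfl N1916 D4502
theorem N3781 : nd 3781 = n4503 := ndS (p := 1917) (l := 2) rfl N1917 D4503
theorem N3782 : nd 3782 = n4504 := ndS (p := 1918) (l := 2) rfl N1918 D4504
theorem N3783 : nd 3783 = n4505 := ndS (p := 1918) (l := 3) rfl N1918 D4505
theorem N3784 : nd 3784 = n4506 := ndS (p := 1918) (l := 4) rfl N1918 D4506
theorem N3785 : nd 3785 = n4507 := ndS (p := 1919) (l := 0) rfl N1919 D4507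
theorem N3786 : nd 3786 = n4508 := ndS (p := 1919) (l := 1) rfl N1919 D4508
theorem N3787 : nd 3787 = n4509 := ndS (p := 1919) (l := 3) rfl N1919 D4509
theorem N3788 : nd 3788 = n4510 := ndS (p := 1919) (l := 4) rfl N1919 D4510
theorem N3789 : nd 3789 = n4511 := ndS (p := 1920) (l := 0) rfl N1920 D4511
theorem N3790 : nd 3790 = n4512 := ndS (p := 1921) (l := 2) rfl N1921 D4512
theorem N3791 : nd 3791 = n4513 := ndS (p := 1922) (l := 1) rfl N1922 D4513
theorem N3792 : nd 3792 = n4514 := ndS (p := 1922) (l := 3) rfl N1922 D4514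
theorem N3793 : nd 3793 = n4515 := ndS (p := 1922) (l := 4) rfl N1922 D4515
theorem N3794 : nd 3794 = n4516 := ndS (p := 1923) (l := 2) rfl N1923 D4516
theorem N3795 : nd 3795 = n4518 := ndS (p := 1924) (l := 0) rfl N1924 D4518
theorem N3796 : nd 3796 = n4519 := ndS (p := 1924) (l := 1) rfl N1924 D4519
theorem N3797 : nd 3797 = n4520 := ndS (p := 1924) (l := 4) rfl N1924 D4520
theorem N3798 : nd 3798 = n4521 := ndS (p := 1925) (l := 1) rfl N1925 D4521
theorem N3799 : nd 3799 = n4522 := ndS (p := 1925) (l := 2) rfl N1925 D4522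
theorem N3800 : nd 3800 = n4523 := ndS (p := 1926) (l := 0) rfl N1926 D4523
theorem N3801 : nd 3801 = n4525 := ndS (p := 1927) (l := 3) rfl N1927 D4525
theorem N3802 : nd 3802 = n4526 := ndS (p := 1927) (l := 4) rfl N1927 D4526
theorem N3803 : nd 3803 = n4527 := ndS (p := 1928) (l := 4) rfl N1928 D4527
theorem N3804 : nd 3804 = n4528 := ndS (p := 1929) (l := 3) rfl N1929 D4528
theorem N3805 : nd 3805 = n4529 := ndS (p := 1930) (l := 2) rfl N1930 D4529
theorem N3806 : nd 3806 = n4530 := ndS (p := 1930) (l := 3) rfl N1930 D4530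
theorem N3807 : nd 3807 = n4531 := ndS (p := 1931) (l := 1) rfl N1931 D4531
theorem N3808 : nd 3808 = n4532 := ndS (p := 1931) (l := 3) rfl N1931 D4532
theorem N3809 : nd 3809 = n4533 := ndS (p := 1931) (l := 4) rfl N1931 D4533
theorem N3810 : nd 3810 = n4534 := ndS (p := 1932) (l := 0) rfl N1932 D4534
theorem N3811 : nd 3811 = n4535 := ndS (p := 1932) (l := 4) rfl N1932 D4535
theorem N3812 : nd 3812 = n4536 := ndS (p := 1933) (l := 3) rfl N1933 D4536
theorem N3813 : nd 3813 = n4537 := ndS (p := 1934) (l := 4) rfl N1934 D4537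
theorem N3814 : nd 3814 = n4538 := ndS (p := 1935) (l := 3) rfl N1935 D4538
theorem N3815 : nd 3815 = n4539 := ndS (p := 1936) (l := 4) rfl N1936 D4539
theorem N3816 : nd 3816 = n4540 := ndS (p := 1937) (l := 4) rfl N1937 D4540
theorem N3817 : nd 3817 = n4541 := ndS (p := 1938) (l := 1) rfl N1938 D4541
theorem N3818 : nd 3818 = n4542 := ndS (p := 1940) (l := 0) rfl N1940 D4542
theorem N3819 : nd 3819 = n4543 := ndS (p := 1940) (l := 4) rfl N1940 D4543
theorem N3820 : nd 3820 = n4544 := ndS (p := 1941) (l := 2) rfl N1941 D4544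
theorem N3821 : nd 3821 = n4545 := ndS (p := 1941) (l := 3) rfl N1941 D4545
theorem N3822 : nd 3822 = n4546 := ndS (p := 1942) (l := 2) rfl N1942 D4546
theorem N3823 : nd 3823 = n4547 := ndS (p := 1942) (l := 3) rfl N1942 D4547
theorem N3824 : nd 3824 = n4548 := ndS (p := 1943) (l := 3) rfl N1943 D4548
theorem N3825 : nd 3825 = n4549 := ndS (p := 1943) (l := 4) rfl N1943 D4549
theorem N3826 : nd 3826 = n4550 := ndS (p := 1944) (l := 4) rfl N1944 D4550
theorem N3827 : nd 3827 = n4551 := ndS (p := 1945) (l := 4) rfl N1945 D4551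
theorem N3828 : nd 3828 = n4552 := ndS (p := 1946) (l := 2) rfl N1946 D4552
theorem N3829 : nd 3829 = n4553 := ndS (p := 1946) (l := 3) rfl N1946 D4553
theorem N3830 : nd 3830 = n4554 := ndS (p := 1947) (l := 1) rfl N1947 D4554
theorem N3831 : nd 3831 = n4555 := ndS (p := 1947) (l := 3) rfl N1947 D4555
theorem N3832 : nd 3832 = n4556 := ndS (p := 1947) (l := 4) rfl N1947 D4556
theorem N3833 : nd 3833 = n4557 := ndS (p := 1948) (l := 0) rfl N1948 D4557
theorem N3834 : nd 3834 = n4558 := ndS (p := 1948) (l := 4) rfl N1948 D4558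
theorem N3835 : nd 3835 = n4559 := ndS (p := 1949) (l := 4) rfl N1949 D4559
theorem N3836 : nd 3836 = n4560 := ndS (p := 1950) (l := 2) rfl N1950 D4560
theorem N3837 : nd 3837 = n4561 := ndS (p := 1950) (l := 3) rfl N1950 D4561
theorem N3838 : nd 3838 = n4562 := ndS (p := 1951) (l := 0) rfl N1951 D4562
theorem N3839 : nd 3839 = n4563 := ndS (p := 1951) (l := 1) rfl N1951 D4563
theorem N3840 : nd 3840 = n4564 := ndS (p := 1951) (l := 3) rfl N1951 D4564
theorem N3841 : nd 3841 = n4565 := ndS (p := 1951) (l := 4) rfl N1951 D4565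
theorem N3842 : nd 3842 = n4566 := ndS (p := 1952) (l := 4) rfl N1952 D4566
theorem N3843 : nd 3843 = n4567 := ndS (p := 1953) (l := 3) rfl N1953 D4567
theorem N3844 : nd 3844 = n4568 := ndS (p := 1954) (l := 0) rfl N1954 D4568
theorem N3845 : nd 3845 = n4569 := ndS (p := 1954) (l := 4) rfl N1954 D4569
theorem N3846 : nd 3846 = n4571 := ndS (p := 1956) (l := 2) rfl N1956 D4571
theorem N3847 : nd 3847 = n4572 := ndS (p := 1956) (l := 4) rfl N1956 D4572
theorem N3848 : nd 3848 = n4574 := ndS (p := 1958) (l := 4) rfl N1958 D4574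
theorem N3849 : nd 3849 = n4575 := ndS (p := 1959) (l := 1) rfl N1959 D4575
theorem N3850 : nd 3850 = n4576 := ndS (p := 1959) (l := 3) rfl N1959 D4576
theorem N3851 : nd 3851 = n4577 := ndS (p := 1959) (l := 4) rfl N1959 D4577
theorem N3852 : nd 3852 = n4578 := ndS (p := 1960) (l := 0) rfl N1960 D4578
theorem N3853 : nd 3853 = n4579 := ndS (p := 1960) (l := 4) rfl N1960 D4579
theorem N3854 : nd 3854 = n4580 := ndS (p := 1961) (l := 2) rfl N1961 D4580
theorem N3855 : nd 3855 = n4581 := ndS (p := 1961) (l := 3) rfl N1961 D4581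
theorem N3856 : nd 3856 = n4582 := ndS (p := 1962) (l := 0) rfl N1962 D4582
theorem N3857 : nd 3857 = n4583 := ndS (p := 1962) (l := 2) rfl N1962 D4583
theorem N3858 : nd 3858 = n4584 := ndS (p := 1962) (l := 4) rfl N1962 D4584
theorem N3859 : nd 3859 = n4585 := ndS (p := 1963) (l := 4) rfl N1963 D4585
theorem N3860 : nd 3860 = n4586 := ndS (p := 1964) (l := 3) rfl N1964 D4586
theorem N3861 : nd 3861 = n4587 := ndS (p := 1965) (l := 2) rfl N1965 D4587
theorem N3862 : nd 3862 = n4588 := ndS (p := 1966) (l := 1) rfl N1966 D4588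
theorem N3863 : nd 3863 = n4589 := ndS (p := 1966) (l := 3) rfl N1966 D4589
theorem N3864 : nd 3864 = n4590 := ndS (p := 1966) (l := 4) rfl N1966 D4590
theorem N3865 : nd 3865 = n4591 := ndS (p := 1967) (l := 4) rfl N1967 D4591
theorem N3866 : nd 3866 = n4592 := ndS (p := 1968) (l := 1) rfl N1968 D4592
theorem N3867 : nd 3867 = n4593 := ndS (p := 1968) (l := 3) rfl N1968 D4593
theorem N3868 : nd 3868 = n4594 := ndS (p := 1971) (l := 1) rfl N1971 D4594
theorem N3869 : nd 3869 = n4595 := ndS (p := 1971) (l := 3) rfl N1971 D4595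
theorem N3870 : nd 3870 = n4596 := ndS (p := 1971) (l := 4) rfl N1971 D4596
theorem N3871 : nd 3871 = n4597 := ndS (p := 1973) (l := 0) rfl N1973 D4597
theorem N3872 : nd 3872 = n4598 := ndS (p := 1973) (l := 2) rfl N1973 D4598
theorem N3873 : nd 3873 = n4599 := ndS (p := 1973) (l := 4) rfl N1973 D4599
theorem N3874 : nd 3874 = n4600 := ndS (p := 1974) (l := 1) rfl N1974 D4600
theorem N3875 : nd 3875 = n4601 := ndS (p := 1974) (l := 4) rfl N1974 D4601
theorem N3876 : nd 3876 = n4602 := ndS (p := 1975) (l := 2) rfl N1975 D4602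
theorem N3877 : nd 3877 = n4603 := ndS (p := 1976) (l := 1) rfl N1976 D4603
theorem N3878 : nd 3878 = n4604 := ndS (p := 1976) (l := 4) rfl N1976 D4604
theorem N3879 : nd 3879 = n4605 := ndS (p := 1977) (l := 2) rfl N1977 D4605
theorem N3880 : nd 3880 = n4606 := ndS (p := 1978) (l := 4) rfl N1978 D4606
theorem N3881 : nd 3881 = n4607 := ndS (p := 1979) (l := 2) rfl N1979 D4607
theorem N3882 : nd 3882 = n4608 := ndS (p := 1979) (l := 4) rfl N1979 D4608
theorem N3883 : nd 3883 = n4609 := ndS (p := 1980) (l := 2) rfl N1980 D4609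
theorem N3884 : nd 3884 = n4610 := ndS (p := 1980) (l := 3) rfl N1980 D4610
theorem N3885 : nd 3885 = n4611 := ndS (p := 1981) (l := 0) rfl N1981 D4611
theorem N3886 : nd 3886 = n4612 := ndS (p := 1981) (l := 1) rfl N1981 D4612
theorem N3887 : nd 3887 = n4613 := ndS (p := 1981) (l := 4) rfl N1981 D4613
theorem N3888 : nd 3888 = n4614 := ndS (p := 1982) (l := 2) rfl N1982 D4614
theorem N3889 : nd 3889 = n4615 := ndS (p := 1982) (l := 4) rfl N1982 D4615
theorem N3890 : nd 3890 = n4616 := ndS (p := 1983) (l := 3) rfl N1983 D4616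
theorem N3891 : nd 3891 = n4617 := ndS (p := 1983) (l := 4) rfl N1983 D4617
theorem N3892 : nd 3892 = n4618 := ndS (p := 1984) (l := 0) rfl N1984 D4618
theorem N3893 : nd 3893 = n4619 := ndS (p := 1984) (l := 4) rfl N1984 D4619
theorem N3894 : nd 3894 = n4620 := ndS (p := 1985) (l := 2) rfl N1985 D4620
theorem N3895 : nd 3895 = n4621 := ndS (p := 1985) (l := 3) rfl N1985 D4621
theorem N3896 : nd 3896 = n4622 := ndS (p := 1987) (l := 4) rfl N1987 D4622
theorem N3897 : nd 3897 = n4623 := ndS (p := 1988) (l := 1) rfl N1988 D4623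
theorem N3898 : nd 3898 = n4624 := ndS (p := 1988) (l := 4) rfl N1988 D4624
theorem N3899 : nd 3899 = n4625 := ndS (p := 1989) (l := 1) rfl N1989 D4625
theorem N3900 : nd 3900 = n4626 := ndS (p := 1990) (l := 0) rfl N1990 D4626
theorem N3901 : nd 3901 = n4627 := ndS (p := 1990) (l := 2) rfl N1990 D4627
theorem N3902 : nd 3902 = n4628 := ndS (p := 1990) (l := 3) rfl N1990 D4628
theorem N3903 : nd 3903 = n4629 := ndS (p := 1990) (l := 4) rfl N1990 D4629
theorem N3904 : nd 3904 = n4630 := ndS (p := 1991) (l := 4) rfl N1991 D4630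
theorem N3905 : nd 3905 = n4631 := ndS (p := 1994) (l := 0) rfl N1994 D4631
theorem N3906 : nd 3906 = n4632 := ndS (p := 1994) (l := 2) rfl N1994 D4632
theorem N3907 : nd 3907 = n4633 := ndS (p := 1994) (l := 3) rfl N1994 D4633
theorem N3908 : nd 3908 = n4634 := ndS (p := 1994) (l := 4) rfl N1994 D4634
theorem N3909 : nd 3909 = n4635 := ndS (p := 1995) (l := 4) rfl N1995 D4635
theorem N3910 : nd 3910 = n4636 := ndS (p := 1996) (l := 3) rfl N1996 D4636
theorem N3911 : nd 3911 = n4637 := ndS (p := 1997) (l := 2) rfl N1997 D4637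
theorem N3912 : nd 3912 = n4638 := ndS (p := 1997) (l := 4) rfl N1997 D4638
theorem N3913 : nd 3913 = n4639 := ndS (p := 1998) (l := 0) rfl N1998 D4639
theorem N3914 : nd 3914 = n4640 := ndS (p := 1998) (l := 3) rfl N1998 D4640
theorem N3915 : nd 3915 = n4641 := ndS (p := 1998) (l := 4) rfl N1998 D4641
theorem N3916 : nd 3916 = n4642 := ndS (p := 1999) (l := 0) rfl N1999 D4642
theorem N3917 : nd 3917 = n4643 := ndS (p := 1999) (l := 4) rfl N1999 D4643
theorem N3918 : nd 3918 = n4644 := ndS (p := 2001) (l := 1) rfl N2001 D4644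
theorem N3919 : nd 3919 = n4645 := ndS (p := 2001) (l := 4) rfl N2001 D4645
theorem N3920 : nd 3920 = n4646 := ndS (p := 2003) (l := 1) rfl N2003 D4646
theorem N3921 : nd 3921 = n4647 := ndS (p := 2003) (l := 3) rfl N2003 D4647
theorem N3922 : nd 3922 = n4648 := ndS (p := 2003) (l := 4) rfl N2003 D4648
theorem N3923 : nd 3923 = n4649 := ndS (p := 2004) (l := 4) rfl N2004 D4649
theorem N3924 : nd 3924 = n4650 := ndS (p := 2005) (l := 3) rfl N2005 D4650
theorem N3925 : nd 3925 = n4651 := ndS (p := 2008) (l := 3) rfl N2008 D4651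
theorem N3926 : nd 3926 = n4652 := ndS (p := 2010) (l := 0) rfl N2010 D4652
theorem N3927 : nd 3927 = n4653 := ndS (p := 2010) (l := 4) rfl N2010 D4653
theorem N3928 : nd 3928 = n4654 := ndS (p := 2011) (l := 2) rfl N2011 D4654
theorem N3929 : nd 3929 = n4656 := ndS (p := 2012) (l := 2) rfl N2012 D4656
theorem N3930 : nd 3930 = n4657 := ndS (p := 2012) (l := 4) rfl N2012 D4657
theorem N3931 : nd 3931 = n4658 := ndS (p := 2013) (l := 2) rfl N2013 D4658
theorem N3932 : nd 3932 = n4659 := ndS (p := 2014) (l := 0) rfl N2014 D4659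
theorem N3933 : nd 3933 = n4660 := ndS (p := 2014) (l := 2) rfl N2014 D4660
theorem N3934 : nd 3934 = n4661 := ndS (p := 2014) (l := 3) rfl N2014 D4661
theorem N3935 : nd 3935 = n4662 := ndS (p := 2014) (l := 4) rfl N2014 D4662
theorem N3936 : nd 3936 = n4663 := ndS (p := 2015) (l := 1) rfl N2015 D4663
theorem N3937 : nd 3937 = n4664 := ndS (p := 2018) (l := 2) rfl N2018 D4664
theorem N3938 : nd 3938 = n4665 := ndS (p := 2018) (l := 4) rfl N2018 D4665
theorem N3939 : nd 3939 = n4666 := ndS (p := 2019) (l := 0) rfl N2019 D4666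
theorem N3940 : nd 3940 = n4667 := ndS (p := 2019) (l := 1) rfl N2019 D4667
theorem N3941 : nd 3941 = n4668 := ndS (p := 2019) (l := 4) rfl N2019 D4668
theorem N3942 : nd 3942 = n4669 := ndS (p := 2020) (l := 2) rfl N2020 D4669
theorem N3943 : nd 3943 = n4670 := ndS (p := 2021) (l := 0) rfl N2021 D4670
theorem N3944 : nd 3944 = n4671 := ndS (p := 2021) (l := 2) rfl N2021 D4671
theorem N3945 : nd 3945 = n4672 := ndS (p := 2021) (l := 4) rfl N2021 D4672
theorem N3946 : nd 3946 = n4673 := ndS (p := 2023) (l := 1) rfl N2023 D4673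
theorem N3947 : nd 3947 = n4674 := ndS (p := 2024) (l := 3) rfl N2024 D4674
theorem N3948 : nd 3948 = n4675 := ndS (p := 2025) (l := 4) rfl N2025 D4675
theorem N3949 : nd 3949 = n4676 := ndS (p := 2026) (l := 1) rfl N2026 D4676
theorem N3950 : nd 3950 = n4677 := ndS (p := 2026) (l := 3) rfl N2026 D4677
theorem N3951 : nd 3951 = n4678 := ndS (p := 2026) (l := 4) rfl N2026 D4678
theorem N3952 : nd 3952 = n4679 := ndS (p := 2027) (l := 4) rfl N2027 D4679
theorem N3953 : nd 3953 = n4680 := ndS (p := 2028) (l := 3) rfl N2028 D4680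
theorem N3954 : nd 3954 = n4681 := ndS (p := 2029) (l := 4) rfl N2029 D4681
theorem N3955 : nd 3955 = n4683 := ndS (p := 2031) (l := 1) rfl N2031 D4683
theorem N3956 : nd 3956 = n4684 := ndS (p := 2033) (l := 3) rfl N2033 D4684
theorem N3957 : nd 3957 = n4685 := ndS (p := 2034) (l := 4) rfl N2034 D4685
theorem N3958 : nd 3958 = n4686 := ndS (p := 2035) (l := 4) rfl N2035 D4686
theorem N3959 : nd 3959 = n4687 := ndS (p := 2037) (l := 0) rfl N2037 D4687
theorem N3960 : nd 3960 = n4688 := ndS (p := 2037) (l := 2) rfl N2037 D4688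
theorem N3961 : nd 3961 = n4689 := ndS (p := 2037) (l := 3) rfl N2037 D4689
theorem N3962 : nd 3962 = n4690 := ndS (p := 2038) (l := 4) rfl N2038 D4690
theorem N3963 : nd 3963 = n4691 := ndS (p := 2041) (l := 0) rfl N2041 D4691
theorem N3964 : nd 3964 = n4692 := ndS (p := 2041) (l := 3) rfl N2041 D4692
theorem N3965 : nd 3965 = n4693 := ndS (p := 2042) (l := 0) rfl N2042 D4693
theorem N3966 : nd 3966 = n4694 := ndS (p := 2042) (l := 4) rfl N2042 D4694
theorem N3967 : nd 3967 = n4695 := ndS (p := 2044) (l := 0) rfl N2044 D4695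
theorem N3968 : nd 3968 = n4696 := ndS (p := 2044) (l := 2) rfl N2044 D4696
theorem N3969 : nd 3969 = n4697 := ndS (p := 2045) (l := 3) rfl N2045 D4697
theorem N3970 : nd 3970 = n4698 := ndS (p := 2045) (l := 4) rfl N2045 D4698
theorem N3971 : nd 3971 = n4699 := ndS (p := 2046) (l := 2) rfl N2046 D4699
theorem N3972 : nd 3972 = n4700 := ndS (p := 2046) (l := 3) rfl N2046 D4700
theorem N3973 : nd 3973 = n4701 := ndS (p := 2047) (l := 3) rfl N2047 D4701
theorem N3974 : nd 3974 = n4702 := ndS (p := 2048) (l := 0) rfl N2048 D4702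
theorem N3975 : nd 3975 = n4703 := ndS (p := 2048) (l := 4) rfl N2048 D4703
theorem N3976 : nd 3976 = n4704 := ndS (p := 2049) (l := 4) rfl N2049 D4704
theorem N3977 : nd 3977 = n4705 := ndS (p := 2050) (l := 2) rfl N2050 D4705
theorem N3978 : nd 3978 = n4706 := ndS (p := 2050) (l := 3) rfl N2050 D4706
theorem N3979 : nd 3979 = n4707 := ndS (p := 2051) (l := 2) rfl N2051 D4707
theorem N3980 : nd 3980 = n4708 := ndS (p := 2051) (l := 3) rfl N2051 D4708
theorem N3981 : nd 3981 = n4709 := ndS (p := 2051) (l := 4) rfl N2051 D4709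
theorem N3982 : nd 3982 = n4710 := ndS (p := 2052) (l := 2) rfl N2052 D4710
theorem N3983 : nd 3983 = n4711 := ndS (p := 2052) (l := 3) rfl N2052 D4711
theorem N3984 : nd 3984 = n4712 := ndS (p := 2053) (l := 1) rfl N2053 D4712
theorem N3985 : nd 3985 = n4713 := ndS (p := 2053) (l := 3) rfl N2053 D4713
theorem N3986 : nd 3986 = n4714 := ndS (p := 2054) (l := 0) rfl N2054 D4714
theorem N3987 : nd 3987 = n4715 := ndS (p := 2054) (l := 4) rfl N2054 D4715
theorem N3988 : nd 3988 = n4716 := ndS (p := 2055) (l := 4) rfl N2055 D4716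
theorem N3989 : nd 3989 = n4717 := ndS (p := 2056) (l := 2) rfl N2056 D4717
theorem N3990 : nd 3990 = n4718 := ndS (p := 2056) (l := 3) rfl N2056 D4718
theorem N3991 : nd 3991 = n4719 := ndS (p := 2057) (l := 0) rfl N2057 D4719
theorem N3992 : nd 3992 = n4720 := ndS (p := 2057) (l := 1) rfl N2057 D4720
theorem N3993 : nd 3993 = n4721 := ndS (p := 2057) (l := 3) rfl N2057 D4721
theorem N3994 : nd 3994 = n4722 := ndS (p := 2057) (l := 4) rfl N2057 D4722
theorem N3995 : nd 3995 = n4723 := ndS (p := 2058) (l := 4) rfl N2058 D4723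
theorem N3996 : nd 3996 = n4724 := ndS (p := 2059) (l := 3) rfl N2059 D4724
theorem N3997 : nd 3997 = n4725 := ndS (p := 2060) (l := 2) rfl N2060 D4725
theorem N3998 : nd 3998 = n4726 := ndS (p := 2060) (l := 3) rfl N2060 D4726
theorem N3999 : nd 3999 = n4727 := ndS (p := 2061) (l := 0) rfl N2061 D4727
theorem N4000 : nd 4000 = n4728 := ndS (p := 2061) (l := 4) rfl N2061 D4728
theorem N4001 : nd 4001 = n4730 := ndS (p := 2063) (l := 2) rfl N2063 D4730
theorem N4002 : nd 4002 = n4731 := ndS (p := 2063) (l := 4) rfl N2063 D4731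
theorem N4003 : nd 4003 = n4733 := ndS (p := 2065) (l := 4) rfl N2065 D4733
theorem N4004 : nd 4004 = n4734 := ndS (p := 2066) (l := 3) rfl N2066 D4734
theorem N4005 : nd 4005 = n4735 := ndS (p := 2067) (l := 2) rfl N2067 D4735
theorem N4006 : nd 4006 = n4736 := ndS (p := 2067) (l := 3) rfl N2067 D4736
theorem N4007 : nd 4007 = n4737 := ndS (p := 2068) (l := 3) rfl N2068 D4737
theorem N4008 : nd 4008 = n4738 := ndS (p := 2069) (l := 0) rfl N2069 D4738
theorem N4009 : nd 4009 = n4739 := ndS (p := 2069) (l := 4) rfl N2069 D4739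
theorem N4010 : nd 4010 = n4740 := ndS (p := 2070) (l := 0) rfl N2070 D4740
theorem N4011 : nd 4011 = n4741 := ndS (p := 2070) (l := 2) rfl N2070 D4741
theorem N4012 : nd 4012 = n4742 := ndS (p := 2070) (l := 4) rfl N2070 D4742
theorem N4013 : nd 4013 = n4743 := ndS (p := 2071) (l := 1) rfl N2071 D4743
theorem N4014 : nd 4014 = n4744 := ndS (p := 2071) (l := 3) rfl N2071 D4744
theorem N4015 : nd 4015 = n4745 := ndS (p := 2071) (l := 4) rfl N2071 D4745
theorem N4016 : nd 4016 = n4746 := ndS (p := 2072) (l := 4) rfl N2072 D4746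
theorem N4017 : nd 4017 = n4747 := ndS (p := 2073) (l := 2) rfl N2073 D4747
theorem N4018 : nd 4018 = n4748 := ndS (p := 2073) (l := 3) rfl N2073 D4748
theorem N4019 : nd 4019 = n4749 := ndS (p := 2074) (l := 0) rfl N2074 D4749
theorem N4020 : nd 4020 = n4751 := ndS (p := 2074) (l := 3) rfl N2074 D4751
theorem N4021 : nd 4021 = n4753 := ndS (p := 2075) (l := 4) rfl N2075 D4753
theorem N4022 : nd 4022 = n4754 := ndS (p := 2076) (l := 0) rfl N2076 D4754
theorem N4023 : nd 4023 = n4755 := ndS (p := 2076) (l := 4) rfl N2076 D4755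
theorem N4024 : nd 4024 = n4756 := ndS (p := 2077) (l := 1) rfl N2077 D4756
theorem N4025 : nd 4025 = n4757 := ndS (p := 2077) (l := 2) rfl N2077 D4757
theorem N4026 : nd 4026 = n4758 := ndS (p := 2077) (l := 4) rfl N2077 D4758
theorem N4027 : nd 4027 = n4760 := ndS (p := 2079) (l := 4) rfl N2079 D4760
theorem N4028 : nd 4028 = n4761 := ndS (p := 2080) (l := 4) rfl N2080 D4761
theorem N4029 : nd 4029 = n4762 := ndS (p := 2081) (l := 2) rfl N2081 D4762
theorem N4030 : nd 4030 = n4763 := ndS (p := 2081) (l := 3) rfl N2081 D4763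
theorem N4031 : nd 4031 = n4764 := ndS (p := 2082) (l := 4) rfl N2082 D4764
theorem N4032 : nd 4032 = n4765 := ndS (p := 2083) (l := 4) rfl N2083 D4765
theorem N4033 : nd 4033 = n4766 := ndS (p := 2084) (l := 3) rfl N2084 D4766
theorem N4034 : nd 4034 = n4767 := ndS (p := 2085) (l := 2) rfl N2085 D4767
theorem N4035 : nd 4035 = n4768 := ndS (p := 2086) (l := 0) rfl N2086 D4768
theorem N4036 : nd 4036 = n4769 := ndS (p := 2086) (l := 1) rfl N2086 D4769
theorem N4037 : nd 4037 = n4770 := ndS (p := 2086) (l := 3) rfl N2086 D4770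
theorem N4038 : nd 4038 = n4771 := ndS (p := 2086) (l := 4) rfl N2086 D4771
theorem N4039 : nd 4039 = n4772 := ndS (p := 2087) (l := 4) rfl N2087 D4772
theorem N4040 : nd 4040 = n4773 := ndS (p := 2088) (l := 1) rfl N2088 D4773
theorem N4041 : nd 4041 = n4774 := ndS (p := 2088) (l := 3) rfl N2088 D4774
theorem N4042 : nd 4042 = n4775 := ndS (p := 2088) (l := 4) rfl N2088 D4775
theorem N4043 : nd 4043 = n4776 := ndS (p := 2089) (l := 0) rfl N2089 D4776
theorem N4044 : nd 4044 = n4777 := ndS (p := 2089) (l := 2) rfl N2089 D4777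
theorem N4045 : nd 4045 = n4778 := ndS (p := 2089) (l := 3) rfl N2089 D4778
theorem N4046 : nd 4046 = n4780 := ndS (p := 2090) (l := 0) rfl N2090 D4780
theorem N4047 : nd 4047 = n4781 := ndS (p := 2090) (l := 4) rfl N2090 D4781
theorem N4048 : nd 4048 = n4784 := ndS (p := 2093) (l := 4) rfl N2093 D4784
theorem N4049 : nd 4049 = n4785 := ndS (p := 2094) (l := 0) rfl N2094 D4785
theorem N4050 : nd 4050 = n4786 := ndS (p := 2094) (l := 3) rfl N2094 D4786
theorem N4051 : nd 4051 = n4787 := ndS (p := 2095) (l := 0) rfl N2095 D4787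
theorem N4052 : nd 4052 = n4789 := ndS (p := 2096) (l := 1) rfl N2096 D4789
theorem N4053 : nd 4053 = n4790 := ndS (p := 2096) (l := 2) rfl N2096 D4790
theorem N4054 : nd 4054 = n4791 := ndS (p := 2096) (l := 3) rfl N2096 D4791
theorem N4055 : nd 4055 = n4792 := ndS (p := 2096) (l := 4) rfl N2096 D4792
theorem N4056 : nd 4056 = n4797 := ndS (p := 2098) (l := 0) rfl N2098 D4797
theorem N4057 : nd 4057 = n4798 := ndS (p := 2098) (l := 2) rfl N2098 D4798
theorem N4058 : nd 4058 = n4799 := ndS (p := 2098) (l := 4) rfl N2098 D4799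
theorem N4059 : nd 4059 = n4800 := ndS (p := 2099) (l := 1) rfl N2099 D4800
theorem N4060 : nd 4060 = n4801 := ndS (p := 2099) (l := 4) rfl N2099 D4801
theorem N4061 : nd 4061 = n4802 := ndS (p := 2100) (l := 2) rfl N2100 D4802
theorem N4062 : nd 4062 = n4805 := ndS (p := 2101) (l := 2) rfl N2101 D4805
theorem N4063 : nd 4063 = n4806 := ndS (p := 2101) (l := 3) rfl N2101 D4806
theorem N4064 : nd 4064 = n4807 := ndS (p := 2102) (l := 4) rfl N2102 D4807
theorem N4065 : nd 4065 = n4808 := ndS (p := 2103) (l := 4) rfl N2103 D4808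
theorem N4066 : nd 4066 = n4809 := ndS (p := 2104) (l := 0) rfl N2104 D4809
theorem N4067 : nd 4067 = n4810 := ndS (p := 2104) (l := 4) rfl N2104 D4810
theorem N4068 : nd 4068 = n4811 := ndS (p := 2105) (l := 2) rfl N2105 D4811
theorem N4069 : nd 4069 = n4812 := ndS (p := 2105) (l := 3) rfl N2105 D4812
theorem N4070 : nd 4070 = n4813 := ndS (p := 2106) (l := 4) rfl N2106 D4813
theorem N4071 : nd 4071 = n4814 := ndS (p := 2107) (l := 2) rfl N2107 D4814
theorem N4072 : nd 4072 = n4815 := ndS (p := 2108) (l := 0) rfl N2108 D4815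
theorem N4073 : nd 4073 = n4816 := ndS (p := 2108) (l := 1) rfl N2108 D4816
theorem N4074 : nd 4074 = n4817 := ndS (p := 2108) (l := 3) rfl N2108 D4817
theorem N4075 : nd 4075 = n4818 := ndS (p := 2108) (l := 4) rfl N2108 D4818
theorem N4076 : nd 4076 = n4819 := ndS (p := 2109) (l := 0) rfl N2109 D4819
theorem N4077 : nd 4077 = n4820 := ndS (p := 2109) (l := 4) rfl N2109 D4820
theorem N4078 : nd 4078 = n4821 := ndS (p := 2110) (l := 2) rfl N2110 D4821
theorem N4079 : nd 4079 = n4822 := ndS (p := 2110) (l := 4) rfl N2110 D4822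
theorem N4080 : nd 4080 = n4823 := ndS (p := 2111) (l := 4) rfl N2111 D4823
theorem N4081 : nd 4081 = n4824 := ndS (p := 2112) (l := 4) rfl N2112 D4824
theorem N4082 : nd 4082 = n4825 := ndS (p := 2113) (l := 2) rfl N2113 D4825
theorem N4083 : nd 4083 = n4826 := ndS (p := 2113) (l := 3) rfl N2113 D4826
theorem N4084 : nd 4084 = n4827 := ndS (p := 2115) (l := 4) rfl N2115 D4827
theorem N4085 : nd 4085 = n4828 := ndS (p := 2116) (l := 1) rfl N2116 D4828
theorem N4086 : nd 4086 = n4829 := ndS (p := 2116) (l := 4) rfl N2116 D4829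
theorem N4087 : nd 4087 = n4830 := ndS (p := 2117) (l := 0) rfl N2117 D4830
theorem N4088 : nd 4088 = n4831 := ndS (p := 2117) (l := 2) rfl N2117 D4831
theorem N4089 : nd 4089 = n4832 := ndS (p := 2117) (l := 3) rfl N2117 D4832
theorem N4090 : nd 4090 = n4833 := ndS (p := 2117) (l := 4) rfl N2117 D4833
theorem N4091 : nd 4091 = n4834 := ndS (p := 2118) (l := 4) rfl N2118 D4834
theorem N4092 : nd 4092 = n4835 := ndS (p := 2121) (l := 0) rfl N2121 D4835
theorem N4093 : nd 4093 = n4836 := ndS (p := 2121) (l := 2) rfl N2121 D4836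
theorem N4094 : nd 4094 = n4837 := ndS (p := 2121) (l := 3) rfl N2121 D4837
theorem N4095 : nd 4095 = n4838 := ndS (p := 2121) (l := 4) rfl N2121 D4838
theorem N4096 : nd 4096 = n4839 := ndS (p := 2122) (l := 4) rfl N2122 D4839
theorem N4097 : nd 4097 = n4840 := ndS (p := 2123) (l := 3) rfl N2123 D4840
theorem N4098 : nd 4098 = n4841 := ndS (p := 2124) (l := 1) rfl N2124 D4841
theorem N4099 : nd 4099 = n4842 := ndS (p := 2124) (l := 2) rfl N2124 D4842
theorem N4100 : nd 4100 = n4843 := ndS (p := 2124) (l := 3) rfl N2124 D4843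
theorem N4101 : nd 4101 = n4844 := ndS (p := 2124) (l := 4) rfl N2124 D4844
theorem N4102 : nd 4102 = n4845 := ndS (p := 2125) (l := 0) rfl N2125 D4845
theorem N4103 : nd 4103 = n4846 := ndS (p := 2125) (l := 3) rfl N2125 D4846
theorem N4104 : nd 4104 = n4847 := ndS (p := 2125) (l := 4) rfl N2125 D4847
theorem N4105 : nd 4105 = n4848 := ndS (p := 2126) (l := 0) rfl N2126 D4848
theorem N4106 : nd 4106 = n4849 := ndS (p := 2127) (l := 2) rfl N2127 D4849
theorem N4107 : nd 4107 = n4850 := ndS (p := 2129) (l := 0) rfl N2129 D4850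
theorem N4108 : nd 4108 = n4851 := ndS (p := 2130) (l := 1) rfl N2130 D4851
theorem N4109 : nd 4109 = n4852 := ndS (p := 2130) (l := 2) rfl N2130 D4852
theorem N4110 : nd 4110 = n4853 := ndS (p := 2130) (l := 3) rfl N2130 D4853
theorem N4111 : nd 4111 = n4854 := ndS (p := 2130) (l := 4) rfl N2130 D4854
theorem N4112 : nd 4112 = n4855 := ndS (p := 2131) (l := 0) rfl N2131 D4855
theorem N4113 : nd 4113 = n4856 := ndS (p := 2131) (l := 4) rfl N2131 D4856
theorem N4114 : nd 4114 = n4857 := ndS (p := 2132) (l := 2) rfl N2132 D4857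
theorem N4115 : nd 4115 = n4859 := ndS (p := 2133) (l := 1) rfl N2133 D4859
theorem N4116 : nd 4116 = n4860 := ndS (p := 2133) (l := 2) rfl N2133 D4860
theorem N4117 : nd 4117 = n4861 := ndS (p := 2133) (l := 3) rfl N2133 D4861
theorem N4118 : nd 4118 = n4862 := ndS (p := 2133) (l := 4) rfl N2133 D4862
theorem N4119 : nd 4119 = n4863 := ndS (p := 2134) (l := 2) rfl N2134 D4863
theorem N4120 : nd 4120 = n4864 := ndS (p := 2135) (l := 0) rfl N2135 D4864
theorem N4121 : nd 4121 = n4865 := ndS (p := 2135) (l := 2) rfl N2135 D4865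
theorem N4122 : nd 4122 = n4866 := ndS (p := 2135) (l := 3) rfl N2135 D4866
theorem N4123 : nd 4123 = n4867 := ndS (p := 2135) (l := 4) rfl N2135 D4867
theorem N4124 : nd 4124 = n4868 := ndS (p := 2138) (l := 2) rfl N2138 D4868
theorem N4125 : nd 4125 = n4869 := ndS (p := 2138) (l := 4) rfl N2138 D4869
theorem N4126 : nd 4126 = n4870 := ndS (p := 2139) (l := 0) rfl N2139 D4870
theorem N4127 : nd 4127 = n4871 := ndS (p := 2139) (l := 1) rfl N2139 D4871
theorem N4128 : nd 4128 = n4872 := ndS (p := 2139) (l := 4) rfl N2139 D4872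
theorem N4129 : nd 4129 = n4873 := ndS (p := 2140) (l := 2) rfl N2140 D4873
theorem N4130 : nd 4130 = n4874 := ndS (p := 2141) (l := 0) rfl N2141 D4874
theorem N4131 : nd 4131 = n4875 := ndS (p := 2141) (l := 2) rfl N2141 D4875
theorem N4132 : nd 4132 = n4876 := ndS (p := 2141) (l := 4) rfl N2141 D4876
theorem N4133 : nd 4133 = n4877 := ndS (p := 2143) (l := 1) rfl N2143 D4877
theorem N4134 : nd 4134 = n4878 := ndS (p := 2144) (l := 2) rfl N2144 D4878
theorem N4135 : nd 4135 = n4879 := ndS (p := 2144) (l := 4) rfl N2144 D4879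
theorem N4136 : nd 4136 = n4880 := ndS (p := 2145) (l := 4) rfl N2145 D4880
theorem N4137 : nd 4137 = n4881 := ndS (p := 2146) (l := 2) rfl N2146 D4881
theorem N4138 : nd 4138 = n4882 := ndS (p := 2146) (l := 3) rfl N2146 D4882
theorem N4139 : nd 4139 = n4883 := ndS (p := 2147) (l := 2) rfl N2147 D4883
theorem N4140 : nd 4140 = n4884 := ndS (p := 2148) (l := 0) rfl N2148 D4884
theorem N4141 : nd 4141 = n4885 := ndS (p := 2148) (l := 3) rfl N2148 D4885
theorem N4142 : nd 4142 = n4886 := ndS (p := 2148) (l := 4) rfl N2148 D4886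
theorem N4143 : nd 4143 = n4887 := ndS (p := 2149) (l := 4) rfl N2149 D4887
theorem N4144 : nd 4144 = n4888 := ndS (p := 2150) (l := 4) rfl N2150 D4888
theorem N4145 : nd 4145 = n4889 := ndS (p := 2151) (l := 2) rfl N2151 D4889
theorem N4146 : nd 4146 = n4890 := ndS (p := 2152) (l := 4) rfl N2152 D4890
theorem N4147 : nd 4147 = n4891 := ndS (p := 2153) (l := 1) rfl N2153 D4891
theorem N4148 : nd 4148 = n4892 := ndS (p := 2153) (l := 3) rfl N2153 D4892
theorem N4149 : nd 4149 = n4893 := ndS (p := 2153) (l := 4) rfl N2153 D4893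
theorem N4150 : nd 4150 = n4894 := ndS (p := 2154) (l := 0) rfl N2154 D4894
theorem N4151 : nd 4151 = n4895 := ndS (p := 2157) (l := 2) rfl N2157 D4895
theorem N4152 : nd 4152 = n4896 := ndS (p := 2157) (l := 4) rfl N2157 D4896
theorem N4153 : nd 4153 = n4897 := ndS (p := 2158) (l := 0) rfl N2158 D4897
theorem N4154 : nd 4154 = n4898 := ndS (p := 2158) (l := 1) rfl N2158 D4898
theorem N4155 : nd 4155 = n4899 := ndS (p := 2158) (l := 3) rfl N2158 D4899
theorem N4156 : nd 4156 = n4900 := ndS (p := 2158) (l := 4) rfl N2158 D4900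
theorem N4157 : nd 4157 = n4901 := ndS (p := 2159) (l := 4) rfl N2159 D4901
theorem N4158 : nd 4158 = n4902 := ndS (p := 2160) (l := 2) rfl N2160 D4902
theorem N4159 : nd 4159 = n4903 := ndS (p := 2160) (l := 3) rfl N2160 D4903
theorem N4160 : nd 4160 = n4904 := ndS (p := 2161) (l := 4) rfl N2161 D4904
theorem N4161 : nd 4161 = n4905 := ndS (p := 2162) (l := 2) rfl N2162 D4905
theorem N4162 : nd 4162 = n4906 := ndS (p := 2163) (l := 1) rfl N2163 D4906
theorem N4163 : nd 4163 = n4907 := ndS (p := 2163) (l := 2) rfl N2163 D4907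
theorem N4164 : nd 4164 = n4908 := ndS (p := 2163) (l := 3) rfl N2163 D4908
theorem N4165 : nd 4165 = n4909 := ndS (p := 2163) (l := 4) rfl N2163 D4909
theorem N4166 : nd 4166 = n4910 := ndS (p := 2164) (l := 2) rfl N2164 D4910
theorem N4167 : nd 4167 = n4911 := ndS (p := 2165) (l := 0) rfl N2165 D4911
theorem N4168 : nd 4168 = n4912 := ndS (p := 2165) (l := 1) rfl N2165 D4912
theorem N4169 : nd 4169 = n4913 := ndS (p := 2165) (l := 3) rfl N2165 D4913
theorem N4170 : nd 4170 = n4914 := ndS (p := 2165) (l := 4) rfl N2165 D4914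
theorem N4171 : nd 4171 = n4915 := ndS (p := 2166) (l := 0) rfl N2166 D4915
theorem N4172 : nd 4172 = n4916 := ndS (p := 2166) (l := 4) rfl N2166 D4916
theorem N4173 : nd 4173 = n4917 := ndS (p := 2168) (l := 0) rfl N2168 D4917
theorem N4174 : nd 4174 = n4918 := ndS (p := 2168) (l := 4) rfl N2168 D4918
theorem N4175 : nd 4175 = n4919 := ndS (p := 2170) (l := 0) rfl N2170 D4919
theorem N4176 : nd 4176 = n4920 := ndS (p := 2170) (l := 2) rfl N2170 D4920
theorem N4177 : nd 4177 = n4921 := ndS (p := 2171) (l := 1) rfl N2171 D4921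
theorem N4178 : nd 4178 = n4922 := ndS (p := 2171) (l := 2) rfl N2171 D4922
theorem N4179 : nd 4179 = n4923 := ndS (p := 2171) (l := 3) rfl N2171 D4923
theorem N4180 : nd 4180 = n4924 := ndS (p := 2171) (l := 4) rfl N2171 D4924
theorem N4181 : nd 4181 = n4925 := ndS (p := 2172) (l := 0) rfl N2172 D4925
theorem N4182 : nd 4182 = n4926 := ndS (p := 2172) (l := 3) rfl N2172 D4926
theorem N4183 : nd 4183 = n4927 := ndS (p := 2172) (l := 4) rfl N2172 D4927
theorem N4184 : nd 4184 = n4928 := ndS (p := 2173) (l := 0) rfl N2173 D4928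
theorem N4185 : nd 4185 = n4929 := ndS (p := 2173) (l := 4) rfl N2173 D4929
theorem N4186 : nd 4186 = n4930 := ndS (p := 2174) (l := 2) rfl N2174 D4930
theorem N4187 : nd 4187 = n4931 := ndS (p := 2176) (l := 1) rfl N2176 D4931
theorem N4188 : nd 4188 = n4932 := ndS (p := 2176) (l := 4) rfl N2176 D4932
theorem N4189 : nd 4189 = n4933 := ndS (p := 2177) (l := 0) rfl N2177 D4933
theorem N4190 : nd 4190 = n4934 := ndS (p := 2177) (l := 1) rfl N2177 D4934
theorem N4191 : nd 4191 = n4935 := ndS (p := 2177) (l := 3) rfl N2177 D4935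
theorem N4192 : nd 4192 = n4936 := ndS (p := 2177) (l := 4) rfl N2177 D4936
theorem N4193 : nd 4193 = n4937 := ndS (p := 2178) (l := 0) rfl N2178 D4937
theorem N4194 : nd 4194 = n4938 := ndS (p := 2178) (l := 4) rfl N2178 D4938
theorem N4195 : nd 4195 = n4939 := ndS (p := 2179) (l := 2) rfl N2179 D4939
theorem N4196 : nd 4196 = n4940 := ndS (p := 2179) (l := 3) rfl N2179 D4940
theorem N4197 : nd 4197 = n4941 := ndS (p := 2182) (l := 2) rfl N2182 D4941
theorem N4198 : nd 4198 = n4942 := ndS (p := 2182) (l := 4) rfl N2182 D4942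
theorem N4199 : nd 4199 = n4943 := ndS (p := 2183) (l := 0) rfl N2183 D4943
theorem N4200 : nd 4200 = n4944 := ndS (p := 2183) (l := 1) rfl N2183 D4944
theorem N4201 : nd 4201 = n4945 := ndS (p := 2183) (l := 3) rfl N2183 D4945
theorem N4202 : nd 4202 = n4946 := ndS (p := 2183) (l := 4) rfl N2183 D4946
theorem N4203 : nd 4203 = n4947 := ndS (p := 2184) (l := 4) rfl N2184 D4947
theorem N4204 : nd 4204 = n4948 := ndS (p := 2185) (l := 2) rfl N2185 D4948
theorem N4205 : nd 4205 = n4949 := ndS (p := 2185) (l := 3) rfl N2185 D4949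
theorem N4206 : nd 4206 = n4950 := ndS (p := 2186) (l := 1) rfl N2186 D4950
theorem N4207 : nd 4207 = n4951 := ndS (p := 2186) (l := 2) rfl N2186 D4951
theorem N4208 : nd 4208 = n4952 := ndS (p := 2186) (l := 3) rfl N2186 D4952
theorem N4209 : nd 4209 = n4953 := ndS (p := 2186) (l := 4) rfl N2186 D4953
theorem N4210 : nd 4210 = n4954 := ndS (p := 2187) (l := 0) rfl N2187 D4954
theorem N4211 : nd 4211 = n4955 := ndS (p := 2187) (l := 4) rfl N2187 D4955
theorem N4212 : nd 4212 = n4956 := ndS (p := 2188) (l := 2) rfl N2188 D4956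
theorem N4213 : nd 4213 = n4958 := ndS (p := 2189) (l := 1) rfl N2189 D4958
theorem N4214 : nd 4214 = n4959 := ndS (p := 2189) (l := 2) rfl N2189 D4959
theorem N4215 : nd 4215 = n4960 := ndS (p := 2189) (l := 3) rfl N2189 D4960
theorem N4216 : nd 4216 = n4961 := ndS (p := 2189) (l := 4) rfl N2189 D4961
theorem N4217 : nd 4217 = n4962 := ndS (p := 2190) (l := 2) rfl N2190 D4962
theorem N4218 : nd 4218 = n4963 := ndS (p := 2191) (l := 0) rfl N2191 D4963
theorem N4219 : nd 4219 = n4965 := ndS (p := 2192) (l := 2) rfl N2192 D4965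
theorem N4220 : nd 4220 = n4966 := ndS (p := 2192) (l := 4) rfl N2192 D4966
theorem N4221 : nd 4221 = n4967 := ndS (p := 2194) (l := 4) rfl N2194 D4967
theorem N4222 : nd 4222 = n4968 := ndS (p := 2195) (l := 3) rfl N2195 D4968
theorem N4223 : nd 4223 = n4969 := ndS (p := 2196) (l := 2) rfl N2196 D4969
theorem N4224 : nd 4224 = n4970 := ndS (p := 2197) (l := 3) rfl N2197 D4970
theorem N4225 : nd 4225 = n4971 := ndS (p := 2198) (l := 0) rfl N2198 D4971
theorem N4226 : nd 4226 = n4972 := ndS (p := 2199) (l := 0) rfl N2199 D4972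
theorem N4227 : nd 4227 = n4973 := ndS (p := 2200) (l := 3) rfl N2200 D4973
theorem N4228 : nd 4228 = n4974 := ndS (p := 2200) (l := 4) rfl N2200 D4974
theorem N4229 : nd 4229 = n4975 := ndS (p := 2201) (l := 0) rfl N2201 D4975
theorem N4230 : nd 4230 = n4976 := ndS (p := 2201) (l := 4) rfl N2201 D4976
theorem N4231 : nd 4231 = n4977 := ndS (p := 2202) (l := 2) rfl N2202 D4977
theorem N4232 : nd 4232 = n4978 := ndS (p := 2202) (l := 3) rfl N2202 D4978
theorem N4233 : nd 4233 = n4979 := ndS (p := 2203) (l := 2) rfl N2203 D4979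
theorem N4234 : nd 4234 = n4980 := ndS (p := 2203) (l := 4) rfl N2203 D4980
theorem N4235 : nd 4235 = n4981 := ndS (p := 2204) (l := 2) rfl N2204 D4981
theorem N4236 : nd 4236 = n4982 := ndS (p := 2205) (l := 0) rfl N2205 D4982
theorem N4237 : nd 4237 = n4983 := ndS (p := 2205) (l := 3) rfl N2205 D4983
theorem N4238 : nd 4238 = n4984 := ndS (p := 2205) (l := 4) rfl N2205 D4984
theorem N4239 : nd 4239 = n4985 := ndS (p := 2206) (l := 0) rfl N2206 D4985
theorem N4240 : nd 4240 = n4986 := ndS (p := 2207) (l := 3) rfl N2207 D4986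
theorem N4241 : nd 4241 = n4987 := ndS (p := 2208) (l := 4) rfl N2208 D4987
theorem N4242 : nd 4242 = n4988 := ndS (p := 2209) (l := 3) rfl N2209 D4988
theorem N4243 : nd 4243 = n4989 := ndS (p := 2210) (l := 1) rfl N2210 D4989
theorem N4244 : nd 4244 = n4990 := ndS (p := 2210) (l := 2) rfl N2210 D4990
theorem N4245 : nd 4245 = n4991 := ndS (p := 2210) (l := 3) rfl N2210 D4991
theorem N4246 : nd 4246 = n4992 := ndS (p := 2210) (l := 4) rfl N2210 D4992
theorem N4247 : nd 4247 = n4993 := ndS (p := 2211) (l := 2) rfl N2211 D4993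
theorem N4248 : nd 4248 = n4998 := ndS (p := 2213) (l := 0) rfl N2213 D4998
theorem N4249 : nd 4249 = n4999 := ndS (p := 2213) (l := 2) rfl N2213 D4999
theorem N4250 : nd 4250 = n5000 := ndS (p := 2213) (l := 4) rfl N2213 D5000
theorem N4251 : nd 4251 = n5001 := ndS (p := 2214) (l := 1) rfl N2214 D5001
theorem N4252 : nd 4252 = n5002 := ndS (p := 2214) (l := 3) rfl N2214 D5002
theorem N4253 : nd 4253 = n5003 := ndS (p := 2214) (l := 4) rfl N2214 D5003
theorem N4254 : nd 4254 = n5004 := ndS (p := 2216) (l := 2) rfl N2216 D5004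
theorem N4255 : nd 4255 = n5005 := ndS (p := 2217) (l := 0) rfl N2217 D5005
theorem N4256 : nd 4256 = n5008 := ndS (p := 2218) (l := 4) rfl N2218 D5008
theorem N4257 : nd 4257 = n5009 := ndS (p := 2219) (l := 0) rfl N2219 D5009
theorem N4258 : nd 4258 = n5010 := ndS (p := 2219) (l := 1) rfl N2219 D5010
theorem N4259 : nd 4259 = n5011 := ndS (p := 2219) (l := 3) rfl N2219 D5011
theorem N4260 : nd 4260 = n5012 := ndS (p := 2219) (l := 4) rfl N2219 D5012
theorem N4261 : nd 4261 = n5013 := ndS (p := 2220) (l := 0) rfl N2220 D5013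
theorem N4262 : nd 4262 = n5014 := ndS (p := 2221) (l := 2) rfl N2221 D5014
theorem N4263 : nd 4263 = n5015 := ndS (p := 2222) (l := 0) rfl N2222 D5015
theorem N4264 : nd 4264 = n5016 := ndS (p := 2222) (l := 2) rfl N2222 D5016
theorem N4265 : nd 4265 = n5017 := ndS (p := 2223) (l := 0) rfl N2223 D5017
theorem N4266 : nd 4266 = n5018 := ndS (p := 2223) (l := 4) rfl N2223 D5018
theorem N4267 : nd 4267 = n5019 := ndS (p := 2224) (l := 2) rfl N2224 D5019
theorem N4268 : nd 4268 = n5020 := ndS (p := 2225) (l := 2) rfl N2225 D5020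
theorem N4269 : nd 4269 = n5021 := ndS (p := 2225) (l := 4) rfl N2225 D5021
theorem N4270 : nd 4270 = n5022 := ndS (p := 2226) (l := 2) rfl N2226 D5022
theorem N4271 : nd 4271 = n5023 := ndS (p := 2227) (l := 0) rfl N2227 D5023
theorem N4272 : nd 4272 = n5024 := ndS (p := 2228) (l := 1) rfl N2228 D5024
theorem N4273 : nd 4273 = n5025 := ndS (p := 2228) (l := 2) rfl N2228 D5025
theorem N4274 : nd 4274 = n5026 := ndS (p := 2228) (l := 3) rfl N2228 D5026
theorem N4275 : nd 4275 = n5027 := ndS (p := 2228) (l := 4) rfl N2228 D5027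
theorem N4276 : nd 4276 = n5028 := ndS (p := 2229) (l := 0) rfl N2229 D5028
theorem N4277 : nd 4277 = n5029 := ndS (p := 2229) (l := 4) rfl N2229 D5029
theorem N4278 : nd 4278 = n5030 := ndS (p := 2230) (l := 2) rfl N2230 D5030
theorem N4279 : nd 4279 = n5031 := ndS (p := 2231) (l := 0) rfl N2231 D5031
theorem N4280 : nd 4280 = n5032 := ndS (p := 2231) (l := 2) rfl N2231 D5032
theorem N4281 : nd 4281 = n5033 := ndS (p := 2232) (l := 4) rfl N2232 D5033
theorem N4282 : nd 4282 = n5034 := ndS (p := 2233) (l := 2) rfl N2233 D5034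
theorem N4283 : nd 4283 = n5035 := ndS (p := 2233) (l := 3) rfl N2233 D5035
theorem N4284 : nd 4284 = n5036 := ndS (p := 2234) (l := 3) rfl N2234 D5036
theorem N4285 : nd 4285 = n5037 := ndS (p := 2235) (l := 0) rfl N2235 D5037
theorem N4286 : nd 4286 = n5038 := ndS (p := 2235) (l := 4) rfl N2235 D5038
theorem N4287 : nd 4287 = n5039 := ndS (p := 2236) (l := 4) rfl N2236 D5039
theorem N4288 : nd 4288 = n5040 := ndS (p := 2237) (l := 2) rfl N2237 D5040
theorem N4289 : nd 4289 = n5041 := ndS (p := 2237) (l := 3) rfl N2237 D5041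
theorem N4290 : nd 4290 = n5042 := ndS (p := 2238) (l := 1) rfl N2238 D5042
theorem N4291 : nd 4291 = n5043 := ndS (p := 2238) (l := 3) rfl N2238 D5043
theorem N4292 : nd 4292 = n5044 := ndS (p := 2238) (l := 4) rfl N2238 D5044
theorem N4293 : nd 4293 = n5045 := ndS (p := 2239) (l := 0) rfl N2239 D5045
theorem N4294 : nd 4294 = n5046 := ndS (p := 2239) (l := 4) rfl N2239 D5046
theorem N4295 : nd 4295 = n5047 := ndS (p := 2240) (l := 1) rfl N2240 D5047
theorem N4296 : nd 4296 = n5048 := ndS (p := 2240) (l := 4) rfl N2240 D5048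
theorem N4297 : nd 4297 = n5049 := ndS (p := 2241) (l := 2) rfl N2241 D5049
theorem N4298 : nd 4298 = n5050 := ndS (p := 2241) (l := 3) rfl N2241 D5050
theorem N4299 : nd 4299 = n5051 := ndS (p := 2242) (l := 0) rfl N2242 D5051
theorem N4300 : nd 4300 = n5052 := ndS (p := 2242) (l := 1) rfl N2242 D5052
theorem N4301 : nd 4301 = n5053 := ndS (p := 2242) (l := 3) rfl N2242 D5053
theorem N4302 : nd 4302 = n5054 := ndS (p := 2242) (l := 4) rfl N2242 D5054
theorem N4303 : nd 4303 = n5055 := ndS (p := 2243) (l := 4) rfl N2243 D5055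
theorem N4304 : nd 4304 = n5056 := ndS (p := 2244) (l := 3) rfl N2244 D5056
theorem N4305 : nd 4305 = n5057 := ndS (p := 2244) (l := 4) rfl N2244 D5057
theorem N4306 : nd 4306 = n5058 := ndS (p := 2245) (l := 0) rfl N2245 D5058
theorem N4307 : nd 4307 = n5059 := ndS (p := 2245) (l := 2) rfl N2245 D5059
theorem N4308 : nd 4308 = n5060 := ndS (p := 2245) (l := 3) rfl N2245 D5060
theorem N4309 : nd 4309 = n5061 := ndS (p := 2245) (l := 4) rfl N2245 D5061
theorem N4310 : nd 4310 = n5062 := ndS (p := 2246) (l := 0) rfl N2246 D5062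
theorem N4311 : nd 4311 = n5063 := ndS (p := 2246) (l := 4) rfl N2246 D5063
theorem N4312 : nd 4312 = n5065 := ndS (p := 2248) (l := 2) rfl N2248 D5065
theorem N4313 : nd 4313 = n5066 := ndS (p := 2248) (l := 4) rfl N2248 D5066
theorem N4314 : nd 4314 = n5068 := ndS (p := 2250) (l := 2) rfl N2250 D5068
theorem N4315 : nd 4315 = n5069 := ndS (p := 2250) (l := 3) rfl N2250 D5069
theorem N4316 : nd 4316 = n5070 := ndS (p := 2251) (l := 3) rfl N2251 D5070
theorem N4317 : nd 4317 = n5071 := ndS (p := 2251) (l := 4) rfl N2251 D5071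
theorem N4318 : nd 4318 = n5072 := ndS (p := 2252) (l := 0) rfl N2252 D5072
theorem N4319 : nd 4319 = n5073 := ndS (p := 2252) (l := 4) rfl N2252 D5073
theorem N4320 : nd 4320 = n5074 := ndS (p := 2253) (l := 4) rfl N2253 D5074
theorem N4321 : nd 4321 = n5075 := ndS (p := 2254) (l := 3) rfl N2254 D5075
theorem N4322 : nd 4322 = n5076 := ndS (p := 2255) (l := 4) rfl N2255 D5076
theorem N4323 : nd 4323 = n5077 := ndS (p := 2256) (l := 2) rfl N2256 D5077
theorem N4324 : nd 4324 = n5078 := ndS (p := 2256) (l := 3) rfl N2256 D5078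
theorem N4325 : nd 4325 = n5079 := ndS (p := 2257) (l := 3) rfl N2257 D5079
theorem N4326 : nd 4326 = n5080 := ndS (p := 2257) (l := 4) rfl N2257 D5080
theorem N4327 : nd 4327 = n5081 := ndS (p := 2258) (l := 0) rfl N2258 D5081
theorem N4328 : nd 4328 = n5082 := ndS (p := 2258) (l := 4) rfl N2258 D5082
theorem N4329 : nd 4329 = n5083 := ndS (p := 2259) (l := 0) rfl N2259 D5083
theorem N4330 : nd 4330 = n5084 := ndS (p := 2259) (l := 4) rfl N2259 D5084
theorem N4331 : nd 4331 = n5085 := ndS (p := 2260) (l := 4) rfl N2260 D5085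
theorem N4332 : nd 4332 = n5086 := ndS (p := 2261) (l := 4) rfl N2261 D5086
theorem N4333 : nd 4333 = n5087 := ndS (p := 2262) (l := 2) rfl N2262 D5087
theorem N4334 : nd 4334 = n5088 := ndS (p := 2262) (l := 3) rfl N2262 D5088
theorem N4335 : nd 4335 = n5089 := ndS (p := 2263) (l := 0) rfl N2263 D5089
theorem N4336 : nd 4336 = n5090 := ndS (p := 2263) (l := 1) rfl N2263 D5090
theorem N4337 : nd 4337 = n5091 := ndS (p := 2263) (l := 3) rfl N2263 D5091
theorem N4338 : nd 4338 = n5092 := ndS (p := 2263) (l := 4) rfl N2263 D5092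
theorem N4339 : nd 4339 = n5093 := ndS (p := 2264) (l := 4) rfl N2264 D5093
theorem N4340 : nd 4340 = n5094 := ndS (p := 2265) (l := 0) rfl N2265 D5094
theorem N4341 : nd 4341 = n5095 := ndS (p := 2265) (l := 4) rfl N2265 D5095
theorem N4342 : nd 4342 = n5097 := ndS (p := 2267) (l := 1) rfl N2267 D5097
theorem N4343 : nd 4343 = n5098 := ndS (p := 2267) (l := 2) rfl N2267 D5098
theorem N4344 : nd 4344 = n5099 := ndS (p := 2267) (l := 4) rfl N2267 D5099
theorem N4345 : nd 4345 = n5101 := ndS (p := 2269) (l := 4) rfl N2269 D5101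
theorem N4346 : nd 4346 = n5102 := ndS (p := 2270) (l := 4) rfl N2270 D5102
theorem N4347 : nd 4347 = n5103 := ndS (p := 2271) (l := 2) rfl N2271 D5103
theorem N4348 : nd 4348 = n5104 := ndS (p := 2271) (l := 3) rfl N2271 D5104
theorem N4349 : nd 4349 = n5105 := ndS (p := 2272) (l := 4) rfl N2272 D5105
theorem N4350 : nd 4350 = n5106 := ndS (p := 2273) (l := 4) rfl N2273 D5106
theorem N4351 : nd 4351 = n5107 := ndS (p := 2274) (l := 3) rfl N2274 D5107
theorem N4352 : nd 4352 = n5108 := ndS (p := 2275) (l := 2) rfl N2275 D5108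
theorem N4353 : nd 4353 = n5109 := ndS (p := 2276) (l := 0) rfl N2276 D5109
theorem N4354 : nd 4354 = n5110 := ndS (p := 2276) (l := 1) rfl N2276 D5110
theorem N4355 : nd 4355 = n5111 := ndS (p := 2276) (l := 3) rfl N2276 D5111
theorem N4356 : nd 4356 = n5112 := ndS (p := 2276) (l := 4) rfl N2276 D5112
theorem N4357 : nd 4357 = n5113 := ndS (p := 2277) (l := 4) rfl N2277 D5113
theorem N4358 : nd 4358 = n5114 := ndS (p := 2278) (l := 1) rfl N2278 D5114
theorem N4359 : nd 4359 = n5115 := ndS (p := 2278) (l := 3) rfl N2278 D5115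
theorem N4360 : nd 4360 = n5116 := ndS (p := 2278) (l := 4) rfl N2278 D5116
theorem N4361 : nd 4361 = n5117 := ndS (p := 2279) (l := 0) rfl N2279 D5117
theorem N4362 : nd 4362 = n5118 := ndS (p := 2279) (l := 2) rfl N2279 D5118
theorem N4363 : nd 4363 = n5119 := ndS (p := 2279) (l := 3) rfl N2279 D5119
theorem N4364 : nd 4364 = n5120 := ndS (p := 2279) (l := 4) rfl N2279 D5120
theorem N4365 : nd 4365 = n5121 := ndS (p := 2280) (l := 0) rfl N2280 D5121
theorem N4366 : nd 4366 = n5122 := ndS (p := 2280) (l := 4) rfl N2280 D5122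
theorem N4367 : nd 4367 = n5125 := ndS (p := 2283) (l := 3) rfl N2283 D5125
theorem N4368 : nd 4368 = n5126 := ndS (p := 2283) (l := 4) rfl N2283 D5126
theorem N4369 : nd 4369 = n5127 := ndS (p := 2284) (l := 4) rfl N2284 D5127
theorem N4370 : nd 4370 = n5128 := ndS (p := 2285) (l := 3) rfl N2285 D5128
theorem N4371 : nd 4371 = n5129 := ndS (p := 2286) (l := 3) rfl N2286 D5129
theorem N4372 : nd 4372 = n5130 := ndS (p := 2287) (l := 0) rfl N2287 D5130
theorem N4373 : nd 4373 = n5131 := ndS (p := 2287) (l := 3) rfl N2287 D5131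
theorem N4374 : nd 4374 = n5132 := ndS (p := 2288) (l := 0) rfl N2288 D5132
theorem N4375 : nd 4375 = n5133 := ndS (p := 2288) (l := 4) rfl N2288 D5133
theorem N4376 : nd 4376 = n5134 := ndS (p := 2289) (l := 2) rfl N2289 D5134
theorem N4377 : nd 4377 = n5136 := ndS (p := 2290) (l := 1) rfl N2290 D5136
theorem N4378 : nd 4378 = n5137 := ndS (p := 2290) (l := 2) rfl N2290 D5137
theorem N4379 : nd 4379 = n5138 := ndS (p := 2290) (l := 3) rfl N2290 D5138
theorem N4380 : nd 4380 = n5139 := ndS (p := 2290) (l := 4) rfl N2290 D5139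
theorem N4381 : nd 4381 = n5144 := ndS (p := 2292) (l := 0) rfl N2292 D5144
theorem N4382 : nd 4382 = n5145 := ndS (p := 2292) (l := 2) rfl N2292 D5145
theorem N4383 : nd 4383 = n5146 := ndS (p := 2292) (l := 4) rfl N2292 D5146
theorem N4384 : nd 4384 = n5147 := ndS (p := 2293) (l := 1) rfl N2293 D5147
theorem N4385 : nd 4385 = n5148 := ndS (p := 2293) (l := 4) rfl N2293 D5148
theorem N4386 : nd 4386 = n5149 := ndS (p := 2294) (l := 2) rfl N2294 D5149
theorem N4387 : nd 4387 = n5150 := ndS (p := 2295) (l := 1) rfl N2295 D5150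
theorem N4388 : nd 4388 = n5151 := ndS (p := 2295) (l := 3) rfl N2295 D5151
theorem N4389 : nd 4389 = n5152 := ndS (p := 2295) (l := 4) rfl N2295 D5152
theorem N4390 : nd 4390 = n5153 := ndS (p := 2296) (l := 2) rfl N2296 D5153
theorem N4391 : nd 4391 = n5154 := ndS (p := 2296) (l := 3) rfl N2296 D5154
theorem N4392 : nd 4392 = n5155 := ndS (p := 2297) (l := 3) rfl N2297 D5155
theorem N4393 : nd 4393 = n5156 := ndS (p := 2297) (l := 4) rfl N2297 D5156
theorem N4394 : nd 4394 = n5157 := ndS (p := 2298) (l := 0) rfl N2298 D5157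
theorem N4395 : nd 4395 = n5158 := ndS (p := 2298) (l := 4) rfl N2298 D5158
theorem N4396 : nd 4396 = n5159 := ndS (p := 2299) (l := 4) rfl N2299 D5159
theorem N4397 : nd 4397 = n5160 := ndS (p := 2300) (l := 3) rfl N2300 D5160
theorem N4398 : nd 4398 = n5161 := ndS (p := 2300) (l := 4) rfl N2300 D5161
theorem N4399 : nd 4399 = n5162 := ndS (p := 2301) (l := 4) rfl N2301 D5162
theorem N4400 : nd 4400 = n5163 := ndS (p := 2302) (l := 2) rfl N2302 D5163
theorem N4401 : nd 4401 = n5164 := ndS (p := 2302) (l := 3) rfl N2302 D5164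
theorem N4402 : nd 4402 = n5165 := ndS (p := 2303) (l := 0) rfl N2303 D5165
theorem N4403 : nd 4403 = n5166 := ndS (p := 2303) (l := 1) rfl N2303 D5166
theorem N4404 : nd 4404 = n5167 := ndS (p := 2303) (l := 3) rfl N2303 D5167
theorem N4405 : nd 4405 = n5168 := ndS (p := 2303) (l := 4) rfl N2303 D5168
theorem N4406 : nd 4406 = n5169 := ndS (p := 2304) (l := 4) rfl N2304 D5169
theorem N4407 : nd 4407 = n5170 := ndS (p := 2305) (l := 3) rfl N2305 D5170
theorem N4408 : nd 4408 = n5171 := ndS (p := 2306) (l := 0) rfl N2306 D5171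
theorem N4409 : nd 4409 = n5172 := ndS (p := 2306) (l := 4) rfl N2306 D5172
theorem N4410 : nd 4410 = n5174 := ndS (p := 2308) (l := 1) rfl N2308 D5174
theorem N4411 : nd 4411 = n5175 := ndS (p := 2308) (l := 2) rfl N2308 D5175
theorem N4412 : nd 4412 = n5176 := ndS (p := 2308) (l := 4) rfl N2308 D5176
theorem N4413 : nd 4413 = n5178 := ndS (p := 2311) (l := 1) rfl N2311 D5178
theorem N4414 : nd 4414 = n5179 := ndS (p := 2311) (l := 2) rfl N2311 D5179
theorem N4415 : nd 4415 = n5180 := ndS (p := 2311) (l := 3) rfl N2311 D5180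
theorem N4416 : nd 4416 = n5181 := ndS (p := 2311) (l := 4) rfl N2311 D5181
theorem N4417 : nd 4417 = n5182 := ndS (p := 2312) (l := 0) rfl N2312 D5182
theorem N4418 : nd 4418 = n5183 := ndS (p := 2312) (l := 3) rfl N2312 D5183
theorem N4419 : nd 4419 = n5185 := ndS (p := 2313) (l := 0) rfl N2313 D5185
theorem N4420 : nd 4420 = n5186 := ndS (p := 2313) (l := 4) rfl N2313 D5186
theorem N4421 : nd 4421 = n5187 := ndS (p := 2314) (l := 2) rfl N2314 D5187
theorem N4422 : nd 4422 = n5188 := ndS (p := 2316) (l := 3) rfl N2316 D5188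
theorem N4423 : nd 4423 = n5189 := ndS (p := 2318) (l := 0) rfl N2318 D5189
theorem N4424 : nd 4424 = n5190 := ndS (p := 2318) (l := 4) rfl N2318 D5190
theorem N4425 : nd 4425 = n5191 := ndS (p := 2319) (l := 1) rfl N2319 D5191
theorem N4426 : nd 4426 = n5192 := ndS (p := 2319) (l := 2) rfl N2319 D5192
theorem N4427 : nd 4427 = n5193 := ndS (p := 2319) (l := 3) rfl N2319 D5193
theorem N4428 : nd 4428 = n5194 := ndS (p := 2319) (l := 4) rfl N2319 D5194
theorem N4429 : nd 4429 = n5195 := ndS (p := 2320) (l := 2) rfl N2320 D5195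
theorem N4430 : nd 4430 = n5196 := ndS (p := 2322) (l := 2) rfl N2322 D5196
theorem N4431 : nd 4431 = n5197 := ndS (p := 2323) (l := 0) rfl N2323 D5197
theorem N4432 : nd 4432 = n5198 := ndS (p := 2323) (l := 1) rfl N2323 D5198
theorem N4433 : nd 4433 = n5199 := ndS (p := 2323) (l := 4) rfl N2323 D5199
theorem N4434 : nd 4434 = n5200 := ndS (p := 2324) (l := 4) rfl N2324 D5200
theorem N4435 : nd 4435 = n5201 := ndS (p := 2325) (l := 4) rfl N2325 D5201
theorem N4436 : nd 4436 = n5202 := ndS (p := 2326) (l := 2) rfl N2326 D5202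
theorem N4437 : nd 4437 = n5203 := ndS (p := 2326) (l := 3) rfl N2326 D5203
theorem N4438 : nd 4438 = n5204 := ndS (p := 2327) (l := 0) rfl N2327 D5204
theorem N4439 : nd 4439 = n5205 := ndS (p := 2327) (l := 3) rfl N2327 D5205
theorem N4440 : nd 4440 = n5206 := ndS (p := 2328) (l := 4) rfl N2328 D5206
theorem N4441 : nd 4441 = n5207 := ndS (p := 2329) (l := 3) rfl N2329 D5207
theorem N4442 : nd 4442 = n5208 := ndS (p := 2330) (l := 0) rfl N2330 D5208
theorem N4443 : nd 4443 = n5209 := ndS (p := 2330) (l := 4) rfl N2330 D5209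
theorem N4444 : nd 4444 = n5210 := ndS (p := 2331) (l := 1) rfl N2331 D5210
theorem N4445 : nd 4445 = n5211 := ndS (p := 2331) (l := 2) rfl N2331 D5211
theorem N4446 : nd 4446 = n5212 := ndS (p := 2331) (l := 4) rfl N2331 D5212
theorem N4447 : nd 4447 = n5213 := ndS (p := 2333) (l := 2) rfl N2333 D5213
theorem N4448 : nd 4448 = n5214 := ndS (p := 2333) (l := 3) rfl N2333 D5214
theorem N4449 : nd 4449 = n5215 := ndS (p := 2334) (l := 3) rfl N2334 D5215
theorem N4450 : nd 4450 = n5216 := ndS (p := 2335) (l := 0) rfl N2335 D5216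
theorem N4451 : nd 4451 = n5217 := ndS (p := 2335) (l := 4) rfl N2335 D5217
theorem N4452 : nd 4452 = n5218 := ndS (p := 2336) (l := 1) rfl N2336 D5218
theorem N4453 : nd 4453 = n5219 := ndS (p := 2336) (l := 3) rfl N2336 D5219
theorem N4454 : nd 4454 = n5220 := ndS (p := 2336) (l := 4) rfl N2336 D5220
theorem N4455 : nd 4455 = n5221 := ndS (p := 2337) (l := 2) rfl N2337 D5221
theorem N4456 : nd 4456 = n5222 := ndS (p := 2337) (l := 3) rfl N2337 D5222
theorem N4457 : nd 4457 = n5223 := ndS (p := 2338) (l := 3) rfl N2338 D5223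
theorem N4458 : nd 4458 = n5224 := ndS (p := 2339) (l := 0) rfl N2339 D5224
theorem N4459 : nd 4459 = n5225 := ndS (p := 2339) (l := 4) rfl N2339 D5225
theorem N4460 : nd 4460 = n5226 := ndS (p := 2340) (l := 2) rfl N2340 D5226
theorem N4461 : nd 4461 = n5227 := ndS (p := 2340) (l := 3) rfl N2340 D5227
theorem N4462 : nd 4462 = n5228 := ndS (p := 2341) (l := 0) rfl N2341 D5228
theorem N4463 : nd 4463 = n5229 := ndS (p := 2341) (l := 1) rfl N2341 D5229
theorem N4464 : nd 4464 = n5230 := ndS (p := 2341) (l := 3) rfl N2341 D5230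
theorem N4465 : nd 4465 = n5231 := ndS (p := 2341) (l := 4) rfl N2341 D5231
theorem N4466 : nd 4466 = n5232 := ndS (p := 2342) (l := 4) rfl N2342 D5232
theorem N4467 : nd 4467 = n5233 := ndS (p := 2343) (l := 0) rfl N2343 D5233
theorem N4468 : nd 4468 = n5234 := ndS (p := 2343) (l := 2) rfl N2343 D5234
theorem N4469 : nd 4469 = n5235 := ndS (p := 2343) (l := 3) rfl N2343 D5235
theorem N4470 : nd 4470 = n5236 := ndS (p := 2343) (l := 4) rfl N2343 D5236
theorem N4471 : nd 4471 = n5237 := ndS (p := 2344) (l := 0) rfl N2344 D5237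
theorem N4472 : nd 4472 = n5238 := ndS (p := 2344) (l := 4) rfl N2344 D5238
theorem N4473 : nd 4473 = n5240 := ndS (p := 2346) (l := 2) rfl N2346 D5240
theorem N4474 : nd 4474 = n5241 := ndS (p := 2346) (l := 4) rfl N2346 D5241
theorem N4475 : nd 4475 = n5243 := ndS (p := 2348) (l := 3) rfl N2348 D5243
theorem N4476 : nd 4476 = n5244 := ndS (p := 2349) (l := 0) rfl N2349 D5244
theorem N4477 : nd 4477 = n5245 := ndS (p := 2349) (l := 1) rfl N2349 D5245
theorem N4478 : nd 4478 = n5246 := ndS (p := 2349) (l := 3) rfl N2349 D5246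
theorem N4479 : nd 4479 = n5247 := ndS (p := 2349) (l := 4) rfl N2349 D5247
theorem N4480 : nd 4480 = n5248 := ndS (p := 2351) (l := 1) rfl N2351 D5248
theorem N4481 : nd 4481 = n5249 := ndS (p := 2351) (l := 3) rfl N2351 D5249
theorem N4482 : nd 4482 = n5250 := ndS (p := 2351) (l := 4) rfl N2351 D5250
theorem N4483 : nd 4483 = n5251 := ndS (p := 2352) (l := 0) rfl N2352 D5251
theorem N4484 : nd 4484 = n5252 := ndS (p := 2352) (l := 2) rfl N2352 D5252
theorem N4485 : nd 4485 = n5253 := ndS (p := 2352) (l := 3) rfl N2352 D5253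
theorem N4486 : nd 4486 = n5254 := ndS (p := 2352) (l := 4) rfl N2352 D5254
theorem N4487 : nd 4487 = n5255 := ndS (p := 2353) (l := 0) rfl N2353 D5255
theorem N4488 : nd 4488 = n5256 := ndS (p := 2353) (l := 4) rfl N2353 D5256
theorem N4489 : nd 4489 = n5259 := ndS (p := 2356) (l := 2) rfl N2356 D5259
theorem N4490 : nd 4490 = n5260 := ndS (p := 2356) (l := 3) rfl N2356 D5260
theorem N4491 : nd 4491 = n5261 := ndS (p := 2357) (l := 4) rfl N2357 D5261
theorem N4492 : nd 4492 = n5262 := ndS (p := 2358) (l := 3) rfl N2358 D5262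
theorem N4493 : nd 4493 = n5263 := ndS (p := 2359) (l := 3) rfl N2359 D5263
theorem N4494 : nd 4494 = n5264 := ndS (p := 2360) (l := 3) rfl N2360 D5264
theorem N4495 : nd 4495 = n5265 := ndS (p := 2361) (l := 0) rfl N2361 D5265
theorem N4496 : nd 4496 = n5266 := ndS (p := 2361) (l := 4) rfl N2361 D5266
theorem N4497 : nd 4497 = n5268 := ndS (p := 2363) (l := 1) rfl N2363 D5268
theorem N4498 : nd 4498 = n5269 := ndS (p := 2363) (l := 4) rfl N2363 D5269
theorem N4499 : nd 4499 = n5274 := ndS (p := 2365) (l := 1) rfl N2365 D5274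
theorem N4500 : nd 4500 = n5275 := ndS (p := 2365) (l := 4) rfl N2365 D5275
theorem N4501 : nd 4501 = n5276 := ndS (p := 2366) (l := 2) rfl N2366 D5276
theorem N4502 : nd 4502 = n5280 := ndS (p := 2367) (l := 3) rfl N2367 D5280
theorem N4503 : nd 4503 = n5281 := ndS (p := 2368) (l := 4) rfl N2368 D5281
theorem N4504 : nd 4504 = n5282 := ndS (p := 2369) (l := 1) rfl N2369 D5282
theorem N4505 : nd 4505 = n5283 := ndS (p := 2369) (l := 3) rfl N2369 D5283
theorem N4506 : nd 4506 = n5284 := ndS (p := 2369) (l := 4) rfl N2369 D5284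
theorem N4507 : nd 4507 = n5285 := ndS (p := 2370) (l := 4) rfl N2370 D5285
theorem N4508 : nd 4508 = n5286 := ndS (p := 2371) (l := 0) rfl N2371 D5286
theorem N4509 : nd 4509 = n5287 := ndS (p := 2371) (l := 3) rfl N2371 D5287
theorem N4510 : nd 4510 = n5288 := ndS (p := 2371) (l := 4) rfl N2371 D5288
theorem N4511 : nd 4511 = n5289 := ndS (p := 2372) (l := 4) rfl N2372 D5289
theorem N4512 : nd 4512 = n5293 := ndS (p := 2376) (l := 0) rfl N2376 D5293
theorem N4513 : nd 4513 = n5294 := ndS (p := 2376) (l := 4) rfl N2376 D5294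
theorem N4514 : nd 4514 = n5295 := ndS (p := 2377) (l := 2) rfl N2377 D5295
theorem N4515 : nd 4515 = n5296 := ndS (p := 2377) (l := 3) rfl N2377 D5296
theorem N4516 : nd 4516 = n5297 := ndS (p := 2378) (l := 0) rfl N2378 D5297
theorem N4517 : nd 4517 = n5298 := ndS (p := 2378) (l := 4) rfl N2378 D5298
theorem N4518 : nd 4518 = n5299 := ndS (p := 2379) (l := 3) rfl N2379 D5299
theorem N4519 : nd 4519 = n5300 := ndS (p := 2380) (l := 2) rfl N2380 D5300
theorem N4520 : nd 4520 = n5301 := ndS (p := 2381) (l := 1) rfl N2381 D5301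
theorem N4521 : nd 4521 = n5302 := ndS (p := 2381) (l := 3) rfl N2381 D5302
theorem N4522 : nd 4522 = n5303 := ndS (p := 2381) (l := 4) rfl N2381 D5303
theorem N4523 : nd 4523 = n5304 := ndS (p := 2382) (l := 4) rfl N2382 D5304
theorem N4524 : nd 4524 = n5305 := ndS (p := 2383) (l := 1) rfl N2383 D5305
theorem N4525 : nd 4525 = n5306 := ndS (p := 2383) (l := 3) rfl N2383 D5306
theorem N4526 : nd 4526 = n5307 := ndS (p := 2383) (l := 4) rfl N2383 D5307
theorem N4527 : nd 4527 = n5308 := ndS (p := 2384) (l := 0) rfl N2384 D5308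
theorem N4528 : nd 4528 = n5309 := ndS (p := 2384) (l := 2) rfl N2384 D5309
theorem N4529 : nd 4529 = n5310 := ndS (p := 2384) (l := 3) rfl N2384 D5310
theorem N4530 : nd 4530 = n5312 := ndS (p := 2385) (l := 4) rfl N2385 D5312
theorem N4531 : nd 4531 = n5315 := ndS (p := 2388) (l := 2) rfl N2388 D5315
theorem N4532 : nd 4532 = n5316 := ndS (p := 2388) (l := 3) rfl N2388 D5316
theorem N4533 : nd 4533 = n5317 := ndS (p := 2389) (l := 0) rfl N2389 D5317
theorem N4534 : nd 4534 = n5318 := ndS (p := 2389) (l := 3) rfl N2389 D5318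
theorem N4535 : nd 4535 = n5319 := ndS (p := 2390) (l := 0) rfl N2390 D5319
theorem N4536 : nd 4536 = n5321 := ndS (p := 2391) (l := 1) rfl N2391 D5321
theorem N4537 : nd 4537 = n5322 := ndS (p := 2391) (l := 3) rfl N2391 D5322
theorem N4538 : nd 4538 = n5323 := ndS (p := 2391) (l := 4) rfl N2391 D5323
theorem N4539 : nd 4539 = n5328 := ndS (p := 2393) (l := 0) rfl N2393 D5328
theorem N4540 : nd 4540 = n5329 := ndS (p := 2393) (l := 2) rfl N2393 D5329
theorem N4541 : nd 4541 = n5330 := ndS (p := 2393) (l := 4) rfl N2393 D5330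
theorem N4542 : nd 4542 = n5331 := ndS (p := 2394) (l := 1) rfl N2394 D5331
theorem N4543 : nd 4543 = n5332 := ndS (p := 2394) (l := 4) rfl N2394 D5332
theorem N4544 : nd 4544 = n5333 := ndS (p := 2395) (l := 2) rfl N2395 D5333
theorem N4545 : nd 4545 = n5337 := ndS (p := 2396) (l := 4) rfl N2396 D5337
theorem N4546 : nd 4546 = n5338 := ndS (p := 2397) (l := 2) rfl N2397 D5338
theorem N4547 : nd 4547 = n5339 := ndS (p := 2397) (l := 3) rfl N2397 D5339
theorem N4548 : nd 4548 = n5340 := ndS (p := 2399) (l := 0) rfl N2399 D5340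
theorem N4549 : nd 4549 = n5341 := ndS (p := 2400) (l := 4) rfl N2400 D5341
theorem N4550 : nd 4550 = n5342 := ndS (p := 2401) (l := 1) rfl N2401 D5342
theorem N4551 : nd 4551 = n5343 := ndS (p := 2401) (l := 3) rfl N2401 D5343
theorem N4552 : nd 4552 = n5344 := ndS (p := 2401) (l := 4) rfl N2401 D5344
theorem N4553 : nd 4553 = n5345 := ndS (p := 2402) (l := 4) rfl N2402 D5345
theorem N4554 : nd 4554 = n5346 := ndS (p := 2403) (l := 2) rfl N2403 D5346
theorem N4555 : nd 4555 = n5347 := ndS (p := 2403) (l := 3) rfl N2403 D5347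
theorem N4556 : nd 4556 = n5348 := ndS (p := 2405) (l := 4) rfl N2405 D5348
theorem N4557 : nd 4557 = n5349 := ndS (p := 2406) (l := 1) rfl N2406 D5349
theorem N4558 : nd 4558 = n5350 := ndS (p := 2406) (l := 4) rfl N2406 D5350
theorem N4559 : nd 4559 = n5351 := ndS (p := 2407) (l := 1) rfl N2407 D5351
theorem N4560 : nd 4560 = n5353 := ndS (p := 2408) (l := 0) rfl N2408 D5353
theorem N4561 : nd 4561 = n5354 := ndS (p := 2408) (l := 2) rfl N2408 D5354
theorem N4562 : nd 4562 = n5355 := ndS (p := 2408) (l := 3) rfl N2408 D5355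
theorem N4563 : nd 4563 = n5356 := ndS (p := 2408) (l := 4) rfl N2408 D5356
theorem N4564 : nd 4564 = n5357 := ndS (p := 2409) (l := 4) rfl N2409 D5357
theorem N4565 : nd 4565 = n5360 := ndS (p := 2412) (l := 0) rfl N2412 D5360
theorem N4566 : nd 4566 = n5361 := ndS (p := 2412) (l := 2) rfl N2412 D5361
theorem N4567 : nd 4567 = n5362 := ndS (p := 2412) (l := 3) rfl N2412 D5362
theorem N4568 : nd 4568 = n5363 := ndS (p := 2412) (l := 4) rfl N2412 D5363
theorem N4569 : nd 4569 = n5364 := ndS (p := 2413) (l := 4) rfl N2413 D5364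
theorem N4570 : nd 4570 = n5365 := ndS (p := 2414) (l := 3) rfl N2414 D5365
theorem N4571 : nd 4571 = n5366 := ndS (p := 2415) (l := 1) rfl N2415 D5366
theorem N4572 : nd 4572 = n5367 := ndS (p := 2415) (l := 2) rfl N2415 D5367
theorem N4573 : nd 4573 = n5368 := ndS (p := 2415) (l := 3) rfl N2415 D5368
theorem N4574 : nd 4574 = n5370 := ndS (p := 2416) (l := 0) rfl N2416 D5370
theorem N4575 : nd 4575 = n5371 := ndS (p := 2416) (l := 3) rfl N2416 D5371
theorem N4576 : nd 4576 = n5373 := ndS (p := 2417) (l := 0) rfl N2417 D5373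
theorem N4577 : nd 4577 = n5377 := ndS (p := 2418) (l := 1) rfl N2418 D5377
theorem N4578 : nd 4578 = n5378 := ndS (p := 2418) (l := 4) rfl N2418 D5378
theorem N4579 : nd 4579 = n5385 := ndS (p := 2420) (l := 0) rfl N2420 D5385
theorem N4580 : nd 4580 = n5386 := ndS (p := 2420) (l := 3) rfl N2420 D5386
theorem N4581 : nd 4581 = n5387 := ndS (p := 2421) (l := 0) rfl N2421 D5387
theorem N4582 : nd 4582 = n5388 := ndS (p := 2421) (l := 4) rfl N2421 D5388
theorem N4583 : nd 4583 = n5389 := ndS (p := 2422) (l := 3) rfl N2422 D5389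
theorem N4584 : nd 4584 = n5394 := ndS (p := 2425) (l := 3) rfl N2425 D5394
theorem N4585 : nd 4585 = n5395 := ndS (p := 2426) (l := 3) rfl N2426 D5395
theorem N4586 : nd 4586 = n5396 := ndS (p := 2427) (l := 0) rfl N2427 D5396
theorem N4587 : nd 4587 = n5397 := ndS (p := 2427) (l := 4) rfl N2427 D5397
theorem N4588 : nd 4588 = n5398 := ndS (p := 2428) (l := 1) rfl N2428 D5398
theorem N4589 : nd 4589 = n5399 := ndS (p := 2428) (l := 3) rfl N2428 D5399
theorem N4590 : nd 4590 = n5400 := ndS (p := 2429) (l := 0) rfl N2429 D5400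
theorem N4591 : nd 4591 = n5402 := ndS (p := 2430) (l := 1) rfl N2430 D5402
theorem N4592 : nd 4592 = n5403 := ndS (p := 2430) (l := 2) rfl N2430 D5403
theorem N4593 : nd 4593 = n5404 := ndS (p := 2430) (l := 3) rfl N2430 D5404
theorem N4594 : nd 4594 = n5408 := ndS (p := 2431) (l := 0) rfl N2431 D5408
theorem N4595 : nd 4595 = n5409 := ndS (p := 2431) (l := 2) rfl N2431 D5409
theorem N4596 : nd 4596 = n5410 := ndS (p := 2431) (l := 3) rfl N2431 D5410
theorem N4597 : nd 4597 = n5411 := ndS (p := 2431) (l := 4) rfl N2431 D5411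
theorem N4598 : nd 4598 = n5412 := ndS (p := 2432) (l := 1) rfl N2432 D5412
theorem N4599 : nd 4599 = n5426 := ndS (p := 2435) (l := 2) rfl N2435 D5426
theorem N4600 : nd 4600 = n5427 := ndS (p := 2435) (l := 4) rfl N2435 D5427
theorem N4601 : nd 4601 = n5428 := ndS (p := 2436) (l := 0) rfl N2436 D5428
theorem N4602 : nd 4602 = n5429 := ndS (p := 2438) (l := 0) rfl N2438 D5429
theorem N4603 : nd 4603 = n5430 := ndS (p := 2438) (l := 2) rfl N2438 D5430
theorem N4604 : nd 4604 = n5431 := ndS (p := 2438) (l := 4) rfl N2438 D5431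
theorem N4605 : nd 4605 = n5434 := ndS (p := 2440) (l := 1) rfl N2440 D5434
theorem N4606 : nd 4606 = n5440 := ndS (p := 2441) (l := 4) rfl N2441 D5440
theorem N4607 : nd 4607 = n5441 := ndS (p := 2442) (l := 2) rfl N2442 D5441
theorem N4608 : nd 4608 = n5442 := ndS (p := 2443) (l := 4) rfl N2443 D5442
theorem N4609 : nd 4609 = n5443 := ndS (p := 2444) (l := 2) rfl N2444 D5443
theorem N4610 : nd 4610 = n5444 := ndS (p := 2445) (l := 0) rfl N2445 D5444
theorem N4611 : nd 4611 = n5445 := ndS (p := 2445) (l := 1) rfl N2445 D5445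
theorem N4612 : nd 4612 = n5446 := ndS (p := 2445) (l := 3) rfl N2445 D5446
theorem N4613 : nd 4613 = n5447 := ndS (p := 2445) (l := 4) rfl N2445 D5447
theorem N4614 : nd 4614 = n5448 := ndS (p := 2446) (l := 0) rfl N2446 D5448
theorem N4615 : nd 4615 = n5449 := ndS (p := 2446) (l := 4) rfl N2446 D5449
theorem N4616 : nd 4616 = n5450 := ndS (p := 2447) (l := 2) rfl N2447 D5450
theorem N4617 : nd 4617 = n5451 := ndS (p := 2448) (l := 4) rfl N2448 D5451
theorem N4618 : nd 4618 = n5452 := ndS (p := 2449) (l := 4) rfl N2449 D5452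
theorem N4619 : nd 4619 = n5453 := ndS (p := 2450) (l := 4) rfl N2450 D5453
theorem N4620 : nd 4620 = n5454 := ndS (p := 2451) (l := 2) rfl N2451 D5454
theorem N4621 : nd 4621 = n5455 := ndS (p := 2451) (l := 3) rfl N2451 D5455
theorem N4622 : nd 4622 = n5456 := ndS (p := 2452) (l := 2) rfl N2452 D5456
theorem N4623 : nd 4623 = n5457 := ndS (p := 2452) (l := 3) rfl N2452 D5457
theorem N4624 : nd 4624 = n5458 := ndS (p := 2452) (l := 4) rfl N2452 D5458
theorem N4625 : nd 4625 = n5459 := ndS (p := 2453) (l := 2) rfl N2453 D5459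
theorem N4626 : nd 4626 = n5460 := ndS (p := 2453) (l := 3) rfl N2453 D5460
theorem N4627 : nd 4627 = n5461 := ndS (p := 2454) (l := 3) rfl N2454 D5461
theorem N4628 : nd 4628 = n5462 := ndS (p := 2454) (l := 4) rfl N2454 D5462
theorem N4629 : nd 4629 = n5463 := ndS (p := 2455) (l := 0) rfl N2455 D5463
theorem N4630 : nd 4630 = n5464 := ndS (p := 2455) (l := 4) rfl N2455 D5464
theorem N4631 : nd 4631 = n5465 := ndS (p := 2456) (l := 4) rfl N2456 D5465
theorem N4632 : nd 4632 = n5466 := ndS (p := 2457) (l := 2) rfl N2457 D5466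
theorem N4633 : nd 4633 = n5467 := ndS (p := 2458) (l := 0) rfl N2458 D5467
theorem N4634 : nd 4634 = n5468 := ndS (p := 2458) (l := 1) rfl N2458 D5468
theorem N4635 : nd 4635 = n5469 := ndS (p := 2458) (l := 4) rfl N2458 D5469
theorem N4636 : nd 4636 = n5470 := ndS (p := 2459) (l := 1) rfl N2459 D5470
theorem N4637 : nd 4637 = n5471 := ndS (p := 2459) (l := 3) rfl N2459 D5471
theorem N4638 : nd 4638 = n5472 := ndS (p := 2459) (l := 4) rfl N2459 D5472
theorem N4639 : nd 4639 = n5473 := ndS (p := 2460) (l := 0) rfl N2460 D5473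
theorem N4640 : nd 4640 = n5474 := ndS (p := 2460) (l := 2) rfl N2460 D5474
theorem N4641 : nd 4641 = n5475 := ndS (p := 2460) (l := 3) rfl N2460 D5475
theorem N4642 : nd 4642 = n5476 := ndS (p := 2460) (l := 4) rfl N2460 D5476
theorem N4643 : nd 4643 = n5477 := ndS (p := 2461) (l := 0) rfl N2461 D5477
theorem N4644 : nd 4644 = n5478 := ndS (p := 2461) (l := 4) rfl N2461 D5478
theorem N4645 : nd 4645 = n5480 := ndS (p := 2463) (l := 2) rfl N2463 D5480
theorem N4646 : nd 4646 = n5481 := ndS (p := 2463) (l := 4) rfl N2463 D5481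
theorem N4647 : nd 4647 = n5483 := ndS (p := 2465) (l := 3) rfl N2465 D5483
theorem N4648 : nd 4648 = n5484 := ndS (p := 2465) (l := 4) rfl N2465 D5484
theorem N4649 : nd 4649 = n5485 := ndS (p := 2466) (l := 4) rfl N2466 D5485
theorem N4650 : nd 4650 = n5486 := ndS (p := 2467) (l := 2) rfl N2467 D5486
theorem N4651 : nd 4651 = n5487 := ndS (p := 2467) (l := 3) rfl N2467 D5487
theorem N4652 : nd 4652 = n5488 := ndS (p := 2468) (l := 0) rfl N2468 D5488
theorem N4653 : nd 4653 = n5489 := ndS (p := 2468) (l := 4) rfl N2468 D5489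
theorem N4654 : nd 4654 = n5490 := ndS (p := 2469) (l := 2) rfl N2469 D5490
theorem N4655 : nd 4655 = n5491 := ndS (p := 2469) (l := 3) rfl N2469 D5491
theorem N4656 : nd 4656 = n5492 := ndS (p := 2470) (l := 2) rfl N2470 D5492
theorem N4657 : nd 4657 = n5493 := ndS (p := 2471) (l := 1) rfl N2471 D5493
theorem N4658 : nd 4658 = n5494 := ndS (p := 2471) (l := 3) rfl N2471 D5494
theorem N4659 : nd 4659 = n5495 := ndS (p := 2471) (l := 4) rfl N2471 D5495
theorem N4660 : nd 4660 = n5496 := ndS (p := 2472) (l := 4) rfl N2472 D5496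
theorem N4661 : nd 4661 = n5497 := ndS (p := 2474) (l := 0) rfl N2474 D5497
theorem N4662 : nd 4662 = n5498 := ndS (p := 2474) (l := 2) rfl N2474 D5498
theorem N4663 : nd 4663 = n5499 := ndS (p := 2474) (l := 4) rfl N2474 D5499
theorem N4664 : nd 4664 = n5500 := ndS (p := 2476) (l := 1) rfl N2476 D5500
theorem N4665 : nd 4665 = n5501 := ndS (p := 2476) (l := 2) rfl N2476 D5501
theorem N4666 : nd 4666 = n5502 := ndS (p := 2476) (l := 3) rfl N2476 D5502
theorem N4667 : nd 4667 = n5503 := ndS (p := 2476) (l := 4) rfl N2476 D5503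
theorem N4668 : nd 4668 = n5505 := ndS (p := 2477) (l := 3) rfl N2477 D5505
theorem N4669 : nd 4669 = n5507 := ndS (p := 2478) (l := 0) rfl N2478 D5507
theorem N4670 : nd 4670 = n5508 := ndS (p := 2478) (l := 4) rfl N2478 D5508
theorem N4671 : nd 4671 = n5509 := ndS (p := 2479) (l := 2) rfl N2479 D5509
theorem N4672 : nd 4672 = n5510 := ndS (p := 2481) (l := 2) rfl N2481 D5510
theorem N4673 : nd 4673 = n5511 := ndS (p := 2481) (l := 3) rfl N2481 D5511
theorem N4674 : nd 4674 = n5512 := ndS (p := 2482) (l := 0) rfl N2482 D5512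
theorem N4675 : nd 4675 = n5513 := ndS (p := 2482) (l := 1) rfl N2482 D5513
theorem N4676 : nd 4676 = n5514 := ndS (p := 2482) (l := 3) rfl N2482 D5514
theorem N4677 : nd 4677 = n5515 := ndS (p := 2482) (l := 4) rfl N2482 D5515
theorem N4678 : nd 4678 = n5516 := ndS (p := 2483) (l := 0) rfl N2483 D5516
theorem N4679 : nd 4679 = n5517 := ndS (p := 2484) (l := 2) rfl N2484 D5517
theorem N4680 : nd 4680 = n5518 := ndS (p := 2484) (l := 3) rfl N2484 D5518
theorem N4681 : nd 4681 = n5519 := ndS (p := 2487) (l := 3) rfl N2487 D5519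
theorem N4682 : nd 4682 = n5520 := ndS (p := 2489) (l := 2) rfl N2489 D5520
theorem N4683 : nd 4683 = n5521 := ndS (p := 2489) (l := 3) rfl N2489 D5521
theorem N4684 : nd 4684 = n5522 := ndS (p := 2489) (l := 4) rfl N2489 D5522
theorem N4685 : nd 4685 = n5523 := ndS (p := 2490) (l := 0) rfl N2490 D5523
theorem N4686 : nd 4686 = n5524 := ndS (p := 2490) (l := 4) rfl N2490 D5524
theorem N4687 : nd 4687 = n5525 := ndS (p := 2491) (l := 2) rfl N2491 D5525
theorem N4688 : nd 4688 = n5527 := ndS (p := 2492) (l := 2) rfl N2492 D5527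
theorem N4689 : nd 4689 = n5528 := ndS (p := 2494) (l := 3) rfl N2494 D5528
theorem N4690 : nd 4690 = n5529 := ndS (p := 2495) (l := 4) rfl N2495 D5529
theorem N4691 : nd 4691 = n5530 := ndS (p := 2496) (l := 3) rfl N2496 D5530
theorem N4692 : nd 4692 = n5532 := ndS (p := 2497) (l := 2) rfl N2497 D5532
theorem N4693 : nd 4693 = n5533 := ndS (p := 2497) (l := 3) rfl N2497 D5533
theorem N4694 : nd 4694 = n5534 := ndS (p := 2497) (l := 4) rfl N2497 D5534
theorem N4695 : nd 4695 = n5535 := ndS (p := 2498) (l := 2) rfl N2498 D5535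
theorem N4696 : nd 4696 = n5540 := ndS (p := 2500) (l := 1) rfl N2500 D5540
theorem N4697 : nd 4697 = n5541 := ndS (p := 2500) (l := 3) rfl N2500 D5541
theorem N4698 : nd 4698 = n5542 := ndS (p := 2500) (l := 4) rfl N2500 D5542
theorem N4699 : nd 4699 = n5543 := ndS (p := 2502) (l := 2) rfl N2502 D5543
theorem N4700 : nd 4700 = n5544 := ndS (p := 2503) (l := 0) rfl N2503 D5544
theorem N4701 : nd 4701 = n5547 := ndS (p := 2504) (l := 2) rfl N2504 D5547
theorem N4702 : nd 4702 = n5548 := ndS (p := 2504) (l := 3) rfl N2504 D5548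
theorem N4703 : nd 4703 = n5549 := ndS (p := 2504) (l := 4) rfl N2504 D5549
theorem N4704 : nd 4704 = n5550 := ndS (p := 2505) (l := 0) rfl N2505 D5550
theorem N4705 : nd 4705 = n5551 := ndS (p := 2505) (l := 1) rfl N2505 D5551
theorem N4706 : nd 4706 = n5552 := ndS (p := 2505) (l := 3) rfl N2505 D5552
theorem N4707 : nd 4707 = n5553 := ndS (p := 2505) (l := 4) rfl N2505 D5553
theorem N4708 : nd 4708 = n5554 := ndS (p := 2507) (l := 2) rfl N2507 D5554
theorem N4709 : nd 4709 = n5555 := ndS (p := 2508) (l := 0) rfl N2508 D5555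
theorem N4710 : nd 4710 = n5556 := ndS (p := 2508) (l := 1) rfl N2508 D5556
theorem N4711 : nd 4711 = n5557 := ndS (p := 2508) (l := 4) rfl N2508 D5557
theorem N4712 : nd 4712 = n5558 := ndS (p := 2509) (l := 2) rfl N2509 D5558
theorem N4713 : nd 4713 = n5559 := ndS (p := 2510) (l := 1) rfl N2510 D5559
theorem N4714 : nd 4714 = n5560 := ndS (p := 2510) (l := 3) rfl N2510 D5560
theorem N4715 : nd 4715 = n5561 := ndS (p := 2510) (l := 4) rfl N2510 D5561
theorem N4716 : nd 4716 = n5562 := ndS (p := 2511) (l := 0) rfl N2511 D5562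
theorem N4717 : nd 4717 = n5563 := ndS (p := 2511) (l := 2) rfl N2511 D5563
theorem N4718 : nd 4718 = n5564 := ndS (p := 2511) (l := 4) rfl N2511 D5564
theorem N4719 : nd 4719 = n5565 := ndS (p := 2512) (l := 2) rfl N2512 D5565
theorem N4720 : nd 4720 = n5567 := ndS (p := 2513) (l := 0) rfl N2513 D5567
theorem N4721 : nd 4721 = n5568 := ndS (p := 2513) (l := 1) rfl N2513 D5568
theorem N4722 : nd 4722 = n5570 := ndS (p := 2514) (l := 1) rfl N2514 D5570
theorem N4723 : nd 4723 = n5571 := ndS (p := 2514) (l := 2) rfl N2514 D5571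
theorem N4724 : nd 4724 = n5572 := ndS (p := 2514) (l := 3) rfl N2514 D5572
theorem N4725 : nd 4725 = n5573 := ndS (p := 2514) (l := 4) rfl N2514 D5573
theorem N4726 : nd 4726 = n5576 := ndS (p := 2516) (l := 2) rfl N2516 D5576
theorem N4727 : nd 4727 = n5577 := ndS (p := 2517) (l := 0) rfl N2517 D5577
theorem N4728 : nd 4728 = n5578 := ndS (p := 2517) (l := 2) rfl N2517 D5578
theorem N4729 : nd 4729 = n5579 := ndS (p := 2518) (l := 2) rfl N2518 D5579
theorem N4730 : nd 4730 = n5580 := ndS (p := 2519) (l := 4) rfl N2519 D5580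
theorem N4731 : nd 4731 = n5581 := ndS (p := 2520) (l := 0) rfl N2520 D5581
theorem N4732 : nd 4732 = n5582 := ndS (p := 2520) (l := 4) rfl N2520 D5582
theorem N4733 : nd 4733 = n5583 := ndS (p := 2521) (l := 2) rfl N2521 D5583
theorem N4734 : nd 4734 = n5584 := ndS (p := 2521) (l := 3) rfl N2521 D5584
theorem N4735 : nd 4735 = n5585 := ndS (p := 2522) (l := 2) rfl N2522 D5585
theorem N4736 : nd 4736 = n5586 := ndS (p := 2522) (l := 3) rfl N2522 D5586
theorem N4737 : nd 4737 = n5587 := ndS (p := 2523) (l := 3) rfl N2523 D5587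
theorem N4738 : nd 4738 = n5588 := ndS (p := 2524) (l := 4) rfl N2524 D5588
theorem N4739 : nd 4739 = n5589 := ndS (p := 2525) (l := 1) rfl N2525 D5589
theorem N4740 : nd 4740 = n5590 := ndS (p := 2525) (l := 4) rfl N2525 D5590
theorem N4741 : nd 4741 = n5591 := ndS (p := 2526) (l := 1) rfl N2526 D5591
theorem N4742 : nd 4742 = n5592 := ndS (p := 2526) (l := 4) rfl N2526 D5592
theorem N4743 : nd 4743 = n5593 := ndS (p := 2527) (l := 0) rfl N2527 D5593
theorem N4744 : nd 4744 = n5594 := ndS (p := 2527) (l := 3) rfl N2527 D5594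
theorem N4745 : nd 4745 = n5595 := ndS (p := 2527) (l := 4) rfl N2527 D5595
theorem N4746 : nd 4746 = n5596 := ndS (p := 2528) (l := 4) rfl N2528 D5596
theorem N4747 : nd 4747 = n5599 := ndS (p := 2531) (l := 4) rfl N2531 D5599
theorem N4748 : nd 4748 = n5600 := ndS (p := 2532) (l := 2) rfl N2532 D5600
theorem N4749 : nd 4749 = n5601 := ndS (p := 2533) (l := 4) rfl N2533 D5601
theorem N4750 : nd 4750 = n5602 := ndS (p := 2534) (l := 3) rfl N2534 D5602
theorem N4751 : nd 4751 = n5603 := ndS (p := 2535) (l := 2) rfl N2535 D5603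
theorem N4752 : nd 4752 = n5604 := ndS (p := 2535) (l := 3) rfl N2535 D5604
theorem N4753 : nd 4753 = n5605 := ndS (p := 2536) (l := 3) rfl N2536 D5605
theorem N4754 : nd 4754 = n5606 := ndS (p := 2537) (l := 4) rfl N2537 D5606
theorem N4755 : nd 4755 = n5607 := ndS (p := 2538) (l := 4) rfl N2538 D5607
theorem N4756 : nd 4756 = n5608 := ndS (p := 2539) (l := 2) rfl N2539 D5608
theorem N4757 : nd 4757 = n5609 := ndS (p := 2540) (l := 2) rfl N2540 D5609
theorem N4758 : nd 4758 = n5610 := ndS (p := 2541) (l := 2) rfl N2541 D5610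
theorem N4759 : nd 4759 = n5611 := ndS (p := 2541) (l := 3) rfl N2541 D5611
theorem N4760 : nd 4760 = n5612 := ndS (p := 2542) (l := 0) rfl N2542 D5612
theorem N4761 : nd 4761 = n5613 := ndS (p := 2542) (l := 1) rfl N2542 D5613
theorem N4762 : nd 4762 = n5614 := ndS (p := 2542) (l := 3) rfl N2542 D5614
theorem N4763 : nd 4763 = n5615 := ndS (p := 2542) (l := 4) rfl N2542 D5615
theorem N4764 : nd 4764 = n5616 := ndS (p := 2543) (l := 4) rfl N2543 D5616
theorem N4765 : nd 4765 = n5617 := ndS (p := 2544) (l := 2) rfl N2544 D5617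
theorem N4766 : nd 4766 = n5618 := ndS (p := 2544) (l := 4) rfl N2544 D5618
theorem N4767 : nd 4767 = n5619 := ndS (p := 2545) (l := 4) rfl N2545 D5619
theorem N4768 : nd 4768 = n5620 := ndS (p := 2546) (l := 2) rfl N2546 D5620
theorem N4769 : nd 4769 = n5621 := ndS (p := 2546) (l := 3) rfl N2546 D5621
theorem N4770 : nd 4770 = n5622 := ndS (p := 2550) (l := 1) rfl N2550 D5622
theorem N4771 : nd 4771 = n5623 := ndS (p := 2550) (l := 2) rfl N2550 D5623
theorem N4772 : nd 4772 = n5624 := ndS (p := 2550) (l := 4) rfl N2550 D5624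
theorem N4773 : nd 4773 = n5625 := ndS (p := 2552) (l := 1) rfl N2552 D5625
theorem N4774 : nd 4774 = n5626 := ndS (p := 2552) (l := 4) rfl N2552 D5626
theorem N4775 : nd 4775 = n5627 := ndS (p := 2553) (l := 4) rfl N2553 D5627
theorem N4776 : nd 4776 = n5628 := ndS (p := 2555) (l := 0) rfl N2555 D5628
theorem N4777 : nd 4777 = n5629 := ndS (p := 2555) (l := 2) rfl N2555 D5629
theorem N4778 : nd 4778 = n5630 := ndS (p := 2555) (l := 3) rfl N2555 D5630
theorem N4779 : nd 4779 = n5631 := ndS (p := 2555) (l := 4) rfl N2555 D5631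
theorem N4780 : nd 4780 = n5632 := ndS (p := 2556) (l := 4) rfl N2556 D5632
theorem N4781 : nd 4781 = n5633 := ndS (p := 2557) (l := 3) rfl N2557 D5633
theorem N4782 : nd 4782 = n5634 := ndS (p := 2558) (l := 2) rfl N2558 D5634
theorem N4783 : nd 4783 = n5635 := ndS (p := 2559) (l := 3) rfl N2559 D5635
theorem N4784 : nd 4784 = n5636 := ndS (p := 2559) (l := 4) rfl N2559 D5636
theorem N4785 : nd 4785 = n5637 := ndS (p := 2560) (l := 0) rfl N2560 D5637
theorem N4786 : nd 4786 = n5638 := ndS (p := 2560) (l := 4) rfl N2560 D5638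
theorem N4787 : nd 4787 = n5639 := ndS (p := 2561) (l := 2) rfl N2561 D5639
theorem N4788 : nd 4788 = n5640 := ndS (p := 2562) (l := 1) rfl N2562 D5640
theorem N4789 : nd 4789 = n5641 := ndS (p := 2562) (l := 2) rfl N2562 D5641
theorem N4790 : nd 4790 = n5642 := ndS (p := 2562) (l := 4) rfl N2562 D5642
theorem N4791 : nd 4791 = n5643 := ndS (p := 2564) (l := 4) rfl N2564 D5643
theorem N4792 : nd 4792 = n5644 := ndS (p := 2565) (l := 2) rfl N2565 D5644
theorem N4793 : nd 4793 = n5645 := ndS (p := 2565) (l := 3) rfl N2565 D5645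
theorem N4794 : nd 4794 = n5646 := ndS (p := 2566) (l := 3) rfl N2566 D5646
theorem N4795 : nd 4795 = n5647 := ndS (p := 2566) (l := 4) rfl N2566 D5647
theorem N4796 : nd 4796 = n5648 := ndS (p := 2567) (l := 4) rfl N2567 D5648
theorem N4797 : nd 4797 = n5649 := ndS (p := 2568) (l := 4) rfl N2568 D5649
theorem N4798 : nd 4798 = n5650 := ndS (p := 2569) (l := 2) rfl N2569 D5650
theorem N4799 : nd 4799 = n5651 := ndS (p := 2569) (l := 3) rfl N2569 D5651
theorem N4800 : nd 4800 = n5652 := ndS (p := 2570) (l := 2) rfl N2570 D5652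
theorem N4801 : nd 4801 = n5653 := ndS (p := 2571) (l := 0) rfl N2571 D5653
theorem N4802 : nd 4802 = n5654 := ndS (p := 2571) (l := 1) rfl N2571 D5654
theorem N4803 : nd 4803 = n5655 := ndS (p := 2571) (l := 3) rfl N2571 D5655
theorem N4804 : nd 4804 = n5656 := ndS (p := 2571) (l := 4) rfl N2571 D5656
theorem N4805 : nd 4805 = n5657 := ndS (p := 2572) (l := 0) rfl N2572 D5657
theorem N4806 : nd 4806 = n5658 := ndS (p := 2572) (l := 4) rfl N2572 D5658
theorem N4807 : nd 4807 = n5659 := ndS (p := 2573) (l := 2) rfl N2573 D5659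
theorem N4808 : nd 4808 = n5660 := ndS (p := 2574) (l := 2) rfl N2574 D5660
theorem N4809 : nd 4809 = n5661 := ndS (p := 2574) (l := 3) rfl N2574 D5661
theorem N4810 : nd 4810 = n5662 := ndS (p := 2574) (l := 4) rfl N2574 D5662
theorem N4811 : nd 4811 = n5663 := ndS (p := 2575) (l := 2) rfl N2575 D5663
theorem N4812 : nd 4812 = n5664 := ndS (p := 2575) (l := 3) rfl N2575 D5664
theorem N4813 : nd 4813 = n5665 := ndS (p := 2576) (l := 3) rfl N2576 D5665
theorem N4814 : nd 4814 = n5666 := ndS (p := 2577) (l := 0) rfl N2577 D5666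
theorem N4815 : nd 4815 = n5667 := ndS (p := 2577) (l := 4) rfl N2577 D5667
theorem N4816 : nd 4816 = n5668 := ndS (p := 2578) (l := 4) rfl N2578 D5668
theorem N4817 : nd 4817 = n5669 := ndS (p := 2579) (l := 3) rfl N2579 D5669
theorem N4818 : nd 4818 = n5670 := ndS (p := 2579) (l := 4) rfl N2579 D5670
theorem N4819 : nd 4819 = n5671 := ndS (p := 2580) (l := 4) rfl N2580 D5671
theorem N4820 : nd 4820 = n5672 := ndS (p := 2581) (l := 2) rfl N2581 D5672
theorem N4821 : nd 4821 = n5673 := ndS (p := 2581) (l := 3) rfl N2581 D5673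
theorem N4822 : nd 4822 = n5674 := ndS (p := 2582) (l := 0) rfl N2582 D5674
theorem N4823 : nd 4823 = n5675 := ndS (p := 2582) (l := 1) rfl N2582 D5675
theorem N4824 : nd 4824 = n5676 := ndS (p := 2582) (l := 4) rfl N2582 D5676
theorem N4825 : nd 4825 = n5677 := ndS (p := 2583) (l := 1) rfl N2583 D5677
theorem N4826 : nd 4826 = n5678 := ndS (p := 2583) (l := 3) rfl N2583 D5678
theorem N4827 : nd 4827 = n5679 := ndS (p := 2583) (l := 4) rfl N2583 D5679
theorem N4828 : nd 4828 = n5680 := ndS (p := 2584) (l := 0) rfl N2584 D5680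
theorem N4829 : nd 4829 = n5681 := ndS (p := 2584) (l := 3) rfl N2584 D5681
theorem N4830 : nd 4830 = n5682 := ndS (p := 2585) (l := 0) rfl N2585 D5682
theorem N4831 : nd 4831 = n5683 := ndS (p := 2585) (l := 4) rfl N2585 D5683
theorem N4832 : nd 4832 = n5685 := ndS (p := 2587) (l := 1) rfl N2587 D5685
theorem N4833 : nd 4833 = n5686 := ndS (p := 2587) (l := 2) rfl N2587 D5686
theorem N4834 : nd 4834 = n5687 := ndS (p := 2587) (l := 4) rfl N2587 D5687
theorem N4835 : nd 4835 = n5689 := ndS (p := 2589) (l := 1) rfl N2589 D5689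
theorem N4836 : nd 4836 = n5690 := ndS (p := 2589) (l := 2) rfl N2589 D5690
theorem N4837 : nd 4837 = n5691 := ndS (p := 2589) (l := 3) rfl N2589 D5691
theorem N4838 : nd 4838 = n5692 := ndS (p := 2589) (l := 4) rfl N2589 D5692
theorem N4839 : nd 4839 = n5693 := ndS (p := 2590) (l := 0) rfl N2590 D5693
theorem N4840 : nd 4840 = n5694 := ndS (p := 2590) (l := 4) rfl N2590 D5694
theorem N4841 : nd 4841 = n5695 := ndS (p := 2591) (l := 2) rfl N2591 D5695
theorem N4842 : nd 4842 = n5696 := ndS (p := 2592) (l := 1) rfl N2592 D5696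
theorem N4843 : nd 4843 = n5697 := ndS (p := 2592) (l := 3) rfl N2592 D5697
theorem N4844 : nd 4844 = n5698 := ndS (p := 2593) (l := 0) rfl N2593 D5698
theorem N4845 : nd 4845 = n5700 := ndS (p := 2594) (l := 2) rfl N2594 D5700
theorem N4846 : nd 4846 = n5701 := ndS (p := 2594) (l := 4) rfl N2594 D5701
theorem N4847 : nd 4847 = n5702 := ndS (p := 2595) (l := 0) rfl N2595 D5702
theorem N4848 : nd 4848 = n5703 := ndS (p := 2595) (l := 1) rfl N2595 D5703
theorem N4849 : nd 4849 = n5704 := ndS (p := 2595) (l := 3) rfl N2595 D5704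
theorem N4850 : nd 4850 = n5705 := ndS (p := 2595) (l := 4) rfl N2595 D5705
theorem N4851 : nd 4851 = n5706 := ndS (p := 2596) (l := 4) rfl N2596 D5706
theorem N4852 : nd 4852 = n5707 := ndS (p := 2597) (l := 2) rfl N2597 D5707
theorem N4853 : nd 4853 = n5708 := ndS (p := 2597) (l := 3) rfl N2597 D5708
theorem N4854 : nd 4854 = n5709 := ndS (p := 2598) (l := 2) rfl N2598 D5709
theorem N4855 : nd 4855 = n5710 := ndS (p := 2598) (l := 4) rfl N2598 D5710
theorem N4856 : nd 4856 = n5711 := ndS (p := 2599) (l := 0) rfl N2599 D5711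
theorem N4857 : nd 4857 = n5712 := ndS (p := 2599) (l := 4) rfl N2599 D5712
theorem N4858 : nd 4858 = n5713 := ndS (p := 2600) (l := 2) rfl N2600 D5713
theorem N4859 : nd 4859 = n5715 := ndS (p := 2601) (l := 1) rfl N2601 D5715
theorem N4860 : nd 4860 = n5716 := ndS (p := 2601) (l := 2) rfl N2601 D5716
theorem N4861 : nd 4861 = n5717 := ndS (p := 2601) (l := 3) rfl N2601 D5717
theorem N4862 : nd 4862 = n5718 := ndS (p := 2601) (l := 4) rfl N2601 D5718
theorem N4863 : nd 4863 = n5719 := ndS (p := 2602) (l := 2) rfl N2602 D5719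
theorem N4864 : nd 4864 = n5723 := ndS (p := 2604) (l := 3) rfl N2604 D5723
theorem N4865 : nd 4865 = n5724 := ndS (p := 2604) (l := 4) rfl N2604 D5724
theorem N4866 : nd 4866 = n5725 := ndS (p := 2605) (l := 4) rfl N2605 D5725
theorem N4867 : nd 4867 = n5726 := ndS (p := 2606) (l := 0) rfl N2606 D5726
theorem N4868 : nd 4868 = n5727 := ndS (p := 2606) (l := 4) rfl N2606 D5727
theorem N4869 : nd 4869 = n5728 := ndS (p := 2607) (l := 2) rfl N2607 D5728
theorem N4870 : nd 4870 = n5729 := ndS (p := 2607) (l := 3) rfl N2607 D5729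
theorem N4871 : nd 4871 = n5730 := ndS (p := 2608) (l := 1) rfl N2608 D5730
theorem N4872 : nd 4872 = n5731 := ndS (p := 2608) (l := 2) rfl N2608 D5731
theorem N4873 : nd 4873 = n5732 := ndS (p := 2608) (l := 3) rfl N2608 D5732
theorem N4874 : nd 4874 = n5733 := ndS (p := 2608) (l := 4) rfl N2608 D5733
theorem N4875 : nd 4875 = n5734 := ndS (p := 2609) (l := 0) rfl N2609 D5734
theorem N4876 : nd 4876 = n5735 := ndS (p := 2609) (l := 3) rfl N2609 D5735
theorem N4877 : nd 4877 = n5736 := ndS (p := 2609) (l := 4) rfl N2609 D5736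
theorem N4878 : nd 4878 = n5737 := ndS (p := 2610) (l := 0) rfl N2610 D5737
theorem N4879 : nd 4879 = n5738 := ndS (p := 2610) (l := 4) rfl N2610 D5738
theorem N4880 : nd 4880 = n5739 := ndS (p := 2611) (l := 3) rfl N2611 D5739
theorem N4881 : nd 4881 = n5740 := ndS (p := 2612) (l := 1) rfl N2612 D5740
theorem N4882 : nd 4882 = n5741 := ndS (p := 2612) (l := 2) rfl N2612 D5741
theorem N4883 : nd 4883 = n5742 := ndS (p := 2612) (l := 3) rfl N2612 D5742
theorem N4884 : nd 4884 = n5743 := ndS (p := 2612) (l := 4) rfl N2612 D5743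
theorem N4885 : nd 4885 = n5744 := ndS (p := 2613) (l := 2) rfl N2613 D5744
theorem N4886 : nd 4886 = n5745 := ndS (p := 2614) (l := 0) rfl N2614 D5745
theorem N4887 : nd 4887 = n5746 := ndS (p := 2614) (l := 1) rfl N2614 D5746
theorem N4888 : nd 4888 = n5747 := ndS (p := 2614) (l := 3) rfl N2614 D5747
theorem N4889 : nd 4889 = n5748 := ndS (p := 2614) (l := 4) rfl N2614 D5748
theorem N4890 : nd 4890 = n5749 := ndS (p := 2615) (l := 0) rfl N2615 D5749
theorem N4891 : nd 4891 = n5750 := ndS (p := 2616) (l := 0) rfl N2616 D5750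
theorem N4892 : nd 4892 = n5751 := ndS (p := 2618) (l := 3) rfl N2618 D5751
theorem N4893 : nd 4893 = n5752 := ndS (p := 2618) (l := 4) rfl N2618 D5752
theorem N4894 : nd 4894 = n5753 := ndS (p := 2619) (l := 0) rfl N2619 D5753
theorem N4895 : nd 4895 = n5754 := ndS (p := 2619) (l := 2) rfl N2619 D5754
theorem N4896 : nd 4896 = n5755 := ndS (p := 2619) (l := 4) rfl N2619 D5755
theorem N4897 : nd 4897 = n5756 := ndS (p := 2620) (l := 4) rfl N2620 D5756
theorem N4898 : nd 4898 = n5757 := ndS (p := 2621) (l := 2) rfl N2621 D5757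
theorem N4899 : nd 4899 = n5758 := ndS (p := 2621) (l := 3) rfl N2621 D5758
theorem N4900 : nd 4900 = n5759 := ndS (p := 2622) (l := 2) rfl N2622 D5759
theorem N4901 : nd 4901 = n5760 := ndS (p := 2623) (l := 0) rfl N2623 D5760
theorem N4902 : nd 4902 = n5761 := ndS (p := 2623) (l := 1) rfl N2623 D5761
theorem N4903 : nd 4903 = n5762 := ndS (p := 2623) (l := 3) rfl N2623 D5762
theorem N4904 : nd 4904 = n5763 := ndS (p := 2623) (l := 4) rfl N2623 D5763
theorem N4905 : nd 4905 = n5764 := ndS (p := 2625) (l := 2) rfl N2625 D5764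
theorem N4906 : nd 4906 = n5765 := ndS (p := 2625) (l := 4) rfl N2625 D5765
theorem N4907 : nd 4907 = n5766 := ndS (p := 2626) (l := 4) rfl N2626 D5766
theorem N4908 : nd 4908 = n5767 := ndS (p := 2627) (l := 4) rfl N2627 D5767
theorem N4909 : nd 4909 = n5768 := ndS (p := 2628) (l := 2) rfl N2628 D5768
theorem N4910 : nd 4910 = n5769 := ndS (p := 2628) (l := 3) rfl N2628 D5769
theorem N4911 : nd 4911 = n5771 := ndS (p := 2629) (l := 2) rfl N2629 D5771
theorem N4912 : nd 4912 = n5772 := ndS (p := 2629) (l := 3) rfl N2629 D5772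
theorem N4913 : nd 4913 = n5773 := ndS (p := 2629) (l := 4) rfl N2629 D5773
theorem N4914 : nd 4914 = n5774 := ndS (p := 2630) (l := 2) rfl N2630 D5774
theorem N4915 : nd 4915 = n5775 := ndS (p := 2632) (l := 0) rfl N2632 D5775
theorem N4916 : nd 4916 = n5776 := ndS (p := 2633) (l := 1) rfl N2633 D5776
theorem N4917 : nd 4917 = n5777 := ndS (p := 2633) (l := 3) rfl N2633 D5777
theorem N4918 : nd 4918 = n5778 := ndS (p := 2633) (l := 4) rfl N2633 D5778
theorem N4919 : nd 4919 = n5779 := ndS (p := 2635) (l := 2) rfl N2635 D5779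
theorem N4920 : nd 4920 = n5780 := ndS (p := 2636) (l := 0) rfl N2636 D5780
theorem N4921 : nd 4921 = n5781 := ndS (p := 2637) (l := 1) rfl N2637 D5781
theorem N4922 : nd 4922 = n5782 := ndS (p := 2637) (l := 3) rfl N2637 D5782
theorem N4923 : nd 4923 = n5783 := ndS (p := 2638) (l := 2) rfl N2638 D5783
theorem N4924 : nd 4924 = n5784 := ndS (p := 2638) (l := 3) rfl N2638 D5784
theorem N4925 : nd 4925 = n5785 := ndS (p := 2638) (l := 4) rfl N2638 D5785
theorem N4926 : nd 4926 = n5786 := ndS (p := 2639) (l := 0) rfl N2639 D5786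
theorem N4927 : nd 4927 = n5787 := ndS (p := 2639) (l := 1) rfl N2639 D5787
theorem N4928 : nd 4928 = n5788 := ndS (p := 2639) (l := 4) rfl N2639 D5788
theorem N4929 : nd 4929 = n5789 := ndS (p := 2640) (l := 2) rfl N2640 D5789
theorem N4930 : nd 4930 = n5790 := ndS (p := 2641) (l := 0) rfl N2641 D5790
theorem N4931 : nd 4931 = n5791 := ndS (p := 2641) (l := 4) rfl N2641 D5791
theorem N4932 : nd 4932 = n5792 := ndS (p := 2642) (l := 0) rfl N2642 D5792
theorem N4933 : nd 4933 = n5793 := ndS (p := 2642) (l := 4) rfl N2642 D5793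
theorem N4934 : nd 4934 = n5794 := ndS (p := 2643) (l := 3) rfl N2643 D5794
theorem N4935 : nd 4935 = n5795 := ndS (p := 2644) (l := 2) rfl N2644 D5795
theorem N4936 : nd 4936 = n5796 := ndS (p := 2644) (l := 4) rfl N2644 D5796
theorem N4937 : nd 4937 = n5797 := ndS (p := 2645) (l := 2) rfl N2645 D5797
theorem N4938 : nd 4938 = n5798 := ndS (p := 2646) (l := 1) rfl N2646 D5798
theorem N4939 : nd 4939 = n5799 := ndS (p := 2646) (l := 3) rfl N2646 D5799
theorem N4940 : nd 4940 = n5800 := ndS (p := 2646) (l := 4) rfl N2646 D5800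
theorem N4941 : nd 4941 = n5801 := ndS (p := 2647) (l := 0) rfl N2647 D5801
theorem N4942 : nd 4942 = n5802 := ndS (p := 2648) (l := 4) rfl N2648 D5802
theorem N4943 : nd 4943 = n5803 := ndS (p := 2649) (l := 3) rfl N2649 D5803
theorem N4944 : nd 4944 = n5804 := ndS (p := 2650) (l := 0) rfl N2650 D5804
theorem N4945 : nd 4945 = n5805 := ndS (p := 2650) (l := 4) rfl N2650 D5805
theorem N4946 : nd 4946 = n5806 := ndS (p := 2651) (l := 3) rfl N2651 D5806
theorem N4947 : nd 4947 = n5807 := ndS (p := 2652) (l := 1) rfl N2652 D5807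
theorem N4948 : nd 4948 = n5808 := ndS (p := 2652) (l := 2) rfl N2652 D5808
theorem N4949 : nd 4949 = n5809 := ndS (p := 2652) (l := 3) rfl N2652 D5809
theorem N4950 : nd 4950 = n5810 := ndS (p := 2652) (l := 4) rfl N2652 D5810
theorem N4951 : nd 4951 = n5811 := ndS (p := 2653) (l := 2) rfl N2653 D5811
theorem N4952 : nd 4952 = n5813 := ndS (p := 2654) (l := 0) rfl N2654 D5813
theorem N4953 : nd 4953 = n5815 := ndS (p := 2655) (l := 2) rfl N2655 D5815
theorem N4954 : nd 4954 = n5816 := ndS (p := 2655) (l := 3) rfl N2655 D5816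
theorem N4955 : nd 4955 = n5817 := ndS (p := 2655) (l := 4) rfl N2655 D5817
theorem N4956 : nd 4956 = n5818 := ndS (p := 2656) (l := 1) rfl N2656 D5818
theorem N4957 : nd 4957 = n5819 := ndS (p := 2656) (l := 3) rfl N2656 D5819
theorem N4958 : nd 4958 = n5820 := ndS (p := 2656) (l := 4) rfl N2656 D5820
theorem N4959 : nd 4959 = n5821 := ndS (p := 2657) (l := 4) rfl N2657 D5821
theorem N4960 : nd 4960 = n5822 := ndS (p := 2658) (l := 2) rfl N2658 D5822
theorem N4961 : nd 4961 = n5823 := ndS (p := 2658) (l := 3) rfl N2658 D5823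
theorem N4962 : nd 4962 = n5824 := ndS (p := 2659) (l := 0) rfl N2659 D5824
theorem N4963 : nd 4963 = n5825 := ndS (p := 2659) (l := 1) rfl N2659 D5825
theorem N4964 : nd 4964 = n5826 := ndS (p := 2659) (l := 4) rfl N2659 D5826
theorem N4965 : nd 4965 = n5827 := ndS (p := 2660) (l := 3) rfl N2660 D5827
theorem N4966 : nd 4966 = n5828 := ndS (p := 2661) (l := 0) rfl N2661 D5828
theorem N4967 : nd 4967 = n5829 := ndS (p := 2661) (l := 4) rfl N2661 D5829
theorem N4968 : nd 4968 = n5831 := ndS (p := 2663) (l := 1) rfl N2663 D5831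
theorem N4969 : nd 4969 = n5832 := ndS (p := 2663) (l := 2) rfl N2663 D5832
theorem N4970 : nd 4970 = n5833 := ndS (p := 2664) (l := 1) rfl N2664 D5833
theorem N4971 : nd 4971 = n5834 := ndS (p := 2664) (l := 3) rfl N2664 D5834
theorem N4972 : nd 4972 = n5835 := ndS (p := 2665) (l := 4) rfl N2665 D5835
theorem N4973 : nd 4973 = n5836 := ndS (p := 2667) (l := 0) rfl N2667 D5836
theorem N4974 : nd 4974 = n5837 := ndS (p := 2668) (l := 4) rfl N2668 D5837
theorem N4975 : nd 4975 = n5838 := ndS (p := 2669) (l := 2) rfl N2669 D5838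
theorem N4976 : nd 4976 = n5839 := ndS (p := 2670) (l := 3) rfl N2670 D5839
theorem N4977 : nd 4977 = n5840 := ndS (p := 2671) (l := 0) rfl N2671 D5840
theorem N4978 : nd 4978 = n5841 := ndS (p := 2672) (l := 4) rfl N2672 D5841
theorem N4979 : nd 4979 = n5842 := ndS (p := 2673) (l := 2) rfl N2673 D5842
theorem N4980 : nd 4980 = n5843 := ndS (p := 2674) (l := 0) rfl N2674 D5843
theorem N4981 : nd 4981 = n5844 := ndS (p := 2674) (l := 4) rfl N2674 D5844
theorem N4982 : nd 4982 = n5845 := ndS (p := 2676) (l := 0) rfl N2676 D5845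
theorem N4983 : nd 4983 = n5846 := ndS (p := 2676) (l := 4) rfl N2676 D5846
theorem N4984 : nd 4984 = n5848 := ndS (p := 2678) (l := 2) rfl N2678 D5848
theorem N4985 : nd 4985 = n5849 := ndS (p := 2679) (l := 4) rfl N2679 D5849
theorem N4986 : nd 4986 = n5850 := ndS (p := 2680) (l := 3) rfl N2680 D5850
theorem N4987 : nd 4987 = n5851 := ndS (p := 2681) (l := 2) rfl N2681 D5851
theorem N4988 : nd 4988 = n5852 := ndS (p := 2682) (l := 3) rfl N2682 D5852
theorem N4989 : nd 4989 = n5853 := ndS (p := 2683) (l := 0) rfl N2683 D5853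
theorem N4990 : nd 4990 = n5854 := ndS (p := 2684) (l := 2) rfl N2684 D5854
theorem N4991 : nd 4991 = n5855 := ndS (p := 2684) (l := 4) rfl N2684 D5855
theorem N4992 : nd 4992 = n5856 := ndS (p := 2685) (l := 1) rfl N2685 D5856
theorem N4993 : nd 4993 = n5857 := ndS (p := 2685) (l := 4) rfl N2685 D5857
theorem N4994 : nd 4994 = n5858 := ndS (p := 2687) (l := 2) rfl N2687 D5858
theorem N4995 : nd 4995 = n5859 := ndS (p := 2688) (l := 0) rfl N2688 D5859
theorem N4996 : nd 4996 = n5860 := ndS (p := 2689) (l := 3) rfl N2689 D5860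
theorem N4997 : nd 4997 = n5861 := ndS (p := 2689) (l := 4) rfl N2689 D5861
theorem N4998 : nd 4998 = n5862 := ndS (p := 2692) (l := 0) rfl N2692 D5862
theorem N4999 : nd 4999 = n5863 := ndS (p := 2692) (l := 2) rfl N2692 D5863
theorem N5000 : nd 5000 = n5864 := ndS (p := 2692) (l := 4) rfl N2692 D5864
theorem N5001 : nd 5001 = n5865 := ndS (p := 2695) (l := 0) rfl N2695 D5865
theorem N5002 : nd 5002 = n5866 := ndS (p := 2695) (l := 1) rfl N2695 D5866
theorem N5003 : nd 5003 = n5867 := ndS (p := 2695) (l := 4) rfl N2695 D5867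
theorem N5004 : nd 5004 = n5868 := ndS (p := 2697) (l := 4) rfl N2697 D5868
theorem N5005 : nd 5005 = n5869 := ndS (p := 2698) (l := 0) rfl N2698 D5869
theorem N5006 : nd 5006 = n5870 := ndS (p := 2698) (l := 4) rfl N2698 D5870
theorem N5007 : nd 5007 = n5871 := ndS (p := 2699) (l := 0) rfl N2699 D5871
theorem N5008 : nd 5008 = n5872 := ndS (p := 2700) (l := 2) rfl N2700 D5872
theorem N5009 : nd 5009 = n5873 := ndS (p := 2701) (l := 4) rfl N2701 D5873
theorem N5010 : nd 5010 = n5874 := ndS (p := 2702) (l := 0) rfl N2702 D5874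
theorem N5011 : nd 5011 = n5875 := ndS (p := 2702) (l := 2) rfl N2702 D5875
theorem N5012 : nd 5012 = n5876 := ndS (p := 2702) (l := 3) rfl N2702 D5876
theorem N5013 : nd 5013 = n5877 := ndS (p := 2702) (l := 4) rfl N2702 D5877
theorem N5014 : nd 5014 = n5878 := ndS (p := 2703) (l := 0) rfl N2703 D5878
theorem N5015 : nd 5015 = n5881 := ndS (p := 2705) (l := 2) rfl N2705 D5881
theorem N5016 : nd 5016 = n5882 := ndS (p := 2706) (l := 0) rfl N2706 D5882
theorem N5017 : nd 5017 = n5883 := ndS (p := 2706) (l := 1) rfl N2706 D5883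
theorem N5018 : nd 5018 = n5884 := ndS (p := 2706) (l := 4) rfl N2706 D5884
theorem N5019 : nd 5019 = n5885 := ndS (p := 2707) (l := 2) rfl N2707 D5885
theorem N5020 : nd 5020 = n5886 := ndS (p := 2708) (l := 4) rfl N2708 D5886
theorem N5021 : nd 5021 = n5887 := ndS (p := 2709) (l := 4) rfl N2709 D5887
theorem N5022 : nd 5022 = n5888 := ndS (p := 2710) (l := 0) rfl N2710 D5888
theorem N5023 : nd 5023 = n5889 := ndS (p := 2710) (l := 4) rfl N2710 D5889
theorem N5024 : nd 5024 = n5890 := ndS (p := 2712) (l := 0) rfl N2712 D5890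
theorem N5025 : nd 5025 = n5891 := ndS (p := 2712) (l := 1) rfl N2712 D5891
theorem N5026 : nd 5026 = n5892 := ndS (p := 2713) (l := 2) rfl N2713 D5892
theorem N5027 : nd 5027 = n5893 := ndS (p := 2713) (l := 4) rfl N2713 D5893
theorem N5028 : nd 5028 = n5894 := ndS (p := 2714) (l := 4) rfl N2714 D5894
theorem N5029 : nd 5029 = n5895 := ndS (p := 2717) (l := 2) rfl N2717 D5895
theorem N5030 : nd 5030 = n5896 := ndS (p := 2718) (l := 4) rfl N2718 D5896
theorem N5031 : nd 5031 = n5897 := ndS (p := 2719) (l := 2) rfl N2719 D5897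
theorem N5032 : nd 5032 = n5898 := ndS (p := 2720) (l := 1) rfl N2720 D5898
theorem N5033 : nd 5033 = n5899 := ndS (p := 2721) (l := 0) rfl N2721 D5899
theorem N5034 : nd 5034 = n5900 := ndS (p := 2721) (l := 2) rfl N2721 D5900
theorem N5035 : nd 5035 = n5901 := ndS (p := 2722) (l := 2) rfl N2722 D5901
theorem N5036 : nd 5036 = n5902 := ndS (p := 2722) (l := 4) rfl N2722 D5902
theorem N5037 : nd 5037 = n5903 := ndS (p := 2723) (l := 0) rfl N2723 D5903
theorem N5038 : nd 5038 = n5904 := ndS (p := 2723) (l := 1) rfl N2723 D5904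
theorem N5039 : nd 5039 = n5905 := ndS (p := 2723) (l := 3) rfl N2723 D5905
theorem N5040 : nd 5040 = n5906 := ndS (p := 2723) (l := 4) rfl N2723 D5906
theorem N5041 : nd 5041 = n5907 := ndS (p := 2725) (l := 2) rfl N2725 D5907
theorem N5042 : nd 5042 = n5908 := ndS (p := 2726) (l := 4) rfl N2726 D5908
theorem N5043 : nd 5043 = n5909 := ndS (p := 2727) (l := 2) rfl N2727 D5909
theorem N5044 : nd 5044 = n5910 := ndS (p := 2728) (l := 1) rfl N2728 D5910
theorem N5045 : nd 5045 = n5911 := ndS (p := 2728) (l := 4) rfl N2728 D5911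
theorem N5046 : nd 5046 = n5912 := ndS (p := 2729) (l := 1) rfl N2729 D5912
theorem N5047 : nd 5047 = n5913 := ndS (p := 2729) (l := 2) rfl N2729 D5913
theorem N5048 : nd 5048 = n5914 := ndS (p := 2730) (l := 0) rfl N2730 D5914
theorem N5049 : nd 5049 = n5916 := ndS (p := 2731) (l := 4) rfl N2731 D5916
theorem N5050 : nd 5050 = n5917 := ndS (p := 2732) (l := 3) rfl N2732 D5917
theorem N5051 : nd 5051 = n5918 := ndS (p := 2733) (l := 0) rfl N2733 D5918
theorem N5052 : nd 5052 = n5919 := ndS (p := 2733) (l := 4) rfl N2733 D5919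
theorem N5053 : nd 5053 = n5920 := ndS (p := 2734) (l := 2) rfl N2734 D5920
theorem N5054 : nd 5054 = n5921 := ndS (p := 2735) (l := 3) rfl N2735 D5921
theorem N5055 : nd 5055 = n5922 := ndS (p := 2736) (l := 4) rfl N2736 D5922
theorem N5056 : nd 5056 = n5923 := ndS (p := 2737) (l := 0) rfl N2737 D5923
theorem N5057 : nd 5057 = n5924 := ndS (p := 2737) (l := 4) rfl N2737 D5924
theorem N5058 : nd 5058 = n5925 := ndS (p := 2738) (l := 4) rfl N2738 D5925
theorem N5059 : nd 5059 = n5927 := ndS (p := 2740) (l := 4) rfl N2740 D5927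
theorem N5060 : nd 5060 = n5928 := ndS (p := 2741) (l := 3) rfl N2741 D5928
theorem N5061 : nd 5061 = n5929 := ndS (p := 2742) (l := 0) rfl N2742 D5929
theorem N5062 : nd 5062 = n5930 := ndS (p := 2742) (l := 4) rfl N2742 D5930
theorem N5063 : nd 5063 = n5931 := ndS (p := 2743) (l := 1) rfl N2743 D5931
theorem N5064 : nd 5064 = n5932 := ndS (p := 2743) (l := 3) rfl N2743 D5932
theorem N5065 : nd 5065 = n5933 := ndS (p := 2743) (l := 4) rfl N2743 D5933
theorem N5066 : nd 5066 = n5934 := ndS (p := 2744) (l := 4) rfl N2744 D5934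
theorem N5067 : nd 5067 = n5935 := ndS (p := 2745) (l := 2) rfl N2745 D5935
theorem N5068 : nd 5068 = n5936 := ndS (p := 2745) (l := 3) rfl N2745 D5936
theorem N5069 : nd 5069 = n5937 := ndS (p := 2746) (l := 0) rfl N2746 D5937
theorem N5070 : nd 5070 = n5938 := ndS (p := 2746) (l := 1) rfl N2746 D5938
theorem N5071 : nd 5071 = n5939 := ndS (p := 2746) (l := 3) rfl N2746 D5939
theorem N5072 : nd 5072 = n5940 := ndS (p := 2746) (l := 4) rfl N2746 D5940
theorem N5073 : nd 5073 = n5941 := ndS (p := 2747) (l := 4) rfl N2747 D5941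
theorem N5074 : nd 5074 = n5942 := ndS (p := 2748) (l := 3) rfl N2748 D5942
theorem N5075 : nd 5075 = n5943 := ndS (p := 2749) (l := 0) rfl N2749 D5943
theorem N5076 : nd 5076 = n5944 := ndS (p := 2749) (l := 4) rfl N2749 D5944
theorem N5077 : nd 5077 = n5945 := ndS (p := 2751) (l := 2) rfl N2751 D5945
theorem N5078 : nd 5078 = n5946 := ndS (p := 2751) (l := 4) rfl N2751 D5946
theorem N5079 : nd 5079 = n5947 := ndS (p := 2753) (l := 4) rfl N2753 D5947
theorem N5080 : nd 5080 = n5948 := ndS (p := 2754) (l := 2) rfl N2754 D5948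
theorem N5081 : nd 5081 = n5949 := ndS (p := 2754) (l := 3) rfl N2754 D5949
theorem N5082 : nd 5082 = n5950 := ndS (p := 2755) (l := 0) rfl N2755 D5950
theorem N5083 : nd 5083 = n5951 := ndS (p := 2755) (l := 2) rfl N2755 D5951
theorem N5084 : nd 5084 = n5952 := ndS (p := 2755) (l := 3) rfl N2755 D5952
theorem N5085 : nd 5085 = n5953 := ndS (p := 2755) (l := 4) rfl N2755 D5953
theorem N5086 : nd 5086 = n5954 := ndS (p := 2756) (l := 4) rfl N2756 D5954
theorem N5087 : nd 5087 = n5955 := ndS (p := 2757) (l := 3) rfl N2757 D5955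
theorem N5088 : nd 5088 = n5956 := ndS (p := 2758) (l := 2) rfl N2758 D5956
theorem N5089 : nd 5089 = n5957 := ndS (p := 2759) (l := 0) rfl N2759 D5957
theorem N5090 : nd 5090 = n5958 := ndS (p := 2759) (l := 1) rfl N2759 D5958
theorem N5091 : nd 5091 = n5959 := ndS (p := 2759) (l := 3) rfl N2759 D5959
theorem N5092 : nd 5092 = n5960 := ndS (p := 2759) (l := 4) rfl N2759 D5960
theorem N5093 : nd 5093 = n5961 := ndS (p := 2760) (l := 4) rfl N2760 D5961
theorem N5094 : nd 5094 = n5962 := ndS (p := 2761) (l := 1) rfl N2761 D5962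
theorem N5095 : nd 5095 = n5963 := ndS (p := 2761) (l := 3) rfl N2761 D5963
theorem N5096 : nd 5096 = n5964 := ndS (p := 2761) (l := 4) rfl N2761 D5964
theorem N5097 : nd 5097 = n5965 := ndS (p := 2762) (l := 0) rfl N2762 D5965
theorem N5098 : nd 5098 = n5966 := ndS (p := 2762) (l := 2) rfl N2762 D5966
theorem N5099 : nd 5099 = n5967 := ndS (p := 2762) (l := 3) rfl N2762 D5967
theorem N5100 : nd 5100 = n5968 := ndS (p := 2762) (l := 4) rfl N2762 D5968
theorem N5101 : nd 5101 = n5969 := ndS (p := 2763) (l := 0) rfl N2763 D5969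
theorem N5102 : nd 5102 = n5970 := ndS (p := 2763) (l := 4) rfl N2763 D5970
theorem N5103 : nd 5103 = n5971 := ndS (p := 2766) (l := 4) rfl N2766 D5971
theorem N5104 : nd 5104 = n5972 := ndS (p := 2767) (l := 3) rfl N2767 D5972
theorem N5105 : nd 5105 = n5973 := ndS (p := 2768) (l := 3) rfl N2768 D5973
theorem N5106 : nd 5106 = n5974 := ndS (p := 2769) (l := 3) rfl N2769 D5974
theorem N5107 : nd 5107 = n5975 := ndS (p := 2769) (l := 4) rfl N2769 D5975
theorem N5108 : nd 5108 = n5976 := ndS (p := 2770) (l := 0) rfl N2770 D5976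
theorem N5109 : nd 5109 = n5977 := ndS (p := 2770) (l := 4) rfl N2770 D5977
theorem N5110 : nd 5110 = n5978 := ndS (p := 2772) (l := 1) rfl N2772 D5978
theorem N5111 : nd 5111 = n5979 := ndS (p := 2772) (l := 2) rfl N2772 D5979
theorem N5112 : nd 5112 = n5980 := ndS (p := 2772) (l := 3) rfl N2772 D5980
theorem N5113 : nd 5113 = n5981 := ndS (p := 2772) (l := 4) rfl N2772 D5981
theorem N5114 : nd 5114 = n5982 := ndS (p := 2774) (l := 2) rfl N2774 D5982
theorem N5115 : nd 5115 = n5983 := ndS (p := 2774) (l := 4) rfl N2774 D5983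
theorem N5116 : nd 5116 = n5984 := ndS (p := 2775) (l := 1) rfl N2775 D5984
theorem N5117 : nd 5117 = n5985 := ndS (p := 2775) (l := 4) rfl N2775 D5985
theorem N5118 : nd 5118 = n5986 := ndS (p := 2776) (l := 2) rfl N2776 D5986
theorem N5119 : nd 5119 = n5987 := ndS (p := 2777) (l := 1) rfl N2777 D5987
theorem N5120 : nd 5120 = n5988 := ndS (p := 2777) (l := 4) rfl N2777 D5988
theorem N5121 : nd 5121 = n5989 := ndS (p := 2778) (l := 2) rfl N2778 D5989
theorem N5122 : nd 5122 = n5990 := ndS (p := 2778) (l := 3) rfl N2778 D5990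
theorem N5123 : nd 5123 = n5991 := ndS (p := 2779) (l := 0) rfl N2779 D5991
theorem N5124 : nd 5124 = n5992 := ndS (p := 2779) (l := 4) rfl N2779 D5992
theorem N5125 : nd 5125 = n5993 := ndS (p := 2780) (l := 3) rfl N2780 D5993
theorem N5126 : nd 5126 = n5994 := ndS (p := 2781) (l := 4) rfl N2781 D5994
theorem N5127 : nd 5127 = n5995 := ndS (p := 2782) (l := 1) rfl N2782 D5995
theorem N5128 : nd 5128 = n5996 := ndS (p := 2782) (l := 3) rfl N2782 D5996
theorem N5129 : nd 5129 = n5997 := ndS (p := 2782) (l := 4) rfl N2782 D5997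
theorem N5130 : nd 5130 = n5998 := ndS (p := 2783) (l := 4) rfl N2783 D5998
theorem N5131 : nd 5131 = n5999 := ndS (p := 2784) (l := 3) rfl N2784 D5999
theorem N5132 : nd 5132 = n6000 := ndS (p := 2784) (l := 4) rfl N2784 D6000
theorem N5133 : nd 5133 = n6001 := ndS (p := 2785) (l := 4) rfl N2785 D6001
theorem N5134 : nd 5134 = n6002 := ndS (p := 2787) (l := 1) rfl N2787 D6002
theorem N5135 : nd 5135 = n6003 := ndS (p := 2789) (l := 4) rfl N2789 D6003
theorem N5136 : nd 5136 = n6004 := ndS (p := 2791) (l := 4) rfl N2791 D6004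
theorem N5137 : nd 5137 = n6005 := ndS (p := 2792) (l := 4) rfl N2792 D6005
theorem N5138 : nd 5138 = n6006 := ndS (p := 2793) (l := 3) rfl N2793 D6006
theorem N5139 : nd 5139 = n6007 := ndS (p := 2794) (l := 4) rfl N2794 D6007
theorem N5140 : nd 5140 = n6008 := ndS (p := 2795) (l := 3) rfl N2795 D6008
theorem N5141 : nd 5141 = n6009 := ndS (p := 2796) (l := 2) rfl N2796 D6009
theorem N5142 : nd 5142 = n6010 := ndS (p := 2797) (l := 1) rfl N2797 D6010
theorem N5143 : nd 5143 = n6011 := ndS (p := 2797) (l := 3) rfl N2797 D6011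
theorem N5144 : nd 5144 = n6012 := ndS (p := 2797) (l := 4) rfl N2797 D6012
theorem N5145 : nd 5145 = n6013 := ndS (p := 2798) (l := 4) rfl N2798 D6013
theorem N5146 : nd 5146 = n6014 := ndS (p := 2799) (l := 1) rfl N2799 D6014
theorem N5147 : nd 5147 = n6015 := ndS (p := 2799) (l := 3) rfl N2799 D6015
theorem N5148 : nd 5148 = n6016 := ndS (p := 2799) (l := 4) rfl N2799 D6016
theorem N5149 : nd 5149 = n6017 := ndS (p := 2800) (l := 2) rfl N2800 D6017
theorem N5150 : nd 5150 = n6018 := ndS (p := 2800) (l := 3) rfl N2800 D6018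
theorem N5151 : nd 5151 = n6019 := ndS (p := 2801) (l := 4) rfl N2801 D6019
theorem N5152 : nd 5152 = n6020 := ndS (p := 2804) (l := 3) rfl N2804 D6020
theorem N5153 : nd 5153 = n6021 := ndS (p := 2805) (l := 4) rfl N2805 D6021
theorem N5154 : nd 5154 = n6022 := ndS (p := 2806) (l := 1) rfl N2806 D6022
theorem N5155 : nd 5155 = n6023 := ndS (p := 2806) (l := 3) rfl N2806 D6023
theorem N5156 : nd 5156 = n6024 := ndS (p := 2806) (l := 4) rfl N2806 D6024
theorem N5157 : nd 5157 = n6025 := ndS (p := 2808) (l := 0) rfl N2808 D6025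
theorem N5158 : nd 5158 = n6026 := ndS (p := 2808) (l := 4) rfl N2808 D6026
theorem N5159 : nd 5159 = n6027 := ndS (p := 2809) (l := 1) rfl N2809 D6027
theorem N5160 : nd 5160 = n6028 := ndS (p := 2809) (l := 4) rfl N2809 D6028
theorem N5161 : nd 5161 = n6029 := ndS (p := 2810) (l := 2) rfl N2810 D6029
theorem N5162 : nd 5162 = n6030 := ndS (p := 2811) (l := 3) rfl N2811 D6030
theorem N5163 : nd 5163 = n6031 := ndS (p := 2812) (l := 2) rfl N2812 D6031
theorem N5164 : nd 5164 = n6032 := ndS (p := 2813) (l := 1) rfl N2813 D6032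
theorem N5165 : nd 5165 = n6033 := ndS (p := 2813) (l := 3) rfl N2813 D6033
theorem N5166 : nd 5166 = n6034 := ndS (p := 2814) (l := 4) rfl N2814 D6034
theorem N5167 : nd 5167 = n6035 := ndS (p := 2815) (l := 3) rfl N2815 D6035
theorem N5168 : nd 5168 = n6036 := ndS (p := 2817) (l := 4) rfl N2817 D6036
theorem N5169 : nd 5169 = n6037 := ndS (p := 2818) (l := 1) rfl N2818 D6037
theorem N5170 : nd 5170 = n6038 := ndS (p := 2818) (l := 4) rfl N2818 D6038
theorem N5171 : nd 5171 = n6039 := ndS (p := 2820) (l := 0) rfl N2820 D6039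
theorem N5172 : nd 5172 = n6040 := ndS (p := 2820) (l := 2) rfl N2820 D6040
theorem N5173 : nd 5173 = n6041 := ndS (p := 2820) (l := 3) rfl N2820 D6041
theorem N5174 : nd 5174 = n6042 := ndS (p := 2820) (l := 4) rfl N2820 D6042
theorem N5175 : nd 5175 = n6043 := ndS (p := 2821) (l := 4) rfl N2821 D6043
theorem N5176 : nd 5176 = n6044 := ndS (p := 2824) (l := 0) rfl N2824 D6044
theorem N5177 : nd 5177 = n6045 := ndS (p := 2824) (l := 3) rfl N2824 D6045
theorem N5178 : nd 5178 = n6046 := ndS (p := 2824) (l := 4) rfl N2824 D6046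
theorem N5179 : nd 5179 = n6047 := ndS (p := 2825) (l := 4) rfl N2825 D6047
theorem N5180 : nd 5180 = n6048 := ndS (p := 2826) (l := 3) rfl N2826 D6048
theorem N5181 : nd 5181 = n6049 := ndS (p := 2827) (l := 1) rfl N2827 D6049
theorem N5182 : nd 5182 = n6050 := ndS (p := 2828) (l := 3) rfl N2828 D6050
theorem N5183 : nd 5183 = n6051 := ndS (p := 2829) (l := 0) rfl N2829 D6051
theorem N5184 : nd 5184 = n6052 := ndS (p := 2829) (l := 4) rfl N2829 D6052
theorem N5185 : nd 5185 = n6053 := ndS (p := 2831) (l := 1) rfl N2831 D6053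
theorem N5186 : nd 5186 = n6054 := ndS (p := 2831) (l := 4) rfl N2831 D6054
theorem N5187 : nd 5187 = n6055 := ndS (p := 2833) (l := 1) rfl N2833 D6055
theorem N5188 : nd 5188 = n6056 := ndS (p := 2833) (l := 3) rfl N2833 D6056
theorem N5189 : nd 5189 = n6057 := ndS (p := 2833) (l := 4) rfl N2833 D6057
theorem N5190 : nd 5190 = n6058 := ndS (p := 2834) (l := 0) rfl N2834 D6058
theorem N5191 : nd 5191 = n6059 := ndS (p := 2834) (l := 4) rfl N2834 D6059
theorem N5192 : nd 5192 = n6060 := ndS (p := 2835) (l := 3) rfl N2835 D6060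
theorem N5193 : nd 5193 = n6061 := ndS (p := 2838) (l := 3) rfl N2838 D6061
theorem N5194 : nd 5194 = n6062 := ndS (p := 2841) (l := 1) rfl N2841 D6062
theorem N5195 : nd 5195 = n6063 := ndS (p := 2843) (l := 0) rfl N2843 D6063
theorem N5196 : nd 5196 = n6064 := ndS (p := 2843) (l := 3) rfl N2843 D6064
theorem N5197 : nd 5197 = n6065 := ndS (p := 2843) (l := 4) rfl N2843 D6065
theorem N5198 : nd 5198 = n6066 := ndS (p := 2847) (l := 2) rfl N2847 D6066
theorem N5199 : nd 5199 = n6067 := ndS (p := 2848) (l := 1) rfl N2848 D6067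
theorem N5200 : nd 5200 = n6068 := ndS (p := 2849) (l := 2) rfl N2849 D6068
theorem N5201 : nd 5201 = n6069 := ndS (p := 2850) (l := 0) rfl N2850 D6069
theorem N5202 : nd 5202 = n6070 := ndS (p := 2850) (l := 2) rfl N2850 D6070
theorem N5203 : nd 5203 = n6071 := ndS (p := 2850) (l := 4) rfl N2850 D6071
theorem N5204 : nd 5204 = n6072 := ndS (p := 2852) (l := 1) rfl N2852 D6072
theorem N5205 : nd 5205 = n6073 := ndS (p := 2853) (l := 2) rfl N2853 D6073
theorem N5206 : nd 5206 = n6074 := ndS (p := 2853) (l := 3) rfl N2853 D6074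
theorem N5207 : nd 5207 = n6075 := ndS (p := 2854) (l := 1) rfl N2854 D6075
theorem N5208 : nd 5208 = n6076 := ndS (p := 2854) (l := 3) rfl N2854 D6076
theorem N5209 : nd 5209 = n6077 := ndS (p := 2854) (l := 4) rfl N2854 D6077
theorem N5210 : nd 5210 = n6078 := ndS (p := 2855) (l := 0) rfl N2855 D6078
theorem N5211 : nd 5211 = n6079 := ndS (p := 2855) (l := 4) rfl N2855 D6079
theorem N5212 : nd 5212 = n6080 := ndS (p := 2856) (l := 4) rfl N2856 D6080
theorem N5213 : nd 5213 = n6081 := ndS (p := 2857) (l := 3) rfl N2857 D6081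
theorem N5214 : nd 5214 = n6082 := ndS (p := 2858) (l := 3) rfl N2858 D6082
theorem N5215 : nd 5215 = n6083 := ndS (p := 2858) (l := 4) rfl N2858 D6083
theorem N5216 : nd 5216 = n6084 := ndS (p := 2859) (l := 4) rfl N2859 D6084
theorem N5217 : nd 5217 = n6085 := ndS (p := 2860) (l := 4) rfl N2860 D6085
theorem N5218 : nd 5218 = n6087 := ndS (p := 2862) (l := 4) rfl N2862 D6087
theorem N5219 : nd 5219 = n6089 := ndS (p := 2864) (l := 3) rfl N2864 D6089
theorem N5220 : nd 5220 = n6090 := ndS (p := 2864) (l := 4) rfl N2864 D6090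
theorem N5221 : nd 5221 = n6091 := ndS (p := 2865) (l := 4) rfl N2865 D6091
theorem N5222 : nd 5222 = n6092 := ndS (p := 2866) (l := 2) rfl N2866 D6092
theorem N5223 : nd 5223 = n6093 := ndS (p := 2866) (l := 3) rfl N2866 D6093
theorem N5224 : nd 5224 = n6094 := ndS (p := 2867) (l := 0) rfl N2867 D6094
theorem N5225 : nd 5225 = n6095 := ndS (p := 2867) (l := 1) rfl N2867 D6095
theorem N5226 : nd 5226 = n6096 := ndS (p := 2867) (l := 3) rfl N2867 D6096
theorem N5227 : nd 5227 = n6097 := ndS (p := 2867) (l := 4) rfl N2867 D6097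
theorem N5228 : nd 5228 = n6098 := ndS (p := 2868) (l := 4) rfl N2868 D6098
theorem N5229 : nd 5229 = n6099 := ndS (p := 2869) (l := 3) rfl N2869 D6099
theorem N5230 : nd 5230 = n6100 := ndS (p := 2870) (l := 0) rfl N2870 D6100
theorem N5231 : nd 5231 = n6101 := ndS (p := 2870) (l := 4) rfl N2870 D6101
theorem N5232 : nd 5232 = n6102 := ndS (p := 2872) (l := 1) rfl N2872 D6102
theorem N5233 : nd 5233 = n6103 := ndS (p := 2872) (l := 2) rfl N2872 D6103
theorem N5234 : nd 5234 = n6104 := ndS (p := 2872) (l := 4) rfl N2872 D6104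
theorem N5235 : nd 5235 = n6105 := ndS (p := 2874) (l := 3) rfl N2874 D6105
theorem N5236 : nd 5236 = n6106 := ndS (p := 2874) (l := 4) rfl N2874 D6106
theorem N5237 : nd 5237 = n6107 := ndS (p := 2875) (l := 4) rfl N2875 D6107
theorem N5238 : nd 5238 = n6108 := ndS (p := 2876) (l := 3) rfl N2876 D6108
theorem N5239 : nd 5239 = n6109 := ndS (p := 2877) (l := 2) rfl N2877 D6109
theorem N5240 : nd 5240 = n6110 := ndS (p := 2878) (l := 1) rfl N2878 D6110
theorem N5241 : nd 5241 = n6111 := ndS (p := 2878) (l := 3) rfl N2878 D6111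
theorem N5242 : nd 5242 = n6112 := ndS (p := 2878) (l := 4) rfl N2878 D6112
theorem N5243 : nd 5243 = n6113 := ndS (p := 2879) (l := 4) rfl N2879 D6113
theorem N5244 : nd 5244 = n6114 := ndS (p := 2880) (l := 1) rfl N2880 D6114
theorem N5245 : nd 5245 = n6115 := ndS (p := 2880) (l := 3) rfl N2880 D6115
theorem N5246 : nd 5246 = n6116 := ndS (p := 2880) (l := 4) rfl N2880 D6116
theorem N5247 : nd 5247 = n6117 := ndS (p := 2881) (l := 4) rfl N2881 D6117
theorem N5248 : nd 5248 = n6118 := ndS (p := 2884) (l := 1) rfl N2884 D6118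
theorem N5249 : nd 5249 = n6119 := ndS (p := 2884) (l := 3) rfl N2884 D6119
theorem N5250 : nd 5250 = n6120 := ndS (p := 2884) (l := 4) rfl N2884 D6120
theorem N5251 : nd 5251 = n6121 := ndS (p := 2886) (l := 1) rfl N2886 D6121
theorem N5252 : nd 5252 = n6122 := ndS (p := 2886) (l := 4) rfl N2886 D6122
theorem N5253 : nd 5253 = n6123 := ndS (p := 2887) (l := 2) rfl N2887 D6123
theorem N5254 : nd 5254 = n6124 := ndS (p := 2888) (l := 3) rfl N2888 D6124
theorem N5255 : nd 5255 = n6125 := ndS (p := 2889) (l := 1) rfl N2889 D6125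
theorem N5256 : nd 5256 = n6126 := ndS (p := 2889) (l := 3) rfl N2889 D6126
theorem N5257 : nd 5257 = n6127 := ndS (p := 2889) (l := 4) rfl N2889 D6127
theorem N5258 : nd 5258 = n6128 := ndS (p := 2890) (l := 0) rfl N2890 D6128
theorem N5259 : nd 5259 = n6129 := ndS (p := 2890) (l := 4) rfl N2890 D6129
theorem N5260 : nd 5260 = n6130 := ndS (p := 2891) (l := 2) rfl N2891 D6130
theorem N5261 : nd 5261 = n6131 := ndS (p := 2891) (l := 3) rfl N2891 D6131
theorem N5262 : nd 5262 = n6132 := ndS (p := 2892) (l := 1) rfl N2892 D6132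
theorem N5263 : nd 5263 = n6133 := ndS (p := 2892) (l := 2) rfl N2892 D6133
theorem N5264 : nd 5264 = n6134 := ndS (p := 2892) (l := 3) rfl N2892 D6134
theorem N5265 : nd 5265 = n6135 := ndS (p := 2892) (l := 4) rfl N2892 D6135
theorem N5266 : nd 5266 = n6136 := ndS (p := 2893) (l := 0) rfl N2893 D6136
theorem N5267 : nd 5267 = n6137 := ndS (p := 2893) (l := 4) rfl N2893 D6137
theorem N5268 : nd 5268 = n6138 := ndS (p := 2894) (l := 2) rfl N2894 D6138
theorem N5269 : nd 5269 = n6139 := ndS (p := 2895) (l := 1) rfl N2895 D6139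
theorem N5270 : nd 5270 = n6140 := ndS (p := 2895) (l := 2) rfl N2895 D6140
theorem N5271 : nd 5271 = n6141 := ndS (p := 2895) (l := 3) rfl N2895 D6141
theorem N5272 : nd 5272 = n6142 := ndS (p := 2895) (l := 4) rfl N2895 D6142
theorem N5273 : nd 5273 = n6143 := ndS (p := 2896) (l := 2) rfl N2896 D6143
theorem N5274 : nd 5274 = n6144 := ndS (p := 2897) (l := 0) rfl N2897 D6144
theorem N5275 : nd 5275 = n6145 := ndS (p := 2899) (l := 3) rfl N2899 D6145
theorem N5276 : nd 5276 = n6146 := ndS (p := 2900) (l := 0) rfl N2900 D6146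
theorem N5277 : nd 5277 = n6147 := ndS (p := 2900) (l := 4) rfl N2900 D6147
theorem N5278 : nd 5278 = n6148 := ndS (p := 2901) (l := 2) rfl N2901 D6148
theorem N5279 : nd 5279 = n6149 := ndS (p := 2901) (l := 3) rfl N2901 D6149
theorem N5280 : nd 5280 = n6150 := ndS (p := 2902) (l := 2) rfl N2902 D6150
theorem N5281 : nd 5281 = n6151 := ndS (p := 2902) (l := 3) rfl N2902 D6151
theorem N5282 : nd 5282 = n6152 := ndS (p := 2902) (l := 4) rfl N2902 D6152
theorem N5283 : nd 5283 = n6153 := ndS (p := 2903) (l := 2) rfl N2903 D6153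
theorem N5284 : nd 5284 = n6154 := ndS (p := 2904) (l := 1) rfl N2904 D6154
theorem N5285 : nd 5285 = n6155 := ndS (p := 2904) (l := 3) rfl N2904 D6155
theorem N5286 : nd 5286 = n6156 := ndS (p := 2905) (l := 0) rfl N2905 D6156
theorem N5287 : nd 5287 = n6157 := ndS (p := 2906) (l := 3) rfl N2906 D6157
theorem N5288 : nd 5288 = n6158 := ndS (p := 2907) (l := 3) rfl N2907 D6158
theorem N5289 : nd 5289 = n6159 := ndS (p := 2907) (l := 4) rfl N2907 D6159
theorem N5290 : nd 5290 = n6161 := ndS (p := 2909) (l := 1) rfl N2909 D6161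
theorem N5291 : nd 5291 = n6162 := ndS (p := 2909) (l := 2) rfl N2909 D6162
theorem N5292 : nd 5292 = n6163 := ndS (p := 2909) (l := 3) rfl N2909 D6163
theorem N5293 : nd 5293 = n6164 := ndS (p := 2909) (l := 4) rfl N2909 D6164
theorem N5294 : nd 5294 = n6165 := ndS (p := 2910) (l := 2) rfl N2910 D6165
theorem N5295 : nd 5295 = n6166 := ndS (p := 2912) (l := 3) rfl N2912 D6166
theorem N5296 : nd 5296 = n6167 := ndS (p := 2912) (l := 4) rfl N2912 D6167
theorem N5297 : nd 5297 = n6168 := ndS (p := 2913) (l := 1) rfl N2913 D6168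
theorem N5298 : nd 5298 = n6169 := ndS (p := 2913) (l := 3) rfl N2913 D6169
theorem N5299 : nd 5299 = n6170 := ndS (p := 2913) (l := 4) rfl N2913 D6170
theorem N5300 : nd 5300 = n6171 := ndS (p := 2915) (l := 2) rfl N2915 D6171
theorem N5301 : nd 5301 = n6172 := ndS (p := 2916) (l := 0) rfl N2916 D6172
theorem N5302 : nd 5302 = n6173 := ndS (p := 2917) (l := 3) rfl N2917 D6173
theorem N5303 : nd 5303 = n6174 := ndS (p := 2918) (l := 0) rfl N2918 D6174
theorem N5304 : nd 5304 = n6175 := ndS (p := 2918) (l := 1) rfl N2918 D6175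
theorem N5305 : nd 5305 = n6176 := ndS (p := 2918) (l := 4) rfl N2918 D6176
theorem N5306 : nd 5306 = n6177 := ndS (p := 2919) (l := 1) rfl N2919 D6177
theorem N5307 : nd 5307 = n6178 := ndS (p := 2919) (l := 3) rfl N2919 D6178
theorem N5308 : nd 5308 = n6179 := ndS (p := 2919) (l := 4) rfl N2919 D6179
theorem N5309 : nd 5309 = n6180 := ndS (p := 2922) (l := 4) rfl N2922 D6180
theorem N5310 : nd 5310 = n6181 := ndS (p := 2923) (l := 3) rfl N2923 D6181
theorem N5311 : nd 5311 = n6182 := ndS (p := 2924) (l := 4) rfl N2924 D6182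
theorem N5312 : nd 5312 = n6183 := ndS (p := 2925) (l := 1) rfl N2925 D6183
theorem N5313 : nd 5313 = n6184 := ndS (p := 2925) (l := 4) rfl N2925 D6184
theorem N5314 : nd 5314 = n6185 := ndS (p := 2927) (l := 2) rfl N2927 D6185
theorem N5315 : nd 5315 = n6186 := ndS (p := 2927) (l := 4) rfl N2927 D6186
theorem N5316 : nd 5316 = n6187 := ndS (p := 2928) (l := 2) rfl N2928 D6187
theorem N5317 : nd 5317 = n6188 := ndS (p := 2929) (l := 2) rfl N2929 D6188
theorem N5318 : nd 5318 = n6189 := ndS (p := 2930) (l := 1) rfl N2930 D6189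
theorem N5319 : nd 5319 = n6190 := ndS (p := 2930) (l := 3) rfl N2930 D6190
theorem N5320 : nd 5320 = n6191 := ndS (p := 2931) (l := 4) rfl N2931 D6191
theorem N5321 : nd 5321 = n6192 := ndS (p := 2932) (l := 2) rfl N2932 D6192
theorem N5322 : nd 5322 = n6193 := ndS (p := 2932) (l := 3) rfl N2932 D6193
theorem N5323 : nd 5323 = n6194 := ndS (p := 2935) (l := 3) rfl N2935 D6194
theorem N5324 : nd 5324 = n6195 := ndS (p := 2937) (l := 1) rfl N2937 D6195
theorem N5325 : nd 5325 = n6196 := ndS (p := 2937) (l := 4) rfl N2937 D6196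
theorem N5326 : nd 5326 = n6197 := ndS (p := 2939) (l := 0) rfl N2939 D6197
theorem N5327 : nd 5327 = n6198 := ndS (p := 2939) (l := 2) rfl N2939 D6198
theorem N5328 : nd 5328 = n6199 := ndS (p := 2939) (l := 4) rfl N2939 D6199
theorem N5329 : nd 5329 = n6200 := ndS (p := 2941) (l := 2) rfl N2941 D6200
theorem N5330 : nd 5330 = n6201 := ndS (p := 2941) (l := 3) rfl N2941 D6201
theorem N5331 : nd 5331 = n6202 := ndS (p := 2942) (l := 1) rfl N2942 D6202
theorem N5332 : nd 5332 = n6203 := ndS (p := 2942) (l := 3) rfl N2942 D6203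
theorem N5333 : nd 5333 = n6204 := ndS (p := 2942) (l := 4) rfl N2942 D6204
theorem N5334 : nd 5334 = n6205 := ndS (p := 2943) (l := 0) rfl N2943 D6205
theorem N5335 : nd 5335 = n6206 := ndS (p := 2943) (l := 4) rfl N2943 D6206
theorem N5336 : nd 5336 = n6207 := ndS (p := 2944) (l := 3) rfl N2944 D6207
theorem N5337 : nd 5337 = n6208 := ndS (p := 2945) (l := 4) rfl N2945 D6208
theorem N5338 : nd 5338 = n6209 := ndS (p := 2946) (l := 1) rfl N2946 D6209
theorem N5339 : nd 5339 = n6210 := ndS (p := 2946) (l := 3) rfl N2946 D6210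
theorem N5340 : nd 5340 = n6211 := ndS (p := 2946) (l := 4) rfl N2946 D6211
theorem N5341 : nd 5341 = n6212 := ndS (p := 2947) (l := 4) rfl N2947 D6212
theorem N5342 : nd 5342 = n6213 := ndS (p := 2948) (l := 2) rfl N2948 D6213
theorem N5343 : nd 5343 = n6214 := ndS (p := 2948) (l := 3) rfl N2948 D6214
theorem N5344 : nd 5344 = n6215 := ndS (p := 2949) (l := 4) rfl N2949 D6215
theorem N5345 : nd 5345 = n6216 := ndS (p := 2951) (l := 1) rfl N2951 D6216
theorem N5346 : nd 5346 = n6217 := ndS (p := 2953) (l := 3) rfl N2953 D6217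
theorem N5347 : nd 5347 = n6218 := ndS (p := 2953) (l := 4) rfl N2953 D6218
theorem N5348 : nd 5348 = n6219 := ndS (p := 2954) (l := 2) rfl N2954 D6219
theorem N5349 : nd 5349 = n6220 := ndS (p := 2954) (l := 3) rfl N2954 D6220
theorem N5350 : nd 5350 = n6221 := ndS (p := 2955) (l := 3) rfl N2955 D6221
theorem N5351 : nd 5351 = n6222 := ndS (p := 2956) (l := 0) rfl N2956 D6222
theorem N5352 : nd 5352 = n6223 := ndS (p := 2956) (l := 4) rfl N2956 D6223
theorem N5353 : nd 5353 = n6224 := ndS (p := 2957) (l := 3) rfl N2957 D6224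
theorem N5354 : nd 5354 = n6225 := ndS (p := 2957) (l := 4) rfl N2957 D6225
theorem N5355 : nd 5355 = n6226 := ndS (p := 2958) (l := 3) rfl N2958 D6226
theorem N5356 : nd 5356 = n6227 := ndS (p := 2959) (l := 0) rfl N2959 D6227
theorem N5357 : nd 5357 = n6228 := ndS (p := 2959) (l := 4) rfl N2959 D6228
theorem N5358 : nd 5358 = n6229 := ndS (p := 2960) (l := 4) rfl N2960 D6229
theorem N5359 : nd 5359 = n6230 := ndS (p := 2961) (l := 2) rfl N2961 D6230
theorem N5360 : nd 5360 = n6231 := ndS (p := 2961) (l := 3) rfl N2961 D6231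
theorem N5361 : nd 5361 = n6232 := ndS (p := 2962) (l := 0) rfl N2962 D6232
theorem N5362 : nd 5362 = n6233 := ndS (p := 2962) (l := 1) rfl N2962 D6233
theorem N5363 : nd 5363 = n6234 := ndS (p := 2962) (l := 3) rfl N2962 D6234
theorem N5364 : nd 5364 = n6235 := ndS (p := 2963) (l := 4) rfl N2963 D6235
theorem N5365 : nd 5365 = n6236 := ndS (p := 2964) (l := 2) rfl N2964 D6236
theorem N5366 : nd 5366 = n6237 := ndS (p := 2964) (l := 3) rfl N2964 D6237
theorem N5367 : nd 5367 = n6238 := ndS (p := 2965) (l := 0) rfl N2965 D6238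
theorem N5368 : nd 5368 = n6239 := ndS (p := 2965) (l := 4) rfl N2965 D6239
theorem N5369 : nd 5369 = n6240 := ndS (p := 2966) (l := 1) rfl N2966 D6240
theorem N5370 : nd 5370 = n6241 := ndS (p := 2966) (l := 2) rfl N2966 D6241
theorem N5371 : nd 5371 = n6242 := ndS (p := 2966) (l := 4) rfl N2966 D6242
theorem N5372 : nd 5372 = n6244 := ndS (p := 2968) (l := 4) rfl N2968 D6244
theorem N5373 : nd 5373 = n6245 := ndS (p := 2969) (l := 2) rfl N2969 D6245
theorem N5374 : nd 5374 = n6246 := ndS (p := 2969) (l := 3) rfl N2969 D6246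
theorem N5375 : nd 5375 = n6247 := ndS (p := 2970) (l := 3) rfl N2970 D6247
theorem N5376 : nd 5376 = n6248 := ndS (p := 2971) (l := 2) rfl N2971 D6248
theorem N5377 : nd 5377 = n6249 := ndS (p := 2972) (l := 1) rfl N2972 D6249
theorem N5378 : nd 5378 = n6250 := ndS (p := 2972) (l := 3) rfl N2972 D6250
theorem N5379 : nd 5379 = n6251 := ndS (p := 2972) (l := 4) rfl N2972 D6251
theorem N5380 : nd 5380 = n6252 := ndS (p := 2973) (l := 4) rfl N2973 D6252
theorem N5381 : nd 5381 = n6253 := ndS (p := 2974) (l := 1) rfl N2974 D6253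
theorem N5382 : nd 5382 = n6254 := ndS (p := 2974) (l := 3) rfl N2974 D6254
theorem N5383 : nd 5383 = n6255 := ndS (p := 2974) (l := 4) rfl N2974 D6255
theorem N5384 : nd 5384 = n6256 := ndS (p := 2975) (l := 0) rfl N2975 D6256
theorem N5385 : nd 5385 = n6257 := ndS (p := 2975) (l := 2) rfl N2975 D6257
theorem N5386 : nd 5386 = n6258 := ndS (p := 2975) (l := 3) rfl N2975 D6258
theorem N5387 : nd 5387 = n6259 := ndS (p := 2975) (l := 4) rfl N2975 D6259
theorem N5388 : nd 5388 = n6260 := ndS (p := 2976) (l := 4) rfl N2976 D6260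
theorem N5389 : nd 5389 = n6261 := ndS (p := 2979) (l := 3) rfl N2979 D6261
theorem N5390 : nd 5390 = n6262 := ndS (p := 2980) (l := 0) rfl N2980 D6262
theorem N5391 : nd 5391 = n6263 := ndS (p := 2980) (l := 3) rfl N2980 D6263
theorem N5392 : nd 5392 = n6264 := ndS (p := 2980) (l := 4) rfl N2980 D6264
theorem N5393 : nd 5393 = n6265 := ndS (p := 2981) (l := 0) rfl N2981 D6265
theorem N5394 : nd 5394 = n6266 := ndS (p := 2981) (l := 4) rfl N2981 D6266
theorem N5395 : nd 5395 = n6267 := ndS (p := 2983) (l := 1) rfl N2983 D6267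
theorem N5396 : nd 5396 = n6268 := ndS (p := 2983) (l := 3) rfl N2983 D6268
theorem N5397 : nd 5397 = n6269 := ndS (p := 2983) (l := 4) rfl N2983 D6269
theorem N5398 : nd 5398 = n6270 := ndS (p := 2985) (l := 0) rfl N2985 D6270
theorem N5399 : nd 5399 = n6271 := ndS (p := 2985) (l := 2) rfl N2985 D6271
theorem N5400 : nd 5400 = n6272 := ndS (p := 2985) (l := 4) rfl N2985 D6272
theorem N5401 : nd 5401 = n6273 := ndS (p := 2986) (l := 1) rfl N2986 D6273
theorem N5402 : nd 5402 = n6274 := ndS (p := 2986) (l := 4) rfl N2986 D6274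
theorem N5403 : nd 5403 = n6275 := ndS (p := 2987) (l := 2) rfl N2987 D6275
theorem N5404 : nd 5404 = n6276 := ndS (p := 2988) (l := 4) rfl N2988 D6276
theorem N5405 : nd 5405 = n6277 := ndS (p := 2989) (l := 2) rfl N2989 D6277
theorem N5406 : nd 5406 = n6278 := ndS (p := 2989) (l := 3) rfl N2989 D6278
theorem N5407 : nd 5407 = n6279 := ndS (p := 2990) (l := 3) rfl N2990 D6279
theorem N5408 : nd 5408 = n6280 := ndS (p := 2990) (l := 4) rfl N2990 D6280
theorem N5409 : nd 5409 = n6281 := ndS (p := 2992) (l := 2) rfl N2992 D6281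
theorem N5410 : nd 5410 = n6282 := ndS (p := 2992) (l := 3) rfl N2992 D6282
theorem N5411 : nd 5411 = n6283 := ndS (p := 2992) (l := 4) rfl N2992 D6283
theorem N5412 : nd 5412 = n6284 := ndS (p := 2993) (l := 2) rfl N2993 D6284
theorem N5413 : nd 5413 = n6285 := ndS (p := 2993) (l := 3) rfl N2993 D6285
theorem N5414 : nd 5414 = n6286 := ndS (p := 2995) (l := 4) rfl N2995 D6286
theorem N5415 : nd 5415 = n6287 := ndS (p := 2996) (l := 1) rfl N2996 D6287
theorem N5416 : nd 5416 = n6288 := ndS (p := 2996) (l := 4) rfl N2996 D6288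
theorem N5417 : nd 5417 = n6289 := ndS (p := 2997) (l := 1) rfl N2997 D6289
theorem N5418 : nd 5418 = n6290 := ndS (p := 2998) (l := 0) rfl N2998 D6290
theorem N5419 : nd 5419 = n6291 := ndS (p := 2998) (l := 2) rfl N2998 D6291
theorem N5420 : nd 5420 = n6292 := ndS (p := 2998) (l := 3) rfl N2998 D6292
theorem N5421 : nd 5421 = n6293 := ndS (p := 2998) (l := 4) rfl N2998 D6293
theorem N5422 : nd 5422 = n6294 := ndS (p := 2999) (l := 4) rfl N2999 D6294
theorem N5423 : nd 5423 = n6295 := ndS (p := 3002) (l := 0) rfl N3002 D6295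
theorem N5424 : nd 5424 = n6296 := ndS (p := 3002) (l := 2) rfl N3002 D6296
theorem N5425 : nd 5425 = n6297 := ndS (p := 3002) (l := 3) rfl N3002 D6297
theorem N5426 : nd 5426 = n6298 := ndS (p := 3002) (l := 4) rfl N3002 D6298
theorem N5427 : nd 5427 = n6299 := ndS (p := 3003) (l := 4) rfl N3003 D6299
theorem N5428 : nd 5428 = n6300 := ndS (p := 3004) (l := 3) rfl N3004 D6300
theorem N5429 : nd 5429 = n6301 := ndS (p := 3005) (l := 1) rfl N3005 D6301
theorem N5430 : nd 5430 = n6302 := ndS (p := 3005) (l := 3) rfl N3005 D6302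
theorem N5431 : nd 5431 = n6303 := ndS (p := 3005) (l := 4) rfl N3005 D6303
theorem N5432 : nd 5432 = n6304 := ndS (p := 3006) (l := 0) rfl N3006 D6304
theorem N5433 : nd 5433 = n6305 := ndS (p := 3006) (l := 3) rfl N3006 D6305
theorem N5434 : nd 5434 = n6306 := ndS (p := 3006) (l := 4) rfl N3006 D6306
theorem N5435 : nd 5435 = n6307 := ndS (p := 3007) (l := 0) rfl N3007 D6307
theorem N5436 : nd 5436 = n6308 := ndS (p := 3007) (l := 4) rfl N3007 D6308
theorem N5437 : nd 5437 = n6309 := ndS (p := 3009) (l := 1) rfl N3009 D6309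
theorem N5438 : nd 5438 = n6310 := ndS (p := 3009) (l := 4) rfl N3009 D6310
theorem N5439 : nd 5439 = n6311 := ndS (p := 3011) (l := 3) rfl N3011 D6311
theorem N5440 : nd 5440 = n6312 := ndS (p := 3011) (l := 4) rfl N3011 D6312
theorem N5441 : nd 5441 = n6313 := ndS (p := 3012) (l := 4) rfl N3012 D6313
theorem N5442 : nd 5442 = n6314 := ndS (p := 3015) (l := 0) rfl N3015 D6314
theorem N5443 : nd 5443 = n6315 := ndS (p := 3016) (l := 3) rfl N3016 D6315
theorem N5444 : nd 5444 = n6316 := ndS (p := 3017) (l := 0) rfl N3017 D6316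
theorem N5445 : nd 5445 = n6317 := ndS (p := 3017) (l := 4) rfl N3017 D6317
theorem N5446 : nd 5446 = n6319 := ndS (p := 3019) (l := 1) rfl N3019 D6319
theorem N5447 : nd 5447 = n6320 := ndS (p := 3019) (l := 3) rfl N3019 D6320
theorem N5448 : nd 5448 = n6321 := ndS (p := 3019) (l := 4) rfl N3019 D6321
theorem N5449 : nd 5449 = n6322 := ndS (p := 3020) (l := 2) rfl N3020 D6322
theorem N5450 : nd 5450 = n6323 := ndS (p := 3021) (l := 0) rfl N3021 D6323
theorem N5451 : nd 5451 = n6324 := ndS (p := 3021) (l := 2) rfl N3021 D6324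
theorem N5452 : nd 5452 = n6325 := ndS (p := 3021) (l := 3) rfl N3021 D6325
theorem N5453 : nd 5453 = n6326 := ndS (p := 3021) (l := 4) rfl N3021 D6326
theorem N5454 : nd 5454 = n6327 := ndS (p := 3025) (l := 2) rfl N3025 D6327
theorem N5455 : nd 5455 = n6328 := ndS (p := 3025) (l := 4) rfl N3025 D6328
theorem N5456 : nd 5456 = n6329 := ndS (p := 3026) (l := 4) rfl N3026 D6329
theorem N5457 : nd 5457 = n6330 := ndS (p := 3028) (l := 0) rfl N3028 D6330
theorem N5458 : nd 5458 = n6331 := ndS (p := 3028) (l := 2) rfl N3028 D6331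
theorem N5459 : nd 5459 = n6332 := ndS (p := 3028) (l := 4) rfl N3028 D6332
theorem N5460 : nd 5460 = n6333 := ndS (p := 3030) (l := 1) rfl N3030 D6333
theorem N5461 : nd 5461 = n6334 := ndS (p := 3031) (l := 2) rfl N3031 D6334
theorem N5462 : nd 5462 = n6335 := ndS (p := 3031) (l := 3) rfl N3031 D6335
theorem N5463 : nd 5463 = n6336 := ndS (p := 3032) (l := 4) rfl N3032 D6336
theorem N5464 : nd 5464 = n6337 := ndS (p := 3033) (l := 2) rfl N3033 D6337
theorem N5465 : nd 5465 = n6338 := ndS (p := 3033) (l := 3) rfl N3033 D6338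
theorem N5466 : nd 5466 = n6339 := ndS (p := 3034) (l := 0) rfl N3034 D6339
theorem N5467 : nd 5467 = n6340 := ndS (p := 3034) (l := 1) rfl N3034 D6340
theorem N5468 : nd 5468 = n6341 := ndS (p := 3034) (l := 3) rfl N3034 D6341
theorem N5469 : nd 5469 = n6342 := ndS (p := 3034) (l := 4) rfl N3034 D6342
theorem N5470 : nd 5470 = n6343 := ndS (p := 3035) (l := 4) rfl N3035 D6343
theorem N5471 : nd 5471 = n6344 := ndS (p := 3036) (l := 3) rfl N3036 D6344
theorem N5472 : nd 5472 = n6345 := ndS (p := 3037) (l := 3) rfl N3037 D6345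
theorem N5473 : nd 5473 = n6346 := ndS (p := 3038) (l := 0) rfl N3038 D6346
theorem N5474 : nd 5474 = n6347 := ndS (p := 3038) (l := 4) rfl N3038 D6347
theorem N5475 : nd 5475 = n6348 := ndS (p := 3040) (l := 2) rfl N3040 D6348
theorem N5476 : nd 5476 = n6349 := ndS (p := 3040) (l := 4) rfl N3040 D6349
theorem N5477 : nd 5477 = n6350 := ndS (p := 3042) (l := 4) rfl N3042 D6350
theorem N5478 : nd 5478 = n6351 := ndS (p := 3044) (l := 0) rfl N3044 D6351
theorem N5479 : nd 5479 = n6352 := ndS (p := 3044) (l := 3) rfl N3044 D6352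
theorem N5480 : nd 5480 = n6353 := ndS (p := 3045) (l := 4) rfl N3045 D6353
theorem N5481 : nd 5481 = n6354 := ndS (p := 3048) (l := 3) rfl N3048 D6354
theorem N5482 : nd 5482 = n6355 := ndS (p := 3049) (l := 0) rfl N3049 D6355
theorem N5483 : nd 5483 = n6356 := ndS (p := 3049) (l := 4) rfl N3049 D6356
theorem N5484 : nd 5484 = n6357 := ndS (p := 3051) (l := 0) rfl N3051 D6357
theorem N5485 : nd 5485 = n6358 := ndS (p := 3051) (l := 2) rfl N3051 D6358
theorem N5486 : nd 5486 = n6359 := ndS (p := 3052) (l := 0) rfl N3052 D6359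
theorem N5487 : nd 5487 = n6360 := ndS (p := 3052) (l := 4) rfl N3052 D6360
theorem N5488 : nd 5488 = n6361 := ndS (p := 3053) (l := 2) rfl N3053 D6361
theorem N5489 : nd 5489 = n6362 := ndS (p := 3053) (l := 3) rfl N3053 D6362
theorem N5490 : nd 5490 = n6363 := ndS (p := 3054) (l := 4) rfl N3054 D6363
theorem N5491 : nd 5491 = n6364 := ndS (p := 3055) (l := 0) rfl N3055 D6364
theorem N5492 : nd 5492 = n6365 := ndS (p := 3055) (l := 4) rfl N3055 D6365
theorem N5493 : nd 5493 = n6366 := ndS (p := 3056) (l := 3) rfl N3056 D6366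
theorem N5494 : nd 5494 = n6367 := ndS (p := 3057) (l := 2) rfl N3057 D6367
theorem N5495 : nd 5495 = n6368 := ndS (p := 3058) (l := 0) rfl N3058 D6368
theorem N5496 : nd 5496 = n6369 := ndS (p := 3058) (l := 1) rfl N3058 D6369
theorem N5497 : nd 5497 = n6370 := ndS (p := 3058) (l := 3) rfl N3058 D6370
theorem N5498 : nd 5498 = n6371 := ndS (p := 3058) (l := 4) rfl N3058 D6371
theorem N5499 : nd 5499 = n6372 := ndS (p := 3059) (l := 0) rfl N3059 D6372
theorem N5500 : nd 5500 = n6373 := ndS (p := 3059) (l := 4) rfl N3059 D6373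
theorem N5501 : nd 5501 = n6374 := ndS (p := 3060) (l := 3) rfl N3060 D6374
theorem N5502 : nd 5502 = n6375 := ndS (p := 3060) (l := 4) rfl N3060 D6375
theorem N5503 : nd 5503 = n6376 := ndS (p := 3061) (l := 0) rfl N3061 D6376
theorem N5504 : nd 5504 = n6377 := ndS (p := 3061) (l := 4) rfl N3061 D6377
theorem N5505 : nd 5505 = n6378 := ndS (p := 3062) (l := 3) rfl N3062 D6378
theorem N5506 : nd 5506 = n6379 := ndS (p := 3064) (l := 4) rfl N3064 D6379
theorem N5507 : nd 5507 = n6380 := ndS (p := 3065) (l := 1) rfl N3065 D6380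
theorem N5508 : nd 5508 = n6381 := ndS (p := 3065) (l := 4) rfl N3065 D6381
theorem N5509 : nd 5509 = n6382 := ndS (p := 3066) (l := 0) rfl N3066 D6382
theorem N5510 : nd 5510 = n6383 := ndS (p := 3066) (l := 3) rfl N3066 D6383
theorem N5511 : nd 5511 = n6384 := ndS (p := 3066) (l := 4) rfl N3066 D6384
theorem N5512 : nd 5512 = n6385 := ndS (p := 3067) (l := 4) rfl N3067 D6385
theorem N5513 : nd 5513 = n6386 := ndS (p := 3070) (l := 0) rfl N3070 D6386
theorem N5514 : nd 5514 = n6387 := ndS (p := 3070) (l := 2) rfl N3070 D6387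
theorem N5515 : nd 5515 = n6388 := ndS (p := 3070) (l := 3) rfl N3070 D6388
theorem N5516 : nd 5516 = n6389 := ndS (p := 3070) (l := 4) rfl N3070 D6389
theorem N5517 : nd 5517 = n6390 := ndS (p := 3071) (l := 4) rfl N3071 D6390
theorem N5518 : nd 5518 = n6391 := ndS (p := 3072) (l := 3) rfl N3072 D6391
theorem N5519 : nd 5519 = n6392 := ndS (p := 3073) (l := 2) rfl N3073 D6392
theorem N5520 : nd 5520 = n6393 := ndS (p := 3073) (l := 3) rfl N3073 D6393
theorem N5521 : nd 5521 = n6394 := ndS (p := 3074) (l := 0) rfl N3074 D6394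
theorem N5522 : nd 5522 = n6395 := ndS (p := 3074) (l := 3) rfl N3074 D6395
theorem N5523 : nd 5523 = n6396 := ndS (p := 3075) (l := 0) rfl N3075 D6396
theorem N5524 : nd 5524 = n6397 := ndS (p := 3077) (l := 3) rfl N3077 D6397
theorem N5525 : nd 5525 = n6398 := ndS (p := 3079) (l := 0) rfl N3079 D6398
theorem N5526 : nd 5526 = n6399 := ndS (p := 3080) (l := 2) rfl N3080 D6399
theorem N5527 : nd 5527 = n6400 := ndS (p := 3080) (l := 3) rfl N3080 D6400
theorem N5528 : nd 5528 = n6401 := ndS (p := 3081) (l := 0) rfl N3081 D6401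
theorem N5529 : nd 5529 = n6402 := ndS (p := 3081) (l := 2) rfl N3081 D6402
theorem N5530 : nd 5530 = n6403 := ndS (p := 3081) (l := 3) rfl N3081 D6403
theorem N5531 : nd 5531 = n6404 := ndS (p := 3081) (l := 4) rfl N3081 D6404
theorem N5532 : nd 5532 = n6405 := ndS (p := 3084) (l := 2) rfl N3084 D6405
theorem N5533 : nd 5533 = n6406 := ndS (p := 3084) (l := 4) rfl N3084 D6406
theorem N5534 : nd 5534 = n6407 := ndS (p := 3085) (l := 0) rfl N3085 D6407
theorem N5535 : nd 5535 = n6408 := ndS (p := 3085) (l := 1) rfl N3085 D6408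
theorem N5536 : nd 5536 = n6409 := ndS (p := 3085) (l := 4) rfl N3085 D6409
theorem N5537 : nd 5537 = n6410 := ndS (p := 3086) (l := 2) rfl N3086 D6410
theorem N5538 : nd 5538 = n6411 := ndS (p := 3087) (l := 0) rfl N3087 D6411
theorem N5539 : nd 5539 = n6413 := ndS (p := 3087) (l := 4) rfl N3087 D6413
theorem N5540 : nd 5540 = n6414 := ndS (p := 3089) (l := 1) rfl N3089 D6414
theorem N5541 : nd 5541 = n6415 := ndS (p := 3090) (l := 4) rfl N3090 D6415
theorem N5542 : nd 5542 = n6416 := ndS (p := 3091) (l := 3) rfl N3091 D6416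
theorem N5543 : nd 5543 = n6417 := ndS (p := 3092) (l := 2) rfl N3092 D6417
theorem N5544 : nd 5544 = n6418 := ndS (p := 3093) (l := 3) rfl N3093 D6418
theorem N5545 : nd 5545 = n6419 := ndS (p := 3094) (l := 4) rfl N3094 D6419
theorem N5546 : nd 5546 = n6420 := ndS (p := 3096) (l := 4) rfl N3096 D6420
theorem N5547 : nd 5547 = n6421 := ndS (p := 3098) (l := 2) rfl N3098 D6421
theorem N5548 : nd 5548 = n6422 := ndS (p := 3101) (l := 2) rfl N3101 D6422
theorem N5549 : nd 5549 = n6423 := ndS (p := 3101) (l := 3) rfl N3101 D6423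
theorem N5550 : nd 5550 = n6424 := ndS (p := 3102) (l := 0) rfl N3102 D6424
theorem N5551 : nd 5551 = n6425 := ndS (p := 3102) (l := 4) rfl N3102 D6425
theorem N5552 : nd 5552 = n6426 := ndS (p := 3103) (l := 3) rfl N3103 D6426
theorem N5553 : nd 5553 = n6427 := ndS (p := 3104) (l := 4) rfl N3104 D6427
theorem N5554 : nd 5554 = n6428 := ndS (p := 3105) (l := 2) rfl N3105 D6428
theorem N5555 : nd 5555 = n6429 := ndS (p := 3106) (l := 1) rfl N3106 D6429
theorem N5556 : nd 5556 = n6430 := ndS (p := 3106) (l := 3) rfl N3106 D6430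
theorem N5557 : nd 5557 = n6431 := ndS (p := 3107) (l := 0) rfl N3107 D6431
theorem N5558 : nd 5558 = n6432 := ndS (p := 3107) (l := 4) rfl N3107 D6432
theorem N5559 : nd 5559 = n6433 := ndS (p := 3109) (l := 0) rfl N3109 D6433
theorem N5560 : nd 5560 = n6434 := ndS (p := 3109) (l := 2) rfl N3109 D6434
theorem N5561 : nd 5561 = n6435 := ndS (p := 3109) (l := 4) rfl N3109 D6435
theorem N5562 : nd 5562 = n6436 := ndS (p := 3111) (l := 2) rfl N3111 D6436
theorem N5563 : nd 5563 = n6437 := ndS (p := 3112) (l := 1) rfl N3112 D6437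
theorem N5564 : nd 5564 = n6438 := ndS (p := 3112) (l := 2) rfl N3112 D6438
theorem N5565 : nd 5565 = n6439 := ndS (p := 3112) (l := 4) rfl N3112 D6439
theorem N5566 : nd 5566 = n6440 := ndS (p := 3113) (l := 0) rfl N3113 D6440
theorem N5567 : nd 5567 = n6441 := ndS (p := 3113) (l := 3) rfl N3113 D6441
theorem N5568 : nd 5568 = n6442 := ndS (p := 3113) (l := 4) rfl N3113 D6442
theorem N5569 : nd 5569 = n6443 := ndS (p := 3114) (l := 0) rfl N3114 D6443
theorem N5570 : nd 5570 = n6444 := ndS (p := 3114) (l := 4) rfl N3114 D6444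
theorem N5571 : nd 5571 = n6445 := ndS (p := 3115) (l := 2) rfl N3115 D6445
theorem N5572 : nd 5572 = n6446 := ndS (p := 3117) (l := 1) rfl N3117 D6446
theorem N5573 : nd 5573 = n6447 := ndS (p := 3117) (l := 3) rfl N3117 D6447
theorem N5574 : nd 5574 = n6448 := ndS (p := 3117) (l := 4) rfl N3117 D6448
theorem N5575 : nd 5575 = n6449 := ndS (p := 3118) (l := 0) rfl N3118 D6449
theorem N5576 : nd 5576 = n6450 := ndS (p := 3118) (l := 1) rfl N3118 D6450
theorem N5577 : nd 5577 = n6451 := ndS (p := 3118) (l := 3) rfl N3118 D6451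
theorem N5578 : nd 5578 = n6452 := ndS (p := 3119) (l := 0) rfl N3119 D6452
theorem N5579 : nd 5579 = n6453 := ndS (p := 3119) (l := 4) rfl N3119 D6453
theorem N5580 : nd 5580 = n6454 := ndS (p := 3120) (l := 2) rfl N3120 D6454
theorem N5581 : nd 5581 = n6455 := ndS (p := 3120) (l := 3) rfl N3120 D6455
theorem N5582 : nd 5582 = n6456 := ndS (p := 3123) (l := 2) rfl N3123 D6456
theorem N5583 : nd 5583 = n6457 := ndS (p := 3125) (l := 1) rfl N3125 D6457
theorem N5584 : nd 5584 = n6458 := ndS (p := 3125) (l := 3) rfl N3125 D6458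
theorem N5585 : nd 5585 = n6459 := ndS (p := 3126) (l := 0) rfl N3126 D6459
theorem N5586 : nd 5586 = n6460 := ndS (p := 3127) (l := 1) rfl N3127 D6460
theorem N5587 : nd 5587 = n6461 := ndS (p := 3128) (l := 0) rfl N3128 D6461
theorem N5588 : nd 5588 = n6462 := ndS (p := 3128) (l := 2) rfl N3128 D6462
theorem N5589 : nd 5589 = n6463 := ndS (p := 3128) (l := 4) rfl N3128 D6463
theorem N5590 : nd 5590 = n6464 := ndS (p := 3130) (l := 0) rfl N3130 D6464
theorem N5591 : nd 5591 = n6465 := ndS (p := 3131) (l := 0) rfl N3131 D6465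
theorem N5592 : nd 5592 = n6466 := ndS (p := 3131) (l := 4) rfl N3131 D6466
theorem N5593 : nd 5593 = n6467 := ndS (p := 3133) (l := 2) rfl N3133 D6467
theorem N5594 : nd 5594 = n6468 := ndS (p := 3135) (l := 0) rfl N3135 D6468
theorem N5595 : nd 5595 = n6469 := ndS (p := 3135) (l := 4) rfl N3135 D6469
theorem N5596 : nd 5596 = n6470 := ndS (p := 3136) (l := 2) rfl N3136 D6470
theorem N5597 : nd 5597 = n6471 := ndS (p := 3138) (l := 3) rfl N3138 D6471
theorem N5598 : nd 5598 = n6472 := ndS (p := 3140) (l := 1) rfl N3140 D6472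
theorem N5599 : nd 5599 = n6473 := ndS (p := 3140) (l := 3) rfl N3140 D6473
theorem N5600 : nd 5600 = n6474 := ndS (p := 3141) (l := 0) rfl N3141 D6474
theorem N5601 : nd 5601 = n6475 := ndS (p := 3141) (l := 2) rfl N3141 D6475
theorem N5602 : nd 5602 = n6476 := ndS (p := 3141) (l := 3) rfl N3141 D6476
theorem N5603 : nd 5603 = n6477 := ndS (p := 3143) (l := 3) rfl N3143 D6477
theorem N5604 : nd 5604 = n6478 := ndS (p := 3143) (l := 4) rfl N3143 D6478
theorem N5605 : nd 5605 = n6479 := ndS (p := 3144) (l := 0) rfl N3144 D6479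
theorem N5606 : nd 5606 = n6480 := ndS (p := 3144) (l := 1) rfl N3144 D6480
theorem N5607 : nd 5607 = n6481 := ndS (p := 3144) (l := 3) rfl N3144 D6481
theorem N5608 : nd 5608 = n6482 := ndS (p := 3145) (l := 0) rfl N3145 D6482
theorem N5609 : nd 5609 = n6483 := ndS (p := 3146) (l := 2) rfl N3146 D6483
theorem N5610 : nd 5610 = n6484 := ndS (p := 3147) (l := 0) rfl N3147 D6484
theorem N5611 : nd 5611 = n6485 := ndS (p := 3149) (l := 2) rfl N3149 D6485
theorem N5612 : nd 5612 = n6486 := ndS (p := 3150) (l := 2) rfl N3150 D6486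
theorem N5613 : nd 5613 = n6487 := ndS (p := 3152) (l := 1) rfl N3152 D6487
theorem N5614 : nd 5614 = n6488 := ndS (p := 3152) (l := 2) rfl N3152 D6488
theorem N5615 : nd 5615 = n6489 := ndS (p := 3152) (l := 4) rfl N3152 D6489
theorem N5616 : nd 5616 = n6490 := ndS (p := 3153) (l := 0) rfl N3153 D6490
theorem N5617 : nd 5617 = n6491 := ndS (p := 3153) (l := 4) rfl N3153 D6491
theorem N5618 : nd 5618 = n6492 := ndS (p := 3154) (l := 2) rfl N3154 D6492
theorem N5619 : nd 5619 = n6493 := ndS (p := 3155) (l := 0) rfl N3155 D6493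
theorem N5620 : nd 5620 = n6494 := ndS (p := 3155) (l := 2) rfl N3155 D6494
theorem N5621 : nd 5621 = n6495 := ndS (p := 3156) (l := 3) rfl N3156 D6495
theorem N5622 : nd 5622 = n6496 := ndS (p := 3156) (l := 4) rfl N3156 D6496
theorem N5623 : nd 5623 = n6497 := ndS (p := 3157) (l := 4) rfl N3157 D6497
theorem N5624 : nd 5624 = n6498 := ndS (p := 3158) (l := 2) rfl N3158 D6498
theorem N5625 : nd 5625 = n6499 := ndS (p := 3158) (l := 3) rfl N3158 D6499
theorem N5626 : nd 5626 = n6500 := ndS (p := 3160) (l := 1) rfl N3160 D6500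
theorem N5627 : nd 5627 = n6501 := ndS (p := 3160) (l := 4) rfl N3160 D6501
theorem N5628 : nd 5628 = n6502 := ndS (p := 3161) (l := 1) rfl N3161 D6502
theorem N5629 : nd 5629 = n6503 := ndS (p := 3161) (l := 4) rfl N3161 D6503
theorem N5630 : nd 5630 = n6504 := ndS (p := 3162) (l := 2) rfl N3162 D6504
theorem N5631 : nd 5631 = n6505 := ndS (p := 3163) (l := 1) rfl N3163 D6505
theorem N5632 : nd 5632 = n6506 := ndS (p := 3163) (l := 4) rfl N3163 D6506
theorem N5633 : nd 5633 = n6507 := ndS (p := 3164) (l := 1) rfl N3164 D6507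
theorem N5634 : nd 5634 = n6508 := ndS (p := 3164) (l := 3) rfl N3164 D6508
theorem N5635 : nd 5635 = n6509 := ndS (p := 3164) (l := 4) rfl N3164 D6509
theorem N5636 : nd 5636 = n6510 := ndS (p := 3165) (l := 0) rfl N3165 D6510
theorem N5637 : nd 5637 = n6511 := ndS (p := 3165) (l := 2) rfl N3165 D6511
theorem N5638 : nd 5638 = n6512 := ndS (p := 3165) (l := 3) rfl N3165 D6512
theorem N5639 : nd 5639 = n6513 := ndS (p := 3165) (l := 4) rfl N3165 D6513
theorem N5640 : nd 5640 = n6514 := ndS (p := 3166) (l := 0) rfl N3166 D6514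
theorem N5641 : nd 5641 = n6515 := ndS (p := 3166) (l := 4) rfl N3166 D6515
theorem N5642 : nd 5642 = n6517 := ndS (p := 3168) (l := 2) rfl N3168 D6517
theorem N5643 : nd 5643 = n6518 := ndS (p := 3168) (l := 4) rfl N3168 D6518
theorem N5644 : nd 5644 = n6520 := ndS (p := 3171) (l := 3) rfl N3171 D6520
theorem N5645 : nd 5645 = n6521 := ndS (p := 3172) (l := 3) rfl N3172 D6521
theorem N5646 : nd 5646 = n6522 := ndS (p := 3173) (l := 1) rfl N3173 D6522
theorem N5647 : nd 5647 = n6523 := ndS (p := 3173) (l := 4) rfl N3173 D6523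
theorem N5648 : nd 5648 = n6524 := ndS (p := 3174) (l := 0) rfl N3174 D6524
theorem N5649 : nd 5649 = n6525 := ndS (p := 3174) (l := 4) rfl N3174 D6525
theorem N5650 : nd 5650 = n6526 := ndS (p := 3176) (l := 2) rfl N3176 D6526
theorem N5651 : nd 5651 = n6527 := ndS (p := 3177) (l := 3) rfl N3177 D6527
theorem N5652 : nd 5652 = n6528 := ndS (p := 3178) (l := 1) rfl N3178 D6528
theorem N5653 : nd 5653 = n6529 := ndS (p := 3178) (l := 4) rfl N3178 D6529
theorem N5654 : nd 5654 = n6530 := ndS (p := 3179) (l := 4) rfl N3179 D6530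
theorem N5655 : nd 5655 = n6531 := ndS (p := 3180) (l := 4) rfl N3180 D6531
theorem N5656 : nd 5656 = n6532 := ndS (p := 3181) (l := 4) rfl N3181 D6532
theorem N5657 : nd 5657 = n6533 := ndS (p := 3182) (l := 4) rfl N3182 D6533
theorem N5658 : nd 5658 = n6534 := ndS (p := 3183) (l := 2) rfl N3183 D6534
theorem N5659 : nd 5659 = n6535 := ndS (p := 3183) (l := 3) rfl N3183 D6535
theorem N5660 : nd 5660 = n6536 := ndS (p := 3184) (l := 0) rfl N3184 D6536
theorem N5661 : nd 5661 = n6537 := ndS (p := 3184) (l := 1) rfl N3184 D6537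
theorem N5662 : nd 5662 = n6538 := ndS (p := 3184) (l := 3) rfl N3184 D6538
theorem N5663 : nd 5663 = n6539 := ndS (p := 3184) (l := 4) rfl N3184 D6539
theorem N5664 : nd 5664 = n6540 := ndS (p := 3186) (l := 2) rfl N3186 D6540
theorem N5665 : nd 5665 = n6541 := ndS (p := 3186) (l := 3) rfl N3186 D6541
theorem N5666 : nd 5666 = n6542 := ndS (p := 3187) (l := 0) rfl N3187 D6542
theorem N5667 : nd 5667 = n6543 := ndS (p := 3187) (l := 4) rfl N3187 D6543
theorem N5668 : nd 5668 = n6544 := ndS (p := 3189) (l := 1) rfl N3189 D6544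
theorem N5669 : nd 5669 = n6545 := ndS (p := 3189) (l := 2) rfl N3189 D6545
theorem N5670 : nd 5670 = n6546 := ndS (p := 3189) (l := 4) rfl N3189 D6546
theorem N5671 : nd 5671 = n6547 := ndS (p := 3192) (l := 0) rfl N3192 D6547
theorem N5672 : nd 5672 = n6548 := ndS (p := 3192) (l := 1) rfl N3192 D6548
theorem N5673 : nd 5673 = n6549 := ndS (p := 3192) (l := 4) rfl N3192 D6549
theorem N5674 : nd 5674 = n6550 := ndS (p := 3193) (l := 1) rfl N3193 D6550
theorem N5675 : nd 5675 = n6551 := ndS (p := 3193) (l := 3) rfl N3193 D6551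
theorem N5676 : nd 5676 = n6552 := ndS (p := 3193) (l := 4) rfl N3193 D6552
theorem N5677 : nd 5677 = n6553 := ndS (p := 3194) (l := 2) rfl N3194 D6553
theorem N5678 : nd 5678 = n6554 := ndS (p := 3194) (l := 4) rfl N3194 D6554
theorem N5679 : nd 5679 = n6555 := ndS (p := 3196) (l := 0) rfl N3196 D6555
theorem N5680 : nd 5680 = n6556 := ndS (p := 3196) (l := 2) rfl N3196 D6556
theorem N5681 : nd 5681 = n6557 := ndS (p := 3196) (l := 3) rfl N3196 D6557
theorem N5682 : nd 5682 = n6558 := ndS (p := 3196) (l := 4) rfl N3196 D6558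
theorem N5683 : nd 5683 = n6559 := ndS (p := 3197) (l := 4) rfl N3197 D6559
theorem N5684 : nd 5684 = n6560 := ndS (p := 3198) (l := 3) rfl N3198 D6560
theorem N5685 : nd 5685 = n6561 := ndS (p := 3199) (l := 4) rfl N3199 D6561
theorem N5686 : nd 5686 = n6562 := ndS (p := 3200) (l := 0) rfl N3200 D6562
theorem N5687 : nd 5687 = n6563 := ndS (p := 3200) (l := 3) rfl N3200 D6563
theorem N5688 : nd 5688 = n6564 := ndS (p := 3200) (l := 4) rfl N3200 D6564
theorem N5689 : nd 5689 = n6565 := ndS (p := 3201) (l := 0) rfl N3201 D6565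
theorem N5690 : nd 5690 = n6566 := ndS (p := 3201) (l := 4) rfl N3201 D6566
theorem N5691 : nd 5691 = n6567 := ndS (p := 3202) (l := 2) rfl N3202 D6567
theorem N5692 : nd 5692 = n6568 := ndS (p := 3203) (l := 1) rfl N3203 D6568
theorem N5693 : nd 5693 = n6569 := ndS (p := 3203) (l := 2) rfl N3203 D6569
theorem N5694 : nd 5694 = n6570 := ndS (p := 3203) (l := 3) rfl N3203 D6570
theorem N5695 : nd 5695 = n6571 := ndS (p := 3203) (l := 4) rfl N3203 D6571
theorem N5696 : nd 5696 = n6572 := ndS (p := 3205) (l := 1) rfl N3205 D6572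
theorem N5697 : nd 5697 = n6573 := ndS (p := 3205) (l := 4) rfl N3205 D6573
theorem N5698 : nd 5698 = n6574 := ndS (p := 3206) (l := 2) rfl N3206 D6574
theorem N5699 : nd 5699 = n6575 := ndS (p := 3208) (l := 2) rfl N3208 D6575
theorem N5700 : nd 5700 = n6576 := ndS (p := 3209) (l := 4) rfl N3209 D6576
theorem N5701 : nd 5701 = n6577 := ndS (p := 3210) (l := 2) rfl N3210 D6577
theorem N5702 : nd 5702 = n6578 := ndS (p := 3211) (l := 3) rfl N3211 D6578
theorem N5703 : nd 5703 = n6579 := ndS (p := 3211) (l := 4) rfl N3211 D6579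
theorem N5704 : nd 5704 = n6580 := ndS (p := 3212) (l := 0) rfl N3212 D6580
theorem N5705 : nd 5705 = n6581 := ndS (p := 3212) (l := 4) rfl N3212 D6581
theorem N5706 : nd 5706 = n6582 := ndS (p := 3213) (l := 1) rfl N3213 D6582
theorem N5707 : nd 5707 = n6583 := ndS (p := 3213) (l := 4) rfl N3213 D6583
theorem N5708 : nd 5708 = n6584 := ndS (p := 3214) (l := 2) rfl N3214 D6584
theorem N5709 : nd 5709 = n6585 := ndS (p := 3214) (l := 3) rfl N3214 D6585
theorem N5710 : nd 5710 = n6586 := ndS (p := 3215) (l := 1) rfl N3215 D6586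
theorem N5711 : nd 5711 = n6587 := ndS (p := 3215) (l := 3) rfl N3215 D6587
theorem N5712 : nd 5712 = n6588 := ndS (p := 3215) (l := 4) rfl N3215 D6588
theorem N5713 : nd 5713 = n6589 := ndS (p := 3216) (l := 0) rfl N3216 D6589
theorem N5714 : nd 5714 = n6590 := ndS (p := 3216) (l := 4) rfl N3216 D6590
theorem N5715 : nd 5715 = n6591 := ndS (p := 3217) (l := 4) rfl N3217 D6591
theorem N5716 : nd 5716 = n6592 := ndS (p := 3218) (l := 2) rfl N3218 D6592
theorem N5717 : nd 5717 = n6593 := ndS (p := 3219) (l := 0) rfl N3219 D6593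
theorem N5718 : nd 5718 = n6594 := ndS (p := 3219) (l := 4) rfl N3219 D6594
theorem N5719 : nd 5719 = n6595 := ndS (p := 3220) (l := 3) rfl N3220 D6595
theorem N5720 : nd 5720 = n6596 := ndS (p := 3221) (l := 0) rfl N3221 D6596
theorem N5721 : nd 5721 = n6597 := ndS (p := 3221) (l := 4) rfl N3221 D6597
theorem N5722 : nd 5722 = n6598 := ndS (p := 3223) (l := 2) rfl N3223 D6598
theorem N5723 : nd 5723 = n6599 := ndS (p := 3223) (l := 4) rfl N3223 D6599
theorem N5724 : nd 5724 = n6600 := ndS (p := 3225) (l := 1) rfl N3225 D6600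
theorem N5725 : nd 5725 = n6601 := ndS (p := 3225) (l := 2) rfl N3225 D6601
theorem N5726 : nd 5726 = n6602 := ndS (p := 3225) (l := 3) rfl N3225 D6602
theorem N5727 : nd 5727 = n6603 := ndS (p := 3225) (l := 4) rfl N3225 D6603
theorem N5728 : nd 5728 = n6604 := ndS (p := 3226) (l := 0) rfl N3226 D6604
theorem N5729 : nd 5729 = n6605 := ndS (p := 3226) (l := 4) rfl N3226 D6605
theorem N5730 : nd 5730 = n6606 := ndS (p := 3227) (l := 2) rfl N3227 D6606
theorem N5731 : nd 5731 = n6607 := ndS (p := 3228) (l := 3) rfl N3228 D6607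
theorem N5732 : nd 5732 = n6608 := ndS (p := 3229) (l := 0) rfl N3229 D6608
theorem N5733 : nd 5733 = n6609 := ndS (p := 3229) (l := 1) rfl N3229 D6609
theorem N5734 : nd 5734 = n6611 := ndS (p := 3229) (l := 4) rfl N3229 D6611
theorem N5735 : nd 5735 = n6612 := ndS (p := 3230) (l := 0) rfl N3230 D6612
theorem N5736 : nd 5736 = n6613 := ndS (p := 3230) (l := 4) rfl N3230 D6613
theorem N5737 : nd 5737 = n6614 := ndS (p := 3231) (l := 2) rfl N3231 D6614
theorem N5738 : nd 5738 = n6615 := ndS (p := 3231) (l := 3) rfl N3231 D6615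
theorem N5739 : nd 5739 = n6616 := ndS (p := 3232) (l := 1) rfl N3232 D6616
theorem N5740 : nd 5740 = n6617 := ndS (p := 3232) (l := 2) rfl N3232 D6617
theorem N5741 : nd 5741 = n6618 := ndS (p := 3232) (l := 3) rfl N3232 D6618
theorem N5742 : nd 5742 = n6619 := ndS (p := 3233) (l := 0) rfl N3233 D6619
theorem N5743 : nd 5743 = n6620 := ndS (p := 3233) (l := 4) rfl N3233 D6620
theorem N5744 : nd 5744 = n6621 := ndS (p := 3234) (l := 2) rfl N3234 D6621
theorem N5745 : nd 5745 = n6622 := ndS (p := 3235) (l := 1) rfl N3235 D6622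
theorem N5746 : nd 5746 = n6623 := ndS (p := 3235) (l := 2) rfl N3235 D6623
theorem N5747 : nd 5747 = n6624 := ndS (p := 3235) (l := 3) rfl N3235 D6624
theorem N5748 : nd 5748 = n6625 := ndS (p := 3235) (l := 4) rfl N3235 D6625
theorem N5749 : nd 5749 = n6626 := ndS (p := 3236) (l := 2) rfl N3236 D6626
theorem N5750 : nd 5750 = n6627 := ndS (p := 3237) (l := 0) rfl N3237 D6627
theorem N5751 : nd 5751 = n6628 := ndS (p := 3238) (l := 3) rfl N3238 D6628
theorem N5752 : nd 5752 = n6629 := ndS (p := 3239) (l := 1) rfl N3239 D6629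
theorem N5753 : nd 5753 = n6630 := ndS (p := 3239) (l := 3) rfl N3239 D6630
theorem N5754 : nd 5754 = n6631 := ndS (p := 3239) (l := 4) rfl N3239 D6631
theorem N5755 : nd 5755 = n6632 := ndS (p := 3240) (l := 0) rfl N3240 D6632
theorem N5756 : nd 5756 = n6633 := ndS (p := 3240) (l := 4) rfl N3240 D6633
theorem N5757 : nd 5757 = n6634 := ndS (p := 3241) (l := 2) rfl N3241 D6634
theorem N5758 : nd 5758 = n6635 := ndS (p := 3241) (l := 3) rfl N3241 D6635
theorem N5759 : nd 5759 = n6636 := ndS (p := 3242) (l := 1) rfl N3242 D6636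
theorem N5760 : nd 5760 = n6637 := ndS (p := 3242) (l := 2) rfl N3242 D6637
theorem N5761 : nd 5761 = n6638 := ndS (p := 3242) (l := 3) rfl N3242 D6638
theorem N5762 : nd 5762 = n6639 := ndS (p := 3242) (l := 4) rfl N3242 D6639
theorem N5763 : nd 5763 = n6640 := ndS (p := 3243) (l := 3) rfl N3243 D6640
theorem N5764 : nd 5764 = n6641 := ndS (p := 3243) (l := 4) rfl N3243 D6641
theorem N5765 : nd 5765 = n6642 := ndS (p := 3244) (l := 0) rfl N3244 D6642
theorem N5766 : nd 5766 = n6643 := ndS (p := 3244) (l := 4) rfl N3244 D6643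
theorem N5767 : nd 5767 = n6644 := ndS (p := 3245) (l := 2) rfl N3245 D6644
theorem N5768 : nd 5768 = n6645 := ndS (p := 3245) (l := 3) rfl N3245 D6645
theorem N5769 : nd 5769 = n6646 := ndS (p := 3246) (l := 1) rfl N3246 D6646
theorem N5770 : nd 5770 = n6647 := ndS (p := 3246) (l := 2) rfl N3246 D6647
theorem N5771 : nd 5771 = n6648 := ndS (p := 3246) (l := 3) rfl N3246 D6648
theorem N5772 : nd 5772 = n6649 := ndS (p := 3246) (l := 4) rfl N3246 D6649
theorem N5773 : nd 5773 = n6650 := ndS (p := 3247) (l := 2) rfl N3247 D6650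
theorem N5774 : nd 5774 = n6651 := ndS (p := 3248) (l := 0) rfl N3248 D6651
theorem N5775 : nd 5775 = n6652 := ndS (p := 3248) (l := 1) rfl N3248 D6652
theorem N5776 : nd 5776 = n6653 := ndS (p := 3248) (l := 3) rfl N3248 D6653
theorem N5777 : nd 5777 = n6654 := ndS (p := 3248) (l := 4) rfl N3248 D6654
theorem N5778 : nd 5778 = n6655 := ndS (p := 3249) (l := 0) rfl N3249 D6655
theorem N5779 : nd 5779 = n6656 := ndS (p := 3251) (l := 2) rfl N3251 D6656
theorem N5780 : nd 5780 = n6657 := ndS (p := 3251) (l := 3) rfl N3251 D6657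
theorem N5781 : nd 5781 = n6658 := ndS (p := 3251) (l := 4) rfl N3251 D6658
theorem N5782 : nd 5782 = n6659 := ndS (p := 3252) (l := 0) rfl N3252 D6659
theorem N5783 : nd 5783 = n6660 := ndS (p := 3252) (l := 3) rfl N3252 D6660
theorem N5784 : nd 5784 = n6661 := ndS (p := 3253) (l := 0) rfl N3253 D6661
theorem N5785 : nd 5785 = n6662 := ndS (p := 3253) (l := 4) rfl N3253 D6662
theorem N5786 : nd 5786 = n6663 := ndS (p := 3254) (l := 2) rfl N3254 D6663
theorem N5787 : nd 5787 = n6664 := ndS (p := 3254) (l := 3) rfl N3254 D6664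
theorem N5788 : nd 5788 = n6665 := ndS (p := 3255) (l := 2) rfl N3255 D6665
theorem N5789 : nd 5789 = n6666 := ndS (p := 3255) (l := 3) rfl N3255 D6666
theorem N5790 : nd 5790 = n6667 := ndS (p := 3255) (l := 4) rfl N3255 D6667
theorem N5791 : nd 5791 = n6668 := ndS (p := 3256) (l := 2) rfl N3256 D6668
theorem N5792 : nd 5792 = n6669 := ndS (p := 3257) (l := 0) rfl N3257 D6669
theorem N5793 : nd 5793 = n6670 := ndS (p := 3257) (l := 1) rfl N3257 D6670
theorem N5794 : nd 5794 = n6671 := ndS (p := 3257) (l := 3) rfl N3257 D6671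
theorem N5795 : nd 5795 = n6672 := ndS (p := 3257) (l := 4) rfl N3257 D6672
theorem N5796 : nd 5796 = n6673 := ndS (p := 3258) (l := 0) rfl N3258 D6673
theorem N5797 : nd 5797 = n6674 := ndS (p := 3259) (l := 0) rfl N3259 D6674
theorem N5798 : nd 5798 = n6675 := ndS (p := 3259) (l := 3) rfl N3259 D6675
theorem N5799 : nd 5799 = n6676 := ndS (p := 3259) (l := 4) rfl N3259 D6676
theorem N5800 : nd 5800 = n6677 := ndS (p := 3260) (l := 3) rfl N3260 D6677
theorem N5801 : nd 5801 = n6678 := ndS (p := 3260) (l := 4) rfl N3260 D6678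
theorem N5802 : nd 5802 = n6679 := ndS (p := 3261) (l := 4) rfl N3261 D6679
theorem N5803 : nd 5803 = n6680 := ndS (p := 3262) (l := 2) rfl N3262 D6680
theorem N5804 : nd 5804 = n6681 := ndS (p := 3262) (l := 3) rfl N3262 D6681
theorem N5805 : nd 5805 = n6682 := ndS (p := 3263) (l := 1) rfl N3263 D6682
theorem N5806 : nd 5806 = n6683 := ndS (p := 3263) (l := 2) rfl N3263 D6683
theorem N5807 : nd 5807 = n6684 := ndS (p := 3263) (l := 3) rfl N3263 D6684
theorem N5808 : nd 5808 = n6685 := ndS (p := 3263) (l := 4) rfl N3263 D6685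
theorem N5809 : nd 5809 = n6686 := ndS (p := 3264) (l := 2) rfl N3264 D6686
theorem N5810 : nd 5810 = n6687 := ndS (p := 3267) (l := 1) rfl N3267 D6687
theorem N5811 : nd 5811 = n6688 := ndS (p := 3267) (l := 3) rfl N3267 D6688
theorem N5812 : nd 5812 = n6689 := ndS (p := 3267) (l := 4) rfl N3267 D6689
theorem N5813 : nd 5813 = n6690 := ndS (p := 3269) (l := 2) rfl N3269 D6690
theorem N5814 : nd 5814 = n6691 := ndS (p := 3270) (l := 0) rfl N3270 D6691
theorem N5815 : nd 5815 = n6692 := ndS (p := 3271) (l := 3) rfl N3271 D6692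
theorem N5816 : nd 5816 = n6693 := ndS (p := 3272) (l := 1) rfl N3272 D6693
theorem N5817 : nd 5817 = n6694 := ndS (p := 3272) (l := 3) rfl N3272 D6694
theorem N5818 : nd 5818 = n6695 := ndS (p := 3273) (l := 3) rfl N3273 D6695
theorem N5819 : nd 5819 = n6696 := ndS (p := 3273) (l := 4) rfl N3273 D6696
theorem N5820 : nd 5820 = n6697 := ndS (p := 3274) (l := 4) rfl N3274 D6697
theorem N5821 : nd 5821 = n6698 := ndS (p := 3275) (l := 2) rfl N3275 D6698
theorem N5822 : nd 5822 = n6699 := ndS (p := 3276) (l := 3) rfl N3276 D6699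
theorem N5823 : nd 5823 = n6700 := ndS (p := 3277) (l := 0) rfl N3277 D6700
theorem N5824 : nd 5824 = n6701 := ndS (p := 3278) (l := 2) rfl N3278 D6701
theorem N5825 : nd 5825 = n6702 := ndS (p := 3278) (l := 3) rfl N3278 D6702
theorem N5826 : nd 5826 = n6703 := ndS (p := 3278) (l := 4) rfl N3278 D6703
theorem N5827 : nd 5827 = n6704 := ndS (p := 3279) (l := 2) rfl N3279 D6704
theorem N5828 : nd 5828 = n6705 := ndS (p := 3280) (l := 1) rfl N3280 D6705
theorem N5829 : nd 5829 = n6706 := ndS (p := 3280) (l := 3) rfl N3280 D6706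
theorem N5830 : nd 5830 = n6707 := ndS (p := 3281) (l := 0) rfl N3281 D6707
theorem N5831 : nd 5831 = n6708 := ndS (p := 3282) (l := 1) rfl N3282 D6708
theorem N5832 : nd 5832 = n6709 := ndS (p := 3282) (l := 3) rfl N3282 D6709
theorem N5833 : nd 5833 = n6710 := ndS (p := 3282) (l := 4) rfl N3282 D6710
theorem N5834 : nd 5834 = n6711 := ndS (p := 3284) (l := 2) rfl N3284 D6711
theorem N5835 : nd 5835 = n6712 := ndS (p := 3285) (l := 0) rfl N3285 D6712
theorem N5836 : nd 5836 = n6713 := ndS (p := 3285) (l := 1) rfl N3285 D6713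
theorem N5837 : nd 5837 = n6714 := ndS (p := 3285) (l := 4) rfl N3285 D6714
theorem N5838 : nd 5838 = n6715 := ndS (p := 3286) (l := 4) rfl N3286 D6715
theorem N5839 : nd 5839 = n6716 := ndS (p := 3287) (l := 0) rfl N3287 D6716
theorem N5840 : nd 5840 = n6717 := ndS (p := 3287) (l := 3) rfl N3287 D6717
theorem N5841 : nd 5841 = n6718 := ndS (p := 3288) (l := 0) rfl N3288 D6718
theorem N5842 : nd 5842 = n6719 := ndS (p := 3288) (l := 4) rfl N3288 D6719
theorem N5843 : nd 5843 = n6721 := ndS (p := 3290) (l := 2) rfl N3290 D6721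
theorem N5844 : nd 5844 = n6722 := ndS (p := 3291) (l := 3) rfl N3291 D6722
theorem N5845 : nd 5845 = n6723 := ndS (p := 3291) (l := 4) rfl N3291 D6723
theorem N5846 : nd 5846 = n6724 := ndS (p := 3292) (l := 0) rfl N3292 D6724
theorem N5847 : nd 5847 = n6725 := ndS (p := 3292) (l := 4) rfl N3292 D6725
theorem N5848 : nd 5848 = n6726 := ndS (p := 3293) (l := 3) rfl N3293 D6726
theorem N5849 : nd 5849 = n6727 := ndS (p := 3294) (l := 4) rfl N3294 D6727
theorem N5850 : nd 5850 = n6728 := ndS (p := 3295) (l := 3) rfl N3295 D6728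
theorem N5851 : nd 5851 = n6729 := ndS (p := 3296) (l := 2) rfl N3296 D6729
theorem N5852 : nd 5852 = n6730 := ndS (p := 3297) (l := 3) rfl N3297 D6730
theorem N5853 : nd 5853 = n6731 := ndS (p := 3298) (l := 0) rfl N3298 D6731
theorem N5854 : nd 5854 = n6732 := ndS (p := 3299) (l := 0) rfl N3299 D6732
theorem N5855 : nd 5855 = n6733 := ndS (p := 3299) (l := 3) rfl N3299 D6733
theorem N5856 : nd 5856 = n6734 := ndS (p := 3299) (l := 4) rfl N3299 D6734
theorem N5857 : nd 5857 = n6735 := ndS (p := 3300) (l := 1) rfl N3300 D6735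
theorem N5858 : nd 5858 = n6736 := ndS (p := 3300) (l := 3) rfl N3300 D6736
theorem N5859 : nd 5859 = n6737 := ndS (p := 3300) (l := 4) rfl N3300 D6737
theorem N5860 : nd 5860 = n6738 := ndS (p := 3302) (l := 2) rfl N3302 D6738
theorem N5861 : nd 5861 = n6739 := ndS (p := 3303) (l := 0) rfl N3303 D6739
theorem N5862 : nd 5862 = n6740 := ndS (p := 3304) (l := 3) rfl N3304 D6740
theorem N5863 : nd 5863 = n6741 := ndS (p := 3304) (l := 4) rfl N3304 D6741
theorem N5864 : nd 5864 = n6742 := ndS (p := 3307) (l := 0) rfl N3307 D6742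
theorem N5865 : nd 5865 = n6743 := ndS (p := 3307) (l := 2) rfl N3307 D6743
theorem N5866 : nd 5866 = n6744 := ndS (p := 3307) (l := 3) rfl N3307 D6744
theorem N5867 : nd 5867 = n6745 := ndS (p := 3307) (l := 4) rfl N3307 D6745
theorem N5868 : nd 5868 = n6746 := ndS (p := 3310) (l := 0) rfl N3310 D6746
theorem N5869 : nd 5869 = n6747 := ndS (p := 3310) (l := 1) rfl N3310 D6747
theorem N5870 : nd 5870 = n6748 := ndS (p := 3310) (l := 4) rfl N3310 D6748
theorem N5871 : nd 5871 = n6749 := ndS (p := 3311) (l := 1) rfl N3311 D6749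
theorem N5872 : nd 5872 = n6750 := ndS (p := 3311) (l := 3) rfl N3311 D6750
theorem N5873 : nd 5873 = n6751 := ndS (p := 3312) (l := 4) rfl N3312 D6751
theorem N5874 : nd 5874 = n6752 := ndS (p := 3313) (l := 0) rfl N3313 D6752
theorem N5875 : nd 5875 = n6753 := ndS (p := 3313) (l := 1) rfl N3313 D6753
theorem N5876 : nd 5876 = n6754 := ndS (p := 3313) (l := 3) rfl N3313 D6754
theorem N5877 : nd 5877 = n6755 := ndS (p := 3313) (l := 4) rfl N3313 D6755
theorem N5878 : nd 5878 = n6756 := ndS (p := 3314) (l := 0) rfl N3314 D6756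
theorem N5879 : nd 5879 = n6757 := ndS (p := 3315) (l := 2) rfl N3315 D6757
theorem N5880 : nd 5880 = n6758 := ndS (p := 3316) (l := 1) rfl N3316 D6758
theorem N5881 : nd 5881 = n6759 := ndS (p := 3316) (l := 2) rfl N3316 D6759
theorem N5882 : nd 5882 = n6760 := ndS (p := 3316) (l := 3) rfl N3316 D6760
theorem N5883 : nd 5883 = n6761 := ndS (p := 3316) (l := 4) rfl N3316 D6761
theorem N5884 : nd 5884 = n6762 := ndS (p := 3317) (l := 4) rfl N3317 D6762
theorem N5885 : nd 5885 = n6763 := ndS (p := 3318) (l := 0) rfl N3318 D6763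
theorem N5886 : nd 5886 = n6765 := ndS (p := 3319) (l := 2) rfl N3319 D6765
theorem N5887 : nd 5887 = n6767 := ndS (p := 3320) (l := 2) rfl N3320 D6767
theorem N5888 : nd 5888 = n6768 := ndS (p := 3321) (l := 0) rfl N3321 D6768
theorem N5889 : nd 5889 = n6769 := ndS (p := 3321) (l := 1) rfl N3321 D6769
theorem N5890 : nd 5890 = n6770 := ndS (p := 3321) (l := 4) rfl N3321 D6770
theorem N5891 : nd 5891 = n6771 := ndS (p := 3322) (l := 2) rfl N3322 D6771
theorem N5892 : nd 5892 = n6772 := ndS (p := 3322) (l := 4) rfl N3322 D6772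
theorem N5893 : nd 5893 = n6773 := ndS (p := 3323) (l := 0) rfl N3323 D6773
theorem N5894 : nd 5894 = n6774 := ndS (p := 3323) (l := 2) rfl N3323 D6774
theorem N5895 : nd 5895 = n6775 := ndS (p := 3323) (l := 4) rfl N3323 D6775
theorem N5896 : nd 5896 = n6776 := ndS (p := 3324) (l := 2) rfl N3324 D6776
theorem N5897 : nd 5897 = n6778 := ndS (p := 3325) (l := 0) rfl N3325 D6778
theorem N5898 : nd 5898 = n6779 := ndS (p := 3325) (l := 1) rfl N3325 D6779
theorem N5899 : nd 5899 = n6781 := ndS (p := 3326) (l := 0) rfl N3326 D6781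
theorem N5900 : nd 5900 = n6782 := ndS (p := 3326) (l := 2) rfl N3326 D6782
theorem N5901 : nd 5901 = n6783 := ndS (p := 3326) (l := 3) rfl N3326 D6783
theorem N5902 : nd 5902 = n6784 := ndS (p := 3326) (l := 4) rfl N3326 D6784
theorem N5903 : nd 5903 = n6785 := ndS (p := 3327) (l := 4) rfl N3327 D6785
theorem N5904 : nd 5904 = n6786 := ndS (p := 3329) (l := 2) rfl N3329 D6786
theorem N5905 : nd 5905 = n6787 := ndS (p := 3330) (l := 4) rfl N3330 D6787
theorem N5906 : nd 5906 = n6788 := ndS (p := 3331) (l := 0) rfl N3331 D6788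
theorem N5907 : nd 5907 = n6789 := ndS (p := 3331) (l := 4) rfl N3331 D6789
theorem N5908 : nd 5908 = n6790 := ndS (p := 3332) (l := 2) rfl N3332 D6790
theorem N5909 : nd 5909 = n6791 := ndS (p := 3334) (l := 1) rfl N3334 D6791
theorem N5910 : nd 5910 = n6792 := ndS (p := 3335) (l := 0) rfl N3335 D6792
theorem N5911 : nd 5911 = n6793 := ndS (p := 3335) (l := 2) rfl N3335 D6793
theorem N5912 : nd 5912 = n6794 := ndS (p := 3336) (l := 3) rfl N3336 D6794
theorem N5913 : nd 5913 = n6795 := ndS (p := 3336) (l := 4) rfl N3336 D6795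
theorem N5914 : nd 5914 = n6796 := ndS (p := 3337) (l := 0) rfl N3337 D6796
theorem N5915 : nd 5915 = n6797 := ndS (p := 3337) (l := 1) rfl N3337 D6797
theorem N5916 : nd 5916 = n6798 := ndS (p := 3337) (l := 4) rfl N3337 D6798
theorem N5917 : nd 5917 = n6799 := ndS (p := 3338) (l := 0) rfl N3338 D6799
theorem N5918 : nd 5918 = n6800 := ndS (p := 3339) (l := 2) rfl N3339 D6800
theorem N5919 : nd 5919 = n6801 := ndS (p := 3340) (l := 1) rfl N3340 D6801
theorem N5920 : nd 5920 = n6802 := ndS (p := 3340) (l := 3) rfl N3340 D6802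
theorem N5921 : nd 5921 = n6803 := ndS (p := 3341) (l := 2) rfl N3341 D6803
theorem N5922 : nd 5922 = n6804 := ndS (p := 3342) (l := 0) rfl N3342 D6804
theorem N5923 : nd 5923 = n6805 := ndS (p := 3342) (l := 1) rfl N3342 D6805
theorem N5924 : nd 5924 = n6806 := ndS (p := 3342) (l := 4) rfl N3342 D6806
theorem N5925 : nd 5925 = n6807 := ndS (p := 3343) (l := 1) rfl N3343 D6807
theorem N5926 : nd 5926 = n6808 := ndS (p := 3343) (l := 2) rfl N3343 D6808
theorem N5927 : nd 5927 = n6809 := ndS (p := 3345) (l := 4) rfl N3345 D6809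
theorem N5928 : nd 5928 = n6810 := ndS (p := 3346) (l := 3) rfl N3346 D6810
theorem N5929 : nd 5929 = n6811 := ndS (p := 3347) (l := 2) rfl N3347 D6811
theorem N5930 : nd 5930 = n6812 := ndS (p := 3347) (l := 3) rfl N3347 D6812
theorem N5931 : nd 5931 = n6813 := ndS (p := 3348) (l := 3) rfl N3348 D6813
theorem N5932 : nd 5932 = n6814 := ndS (p := 3349) (l := 4) rfl N3349 D6814
theorem N5933 : nd 5933 = n6815 := ndS (p := 3350) (l := 4) rfl N3350 D6815
theorem N5934 : nd 5934 = n6816 := ndS (p := 3351) (l := 2) rfl N3351 D6816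
theorem N5935 : nd 5935 = n6817 := ndS (p := 3351) (l := 3) rfl N3351 D6817
theorem N5936 : nd 5936 = n6818 := ndS (p := 3352) (l := 2) rfl N3352 D6818
theorem N5937 : nd 5937 = n6819 := ndS (p := 3353) (l := 3) rfl N3353 D6819
theorem N5938 : nd 5938 = n6820 := ndS (p := 3354) (l := 4) rfl N3354 D6820
theorem N5939 : nd 5939 = n6821 := ndS (p := 3355) (l := 4) rfl N3355 D6821
theorem N5940 : nd 5940 = n6822 := ndS (p := 3356) (l := 2) rfl N3356 D6822
theorem N5941 : nd 5941 = n6823 := ndS (p := 3356) (l := 3) rfl N3356 D6823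
theorem N5942 : nd 5942 = n6824 := ndS (p := 3357) (l := 0) rfl N3357 D6824
theorem N5943 : nd 5943 = n6825 := ndS (p := 3357) (l := 1) rfl N3357 D6825
theorem N5944 : nd 5944 = n6826 := ndS (p := 3357) (l := 3) rfl N3357 D6826
theorem N5945 : nd 5945 = n6827 := ndS (p := 3357) (l := 4) rfl N3357 D6827
theorem N5946 : nd 5946 = n6828 := ndS (p := 3359) (l := 2) rfl N3359 D6828
theorem N5947 : nd 5947 = n6829 := ndS (p := 3359) (l := 3) rfl N3359 D6829
theorem N5948 : nd 5948 = n6830 := ndS (p := 3360) (l := 0) rfl N3360 D6830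
theorem N5949 : nd 5949 = n6831 := ndS (p := 3360) (l := 4) rfl N3360 D6831
theorem N5950 : nd 5950 = n6832 := ndS (p := 3362) (l := 2) rfl N3362 D6832
theorem N5951 : nd 5951 = n6833 := ndS (p := 3362) (l := 4) rfl N3362 D6833
theorem N5952 : nd 5952 = n6834 := ndS (p := 3364) (l := 2) rfl N3364 D6834
theorem N5953 : nd 5953 = n6835 := ndS (p := 3364) (l := 4) rfl N3364 D6835
theorem N5954 : nd 5954 = n6836 := ndS (p := 3365) (l := 3) rfl N3365 D6836
theorem N5955 : nd 5955 = n6837 := ndS (p := 3366) (l := 1) rfl N3366 D6837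
theorem N5956 : nd 5956 = n6838 := ndS (p := 3366) (l := 4) rfl N3366 D6838
theorem N5957 : nd 5957 = n6839 := ndS (p := 3367) (l := 4) rfl N3367 D6839
theorem N5958 : nd 5958 = n6840 := ndS (p := 3368) (l := 2) rfl N3368 D6840
theorem N5959 : nd 5959 = n6841 := ndS (p := 3368) (l := 4) rfl N3368 D6841
theorem N5960 : nd 5960 = n6842 := ndS (p := 3370) (l := 2) rfl N3370 D6842
theorem N5961 : nd 5961 = n6843 := ndS (p := 3370) (l := 3) rfl N3370 D6843
theorem N5962 : nd 5962 = n6844 := ndS (p := 3370) (l := 4) rfl N3370 D6844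
theorem N5963 : nd 5963 = n6845 := ndS (p := 3371) (l := 4) rfl N3371 D6845
theorem N5964 : nd 5964 = n6846 := ndS (p := 3372) (l := 3) rfl N3372 D6846
theorem N5965 : nd 5965 = n6847 := ndS (p := 3373) (l := 3) rfl N3373 D6847
theorem N5966 : nd 5966 = n6848 := ndS (p := 3373) (l := 4) rfl N3373 D6848
theorem N5967 : nd 5967 = n6849 := ndS (p := 3374) (l := 4) rfl N3374 D6849
theorem N5968 : nd 5968 = n6850 := ndS (p := 3376) (l := 1) rfl N3376 D6850
theorem N5969 : nd 5969 = n6851 := ndS (p := 3376) (l := 2) rfl N3376 D6851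
theorem N5970 : nd 5970 = n6852 := ndS (p := 3376) (l := 4) rfl N3376 D6852
theorem N5971 : nd 5971 = n6853 := ndS (p := 3378) (l := 1) rfl N3378 D6853
theorem N5972 : nd 5972 = n6854 := ndS (p := 3378) (l := 4) rfl N3378 D6854
theorem N5973 : nd 5973 = n6855 := ndS (p := 3379) (l := 2) rfl N3379 D6855
theorem N5974 : nd 5974 = n6856 := ndS (p := 3380) (l := 2) rfl N3380 D6856
theorem N5975 : nd 5975 = n6857 := ndS (p := 3381) (l := 1) rfl N3381 D6857
theorem N5976 : nd 5976 = n6858 := ndS (p := 3381) (l := 4) rfl N3381 D6858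
theorem N5977 : nd 5977 = n6859 := ndS (p := 3382) (l := 4) rfl N3382 D6859
theorem N5978 : nd 5978 = n6860 := ndS (p := 3383) (l := 3) rfl N3383 D6860
theorem N5979 : nd 5979 = n6861 := ndS (p := 3385) (l := 4) rfl N3385 D6861
theorem N5980 : nd 5980 = n6862 := ndS (p := 3386) (l := 1) rfl N3386 D6862
theorem N5981 : nd 5981 = n6863 := ndS (p := 3386) (l := 3) rfl N3386 D6863
theorem N5982 : nd 5982 = n6864 := ndS (p := 3386) (l := 4) rfl N3386 D6864
theorem N5983 : nd 5983 = n6865 := ndS (p := 3388) (l := 3) rfl N3388 D6865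
theorem N5984 : nd 5984 = n6866 := ndS (p := 3389) (l := 4) rfl N3389 D6866
theorem N5985 : nd 5985 = n6867 := ndS (p := 3391) (l := 1) rfl N3391 D6867
theorem N5986 : nd 5986 = n6868 := ndS (p := 3394) (l := 0) rfl N3394 D6868
theorem N5987 : nd 5987 = n6869 := ndS (p := 3394) (l := 2) rfl N3394 D6869
theorem N5988 : nd 5988 = n6870 := ndS (p := 3396) (l := 1) rfl N3396 D6870
theorem N5989 : nd 5989 = n6871 := ndS (p := 3396) (l := 4) rfl N3396 D6871
theorem N5990 : nd 5990 = n6872 := ndS (p := 3397) (l := 2) rfl N3397 D6872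
theorem N5991 : nd 5991 = n6873 := ndS (p := 3398) (l := 4) rfl N3398 D6873
theorem N5992 : nd 5992 = n6874 := ndS (p := 3399) (l := 4) rfl N3399 D6874
theorem N5993 : nd 5993 = n6875 := ndS (p := 3400) (l := 3) rfl N3400 D6875
theorem N5994 : nd 5994 = n6876 := ndS (p := 3401) (l := 2) rfl N3401 D6876
theorem N5995 : nd 5995 = n6877 := ndS (p := 3402) (l := 1) rfl N3402 D6877
theorem N5996 : nd 5996 = n6878 := ndS (p := 3402) (l := 3) rfl N3402 D6878
theorem N5997 : nd 5997 = n6879 := ndS (p := 3402) (l := 4) rfl N3402 D6879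
theorem N5998 : nd 5998 = n6880 := ndS (p := 3403) (l := 4) rfl N3403 D6880
theorem N5999 : nd 5999 = n6881 := ndS (p := 3404) (l := 1) rfl N3404 D6881
theorem N6000 : nd 6000 = n6882 := ndS (p := 3404) (l := 3) rfl N3404 D6882
theorem N6001 : nd 6001 = n6883 := ndS (p := 3404) (l := 4) rfl N3404 D6883
theorem N6002 : nd 6002 = n6884 := ndS (p := 3405) (l := 2) rfl N3405 D6884
theorem N6003 : nd 6003 = n6885 := ndS (p := 3408) (l := 3) rfl N3408 D6885
theorem N6004 : nd 6004 = n6886 := ndS (p := 3408) (l := 4) rfl N3408 D6886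
theorem N6005 : nd 6005 = n6887 := ndS (p := 3410) (l := 1) rfl N3410 D6887
theorem N6006 : nd 6006 = n6888 := ndS (p := 3410) (l := 4) rfl N3410 D6888
theorem N6007 : nd 6007 = n6889 := ndS (p := 3412) (l := 2) rfl N3412 D6889
theorem N6008 : nd 6008 = n6890 := ndS (p := 3412) (l := 4) rfl N3412 D6890
theorem N6009 : nd 6009 = n6891 := ndS (p := 3413) (l := 1) rfl N3413 D6891
theorem N6010 : nd 6010 = n6892 := ndS (p := 3413) (l := 4) rfl N3413 D6892
theorem N6011 : nd 6011 = n6893 := ndS (p := 3414) (l := 2) rfl N3414 D6893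
theorem N6012 : nd 6012 = n6894 := ndS (p := 3416) (l := 1) rfl N3416 D6894
theorem N6013 : nd 6013 = n6895 := ndS (p := 3418) (l := 2) rfl N3418 D6895
theorem N6014 : nd 6014 = n6896 := ndS (p := 3418) (l := 4) rfl N3418 D6896
theorem N6015 : nd 6015 = n6897 := ndS (p := 3419) (l := 4) rfl N3419 D6897
theorem N6016 : nd 6016 = n6898 := ndS (p := 3420) (l := 3) rfl N3420 D6898
theorem N6017 : nd 6017 = n6899 := ndS (p := 3422) (l := 1) rfl N3422 D6899
theorem N6018 : nd 6018 = n6900 := ndS (p := 3422) (l := 3) rfl N3422 D6900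
theorem N6019 : nd 6019 = n6901 := ndS (p := 3422) (l := 4) rfl N3422 D6901
theorem N6020 : nd 6020 = n6902 := ndS (p := 3424) (l := 2) rfl N3424 D6902
theorem N6021 : nd 6021 = n6903 := ndS (p := 3430) (l := 2) rfl N3430 D6903
theorem N6022 : nd 6022 = n6904 := ndS (p := 3430) (l := 4) rfl N3430 D6904
theorem N6023 : nd 6023 = n6905 := ndS (p := 3431) (l := 1) rfl N3431 D6905
theorem N6024 : nd 6024 = n6906 := ndS (p := 3434) (l := 2) rfl N3434 D6906
theorem N6025 : nd 6025 = n6907 := ndS (p := 3437) (l := 4) rfl N3437 D6907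
theorem N6026 : nd 6026 = n6908 := ndS (p := 3438) (l := 3) rfl N3438 D6908
theorem N6027 : nd 6027 = n6909 := ndS (p := 3439) (l := 2) rfl N3439 D6909
theorem N6028 : nd 6028 = n6910 := ndS (p := 3440) (l := 1) rfl N3440 D6910
theorem N6029 : nd 6029 = n6911 := ndS (p := 3440) (l := 3) rfl N3440 D6911
theorem N6030 : nd 6030 = n6912 := ndS (p := 3441) (l := 4) rfl N3441 D6912
theorem N6031 : nd 6031 = n6913 := ndS (p := 3442) (l := 4) rfl N3442 D6913
theorem N6032 : nd 6032 = n6914 := ndS (p := 3443) (l := 2) rfl N3443 D6914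
theorem N6033 : nd 6033 = n6915 := ndS (p := 3443) (l := 3) rfl N3443 D6915
theorem N6034 : nd 6034 = n6916 := ndS (p := 3444) (l := 4) rfl N3444 D6916
theorem N6035 : nd 6035 = n6917 := ndS (p := 3445) (l := 2) rfl N3445 D6917
theorem N6036 : nd 6036 = n6918 := ndS (p := 3445) (l := 3) rfl N3445 D6918
theorem N6037 : nd 6037 = n6919 := ndS (p := 3446) (l := 3) rfl N3446 D6919
theorem N6038 : nd 6038 = n6920 := ndS (p := 3446) (l := 4) rfl N3446 D6920
theorem N6039 : nd 6039 = n6921 := ndS (p := 3447) (l := 2) rfl N3447 D6921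
theorem N6040 : nd 6040 = n6922 := ndS (p := 3447) (l := 3) rfl N3447 D6922
theorem N6041 : nd 6041 = n6923 := ndS (p := 3448) (l := 1) rfl N3448 D6923
theorem N6042 : nd 6042 = n6924 := ndS (p := 3448) (l := 3) rfl N3448 D6924
theorem N6043 : nd 6043 = n6925 := ndS (p := 3448) (l := 4) rfl N3448 D6925
theorem N6044 : nd 6044 = n6926 := ndS (p := 3449) (l := 0) rfl N3449 D6926
theorem N6045 : nd 6045 = n6927 := ndS (p := 3449) (l := 4) rfl N3449 D6927
theorem N6046 : nd 6046 = n6928 := ndS (p := 3450) (l := 3) rfl N3450 D6928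
theorem N6047 : nd 6047 = n6929 := ndS (p := 3450) (l := 4) rfl N3450 D6929
theorem N6048 : nd 6048 = n6930 := ndS (p := 3451) (l := 4) rfl N3451 D6930
theorem N6049 : nd 6049 = n6931 := ndS (p := 3452) (l := 2) rfl N3452 D6931
theorem N6050 : nd 6050 = n6932 := ndS (p := 3452) (l := 3) rfl N3452 D6932
theorem N6051 : nd 6051 = n6933 := ndS (p := 3453) (l := 0) rfl N3453 D6933
theorem N6052 : nd 6052 = n6934 := ndS (p := 3453) (l := 1) rfl N3453 D6934
theorem N6053 : nd 6053 = n6935 := ndS (p := 3453) (l := 4) rfl N3453 D6935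
theorem N6054 : nd 6054 = n6936 := ndS (p := 3454) (l := 3) rfl N3454 D6936
theorem N6055 : nd 6055 = n6937 := ndS (p := 3454) (l := 4) rfl N3454 D6937
theorem N6056 : nd 6056 = n6938 := ndS (p := 3455) (l := 2) rfl N3455 D6938
theorem N6057 : nd 6057 = n6939 := ndS (p := 3455) (l := 3) rfl N3455 D6939
theorem N6058 : nd 6058 = n6940 := ndS (p := 3455) (l := 4) rfl N3455 D6940
theorem N6059 : nd 6059 = n6941 := ndS (p := 3456) (l := 0) rfl N3456 D6941
theorem N6060 : nd 6060 = n6942 := ndS (p := 3456) (l := 4) rfl N3456 D6942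
theorem N6061 : nd 6061 = n6944 := ndS (p := 3458) (l := 1) rfl N3458 D6944
theorem N6062 : nd 6062 = n6945 := ndS (p := 3458) (l := 2) rfl N3458 D6945
theorem N6063 : nd 6063 = n6946 := ndS (p := 3458) (l := 4) rfl N3458 D6946
theorem N6064 : nd 6064 = n6948 := ndS (p := 3460) (l := 2) rfl N3460 D6948
theorem N6065 : nd 6065 = n6949 := ndS (p := 3461) (l := 2) rfl N3461 D6949
theorem N6066 : nd 6066 = n6950 := ndS (p := 3461) (l := 3) rfl N3461 D6950
theorem N6067 : nd 6067 = n6951 := ndS (p := 3462) (l := 3) rfl N3462 D6951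
theorem N6068 : nd 6068 = n6952 := ndS (p := 3462) (l := 4) rfl N3462 D6952
theorem N6069 : nd 6069 = n6953 := ndS (p := 3463) (l := 0) rfl N3463 D6953
theorem N6070 : nd 6070 = n6954 := ndS (p := 3463) (l := 4) rfl N3463 D6954
theorem N6071 : nd 6071 = n6955 := ndS (p := 3464) (l := 2) rfl N3464 D6955
theorem N6072 : nd 6072 = n6956 := ndS (p := 3464) (l := 4) rfl N3464 D6956
theorem N6073 : nd 6073 = n6957 := ndS (p := 3465) (l := 3) rfl N3465 D6957
theorem N6074 : nd 6074 = n6958 := ndS (p := 3465) (l := 4) rfl N3465 D6958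
theorem N6075 : nd 6075 = n6959 := ndS (p := 3466) (l := 4) rfl N3466 D6959
theorem N6076 : nd 6076 = n6960 := ndS (p := 3467) (l := 2) rfl N3467 D6960
theorem N6077 : nd 6077 = n6961 := ndS (p := 3467) (l := 3) rfl N3467 D6961
theorem N6078 : nd 6078 = n6962 := ndS (p := 3468) (l := 0) rfl N3468 D6962
theorem N6079 : nd 6079 = n6963 := ndS (p := 3468) (l := 1) rfl N3468 D6963
theorem N6080 : nd 6080 = n6964 := ndS (p := 3468) (l := 3) rfl N3468 D6964
theorem N6081 : nd 6081 = n6965 := ndS (p := 3468) (l := 4) rfl N3468 D6965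
theorem N6082 : nd 6082 = n6966 := ndS (p := 3470) (l := 2) rfl N3470 D6966
theorem N6083 : nd 6083 = n6967 := ndS (p := 3470) (l := 3) rfl N3470 D6967
theorem N6084 : nd 6084 = n6968 := ndS (p := 3471) (l := 0) rfl N3471 D6968
theorem N6085 : nd 6085 = n6969 := ndS (p := 3471) (l := 4) rfl N3471 D6969
theorem N6086 : nd 6086 = n6970 := ndS (p := 3473) (l := 1) rfl N3473 D6970
theorem N6087 : nd 6087 = n6971 := ndS (p := 3473) (l := 2) rfl N3473 D6971
theorem N6088 : nd 6088 = n6972 := ndS (p := 3473) (l := 4) rfl N3473 D6972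
theorem N6089 : nd 6089 = n6973 := ndS (p := 3475) (l := 4) rfl N3475 D6973
theorem N6090 : nd 6090 = n6974 := ndS (p := 3476) (l := 2) rfl N3476 D6974
theorem N6091 : nd 6091 = n6975 := ndS (p := 3477) (l := 4) rfl N3477 D6975
theorem N6092 : nd 6092 = n6976 := ndS (p := 3478) (l := 3) rfl N3478 D6976
theorem N6093 : nd 6093 = n6977 := ndS (p := 3479) (l := 2) rfl N3479 D6977
theorem N6094 : nd 6094 = n6978 := ndS (p := 3480) (l := 0) rfl N3480 D6978
theorem N6095 : nd 6095 = n6979 := ndS (p := 3480) (l := 3) rfl N3480 D6979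
theorem N6096 : nd 6096 = n6980 := ndS (p := 3480) (l := 4) rfl N3480 D6980
theorem N6097 : nd 6097 = n6981 := ndS (p := 3481) (l := 4) rfl N3481 D6981
theorem N6098 : nd 6098 = n6982 := ndS (p := 3482) (l := 1) rfl N3482 D6982
theorem N6099 : nd 6099 = n6983 := ndS (p := 3482) (l := 3) rfl N3482 D6983
theorem N6100 : nd 6100 = n6984 := ndS (p := 3482) (l := 4) rfl N3482 D6984
theorem N6101 : nd 6101 = n6985 := ndS (p := 3484) (l := 3) rfl N3484 D6985
theorem N6102 : nd 6102 = n6986 := ndS (p := 3485) (l := 4) rfl N3485 D6986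
theorem N6103 : nd 6103 = n6987 := ndS (p := 3486) (l := 3) rfl N3486 D6987
theorem N6104 : nd 6104 = n6988 := ndS (p := 3488) (l := 1) rfl N3488 D6988
theorem N6105 : nd 6105 = n6989 := ndS (p := 3488) (l := 2) rfl N3488 D6989
theorem N6106 : nd 6106 = n6990 := ndS (p := 3488) (l := 3) rfl N3488 D6990
theorem N6107 : nd 6107 = n6991 := ndS (p := 3488) (l := 4) rfl N3488 D6991
theorem N6108 : nd 6108 = n6992 := ndS (p := 3490) (l := 2) rfl N3490 D6992
theorem N6109 : nd 6109 = n6993 := ndS (p := 3490) (l := 4) rfl N3490 D6993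
theorem N6110 : nd 6110 = n6994 := ndS (p := 3491) (l := 1) rfl N3491 D6994
theorem N6111 : nd 6111 = n6995 := ndS (p := 3491) (l := 4) rfl N3491 D6995
theorem N6112 : nd 6112 = n6996 := ndS (p := 3492) (l := 2) rfl N3492 D6996
theorem N6113 : nd 6113 = n6997 := ndS (p := 3493) (l := 2) rfl N3493 D6997
theorem N6114 : nd 6114 = n6998 := ndS (p := 3493) (l := 4) rfl N3493 D6998
theorem N6115 : nd 6115 = n6999 := ndS (p := 3494) (l := 0) rfl N3494 D6999
theorem N6116 : nd 6116 = n7000 := ndS (p := 3494) (l := 1) rfl N3494 D7000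
theorem N6117 : nd 6117 = n7001 := ndS (p := 3494) (l := 3) rfl N3494 D7001
theorem N6118 : nd 6118 = n7002 := ndS (p := 3494) (l := 4) rfl N3494 D7002
theorem N6119 : nd 6119 = n7003 := ndS (p := 3495) (l := 0) rfl N3495 D7003
theorem N6120 : nd 6120 = n7004 := ndS (p := 3495) (l := 4) rfl N3495 D7004
theorem N6121 : nd 6121 = n7005 := ndS (p := 3496) (l := 2) rfl N3496 D7005
theorem N6122 : nd 6122 = n7006 := ndS (p := 3496) (l := 3) rfl N3496 D7006
theorem N6123 : nd 6123 = n7007 := ndS (p := 3497) (l := 1) rfl N3497 D7007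
theorem N6124 : nd 6124 = n7008 := ndS (p := 3497) (l := 2) rfl N3497 D7008
theorem N6125 : nd 6125 = n7009 := ndS (p := 3497) (l := 3) rfl N3497 D7009
theorem N6126 : nd 6126 = n7010 := ndS (p := 3497) (l := 4) rfl N3497 D7010
theorem N6127 : nd 6127 = n7011 := ndS (p := 3498) (l := 2) rfl N3498 D7011
theorem N6128 : nd 6128 = n7012 := ndS (p := 3499) (l := 0) rfl N3499 D7012
theorem N6129 : nd 6129 = n7013 := ndS (p := 3502) (l := 3) rfl N3502 D7013
theorem N6130 : nd 6130 = n7014 := ndS (p := 3504) (l := 3) rfl N3504 D7014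
theorem N6131 : nd 6131 = n7015 := ndS (p := 3505) (l := 4) rfl N3505 D7015
theorem N6132 : nd 6132 = n7016 := ndS (p := 3506) (l := 3) rfl N3506 D7016
theorem N6133 : nd 6133 = n7017 := ndS (p := 3507) (l := 2) rfl N3507 D7017
theorem N6134 : nd 6134 = n7018 := ndS (p := 3507) (l := 3) rfl N3507 D7018
theorem N6135 : nd 6135 = n7019 := ndS (p := 3507) (l := 4) rfl N3507 D7019
theorem N6136 : nd 6136 = n7020 := ndS (p := 3508) (l := 3) rfl N3508 D7020
theorem N6137 : nd 6137 = n7021 := ndS (p := 3508) (l := 4) rfl N3508 D7021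
theorem N6138 : nd 6138 = n7022 := ndS (p := 3509) (l := 0) rfl N3509 D7022
theorem N6139 : nd 6139 = n7023 := ndS (p := 3509) (l := 4) rfl N3509 D7023
theorem N6140 : nd 6140 = n7024 := ndS (p := 3510) (l := 2) rfl N3510 D7024
theorem N6141 : nd 6141 = n7025 := ndS (p := 3510) (l := 3) rfl N3510 D7025
theorem N6142 : nd 6142 = n7026 := ndS (p := 3511) (l := 2) rfl N3511 D7026
theorem N6143 : nd 6143 = n7027 := ndS (p := 3511) (l := 3) rfl N3511 D7027
theorem N6144 : nd 6144 = n7028 := ndS (p := 3511) (l := 4) rfl N3511 D7028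
theorem N6145 : nd 6145 = n7029 := ndS (p := 3512) (l := 2) rfl N3512 D7029
theorem N6146 : nd 6146 = n7030 := ndS (p := 3513) (l := 0) rfl N3513 D7030
theorem N6147 : nd 6147 = n7031 := ndS (p := 3513) (l := 1) rfl N3513 D7031
theorem N6148 : nd 6148 = n7032 := ndS (p := 3513) (l := 3) rfl N3513 D7032
theorem N6149 : nd 6149 = n7033 := ndS (p := 3513) (l := 4) rfl N3513 D7033
theorem N6150 : nd 6150 = n7034 := ndS (p := 3514) (l := 0) rfl N3514 D7034
theorem N6151 : nd 6151 = n7035 := ndS (p := 3515) (l := 4) rfl N3515 D7035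
theorem N6152 : nd 6152 = n7036 := ndS (p := 3516) (l := 3) rfl N3516 D7036
theorem N6153 : nd 6153 = n7037 := ndS (p := 3516) (l := 4) rfl N3516 D7037
theorem N6154 : nd 6154 = n7038 := ndS (p := 3517) (l := 4) rfl N3517 D7038
theorem N6155 : nd 6155 = n7039 := ndS (p := 3518) (l := 3) rfl N3518 D7039
theorem N6156 : nd 6156 = n7040 := ndS (p := 3519) (l := 1) rfl N3519 D7040
theorem N6157 : nd 6157 = n7041 := ndS (p := 3519) (l := 2) rfl N3519 D7041
theorem N6158 : nd 6158 = n7042 := ndS (p := 3519) (l := 3) rfl N3519 D7042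
theorem N6159 : nd 6159 = n7043 := ndS (p := 3519) (l := 4) rfl N3519 D7043
theorem N6160 : nd 6160 = n7044 := ndS (p := 3520) (l := 2) rfl N3520 D7044
theorem N6161 : nd 6161 = n7045 := ndS (p := 3522) (l := 2) rfl N3522 D7045
theorem N6162 : nd 6162 = n7046 := ndS (p := 3522) (l := 3) rfl N3522 D7046
theorem N6163 : nd 6163 = n7047 := ndS (p := 3522) (l := 4) rfl N3522 D7047
theorem N6164 : nd 6164 = n7048 := ndS (p := 3523) (l := 1) rfl N3523 D7048
theorem N6165 : nd 6165 = n7049 := ndS (p := 3523) (l := 3) rfl N3523 D7049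
theorem N6166 : nd 6166 = n7050 := ndS (p := 3523) (l := 4) rfl N3523 D7050
theorem N6167 : nd 6167 = n7051 := ndS (p := 3525) (l := 2) rfl N3525 D7051
theorem N6168 : nd 6168 = n7052 := ndS (p := 3526) (l := 0) rfl N3526 D7052
theorem N6169 : nd 6169 = n7053 := ndS (p := 3527) (l := 3) rfl N3527 D7053
theorem N6170 : nd 6170 = n7054 := ndS (p := 3528) (l := 3) rfl N3528 D7054
theorem N6171 : nd 6171 = n7055 := ndS (p := 3529) (l := 4) rfl N3529 D7055
theorem N6172 : nd 6172 = n7056 := ndS (p := 3530) (l := 3) rfl N3530 D7056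
theorem N6173 : nd 6173 = n7057 := ndS (p := 3532) (l := 2) rfl N3532 D7057
theorem N6174 : nd 6174 = n7058 := ndS (p := 3533) (l := 2) rfl N3533 D7058
theorem N6175 : nd 6175 = n7059 := ndS (p := 3533) (l := 3) rfl N3533 D7059
theorem N6176 : nd 6176 = n7060 := ndS (p := 3533) (l := 4) rfl N3533 D7060
theorem N6177 : nd 6177 = n7061 := ndS (p := 3534) (l := 2) rfl N3534 D7061
theorem N6178 : nd 6178 = n7062 := ndS (p := 3535) (l := 0) rfl N3535 D7062
theorem N6179 : nd 6179 = n7063 := ndS (p := 3535) (l := 1) rfl N3535 D7063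
theorem N6180 : nd 6180 = n7064 := ndS (p := 3535) (l := 3) rfl N3535 D7064
theorem N6181 : nd 6181 = n7065 := ndS (p := 3535) (l := 4) rfl N3535 D7065
theorem N6182 : nd 6182 = n7066 := ndS (p := 3536) (l := 0) rfl N3536 D7066
theorem N6183 : nd 6183 = n7067 := ndS (p := 3537) (l := 3) rfl N3537 D7067
theorem N6184 : nd 6184 = n7068 := ndS (p := 3537) (l := 4) rfl N3537 D7068
theorem N6185 : nd 6185 = n7069 := ndS (p := 3538) (l := 4) rfl N3538 D7069
theorem N6186 : nd 6186 = n7070 := ndS (p := 3539) (l := 4) rfl N3539 D7070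
theorem N6187 : nd 6187 = n7071 := ndS (p := 3540) (l := 3) rfl N3540 D7071
theorem N6188 : nd 6188 = n7072 := ndS (p := 3541) (l := 4) rfl N3541 D7072
theorem N6189 : nd 6189 = n7073 := ndS (p := 3542) (l := 0) rfl N3542 D7073
theorem N6190 : nd 6190 = n7074 := ndS (p := 3542) (l := 4) rfl N3542 D7074
theorem N6191 : nd 6191 = n7075 := ndS (p := 3543) (l := 3) rfl N3543 D7075
theorem N6192 : nd 6192 = n7076 := ndS (p := 3544) (l := 1) rfl N3544 D7076
theorem N6193 : nd 6193 = n7077 := ndS (p := 3544) (l := 2) rfl N3544 D7077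
theorem N6194 : nd 6194 = n7078 := ndS (p := 3544) (l := 3) rfl N3544 D7078
theorem N6195 : nd 6195 = n7079 := ndS (p := 3544) (l := 4) rfl N3544 D7079
theorem N6196 : nd 6196 = n7080 := ndS (p := 3545) (l := 2) rfl N3545 D7080
theorem N6197 : nd 6197 = n7081 := ndS (p := 3546) (l := 3) rfl N3546 D7081
theorem N6198 : nd 6198 = n7082 := ndS (p := 3546) (l := 4) rfl N3546 D7082
theorem N6199 : nd 6199 = n7083 := ndS (p := 3547) (l := 0) rfl N3547 D7083
theorem N6200 : nd 6200 = n7084 := ndS (p := 3548) (l := 2) rfl N3548 D7084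
theorem N6201 : nd 6201 = n7085 := ndS (p := 3548) (l := 3) rfl N3548 D7085
theorem N6202 : nd 6202 = n7086 := ndS (p := 3548) (l := 4) rfl N3548 D7086
theorem N6203 : nd 6203 = n7087 := ndS (p := 3549) (l := 1) rfl N3549 D7087
theorem N6204 : nd 6204 = n7088 := ndS (p := 3549) (l := 4) rfl N3549 D7088
theorem N6205 : nd 6205 = n7089 := ndS (p := 3550) (l := 4) rfl N3550 D7089
theorem N6206 : nd 6206 = n7090 := ndS (p := 3551) (l := 2) rfl N3551 D7090
theorem N6207 : nd 6207 = n7091 := ndS (p := 3551) (l := 3) rfl N3551 D7091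
theorem N6208 : nd 6208 = n7092 := ndS (p := 3552) (l := 0) rfl N3552 D7092
theorem N6209 : nd 6209 = n7093 := ndS (p := 3552) (l := 1) rfl N3552 D7093
theorem N6210 : nd 6210 = n7094 := ndS (p := 3552) (l := 4) rfl N3552 D7094
theorem N6211 : nd 6211 = n7095 := ndS (p := 3553) (l := 1) rfl N3553 D7095
theorem N6212 : nd 6212 = n7096 := ndS (p := 3553) (l := 3) rfl N3553 D7096
theorem N6213 : nd 6213 = n7097 := ndS (p := 3553) (l := 4) rfl N3553 D7097
theorem N6214 : nd 6214 = n7098 := ndS (p := 3554) (l := 0) rfl N3554 D7098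
theorem N6215 : nd 6215 = n7099 := ndS (p := 3554) (l := 3) rfl N3554 D7099
theorem N6216 : nd 6216 = n7100 := ndS (p := 3555) (l := 0) rfl N3555 D7100
theorem N6217 : nd 6217 = n7101 := ndS (p := 3555) (l := 4) rfl N3555 D7101
theorem N6218 : nd 6218 = n7102 := ndS (p := 3557) (l := 1) rfl N3557 D7102
theorem N6219 : nd 6219 = n7103 := ndS (p := 3557) (l := 2) rfl N3557 D7103
theorem N6220 : nd 6220 = n7104 := ndS (p := 3558) (l := 3) rfl N3558 D7104
theorem N6221 : nd 6221 = n7105 := ndS (p := 3560) (l := 4) rfl N3560 D7105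
theorem N6222 : nd 6222 = n7106 := ndS (p := 3562) (l := 0) rfl N3562 D7106
theorem N6223 : nd 6223 = n7107 := ndS (p := 3563) (l := 3) rfl N3563 D7107
theorem N6224 : nd 6224 = n7108 := ndS (p := 3563) (l := 4) rfl N3563 D7108
theorem N6225 : nd 6225 = n7109 := ndS (p := 3564) (l := 3) rfl N3564 D7109
theorem N6226 : nd 6226 = n7110 := ndS (p := 3564) (l := 4) rfl N3564 D7110
theorem N6227 : nd 6227 = n7111 := ndS (p := 3565) (l := 4) rfl N3565 D7111
theorem N6228 : nd 6228 = n7112 := ndS (p := 3567) (l := 4) rfl N3567 D7112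
theorem N6229 : nd 6229 = n7113 := ndS (p := 3568) (l := 3) rfl N3568 D7113
theorem N6230 : nd 6230 = n7114 := ndS (p := 3569) (l := 0) rfl N3569 D7114
theorem N6231 : nd 6231 = n7115 := ndS (p := 3569) (l := 4) rfl N3569 D7115
theorem N6232 : nd 6232 = n7116 := ndS (p := 3570) (l := 3) rfl N3570 D7116
theorem N6233 : nd 6233 = n7117 := ndS (p := 3571) (l := 3) rfl N3571 D7117
theorem N6234 : nd 6234 = n7118 := ndS (p := 3571) (l := 4) rfl N3571 D7118
theorem N6235 : nd 6235 = n7119 := ndS (p := 3572) (l := 2) rfl N3572 D7119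
theorem N6236 : nd 6236 = n7120 := ndS (p := 3573) (l := 1) rfl N3573 D7120
theorem N6237 : nd 6237 = n7121 := ndS (p := 3573) (l := 3) rfl N3573 D7121
theorem N6238 : nd 6238 = n7122 := ndS (p := 3574) (l := 0) rfl N3574 D7122
theorem N6239 : nd 6239 = n7123 := ndS (p := 3575) (l := 3) rfl N3575 D7123
theorem N6240 : nd 6240 = n7124 := ndS (p := 3575) (l := 4) rfl N3575 D7124
theorem N6241 : nd 6241 = n7125 := ndS (p := 3577) (l := 2) rfl N3577 D7125
theorem N6242 : nd 6242 = n7126 := ndS (p := 3578) (l := 0) rfl N3578 D7126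
theorem N6243 : nd 6243 = n7127 := ndS (p := 3578) (l := 1) rfl N3578 D7127
theorem N6244 : nd 6244 = n7128 := ndS (p := 3578) (l := 4) rfl N3578 D7128
theorem N6245 : nd 6245 = n7129 := ndS (p := 3579) (l := 1) rfl N3579 D7129
theorem N6246 : nd 6246 = n7130 := ndS (p := 3579) (l := 4) rfl N3579 D7130
theorem N6247 : nd 6247 = n7131 := ndS (p := 3580) (l := 0) rfl N3580 D7131
theorem N6248 : nd 6248 = n7132 := ndS (p := 3580) (l := 2) rfl N3580 D7132
theorem N6249 : nd 6249 = n7133 := ndS (p := 3580) (l := 3) rfl N3580 D7133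
theorem N6250 : nd 6250 = n7134 := ndS (p := 3580) (l := 4) rfl N3580 D7134
theorem N6251 : nd 6251 = n7135 := ndS (p := 3581) (l := 0) rfl N3581 D7135
theorem N6252 : nd 6252 = n7136 := ndS (p := 3581) (l := 4) rfl N3581 D7136
theorem N6253 : nd 6253 = n7138 := ndS (p := 3583) (l := 2) rfl N3583 D7138
theorem N6254 : nd 6254 = n7139 := ndS (p := 3584) (l := 3) rfl N3584 D7139
theorem N6255 : nd 6255 = n7140 := ndS (p := 3584) (l := 4) rfl N3584 D7140
theorem N6256 : nd 6256 = n7141 := ndS (p := 3585) (l := 3) rfl N3585 D7141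
theorem N6257 : nd 6257 = n7142 := ndS (p := 3586) (l := 4) rfl N3586 D7142
theorem N6258 : nd 6258 = n7143 := ndS (p := 3587) (l := 2) rfl N3587 D7143
theorem N6259 : nd 6259 = n7144 := ndS (p := 3587) (l := 3) rfl N3587 D7144
theorem N6260 : nd 6260 = n7145 := ndS (p := 3588) (l := 4) rfl N3588 D7145
theorem N6261 : nd 6261 = n7146 := ndS (p := 3589) (l := 3) rfl N3589 D7146
theorem N6262 : nd 6262 = n7147 := ndS (p := 3590) (l := 2) rfl N3590 D7147
theorem N6263 : nd 6263 = n7148 := ndS (p := 3591) (l := 3) rfl N3591 D7148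
theorem N6264 : nd 6264 = n7149 := ndS (p := 3592) (l := 0) rfl N3592 D7149
theorem N6265 : nd 6265 = n7150 := ndS (p := 3593) (l := 2) rfl N3593 D7150
theorem N6266 : nd 6266 = n7151 := ndS (p := 3593) (l := 3) rfl N3593 D7151
theorem N6267 : nd 6267 = n7152 := ndS (p := 3593) (l := 4) rfl N3593 D7152
theorem N6268 : nd 6268 = n7153 := ndS (p := 3594) (l := 3) rfl N3594 D7153
theorem N6269 : nd 6269 = n7154 := ndS (p := 3594) (l := 4) rfl N3594 D7154
theorem N6270 : nd 6270 = n7155 := ndS (p := 3597) (l := 0) rfl N3597 D7155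
theorem N6271 : nd 6271 = n7156 := ndS (p := 3598) (l := 2) rfl N3598 D7156
theorem N6272 : nd 6272 = n7157 := ndS (p := 3598) (l := 3) rfl N3598 D7157
theorem N6273 : nd 6273 = n7158 := ndS (p := 3598) (l := 4) rfl N3598 D7158
theorem N6274 : nd 6274 = n7159 := ndS (p := 3602) (l := 0) rfl N3602 D7159
theorem N6275 : nd 6275 = n7160 := ndS (p := 3602) (l := 2) rfl N3602 D7160
theorem N6276 : nd 6276 = n7161 := ndS (p := 3602) (l := 3) rfl N3602 D7161
theorem N6277 : nd 6277 = n7162 := ndS (p := 3602) (l := 4) rfl N3602 D7162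
theorem N6278 : nd 6278 = n7163 := ndS (p := 3605) (l := 0) rfl N3605 D7163
theorem N6279 : nd 6279 = n7164 := ndS (p := 3605) (l := 1) rfl N3605 D7164
theorem N6280 : nd 6280 = n7165 := ndS (p := 3605) (l := 4) rfl N3605 D7165
theorem N6281 : nd 6281 = n7166 := ndS (p := 3606) (l := 1) rfl N3606 D7166
theorem N6282 : nd 6282 = n7167 := ndS (p := 3607) (l := 3) rfl N3607 D7167
theorem N6283 : nd 6283 = n7168 := ndS (p := 3609) (l := 1) rfl N3609 D7168
theorem N6284 : nd 6284 = n7169 := ndS (p := 3609) (l := 3) rfl N3609 D7169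
theorem N6285 : nd 6285 = n7170 := ndS (p := 3609) (l := 4) rfl N3609 D7170
theorem N6286 : nd 6286 = n7171 := ndS (p := 3610) (l := 0) rfl N3610 D7171
theorem N6287 : nd 6287 = n7172 := ndS (p := 3611) (l := 2) rfl N3611 D7172
theorem N6288 : nd 6288 = n7173 := ndS (p := 3612) (l := 1) rfl N3612 D7173
theorem N6289 : nd 6289 = n7174 := ndS (p := 3612) (l := 2) rfl N3612 D7174
theorem N6290 : nd 6290 = n7175 := ndS (p := 3612) (l := 3) rfl N3612 D7175
theorem N6291 : nd 6291 = n7176 := ndS (p := 3612) (l := 4) rfl N3612 D7176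
theorem N6292 : nd 6292 = n7177 := ndS (p := 3613) (l := 4) rfl N3613 D7177
theorem N6293 : nd 6293 = n7178 := ndS (p := 3614) (l := 2) rfl N3614 D7178
theorem N6294 : nd 6294 = n7179 := ndS (p := 3615) (l := 0) rfl N3615 D7179
theorem N6295 : nd 6295 = n7180 := ndS (p := 3615) (l := 1) rfl N3615 D7180
theorem N6296 : nd 6296 = n7181 := ndS (p := 3615) (l := 4) rfl N3615 D7181
theorem N6297 : nd 6297 = n7182 := ndS (p := 3616) (l := 0) rfl N3616 D7182
theorem N6298 : nd 6298 = n7183 := ndS (p := 3617) (l := 4) rfl N3617 D7183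
theorem N6299 : nd 6299 = n7184 := ndS (p := 3619) (l := 0) rfl N3619 D7184
theorem N6300 : nd 6300 = n7185 := ndS (p := 3620) (l := 0) rfl N3620 D7185
theorem N6301 : nd 6301 = n7186 := ndS (p := 3621) (l := 2) rfl N3621 D7186
theorem N6302 : nd 6302 = n7187 := ndS (p := 3621) (l := 3) rfl N3621 D7187
theorem N6303 : nd 6303 = n7188 := ndS (p := 3621) (l := 4) rfl N3621 D7188
theorem N6304 : nd 6304 = n7189 := ndS (p := 3622) (l := 2) rfl N3622 D7189
theorem N6305 : nd 6305 = n7190 := ndS (p := 3623) (l := 3) rfl N3623 D7190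
theorem N6306 : nd 6306 = n7191 := ndS (p := 3623) (l := 4) rfl N3623 D7191
theorem N6307 : nd 6307 = n7192 := ndS (p := 3624) (l := 0) rfl N3624 D7192
theorem N6308 : nd 6308 = n7193 := ndS (p := 3625) (l := 4) rfl N3625 D7193
theorem N6309 : nd 6309 = n7194 := ndS (p := 3626) (l := 1) rfl N3626 D7194
theorem N6310 : nd 6310 = n7195 := ndS (p := 3626) (l := 3) rfl N3626 D7195
theorem N6311 : nd 6311 = n7196 := ndS (p := 3626) (l := 4) rfl N3626 D7196
theorem N6312 : nd 6312 = n7197 := ndS (p := 3627) (l := 4) rfl N3627 D7197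
theorem N6313 : nd 6313 = n7198 := ndS (p := 3628) (l := 2) rfl N3628 D7198
theorem N6314 : nd 6314 = n7199 := ndS (p := 3628) (l := 3) rfl N3628 D7199
theorem N6315 : nd 6315 = n7200 := ndS (p := 3629) (l := 0) rfl N3629 D7200
theorem N6316 : nd 6316 = n7201 := ndS (p := 3629) (l := 1) rfl N3629 D7201
theorem N6317 : nd 6317 = n7202 := ndS (p := 3629) (l := 4) rfl N3629 D7202
theorem N6318 : nd 6318 = n7203 := ndS (p := 3630) (l := 3) rfl N3630 D7203
theorem N6319 : nd 6319 = n7204 := ndS (p := 3631) (l := 0) rfl N3631 D7204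
theorem N6320 : nd 6320 = n7205 := ndS (p := 3631) (l := 3) rfl N3631 D7205
theorem N6321 : nd 6321 = n7206 := ndS (p := 3631) (l := 4) rfl N3631 D7206
theorem N6322 : nd 6322 = n7207 := ndS (p := 3632) (l := 0) rfl N3632 D7207
theorem N6323 : nd 6323 = n7208 := ndS (p := 3632) (l := 4) rfl N3632 D7208
theorem N6324 : nd 6324 = n7210 := ndS (p := 3634) (l := 1) rfl N3634 D7210
theorem N6325 : nd 6325 = n7211 := ndS (p := 3634) (l := 2) rfl N3634 D7211
theorem N6326 : nd 6326 = n7212 := ndS (p := 3635) (l := 0) rfl N3635 D7212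
theorem N6327 : nd 6327 = n7213 := ndS (p := 3635) (l := 4) rfl N3635 D7213
theorem N6328 : nd 6328 = n7214 := ndS (p := 3636) (l := 3) rfl N3636 D7214
theorem N6329 : nd 6329 = n7215 := ndS (p := 3637) (l := 4) rfl N3637 D7215
theorem N6330 : nd 6330 = n7216 := ndS (p := 3638) (l := 3) rfl N3638 D7216
theorem N6331 : nd 6331 = n7218 := ndS (p := 3640) (l := 0) rfl N3640 D7218
theorem N6332 : nd 6332 = n7219 := ndS (p := 3643) (l := 0) rfl N3643 D7219
theorem N6333 : nd 6333 = n7220 := ndS (p := 3643) (l := 3) rfl N3643 D7220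
theorem N6334 : nd 6334 = n7221 := ndS (p := 3643) (l := 4) rfl N3643 D7221
theorem N6335 : nd 6335 = n7222 := ndS (p := 3644) (l := 3) rfl N3644 D7222
theorem N6336 : nd 6336 = n7223 := ndS (p := 3644) (l := 4) rfl N3644 D7223
theorem N6337 : nd 6337 = n7224 := ndS (p := 3645) (l := 4) rfl N3645 D7224
theorem N6338 : nd 6338 = n7225 := ndS (p := 3646) (l := 2) rfl N3646 D7225
theorem N6339 : nd 6339 = n7226 := ndS (p := 3646) (l := 3) rfl N3646 D7226
theorem N6340 : nd 6340 = n7227 := ndS (p := 3647) (l := 0) rfl N3647 D7227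
theorem N6341 : nd 6341 = n7228 := ndS (p := 3647) (l := 1) rfl N3647 D7228
theorem N6342 : nd 6342 = n7229 := ndS (p := 3647) (l := 4) rfl N3647 D7229
theorem N6343 : nd 6343 = n7230 := ndS (p := 3648) (l := 0) rfl N3648 D7230
theorem N6344 : nd 6344 = n7231 := ndS (p := 3648) (l := 4) rfl N3648 D7231
theorem N6345 : nd 6345 = n7232 := ndS (p := 3650) (l := 1) rfl N3650 D7232
theorem N6346 : nd 6346 = n7233 := ndS (p := 3653) (l := 2) rfl N3653 D7233
theorem N6347 : nd 6347 = n7234 := ndS (p := 3654) (l := 4) rfl N3654 D7234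
theorem N6348 : nd 6348 = n7235 := ndS (p := 3655) (l := 4) rfl N3655 D7235
theorem N6349 : nd 6349 = n7236 := ndS (p := 3656) (l := 3) rfl N3656 D7236
theorem N6350 : nd 6350 = n7237 := ndS (p := 3657) (l := 2) rfl N3657 D7237
theorem N6351 : nd 6351 = n7238 := ndS (p := 3658) (l := 0) rfl N3658 D7238
theorem N6352 : nd 6352 = n7239 := ndS (p := 3658) (l := 1) rfl N3658 D7239
theorem N6353 : nd 6353 = n7240 := ndS (p := 3658) (l := 3) rfl N3658 D7240
theorem N6354 : nd 6354 = n7241 := ndS (p := 3658) (l := 4) rfl N3658 D7241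
theorem N6355 : nd 6355 = n7242 := ndS (p := 3660) (l := 1) rfl N3660 D7242
theorem N6356 : nd 6356 = n7243 := ndS (p := 3660) (l := 3) rfl N3660 D7243
theorem N6357 : nd 6357 = n7244 := ndS (p := 3660) (l := 4) rfl N3660 D7244
theorem N6358 : nd 6358 = n7245 := ndS (p := 3663) (l := 4) rfl N3663 D7245
theorem N6359 : nd 6359 = n7246 := ndS (p := 3664) (l := 3) rfl N3664 D7246
theorem N6360 : nd 6360 = n7247 := ndS (p := 3666) (l := 2) rfl N3666 D7247
theorem N6361 : nd 6361 = n7248 := ndS (p := 3666) (l := 3) rfl N3666 D7248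
theorem N6362 : nd 6362 = n7249 := ndS (p := 3666) (l := 4) rfl N3666 D7249
theorem N6363 : nd 6363 = n7250 := ndS (p := 3669) (l := 1) rfl N3669 D7250
theorem N6364 : nd 6364 = n7251 := ndS (p := 3669) (l := 4) rfl N3669 D7251
theorem N6365 : nd 6365 = n7252 := ndS (p := 3670) (l := 3) rfl N3670 D7252
theorem N6366 : nd 6366 = n7253 := ndS (p := 3671) (l := 0) rfl N3671 D7253
theorem N6367 : nd 6367 = n7254 := ndS (p := 3675) (l := 4) rfl N3675 D7254
theorem N6368 : nd 6368 = n7255 := ndS (p := 3677) (l := 4) rfl N3677 D7255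
theorem N6369 : nd 6369 = n7256 := ndS (p := 3679) (l := 2) rfl N3679 D7256
theorem N6370 : nd 6370 = n7257 := ndS (p := 3681) (l := 0) rfl N3681 D7257
theorem N6371 : nd 6371 = n7258 := ndS (p := 3682) (l := 3) rfl N3682 D7258
theorem N6372 : nd 6372 = n7259 := ndS (p := 3685) (l := 4) rfl N3685 D7259
theorem N6373 : nd 6373 = n7260 := ndS (p := 3686) (l := 4) rfl N3686 D7260
theorem N6374 : nd 6374 = n7261 := ndS (p := 3689) (l := 0) rfl N3689 D7261
theorem N6375 : nd 6375 = n7262 := ndS (p := 3689) (l := 1) rfl N3689 D7262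
theorem N6376 : nd 6376 = n7263 := ndS (p := 3690) (l := 0) rfl N3690 D7263
theorem N6377 : nd 6377 = n7264 := ndS (p := 3690) (l := 2) rfl N3690 D7264
theorem N6378 : nd 6378 = n7265 := ndS (p := 3690) (l := 3) rfl N3690 D7265
theorem N6379 : nd 6379 = n7266 := ndS (p := 3691) (l := 0) rfl N3691 D7266
theorem N6380 : nd 6380 = n7267 := ndS (p := 3691) (l := 4) rfl N3691 D7267
theorem N6381 : nd 6381 = n7268 := ndS (p := 3692) (l := 1) rfl N3692 D7268
theorem N6382 : nd 6382 = n7269 := ndS (p := 3693) (l := 4) rfl N3693 D7269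
theorem N6383 : nd 6383 = n7270 := ndS (p := 3695) (l := 0) rfl N3695 D7270
theorem N6384 : nd 6384 = n7271 := ndS (p := 3695) (l := 4) rfl N3695 D7271
theorem N6385 : nd 6385 = n7272 := ndS (p := 3698) (l := 1) rfl N3698 D7272
theorem N6386 : nd 6386 = n7273 := ndS (p := 3699) (l := 1) rfl N3699 D7273
theorem N6387 : nd 6387 = n7274 := ndS (p := 3699) (l := 4) rfl N3699 D7274
theorem N6388 : nd 6388 = n7275 := ndS (p := 3700) (l := 0) rfl N3700 D7275
theorem N6389 : nd 6389 = n7276 := ndS (p := 3700) (l := 2) rfl N3700 D7276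
theorem N6390 : nd 6390 = n7277 := ndS (p := 3700) (l := 4) rfl N3700 D7277
theorem N6391 : nd 6391 = n7278 := ndS (p := 3703) (l := 3) rfl N3703 D7278
theorem N6392 : nd 6392 = n7279 := ndS (p := 3704) (l := 3) rfl N3704 D7279
theorem N6393 : nd 6393 = n7280 := ndS (p := 3705) (l := 3) rfl N3705 D7280
theorem N6394 : nd 6394 = n7281 := ndS (p := 3706) (l := 0) rfl N3706 D7281
theorem N6395 : nd 6395 = n7282 := ndS (p := 3706) (l := 4) rfl N3706 D7282
theorem N6396 : nd 6396 = n7283 := ndS (p := 3708) (l := 1) rfl N3708 D7283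
theorem N6397 : nd 6397 = n7284 := ndS (p := 3708) (l := 2) rfl N3708 D7284
theorem N6398 : nd 6398 = n7285 := ndS (p := 3708) (l := 4) rfl N3708 D7285
theorem N6399 : nd 6399 = n7286 := ndS (p := 3710) (l := 0) rfl N3710 D7286
theorem N6400 : nd 6400 = n7287 := ndS (p := 3711) (l := 1) rfl N3711 D7287
theorem N6401 : nd 6401 = n7288 := ndS (p := 3711) (l := 4) rfl N3711 D7288
theorem N6402 : nd 6402 = n7289 := ndS (p := 3712) (l := 4) rfl N3712 D7289
theorem N6403 : nd 6403 = n7290 := ndS (p := 3713) (l := 4) rfl N3713 D7290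
theorem N6404 : nd 6404 = n7291 := ndS (p := 3715) (l := 0) rfl N3715 D7291
theorem N6405 : nd 6405 = n7292 := ndS (p := 3718) (l := 1) rfl N3718 D7292
theorem N6406 : nd 6406 = n7293 := ndS (p := 3719) (l := 3) rfl N3719 D7293
theorem N6407 : nd 6407 = n7294 := ndS (p := 3719) (l := 4) rfl N3719 D7294
theorem N6408 : nd 6408 = n7295 := ndS (p := 3720) (l := 0) rfl N3720 D7295
theorem N6409 : nd 6409 = n7296 := ndS (p := 3720) (l := 3) rfl N3720 D7296
theorem N6410 : nd 6410 = n7297 := ndS (p := 3722) (l := 2) rfl N3722 D7297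
theorem N6411 : nd 6411 = n7298 := ndS (p := 3723) (l := 0) rfl N3723 D7298
theorem N6412 : nd 6412 = n7299 := ndS (p := 3723) (l := 3) rfl N3723 D7299
theorem N6413 : nd 6413 = n7300 := ndS (p := 3723) (l := 4) rfl N3723 D7300
theorem N6414 : nd 6414 = n7301 := ndS (p := 3726) (l := 1) rfl N3726 D7301
theorem N6415 : nd 6415 = n7302 := ndS (p := 3727) (l := 1) rfl N3727 D7302
theorem N6416 : nd 6416 = n7303 := ndS (p := 3728) (l := 3) rfl N3728 D7303
theorem N6417 : nd 6417 = n7304 := ndS (p := 3730) (l := 2) rfl N3730 D7304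
theorem N6418 : nd 6418 = n7305 := ndS (p := 3733) (l := 4) rfl N3733 D7305
theorem N6419 : nd 6419 = n7306 := ndS (p := 3734) (l := 3) rfl N3734 D7306
theorem N6420 : nd 6420 = n7307 := ndS (p := 3734) (l := 4) rfl N3734 D7307
theorem N6421 : nd 6421 = n7308 := ndS (p := 3735) (l := 0) rfl N3735 D7308
theorem N6422 : nd 6422 = n7309 := ndS (p := 3736) (l := 2) rfl N3736 D7309
theorem N6423 : nd 6423 = n7310 := ndS (p := 3737) (l := 1) rfl N3737 D7310
theorem N6424 : nd 6424 = n7311 := ndS (p := 3738) (l := 0) rfl N3738 D7311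
theorem N6425 : nd 6425 = n7312 := ndS (p := 3738) (l := 2) rfl N3738 D7312
theorem N6426 : nd 6426 = n7313 := ndS (p := 3738) (l := 4) rfl N3738 D7313
theorem N6427 : nd 6427 = n7314 := ndS (p := 3740) (l := 0) rfl N3740 D7314
theorem N6428 : nd 6428 = n7315 := ndS (p := 3740) (l := 2) rfl N3740 D7315
theorem N6429 : nd 6429 = n7316 := ndS (p := 3740) (l := 3) rfl N3740 D7316
theorem N6430 : nd 6430 = n7317 := ndS (p := 3742) (l := 4) rfl N3742 D7317
theorem N6431 : nd 6431 = n7318 := ndS (p := 3744) (l := 2) rfl N3744 D7318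
theorem N6432 : nd 6432 = n7319 := ndS (p := 3744) (l := 4) rfl N3744 D7319
theorem N6433 : nd 6433 = n7320 := ndS (p := 3746) (l := 2) rfl N3746 D7320
theorem N6434 : nd 6434 = n7321 := ndS (p := 3747) (l := 2) rfl N3747 D7321
theorem N6435 : nd 6435 = n7322 := ndS (p := 3748) (l := 0) rfl N3748 D7322
theorem N6436 : nd 6436 = n7323 := ndS (p := 3748) (l := 1) rfl N3748 D7323
theorem N6437 : nd 6437 = n7324 := ndS (p := 3748) (l := 4) rfl N3748 D7324
theorem N6438 : nd 6438 = n7325 := ndS (p := 3749) (l := 4) rfl N3749 D7325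
theorem N6439 : nd 6439 = n7326 := ndS (p := 3750) (l := 4) rfl N3750 D7326
theorem N6440 : nd 6440 = n7327 := ndS (p := 3753) (l := 4) rfl N3753 D7327
theorem N6441 : nd 6441 = n7328 := ndS (p := 3757) (l := 1) rfl N3757 D7328
theorem N6442 : nd 6442 = n7329 := ndS (p := 3757) (l := 2) rfl N3757 D7329
theorem N6443 : nd 6443 = n7330 := ndS (p := 3757) (l := 3) rfl N3757 D7330
theorem N6444 : nd 6444 = n7331 := ndS (p := 3758) (l := 4) rfl N3758 D7331
theorem N6445 : nd 6445 = n7332 := ndS (p := 3759) (l := 4) rfl N3759 D7332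
theorem N6446 : nd 6446 = n7333 := ndS (p := 3760) (l := 1) rfl N3760 D7333
theorem N6447 : nd 6447 = n7334 := ndS (p := 3760) (l := 3) rfl N3760 D7334
theorem N6448 : nd 6448 = n7335 := ndS (p := 3760) (l := 4) rfl N3760 D7335
theorem N6449 : nd 6449 = n7336 := ndS (p := 3761) (l := 0) rfl N3761 D7336
theorem N6450 : nd 6450 = n7337 := ndS (p := 3761) (l := 4) rfl N3761 D7337
theorem N6451 : nd 6451 = n7338 := ndS (p := 3764) (l := 4) rfl N3764 D7338
theorem N6452 : nd 6452 = n7339 := ndS (p := 3765) (l := 2) rfl N3765 D7339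
theorem N6453 : nd 6453 = n7340 := ndS (p := 3766) (l := 4) rfl N3766 D7340
theorem N6454 : nd 6454 = n7341 := ndS (p := 3768) (l := 4) rfl N3768 D7341
theorem N6455 : nd 6455 = n7342 := ndS (p := 3772) (l := 2) rfl N3772 D7342
theorem N6456 : nd 6456 = n7343 := ndS (p := 3773) (l := 4) rfl N3773 D7343
theorem N6457 : nd 6457 = n7344 := ndS (p := 3774) (l := 2) rfl N3774 D7344
theorem N6458 : nd 6458 = n7345 := ndS (p := 3775) (l := 4) rfl N3775 D7345
theorem N6459 : nd 6459 = n7346 := ndS (p := 3780) (l := 2) rfl N3780 D7346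
theorem N6460 : nd 6460 = n7347 := ndS (p := 3782) (l := 3) rfl N3782 D7347
theorem N6461 : nd 6461 = n7348 := ndS (p := 3784) (l := 2) rfl N3784 D7348
theorem N6462 : nd 6462 = n7349 := ndS (p := 3785) (l := 4) rfl N3785 D7349
theorem N6463 : nd 6463 = n7350 := ndS (p := 3786) (l := 3) rfl N3786 D7350
theorem N6464 : nd 6464 = n7351 := ndS (p := 3786) (l := 4) rfl N3786 D7351
theorem N6465 : nd 6465 = n7352 := ndS (p := 3787) (l := 0) rfl N3787 D7352
theorem N6466 : nd 6466 = n7354 := ndS (p := 3788) (l := 2) rfl N3788 D7354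
theorem N6467 : nd 6467 = n7356 := ndS (p := 3789) (l := 2) rfl N3789 D7356
theorem N6468 : nd 6468 = n7357 := ndS (p := 3790) (l := 0) rfl N3790 D7357
theorem N6469 : nd 6469 = n7358 := ndS (p := 3790) (l := 1) rfl N3790 D7358
theorem N6470 : nd 6470 = n7359 := ndS (p := 3790) (l := 4) rfl N3790 D7359
theorem N6471 : nd 6471 = n7360 := ndS (p := 3791) (l := 4) rfl N3791 D7360
theorem N6472 : nd 6472 = n7361 := ndS (p := 3794) (l := 1) rfl N3794 D7361
theorem N6473 : nd 6473 = n7362 := ndS (p := 3794) (l := 4) rfl N3794 D7362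
theorem N6474 : nd 6474 = n7363 := ndS (p := 3795) (l := 1) rfl N3795 D7363
theorem N6475 : nd 6475 = n7364 := ndS (p := 3795) (l := 3) rfl N3795 D7364
theorem N6476 : nd 6476 = n7365 := ndS (p := 3795) (l := 4) rfl N3795 D7365
theorem N6477 : nd 6477 = n7366 := ndS (p := 3798) (l := 2) rfl N3798 D7366
theorem N6478 : nd 6478 = n7367 := ndS (p := 3799) (l := 0) rfl N3799 D7367
theorem N6479 : nd 6479 = n7368 := ndS (p := 3799) (l := 1) rfl N3799 D7368
theorem N6480 : nd 6480 = n7370 := ndS (p := 3800) (l := 1) rfl N3800 D7370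
theorem N6481 : nd 6481 = n7371 := ndS (p := 3801) (l := 4) rfl N3801 D7371
theorem N6482 : nd 6482 = n7372 := ndS (p := 3802) (l := 3) rfl N3802 D7372
theorem N6483 : nd 6483 = n7373 := ndS (p := 3803) (l := 3) rfl N3803 D7373
theorem N6484 : nd 6484 = n7374 := ndS (p := 3804) (l := 4) rfl N3804 D7374
theorem N6485 : nd 6485 = n7375 := ndS (p := 3805) (l := 1) rfl N3805 D7375
theorem N6486 : nd 6486 = n7376 := ndS (p := 3805) (l := 3) rfl N3805 D7376
theorem N6487 : nd 6487 = n7377 := ndS (p := 3805) (l := 4) rfl N3805 D7377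
theorem N6488 : nd 6488 = n7378 := ndS (p := 3806) (l := 4) rfl N3806 D7378
theorem N6489 : nd 6489 = n7379 := ndS (p := 3807) (l := 3) rfl N3807 D7379
theorem N6490 : nd 6490 = n7380 := ndS (p := 3808) (l := 4) rfl N3808 D7380
theorem N6491 : nd 6491 = n7382 := ndS (p := 3812) (l := 4) rfl N3812 D7382
theorem N6492 : nd 6492 = n7383 := ndS (p := 3817) (l := 0) rfl N3817 D7383
theorem N6493 : nd 6493 = n7384 := ndS (p := 3817) (l := 2) rfl N3817 D7384
theorem N6494 : nd 6494 = n7385 := ndS (p := 3818) (l := 4) rfl N3818 D7385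
theorem N6495 : nd 6495 = n7386 := ndS (p := 3819) (l := 2) rfl N3819 D7386
theorem N6496 : nd 6496 = n7387 := ndS (p := 3819) (l := 3) rfl N3819 D7387
theorem N6497 : nd 6497 = n7388 := ndS (p := 3820) (l := 3) rfl N3820 D7388
theorem N6498 : nd 6498 = n7389 := ndS (p := 3820) (l := 4) rfl N3820 D7389
theorem N6499 : nd 6499 = n7390 := ndS (p := 3821) (l := 0) rfl N3821 D7390
theorem N6500 : nd 6500 = n7391 := ndS (p := 3821) (l := 4) rfl N3821 D7391
theorem N6501 : nd 6501 = n7392 := ndS (p := 3822) (l := 0) rfl N3822 D7392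
theorem N6502 : nd 6502 = n7393 := ndS (p := 3822) (l := 3) rfl N3822 D7393
theorem N6503 : nd 6503 = n7394 := ndS (p := 3822) (l := 4) rfl N3822 D7394
theorem N6504 : nd 6504 = n7395 := ndS (p := 3823) (l := 4) rfl N3823 D7395
theorem N6505 : nd 6505 = n7396 := ndS (p := 3824) (l := 0) rfl N3824 D7396
theorem N6506 : nd 6506 = n7397 := ndS (p := 3824) (l := 4) rfl N3824 D7397
theorem N6507 : nd 6507 = n7399 := ndS (p := 3827) (l := 2) rfl N3827 D7399
theorem N6508 : nd 6508 = n7400 := ndS (p := 3827) (l := 3) rfl N3827 D7400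
theorem N6509 : nd 6509 = n7401 := ndS (p := 3828) (l := 0) rfl N3828 D7401
theorem N6510 : nd 6510 = n7402 := ndS (p := 3828) (l := 1) rfl N3828 D7402
theorem N6511 : nd 6511 = n7403 := ndS (p := 3828) (l := 3) rfl N3828 D7403
theorem N6512 : nd 6512 = n7404 := ndS (p := 3828) (l := 4) rfl N3828 D7404
theorem N6513 : nd 6513 = n7405 := ndS (p := 3829) (l := 4) rfl N3829 D7405
theorem N6514 : nd 6514 = n7406 := ndS (p := 3830) (l := 0) rfl N3830 D7406
theorem N6515 : nd 6515 = n7407 := ndS (p := 3830) (l := 3) rfl N3830 D7407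
theorem N6516 : nd 6516 = n7408 := ndS (p := 3831) (l := 0) rfl N3831 D7408
theorem N6517 : nd 6517 = n7409 := ndS (p := 3831) (l := 4) rfl N3831 D7409
theorem N6518 : nd 6518 = n7410 := ndS (p := 3833) (l := 2) rfl N3833 D7410
theorem N6519 : nd 6519 = n7411 := ndS (p := 3833) (l := 4) rfl N3833 D7411
theorem N6520 : nd 6520 = n7412 := ndS (p := 3835) (l := 3) rfl N3835 D7412
theorem N6521 : nd 6521 = n7413 := ndS (p := 3836) (l := 1) rfl N3836 D7413
theorem N6522 : nd 6522 = n7414 := ndS (p := 3836) (l := 3) rfl N3836 D7414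
theorem N6523 : nd 6523 = n7415 := ndS (p := 3836) (l := 4) rfl N3836 D7415
theorem N6524 : nd 6524 = n7418 := ndS (p := 3838) (l := 4) rfl N3838 D7418
theorem N6525 : nd 6525 = n7419 := ndS (p := 3839) (l := 0) rfl N3839 D7419
theorem N6526 : nd 6526 = n7420 := ndS (p := 3839) (l := 3) rfl N3839 D7420
theorem N6527 : nd 6527 = n7421 := ndS (p := 3840) (l := 4) rfl N3840 D7421
theorem N6528 : nd 6528 = n7422 := ndS (p := 3843) (l := 0) rfl N3843 D7422
theorem N6529 : nd 6529 = n7423 := ndS (p := 3844) (l := 4) rfl N3844 D7423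
theorem N6530 : nd 6530 = n7424 := ndS (p := 3846) (l := 1) rfl N3846 D7424
theorem N6531 : nd 6531 = n7425 := ndS (p := 3846) (l := 4) rfl N3846 D7425
theorem N6532 : nd 6532 = n7426 := ndS (p := 3847) (l := 2) rfl N3847 D7426
theorem N6533 : nd 6533 = n7427 := ndS (p := 3848) (l := 2) rfl N3848 D7427
theorem N6534 : nd 6534 = n7428 := ndS (p := 3848) (l := 3) rfl N3848 D7428
theorem N6535 : nd 6535 = n7429 := ndS (p := 3849) (l := 4) rfl N3849 D7429
theorem N6536 : nd 6536 = n7430 := ndS (p := 3850) (l := 4) rfl N3850 D7430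
theorem N6537 : nd 6537 = n7431 := ndS (p := 3851) (l := 2) rfl N3851 D7431
theorem N6538 : nd 6538 = n7432 := ndS (p := 3851) (l := 3) rfl N3851 D7432
theorem N6539 : nd 6539 = n7433 := ndS (p := 3852) (l := 4) rfl N3852 D7433
theorem N6540 : nd 6540 = n7434 := ndS (p := 3853) (l := 2) rfl N3853 D7434
theorem N6541 : nd 6541 = n7435 := ndS (p := 3854) (l := 0) rfl N3854 D7435
theorem N6542 : nd 6542 = n7436 := ndS (p := 3854) (l := 1) rfl N3854 D7436
theorem N6543 : nd 6543 = n7437 := ndS (p := 3854) (l := 3) rfl N3854 D7437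
theorem N6544 : nd 6544 = n7438 := ndS (p := 3854) (l := 4) rfl N3854 D7438
theorem N6545 : nd 6545 = n7439 := ndS (p := 3855) (l := 0) rfl N3855 D7439
theorem N6546 : nd 6546 = n7440 := ndS (p := 3855) (l := 4) rfl N3855 D7440
theorem N6547 : nd 6547 = n7441 := ndS (p := 3856) (l := 2) rfl N3856 D7441
theorem N6548 : nd 6548 = n7442 := ndS (p := 3856) (l := 4) rfl N3856 D7442
theorem N6549 : nd 6549 = n7443 := ndS (p := 3857) (l := 4) rfl N3857 D7443
theorem N6550 : nd 6550 = n7444 := ndS (p := 3858) (l := 2) rfl N3858 D7444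
theorem N6551 : nd 6551 = n7445 := ndS (p := 3860) (l := 4) rfl N3860 D7445
theorem N6552 : nd 6552 = n7446 := ndS (p := 3862) (l := 0) rfl N3862 D7446
theorem N6553 : nd 6553 = n7447 := ndS (p := 3862) (l := 2) rfl N3862 D7447
theorem N6554 : nd 6554 = n7448 := ndS (p := 3866) (l := 0) rfl N3866 D7448
theorem N6555 : nd 6555 = n7449 := ndS (p := 3866) (l := 2) rfl N3866 D7449
theorem N6556 : nd 6556 = n7450 := ndS (p := 3868) (l := 0) rfl N3868 D7450
theorem N6557 : nd 6557 = n7451 := ndS (p := 3868) (l := 2) rfl N3868 D7451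
theorem N6558 : nd 6558 = n7452 := ndS (p := 3871) (l := 2) rfl N3871 D7452
theorem N6559 : nd 6559 = n7453 := ndS (p := 3871) (l := 4) rfl N3871 D7453
theorem N6560 : nd 6560 = n7454 := ndS (p := 3872) (l := 0) rfl N3872 D7454
theorem N6561 : nd 6561 = n7455 := ndS (p := 3872) (l := 1) rfl N3872 D7455
theorem N6562 : nd 6562 = n7456 := ndS (p := 3872) (l := 4) rfl N3872 D7456
theorem N6563 : nd 6563 = n7457 := ndS (p := 3873) (l := 2) rfl N3873 D7457
theorem N6564 : nd 6564 = n7458 := ndS (p := 3874) (l := 0) rfl N3874 D7458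
theorem N6565 : nd 6565 = n7459 := ndS (p := 3874) (l := 2) rfl N3874 D7459
theorem N6566 : nd 6566 = n7460 := ndS (p := 3876) (l := 1) rfl N3876 D7460
theorem N6567 : nd 6567 = n7461 := ndS (p := 3877) (l := 4) rfl N3877 D7461
theorem N6568 : nd 6568 = n7462 := ndS (p := 3878) (l := 2) rfl N3878 D7462
theorem N6569 : nd 6569 = n7463 := ndS (p := 3879) (l := 1) rfl N3879 D7463
theorem N6570 : nd 6570 = n7464 := ndS (p := 3879) (l := 4) rfl N3879 D7464
theorem N6571 : nd 6571 = n7465 := ndS (p := 3880) (l := 2) rfl N3880 D7465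
theorem N6572 : nd 6572 = n7466 := ndS (p := 3881) (l := 4) rfl N3881 D7466
theorem N6573 : nd 6573 = n7467 := ndS (p := 3882) (l := 2) rfl N3882 D7467
theorem N6574 : nd 6574 = n7468 := ndS (p := 3885) (l := 1) rfl N3885 D7468
theorem N6575 : nd 6575 = n7469 := ndS (p := 3885) (l := 4) rfl N3885 D7469
theorem N6576 : nd 6576 = n7470 := ndS (p := 3886) (l := 2) rfl N3886 D7470
theorem N6577 : nd 6577 = n7471 := ndS (p := 3886) (l := 4) rfl N3886 D7471
theorem N6578 : nd 6578 = n7472 := ndS (p := 3888) (l := 0) rfl N3888 D7472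
theorem N6579 : nd 6579 = n7473 := ndS (p := 3888) (l := 4) rfl N3888 D7473
theorem N6580 : nd 6580 = n7474 := ndS (p := 3889) (l := 2) rfl N3889 D7474
theorem N6581 : nd 6581 = n7475 := ndS (p := 3889) (l := 3) rfl N3889 D7475
theorem N6582 : nd 6582 = n7476 := ndS (p := 3890) (l := 4) rfl N3890 D7476
theorem N6583 : nd 6583 = n7477 := ndS (p := 3891) (l := 2) rfl N3891 D7477
theorem N6584 : nd 6584 = n7478 := ndS (p := 3891) (l := 3) rfl N3891 D7478
theorem N6585 : nd 6585 = n7479 := ndS (p := 3892) (l := 4) rfl N3892 D7479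
theorem N6586 : nd 6586 = n7480 := ndS (p := 3893) (l := 2) rfl N3893 D7480
theorem N6587 : nd 6587 = n7481 := ndS (p := 3894) (l := 1) rfl N3894 D7481
theorem N6588 : nd 6588 = n7482 := ndS (p := 3894) (l := 3) rfl N3894 D7482
theorem N6589 : nd 6589 = n7483 := ndS (p := 3894) (l := 4) rfl N3894 D7483
theorem N6590 : nd 6590 = n7484 := ndS (p := 3895) (l := 0) rfl N3895 D7484
theorem N6591 : nd 6591 = n7485 := ndS (p := 3895) (l := 4) rfl N3895 D7485
theorem N6592 : nd 6592 = n7486 := ndS (p := 3897) (l := 0) rfl N3897 D7486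
theorem N6593 : nd 6593 = n7487 := ndS (p := 3897) (l := 2) rfl N3897 D7487
theorem N6594 : nd 6594 = n7488 := ndS (p := 3897) (l := 4) rfl N3897 D7488
theorem N6595 : nd 6595 = n7489 := ndS (p := 3899) (l := 0) rfl N3899 D7489
theorem N6596 : nd 6596 = n7490 := ndS (p := 3899) (l := 2) rfl N3899 D7490
theorem N6597 : nd 6597 = n7491 := ndS (p := 3900) (l := 2) rfl N3900 D7491
theorem N6598 : nd 6598 = n7492 := ndS (p := 3900) (l := 4) rfl N3900 D7492
theorem N6599 : nd 6599 = n7493 := ndS (p := 3901) (l := 3) rfl N3901 D7493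
theorem N6600 : nd 6600 = n7494 := ndS (p := 3901) (l := 4) rfl N3901 D7494
theorem N6601 : nd 6601 = n7495 := ndS (p := 3902) (l := 0) rfl N3902 D7495
theorem N6602 : nd 6602 = n7496 := ndS (p := 3902) (l := 4) rfl N3902 D7496
theorem N6603 : nd 6603 = n7497 := ndS (p := 3905) (l := 4) rfl N3905 D7497
theorem N6604 : nd 6604 = n7498 := ndS (p := 3906) (l := 0) rfl N3906 D7498
theorem N6605 : nd 6605 = n7499 := ndS (p := 3906) (l := 1) rfl N3906 D7499
theorem N6606 : nd 6606 = n7500 := ndS (p := 3906) (l := 3) rfl N3906 D7500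
theorem N6607 : nd 6607 = n7501 := ndS (p := 3906) (l := 4) rfl N3906 D7501
theorem N6608 : nd 6608 = n7502 := ndS (p := 3907) (l := 0) rfl N3907 D7502
theorem N6609 : nd 6609 = n7503 := ndS (p := 3907) (l := 4) rfl N3907 D7503
theorem N6610 : nd 6610 = n7504 := ndS (p := 3908) (l := 2) rfl N3908 D7504
theorem N6611 : nd 6611 = n7505 := ndS (p := 3908) (l := 3) rfl N3908 D7505
theorem N6612 : nd 6612 = n7506 := ndS (p := 3911) (l := 4) rfl N3911 D7506
theorem N6613 : nd 6613 = n7507 := ndS (p := 3912) (l := 2) rfl N3912 D7507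
theorem N6614 : nd 6614 = n7508 := ndS (p := 3913) (l := 2) rfl N3913 D7508
theorem N6615 : nd 6615 = n7509 := ndS (p := 3913) (l := 4) rfl N3913 D7509
theorem N6616 : nd 6616 = n7510 := ndS (p := 3914) (l := 4) rfl N3914 D7510
theorem N6617 : nd 6617 = n7511 := ndS (p := 3915) (l := 2) rfl N3915 D7511
theorem N6618 : nd 6618 = n7512 := ndS (p := 3916) (l := 2) rfl N3916 D7512
theorem N6619 : nd 6619 = n7513 := ndS (p := 3918) (l := 2) rfl N3918 D7513
theorem N6620 : nd 6620 = n7514 := ndS (p := 3918) (l := 4) rfl N3918 D7514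
theorem N6621 : nd 6621 = n7515 := ndS (p := 3920) (l := 3) rfl N3920 D7515
theorem N6622 : nd 6622 = n7516 := ndS (p := 3921) (l := 4) rfl N3921 D7516
theorem N6623 : nd 6623 = n7517 := ndS (p := 3922) (l := 3) rfl N3922 D7517
theorem N6624 : nd 6624 = n7518 := ndS (p := 3923) (l := 2) rfl N3923 D7518
theorem N6625 : nd 6625 = n7519 := ndS (p := 3924) (l := 0) rfl N3924 D7519
theorem N6626 : nd 6626 = n7520 := ndS (p := 3925) (l := 0) rfl N3925 D7520
theorem N6627 : nd 6627 = n7521 := ndS (p := 3926) (l := 4) rfl N3926 D7521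
theorem N6628 : nd 6628 = n7522 := ndS (p := 3927) (l := 2) rfl N3927 D7522
theorem N6629 : nd 6629 = n7523 := ndS (p := 3929) (l := 4) rfl N3929 D7523
theorem N6630 : nd 6630 = n7524 := ndS (p := 3930) (l := 2) rfl N3930 D7524
theorem N6631 : nd 6631 = n7525 := ndS (p := 3932) (l := 4) rfl N3932 D7525
theorem N6632 : nd 6632 = n7526 := ndS (p := 3933) (l := 1) rfl N3933 D7526
theorem N6633 : nd 6633 = n7527 := ndS (p := 3933) (l := 3) rfl N3933 D7527
theorem N6634 : nd 6634 = n7528 := ndS (p := 3933) (l := 4) rfl N3933 D7528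
theorem N6635 : nd 6635 = n7529 := ndS (p := 3934) (l := 0) rfl N3934 D7529
theorem N6636 : nd 6636 = n7530 := ndS (p := 3935) (l := 2) rfl N3935 D7530
theorem N6637 : nd 6637 = n7531 := ndS (p := 3936) (l := 0) rfl N3936 D7531
theorem N6638 : nd 6638 = n7532 := ndS (p := 3936) (l := 2) rfl N3936 D7532
theorem N6639 : nd 6639 = n7533 := ndS (p := 3937) (l := 1) rfl N3937 D7533
theorem N6640 : nd 6640 = n7534 := ndS (p := 3937) (l := 4) rfl N3937 D7534
theorem N6641 : nd 6641 = n7535 := ndS (p := 3938) (l := 2) rfl N3938 D7535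
theorem N6642 : nd 6642 = n7536 := ndS (p := 3939) (l := 4) rfl N3939 D7536
theorem N6643 : nd 6643 = n7537 := ndS (p := 3940) (l := 2) rfl N3940 D7537
theorem N6644 : nd 6644 = n7538 := ndS (p := 3940) (l := 4) rfl N3940 D7538
theorem N6645 : nd 6645 = n7539 := ndS (p := 3942) (l := 0) rfl N3942 D7539
theorem N6646 : nd 6646 = n7540 := ndS (p := 3942) (l := 1) rfl N3942 D7540
theorem N6647 : nd 6647 = n7541 := ndS (p := 3943) (l := 2) rfl N3943 D7541
theorem N6648 : nd 6648 = n7542 := ndS (p := 3943) (l := 4) rfl N3943 D7542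
theorem N6649 : nd 6649 = n7543 := ndS (p := 3944) (l := 4) rfl N3944 D7543
theorem N6650 : nd 6650 = n7544 := ndS (p := 3946) (l := 0) rfl N3946 D7544
theorem N6651 : nd 6651 = n7545 := ndS (p := 3946) (l := 2) rfl N3946 D7545
theorem N6652 : nd 6652 = n7546 := ndS (p := 3947) (l := 4) rfl N3947 D7546
theorem N6653 : nd 6653 = n7547 := ndS (p := 3949) (l := 3) rfl N3949 D7547
theorem N6654 : nd 6654 = n7548 := ndS (p := 3950) (l := 4) rfl N3950 D7548
theorem N6655 : nd 6655 = n7549 := ndS (p := 3955) (l := 0) rfl N3955 D7549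
theorem N6656 : nd 6656 = n7550 := ndS (p := 3956) (l := 4) rfl N3956 D7550
theorem N6657 : nd 6657 = n7551 := ndS (p := 3959) (l := 2) rfl N3959 D7551
theorem N6658 : nd 6658 = n7552 := ndS (p := 3959) (l := 3) rfl N3959 D7552
theorem N6659 : nd 6659 = n7553 := ndS (p := 3960) (l := 0) rfl N3960 D7553
theorem N6660 : nd 6660 = n7554 := ndS (p := 3960) (l := 3) rfl N3960 D7554
theorem N6661 : nd 6661 = n7555 := ndS (p := 3963) (l := 2) rfl N3963 D7555
theorem N6662 : nd 6662 = n7556 := ndS (p := 3963) (l := 3) rfl N3963 D7556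
theorem N6663 : nd 6663 = n7557 := ndS (p := 3964) (l := 0) rfl N3964 D7557
theorem N6664 : nd 6664 = n7558 := ndS (p := 3965) (l := 2) rfl N3965 D7558
theorem N6665 : nd 6665 = n7559 := ndS (p := 3965) (l := 3) rfl N3965 D7559
theorem N6666 : nd 6666 = n7560 := ndS (p := 3965) (l := 4) rfl N3965 D7560
theorem N6667 : nd 6667 = n7561 := ndS (p := 3967) (l := 2) rfl N3967 D7561
theorem N6668 : nd 6668 = n7562 := ndS (p := 3968) (l := 0) rfl N3968 D7562
theorem N6669 : nd 6669 = n7563 := ndS (p := 3968) (l := 1) rfl N3968 D7563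
theorem N6670 : nd 6670 = n7564 := ndS (p := 3969) (l := 4) rfl N3969 D7564
theorem N6671 : nd 6671 = n7565 := ndS (p := 3970) (l := 3) rfl N3970 D7565
theorem N6672 : nd 6672 = n7566 := ndS (p := 3971) (l := 3) rfl N3971 D7566
theorem N6673 : nd 6673 = n7567 := ndS (p := 3972) (l := 4) rfl N3972 D7567
theorem N6674 : nd 6674 = n7568 := ndS (p := 3973) (l := 4) rfl N3973 D7568
theorem N6675 : nd 6675 = n7569 := ndS (p := 3974) (l := 1) rfl N3974 D7569
theorem N6676 : nd 6676 = n7570 := ndS (p := 3974) (l := 4) rfl N3974 D7570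
theorem N6677 : nd 6677 = n7571 := ndS (p := 3976) (l := 2) rfl N3976 D7571
theorem N6678 : nd 6678 = n7572 := ndS (p := 3976) (l := 3) rfl N3976 D7572
theorem N6679 : nd 6679 = n7573 := ndS (p := 3977) (l := 3) rfl N3977 D7573
theorem N6680 : nd 6680 = n7574 := ndS (p := 3978) (l := 0) rfl N3978 D7574
theorem N6681 : nd 6681 = n7575 := ndS (p := 3978) (l := 4) rfl N3978 D7575
theorem N6682 : nd 6682 = n7576 := ndS (p := 3979) (l := 4) rfl N3979 D7576
theorem N6683 : nd 6683 = n7577 := ndS (p := 3980) (l := 4) rfl N3980 D7577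
theorem N6684 : nd 6684 = n7578 := ndS (p := 3981) (l := 2) rfl N3981 D7578
theorem N6685 : nd 6685 = n7579 := ndS (p := 3981) (l := 3) rfl N3981 D7579
theorem N6686 : nd 6686 = n7580 := ndS (p := 3982) (l := 0) rfl N3982 D7580
theorem N6687 : nd 6687 = n7581 := ndS (p := 3982) (l := 1) rfl N3982 D7581
theorem N6688 : nd 6688 = n7582 := ndS (p := 3982) (l := 3) rfl N3982 D7582
theorem N6689 : nd 6689 = n7583 := ndS (p := 3983) (l := 4) rfl N3983 D7583
theorem N6690 : nd 6690 = n7584 := ndS (p := 3984) (l := 2) rfl N3984 D7584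
theorem N6691 : nd 6691 = n7585 := ndS (p := 3984) (l := 3) rfl N3984 D7585
theorem N6692 : nd 6692 = n7586 := ndS (p := 3985) (l := 0) rfl N3985 D7586
theorem N6693 : nd 6693 = n7587 := ndS (p := 3985) (l := 4) rfl N3985 D7587
theorem N6694 : nd 6694 = n7588 := ndS (p := 3986) (l := 1) rfl N3986 D7588
theorem N6695 : nd 6695 = n7589 := ndS (p := 3986) (l := 2) rfl N3986 D7589
theorem N6696 : nd 6696 = n7590 := ndS (p := 3986) (l := 4) rfl N3986 D7590
theorem N6697 : nd 6697 = n7591 := ndS (p := 3988) (l := 3) rfl N3988 D7591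
theorem N6698 : nd 6698 = n7592 := ndS (p := 3989) (l := 1) rfl N3989 D7592
theorem N6699 : nd 6699 = n7593 := ndS (p := 3989) (l := 3) rfl N3989 D7593
theorem N6700 : nd 6700 = n7594 := ndS (p := 3991) (l := 1) rfl N3991 D7594
theorem N6701 : nd 6701 = n7595 := ndS (p := 3991) (l := 3) rfl N3991 D7595
theorem N6702 : nd 6702 = n7596 := ndS (p := 3991) (l := 4) rfl N3991 D7596
theorem N6703 : nd 6703 = n7597 := ndS (p := 3992) (l := 0) rfl N3992 D7597
theorem N6704 : nd 6704 = n7598 := ndS (p := 3992) (l := 2) rfl N3992 D7598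
theorem N6705 : nd 6705 = n7599 := ndS (p := 3992) (l := 3) rfl N3992 D7599
theorem N6706 : nd 6706 = n7600 := ndS (p := 3993) (l := 0) rfl N3993 D7600
theorem N6707 : nd 6707 = n7601 := ndS (p := 3993) (l := 4) rfl N3993 D7601
theorem N6708 : nd 6708 = n7602 := ndS (p := 3996) (l := 4) rfl N3996 D7602
theorem N6709 : nd 6709 = n7603 := ndS (p := 3997) (l := 3) rfl N3997 D7603
theorem N6710 : nd 6710 = n7604 := ndS (p := 3998) (l := 0) rfl N3998 D7604
theorem N6711 : nd 6711 = n7605 := ndS (p := 3998) (l := 4) rfl N3998 D7605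
theorem N6712 : nd 6712 = n7606 := ndS (p := 3999) (l := 1) rfl N3999 D7606
theorem N6713 : nd 6713 = n7607 := ndS (p := 3999) (l := 2) rfl N3999 D7607
theorem N6714 : nd 6714 = n7608 := ndS (p := 3999) (l := 3) rfl N3999 D7608
theorem N6715 : nd 6715 = n7609 := ndS (p := 3999) (l := 4) rfl N3999 D7609
theorem N6716 : nd 6716 = n7610 := ndS (p := 4001) (l := 1) rfl N4001 D7610
theorem N6717 : nd 6717 = n7611 := ndS (p := 4001) (l := 4) rfl N4001 D7611
theorem N6718 : nd 6718 = n7612 := ndS (p := 4002) (l := 2) rfl N4002 D7612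
theorem N6719 : nd 6719 = n7613 := ndS (p := 4003) (l := 3) rfl N4003 D7613
theorem N6720 : nd 6720 = n7614 := ndS (p := 4004) (l := 4) rfl N4004 D7614
theorem N6721 : nd 6721 = n7615 := ndS (p := 4005) (l := 3) rfl N4005 D7615
theorem N6722 : nd 6722 = n7616 := ndS (p := 4006) (l := 4) rfl N4006 D7616
theorem N6723 : nd 6723 = n7617 := ndS (p := 4007) (l := 4) rfl N4007 D7617
theorem N6724 : nd 6724 = n7618 := ndS (p := 4010) (l := 4) rfl N4010 D7618
theorem N6725 : nd 6725 = n7619 := ndS (p := 4011) (l := 4) rfl N4011 D7619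
theorem N6726 : nd 6726 = n7620 := ndS (p := 4012) (l := 2) rfl N4012 D7620
theorem N6727 : nd 6727 = n7621 := ndS (p := 4012) (l := 3) rfl N4012 D7621
theorem N6728 : nd 6728 = n7622 := ndS (p := 4013) (l := 4) rfl N4013 D7622
theorem N6729 : nd 6729 = n7623 := ndS (p := 4014) (l := 4) rfl N4014 D7623
theorem N6730 : nd 6730 = n7624 := ndS (p := 4015) (l := 3) rfl N4015 D7624
theorem N6731 : nd 6731 = n7625 := ndS (p := 4016) (l := 2) rfl N4016 D7625
theorem N6732 : nd 6732 = n7626 := ndS (p := 4017) (l := 1) rfl N4017 D7626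
theorem N6733 : nd 6733 = n7627 := ndS (p := 4017) (l := 3) rfl N4017 D7627
theorem N6734 : nd 6734 = n7628 := ndS (p := 4017) (l := 4) rfl N4017 D7628
theorem N6735 : nd 6735 = n7629 := ndS (p := 4018) (l := 4) rfl N4018 D7629
theorem N6736 : nd 6736 = n7630 := ndS (p := 4019) (l := 1) rfl N4019 D7630
theorem N6737 : nd 6737 = n7631 := ndS (p := 4019) (l := 3) rfl N4019 D7631
theorem N6738 : nd 6738 = n7632 := ndS (p := 4022) (l := 1) rfl N4022 D7632
theorem N6739 : nd 6739 = n7633 := ndS (p := 4022) (l := 3) rfl N4022 D7633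
theorem N6740 : nd 6740 = n7634 := ndS (p := 4022) (l := 4) rfl N4022 D7634
theorem N6741 : nd 6741 = n7635 := ndS (p := 4024) (l := 0) rfl N4024 D7635
theorem N6742 : nd 6742 = n7636 := ndS (p := 4024) (l := 2) rfl N4024 D7636
theorem N6743 : nd 6743 = n7637 := ndS (p := 4024) (l := 4) rfl N4024 D7637
theorem N6744 : nd 6744 = n7638 := ndS (p := 4025) (l := 1) rfl N4025 D7638
theorem N6745 : nd 6745 = n7639 := ndS (p := 4025) (l := 4) rfl N4025 D7639
theorem N6746 : nd 6746 = n7640 := ndS (p := 4026) (l := 2) rfl N4026 D7640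
theorem N6747 : nd 6747 = n7641 := ndS (p := 4027) (l := 2) rfl N4027 D7641
theorem N6748 : nd 6748 = n7642 := ndS (p := 4027) (l := 3) rfl N4027 D7642
theorem N6749 : nd 6749 = n7643 := ndS (p := 4030) (l := 4) rfl N4030 D7643
theorem N6750 : nd 6750 = n7644 := ndS (p := 4031) (l := 2) rfl N4031 D7644
theorem N6751 : nd 6751 = n7645 := ndS (p := 4033) (l := 4) rfl N4033 D7645
theorem N6752 : nd 6752 = n7646 := ndS (p := 4034) (l := 1) rfl N4034 D7646
theorem N6753 : nd 6753 = n7647 := ndS (p := 4034) (l := 4) rfl N4034 D7647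
theorem N6754 : nd 6754 = n7648 := ndS (p := 4036) (l := 0) rfl N4036 D7648
theorem N6755 : nd 6755 = n7649 := ndS (p := 4036) (l := 2) rfl N4036 D7649
theorem N6756 : nd 6756 = n7650 := ndS (p := 4036) (l := 3) rfl N4036 D7650
theorem N6757 : nd 6757 = n7651 := ndS (p := 4036) (l := 4) rfl N4036 D7651
theorem N6758 : nd 6758 = n7652 := ndS (p := 4037) (l := 4) rfl N4037 D7652
theorem N6759 : nd 6759 = n7653 := ndS (p := 4040) (l := 0) rfl N4040 D7653
theorem N6760 : nd 6760 = n7654 := ndS (p := 4040) (l := 2) rfl N4040 D7654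
theorem N6761 : nd 6761 = n7655 := ndS (p := 4040) (l := 3) rfl N4040 D7655
theorem N6762 : nd 6762 = n7656 := ndS (p := 4040) (l := 4) rfl N4040 D7656
theorem N6763 : nd 6763 = n7657 := ndS (p := 4041) (l := 4) rfl N4041 D7657
theorem N6764 : nd 6764 = n7658 := ndS (p := 4042) (l := 3) rfl N4042 D7658
theorem N6765 : nd 6765 = n7659 := ndS (p := 4044) (l := 0) rfl N4044 D7659
theorem N6766 : nd 6766 = n7660 := ndS (p := 4044) (l := 3) rfl N4044 D7660
theorem N6767 : nd 6767 = n7661 := ndS (p := 4049) (l := 3) rfl N4049 D7661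
theorem N6768 : nd 6768 = n7662 := ndS (p := 4050) (l := 0) rfl N4050 D7662
theorem N6769 : nd 6769 = n7663 := ndS (p := 4051) (l := 3) rfl N4051 D7663
theorem N6770 : nd 6770 = n7664 := ndS (p := 4052) (l := 0) rfl N4052 D7664
theorem N6771 : nd 6771 = n7665 := ndS (p := 4052) (l := 2) rfl N4052 D7665
theorem N6772 : nd 6772 = n7666 := ndS (p := 4052) (l := 3) rfl N4052 D7666
theorem N6773 : nd 6773 = n7667 := ndS (p := 4052) (l := 4) rfl N4052 D7667
theorem N6774 : nd 6774 = n7668 := ndS (p := 4053) (l := 1) rfl N4053 D7668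
theorem N6775 : nd 6775 = n7669 := ndS (p := 4056) (l := 2) rfl N4056 D7669
theorem N6776 : nd 6776 = n7670 := ndS (p := 4056) (l := 4) rfl N4056 D7670
theorem N6777 : nd 6777 = n7671 := ndS (p := 4059) (l := 0) rfl N4059 D7671
theorem N6778 : nd 6778 = n7672 := ndS (p := 4059) (l := 2) rfl N4059 D7672
theorem N6779 : nd 6779 = n7673 := ndS (p := 4059) (l := 4) rfl N4059 D7673
theorem N6780 : nd 6780 = n7674 := ndS (p := 4061) (l := 1) rfl N4061 D7674
theorem N6781 : nd 6781 = n7675 := ndS (p := 4062) (l := 0) rfl N4062 D7675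
theorem N6782 : nd 6782 = n7676 := ndS (p := 4062) (l := 1) rfl N4062 D7676
theorem N6783 : nd 6783 = n7677 := ndS (p := 4062) (l := 3) rfl N4062 D7677
theorem N6784 : nd 6784 = n7678 := ndS (p := 4062) (l := 4) rfl N4062 D7678
theorem N6785 : nd 6785 = n7679 := ndS (p := 4063) (l := 0) rfl N4063 D7679
theorem N6786 : nd 6786 = n7680 := ndS (p := 4066) (l := 4) rfl N4066 D7680
theorem N6787 : nd 6787 = n7681 := ndS (p := 4067) (l := 2) rfl N4067 D7681
theorem N6788 : nd 6788 = n7682 := ndS (p := 4067) (l := 3) rfl N4067 D7682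
theorem N6789 : nd 6789 = n7683 := ndS (p := 4068) (l := 3) rfl N4068 D7683
theorem N6790 : nd 6790 = n7684 := ndS (p := 4068) (l := 4) rfl N4068 D7684
theorem N6791 : nd 6791 = n7685 := ndS (p := 4069) (l := 0) rfl N4069 D7685
theorem N6792 : nd 6792 = n7686 := ndS (p := 4069) (l := 4) rfl N4069 D7686
theorem N6793 : nd 6793 = n7687 := ndS (p := 4070) (l := 2) rfl N4070 D7687
theorem N6794 : nd 6794 = n7688 := ndS (p := 4071) (l := 0) rfl N4071 D7688
theorem N6795 : nd 6795 = n7689 := ndS (p := 4071) (l := 1) rfl N4071 D7689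
theorem N6796 : nd 6796 = n7690 := ndS (p := 4071) (l := 4) rfl N4071 D7690
theorem N6797 : nd 6797 = n7691 := ndS (p := 4072) (l := 1) rfl N4072 D7691
theorem N6798 : nd 6798 = n7692 := ndS (p := 4072) (l := 3) rfl N4072 D7692
theorem N6799 : nd 6799 = n7693 := ndS (p := 4072) (l := 4) rfl N4072 D7693
theorem N6800 : nd 6800 = n7694 := ndS (p := 4073) (l := 0) rfl N4073 D7694
theorem N6801 : nd 6801 = n7695 := ndS (p := 4073) (l := 2) rfl N4073 D7695
theorem N6802 : nd 6802 = n7696 := ndS (p := 4073) (l := 3) rfl N4073 D7696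
theorem N6803 : nd 6803 = n7697 := ndS (p := 4073) (l := 4) rfl N4073 D7697
theorem N6804 : nd 6804 = n7698 := ndS (p := 4074) (l := 0) rfl N4074 D7698
theorem N6805 : nd 6805 = n7699 := ndS (p := 4074) (l := 4) rfl N4074 D7699
theorem N6806 : nd 6806 = n7700 := ndS (p := 4076) (l := 2) rfl N4076 D7700
theorem N6807 : nd 6807 = n7701 := ndS (p := 4076) (l := 4) rfl N4076 D7701
theorem N6808 : nd 6808 = n7702 := ndS (p := 4078) (l := 4) rfl N4078 D7702
theorem N6809 : nd 6809 = n7703 := ndS (p := 4079) (l := 2) rfl N4079 D7703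
theorem N6810 : nd 6810 = n7704 := ndS (p := 4080) (l := 2) rfl N4080 D7704
theorem N6811 : nd 6811 = n7705 := ndS (p := 4082) (l := 3) rfl N4082 D7705
theorem N6812 : nd 6812 = n7706 := ndS (p := 4082) (l := 4) rfl N4082 D7706
theorem N6813 : nd 6813 = n7707 := ndS (p := 4083) (l := 4) rfl N4083 D7707
theorem N6814 : nd 6814 = n7708 := ndS (p := 4085) (l := 2) rfl N4085 D7708
theorem N6815 : nd 6815 = n7709 := ndS (p := 4087) (l := 1) rfl N4087 D7709
theorem N6816 : nd 6816 = n7710 := ndS (p := 4087) (l := 2) rfl N4087 D7710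
theorem N6817 : nd 6817 = n7711 := ndS (p := 4087) (l := 3) rfl N4087 D7711
theorem N6818 : nd 6818 = n7712 := ndS (p := 4087) (l := 4) rfl N4087 D7712
theorem N6819 : nd 6819 = n7713 := ndS (p := 4088) (l := 0) rfl N4088 D7713
theorem N6820 : nd 6820 = n7714 := ndS (p := 4088) (l := 3) rfl N4088 D7714
theorem N6821 : nd 6821 = n7715 := ndS (p := 4088) (l := 4) rfl N4088 D7715
theorem N6822 : nd 6822 = n7716 := ndS (p := 4090) (l := 2) rfl N4090 D7716
theorem N6823 : nd 6823 = n7717 := ndS (p := 4092) (l := 1) rfl N4092 D7717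
theorem N6824 : nd 6824 = n7718 := ndS (p := 4092) (l := 2) rfl N4092 D7718
theorem N6825 : nd 6825 = n7719 := ndS (p := 4092) (l := 3) rfl N4092 D7719
theorem N6826 : nd 6826 = n7720 := ndS (p := 4092) (l := 4) rfl N4092 D7720
theorem N6827 : nd 6827 = n7721 := ndS (p := 4093) (l := 0) rfl N4093 D7721
theorem N6828 : nd 6828 = n7722 := ndS (p := 4093) (l := 1) rfl N4093 D7722
theorem N6829 : nd 6829 = n7723 := ndS (p := 4093) (l := 3) rfl N4093 D7723
theorem N6830 : nd 6830 = n7724 := ndS (p := 4093) (l := 4) rfl N4093 D7724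
theorem N6831 : nd 6831 = n7725 := ndS (p := 4094) (l := 0) rfl N4094 D7725
theorem N6832 : nd 6832 = n7726 := ndS (p := 4095) (l := 2) rfl N4095 D7726
theorem N6833 : nd 6833 = n7727 := ndS (p := 4095) (l := 3) rfl N4095 D7727
theorem N6834 : nd 6834 = n7728 := ndS (p := 4099) (l := 0) rfl N4099 D7728
theorem N6835 : nd 6835 = n7729 := ndS (p := 4099) (l := 1) rfl N4099 D7729
theorem N6836 : nd 6836 = n7730 := ndS (p := 4099) (l := 3) rfl N4099 D7730
theorem N6837 : nd 6837 = n7731 := ndS (p := 4099) (l := 4) rfl N4099 D7731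
theorem N6838 : nd 6838 = n7732 := ndS (p := 4101) (l := 2) rfl N4101 D7732
theorem N6839 : nd 6839 = n7733 := ndS (p := 4102) (l := 1) rfl N4102 D7733
theorem N6840 : nd 6840 = n7734 := ndS (p := 4102) (l := 2) rfl N4102 D7734
theorem N6841 : nd 6841 = n7735 := ndS (p := 4102) (l := 3) rfl N4102 D7735
theorem N6842 : nd 6842 = n7736 := ndS (p := 4102) (l := 4) rfl N4102 D7736
theorem N6843 : nd 6843 = n7737 := ndS (p := 4103) (l := 0) rfl N4103 D7737
theorem N6844 : nd 6844 = n7738 := ndS (p := 4103) (l := 4) rfl N4103 D7738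
theorem N6845 : nd 6845 = n7739 := ndS (p := 4104) (l := 2) rfl N4104 D7739
theorem N6846 : nd 6846 = n7740 := ndS (p := 4105) (l := 2) rfl N4105 D7740
theorem N6847 : nd 6847 = n7741 := ndS (p := 4106) (l := 0) rfl N4106 D7741
theorem N6848 : nd 6848 = n7742 := ndS (p := 4107) (l := 2) rfl N4107 D7742
theorem N6849 : nd 6849 = n7743 := ndS (p := 4107) (l := 3) rfl N4107 D7743
theorem N6850 : nd 6850 = n7744 := ndS (p := 4108) (l := 3) rfl N4108 D7744
theorem N6851 : nd 6851 = n7745 := ndS (p := 4108) (l := 4) rfl N4108 D7745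
theorem N6852 : nd 6852 = n7746 := ndS (p := 4109) (l := 3) rfl N4109 D7746
theorem N6853 : nd 6853 = n7747 := ndS (p := 4110) (l := 4) rfl N4110 D7747
theorem N6854 : nd 6854 = n7748 := ndS (p := 4111) (l := 3) rfl N4111 D7748
theorem N6855 : nd 6855 = n7749 := ndS (p := 4112) (l := 1) rfl N4112 D7749
theorem N6856 : nd 6856 = n7750 := ndS (p := 4112) (l := 2) rfl N4112 D7750
theorem N6857 : nd 6857 = n7751 := ndS (p := 4112) (l := 3) rfl N4112 D7751
theorem N6858 : nd 6858 = n7752 := ndS (p := 4112) (l := 4) rfl N4112 D7752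
theorem N6859 : nd 6859 = n7753 := ndS (p := 4113) (l := 2) rfl N4113 D7753
theorem N6860 : nd 6860 = n7754 := ndS (p := 4115) (l := 0) rfl N4115 D7754
theorem N6861 : nd 6861 = n7755 := ndS (p := 4116) (l := 1) rfl N4116 D7755
theorem N6862 : nd 6862 = n7756 := ndS (p := 4116) (l := 3) rfl N4116 D7756
theorem N6863 : nd 6863 = n7757 := ndS (p := 4116) (l := 4) rfl N4116 D7757
theorem N6864 : nd 6864 = n7758 := ndS (p := 4118) (l := 2) rfl N4118 D7758
theorem N6865 : nd 6865 = n7759 := ndS (p := 4119) (l := 0) rfl N4119 D7759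
theorem N6866 : nd 6866 = n7760 := ndS (p := 4120) (l := 2) rfl N4120 D7760
theorem N6867 : nd 6867 = n7761 := ndS (p := 4120) (l := 3) rfl N4120 D7761
theorem N6868 : nd 6868 = n7762 := ndS (p := 4120) (l := 4) rfl N4120 D7762
theorem N6869 : nd 6869 = n7763 := ndS (p := 4121) (l := 0) rfl N4121 D7763
theorem N6870 : nd 6870 = n7764 := ndS (p := 4121) (l := 1) rfl N4121 D7764
theorem N6871 : nd 6871 = n7765 := ndS (p := 4121) (l := 3) rfl N4121 D7765
theorem N6872 : nd 6872 = n7766 := ndS (p := 4121) (l := 4) rfl N4121 D7766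
theorem N6873 : nd 6873 = n7767 := ndS (p := 4123) (l := 2) rfl N4123 D7767
theorem N6874 : nd 6874 = n7768 := ndS (p := 4124) (l := 0) rfl N4124 D7768
theorem N6875 : nd 6875 = n7769 := ndS (p := 4124) (l := 1) rfl N4124 D7769
theorem N6876 : nd 6876 = n7770 := ndS (p := 4124) (l := 4) rfl N4124 D7770
theorem N6877 : nd 6877 = n7771 := ndS (p := 4126) (l := 1) rfl N4126 D7771
theorem N6878 : nd 6878 = n7772 := ndS (p := 4126) (l := 4) rfl N4126 D7772
theorem N6879 : nd 6879 = n7773 := ndS (p := 4127) (l := 0) rfl N4127 D7773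
theorem N6880 : nd 6880 = n7774 := ndS (p := 4127) (l := 2) rfl N4127 D7774
theorem N6881 : nd 6881 = n7775 := ndS (p := 4127) (l := 4) rfl N4127 D7775
theorem N6882 : nd 6882 = n7776 := ndS (p := 4128) (l := 2) rfl N4128 D7776
theorem N6883 : nd 6883 = n7777 := ndS (p := 4129) (l := 0) rfl N4129 D7777
theorem N6884 : nd 6884 = n7778 := ndS (p := 4129) (l := 1) rfl N4129 D7778
theorem N6885 : nd 6885 = n7779 := ndS (p := 4130) (l := 1) rfl N4130 D7779
theorem N6886 : nd 6886 = n7780 := ndS (p := 4130) (l := 2) rfl N4130 D7780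
theorem N6887 : nd 6887 = n7781 := ndS (p := 4130) (l := 3) rfl N4130 D7781
theorem N6888 : nd 6888 = n7782 := ndS (p := 4130) (l := 4) rfl N4130 D7782
theorem N6889 : nd 6889 = n7783 := ndS (p := 4131) (l := 0) rfl N4131 D7783
theorem N6890 : nd 6890 = n7784 := ndS (p := 4131) (l := 4) rfl N4131 D7784
theorem N6891 : nd 6891 = n7785 := ndS (p := 4132) (l := 2) rfl N4132 D7785
theorem N6892 : nd 6892 = n7786 := ndS (p := 4133) (l := 0) rfl N4133 D7786
theorem N6893 : nd 6893 = n7787 := ndS (p := 4133) (l := 2) rfl N4133 D7787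
theorem N6894 : nd 6894 = n7788 := ndS (p := 4134) (l := 4) rfl N4134 D7788
theorem N6895 : nd 6895 = n7789 := ndS (p := 4135) (l := 2) rfl N4135 D7789
theorem N6896 : nd 6896 = n7790 := ndS (p := 4136) (l := 2) rfl N4136 D7790
theorem N6897 : nd 6897 = n7791 := ndS (p := 4137) (l := 1) rfl N4137 D7791
theorem N6898 : nd 6898 = n7792 := ndS (p := 4137) (l := 3) rfl N4137 D7792
theorem N6899 : nd 6899 = n7793 := ndS (p := 4137) (l := 4) rfl N4137 D7793
theorem N6900 : nd 6900 = n7794 := ndS (p := 4138) (l := 4) rfl N4138 D7794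
theorem N6901 : nd 6901 = n7795 := ndS (p := 4139) (l := 4) rfl N4139 D7795
theorem N6902 : nd 6902 = n7796 := ndS (p := 4140) (l := 4) rfl N4140 D7796
theorem N6903 : nd 6903 = n7797 := ndS (p := 4141) (l := 4) rfl N4141 D7797
theorem N6904 : nd 6904 = n7798 := ndS (p := 4144) (l := 3) rfl N4144 D7798
theorem N6905 : nd 6905 = n7799 := ndS (p := 4145) (l := 4) rfl N4145 D7799
theorem N6906 : nd 6906 = n7800 := ndS (p := 4147) (l := 2) rfl N4147 D7800
theorem N6907 : nd 6907 = n7801 := ndS (p := 4150) (l := 2) rfl N4150 D7801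
theorem N6908 : nd 6908 = n7802 := ndS (p := 4151) (l := 4) rfl N4151 D7802
theorem N6909 : nd 6909 = n7803 := ndS (p := 4152) (l := 2) rfl N4152 D7803
theorem N6910 : nd 6910 = n7804 := ndS (p := 4152) (l := 3) rfl N4152 D7804
theorem N6911 : nd 6911 = n7805 := ndS (p := 4153) (l := 3) rfl N4153 D7805
theorem N6912 : nd 6912 = n7806 := ndS (p := 4153) (l := 4) rfl N4153 D7806
theorem N6913 : nd 6913 = n7807 := ndS (p := 4154) (l := 4) rfl N4154 D7807
theorem N6914 : nd 6914 = n7808 := ndS (p := 4155) (l := 4) rfl N4155 D7808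
theorem N6915 : nd 6915 = n7809 := ndS (p := 4156) (l := 2) rfl N4156 D7809
theorem N6916 : nd 6916 = n7810 := ndS (p := 4156) (l := 3) rfl N4156 D7810
theorem N6917 : nd 6917 = n7811 := ndS (p := 4157) (l := 2) rfl N4157 D7811
theorem N6918 : nd 6918 = n7812 := ndS (p := 4158) (l := 0) rfl N4158 D7812
theorem N6919 : nd 6919 = n7813 := ndS (p := 4158) (l := 1) rfl N4158 D7813
theorem N6920 : nd 6920 = n7814 := ndS (p := 4158) (l := 3) rfl N4158 D7814
theorem N6921 : nd 6921 = n7815 := ndS (p := 4158) (l := 4) rfl N4158 D7815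
theorem N6922 : nd 6922 = n7816 := ndS (p := 4159) (l := 0) rfl N4159 D7816
theorem N6923 : nd 6923 = n7817 := ndS (p := 4159) (l := 4) rfl N4159 D7817
theorem N6924 : nd 6924 = n7818 := ndS (p := 4160) (l := 2) rfl N4160 D7818
theorem N6925 : nd 6925 = n7819 := ndS (p := 4161) (l := 1) rfl N4161 D7819
theorem N6926 : nd 6926 = n7820 := ndS (p := 4161) (l := 4) rfl N4161 D7820
theorem N6927 : nd 6927 = n7821 := ndS (p := 4162) (l := 4) rfl N4162 D7821
theorem N6928 : nd 6928 = n7822 := ndS (p := 4163) (l := 3) rfl N4163 D7822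
theorem N6929 : nd 6929 = n7823 := ndS (p := 4163) (l := 4) rfl N4163 D7823
theorem N6930 : nd 6930 = n7824 := ndS (p := 4164) (l := 4) rfl N4164 D7824
theorem N6931 : nd 6931 = n7825 := ndS (p := 4165) (l := 2) rfl N4165 D7825
theorem N6932 : nd 6932 = n7826 := ndS (p := 4165) (l := 3) rfl N4165 D7826
theorem N6933 : nd 6933 = n7827 := ndS (p := 4166) (l := 0) rfl N4166 D7827
theorem N6934 : nd 6934 = n7828 := ndS (p := 4167) (l := 1) rfl N4167 D7828
theorem N6935 : nd 6935 = n7829 := ndS (p := 4167) (l := 3) rfl N4167 D7829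
theorem N6936 : nd 6936 = n7830 := ndS (p := 4167) (l := 4) rfl N4167 D7830
theorem N6937 : nd 6937 = n7831 := ndS (p := 4169) (l := 0) rfl N4169 D7831
theorem N6938 : nd 6938 = n7832 := ndS (p := 4171) (l := 1) rfl N4171 D7832
theorem N6939 : nd 6939 = n7833 := ndS (p := 4171) (l := 2) rfl N4171 D7833
theorem N6940 : nd 6940 = n7834 := ndS (p := 4171) (l := 4) rfl N4171 D7834
theorem N6941 : nd 6941 = n7835 := ndS (p := 4173) (l := 1) rfl N4173 D7835
theorem N6942 : nd 6942 = n7836 := ndS (p := 4173) (l := 2) rfl N4173 D7836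
theorem N6943 : nd 6943 = n7837 := ndS (p := 4173) (l := 3) rfl N4173 D7837
theorem N6944 : nd 6944 = n7838 := ndS (p := 4173) (l := 4) rfl N4173 D7838
theorem N6945 : nd 6945 = n7839 := ndS (p := 4175) (l := 1) rfl N4175 D7839
theorem N6946 : nd 6946 = n7840 := ndS (p := 4176) (l := 0) rfl N4176 D7840
theorem N6947 : nd 6947 = n7841 := ndS (p := 4176) (l := 1) rfl N4176 D7841
theorem N6948 : nd 6948 = n7842 := ndS (p := 4177) (l := 2) rfl N4177 D7842
theorem N6949 : nd 6949 = n7843 := ndS (p := 4177) (l := 4) rfl N4177 D7843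
theorem N6950 : nd 6950 = n7844 := ndS (p := 4178) (l := 0) rfl N4178 D7844
theorem N6951 : nd 6951 = n7845 := ndS (p := 4178) (l := 1) rfl N4178 D7845
theorem N6952 : nd 6952 = n7846 := ndS (p := 4178) (l := 3) rfl N4178 D7846
theorem N6953 : nd 6953 = n7847 := ndS (p := 4178) (l := 4) rfl N4178 D7847
theorem N6954 : nd 6954 = n7848 := ndS (p := 4179) (l := 4) rfl N4179 D7848
theorem N6955 : nd 6955 = n7849 := ndS (p := 4180) (l := 2) rfl N4180 D7849
theorem N6956 : nd 6956 = n7850 := ndS (p := 4180) (l := 3) rfl N4180 D7850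
theorem N6957 : nd 6957 = n7851 := ndS (p := 4181) (l := 2) rfl N4181 D7851
theorem N6958 : nd 6958 = n7852 := ndS (p := 4181) (l := 4) rfl N4181 D7852
theorem N6959 : nd 6959 = n7853 := ndS (p := 4182) (l := 0) rfl N4182 D7853
theorem N6960 : nd 6960 = n7854 := ndS (p := 4183) (l := 2) rfl N4183 D7854
theorem N6961 : nd 6961 = n7855 := ndS (p := 4184) (l := 1) rfl N4184 D7855
theorem N6962 : nd 6962 = n7856 := ndS (p := 4184) (l := 2) rfl N4184 D7856
theorem N6963 : nd 6963 = n7857 := ndS (p := 4184) (l := 3) rfl N4184 D7857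
theorem N6964 : nd 6964 = n7858 := ndS (p := 4184) (l := 4) rfl N4184 D7858
theorem N6965 : nd 6965 = n7859 := ndS (p := 4187) (l := 4) rfl N4187 D7859
theorem N6966 : nd 6966 = n7860 := ndS (p := 4188) (l := 2) rfl N4188 D7860
theorem N6967 : nd 6967 = n7861 := ndS (p := 4189) (l := 1) rfl N4189 D7861
theorem N6968 : nd 6968 = n7862 := ndS (p := 4189) (l := 4) rfl N4189 D7862
theorem N6969 : nd 6969 = n7863 := ndS (p := 4190) (l := 3) rfl N4190 D7863
theorem N6970 : nd 6970 = n7864 := ndS (p := 4190) (l := 4) rfl N4190 D7864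
theorem N6971 : nd 6971 = n7865 := ndS (p := 4191) (l := 0) rfl N4191 D7865
theorem N6972 : nd 6972 = n7866 := ndS (p := 4191) (l := 4) rfl N4191 D7866
theorem N6973 : nd 6973 = n7867 := ndS (p := 4192) (l := 2) rfl N4192 D7867
theorem N6974 : nd 6974 = n7868 := ndS (p := 4192) (l := 3) rfl N4192 D7868
theorem N6975 : nd 6975 = n7869 := ndS (p := 4193) (l := 1) rfl N4193 D7869
theorem N6976 : nd 6976 = n7870 := ndS (p := 4193) (l := 4) rfl N4193 D7870
theorem N6977 : nd 6977 = n7871 := ndS (p := 4194) (l := 2) rfl N4194 D7871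
theorem N6978 : nd 6978 = n7872 := ndS (p := 4195) (l := 0) rfl N4195 D7872
theorem N6979 : nd 6979 = n7873 := ndS (p := 4195) (l := 1) rfl N4195 D7873
theorem N6980 : nd 6980 = n7874 := ndS (p := 4195) (l := 3) rfl N4195 D7874
theorem N6981 : nd 6981 = n7875 := ndS (p := 4195) (l := 4) rfl N4195 D7875
theorem N6982 : nd 6982 = n7876 := ndS (p := 4196) (l := 0) rfl N4196 D7876
theorem N6983 : nd 6983 = n7877 := ndS (p := 4197) (l := 0) rfl N4197 D7877
theorem N6984 : nd 6984 = n7878 := ndS (p := 4199) (l := 2) rfl N4199 D7878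
theorem N6985 : nd 6985 = n7879 := ndS (p := 4199) (l := 3) rfl N4199 D7879
theorem N6986 : nd 6986 = n7880 := ndS (p := 4199) (l := 4) rfl N4199 D7880
theorem N6987 : nd 6987 = n7881 := ndS (p := 4200) (l := 4) rfl N4200 D7881
theorem N6988 : nd 6988 = n7882 := ndS (p := 4201) (l := 0) rfl N4201 D7882
theorem N6989 : nd 6989 = n7883 := ndS (p := 4201) (l := 4) rfl N4201 D7883
theorem N6990 : nd 6990 = n7884 := ndS (p := 4202) (l := 2) rfl N4202 D7884
theorem N6991 : nd 6991 = n7885 := ndS (p := 4202) (l := 3) rfl N4202 D7885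
theorem N6992 : nd 6992 = n7886 := ndS (p := 4203) (l := 2) rfl N4203 D7886
theorem N6993 : nd 6993 = n7887 := ndS (p := 4204) (l := 0) rfl N4204 D7887
theorem N6994 : nd 6994 = n7888 := ndS (p := 4204) (l := 1) rfl N4204 D7888
theorem N6995 : nd 6995 = n7889 := ndS (p := 4204) (l := 3) rfl N4204 D7889
theorem N6996 : nd 6996 = n7890 := ndS (p := 4204) (l := 4) rfl N4204 D7890
theorem N6997 : nd 6997 = n7891 := ndS (p := 4206) (l := 0) rfl N4206 D7891
theorem N6998 : nd 6998 = n7892 := ndS (p := 4206) (l := 2) rfl N4206 D7892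
theorem N6999 : nd 6999 = n7893 := ndS (p := 4206) (l := 4) rfl N4206 D7893
theorem N7000 : nd 7000 = n7894 := ndS (p := 4207) (l := 3) rfl N4207 D7894
theorem N7001 : nd 7001 = n7895 := ndS (p := 4207) (l := 4) rfl N4207 D7895
theorem N7002 : nd 7002 = n7896 := ndS (p := 4208) (l := 4) rfl N4208 D7896
theorem N7003 : nd 7003 = n7897 := ndS (p := 4209) (l := 2) rfl N4209 D7897
theorem N7004 : nd 7004 = n7898 := ndS (p := 4209) (l := 3) rfl N4209 D7898
theorem N7005 : nd 7005 = n7899 := ndS (p := 4210) (l := 2) rfl N4210 D7899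
theorem N7006 : nd 7006 = n7900 := ndS (p := 4210) (l := 3) rfl N4210 D7900
theorem N7007 : nd 7007 = n7901 := ndS (p := 4210) (l := 4) rfl N4210 D7901
theorem N7008 : nd 7008 = n7902 := ndS (p := 4211) (l := 2) rfl N4211 D7902
theorem N7009 : nd 7009 = n7903 := ndS (p := 4214) (l := 3) rfl N4214 D7903
theorem N7010 : nd 7010 = n7904 := ndS (p := 4214) (l := 4) rfl N4214 D7904
theorem N7011 : nd 7011 = n7905 := ndS (p := 4216) (l := 2) rfl N4216 D7905
theorem N7012 : nd 7012 = n7907 := ndS (p := 4218) (l := 1) rfl N4218 D7907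
theorem N7013 : nd 7013 = n7908 := ndS (p := 4218) (l := 3) rfl N4218 D7908
theorem N7014 : nd 7014 = n7909 := ndS (p := 4219) (l := 4) rfl N4219 D7909
theorem N7015 : nd 7015 = n7910 := ndS (p := 4220) (l := 2) rfl N4220 D7910
theorem N7016 : nd 7016 = n7911 := ndS (p := 4225) (l := 1) rfl N4225 D7911
theorem N7017 : nd 7017 = n7912 := ndS (p := 4226) (l := 3) rfl N4226 D7912
theorem N7018 : nd 7018 = n7913 := ndS (p := 4227) (l := 4) rfl N4227 D7913
theorem N7019 : nd 7019 = n7914 := ndS (p := 4229) (l := 2) rfl N4229 D7914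
theorem N7020 : nd 7020 = n7915 := ndS (p := 4229) (l := 3) rfl N4229 D7915
theorem N7021 : nd 7021 = n7916 := ndS (p := 4229) (l := 4) rfl N4229 D7916
theorem N7022 : nd 7022 = n7917 := ndS (p := 4230) (l := 2) rfl N4230 D7917
theorem N7023 : nd 7023 = n7918 := ndS (p := 4231) (l := 3) rfl N4231 D7918
theorem N7024 : nd 7024 = n7919 := ndS (p := 4232) (l := 0) rfl N4232 D7919
theorem N7025 : nd 7025 = n7920 := ndS (p := 4233) (l := 4) rfl N4233 D7920
theorem N7026 : nd 7026 = n7921 := ndS (p := 4234) (l := 2) rfl N4234 D7921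
theorem N7027 : nd 7027 = n7922 := ndS (p := 4235) (l := 0) rfl N4235 D7922
theorem N7028 : nd 7028 = n7923 := ndS (p := 4235) (l := 4) rfl N4235 D7923
theorem N7029 : nd 7029 = n7924 := ndS (p := 4237) (l := 0) rfl N4237 D7924
theorem N7030 : nd 7030 = n7925 := ndS (p := 4237) (l := 4) rfl N4237 D7925
theorem N7031 : nd 7031 = n7927 := ndS (p := 4240) (l := 4) rfl N4240 D7927
theorem N7032 : nd 7032 = n7928 := ndS (p := 4242) (l := 0) rfl N4242 D7928
theorem N7033 : nd 7033 = n7929 := ndS (p := 4243) (l := 0) rfl N4243 D7929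
theorem N7034 : nd 7034 = n7930 := ndS (p := 4243) (l := 2) rfl N4243 D7930
theorem N7035 : nd 7035 = n7931 := ndS (p := 4243) (l := 4) rfl N4243 D7931
theorem N7036 : nd 7036 = n7932 := ndS (p := 4244) (l := 1) rfl N4244 D7932
theorem N7037 : nd 7037 = n7933 := ndS (p := 4244) (l := 3) rfl N4244 D7933
theorem N7038 : nd 7038 = n7934 := ndS (p := 4244) (l := 4) rfl N4244 D7934
theorem N7039 : nd 7039 = n7935 := ndS (p := 4246) (l := 2) rfl N4246 D7935
theorem N7040 : nd 7040 = n7936 := ndS (p := 4247) (l := 0) rfl N4247 D7936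
theorem N7041 : nd 7041 = n7937 := ndS (p := 4248) (l := 4) rfl N4248 D7937
theorem N7042 : nd 7042 = n7938 := ndS (p := 4251) (l := 4) rfl N4251 D7938
theorem N7043 : nd 7043 = n7939 := ndS (p := 4254) (l := 0) rfl N4254 D7939
theorem N7044 : nd 7044 = n7940 := ndS (p := 4254) (l := 1) rfl N4254 D7940
theorem N7045 : nd 7045 = n7941 := ndS (p := 4254) (l := 4) rfl N4254 D7941
theorem N7046 : nd 7046 = n7944 := ndS (p := 4256) (l := 2) rfl N4256 D7944
theorem N7047 : nd 7047 = n7945 := ndS (p := 4257) (l := 4) rfl N4257 D7945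
theorem N7048 : nd 7048 = n7946 := ndS (p := 4258) (l := 4) rfl N4258 D7946
theorem N7049 : nd 7049 = n7947 := ndS (p := 4259) (l := 0) rfl N4259 D7947
theorem N7050 : nd 7050 = n7948 := ndS (p := 4260) (l := 2) rfl N4260 D7948
theorem N7051 : nd 7051 = n7949 := ndS (p := 4262) (l := 0) rfl N4262 D7949
theorem N7052 : nd 7052 = n7950 := ndS (p := 4262) (l := 1) rfl N4262 D7950
theorem N7053 : nd 7053 = n7951 := ndS (p := 4262) (l := 4) rfl N4262 D7951
theorem N7054 : nd 7054 = n7952 := ndS (p := 4263) (l := 2) rfl N4263 D7952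
theorem N7055 : nd 7055 = n7953 := ndS (p := 4264) (l := 4) rfl N4264 D7953
theorem N7056 : nd 7056 = n7954 := ndS (p := 4265) (l := 2) rfl N4265 D7954
theorem N7057 : nd 7057 = n7955 := ndS (p := 4265) (l := 4) rfl N4265 D7955
theorem N7058 : nd 7058 = n7956 := ndS (p := 4266) (l := 2) rfl N4266 D7956
theorem N7059 : nd 7059 = n7957 := ndS (p := 4267) (l := 0) rfl N4267 D7957
theorem N7060 : nd 7060 = n7958 := ndS (p := 4268) (l := 4) rfl N4268 D7958
theorem N7061 : nd 7061 = n7959 := ndS (p := 4269) (l := 2) rfl N4269 D7959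
theorem N7062 : nd 7062 = n7960 := ndS (p := 4272) (l := 2) rfl N4272 D7960
theorem N7063 : nd 7063 = n7961 := ndS (p := 4272) (l := 4) rfl N4272 D7961
theorem N7064 : nd 7064 = n7962 := ndS (p := 4273) (l := 0) rfl N4273 D7962
theorem N7065 : nd 7065 = n7963 := ndS (p := 4273) (l := 1) rfl N4273 D7963
theorem N7066 : nd 7066 = n7964 := ndS (p := 4273) (l := 3) rfl N4273 D7964
theorem N7067 : nd 7067 = n7965 := ndS (p := 4273) (l := 4) rfl N4273 D7965
theorem N7068 : nd 7068 = n7966 := ndS (p := 4275) (l := 2) rfl N4275 D7966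
theorem N7069 : nd 7069 = n7967 := ndS (p := 4276) (l := 4) rfl N4276 D7967
theorem N7070 : nd 7070 = n7968 := ndS (p := 4277) (l := 2) rfl N4277 D7968
theorem N7071 : nd 7071 = n7969 := ndS (p := 4279) (l := 1) rfl N4279 D7969
theorem N7072 : nd 7072 = n7970 := ndS (p := 4279) (l := 2) rfl N4279 D7970
theorem N7073 : nd 7073 = n7971 := ndS (p := 4280) (l := 0) rfl N4280 D7971
theorem N7074 : nd 7074 = n7972 := ndS (p := 4281) (l := 2) rfl N4281 D7972
theorem N7075 : nd 7075 = n7973 := ndS (p := 4282) (l := 0) rfl N4282 D7973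
theorem N7076 : nd 7076 = n7974 := ndS (p := 4282) (l := 3) rfl N4282 D7974
theorem N7077 : nd 7077 = n7975 := ndS (p := 4283) (l := 4) rfl N4283 D7975
theorem N7078 : nd 7078 = n7976 := ndS (p := 4284) (l := 0) rfl N4284 D7976
theorem N7079 : nd 7079 = n7977 := ndS (p := 4284) (l := 4) rfl N4284 D7977
theorem N7080 : nd 7080 = n7978 := ndS (p := 4285) (l := 2) rfl N4285 D7978
theorem N7081 : nd 7081 = n7979 := ndS (p := 4285) (l := 4) rfl N4285 D7979
theorem N7082 : nd 7082 = n7980 := ndS (p := 4287) (l := 2) rfl N4287 D7980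
theorem N7083 : nd 7083 = n7981 := ndS (p := 4287) (l := 3) rfl N4287 D7981
theorem N7084 : nd 7084 = n7982 := ndS (p := 4288) (l := 0) rfl N4288 D7982
theorem N7085 : nd 7085 = n7983 := ndS (p := 4288) (l := 1) rfl N4288 D7983
theorem N7086 : nd 7086 = n7984 := ndS (p := 4288) (l := 3) rfl N4288 D7984
theorem N7087 : nd 7087 = n7985 := ndS (p := 4288) (l := 4) rfl N4288 D7985
theorem N7088 : nd 7088 = n7986 := ndS (p := 4289) (l := 4) rfl N4289 D7986
theorem N7089 : nd 7089 = n7987 := ndS (p := 4290) (l := 3) rfl N4290 D7987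
theorem N7090 : nd 7090 = n7988 := ndS (p := 4291) (l := 0) rfl N4291 D7988
theorem N7091 : nd 7091 = n7989 := ndS (p := 4291) (l := 4) rfl N4291 D7989
theorem N7092 : nd 7092 = n7990 := ndS (p := 4293) (l := 2) rfl N4293 D7990
theorem N7093 : nd 7093 = n7991 := ndS (p := 4293) (l := 4) rfl N4293 D7991
theorem N7094 : nd 7094 = n7992 := ndS (p := 4295) (l := 0) rfl N4295 D7992
theorem N7095 : nd 7095 = n7993 := ndS (p := 4295) (l := 4) rfl N4295 D7993
theorem N7096 : nd 7096 = n7994 := ndS (p := 4296) (l := 3) rfl N4296 D7994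
theorem N7097 : nd 7097 = n7995 := ndS (p := 4297) (l := 1) rfl N4297 D7995
theorem N7098 : nd 7098 = n7996 := ndS (p := 4297) (l := 3) rfl N4297 D7996
theorem N7099 : nd 7099 = n7997 := ndS (p := 4297) (l := 4) rfl N4297 D7997
theorem N7100 : nd 7100 = n7998 := ndS (p := 4299) (l := 1) rfl N4299 D7998
theorem N7101 : nd 7101 = n7999 := ndS (p := 4299) (l := 3) rfl N4299 D7999
theorem N7102 : nd 7102 = n8000 := ndS (p := 4299) (l := 4) rfl N4299 D8000
theorem N7103 : nd 7103 = n8001 := ndS (p := 4300) (l := 0) rfl N4300 D8001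
theorem N7104 : nd 7104 = n8002 := ndS (p := 4300) (l := 2) rfl N4300 D8002
theorem N7105 : nd 7105 = n8003 := ndS (p := 4300) (l := 3) rfl N4300 D8003
theorem N7106 : nd 7106 = n8004 := ndS (p := 4300) (l := 4) rfl N4300 D8004
theorem N7107 : nd 7107 = n8005 := ndS (p := 4301) (l := 0) rfl N4301 D8005
theorem N7108 : nd 7108 = n8006 := ndS (p := 4301) (l := 4) rfl N4301 D8006
theorem N7109 : nd 7109 = n8007 := ndS (p := 4304) (l := 4) rfl N4304 D8007
theorem N7110 : nd 7110 = n8008 := ndS (p := 4305) (l := 3) rfl N4305 D8008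
theorem N7111 : nd 7111 = n8009 := ndS (p := 4306) (l := 3) rfl N4306 D8009
theorem N7112 : nd 7112 = n8010 := ndS (p := 4307) (l := 3) rfl N4307 D8010
theorem N7113 : nd 7113 = n8011 := ndS (p := 4308) (l := 0) rfl N4308 D8011
theorem N7114 : nd 7114 = n8012 := ndS (p := 4308) (l := 4) rfl N4308 D8012
theorem N7115 : nd 7115 = n8013 := ndS (p := 4310) (l := 1) rfl N4310 D8013
theorem N7116 : nd 7116 = n8014 := ndS (p := 4310) (l := 3) rfl N4310 D8014
theorem N7117 : nd 7117 = n8015 := ndS (p := 4310) (l := 4) rfl N4310 D8015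
theorem N7118 : nd 7118 = n8016 := ndS (p := 4312) (l := 1) rfl N4312 D8016
theorem N7119 : nd 7119 = n8017 := ndS (p := 4312) (l := 4) rfl N4312 D8017
theorem N7120 : nd 7120 = n8018 := ndS (p := 4313) (l := 2) rfl N4313 D8018
theorem N7121 : nd 7121 = n8019 := ndS (p := 4314) (l := 1) rfl N4314 D8019
theorem N7122 : nd 7122 = n8020 := ndS (p := 4314) (l := 3) rfl N4314 D8020
theorem N7123 : nd 7123 = n8021 := ndS (p := 4314) (l := 4) rfl N4314 D8021
theorem N7124 : nd 7124 = n8022 := ndS (p := 4315) (l := 4) rfl N4315 D8022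
theorem N7125 : nd 7125 = n8023 := ndS (p := 4316) (l := 4) rfl N4316 D8023
theorem N7126 : nd 7126 = n8024 := ndS (p := 4318) (l := 1) rfl N4318 D8024
theorem N7127 : nd 7127 = n8025 := ndS (p := 4320) (l := 2) rfl N4320 D8025
theorem N7128 : nd 7128 = n8026 := ndS (p := 4320) (l := 3) rfl N4320 D8026
theorem N7129 : nd 7129 = n8027 := ndS (p := 4321) (l := 0) rfl N4321 D8027
theorem N7130 : nd 7130 = n8028 := ndS (p := 4321) (l := 4) rfl N4321 D8028
theorem N7131 : nd 7131 = n8029 := ndS (p := 4322) (l := 3) rfl N4322 D8029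
theorem N7132 : nd 7132 = n8030 := ndS (p := 4323) (l := 1) rfl N4323 D8030
theorem N7133 : nd 7133 = n8031 := ndS (p := 4323) (l := 3) rfl N4323 D8031
theorem N7134 : nd 7134 = n8032 := ndS (p := 4323) (l := 4) rfl N4323 D8032
theorem N7135 : nd 7135 = n8033 := ndS (p := 4324) (l := 4) rfl N4324 D8033
theorem N7136 : nd 7136 = n8034 := ndS (p := 4325) (l := 4) rfl N4325 D8034
theorem N7137 : nd 7137 = n8035 := ndS (p := 4327) (l := 4) rfl N4327 D8035
theorem N7138 : nd 7138 = n8036 := ndS (p := 4329) (l := 4) rfl N4329 D8036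
theorem N7139 : nd 7139 = n8037 := ndS (p := 4330) (l := 3) rfl N4330 D8037
theorem N7140 : nd 7140 = n8038 := ndS (p := 4331) (l := 3) rfl N4331 D8038
theorem N7141 : nd 7141 = n8039 := ndS (p := 4333) (l := 4) rfl N4333 D8039
theorem N7142 : nd 7142 = n8040 := ndS (p := 4334) (l := 4) rfl N4334 D8040
theorem N7143 : nd 7143 = n8041 := ndS (p := 4335) (l := 1) rfl N4335 D8041
theorem N7144 : nd 7144 = n8042 := ndS (p := 4335) (l := 3) rfl N4335 D8042
theorem N7145 : nd 7145 = n8043 := ndS (p := 4335) (l := 4) rfl N4335 D8043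
theorem N7146 : nd 7146 = n8044 := ndS (p := 4337) (l := 4) rfl N4337 D8044
theorem N7147 : nd 7147 = n8045 := ndS (p := 4340) (l := 1) rfl N4340 D8045
theorem N7148 : nd 7148 = n8046 := ndS (p := 4340) (l := 3) rfl N4340 D8046
theorem N7149 : nd 7149 = n8047 := ndS (p := 4340) (l := 4) rfl N4340 D8047
theorem N7150 : nd 7150 = n8048 := ndS (p := 4342) (l := 0) rfl N4342 D8048
theorem N7151 : nd 7151 = n8049 := ndS (p := 4342) (l := 4) rfl N4342 D8049
theorem N7152 : nd 7152 = n8050 := ndS (p := 4343) (l := 4) rfl N4343 D8050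
theorem N7153 : nd 7153 = n8051 := ndS (p := 4344) (l := 2) rfl N4344 D8051
theorem N7154 : nd 7154 = n8052 := ndS (p := 4348) (l := 4) rfl N4348 D8052
theorem N7155 : nd 7155 = n8053 := ndS (p := 4351) (l := 4) rfl N4351 D8053
theorem N7156 : nd 7156 = n8054 := ndS (p := 4352) (l := 1) rfl N4352 D8054
theorem N7157 : nd 7157 = n8055 := ndS (p := 4352) (l := 4) rfl N4352 D8055
theorem N7158 : nd 7158 = n8056 := ndS (p := 4354) (l := 0) rfl N4354 D8056
theorem N7159 : nd 7159 = n8057 := ndS (p := 4354) (l := 2) rfl N4354 D8057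
theorem N7160 : nd 7160 = n8058 := ndS (p := 4354) (l := 3) rfl N4354 D8058
theorem N7161 : nd 7161 = n8059 := ndS (p := 4354) (l := 4) rfl N4354 D8059
theorem N7162 : nd 7162 = n8060 := ndS (p := 4355) (l := 4) rfl N4355 D8060
theorem N7163 : nd 7163 = n8061 := ndS (p := 4358) (l := 0) rfl N4358 D8061
theorem N7164 : nd 7164 = n8062 := ndS (p := 4358) (l := 2) rfl N4358 D8062
theorem N7165 : nd 7165 = n8063 := ndS (p := 4358) (l := 4) rfl N4358 D8063
theorem N7166 : nd 7166 = n8064 := ndS (p := 4359) (l := 4) rfl N4359 D8064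
theorem N7167 : nd 7167 = n8065 := ndS (p := 4360) (l := 3) rfl N4360 D8065
theorem N7168 : nd 7168 = n8066 := ndS (p := 4361) (l := 1) rfl N4361 D8066
theorem N7169 : nd 7169 = n8067 := ndS (p := 4361) (l := 4) rfl N4361 D8067
theorem N7170 : nd 7170 = n8068 := ndS (p := 4362) (l := 0) rfl N4362 D8068
theorem N7171 : nd 7171 = n8069 := ndS (p := 4362) (l := 3) rfl N4362 D8069
theorem N7172 : nd 7172 = n8070 := ndS (p := 4363) (l := 0) rfl N4363 D8070
theorem N7173 : nd 7173 = n8071 := ndS (p := 4363) (l := 4) rfl N4363 D8071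
theorem N7174 : nd 7174 = n8072 := ndS (p := 4364) (l := 2) rfl N4364 D8072
theorem N7175 : nd 7175 = n8073 := ndS (p := 4365) (l := 1) rfl N4365 D8073
theorem N7176 : nd 7176 = n8074 := ndS (p := 4365) (l := 4) rfl N4365 D8074
theorem N7177 : nd 7177 = n8075 := ndS (p := 4367) (l := 0) rfl N4367 D8075
theorem N7178 : nd 7178 = n8076 := ndS (p := 4367) (l := 4) rfl N4367 D8076
theorem N7179 : nd 7179 = n8077 := ndS (p := 4368) (l := 3) rfl N4368 D8077
theorem N7180 : nd 7180 = n8078 := ndS (p := 4372) (l := 3) rfl N4372 D8078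
theorem N7181 : nd 7181 = n8079 := ndS (p := 4373) (l := 0) rfl N4373 D8079
theorem N7182 : nd 7182 = n8080 := ndS (p := 4373) (l := 4) rfl N4373 D8080
theorem N7183 : nd 7183 = n8081 := ndS (p := 4374) (l := 1) rfl N4374 D8081
theorem N7184 : nd 7184 = n8082 := ndS (p := 4374) (l := 4) rfl N4374 D8082
theorem N7185 : nd 7185 = n8083 := ndS (p := 4375) (l := 2) rfl N4375 D8083
theorem N7186 : nd 7186 = n8084 := ndS (p := 4377) (l := 0) rfl N4377 D8084
theorem N7187 : nd 7187 = n8085 := ndS (p := 4377) (l := 2) rfl N4377 D8085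
theorem N7188 : nd 7188 = n8086 := ndS (p := 4377) (l := 4) rfl N4377 D8086
theorem N7189 : nd 7189 = n8087 := ndS (p := 4381) (l := 2) rfl N4381 D8087
theorem N7190 : nd 7190 = n8088 := ndS (p := 4383) (l := 2) rfl N4383 D8088
theorem N7191 : nd 7191 = n8089 := ndS (p := 4384) (l := 0) rfl N4384 D8089
theorem N7192 : nd 7192 = n8090 := ndS (p := 4384) (l := 2) rfl N4384 D8090
theorem N7193 : nd 7193 = n8091 := ndS (p := 4384) (l := 4) rfl N4384 D8091
theorem N7194 : nd 7194 = n8092 := ndS (p := 4386) (l := 1) rfl N4386 D8092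
theorem N7195 : nd 7195 = n8093 := ndS (p := 4387) (l := 4) rfl N4387 D8093
theorem N7196 : nd 7196 = n8094 := ndS (p := 4388) (l := 4) rfl N4388 D8094
theorem N7197 : nd 7197 = n8095 := ndS (p := 4389) (l := 2) rfl N4389 D8095
theorem N7198 : nd 7198 = n8096 := ndS (p := 4389) (l := 3) rfl N4389 D8096
theorem N7199 : nd 7199 = n8097 := ndS (p := 4390) (l := 0) rfl N4390 D8097
theorem N7200 : nd 7200 = n8098 := ndS (p := 4390) (l := 3) rfl N4390 D8098
theorem N7201 : nd 7201 = n8099 := ndS (p := 4390) (l := 4) rfl N4390 D8099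
theorem N7202 : nd 7202 = n8100 := ndS (p := 4391) (l := 4) rfl N4391 D8100
theorem N7203 : nd 7203 = n8101 := ndS (p := 4392) (l := 0) rfl N4392 D8101
theorem N7204 : nd 7204 = n8102 := ndS (p := 4392) (l := 4) rfl N4392 D8102
theorem N7205 : nd 7205 = n8103 := ndS (p := 4394) (l := 1) rfl N4394 D8103
theorem N7206 : nd 7206 = n8104 := ndS (p := 4394) (l := 2) rfl N4394 D8104
theorem N7207 : nd 7207 = n8105 := ndS (p := 4394) (l := 4) rfl N4394 D8105
theorem N7208 : nd 7208 = n8106 := ndS (p := 4397) (l := 4) rfl N4397 D8106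
theorem N7209 : nd 7209 = n8107 := ndS (p := 4398) (l := 3) rfl N4398 D8107
theorem N7210 : nd 7210 = n8108 := ndS (p := 4399) (l := 2) rfl N4399 D8108
theorem N7211 : nd 7211 = n8109 := ndS (p := 4400) (l := 3) rfl N4400 D8109
theorem N7212 : nd 7212 = n8110 := ndS (p := 4400) (l := 4) rfl N4400 D8110
theorem N7213 : nd 7213 = n8111 := ndS (p := 4401) (l := 4) rfl N4401 D8111
theorem N7214 : nd 7214 = n8112 := ndS (p := 4402) (l := 1) rfl N4402 D8112
theorem N7215 : nd 7215 = n8113 := ndS (p := 4402) (l := 3) rfl N4402 D8113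
theorem N7216 : nd 7216 = n8114 := ndS (p := 4402) (l := 4) rfl N4402 D8114
theorem N7217 : nd 7217 = n8115 := ndS (p := 4403) (l := 3) rfl N4403 D8115
theorem N7218 : nd 7218 = n8116 := ndS (p := 4404) (l := 4) rfl N4404 D8116
theorem N7219 : nd 7219 = n8117 := ndS (p := 4408) (l := 1) rfl N4408 D8117
theorem N7220 : nd 7220 = n8118 := ndS (p := 4408) (l := 3) rfl N4408 D8118
theorem N7221 : nd 7221 = n8119 := ndS (p := 4408) (l := 4) rfl N4408 D8119
theorem N7222 : nd 7222 = n8120 := ndS (p := 4410) (l := 4) rfl N4410 D8120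
theorem N7223 : nd 7223 = n8121 := ndS (p := 4411) (l := 4) rfl N4411 D8121
theorem N7224 : nd 7224 = n8122 := ndS (p := 4412) (l := 2) rfl N4412 D8122
theorem N7225 : nd 7225 = n8123 := ndS (p := 4413) (l := 3) rfl N4413 D8123
theorem N7226 : nd 7226 = n8124 := ndS (p := 4414) (l := 1) rfl N4414 D8124
theorem N7227 : nd 7227 = n8125 := ndS (p := 4414) (l := 3) rfl N4414 D8125
theorem N7228 : nd 7228 = n8126 := ndS (p := 4415) (l := 4) rfl N4415 D8126
theorem N7229 : nd 7229 = n8127 := ndS (p := 4416) (l := 2) rfl N4416 D8127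
theorem N7230 : nd 7230 = n8128 := ndS (p := 4416) (l := 3) rfl N4416 D8128
theorem N7231 : nd 7231 = n8129 := ndS (p := 4417) (l := 1) rfl N4417 D8129
theorem N7232 : nd 7232 = n8130 := ndS (p := 4417) (l := 2) rfl N4417 D8130
theorem N7233 : nd 7233 = n8131 := ndS (p := 4417) (l := 3) rfl N4417 D8131
theorem N7234 : nd 7234 = n8132 := ndS (p := 4419) (l := 2) rfl N4419 D8132
theorem N7235 : nd 7235 = n8133 := ndS (p := 4420) (l := 2) rfl N4420 D8133
theorem N7236 : nd 7236 = n8134 := ndS (p := 4421) (l := 0) rfl N4421 D8134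
theorem N7237 : nd 7237 = n8135 := ndS (p := 4423) (l := 1) rfl N4423 D8135
theorem N7238 : nd 7238 = n8136 := ndS (p := 4423) (l := 2) rfl N4423 D8136
theorem N7239 : nd 7239 = n8137 := ndS (p := 4423) (l := 3) rfl N4423 D8137
theorem N7240 : nd 7240 = n8138 := ndS (p := 4423) (l := 4) rfl N4423 D8138
theorem N7241 : nd 7241 = n8139 := ndS (p := 4424) (l := 2) rfl N4424 D8139
theorem N7242 : nd 7242 = n8140 := ndS (p := 4425) (l := 3) rfl N4425 D8140
theorem N7243 : nd 7243 = n8141 := ndS (p := 4425) (l := 4) rfl N4425 D8141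
theorem N7244 : nd 7244 = n8142 := ndS (p := 4426) (l := 1) rfl N4426 D8142
theorem N7245 : nd 7245 = n8143 := ndS (p := 4426) (l := 3) rfl N4426 D8143
theorem N7246 : nd 7246 = n8144 := ndS (p := 4426) (l := 4) rfl N4426 D8144
theorem N7247 : nd 7247 = n8145 := ndS (p := 4428) (l := 2) rfl N4428 D8145
theorem N7248 : nd 7248 = n8146 := ndS (p := 4429) (l := 0) rfl N4429 D8146
theorem N7249 : nd 7249 = n8147 := ndS (p := 4430) (l := 0) rfl N4430 D8147
theorem N7250 : nd 7250 = n8148 := ndS (p := 4430) (l := 1) rfl N4430 D8148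
theorem N7251 : nd 7251 = n8149 := ndS (p := 4430) (l := 4) rfl N4430 D8149
theorem N7252 : nd 7252 = n8150 := ndS (p := 4431) (l := 4) rfl N4431 D8150
theorem N7253 : nd 7253 = n8151 := ndS (p := 4433) (l := 2) rfl N4433 D8151
theorem N7254 : nd 7254 = n8152 := ndS (p := 4434) (l := 2) rfl N4434 D8152
theorem N7255 : nd 7255 = n8153 := ndS (p := 4435) (l := 2) rfl N4435 D8153
theorem N7256 : nd 7256 = n8154 := ndS (p := 4436) (l := 3) rfl N4436 D8154
theorem N7257 : nd 7257 = n8155 := ndS (p := 4437) (l := 4) rfl N4437 D8155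
theorem N7258 : nd 7258 = n8156 := ndS (p := 4438) (l := 1) rfl N4438 D8156
theorem N7259 : nd 7259 = n8157 := ndS (p := 4438) (l := 3) rfl N4438 D8157
theorem N7260 : nd 7260 = n8158 := ndS (p := 4439) (l := 0) rfl N4439 D8158
theorem N7261 : nd 7261 = n8159 := ndS (p := 4441) (l := 4) rfl N4441 D8159
theorem N7262 : nd 7262 = n8160 := ndS (p := 4442) (l := 1) rfl N4442 D8160
theorem N7263 : nd 7263 = n8161 := ndS (p := 4442) (l := 3) rfl N4442 D8161
theorem N7264 : nd 7264 = n8162 := ndS (p := 4442) (l := 4) rfl N4442 D8162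
theorem N7265 : nd 7265 = n8163 := ndS (p := 4444) (l := 2) rfl N4444 D8163
theorem N7266 : nd 7266 = n8164 := ndS (p := 4444) (l := 4) rfl N4444 D8164
theorem N7267 : nd 7267 = n8165 := ndS (p := 4447) (l := 3) rfl N4447 D8165
theorem N7268 : nd 7268 = n8166 := ndS (p := 4448) (l := 4) rfl N4448 D8166
theorem N7269 : nd 7269 = n8167 := ndS (p := 4450) (l := 1) rfl N4450 D8167
theorem N7270 : nd 7270 = n8168 := ndS (p := 4452) (l := 3) rfl N4452 D8168
theorem N7271 : nd 7271 = n8169 := ndS (p := 4452) (l := 4) rfl N4452 D8169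
theorem N7272 : nd 7272 = n8170 := ndS (p := 4453) (l := 4) rfl N4453 D8170
theorem N7273 : nd 7273 = n8171 := ndS (p := 4454) (l := 2) rfl N4454 D8171
theorem N7274 : nd 7274 = n8172 := ndS (p := 4454) (l := 3) rfl N4454 D8172
theorem N7275 : nd 7275 = n8173 := ndS (p := 4455) (l := 0) rfl N4455 D8173
theorem N7276 : nd 7276 = n8174 := ndS (p := 4455) (l := 3) rfl N4455 D8174
theorem N7277 : nd 7277 = n8175 := ndS (p := 4456) (l := 4) rfl N4456 D8175
theorem N7278 : nd 7278 = n8176 := ndS (p := 4457) (l := 0) rfl N4457 D8176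
theorem N7279 : nd 7279 = n8177 := ndS (p := 4457) (l := 4) rfl N4457 D8177
theorem N7280 : nd 7280 = n8178 := ndS (p := 4458) (l := 1) rfl N4458 D8178
theorem N7281 : nd 7281 = n8179 := ndS (p := 4458) (l := 2) rfl N4458 D8179
theorem N7282 : nd 7282 = n8180 := ndS (p := 4458) (l := 4) rfl N4458 D8180
theorem N7283 : nd 7283 = n8181 := ndS (p := 4462) (l := 1) rfl N4462 D8181
theorem N7284 : nd 7284 = n8182 := ndS (p := 4462) (l := 3) rfl N4462 D8182
theorem N7285 : nd 7285 = n8183 := ndS (p := 4462) (l := 4) rfl N4462 D8183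
theorem N7286 : nd 7286 = n8184 := ndS (p := 4463) (l := 0) rfl N4463 D8184
theorem N7287 : nd 7287 = n8185 := ndS (p := 4463) (l := 2) rfl N4463 D8185
theorem N7288 : nd 7288 = n8186 := ndS (p := 4463) (l := 3) rfl N4463 D8186
theorem N7289 : nd 7289 = n8187 := ndS (p := 4463) (l := 4) rfl N4463 D8187
theorem N7290 : nd 7290 = n8188 := ndS (p := 4464) (l := 4) rfl N4464 D8188
theorem N7291 : nd 7291 = n8189 := ndS (p := 4467) (l := 3) rfl N4467 D8189
theorem N7292 : nd 7292 = n8190 := ndS (p := 4468) (l := 3) rfl N4468 D8190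
theorem N7293 : nd 7293 = n8191 := ndS (p := 4469) (l := 0) rfl N4469 D8191
theorem N7294 : nd 7294 = n8192 := ndS (p := 4469) (l := 4) rfl N4469 D8192
theorem N7295 : nd 7295 = n8193 := ndS (p := 4471) (l := 1) rfl N4471 D8193
theorem N7296 : nd 7296 = n8194 := ndS (p := 4471) (l := 4) rfl N4471 D8194
theorem N7297 : nd 7297 = n8195 := ndS (p := 4476) (l := 1) rfl N4476 D8195
theorem N7298 : nd 7298 = n8196 := ndS (p := 4477) (l := 0) rfl N4477 D8196
theorem N7299 : nd 7299 = n8197 := ndS (p := 4477) (l := 2) rfl N4477 D8197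
theorem N7300 : nd 7300 = n8198 := ndS (p := 4480) (l := 0) rfl N4480 D8198
theorem N7301 : nd 7301 = n8199 := ndS (p := 4480) (l := 2) rfl N4480 D8199
theorem N7302 : nd 7302 = n8200 := ndS (p := 4483) (l := 1) rfl N4483 D8200
theorem N7303 : nd 7303 = n8201 := ndS (p := 4483) (l := 3) rfl N4483 D8201
theorem N7304 : nd 7304 = n8202 := ndS (p := 4483) (l := 4) rfl N4483 D8202
theorem N7305 : nd 7305 = n8203 := ndS (p := 4484) (l := 0) rfl N4484 D8203
theorem N7306 : nd 7306 = n8204 := ndS (p := 4484) (l := 3) rfl N4484 D8204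
theorem N7307 : nd 7307 = n8205 := ndS (p := 4485) (l := 0) rfl N4485 D8205
theorem N7308 : nd 7308 = n8206 := ndS (p := 4485) (l := 4) rfl N4485 D8206
theorem N7309 : nd 7309 = n8207 := ndS (p := 4487) (l := 1) rfl N4487 D8207
theorem N7310 : nd 7310 = n8208 := ndS (p := 4487) (l := 4) rfl N4487 D8208
theorem N7311 : nd 7311 = n8209 := ndS (p := 4489) (l := 3) rfl N4489 D8209
theorem N7312 : nd 7312 = n8210 := ndS (p := 4493) (l := 0) rfl N4493 D8210
theorem N7313 : nd 7313 = n8211 := ndS (p := 4494) (l := 0) rfl N4494 D8211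
theorem N7314 : nd 7314 = n8212 := ndS (p := 4494) (l := 4) rfl N4494 D8212
theorem N7315 : nd 7315 = n8213 := ndS (p := 4495) (l := 1) rfl N4495 D8213
theorem N7316 : nd 7316 = n8214 := ndS (p := 4495) (l := 3) rfl N4495 D8214
theorem N7317 : nd 7317 = n8215 := ndS (p := 4495) (l := 4) rfl N4495 D8215
theorem N7318 : nd 7318 = n8216 := ndS (p := 4497) (l := 0) rfl N4497 D8216
theorem N7319 : nd 7319 = n8217 := ndS (p := 4497) (l := 2) rfl N4497 D8217
theorem N7320 : nd 7320 = n8218 := ndS (p := 4499) (l := 0) rfl N4499 D8218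
theorem N7321 : nd 7321 = n8219 := ndS (p := 4499) (l := 2) rfl N4499 D8219
theorem N7322 : nd 7322 = n8220 := ndS (p := 4502) (l := 4) rfl N4502 D8220
theorem N7323 : nd 7323 = n8221 := ndS (p := 4504) (l := 0) rfl N4504 D8221
theorem N7324 : nd 7324 = n8222 := ndS (p := 4504) (l := 3) rfl N4504 D8222
theorem N7325 : nd 7325 = n8223 := ndS (p := 4504) (l := 4) rfl N4504 D8223
theorem N7326 : nd 7326 = n8224 := ndS (p := 4505) (l := 4) rfl N4505 D8224
theorem N7327 : nd 7327 = n8225 := ndS (p := 4508) (l := 3) rfl N4508 D8225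
theorem N7328 : nd 7328 = n8226 := ndS (p := 4509) (l := 0) rfl N4509 D8226
theorem N7329 : nd 7329 = n8227 := ndS (p := 4509) (l := 4) rfl N4509 D8227
theorem N7330 : nd 7330 = n8228 := ndS (p := 4512) (l := 4) rfl N4512 D8228
theorem N7331 : nd 7331 = n8229 := ndS (p := 4514) (l := 0) rfl N4514 D8229
theorem N7332 : nd 7332 = n8230 := ndS (p := 4514) (l := 3) rfl N4514 D8230
theorem N7333 : nd 7333 = n8231 := ndS (p := 4516) (l := 3) rfl N4516 D8231
theorem N7334 : nd 7334 = n8232 := ndS (p := 4516) (l := 4) rfl N4516 D8232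
theorem N7335 : nd 7335 = n8233 := ndS (p := 4517) (l := 3) rfl N4517 D8233
theorem N7336 : nd 7336 = n8234 := ndS (p := 4519) (l := 1) rfl N4519 D8234
theorem N7337 : nd 7337 = n8235 := ndS (p := 4520) (l := 0) rfl N4520 D8235
theorem N7338 : nd 7338 = n8236 := ndS (p := 4520) (l := 3) rfl N4520 D8236
theorem N7339 : nd 7339 = n8237 := ndS (p := 4520) (l := 4) rfl N4520 D8237
theorem N7340 : nd 7340 = n8238 := ndS (p := 4524) (l := 0) rfl N4524 D8238
theorem N7341 : nd 7341 = n8239 := ndS (p := 4524) (l := 2) rfl N4524 D8239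
theorem N7342 : nd 7342 = n8240 := ndS (p := 4524) (l := 3) rfl N4524 D8240
theorem N7343 : nd 7343 = n8241 := ndS (p := 4524) (l := 4) rfl N4524 D8241
theorem N7344 : nd 7344 = n8242 := ndS (p := 4525) (l := 4) rfl N4525 D8242
theorem N7345 : nd 7345 = n8243 := ndS (p := 4526) (l := 3) rfl N4526 D8243
theorem N7346 : nd 7346 = n8244 := ndS (p := 4527) (l := 2) rfl N4527 D8244
theorem N7347 : nd 7347 = n8245 := ndS (p := 4527) (l := 3) rfl N4527 D8245
theorem N7348 : nd 7348 = n8246 := ndS (p := 4528) (l := 0) rfl N4528 D8246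
theorem N7349 : nd 7349 = n8247 := ndS (p := 4528) (l := 3) rfl N4528 D8247
theorem N7350 : nd 7350 = n8248 := ndS (p := 4529) (l := 0) rfl N4529 D8248
theorem N7351 : nd 7351 = n8249 := ndS (p := 4531) (l := 3) rfl N4531 D8249
theorem N7352 : nd 7352 = n8250 := ndS (p := 4533) (l := 3) rfl N4533 D8250
theorem N7353 : nd 7353 = n8251 := ndS (p := 4534) (l := 0) rfl N4534 D8251
theorem N7354 : nd 7354 = n8252 := ndS (p := 4535) (l := 2) rfl N4535 D8252
theorem N7355 : nd 7355 = n8253 := ndS (p := 4535) (l := 3) rfl N4535 D8253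
theorem N7356 : nd 7356 = n8254 := ndS (p := 4536) (l := 0) rfl N4536 D8254
theorem N7357 : nd 7357 = n8255 := ndS (p := 4536) (l := 2) rfl N4536 D8255
theorem N7358 : nd 7358 = n8256 := ndS (p := 4536) (l := 3) rfl N4536 D8256
theorem N7359 : nd 7359 = n8257 := ndS (p := 4536) (l := 4) rfl N4536 D8257
theorem N7360 : nd 7360 = n8258 := ndS (p := 4539) (l := 2) rfl N4539 D8258
theorem N7361 : nd 7361 = n8259 := ndS (p := 4540) (l := 0) rfl N4540 D8259
theorem N7362 : nd 7362 = n8260 := ndS (p := 4541) (l := 2) rfl N4541 D8260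
theorem N7363 : nd 7363 = n8261 := ndS (p := 4542) (l := 0) rfl N4542 D8261
theorem N7364 : nd 7364 = n8262 := ndS (p := 4542) (l := 4) rfl N4542 D8262
theorem N7365 : nd 7365 = n8263 := ndS (p := 4544) (l := 1) rfl N4544 D8263
theorem N7366 : nd 7366 = n8264 := ndS (p := 4547) (l := 4) rfl N4547 D8264
theorem N7367 : nd 7367 = n8265 := ndS (p := 4550) (l := 4) rfl N4550 D8265
theorem N7368 : nd 7368 = n8266 := ndS (p := 4551) (l := 4) rfl N4551 D8266
theorem N7369 : nd 7369 = n8267 := ndS (p := 4552) (l := 3) rfl N4552 D8267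
theorem N7370 : nd 7370 = n8268 := ndS (p := 4555) (l := 4) rfl N4555 D8268
theorem N7371 : nd 7371 = n8269 := ndS (p := 4557) (l := 4) rfl N4557 D8269
theorem N7372 : nd 7372 = n8270 := ndS (p := 4559) (l := 2) rfl N4559 D8270
theorem N7373 : nd 7373 = n8271 := ndS (p := 4560) (l := 1) rfl N4560 D8271
theorem N7374 : nd 7374 = n8272 := ndS (p := 4560) (l := 3) rfl N4560 D8272
theorem N7375 : nd 7375 = n8273 := ndS (p := 4560) (l := 4) rfl N4560 D8273
theorem N7376 : nd 7376 = n8274 := ndS (p := 4562) (l := 4) rfl N4562 D8274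
theorem N7377 : nd 7377 = n8275 := ndS (p := 4565) (l := 1) rfl N4565 D8275
theorem N7378 : nd 7378 = n8276 := ndS (p := 4565) (l := 3) rfl N4565 D8276
theorem N7379 : nd 7379 = n8277 := ndS (p := 4565) (l := 4) rfl N4565 D8277
theorem N7380 : nd 7380 = n8278 := ndS (p := 4566) (l := 0) rfl N4566 D8278
theorem N7381 : nd 7381 = n8279 := ndS (p := 4566) (l := 3) rfl N4566 D8279
theorem N7382 : nd 7382 = n8280 := ndS (p := 4567) (l := 4) rfl N4567 D8280
theorem N7383 : nd 7383 = n8281 := ndS (p := 4568) (l := 2) rfl N4568 D8281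
theorem N7384 : nd 7384 = n8282 := ndS (p := 4568) (l := 3) rfl N4568 D8282
theorem N7385 : nd 7385 = n8283 := ndS (p := 4571) (l := 3) rfl N4571 D8283
theorem N7386 : nd 7386 = n8284 := ndS (p := 4574) (l := 1) rfl N4574 D8284
theorem N7387 : nd 7387 = n8285 := ndS (p := 4574) (l := 3) rfl N4574 D8285
theorem N7388 : nd 7388 = n8286 := ndS (p := 4575) (l := 0) rfl N4575 D8286
theorem N7389 : nd 7389 = n8287 := ndS (p := 4576) (l := 1) rfl N4576 D8287
theorem N7390 : nd 7390 = n8288 := ndS (p := 4576) (l := 2) rfl N4576 D8288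
theorem N7391 : nd 7391 = n8289 := ndS (p := 4577) (l := 2) rfl N4577 D8289
theorem N7392 : nd 7392 = n8290 := ndS (p := 4577) (l := 4) rfl N4577 D8290
theorem N7393 : nd 7393 = n8291 := ndS (p := 4579) (l := 3) rfl N4579 D8291
theorem N7394 : nd 7394 = n8292 := ndS (p := 4580) (l := 0) rfl N4580 D8292
theorem N7395 : nd 7395 = n8293 := ndS (p := 4580) (l := 4) rfl N4580 D8293
theorem N7396 : nd 7396 = n8294 := ndS (p := 4581) (l := 1) rfl N4581 D8294
theorem N7397 : nd 7397 = n8295 := ndS (p := 4581) (l := 3) rfl N4581 D8295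
theorem N7398 : nd 7398 = n8296 := ndS (p := 4581) (l := 4) rfl N4581 D8296
theorem N7399 : nd 7399 = n8297 := ndS (p := 4583) (l := 0) rfl N4583 D8297
theorem N7400 : nd 7400 = n8298 := ndS (p := 4584) (l := 0) rfl N4584 D8298
theorem N7401 : nd 7401 = n8299 := ndS (p := 4586) (l := 2) rfl N4586 D8299
theorem N7402 : nd 7402 = n8300 := ndS (p := 4588) (l := 3) rfl N4588 D8300
theorem N7403 : nd 7403 = n8301 := ndS (p := 4590) (l := 1) rfl N4590 D8301
theorem N7404 : nd 7404 = n8302 := ndS (p := 4590) (l := 3) rfl N4590 D8302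
theorem N7405 : nd 7405 = n8303 := ndS (p := 4591) (l := 0) rfl N4591 D8303
theorem N7406 : nd 7406 = n8304 := ndS (p := 4591) (l := 3) rfl N4591 D8304
theorem N7407 : nd 7407 = n8305 := ndS (p := 4592) (l := 1) rfl N4592 D8305
theorem N7408 : nd 7408 = n8306 := ndS (p := 4594) (l := 3) rfl N4594 D8306
theorem N7409 : nd 7409 = n8307 := ndS (p := 4594) (l := 4) rfl N4594 D8307
theorem N7410 : nd 7410 = n8308 := ndS (p := 4595) (l := 0) rfl N4595 D8308
theorem N7411 : nd 7411 = n8309 := ndS (p := 4595) (l := 3) rfl N4595 D8309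
theorem N7412 : nd 7412 = n8310 := ndS (p := 4597) (l := 2) rfl N4597 D8310
theorem N7413 : nd 7413 = n8311 := ndS (p := 4598) (l := 0) rfl N4598 D8311
theorem N7414 : nd 7414 = n8312 := ndS (p := 4599) (l := 0) rfl N4599 D8312
theorem N7415 : nd 7415 = n8313 := ndS (p := 4602) (l := 1) rfl N4602 D8313
theorem N7416 : nd 7416 = n8314 := ndS (p := 4602) (l := 2) rfl N4602 D8314
theorem N7417 : nd 7417 = n8315 := ndS (p := 4602) (l := 3) rfl N4602 D8315
theorem N7418 : nd 7418 = n8316 := ndS (p := 4602) (l := 4) rfl N4602 D8316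
theorem N7419 : nd 7419 = n8317 := ndS (p := 4605) (l := 0) rfl N4605 D8317
theorem N7420 : nd 7420 = n8318 := ndS (p := 4606) (l := 2) rfl N4606 D8318
theorem N7421 : nd 7421 = n8319 := ndS (p := 4607) (l := 1) rfl N4607 D8319
theorem N7422 : nd 7422 = n8320 := ndS (p := 4607) (l := 4) rfl N4607 D8320
theorem N7423 : nd 7423 = n8321 := ndS (p := 4608) (l := 2) rfl N4608 D8321
theorem N7424 : nd 7424 = n8322 := ndS (p := 4609) (l := 1) rfl N4609 D8322
theorem N7425 : nd 7425 = n8323 := ndS (p := 4609) (l := 4) rfl N4609 D8323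
theorem N7426 : nd 7426 = n8324 := ndS (p := 4610) (l := 1) rfl N4610 D8324
theorem N7427 : nd 7427 = n8325 := ndS (p := 4610) (l := 3) rfl N4610 D8325
theorem N7428 : nd 7428 = n8326 := ndS (p := 4610) (l := 4) rfl N4610 D8326
theorem N7429 : nd 7429 = n8327 := ndS (p := 4611) (l := 0) rfl N4611 D8327
theorem N7430 : nd 7430 = n8328 := ndS (p := 4611) (l := 2) rfl N4611 D8328
theorem N7431 : nd 7431 = n8329 := ndS (p := 4611) (l := 3) rfl N4611 D8329
theorem N7432 : nd 7432 = n8330 := ndS (p := 4611) (l := 4) rfl N4611 D8330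
theorem N7433 : nd 7433 = n8331 := ndS (p := 4612) (l := 0) rfl N4612 D8331
theorem N7434 : nd 7434 = n8332 := ndS (p := 4612) (l := 4) rfl N4612 D8332
theorem N7435 : nd 7435 = n8334 := ndS (p := 4614) (l := 2) rfl N4614 D8334
theorem N7436 : nd 7436 = n8335 := ndS (p := 4614) (l := 4) rfl N4614 D8335
theorem N7437 : nd 7437 = n8336 := ndS (p := 4616) (l := 4) rfl N4616 D8336
theorem N7438 : nd 7438 = n8337 := ndS (p := 4618) (l := 2) rfl N4618 D8337
theorem N7439 : nd 7439 = n8338 := ndS (p := 4619) (l := 3) rfl N4619 D8338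
theorem N7440 : nd 7440 = n8339 := ndS (p := 4620) (l := 4) rfl N4620 D8339
theorem N7441 : nd 7441 = n8340 := ndS (p := 4621) (l := 4) rfl N4621 D8340
theorem N7442 : nd 7442 = n8341 := ndS (p := 4622) (l := 4) rfl N4622 D8341
theorem N7443 : nd 7443 = n8342 := ndS (p := 4623) (l := 4) rfl N4623 D8342
theorem N7444 : nd 7444 = n8343 := ndS (p := 4624) (l := 2) rfl N4624 D8343
theorem N7445 : nd 7445 = n8344 := ndS (p := 4624) (l := 3) rfl N4624 D8344
theorem N7446 : nd 7446 = n8345 := ndS (p := 4625) (l := 0) rfl N4625 D8345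
theorem N7447 : nd 7447 = n8346 := ndS (p := 4625) (l := 4) rfl N4625 D8346
theorem N7448 : nd 7448 = n8347 := ndS (p := 4627) (l := 0) rfl N4627 D8347
theorem N7449 : nd 7449 = n8348 := ndS (p := 4627) (l := 4) rfl N4627 D8348
theorem N7450 : nd 7450 = n8349 := ndS (p := 4629) (l := 2) rfl N4629 D8349
theorem N7451 : nd 7451 = n8350 := ndS (p := 4629) (l := 4) rfl N4629 D8350
theorem N7452 : nd 7452 = n8351 := ndS (p := 4632) (l := 0) rfl N4632 D8351
theorem N7453 : nd 7453 = n8352 := ndS (p := 4632) (l := 1) rfl N4632 D8352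
theorem N7454 : nd 7454 = n8353 := ndS (p := 4632) (l := 4) rfl N4632 D8353
theorem N7455 : nd 7455 = n8354 := ndS (p := 4633) (l := 1) rfl N4633 D8354
theorem N7456 : nd 7456 = n8355 := ndS (p := 4633) (l := 3) rfl N4633 D8355
theorem N7457 : nd 7457 = n8356 := ndS (p := 4633) (l := 4) rfl N4633 D8356
theorem N7458 : nd 7458 = n8357 := ndS (p := 4634) (l := 2) rfl N4634 D8357
theorem N7459 : nd 7459 = n8358 := ndS (p := 4634) (l := 4) rfl N4634 D8358
theorem N7460 : nd 7460 = n8359 := ndS (p := 4636) (l := 4) rfl N4636 D8359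
theorem N7461 : nd 7461 = n8360 := ndS (p := 4637) (l := 4) rfl N4637 D8360
theorem N7462 : nd 7462 = n8361 := ndS (p := 4638) (l := 3) rfl N4638 D8361
theorem N7463 : nd 7463 = n8362 := ndS (p := 4640) (l := 0) rfl N4640 D8362
theorem N7464 : nd 7464 = n8363 := ndS (p := 4640) (l := 3) rfl N4640 D8363
theorem N7465 : nd 7465 = n8364 := ndS (p := 4641) (l := 4) rfl N4641 D8364
theorem N7466 : nd 7466 = n8365 := ndS (p := 4642) (l := 2) rfl N4642 D8365
theorem N7467 : nd 7467 = n8366 := ndS (p := 4643) (l := 1) rfl N4643 D8366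
theorem N7468 : nd 7468 = n8367 := ndS (p := 4643) (l := 2) rfl N4643 D8367
theorem N7469 : nd 7469 = n8368 := ndS (p := 4643) (l := 3) rfl N4643 D8368
theorem N7470 : nd 7470 = n8369 := ndS (p := 4643) (l := 4) rfl N4643 D8369
theorem N7471 : nd 7471 = n8370 := ndS (p := 4645) (l := 1) rfl N4645 D8370
theorem N7472 : nd 7472 = n8371 := ndS (p := 4645) (l := 4) rfl N4645 D8371
theorem N7473 : nd 7473 = n8372 := ndS (p := 4646) (l := 2) rfl N4646 D8372
theorem N7474 : nd 7474 = n8373 := ndS (p := 4647) (l := 4) rfl N4647 D8373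
theorem N7475 : nd 7475 = n8374 := ndS (p := 4648) (l := 2) rfl N4648 D8374
theorem N7476 : nd 7476 = n8375 := ndS (p := 4648) (l := 3) rfl N4648 D8375
theorem N7477 : nd 7477 = n8376 := ndS (p := 4649) (l := 2) rfl N4649 D8376
theorem N7478 : nd 7478 = n8377 := ndS (p := 4650) (l := 3) rfl N4650 D8377
theorem N7479 : nd 7479 = n8378 := ndS (p := 4650) (l := 4) rfl N4650 D8378
theorem N7480 : nd 7480 = n8379 := ndS (p := 4651) (l := 4) rfl N4651 D8379
theorem N7481 : nd 7481 = n8380 := ndS (p := 4652) (l := 4) rfl N4652 D8380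
theorem N7482 : nd 7482 = n8381 := ndS (p := 4653) (l := 2) rfl N4653 D8381
theorem N7483 : nd 7483 = n8382 := ndS (p := 4653) (l := 3) rfl N4653 D8382
theorem N7484 : nd 7484 = n8383 := ndS (p := 4654) (l := 3) rfl N4654 D8383
theorem N7485 : nd 7485 = n8384 := ndS (p := 4654) (l := 4) rfl N4654 D8384
theorem N7486 : nd 7486 = n8385 := ndS (p := 4655) (l := 0) rfl N4655 D8385
theorem N7487 : nd 7487 = n8386 := ndS (p := 4655) (l := 4) rfl N4655 D8386
theorem N7488 : nd 7488 = n8387 := ndS (p := 4656) (l := 0) rfl N4656 D8387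
theorem N7489 : nd 7489 = n8388 := ndS (p := 4656) (l := 4) rfl N4656 D8388
theorem N7490 : nd 7490 = n8389 := ndS (p := 4657) (l := 3) rfl N4657 D8389
theorem N7491 : nd 7491 = n8390 := ndS (p := 4658) (l := 0) rfl N4658 D8390
theorem N7492 : nd 7492 = n8391 := ndS (p := 4658) (l := 4) rfl N4658 D8391
theorem N7493 : nd 7493 = n8392 := ndS (p := 4662) (l := 0) rfl N4662 D8392
theorem N7494 : nd 7494 = n8393 := ndS (p := 4663) (l := 2) rfl N4663 D8393
theorem N7495 : nd 7495 = n8394 := ndS (p := 4664) (l := 3) rfl N4664 D8394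
theorem N7496 : nd 7496 = n8395 := ndS (p := 4665) (l := 3) rfl N4665 D8395
theorem N7497 : nd 7497 = n8396 := ndS (p := 4666) (l := 4) rfl N4666 D8396
theorem N7498 : nd 7498 = n8397 := ndS (p := 4667) (l := 2) rfl N4667 D8397
theorem N7499 : nd 7499 = n8398 := ndS (p := 4667) (l := 3) rfl N4667 D8398
theorem N7500 : nd 7500 = n8399 := ndS (p := 4668) (l := 0) rfl N4668 D8399
theorem N7501 : nd 7501 = n8400 := ndS (p := 4670) (l := 2) rfl N4670 D8400
theorem N7502 : nd 7502 = n8401 := ndS (p := 4672) (l := 1) rfl N4672 D8401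
theorem N7503 : nd 7503 = n8402 := ndS (p := 4672) (l := 3) rfl N4672 D8402
theorem N7504 : nd 7504 = n8403 := ndS (p := 4672) (l := 4) rfl N4672 D8403
theorem N7505 : nd 7505 = n8404 := ndS (p := 4674) (l := 1) rfl N4674 D8404
theorem N7506 : nd 7506 = n8405 := ndS (p := 4674) (l := 2) rfl N4674 D8405
theorem N7507 : nd 7507 = n8406 := ndS (p := 4674) (l := 3) rfl N4674 D8406
theorem N7508 : nd 7508 = n8407 := ndS (p := 4674) (l := 4) rfl N4674 D8407
theorem N7509 : nd 7509 = n8408 := ndS (p := 4675) (l := 0) rfl N4675 D8408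
theorem N7510 : nd 7510 = n8409 := ndS (p := 4675) (l := 3) rfl N4675 D8409
theorem N7511 : nd 7511 = n8410 := ndS (p := 4675) (l := 4) rfl N4675 D8410
theorem N7512 : nd 7512 = n8411 := ndS (p := 4676) (l := 0) rfl N4676 D8411
theorem N7513 : nd 7513 = n8412 := ndS (p := 4676) (l := 4) rfl N4676 D8412
theorem N7514 : nd 7514 = n8413 := ndS (p := 4677) (l := 2) rfl N4677 D8413
theorem N7515 : nd 7515 = n8414 := ndS (p := 4677) (l := 3) rfl N4677 D8414
theorem N7516 : nd 7516 = n8415 := ndS (p := 4678) (l := 2) rfl N4678 D8415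
theorem N7517 : nd 7517 = n8416 := ndS (p := 4679) (l := 0) rfl N4679 D8416
theorem N7518 : nd 7518 = n8417 := ndS (p := 4679) (l := 1) rfl N4679 D8417
theorem N7519 : nd 7519 = n8418 := ndS (p := 4679) (l := 3) rfl N4679 D8418
theorem N7520 : nd 7520 = n8419 := ndS (p := 4679) (l := 4) rfl N4679 D8419
theorem N7521 : nd 7521 = n8420 := ndS (p := 4682) (l := 3) rfl N4682 D8420
theorem N7522 : nd 7522 = n8421 := ndS (p := 4683) (l := 4) rfl N4683 D8421
theorem N7523 : nd 7523 = n8422 := ndS (p := 4684) (l := 3) rfl N4684 D8422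
theorem N7524 : nd 7524 = n8423 := ndS (p := 4685) (l := 2) rfl N4685 D8423
theorem N7525 : nd 7525 = n8424 := ndS (p := 4685) (l := 4) rfl N4685 D8424
theorem N7526 : nd 7526 = n8425 := ndS (p := 4686) (l := 2) rfl N4686 D8425
theorem N7527 : nd 7527 = n8426 := ndS (p := 4692) (l := 3) rfl N4692 D8426
theorem N7528 : nd 7528 = n8427 := ndS (p := 4692) (l := 4) rfl N4692 D8427
theorem N7529 : nd 7529 = n8428 := ndS (p := 4694) (l := 2) rfl N4694 D8428
theorem N7530 : nd 7530 = n8429 := ndS (p := 4695) (l := 0) rfl N4695 D8429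
theorem N7531 : nd 7531 = n8430 := ndS (p := 4696) (l := 0) rfl N4696 D8430
theorem N7532 : nd 7532 = n8431 := ndS (p := 4701) (l := 0) rfl N4701 D8431
theorem N7533 : nd 7533 = n8432 := ndS (p := 4701) (l := 1) rfl N4701 D8432
theorem N7534 : nd 7534 = n8433 := ndS (p := 4701) (l := 3) rfl N4701 D8433
theorem N7535 : nd 7535 = n8434 := ndS (p := 4701) (l := 4) rfl N4701 D8434
theorem N7536 : nd 7536 = n8435 := ndS (p := 4703) (l := 2) rfl N4703 D8435
theorem N7537 : nd 7537 = n8436 := ndS (p := 4704) (l := 1) rfl N4704 D8436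
theorem N7538 : nd 7538 = n8437 := ndS (p := 4704) (l := 2) rfl N4704 D8437
theorem N7539 : nd 7539 = n8438 := ndS (p := 4704) (l := 3) rfl N4704 D8438
theorem N7540 : nd 7540 = n8439 := ndS (p := 4704) (l := 4) rfl N4704 D8439
theorem N7541 : nd 7541 = n8440 := ndS (p := 4705) (l := 0) rfl N4705 D8440
theorem N7542 : nd 7542 = n8441 := ndS (p := 4705) (l := 3) rfl N4705 D8441
theorem N7543 : nd 7543 = n8442 := ndS (p := 4705) (l := 4) rfl N4705 D8442
theorem N7544 : nd 7544 = n8443 := ndS (p := 4706) (l := 0) rfl N4706 D8443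
theorem N7545 : nd 7545 = n8445 := ndS (p := 4707) (l := 2) rfl N4707 D8445
theorem N7546 : nd 7546 = n8447 := ndS (p := 4708) (l := 0) rfl N4708 D8447
theorem N7547 : nd 7547 = n8448 := ndS (p := 4708) (l := 1) rfl N4708 D8448
theorem N7548 : nd 7548 = n8449 := ndS (p := 4708) (l := 4) rfl N4708 D8449
theorem N7549 : nd 7549 = n8450 := ndS (p := 4709) (l := 4) rfl N4709 D8450
theorem N7550 : nd 7550 = n8451 := ndS (p := 4710) (l := 0) rfl N4710 D8451
theorem N7551 : nd 7551 = n8452 := ndS (p := 4710) (l := 2) rfl N4710 D8452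
theorem N7552 : nd 7552 = n8453 := ndS (p := 4710) (l := 4) rfl N4710 D8453
theorem N7553 : nd 7553 = n8454 := ndS (p := 4711) (l := 2) rfl N4711 D8454
theorem N7554 : nd 7554 = n8456 := ndS (p := 4712) (l := 0) rfl N4712 D8456
theorem N7555 : nd 7555 = n8457 := ndS (p := 4713) (l := 4) rfl N4713 D8457
theorem N7556 : nd 7556 = n8458 := ndS (p := 4715) (l := 2) rfl N4715 D8458
theorem N7557 : nd 7557 = n8459 := ndS (p := 4717) (l := 0) rfl N4717 D8459
theorem N7558 : nd 7558 = n8460 := ndS (p := 4718) (l := 2) rfl N4718 D8460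
theorem N7559 : nd 7559 = n8461 := ndS (p := 4721) (l := 0) rfl N4721 D8461
theorem N7560 : nd 7560 = n8462 := ndS (p := 4721) (l := 2) rfl N4721 D8462
theorem N7561 : nd 7561 = n8463 := ndS (p := 4722) (l := 3) rfl N4722 D8463
theorem N7562 : nd 7562 = n8464 := ndS (p := 4722) (l := 4) rfl N4722 D8464
theorem N7563 : nd 7563 = n8466 := ndS (p := 4723) (l := 1) rfl N4723 D8466
theorem N7564 : nd 7564 = n8467 := ndS (p := 4723) (l := 3) rfl N4723 D8467
theorem N7565 : nd 7565 = n8468 := ndS (p := 4725) (l := 2) rfl N4725 D8468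
theorem N7566 : nd 7566 = n8469 := ndS (p := 4726) (l := 1) rfl N4726 D8469
theorem N7567 : nd 7567 = n8470 := ndS (p := 4727) (l := 2) rfl N4727 D8470
theorem N7568 : nd 7568 = n8471 := ndS (p := 4730) (l := 2) rfl N4730 D8471
theorem N7569 : nd 7569 = n8472 := ndS (p := 4731) (l := 4) rfl N4731 D8472
theorem N7570 : nd 7570 = n8473 := ndS (p := 4732) (l := 2) rfl N4732 D8473
theorem N7571 : nd 7571 = n8474 := ndS (p := 4732) (l := 3) rfl N4732 D8474
theorem N7572 : nd 7572 = n8475 := ndS (p := 4733) (l := 3) rfl N4733 D8475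
theorem N7573 : nd 7573 = n8476 := ndS (p := 4734) (l := 0) rfl N4734 D8476
theorem N7574 : nd 7574 = n8477 := ndS (p := 4734) (l := 4) rfl N4734 D8477
theorem N7575 : nd 7575 = n8478 := ndS (p := 4739) (l := 0) rfl N4739 D8478
theorem N7576 : nd 7576 = n8479 := ndS (p := 4739) (l := 4) rfl N4739 D8479
theorem N7577 : nd 7577 = n8480 := ndS (p := 4741) (l := 2) rfl N4741 D8480
theorem N7578 : nd 7578 = n8481 := ndS (p := 4741) (l := 4) rfl N4741 D8481
theorem N7579 : nd 7579 = n8482 := ndS (p := 4743) (l := 2) rfl N4743 D8482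
theorem N7580 : nd 7580 = n8483 := ndS (p := 4744) (l := 0) rfl N4744 D8483
theorem N7581 : nd 7581 = n8484 := ndS (p := 4744) (l := 4) rfl N4744 D8484
theorem N7582 : nd 7582 = n8485 := ndS (p := 4748) (l := 1) rfl N4748 D8485
theorem N7583 : nd 7583 = n8486 := ndS (p := 4748) (l := 4) rfl N4748 D8486
theorem N7584 : nd 7584 = n8487 := ndS (p := 4750) (l := 4) rfl N4750 D8487
theorem N7585 : nd 7585 = n8488 := ndS (p := 4755) (l := 2) rfl N4755 D8488
theorem N7586 : nd 7586 = n8489 := ndS (p := 4756) (l := 4) rfl N4756 D8489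
theorem N7587 : nd 7587 = n8490 := ndS (p := 4758) (l := 1) rfl N4758 D8490
theorem N7588 : nd 7588 = n8491 := ndS (p := 4758) (l := 3) rfl N4758 D8491
theorem N7589 : nd 7589 = n8492 := ndS (p := 4760) (l := 4) rfl N4760 D8492
theorem N7590 : nd 7590 = n8493 := ndS (p := 4761) (l := 3) rfl N4761 D8493
theorem N7591 : nd 7591 = n8494 := ndS (p := 4762) (l := 4) rfl N4762 D8494
theorem N7592 : nd 7592 = n8495 := ndS (p := 4765) (l := 4) rfl N4765 D8495
theorem N7593 : nd 7593 = n8496 := ndS (p := 4766) (l := 2) rfl N4766 D8496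
theorem N7594 : nd 7594 = n8497 := ndS (p := 4766) (l := 3) rfl N4766 D8497
theorem N7595 : nd 7595 = n8498 := ndS (p := 4770) (l := 2) rfl N4770 D8498
theorem N7596 : nd 7596 = n8499 := ndS (p := 4770) (l := 4) rfl N4770 D8499
theorem N7597 : nd 7597 = n8500 := ndS (p := 4772) (l := 2) rfl N4772 D8500
theorem N7598 : nd 7598 = n8501 := ndS (p := 4773) (l := 2) rfl N4773 D8501
theorem N7599 : nd 7599 = n8502 := ndS (p := 4773) (l := 4) rfl N4773 D8502
theorem N7600 : nd 7600 = n8503 := ndS (p := 4775) (l := 2) rfl N4775 D8503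
theorem N7601 : nd 7601 = n8504 := ndS (p := 4777) (l := 1) rfl N4777 D8504
theorem N7602 : nd 7602 = n8505 := ndS (p := 4777) (l := 3) rfl N4777 D8505
theorem N7603 : nd 7603 = n8506 := ndS (p := 4777) (l := 4) rfl N4777 D8506
theorem N7604 : nd 7604 = n8507 := ndS (p := 4778) (l := 0) rfl N4778 D8507
theorem N7605 : nd 7605 = n8508 := ndS (p := 4778) (l := 4) rfl N4778 D8508
theorem N7606 : nd 7606 = n8509 := ndS (p := 4779) (l := 3) rfl N4779 D8509
theorem N7607 : nd 7607 = n8510 := ndS (p := 4785) (l := 2) rfl N4785 D8510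
theorem N7608 : nd 7608 = n8511 := ndS (p := 4788) (l := 2) rfl N4788 D8511
theorem N7609 : nd 7609 = n8512 := ndS (p := 4788) (l := 4) rfl N4788 D8512
theorem N7610 : nd 7610 = n8513 := ndS (p := 4793) (l := 4) rfl N4793 D8513
theorem N7611 : nd 7611 = n8514 := ndS (p := 4794) (l := 4) rfl N4794 D8514
theorem N7612 : nd 7612 = n8515 := ndS (p := 4795) (l := 2) rfl N4795 D8515
theorem N7613 : nd 7613 = n8516 := ndS (p := 4795) (l := 3) rfl N4795 D8516
theorem N7614 : nd 7614 = n8517 := ndS (p := 4796) (l := 3) rfl N4796 D8517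
theorem N7615 : nd 7615 = n8518 := ndS (p := 4797) (l := 2) rfl N4797 D8518
theorem N7616 : nd 7616 = n8519 := ndS (p := 4797) (l := 3) rfl N4797 D8519
theorem N7617 : nd 7617 = n8520 := ndS (p := 4798) (l := 1) rfl N4798 D8520
theorem N7618 : nd 7618 = n8521 := ndS (p := 4798) (l := 3) rfl N4798 D8521
theorem N7619 : nd 7619 = n8522 := ndS (p := 4799) (l := 0) rfl N4799 D8522
theorem N7620 : nd 7620 = n8523 := ndS (p := 4799) (l := 4) rfl N4799 D8523
theorem N7621 : nd 7621 = n8524 := ndS (p := 4800) (l := 0) rfl N4800 D8524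
theorem N7622 : nd 7622 = n8525 := ndS (p := 4801) (l := 3) rfl N4801 D8525
theorem N7623 : nd 7623 = n8526 := ndS (p := 4802) (l := 2) rfl N4802 D8526
theorem N7624 : nd 7624 = n8527 := ndS (p := 4803) (l := 0) rfl N4803 D8527
theorem N7625 : nd 7625 = n8528 := ndS (p := 4805) (l := 2) rfl N4805 D8528
theorem N7626 : nd 7626 = n8529 := ndS (p := 4808) (l := 3) rfl N4808 D8529
theorem N7627 : nd 7627 = n8530 := ndS (p := 4808) (l := 4) rfl N4808 D8530
theorem N7628 : nd 7628 = n8531 := ndS (p := 4809) (l := 4) rfl N4809 D8531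
theorem N7629 : nd 7629 = n8532 := ndS (p := 4810) (l := 2) rfl N4810 D8532
theorem N7630 : nd 7630 = n8533 := ndS (p := 4810) (l := 3) rfl N4810 D8533
theorem N7631 : nd 7631 = n8534 := ndS (p := 4811) (l := 0) rfl N4811 D8534
theorem N7632 : nd 7632 = n8535 := ndS (p := 4813) (l := 0) rfl N4813 D8535
theorem N7633 : nd 7633 = n8536 := ndS (p := 4814) (l := 2) rfl N4814 D8536
theorem N7634 : nd 7634 = n8537 := ndS (p := 4814) (l := 4) rfl N4814 D8537
theorem N7635 : nd 7635 = n8538 := ndS (p := 4816) (l := 2) rfl N4816 D8538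
theorem N7636 : nd 7636 = n8539 := ndS (p := 4817) (l := 4) rfl N4817 D8539
theorem N7637 : nd 7637 = n8540 := ndS (p := 4818) (l := 3) rfl N4818 D8540
theorem N7638 : nd 7638 = n8541 := ndS (p := 4819) (l := 2) rfl N4819 D8541
theorem N7639 : nd 7639 = n8542 := ndS (p := 4820) (l := 0) rfl N4820 D8542
theorem N7640 : nd 7640 = n8543 := ndS (p := 4820) (l := 3) rfl N4820 D8543
theorem N7641 : nd 7641 = n8544 := ndS (p := 4821) (l := 4) rfl N4821 D8544
theorem N7642 : nd 7642 = n8545 := ndS (p := 4822) (l := 1) rfl N4822 D8545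
theorem N7643 : nd 7643 = n8546 := ndS (p := 4822) (l := 3) rfl N4822 D8546
theorem N7644 : nd 7644 = n8547 := ndS (p := 4822) (l := 4) rfl N4822 D8547
theorem N7645 : nd 7645 = n8548 := ndS (p := 4830) (l := 1) rfl N4830 D8548
theorem N7646 : nd 7646 = n8549 := ndS (p := 4830) (l := 2) rfl N4830 D8549
theorem N7647 : nd 7647 = n8550 := ndS (p := 4830) (l := 3) rfl N4830 D8550
theorem N7648 : nd 7648 = n8551 := ndS (p := 4830) (l := 4) rfl N4830 D8551
theorem N7649 : nd 7649 = n8552 := ndS (p := 4832) (l := 2) rfl N4832 D8552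
theorem N7650 : nd 7650 = n8553 := ndS (p := 4832) (l := 4) rfl N4832 D8553
theorem N7651 : nd 7651 = n8554 := ndS (p := 4834) (l := 2) rfl N4834 D8554
theorem N7652 : nd 7652 = n8555 := ndS (p := 4836) (l := 0) rfl N4836 D8555
theorem N7653 : nd 7653 = n8556 := ndS (p := 4836) (l := 3) rfl N4836 D8556
theorem N7654 : nd 7654 = n8557 := ndS (p := 4836) (l := 4) rfl N4836 D8557
theorem N7655 : nd 7655 = n8558 := ndS (p := 4837) (l := 4) rfl N4837 D8558
theorem N7656 : nd 7656 = n8559 := ndS (p := 4838) (l := 2) rfl N4838 D8559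
theorem N7657 : nd 7657 = n8560 := ndS (p := 4838) (l := 3) rfl N4838 D8560
theorem N7658 : nd 7658 = n8561 := ndS (p := 4839) (l := 2) rfl N4839 D8561
theorem N7659 : nd 7659 = n8562 := ndS (p := 4839) (l := 3) rfl N4839 D8562
theorem N7660 : nd 7660 = n8563 := ndS (p := 4839) (l := 4) rfl N4839 D8563
theorem N7661 : nd 7661 = n8564 := ndS (p := 4840) (l := 2) rfl N4840 D8564
theorem N7662 : nd 7662 = n8565 := ndS (p := 4841) (l := 0) rfl N4841 D8565
theorem N7663 : nd 7663 = n8566 := ndS (p := 4847) (l := 2) rfl N4847 D8566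
theorem N7664 : nd 7664 = n8567 := ndS (p := 4847) (l := 3) rfl N4847 D8567
theorem N7665 : nd 7665 = n8568 := ndS (p := 4847) (l := 4) rfl N4847 D8568
theorem N7666 : nd 7666 = n8569 := ndS (p := 4849) (l := 4) rfl N4849 D8569
theorem N7667 : nd 7667 = n8570 := ndS (p := 4850) (l := 2) rfl N4850 D8570
theorem N7668 : nd 7668 = n8571 := ndS (p := 4850) (l := 3) rfl N4850 D8571
theorem N7669 : nd 7669 = n8572 := ndS (p := 4851) (l := 2) rfl N4851 D8572
theorem N7670 : nd 7670 = n8573 := ndS (p := 4852) (l := 0) rfl N4852 D8573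
theorem N7671 : nd 7671 = n8574 := ndS (p := 4852) (l := 1) rfl N4852 D8574
theorem N7672 : nd 7672 = n8575 := ndS (p := 4852) (l := 3) rfl N4852 D8575
theorem N7673 : nd 7673 = n8576 := ndS (p := 4852) (l := 4) rfl N4852 D8576
theorem N7674 : nd 7674 = n8577 := ndS (p := 4856) (l := 2) rfl N4856 D8577
theorem N7675 : nd 7675 = n8578 := ndS (p := 4856) (l := 3) rfl N4856 D8578
theorem N7676 : nd 7676 = n8579 := ndS (p := 4856) (l := 4) rfl N4856 D8579
theorem N7677 : nd 7677 = n8580 := ndS (p := 4857) (l := 2) rfl N4857 D8580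
theorem N7678 : nd 7678 = n8581 := ndS (p := 4859) (l := 3) rfl N4859 D8581
theorem N7679 : nd 7679 = n8582 := ndS (p := 4860) (l := 1) rfl N4860 D8582
theorem N7680 : nd 7680 = n8583 := ndS (p := 4860) (l := 3) rfl N4860 D8583
theorem N7681 : nd 7681 = n8584 := ndS (p := 4860) (l := 4) rfl N4860 D8584
theorem N7682 : nd 7682 = n8585 := ndS (p := 4862) (l := 2) rfl N4862 D8585
theorem N7683 : nd 7683 = n8586 := ndS (p := 4863) (l := 0) rfl N4863 D8586
theorem N7684 : nd 7684 = n8587 := ndS (p := 4867) (l := 2) rfl N4867 D8587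
theorem N7685 : nd 7685 = n8588 := ndS (p := 4867) (l := 4) rfl N4867 D8588
theorem N7686 : nd 7686 = n8589 := ndS (p := 4868) (l := 2) rfl N4868 D8589
theorem N7687 : nd 7687 = n8590 := ndS (p := 4869) (l := 0) rfl N4869 D8590
theorem N7688 : nd 7688 = n8591 := ndS (p := 4869) (l := 1) rfl N4869 D8591
theorem N7689 : nd 7689 = n8592 := ndS (p := 4869) (l := 3) rfl N4869 D8592
theorem N7690 : nd 7690 = n8593 := ndS (p := 4869) (l := 4) rfl N4869 D8593
theorem N7691 : nd 7691 = n8594 := ndS (p := 4870) (l := 0) rfl N4870 D8594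
theorem N7692 : nd 7692 = n8595 := ndS (p := 4873) (l := 4) rfl N4873 D8595
theorem N7693 : nd 7693 = n8596 := ndS (p := 4874) (l := 3) rfl N4874 D8596
theorem N7694 : nd 7694 = n8597 := ndS (p := 4877) (l := 3) rfl N4877 D8597
theorem N7695 : nd 7695 = n8598 := ndS (p := 4878) (l := 2) rfl N4878 D8598
theorem N7696 : nd 7696 = n8599 := ndS (p := 4878) (l := 3) rfl N4878 D8599
theorem N7697 : nd 7697 = n8600 := ndS (p := 4878) (l := 4) rfl N4878 D8600
theorem N7698 : nd 7698 = n8601 := ndS (p := 4880) (l := 0) rfl N4880 D8601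
theorem N7699 : nd 7699 = n8602 := ndS (p := 4884) (l := 2) rfl N4884 D8602
theorem N7700 : nd 7700 = n8603 := ndS (p := 4885) (l := 1) rfl N4885 D8603
theorem N7701 : nd 7701 = n8604 := ndS (p := 4885) (l := 4) rfl N4885 D8604
theorem N7702 : nd 7702 = n8605 := ndS (p := 4886) (l := 4) rfl N4886 D8605
theorem N7703 : nd 7703 = n8606 := ndS (p := 4887) (l := 0) rfl N4887 D8606
theorem N7704 : nd 7704 = n8607 := ndS (p := 4887) (l := 3) rfl N4887 D8607
theorem N7705 : nd 7705 = n8608 := ndS (p := 4888) (l := 4) rfl N4888 D8608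
theorem N7706 : nd 7706 = n8609 := ndS (p := 4890) (l := 2) rfl N4890 D8609
theorem N7707 : nd 7707 = n8610 := ndS (p := 4892) (l := 4) rfl N4892 D8610
theorem N7708 : nd 7708 = n8611 := ndS (p := 4894) (l := 3) rfl N4894 D8611
theorem N7709 : nd 7709 = n8612 := ndS (p := 4896) (l := 3) rfl N4896 D8612
theorem N7710 : nd 7710 = n8613 := ndS (p := 4897) (l := 2) rfl N4897 D8613
theorem N7711 : nd 7711 = n8614 := ndS (p := 4898) (l := 1) rfl N4898 D8614
theorem N7712 : nd 7712 = n8615 := ndS (p := 4898) (l := 3) rfl N4898 D8615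
theorem N7713 : nd 7713 = n8616 := ndS (p := 4902) (l := 0) rfl N4902 D8616
theorem N7714 : nd 7714 = n8617 := ndS (p := 4902) (l := 4) rfl N4902 D8617
theorem N7715 : nd 7715 = n8618 := ndS (p := 4911) (l := 4) rfl N4911 D8618
theorem N7716 : nd 7716 = n8619 := ndS (p := 4913) (l := 2) rfl N4913 D8619
theorem N7717 : nd 7717 = n8620 := ndS (p := 4914) (l := 0) rfl N4914 D8620
theorem N7718 : nd 7718 = n8621 := ndS (p := 4919) (l := 0) rfl N4919 D8621
theorem N7719 : nd 7719 = n8622 := ndS (p := 4919) (l := 4) rfl N4919 D8622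
theorem N7720 : nd 7720 = n8623 := ndS (p := 4923) (l := 4) rfl N4923 D8623
theorem N7721 : nd 7721 = n8624 := ndS (p := 4925) (l := 2) rfl N4925 D8624
theorem N7722 : nd 7722 = n8625 := ndS (p := 4926) (l := 3) rfl N4926 D8625
theorem N7723 : nd 7723 = n8626 := ndS (p := 4926) (l := 4) rfl N4926 D8626
theorem N7724 : nd 7724 = n8627 := ndS (p := 4927) (l := 4) rfl N4927 D8627
theorem N7725 : nd 7725 = n8628 := ndS (p := 4929) (l := 1) rfl N4929 D8628
theorem N7726 : nd 7726 = n8629 := ndS (p := 4929) (l := 4) rfl N4929 D8629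
theorem N7727 : nd 7727 = n8630 := ndS (p := 4933) (l := 2) rfl N4933 D8630
theorem N7728 : nd 7728 = n8631 := ndS (p := 4935) (l := 1) rfl N4935 D8631
theorem N7729 : nd 7729 = n8632 := ndS (p := 4935) (l := 4) rfl N4935 D8632
theorem N7730 : nd 7730 = n8633 := ndS (p := 4936) (l := 2) rfl N4936 D8633
theorem N7731 : nd 7731 = n8634 := ndS (p := 4937) (l := 0) rfl N4937 D8634
theorem N7732 : nd 7732 = n8635 := ndS (p := 4937) (l := 1) rfl N4937 D8635
theorem N7733 : nd 7733 = n8636 := ndS (p := 4937) (l := 4) rfl N4937 D8636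
theorem N7734 : nd 7734 = n8637 := ndS (p := 4938) (l := 3) rfl N4938 D8637
theorem N7735 : nd 7735 = n8638 := ndS (p := 4939) (l := 0) rfl N4939 D8638
theorem N7736 : nd 7736 = n8639 := ndS (p := 4939) (l := 4) rfl N4939 D8639
theorem N7737 : nd 7737 = n8641 := ndS (p := 4942) (l := 2) rfl N4942 D8641
theorem N7738 : nd 7738 = n8642 := ndS (p := 4943) (l := 0) rfl N4943 D8642
theorem N7739 : nd 7739 = n8643 := ndS (p := 4944) (l := 4) rfl N4944 D8643
theorem N7740 : nd 7740 = n8644 := ndS (p := 4946) (l := 0) rfl N4946 D8644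
theorem N7741 : nd 7741 = n8645 := ndS (p := 4947) (l := 0) rfl N4947 D8645
theorem N7742 : nd 7742 = n8646 := ndS (p := 4948) (l := 4) rfl N4948 D8646
theorem N7743 : nd 7743 = n8647 := ndS (p := 4951) (l := 0) rfl N4951 D8647
theorem N7744 : nd 7744 = n8648 := ndS (p := 4959) (l := 2) rfl N4959 D8648
theorem N7745 : nd 7745 = n8649 := ndS (p := 4960) (l := 0) rfl N4960 D8649
theorem N7746 : nd 7746 = n8650 := ndS (p := 4960) (l := 1) rfl N4960 D8650
theorem N7747 : nd 7747 = n8651 := ndS (p := 4960) (l := 3) rfl N4960 D8651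
theorem N7748 : nd 7748 = n8652 := ndS (p := 4960) (l := 4) rfl N4960 D8652
theorem N7749 : nd 7749 = n8653 := ndS (p := 4962) (l := 4) rfl N4962 D8653
theorem N7750 : nd 7750 = n8654 := ndS (p := 4963) (l := 0) rfl N4963 D8654
theorem N7751 : nd 7751 = n8655 := ndS (p := 4965) (l := 0) rfl N4965 D8655
theorem N7752 : nd 7752 = n8656 := ndS (p := 4966) (l := 2) rfl N4966 D8656
theorem N7753 : nd 7753 = n8657 := ndS (p := 4966) (l := 4) rfl N4966 D8657
theorem N7754 : nd 7754 = n8658 := ndS (p := 4969) (l := 1) rfl N4969 D8658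
theorem N7755 : nd 7755 = n8659 := ndS (p := 4969) (l := 4) rfl N4969 D8659
theorem N7756 : nd 7756 = n8660 := ndS (p := 4973) (l := 1) rfl N4973 D8660
theorem N7757 : nd 7757 = n8661 := ndS (p := 4973) (l := 3) rfl N4973 D8661
theorem N7758 : nd 7758 = n8662 := ndS (p := 4975) (l := 0) rfl N4975 D8662
theorem N7759 : nd 7759 = n8663 := ndS (p := 4976) (l := 0) rfl N4976 D8663
theorem N7760 : nd 7760 = n8664 := ndS (p := 4976) (l := 4) rfl N4976 D8664
theorem N7761 : nd 7761 = n8665 := ndS (p := 4990) (l := 0) rfl N4990 D8665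
theorem N7762 : nd 7762 = n8666 := ndS (p := 4992) (l := 0) rfl N4992 D8666
theorem N7763 : nd 7763 = n8667 := ndS (p := 4995) (l := 1) rfl N4995 D8667
theorem N7764 : nd 7764 = n8668 := ndS (p := 4998) (l := 1) rfl N4998 D8668
theorem N7765 : nd 7765 = n8669 := ndS (p := 4998) (l := 3) rfl N4998 D8669
theorem N7766 : nd 7766 = n8670 := ndS (p := 4998) (l := 4) rfl N4998 D8670
theorem N7767 : nd 7767 = n8671 := ndS (p := 5002) (l := 0) rfl N5002 D8671
theorem N7768 : nd 7768 = n8672 := ndS (p := 5002) (l := 4) rfl N5002 D8672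
theorem N7769 : nd 7769 = n8673 := ndS (p := 5005) (l := 4) rfl N5005 D8673
theorem N7770 : nd 7770 = n8674 := ndS (p := 5008) (l := 0) rfl N5008 D8674
theorem N7771 : nd 7771 = n8675 := ndS (p := 5008) (l := 1) rfl N5008 D8675
theorem N7772 : nd 7772 = n8676 := ndS (p := 5008) (l := 4) rfl N5008 D8676
theorem N7773 : nd 7773 = n8677 := ndS (p := 5014) (l := 2) rfl N5014 D8677
theorem N7774 : nd 7774 = n8678 := ndS (p := 5014) (l := 3) rfl N5014 D8678
theorem N7775 : nd 7775 = n8679 := ndS (p := 5016) (l := 4) rfl N5016 D8679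
theorem N7776 : nd 7776 = n8680 := ndS (p := 5017) (l := 0) rfl N5017 D8680
theorem N7777 : nd 7777 = n8681 := ndS (p := 5017) (l := 4) rfl N5017 D8681
theorem N7778 : nd 7778 = n8682 := ndS (p := 5019) (l := 4) rfl N5019 D8682
theorem N7779 : nd 7779 = n8683 := ndS (p := 5020) (l := 2) rfl N5020 D8683
theorem N7780 : nd 7780 = n8684 := ndS (p := 5022) (l := 4) rfl N5022 D8684
theorem N7781 : nd 7781 = n8685 := ndS (p := 5025) (l := 0) rfl N5025 D8685
theorem N7782 : nd 7782 = n8686 := ndS (p := 5026) (l := 4) rfl N5026 D8686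
theorem N7783 : nd 7783 = n8687 := ndS (p := 5029) (l := 4) rfl N5029 D8687
theorem N7784 : nd 7784 = n8688 := ndS (p := 5032) (l := 2) rfl N5032 D8688
theorem N7785 : nd 7785 = n8689 := ndS (p := 5033) (l := 2) rfl N5033 D8689
theorem N7786 : nd 7786 = n8690 := ndS (p := 5037) (l := 4) rfl N5037 D8690
theorem N7787 : nd 7787 = n8691 := ndS (p := 5038) (l := 4) rfl N5038 D8691
theorem N7788 : nd 7788 = n8692 := ndS (p := 5040) (l := 2) rfl N5040 D8692
theorem N7789 : nd 7789 = n8693 := ndS (p := 5041) (l := 0) rfl N5041 D8693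
theorem N7790 : nd 7790 = n8694 := ndS (p := 5041) (l := 1) rfl N5041 D8694
theorem N7791 : nd 7791 = n8695 := ndS (p := 5041) (l := 4) rfl N5041 D8695
theorem N7792 : nd 7792 = n8696 := ndS (p := 5044) (l := 0) rfl N5044 D8696
theorem N7793 : nd 7793 = n8697 := ndS (p := 5047) (l := 0) rfl N5047 D8697
theorem N7794 : nd 7794 = n8698 := ndS (p := 5047) (l := 1) rfl N5047 D8698
theorem N7795 : nd 7795 = n8699 := ndS (p := 5049) (l := 3) rfl N5049 D8699
theorem N7796 : nd 7796 = n8700 := ndS (p := 5050) (l := 4) rfl N5050 D8700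
theorem N7797 : nd 7797 = n8701 := ndS (p := 5051) (l := 4) rfl N5051 D8701
theorem N7798 : nd 7798 = n8702 := ndS (p := 5053) (l := 1) rfl N5053 D8702
theorem N7799 : nd 7799 = n8703 := ndS (p := 5056) (l := 1) rfl N5056 D8703
theorem N7800 : nd 7800 = n8704 := ndS (p := 5056) (l := 4) rfl N5056 D8704
theorem N7801 : nd 7801 = n8705 := ndS (p := 5060) (l := 4) rfl N5060 D8705
theorem N7802 : nd 7802 = n8706 := ndS (p := 5061) (l := 4) rfl N5061 D8706
theorem N7803 : nd 7803 = n8707 := ndS (p := 5063) (l := 4) rfl N5063 D8707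
theorem N7804 : nd 7804 = n8708 := ndS (p := 5064) (l := 4) rfl N5064 D8708
theorem N7805 : nd 7805 = n8709 := ndS (p := 5065) (l := 3) rfl N5065 D8709
theorem N7806 : nd 7806 = n8710 := ndS (p := 5066) (l := 2) rfl N5066 D8710
theorem N7807 : nd 7807 = n8711 := ndS (p := 5067) (l := 1) rfl N5067 D8711
theorem N7808 : nd 7808 = n8712 := ndS (p := 5067) (l := 3) rfl N5067 D8712
theorem N7809 : nd 7809 = n8713 := ndS (p := 5067) (l := 4) rfl N5067 D8713
theorem N7810 : nd 7810 = n8714 := ndS (p := 5068) (l := 4) rfl N5068 D8714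
theorem N7811 : nd 7811 = n8715 := ndS (p := 5069) (l := 1) rfl N5069 D8715
theorem N7812 : nd 7812 = n8716 := ndS (p := 5069) (l := 3) rfl N5069 D8716
theorem N7813 : nd 7813 = n8717 := ndS (p := 5069) (l := 4) rfl N5069 D8717
theorem N7814 : nd 7814 = n8718 := ndS (p := 5070) (l := 0) rfl N5070 D8718
theorem N7815 : nd 7815 = n8719 := ndS (p := 5070) (l := 3) rfl N5070 D8719
theorem N7816 : nd 7816 = n8720 := ndS (p := 5071) (l := 4) rfl N5071 D8720
theorem N7817 : nd 7817 = n8721 := ndS (p := 5074) (l := 0) rfl N5074 D8721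
theorem N7818 : nd 7818 = n8722 := ndS (p := 5074) (l := 4) rfl N5074 D8722
theorem N7819 : nd 7819 = n8723 := ndS (p := 5075) (l := 1) rfl N5075 D8723
theorem N7820 : nd 7820 = n8724 := ndS (p := 5075) (l := 3) rfl N5075 D8724
theorem N7821 : nd 7821 = n8725 := ndS (p := 5075) (l := 4) rfl N5075 D8725
theorem N7822 : nd 7822 = n8726 := ndS (p := 5077) (l := 1) rfl N5077 D8726
theorem N7823 : nd 7823 = n8727 := ndS (p := 5077) (l := 4) rfl N5077 D8727
theorem N7824 : nd 7824 = n8728 := ndS (p := 5078) (l := 2) rfl N5078 D8728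
theorem N7825 : nd 7825 = n8729 := ndS (p := 5080) (l := 3) rfl N5080 D8729
theorem N7826 : nd 7826 = n8730 := ndS (p := 5080) (l := 4) rfl N5080 D8730
theorem N7827 : nd 7827 = n8731 := ndS (p := 5082) (l := 4) rfl N5082 D8731
theorem N7828 : nd 7828 = n8732 := ndS (p := 5083) (l := 4) rfl N5083 D8732
theorem N7829 : nd 7829 = n8733 := ndS (p := 5084) (l := 4) rfl N5084 D8733
theorem N7830 : nd 7830 = n8734 := ndS (p := 5085) (l := 2) rfl N5085 D8734
theorem N7831 : nd 7831 = n8735 := ndS (p := 5085) (l := 3) rfl N5085 D8735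
theorem N7832 : nd 7832 = n8736 := ndS (p := 5087) (l := 4) rfl N5087 D8736
theorem N7833 : nd 7833 = n8737 := ndS (p := 5088) (l := 1) rfl N5088 D8737
theorem N7834 : nd 7834 = n8738 := ndS (p := 5088) (l := 4) rfl N5088 D8738
theorem N7835 : nd 7835 = n8739 := ndS (p := 5090) (l := 0) rfl N5090 D8739
theorem N7836 : nd 7836 = n8740 := ndS (p := 5090) (l := 2) rfl N5090 D8740
theorem N7837 : nd 7837 = n8741 := ndS (p := 5090) (l := 3) rfl N5090 D8741
theorem N7838 : nd 7838 = n8742 := ndS (p := 5090) (l := 4) rfl N5090 D8742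
theorem N7839 : nd 7839 = n8743 := ndS (p := 5091) (l := 4) rfl N5091 D8743
theorem N7840 : nd 7840 = n8744 := ndS (p := 5094) (l := 2) rfl N5094 D8744
theorem N7841 : nd 7841 = n8745 := ndS (p := 5094) (l := 3) rfl N5094 D8745
theorem N7842 : nd 7842 = n8746 := ndS (p := 5094) (l := 4) rfl N5094 D8746
theorem N7843 : nd 7843 = n8747 := ndS (p := 5095) (l := 4) rfl N5095 D8747
theorem N7844 : nd 7844 = n8748 := ndS (p := 5096) (l := 3) rfl N5096 D8748
theorem N7845 : nd 7845 = n8749 := ndS (p := 5097) (l := 1) rfl N5097 D8749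
theorem N7846 : nd 7846 = n8750 := ndS (p := 5097) (l := 3) rfl N5097 D8750
theorem N7847 : nd 7847 = n8751 := ndS (p := 5097) (l := 4) rfl N5097 D8751
theorem N7848 : nd 7848 = n8752 := ndS (p := 5098) (l := 0) rfl N5098 D8752
theorem N7849 : nd 7849 = n8753 := ndS (p := 5098) (l := 3) rfl N5098 D8753
theorem N7850 : nd 7850 = n8754 := ndS (p := 5098) (l := 4) rfl N5098 D8754
theorem N7851 : nd 7851 = n8755 := ndS (p := 5099) (l := 0) rfl N5099 D8755
theorem N7852 : nd 7852 = n8756 := ndS (p := 5099) (l := 4) rfl N5099 D8756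
theorem N7853 : nd 7853 = n8757 := ndS (p := 5101) (l := 4) rfl N5101 D8757
theorem N7854 : nd 7854 = n8758 := ndS (p := 5106) (l := 0) rfl N5106 D8758
theorem N7855 : nd 7855 = n8759 := ndS (p := 5106) (l := 4) rfl N5106 D8759
theorem N7856 : nd 7856 = n8761 := ndS (p := 5108) (l := 1) rfl N5108 D8761
theorem N7857 : nd 7857 = n8762 := ndS (p := 5108) (l := 3) rfl N5108 D8762
theorem N7858 : nd 7858 = n8763 := ndS (p := 5108) (l := 4) rfl N5108 D8763
theorem N7859 : nd 7859 = n8764 := ndS (p := 5109) (l := 2) rfl N5109 D8764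
theorem N7860 : nd 7860 = n8765 := ndS (p := 5110) (l := 2) rfl N5110 D8765
theorem N7861 : nd 7861 = n8766 := ndS (p := 5110) (l := 3) rfl N5110 D8766
theorem N7862 : nd 7862 = n8767 := ndS (p := 5110) (l := 4) rfl N5110 D8767
theorem N7863 : nd 7863 = n8768 := ndS (p := 5111) (l := 1) rfl N5111 D8768
theorem N7864 : nd 7864 = n8769 := ndS (p := 5114) (l := 4) rfl N5114 D8769
theorem N7865 : nd 7865 = n8770 := ndS (p := 5115) (l := 2) rfl N5115 D8770
theorem N7866 : nd 7866 = n8771 := ndS (p := 5116) (l := 0) rfl N5116 D8771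
theorem N7867 : nd 7867 = n8772 := ndS (p := 5116) (l := 2) rfl N5116 D8772
theorem N7868 : nd 7868 = n8773 := ndS (p := 5116) (l := 4) rfl N5116 D8773
theorem N7869 : nd 7869 = n8774 := ndS (p := 5118) (l := 1) rfl N5118 D8774
theorem N7870 : nd 7870 = n8775 := ndS (p := 5119) (l := 4) rfl N5119 D8775
theorem N7871 : nd 7871 = n8776 := ndS (p := 5120) (l := 3) rfl N5120 D8776
theorem N7872 : nd 7872 = n8777 := ndS (p := 5121) (l := 1) rfl N5121 D8777
theorem N7873 : nd 7873 = n8778 := ndS (p := 5122) (l := 4) rfl N5122 D8778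
theorem N7874 : nd 7874 = n8779 := ndS (p := 5123) (l := 1) rfl N5123 D8779
theorem N7875 : nd 7875 = n8780 := ndS (p := 5123) (l := 4) rfl N5123 D8780
theorem N7876 : nd 7876 = n8781 := ndS (p := 5125) (l := 4) rfl N5125 D8781
theorem N7877 : nd 7877 = n8782 := ndS (p := 5127) (l := 0) rfl N5127 D8782
theorem N7878 : nd 7878 = n8783 := ndS (p := 5127) (l := 3) rfl N5127 D8783
theorem N7879 : nd 7879 = n8784 := ndS (p := 5127) (l := 4) rfl N5127 D8784
theorem N7880 : nd 7880 = n8785 := ndS (p := 5128) (l := 4) rfl N5128 D8785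
theorem N7881 : nd 7881 = n8786 := ndS (p := 5131) (l := 0) rfl N5131 D8786
theorem N7882 : nd 7882 = n8787 := ndS (p := 5131) (l := 4) rfl N5131 D8787
theorem N7883 : nd 7883 = n8788 := ndS (p := 5134) (l := 0) rfl N5134 D8788
theorem N7884 : nd 7884 = n8789 := ndS (p := 5134) (l := 2) rfl N5134 D8789
theorem N7885 : nd 7885 = n8790 := ndS (p := 5136) (l := 3) rfl N5136 D8790
theorem N7886 : nd 7886 = n8791 := ndS (p := 5138) (l := 0) rfl N5138 D8791
theorem N7887 : nd 7887 = n8792 := ndS (p := 5138) (l := 4) rfl N5138 D8792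
theorem N7888 : nd 7888 = n8793 := ndS (p := 5140) (l := 4) rfl N5140 D8793
theorem N7889 : nd 7889 = n8794 := ndS (p := 5141) (l := 4) rfl N5141 D8794
theorem N7890 : nd 7890 = n8795 := ndS (p := 5142) (l := 0) rfl N5142 D8795
theorem N7891 : nd 7891 = n8796 := ndS (p := 5142) (l := 4) rfl N5142 D8796
theorem N7892 : nd 7892 = n8797 := ndS (p := 5143) (l := 4) rfl N5143 D8797
theorem N7893 : nd 7893 = n8798 := ndS (p := 5146) (l := 0) rfl N5146 D8798
theorem N7894 : nd 7894 = n8799 := ndS (p := 5146) (l := 2) rfl N5146 D8799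
theorem N7895 : nd 7895 = n8800 := ndS (p := 5146) (l := 3) rfl N5146 D8800
theorem N7896 : nd 7896 = n8801 := ndS (p := 5146) (l := 4) rfl N5146 D8801
theorem N7897 : nd 7897 = n8802 := ndS (p := 5147) (l := 4) rfl N5147 D8802
theorem N7898 : nd 7898 = n8803 := ndS (p := 5148) (l := 3) rfl N5148 D8803
theorem N7899 : nd 7899 = n8804 := ndS (p := 5149) (l := 3) rfl N5149 D8804
theorem N7900 : nd 7900 = n8805 := ndS (p := 5152) (l := 4) rfl N5152 D8805
theorem N7901 : nd 7901 = n8806 := ndS (p := 5153) (l := 2) rfl N5153 D8806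
theorem N7902 : nd 7902 = n8807 := ndS (p := 5154) (l := 0) rfl N5154 D8807
theorem N7903 : nd 7903 = n8808 := ndS (p := 5154) (l := 2) rfl N5154 D8808
theorem N7904 : nd 7904 = n8809 := ndS (p := 5154) (l := 3) rfl N5154 D8809
theorem N7905 : nd 7905 = n8810 := ndS (p := 5154) (l := 4) rfl N5154 D8810
theorem N7906 : nd 7906 = n8811 := ndS (p := 5157) (l := 4) rfl N5157 D8811
theorem N7907 : nd 7907 = n8812 := ndS (p := 5159) (l := 0) rfl N5159 D8812
theorem N7908 : nd 7908 = n8813 := ndS (p := 5159) (l := 4) rfl N5159 D8813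
theorem N7909 : nd 7909 = n8814 := ndS (p := 5164) (l := 2) rfl N5164 D8814
theorem N7910 : nd 7910 = n8815 := ndS (p := 5169) (l := 0) rfl N5169 D8815
theorem N7911 : nd 7911 = n8816 := ndS (p := 5169) (l := 2) rfl N5169 D8816
theorem N7912 : nd 7912 = n8817 := ndS (p := 5169) (l := 4) rfl N5169 D8817
theorem N7913 : nd 7913 = n8818 := ndS (p := 5172) (l := 0) rfl N5172 D8818
theorem N7914 : nd 7914 = n8819 := ndS (p := 5172) (l := 3) rfl N5172 D8819
theorem N7915 : nd 7915 = n8820 := ndS (p := 5172) (l := 4) rfl N5172 D8820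
theorem N7916 : nd 7916 = n8821 := ndS (p := 5173) (l := 0) rfl N5173 D8821
theorem N7917 : nd 7917 = n8822 := ndS (p := 5173) (l := 4) rfl N5173 D8822
theorem N7918 : nd 7918 = n8823 := ndS (p := 5174) (l := 2) rfl N5174 D8823
theorem N7919 : nd 7919 = n8824 := ndS (p := 5176) (l := 1) rfl N5176 D8824
theorem N7920 : nd 7920 = n8825 := ndS (p := 5176) (l := 3) rfl N5176 D8825
theorem N7921 : nd 7921 = n8826 := ndS (p := 5176) (l := 4) rfl N5176 D8826
theorem N7922 : nd 7922 = n8827 := ndS (p := 5177) (l := 4) rfl N5177 D8827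
theorem N7923 : nd 7923 = n8828 := ndS (p := 5178) (l := 3) rfl N5178 D8828
theorem N7924 : nd 7924 = n8829 := ndS (p := 5183) (l := 1) rfl N5183 D8829
theorem N7925 : nd 7925 = n8830 := ndS (p := 5185) (l := 0) rfl N5185 D8830
theorem N7926 : nd 7926 = n8831 := ndS (p := 5185) (l := 4) rfl N5185 D8831
theorem N7927 : nd 7927 = n8832 := ndS (p := 5187) (l := 3) rfl N5187 D8832
theorem N7928 : nd 7928 = n8833 := ndS (p := 5188) (l := 4) rfl N5188 D8833
theorem N7929 : nd 7929 = n8834 := ndS (p := 5189) (l := 3) rfl N5189 D8834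
theorem N7930 : nd 7930 = n8835 := ndS (p := 5190) (l := 1) rfl N5190 D8835
theorem N7931 : nd 7931 = n8836 := ndS (p := 5190) (l := 4) rfl N5190 D8836
theorem N7932 : nd 7932 = n8837 := ndS (p := 5192) (l := 0) rfl N5192 D8837
theorem N7933 : nd 7933 = n8838 := ndS (p := 5193) (l := 0) rfl N5193 D8838
theorem N7934 : nd 7934 = n8839 := ndS (p := 5194) (l := 0) rfl N5194 D8839
theorem N7935 : nd 7935 = n8840 := ndS (p := 5195) (l := 3) rfl N5195 D8840
theorem N7936 : nd 7936 = n8841 := ndS (p := 5195) (l := 4) rfl N5195 D8841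
theorem N7937 : nd 7937 = n8842 := ndS (p := 5199) (l := 2) rfl N5199 D8842
theorem N7938 : nd 7938 = n8843 := ndS (p := 5201) (l := 4) rfl N5201 D8843
theorem N7939 : nd 7939 = n8844 := ndS (p := 5202) (l := 0) rfl N5202 D8844
theorem N7940 : nd 7940 = n8845 := ndS (p := 5202) (l := 4) rfl N5202 D8845
theorem N7941 : nd 7941 = n8846 := ndS (p := 5203) (l := 2) rfl N5203 D8846
theorem N7942 : nd 7942 = n8847 := ndS (p := 5205) (l := 1) rfl N5205 D8847
theorem N7943 : nd 7943 = n8848 := ndS (p := 5205) (l := 3) rfl N5205 D8848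
theorem N7944 : nd 7944 = n8849 := ndS (p := 5205) (l := 4) rfl N5205 D8849
theorem N7945 : nd 7945 = n8850 := ndS (p := 5206) (l := 4) rfl N5206 D8850
theorem N7946 : nd 7946 = n8851 := ndS (p := 5207) (l := 0) rfl N5207 D8851
theorem N7947 : nd 7947 = n8852 := ndS (p := 5207) (l := 3) rfl N5207 D8852
theorem N7948 : nd 7948 = n8853 := ndS (p := 5208) (l := 4) rfl N5208 D8853
theorem N7949 : nd 7949 = n8855 := ndS (p := 5213) (l := 4) rfl N5213 D8855
theorem N7950 : nd 7950 = n8856 := ndS (p := 5214) (l := 4) rfl N5214 D8856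
theorem N7951 : nd 7951 = n8857 := ndS (p := 5219) (l := 4) rfl N5219 D8857
theorem N7952 : nd 7952 = n8858 := ndS (p := 5220) (l := 3) rfl N5220 D8858
theorem N7953 : nd 7953 = n8859 := ndS (p := 5221) (l := 2) rfl N5221 D8859
theorem N7954 : nd 7954 = n8860 := ndS (p := 5222) (l := 1) rfl N5222 D8860
theorem N7955 : nd 7955 = n8861 := ndS (p := 5222) (l := 3) rfl N5222 D8861
theorem N7956 : nd 7956 = n8862 := ndS (p := 5222) (l := 4) rfl N5222 D8862
theorem N7957 : nd 7957 = n8863 := ndS (p := 5223) (l := 4) rfl N5223 D8863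
theorem N7958 : nd 7958 = n8864 := ndS (p := 5224) (l := 1) rfl N5224 D8864
theorem N7959 : nd 7959 = n8865 := ndS (p := 5224) (l := 3) rfl N5224 D8865
theorem N7960 : nd 7960 = n8866 := ndS (p := 5224) (l := 4) rfl N5224 D8866
theorem N7961 : nd 7961 = n8867 := ndS (p := 5225) (l := 3) rfl N5225 D8867
theorem N7962 : nd 7962 = n8868 := ndS (p := 5226) (l := 4) rfl N5226 D8868
theorem N7963 : nd 7963 = n8869 := ndS (p := 5230) (l := 1) rfl N5230 D8869
theorem N7964 : nd 7964 = n8870 := ndS (p := 5230) (l := 3) rfl N5230 D8870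
theorem N7965 : nd 7965 = n8871 := ndS (p := 5230) (l := 4) rfl N5230 D8871
theorem N7966 : nd 7966 = n8872 := ndS (p := 5232) (l := 0) rfl N5232 D8872
theorem N7967 : nd 7967 = n8873 := ndS (p := 5232) (l := 4) rfl N5232 D8873
theorem N7968 : nd 7968 = n8874 := ndS (p := 5233) (l := 1) rfl N5233 D8874
theorem N7969 : nd 7969 = n8875 := ndS (p := 5233) (l := 4) rfl N5233 D8875
theorem N7970 : nd 7970 = n8876 := ndS (p := 5235) (l := 4) rfl N5235 D8876
theorem N7971 : nd 7971 = n8877 := ndS (p := 5236) (l := 3) rfl N5236 D8877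
theorem N7972 : nd 7972 = n8878 := ndS (p := 5238) (l := 4) rfl N5238 D8878
theorem N7973 : nd 7973 = n8879 := ndS (p := 5239) (l := 1) rfl N5239 D8879
theorem N7974 : nd 7974 = n8880 := ndS (p := 5239) (l := 4) rfl N5239 D8880
theorem N7975 : nd 7975 = n8881 := ndS (p := 5240) (l := 3) rfl N5240 D8881
theorem N7976 : nd 7976 = n8882 := ndS (p := 5240) (l := 4) rfl N5240 D8882
theorem N7977 : nd 7977 = n8883 := ndS (p := 5241) (l := 4) rfl N5241 D8883
theorem N7978 : nd 7978 = n8884 := ndS (p := 5244) (l := 3) rfl N5244 D8884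
theorem N7979 : nd 7979 = n8885 := ndS (p := 5244) (l := 4) rfl N5244 D8885
theorem N7980 : nd 7980 = n8886 := ndS (p := 5245) (l := 4) rfl N5245 D8886
theorem N7981 : nd 7981 = n8887 := ndS (p := 5246) (l := 3) rfl N5246 D8887
theorem N7982 : nd 7982 = n8888 := ndS (p := 5248) (l := 3) rfl N5248 D8888
theorem N7983 : nd 7983 = n8889 := ndS (p := 5248) (l := 4) rfl N5248 D8889
theorem N7984 : nd 7984 = n8890 := ndS (p := 5251) (l := 4) rfl N5251 D8890
theorem N7985 : nd 7985 = n8891 := ndS (p := 5253) (l := 1) rfl N5253 D8891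
theorem N7986 : nd 7986 = n8892 := ndS (p := 5255) (l := 2) rfl N5255 D8892
theorem N7987 : nd 7987 = n8893 := ndS (p := 5255) (l := 3) rfl N5255 D8893
theorem N7988 : nd 7988 = n8894 := ndS (p := 5256) (l := 0) rfl N5256 D8894
theorem N7989 : nd 7989 = n8895 := ndS (p := 5256) (l := 4) rfl N5256 D8895
theorem N7990 : nd 7990 = n8896 := ndS (p := 5257) (l := 2) rfl N5257 D8896
theorem N7991 : nd 7991 = n8897 := ndS (p := 5257) (l := 3) rfl N5257 D8897
theorem N7992 : nd 7992 = n8898 := ndS (p := 5258) (l := 2) rfl N5258 D8898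
theorem N7993 : nd 7993 = n8899 := ndS (p := 5258) (l := 3) rfl N5258 D8899
theorem N7994 : nd 7994 = n8900 := ndS (p := 5258) (l := 4) rfl N5258 D8900
theorem N7995 : nd 7995 = n8901 := ndS (p := 5259) (l := 2) rfl N5259 D8901
theorem N7996 : nd 7996 = n8902 := ndS (p := 5260) (l := 1) rfl N5260 D8902
theorem N7997 : nd 7997 = n8903 := ndS (p := 5260) (l := 3) rfl N5260 D8903
theorem N7998 : nd 7998 = n8904 := ndS (p := 5261) (l := 0) rfl N5261 D8904
theorem N7999 : nd 7999 = n8905 := ndS (p := 5262) (l := 0) rfl N5262 D8905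
theorem N8000 : nd 8000 = n8906 := ndS (p := 5262) (l := 3) rfl N5262 D8906
theorem N8001 : nd 8001 = n8907 := ndS (p := 5262) (l := 4) rfl N5262 D8907
theorem N8002 : nd 8002 = n8908 := ndS (p := 5263) (l := 3) rfl N5263 D8908
theorem N8003 : nd 8003 = n8909 := ndS (p := 5263) (l := 4) rfl N5263 D8909
theorem N8004 : nd 8004 = n8910 := ndS (p := 5264) (l := 4) rfl N5264 D8910
theorem N8005 : nd 8005 = n8911 := ndS (p := 5265) (l := 3) rfl N5265 D8911
theorem N8006 : nd 8006 = n8912 := ndS (p := 5266) (l := 1) rfl N5266 D8912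
theorem N8007 : nd 8007 = n8913 := ndS (p := 5266) (l := 2) rfl N5266 D8913
theorem N8008 : nd 8008 = n8914 := ndS (p := 5267) (l := 2) rfl N5267 D8914
theorem N8009 : nd 8009 = n8915 := ndS (p := 5270) (l := 1) rfl N5270 D8915
theorem N8010 : nd 8010 = n8916 := ndS (p := 5270) (l := 3) rfl N5270 D8916
theorem N8011 : nd 8011 = n8917 := ndS (p := 5270) (l := 4) rfl N5270 D8917
theorem N8012 : nd 8012 = n8918 := ndS (p := 5272) (l := 2) rfl N5272 D8918
theorem N8013 : nd 8013 = n8919 := ndS (p := 5273) (l := 0) rfl N5273 D8919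
theorem N8014 : nd 8014 = n8920 := ndS (p := 5274) (l := 1) rfl N5274 D8920
theorem N8015 : nd 8015 = n8921 := ndS (p := 5274) (l := 3) rfl N5274 D8921
theorem N8016 : nd 8016 = n8922 := ndS (p := 5276) (l := 2) rfl N5276 D8922
theorem N8017 : nd 8017 = n8923 := ndS (p := 5276) (l := 3) rfl N5276 D8923
theorem N8018 : nd 8018 = n8924 := ndS (p := 5277) (l := 2) rfl N5277 D8924
theorem N8019 : nd 8019 = n8925 := ndS (p := 5278) (l := 3) rfl N5278 D8925
theorem N8020 : nd 8020 = n8926 := ndS (p := 5280) (l := 1) rfl N5280 D8926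
theorem N8021 : nd 8021 = n8927 := ndS (p := 5280) (l := 3) rfl N5280 D8927
theorem N8022 : nd 8022 = n8928 := ndS (p := 5282) (l := 2) rfl N5282 D8928
theorem N8023 : nd 8023 = n8929 := ndS (p := 5283) (l := 0) rfl N5283 D8929
theorem N8024 : nd 8024 = n8930 := ndS (p := 5283) (l := 1) rfl N5283 D8930
theorem N8025 : nd 8025 = n8931 := ndS (p := 5284) (l := 3) rfl N5284 D8931
theorem N8026 : nd 8026 = n8932 := ndS (p := 5285) (l := 0) rfl N5285 D8932
theorem N8027 : nd 8027 = n8933 := ndS (p := 5285) (l := 4) rfl N5285 D8933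
theorem N8028 : nd 8028 = n8934 := ndS (p := 5286) (l := 2) rfl N5286 D8934
theorem N8029 : nd 8029 = n8935 := ndS (p := 5288) (l := 4) rfl N5288 D8935
theorem N8030 : nd 8030 = n8936 := ndS (p := 5289) (l := 3) rfl N5289 D8936
theorem N8031 : nd 8031 = n8937 := ndS (p := 5290) (l := 0) rfl N5290 D8937
theorem N8032 : nd 8032 = n8938 := ndS (p := 5290) (l := 3) rfl N5290 D8938
theorem N8033 : nd 8033 = n8939 := ndS (p := 5290) (l := 4) rfl N5290 D8939
theorem N8034 : nd 8034 = n8940 := ndS (p := 5291) (l := 3) rfl N5291 D8940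
theorem N8035 : nd 8035 = n8941 := ndS (p := 5291) (l := 4) rfl N5291 D8941
theorem N8036 : nd 8036 = n8942 := ndS (p := 5294) (l := 0) rfl N5294 D8942
theorem N8037 : nd 8037 = n8943 := ndS (p := 5297) (l := 2) rfl N5297 D8943
theorem N8038 : nd 8038 = n8944 := ndS (p := 5297) (l := 3) rfl N5297 D8944
theorem N8039 : nd 8039 = n8945 := ndS (p := 5300) (l := 1) rfl N5300 D8945
theorem N8040 : nd 8040 = n8946 := ndS (p := 5301) (l := 1) rfl N5301 D8946
theorem N8041 : nd 8041 = n8947 := ndS (p := 5301) (l := 3) rfl N5301 D8947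
theorem N8042 : nd 8042 = n8948 := ndS (p := 5304) (l := 2) rfl N5304 D8948
theorem N8043 : nd 8043 = n8949 := ndS (p := 5310) (l := 4) rfl N5310 D8949
theorem N8044 : nd 8044 = n8950 := ndS (p := 5314) (l := 1) rfl N5314 D8950
theorem N8045 : nd 8045 = n8951 := ndS (p := 5314) (l := 4) rfl N5314 D8951
theorem N8046 : nd 8046 = n8952 := ndS (p := 5315) (l := 2) rfl N5315 D8952
theorem N8047 : nd 8047 = n8953 := ndS (p := 5316) (l := 1) rfl N5316 D8953
theorem N8048 : nd 8048 = n8954 := ndS (p := 5316) (l := 4) rfl N5316 D8954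
theorem N8049 : nd 8049 = n8955 := ndS (p := 5317) (l := 1) rfl N5317 D8955
theorem N8050 : nd 8050 = n8956 := ndS (p := 5318) (l := 2) rfl N5318 D8956
theorem N8051 : nd 8051 = n8957 := ndS (p := 5318) (l := 3) rfl N5318 D8957
theorem N8052 : nd 8052 = n8958 := ndS (p := 5321) (l := 0) rfl N5321 D8958
theorem N8053 : nd 8053 = n8959 := ndS (p := 5321) (l := 3) rfl N5321 D8959
theorem N8054 : nd 8054 = n8960 := ndS (p := 5323) (l := 0) rfl N5323 D8960
theorem N8055 : nd 8055 = n8961 := ndS (p := 5323) (l := 4) rfl N5323 D8961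
theorem N8056 : nd 8056 = n8962 := ndS (p := 5324) (l := 2) rfl N5324 D8962
theorem N8057 : nd 8057 = n8963 := ndS (p := 5326) (l := 2) rfl N5326 D8963
theorem N8058 : nd 8058 = n8964 := ndS (p := 5326) (l := 4) rfl N5326 D8964
theorem N8059 : nd 8059 = n8965 := ndS (p := 5327) (l := 1) rfl N5327 D8965
theorem N8060 : nd 8060 = n8966 := ndS (p := 5327) (l := 4) rfl N5327 D8966
theorem N8061 : nd 8061 = n8967 := ndS (p := 5329) (l := 1) rfl N5329 D8967
theorem N8062 : nd 8062 = n8968 := ndS (p := 5329) (l := 3) rfl N5329 D8968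
theorem N8063 : nd 8063 = n8969 := ndS (p := 5329) (l := 4) rfl N5329 D8969
theorem N8064 : nd 8064 = n8970 := ndS (p := 5330) (l := 4) rfl N5330 D8970
theorem N8065 : nd 8065 = n8971 := ndS (p := 5331) (l := 3) rfl N5331 D8971
theorem N8066 : nd 8066 = n8972 := ndS (p := 5332) (l := 4) rfl N5332 D8972
theorem N8067 : nd 8067 = n8973 := ndS (p := 5336) (l := 4) rfl N5336 D8973
theorem N8068 : nd 8068 = n8974 := ndS (p := 5338) (l := 0) rfl N5338 D8974
theorem N8069 : nd 8069 = n8975 := ndS (p := 5338) (l := 2) rfl N5338 D8975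
theorem N8070 : nd 8070 = n8976 := ndS (p := 5338) (l := 3) rfl N5338 D8976
theorem N8071 : nd 8071 = n8977 := ndS (p := 5339) (l := 4) rfl N5339 D8977
theorem N8072 : nd 8072 = n8978 := ndS (p := 5342) (l := 3) rfl N5342 D8978
theorem N8073 : nd 8073 = n8979 := ndS (p := 5343) (l := 0) rfl N5343 D8979
theorem N8074 : nd 8074 = n8980 := ndS (p := 5346) (l := 4) rfl N5346 D8980
theorem N8075 : nd 8075 = n8981 := ndS (p := 5347) (l := 3) rfl N5347 D8981
theorem N8076 : nd 8076 = n8982 := ndS (p := 5348) (l := 3) rfl N5348 D8982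
theorem N8077 : nd 8077 = n8983 := ndS (p := 5349) (l := 4) rfl N5349 D8983
theorem N8078 : nd 8078 = n8984 := ndS (p := 5350) (l := 4) rfl N5350 D8984
theorem N8079 : nd 8079 = n8985 := ndS (p := 5351) (l := 1) rfl N5351 D8985
theorem N8080 : nd 8080 = n8986 := ndS (p := 5351) (l := 4) rfl N5351 D8986
theorem N8081 : nd 8081 = n8987 := ndS (p := 5353) (l := 4) rfl N5353 D8987
theorem N8082 : nd 8082 = n8988 := ndS (p := 5354) (l := 3) rfl N5354 D8988
theorem N8083 : nd 8083 = n8989 := ndS (p := 5355) (l := 4) rfl N5355 D8989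
theorem N8084 : nd 8084 = n8990 := ndS (p := 5356) (l := 1) rfl N5356 D8990
theorem N8085 : nd 8085 = n8991 := ndS (p := 5356) (l := 4) rfl N5356 D8991
theorem N8086 : nd 8086 = n8992 := ndS (p := 5358) (l := 2) rfl N5358 D8992
theorem N8087 : nd 8087 = n8993 := ndS (p := 5359) (l := 3) rfl N5359 D8993
theorem N8088 : nd 8088 = n8994 := ndS (p := 5360) (l := 4) rfl N5360 D8994
theorem N8089 : nd 8089 = n8995 := ndS (p := 5361) (l := 1) rfl N5361 D8995
theorem N8090 : nd 8090 = n8996 := ndS (p := 5361) (l := 3) rfl N5361 D8996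
theorem N8091 : nd 8091 = n8997 := ndS (p := 5362) (l := 0) rfl N5362 D8997
theorem N8092 : nd 8092 = n8998 := ndS (p := 5362) (l := 2) rfl N5362 D8998
theorem N8093 : nd 8093 = n8999 := ndS (p := 5362) (l := 3) rfl N5362 D8999
theorem N8094 : nd 8094 = n9000 := ndS (p := 5365) (l := 3) rfl N5365 D9000
theorem N8095 : nd 8095 = n9001 := ndS (p := 5366) (l := 0) rfl N5366 D9001
theorem N8096 : nd 8096 = n9002 := ndS (p := 5367) (l := 1) rfl N5367 D9002
theorem N8097 : nd 8097 = n9003 := ndS (p := 5367) (l := 3) rfl N5367 D9003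
theorem N8098 : nd 8098 = n9004 := ndS (p := 5367) (l := 4) rfl N5367 D9004
theorem N8099 : nd 8099 = n9005 := ndS (p := 5372) (l := 2) rfl N5372 D9005
theorem N8100 : nd 8100 = n9006 := ndS (p := 5372) (l := 3) rfl N5372 D9006
theorem N8101 : nd 8101 = n9007 := ndS (p := 5373) (l := 1) rfl N5373 D9007
theorem N8102 : nd 8102 = n9008 := ndS (p := 5373) (l := 3) rfl N5373 D9008
theorem N8103 : nd 8103 = n9009 := ndS (p := 5373) (l := 4) rfl N5373 D9009
theorem N8104 : nd 8104 = n9010 := ndS (p := 5374) (l := 0) rfl N5374 D9010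
theorem N8105 : nd 8105 = n9011 := ndS (p := 5377) (l := 0) rfl N5377 D9011
theorem N8106 : nd 8106 = n9012 := ndS (p := 5377) (l := 2) rfl N5377 D9012
theorem N8107 : nd 8107 = n9013 := ndS (p := 5381) (l := 0) rfl N5381 D9013
theorem N8108 : nd 8108 = n9014 := ndS (p := 5381) (l := 2) rfl N5381 D9014
theorem N8109 : nd 8109 = n9015 := ndS (p := 5381) (l := 3) rfl N5381 D9015
theorem N8110 : nd 8110 = n9016 := ndS (p := 5381) (l := 4) rfl N5381 D9016
theorem N8111 : nd 8111 = n9017 := ndS (p := 5382) (l := 4) rfl N5382 D9017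
theorem N8112 : nd 8112 = n9018 := ndS (p := 5383) (l := 3) rfl N5383 D9018
theorem N8113 : nd 8113 = n9019 := ndS (p := 5384) (l := 1) rfl N5384 D9019
theorem N8114 : nd 8114 = n9020 := ndS (p := 5384) (l := 2) rfl N5384 D9020
theorem N8115 : nd 8115 = n9021 := ndS (p := 5384) (l := 3) rfl N5384 D9021
theorem N8116 : nd 8116 = n9022 := ndS (p := 5384) (l := 4) rfl N5384 D9022
theorem N8117 : nd 8117 = n9023 := ndS (p := 5385) (l := 0) rfl N5385 D9023
theorem N8118 : nd 8118 = n9024 := ndS (p := 5385) (l := 3) rfl N5385 D9024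
theorem N8119 : nd 8119 = n9025 := ndS (p := 5385) (l := 4) rfl N5385 D9025
theorem N8120 : nd 8120 = n9026 := ndS (p := 5386) (l := 0) rfl N5386 D9026
theorem N8121 : nd 8121 = n9027 := ndS (p := 5386) (l := 4) rfl N5386 D9027
theorem N8122 : nd 8122 = n9028 := ndS (p := 5389) (l := 0) rfl N5389 D9028
theorem N8123 : nd 8123 = n9029 := ndS (p := 5390) (l := 3) rfl N5390 D9029
theorem N8124 : nd 8124 = n9030 := ndS (p := 5391) (l := 0) rfl N5391 D9030
theorem N8125 : nd 8125 = n9031 := ndS (p := 5391) (l := 4) rfl N5391 D9031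
theorem N8126 : nd 8126 = n9032 := ndS (p := 5393) (l := 1) rfl N5393 D9032
theorem N8127 : nd 8127 = n9033 := ndS (p := 5393) (l := 2) rfl N5393 D9033
theorem N8128 : nd 8128 = n9034 := ndS (p := 5393) (l := 3) rfl N5393 D9034
theorem N8129 : nd 8129 = n9035 := ndS (p := 5393) (l := 4) rfl N5393 D9035
theorem N8130 : nd 8130 = n9036 := ndS (p := 5394) (l := 2) rfl N5394 D9036
theorem N8131 : nd 8131 = n9037 := ndS (p := 5395) (l := 0) rfl N5395 D9037
theorem N8132 : nd 8132 = n9038 := ndS (p := 5395) (l := 2) rfl N5395 D9038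
theorem N8133 : nd 8133 = n9039 := ndS (p := 5395) (l := 3) rfl N5395 D9039
theorem N8134 : nd 8134 = n9040 := ndS (p := 5395) (l := 4) rfl N5395 D9040
theorem N8135 : nd 8135 = n9041 := ndS (p := 5398) (l := 2) rfl N5398 D9041
theorem N8136 : nd 8136 = n9042 := ndS (p := 5398) (l := 4) rfl N5398 D9042
theorem N8137 : nd 8137 = n9043 := ndS (p := 5399) (l := 1) rfl N5399 D9043
theorem N8138 : nd 8138 = n9044 := ndS (p := 5399) (l := 4) rfl N5399 D9044
theorem N8139 : nd 8139 = n9045 := ndS (p := 5401) (l := 0) rfl N5401 D9045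
theorem N8140 : nd 8140 = n9046 := ndS (p := 5401) (l := 2) rfl N5401 D9046
theorem N8141 : nd 8141 = n9047 := ndS (p := 5405) (l := 3) rfl N5405 D9047
theorem N8142 : nd 8142 = n9048 := ndS (p := 5405) (l := 4) rfl N5405 D9048
theorem N8143 : nd 8143 = n9049 := ndS (p := 5407) (l := 0) rfl N5407 D9049
theorem N8144 : nd 8144 = n9050 := ndS (p := 5409) (l := 4) rfl N5409 D9050
theorem N8145 : nd 8145 = n9051 := ndS (p := 5410) (l := 4) rfl N5410 D9051
theorem N8146 : nd 8146 = n9052 := ndS (p := 5411) (l := 2) rfl N5411 D9052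
theorem N8147 : nd 8147 = n9053 := ndS (p := 5411) (l := 3) rfl N5411 D9053
theorem N8148 : nd 8148 = n9054 := ndS (p := 5412) (l := 0) rfl N5412 D9054
theorem N8149 : nd 8149 = n9055 := ndS (p := 5412) (l := 1) rfl N5412 D9055
theorem N8150 : nd 8150 = n9056 := ndS (p := 5412) (l := 3) rfl N5412 D9056
theorem N8151 : nd 8151 = n9057 := ndS (p := 5412) (l := 4) rfl N5412 D9057
theorem N8152 : nd 8152 = n9058 := ndS (p := 5415) (l := 0) rfl N5415 D9058
theorem N8153 : nd 8153 = n9059 := ndS (p := 5418) (l := 2) rfl N5418 D9059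
theorem N8154 : nd 8154 = n9060 := ndS (p := 5418) (l := 3) rfl N5418 D9060
theorem N8155 : nd 8155 = n9061 := ndS (p := 5419) (l := 0) rfl N5419 D9061
theorem N8156 : nd 8156 = n9062 := ndS (p := 5419) (l := 3) rfl N5419 D9062
theorem N8157 : nd 8157 = n9063 := ndS (p := 5419) (l := 4) rfl N5419 D9063
theorem N8158 : nd 8158 = n9064 := ndS (p := 5420) (l := 0) rfl N5420 D9064
theorem N8159 : nd 8159 = n9065 := ndS (p := 5423) (l := 1) rfl N5423 D9065
theorem N8160 : nd 8160 = n9066 := ndS (p := 5423) (l := 4) rfl N5423 D9066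
theorem N8161 : nd 8161 = n9067 := ndS (p := 5424) (l := 0) rfl N5424 D9067
theorem N8162 : nd 8162 = n9068 := ndS (p := 5424) (l := 1) rfl N5424 D9068
theorem N8163 : nd 8163 = n9069 := ndS (p := 5424) (l := 3) rfl N5424 D9069
theorem N8164 : nd 8164 = n9070 := ndS (p := 5424) (l := 4) rfl N5424 D9070
theorem N8165 : nd 8165 = n9071 := ndS (p := 5425) (l := 0) rfl N5425 D9071
theorem N8166 : nd 8166 = n9072 := ndS (p := 5429) (l := 2) rfl N5429 D9072
theorem N8167 : nd 8167 = n9073 := ndS (p := 5429) (l := 3) rfl N5429 D9073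
theorem N8168 : nd 8168 = n9074 := ndS (p := 5430) (l := 0) rfl N5430 D9074
theorem N8169 : nd 8169 = n9075 := ndS (p := 5430) (l := 4) rfl N5430 D9075
theorem N8170 : nd 8170 = n9076 := ndS (p := 5431) (l := 2) rfl N5431 D9076
theorem N8171 : nd 8171 = n9077 := ndS (p := 5431) (l := 3) rfl N5431 D9077
theorem N8172 : nd 8172 = n9078 := ndS (p := 5432) (l := 1) rfl N5432 D9078
theorem N8173 : nd 8173 = n9079 := ndS (p := 5432) (l := 3) rfl N5432 D9079
theorem N8174 : nd 8174 = n9080 := ndS (p := 5432) (l := 4) rfl N5432 D9080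
theorem N8175 : nd 8175 = n9081 := ndS (p := 5433) (l := 0) rfl N5433 D9081
theorem N8176 : nd 8176 = n9082 := ndS (p := 5433) (l := 4) rfl N5433 D9082
theorem N8177 : nd 8177 = n9083 := ndS (p := 5437) (l := 2) rfl N5437 D9083
theorem N8178 : nd 8178 = n9084 := ndS (p := 5439) (l := 4) rfl N5439 D9084
theorem N8179 : nd 8179 = n9085 := ndS (p := 5440) (l := 3) rfl N5440 D9085
theorem N8180 : nd 8180 = n9086 := ndS (p := 5442) (l := 2) rfl N5442 D9086
theorem N8181 : nd 8181 = n9087 := ndS (p := 5442) (l := 3) rfl N5442 D9087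
theorem N8182 : nd 8182 = n9088 := ndS (p := 5444) (l := 1) rfl N5444 D9088
theorem N8183 : nd 8183 = n9089 := ndS (p := 5444) (l := 3) rfl N5444 D9089
theorem N8184 : nd 8184 = n9090 := ndS (p := 5444) (l := 4) rfl N5444 D9090
theorem N8185 : nd 8185 = n9091 := ndS (p := 5446) (l := 0) rfl N5446 D9091
theorem N8186 : nd 8186 = n9092 := ndS (p := 5446) (l := 2) rfl N5446 D9092
theorem N8187 : nd 8187 = n9093 := ndS (p := 5446) (l := 3) rfl N5446 D9093
theorem N8188 : nd 8188 = n9094 := ndS (p := 5448) (l := 2) rfl N5448 D9094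
theorem N8189 : nd 8189 = n9095 := ndS (p := 5449) (l := 0) rfl N5449 D9095
theorem N8190 : nd 8190 = n9096 := ndS (p := 5450) (l := 4) rfl N5450 D9096
theorem N8191 : nd 8191 = n9097 := ndS (p := 5451) (l := 0) rfl N5451 D9097
theorem N8192 : nd 8192 = n9098 := ndS (p := 5451) (l := 1) rfl N5451 D9098
theorem N8193 : nd 8193 = n9099 := ndS (p := 5451) (l := 3) rfl N5451 D9099
theorem N8194 : nd 8194 = n9100 := ndS (p := 5451) (l := 4) rfl N5451 D9100
theorem N8195 : nd 8195 = n9101 := ndS (p := 5452) (l := 0) rfl N5452 D9101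
theorem N8196 : nd 8196 = n9102 := ndS (p := 5454) (l := 4) rfl N5454 D9102
theorem N8197 : nd 8197 = n9103 := ndS (p := 5455) (l := 2) rfl N5455 D9103
theorem N8198 : nd 8198 = n9104 := ndS (p := 5457) (l := 2) rfl N5457 D9104
theorem N8199 : nd 8199 = n9105 := ndS (p := 5457) (l := 3) rfl N5457 D9105
theorem N8200 : nd 8200 = n9106 := ndS (p := 5458) (l := 0) rfl N5458 D9106
theorem N8201 : nd 8201 = n9107 := ndS (p := 5458) (l := 4) rfl N5458 D9107
theorem N8202 : nd 8202 = n9108 := ndS (p := 5460) (l := 0) rfl N5460 D9108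
theorem N8203 : nd 8203 = n9109 := ndS (p := 5462) (l := 4) rfl N5462 D9109
theorem N8204 : nd 8204 = n9110 := ndS (p := 5464) (l := 1) rfl N5464 D9110
theorem N8205 : nd 8205 = n9111 := ndS (p := 5464) (l := 3) rfl N5464 D9111
theorem N8206 : nd 8206 = n9112 := ndS (p := 5464) (l := 4) rfl N5464 D9112
theorem N8207 : nd 8207 = n9113 := ndS (p := 5467) (l := 3) rfl N5467 D9113
theorem N8208 : nd 8208 = n9114 := ndS (p := 5468) (l := 0) rfl N5468 D9114
theorem N8209 : nd 8209 = n9115 := ndS (p := 5468) (l := 4) rfl N5468 D9115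
theorem N8210 : nd 8210 = n9116 := ndS (p := 5475) (l := 1) rfl N5475 D9116
theorem N8211 : nd 8211 = n9117 := ndS (p := 5475) (l := 4) rfl N5475 D9117
theorem N8212 : nd 8212 = n9118 := ndS (p := 5479) (l := 0) rfl N5479 D9118
theorem N8213 : nd 8213 = n9119 := ndS (p := 5484) (l := 2) rfl N5484 D9119
theorem N8214 : nd 8214 = n9120 := ndS (p := 5485) (l := 0) rfl N5485 D9120
theorem N8215 : nd 8215 = n9121 := ndS (p := 5485) (l := 1) rfl N5485 D9121
theorem N8216 : nd 8216 = n9122 := ndS (p := 5485) (l := 4) rfl N5485 D9122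
theorem N8217 : nd 8217 = n9123 := ndS (p := 5486) (l := 4) rfl N5486 D9123
theorem N8218 : nd 8218 = n9124 := ndS (p := 5487) (l := 2) rfl N5487 D9124
theorem N8219 : nd 8219 = n9125 := ndS (p := 5488) (l := 0) rfl N5488 D9125
theorem N8220 : nd 8220 = n9126 := ndS (p := 5488) (l := 3) rfl N5488 D9126
theorem N8221 : nd 8221 = n9127 := ndS (p := 5489) (l := 0) rfl N5489 D9127
theorem N8222 : nd 8222 = n9128 := ndS (p := 5489) (l := 4) rfl N5489 D9128
theorem N8223 : nd 8223 = n9129 := ndS (p := 5491) (l := 4) rfl N5491 D9129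
theorem N8224 : nd 8224 = n9130 := ndS (p := 5493) (l := 0) rfl N5493 D9130
theorem N8225 : nd 8225 = n9131 := ndS (p := 5493) (l := 4) rfl N5493 D9131
theorem N8226 : nd 8226 = n9132 := ndS (p := 5494) (l := 0) rfl N5494 D9132
theorem N8227 : nd 8227 = n9133 := ndS (p := 5495) (l := 1) rfl N5495 D9133
theorem N8228 : nd 8228 = n9134 := ndS (p := 5495) (l := 3) rfl N5495 D9134
theorem N8229 : nd 8229 = n9135 := ndS (p := 5495) (l := 4) rfl N5495 D9135
theorem N8230 : nd 8230 = n9136 := ndS (p := 5497) (l := 0) rfl N5497 D9136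
theorem N8231 : nd 8231 = n9137 := ndS (p := 5499) (l := 2) rfl N5499 D9137
theorem N8232 : nd 8232 = n9138 := ndS (p := 5501) (l := 4) rfl N5501 D9138
theorem N8233 : nd 8233 = n9139 := ndS (p := 5502) (l := 3) rfl N5502 D9139
theorem N8234 : nd 8234 = n9140 := ndS (p := 5503) (l := 4) rfl N5503 D9140
theorem N8235 : nd 8235 = n9141 := ndS (p := 5505) (l := 0) rfl N5505 D9141
theorem N8236 : nd 8236 = n9142 := ndS (p := 5505) (l := 4) rfl N5505 D9142
theorem N8237 : nd 8237 = n9143 := ndS (p := 5507) (l := 0) rfl N5507 D9143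
theorem N8238 : nd 8238 = n9144 := ndS (p := 5507) (l := 4) rfl N5507 D9144
theorem N8239 : nd 8239 = n9145 := ndS (p := 5509) (l := 1) rfl N5509 D9145
theorem N8240 : nd 8240 = n9146 := ndS (p := 5509) (l := 3) rfl N5509 D9146
theorem N8241 : nd 8241 = n9147 := ndS (p := 5509) (l := 4) rfl N5509 D9147
theorem N8242 : nd 8242 = n9148 := ndS (p := 5510) (l := 0) rfl N5510 D9148
theorem N8243 : nd 8243 = n9149 := ndS (p := 5510) (l := 4) rfl N5510 D9149
theorem N8244 : nd 8244 = n9150 := ndS (p := 5513) (l := 3) rfl N5513 D9150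
theorem N8245 : nd 8245 = n9151 := ndS (p := 5514) (l := 0) rfl N5514 D9151
theorem N8246 : nd 8246 = n9152 := ndS (p := 5514) (l := 1) rfl N5514 D9152
theorem N8247 : nd 8247 = n9153 := ndS (p := 5514) (l := 3) rfl N5514 D9153
theorem N8248 : nd 8248 = n9154 := ndS (p := 5514) (l := 4) rfl N5514 D9154
theorem N8249 : nd 8249 = n9155 := ndS (p := 5515) (l := 0) rfl N5515 D9155
theorem N8250 : nd 8250 = n9156 := ndS (p := 5515) (l := 4) rfl N5515 D9156
theorem N8251 : nd 8251 = n9157 := ndS (p := 5516) (l := 2) rfl N5516 D9157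
theorem N8252 : nd 8252 = n9158 := ndS (p := 5516) (l := 3) rfl N5516 D9158
theorem N8253 : nd 8253 = n9159 := ndS (p := 5519) (l := 3) rfl N5519 D9159
theorem N8254 : nd 8254 = n9160 := ndS (p := 5521) (l := 3) rfl N5521 D9160
theorem N8255 : nd 8255 = n9161 := ndS (p := 5523) (l := 2) rfl N5523 D9161
theorem N8256 : nd 8256 = n9162 := ndS (p := 5525) (l := 3) rfl N5525 D9162
theorem N8257 : nd 8257 = n9163 := ndS (p := 5526) (l := 3) rfl N5526 D9163
theorem N8258 : nd 8258 = n9164 := ndS (p := 5528) (l := 3) rfl N5528 D9164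
theorem N8259 : nd 8259 = n9165 := ndS (p := 5528) (l := 4) rfl N5528 D9165
theorem N8260 : nd 8260 = n9166 := ndS (p := 5529) (l := 0) rfl N5529 D9166
theorem N8261 : nd 8261 = n9167 := ndS (p := 5529) (l := 1) rfl N5529 D9167
theorem N8262 : nd 8262 = n9168 := ndS (p := 5529) (l := 3) rfl N5529 D9168
theorem N8263 : nd 8263 = n9169 := ndS (p := 5529) (l := 4) rfl N5529 D9169
theorem N8264 : nd 8264 = n9170 := ndS (p := 5530) (l := 0) rfl N5530 D9170
theorem N8265 : nd 8265 = n9171 := ndS (p := 5531) (l := 2) rfl N5531 D9171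
theorem N8266 : nd 8266 = n9172 := ndS (p := 5532) (l := 0) rfl N5532 D9172
theorem N8267 : nd 8267 = n9173 := ndS (p := 5534) (l := 1) rfl N5534 D9173
theorem N8268 : nd 8268 = n9174 := ndS (p := 5534) (l := 3) rfl N5534 D9174
theorem N8269 : nd 8269 = n9175 := ndS (p := 5534) (l := 4) rfl N5534 D9175
theorem N8270 : nd 8270 = n9176 := ndS (p := 5537) (l := 0) rfl N5537 D9176
theorem N8271 : nd 8271 = n9177 := ndS (p := 5538) (l := 1) rfl N5538 D9177
theorem N8272 : nd 8272 = n9178 := ndS (p := 5538) (l := 3) rfl N5538 D9178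
theorem N8273 : nd 8273 = n9179 := ndS (p := 5538) (l := 4) rfl N5538 D9179
theorem N8274 : nd 8274 = n9180 := ndS (p := 5540) (l := 0) rfl N5540 D9180
theorem N8275 : nd 8275 = n9181 := ndS (p := 5542) (l := 4) rfl N5542 D9181
theorem N8276 : nd 8276 = n9182 := ndS (p := 5549) (l := 0) rfl N5549 D9182
theorem N8277 : nd 8277 = n9183 := ndS (p := 5550) (l := 4) rfl N5550 D9183
theorem N8278 : nd 8278 = n9184 := ndS (p := 5552) (l := 0) rfl N5552 D9184
theorem N8279 : nd 8279 = n9185 := ndS (p := 5552) (l := 4) rfl N5552 D9185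
theorem N8280 : nd 8280 = n9186 := ndS (p := 5553) (l := 3) rfl N5553 D9186
theorem N8281 : nd 8281 = n9187 := ndS (p := 5554) (l := 0) rfl N5554 D9187
theorem N8282 : nd 8282 = n9188 := ndS (p := 5556) (l := 0) rfl N5556 D9188
theorem N8283 : nd 8283 = n9189 := ndS (p := 5557) (l := 4) rfl N5557 D9189
theorem N8284 : nd 8284 = n9190 := ndS (p := 5560) (l := 0) rfl N5560 D9190
theorem N8285 : nd 8285 = n9191 := ndS (p := 5560) (l := 4) rfl N5560 D9191
theorem N8286 : nd 8286 = n9192 := ndS (p := 5561) (l := 2) rfl N5561 D9192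
theorem N8287 : nd 8287 = n9193 := ndS (p := 5563) (l := 2) rfl N5563 D9193
theorem N8288 : nd 8288 = n9194 := ndS (p := 5565) (l := 3) rfl N5565 D9194
theorem N8289 : nd 8289 = n9195 := ndS (p := 5567) (l := 0) rfl N5567 D9195
theorem N8290 : nd 8290 = n9196 := ndS (p := 5567) (l := 4) rfl N5567 D9196
theorem N8291 : nd 8291 = n9197 := ndS (p := 5570) (l := 2) rfl N5570 D9197
theorem N8292 : nd 8292 = n9198 := ndS (p := 5572) (l := 3) rfl N5572 D9198
theorem N8293 : nd 8293 = n9199 := ndS (p := 5573) (l := 0) rfl N5573 D9199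
theorem N8294 : nd 8294 = n9200 := ndS (p := 5573) (l := 4) rfl N5573 D9200
theorem N8295 : nd 8295 = n9201 := ndS (p := 5574) (l := 2) rfl N5574 D9201
theorem N8296 : nd 8296 = n9202 := ndS (p := 5574) (l := 3) rfl N5574 D9202
theorem N8297 : nd 8297 = n9203 := ndS (p := 5575) (l := 3) rfl N5575 D9203
theorem N8298 : nd 8298 = n9204 := ndS (p := 5577) (l := 0) rfl N5577 D9204
theorem N8299 : nd 8299 = n9205 := ndS (p := 5578) (l := 1) rfl N5578 D9205
theorem N8300 : nd 8300 = n9206 := ndS (p := 5578) (l := 3) rfl N5578 D9206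
theorem N8301 : nd 8301 = n9207 := ndS (p := 5578) (l := 4) rfl N5578 D9207
theorem N8302 : nd 8302 = n9208 := ndS (p := 5579) (l := 2) rfl N5579 D9208
theorem N8303 : nd 8303 = n9209 := ndS (p := 5580) (l := 3) rfl N5580 D9209
theorem N8304 : nd 8304 = n9210 := ndS (p := 5581) (l := 0) rfl N5581 D9210
theorem N8305 : nd 8305 = n9211 := ndS (p := 5585) (l := 1) rfl N5585 D9211
theorem N8306 : nd 8306 = n9212 := ndS (p := 5594) (l := 1) rfl N5594 D9212
theorem N8307 : nd 8307 = n9213 := ndS (p := 5594) (l := 2) rfl N5594 D9213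
theorem N8308 : nd 8308 = n9214 := ndS (p := 5594) (l := 3) rfl N5594 D9214
theorem N8309 : nd 8309 = n9215 := ndS (p := 5597) (l := 0) rfl N5597 D9215
theorem N8310 : nd 8310 = n9216 := ndS (p := 5600) (l := 3) rfl N5600 D9216
theorem N8311 : nd 8311 = n9217 := ndS (p := 5603) (l := 0) rfl N5603 D9217
theorem N8312 : nd 8312 = n9218 := ndS (p := 5604) (l := 2) rfl N5604 D9218
theorem N8313 : nd 8313 = n9219 := ndS (p := 5605) (l := 3) rfl N5605 D9219
theorem N8314 : nd 8314 = n9220 := ndS (p := 5607) (l := 0) rfl N5607 D9220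
theorem N8315 : nd 8315 = n9221 := ndS (p := 5609) (l := 0) rfl N5609 D9221
theorem N8316 : nd 8316 = n9222 := ndS (p := 5613) (l := 2) rfl N5613 D9222
theorem N8317 : nd 8317 = n9223 := ndS (p := 5613) (l := 3) rfl N5613 D9223
theorem N8318 : nd 8318 = n9224 := ndS (p := 5618) (l := 1) rfl N5618 D9224
theorem N8319 : nd 8319 = n9225 := ndS (p := 5621) (l := 4) rfl N5621 D9225
theorem N8320 : nd 8320 = n9226 := ndS (p := 5622) (l := 3) rfl N5622 D9226
theorem N8321 : nd 8321 = n9227 := ndS (p := 5623) (l := 2) rfl N5623 D9227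
theorem N8322 : nd 8322 = n9228 := ndS (p := 5624) (l := 3) rfl N5624 D9228
theorem N8323 : nd 8323 = n9229 := ndS (p := 5625) (l := 4) rfl N5625 D9229
theorem N8324 : nd 8324 = n9230 := ndS (p := 5628) (l := 4) rfl N5628 D9230
theorem N8325 : nd 8325 = n9231 := ndS (p := 5629) (l := 3) rfl N5629 D9231
theorem N8326 : nd 8326 = n9232 := ndS (p := 5630) (l := 1) rfl N5630 D9232
theorem N8327 : nd 8327 = n9233 := ndS (p := 5630) (l := 4) rfl N5630 D9233
theorem N8328 : nd 8328 = n9234 := ndS (p := 5631) (l := 0) rfl N5631 D9234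
theorem N8329 : nd 8329 = n9235 := ndS (p := 5631) (l := 2) rfl N5631 D9235
theorem N8330 : nd 8330 = n9236 := ndS (p := 5631) (l := 4) rfl N5631 D9236
theorem N8331 : nd 8331 = n9237 := ndS (p := 5633) (l := 2) rfl N5633 D9237
theorem N8332 : nd 8332 = n9238 := ndS (p := 5633) (l := 3) rfl N5633 D9238
theorem N8333 : nd 8333 = n9239 := ndS (p := 5633) (l := 4) rfl N5633 D9239
theorem N8334 : nd 8334 = n9240 := ndS (p := 5634) (l := 4) rfl N5634 D9240
theorem N8335 : nd 8335 = n9241 := ndS (p := 5635) (l := 3) rfl N5635 D9241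
theorem N8336 : nd 8336 = n9242 := ndS (p := 5636) (l := 4) rfl N5636 D9242
theorem N8337 : nd 8337 = n9243 := ndS (p := 5637) (l := 3) rfl N5637 D9243
theorem N8338 : nd 8338 = n9244 := ndS (p := 5637) (l := 4) rfl N5637 D9244
theorem N8339 : nd 8339 = n9245 := ndS (p := 5638) (l := 0) rfl N5638 D9245
theorem N8340 : nd 8340 = n9246 := ndS (p := 5638) (l := 4) rfl N5638 D9246
theorem N8341 : nd 8341 = n9247 := ndS (p := 5640) (l := 1) rfl N5640 D9247
theorem N8342 : nd 8342 = n9248 := ndS (p := 5642) (l := 1) rfl N5642 D9248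
theorem N8343 : nd 8343 = n9249 := ndS (p := 5642) (l := 4) rfl N5642 D9249
theorem N8344 : nd 8344 = n9250 := ndS (p := 5643) (l := 2) rfl N5643 D9250
theorem N8345 : nd 8345 = n9251 := ndS (p := 5648) (l := 1) rfl N5648 D9251
theorem N8346 : nd 8346 = n9252 := ndS (p := 5652) (l := 2) rfl N5652 D9252
theorem N8347 : nd 8347 = n9253 := ndS (p := 5658) (l := 1) rfl N5658 D9253
theorem N8348 : nd 8348 = n9254 := ndS (p := 5658) (l := 4) rfl N5658 D9254
theorem N8349 : nd 8349 = n9255 := ndS (p := 5659) (l := 4) rfl N5659 D9255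
theorem N8350 : nd 8350 = n9256 := ndS (p := 5660) (l := 1) rfl N5660 D9256
theorem N8351 : nd 8351 = n9257 := ndS (p := 5660) (l := 4) rfl N5660 D9257
theorem N8352 : nd 8352 = n9258 := ndS (p := 5661) (l := 2) rfl N5661 D9258
theorem N8353 : nd 8353 = n9259 := ndS (p := 5664) (l := 3) rfl N5664 D9259
theorem N8354 : nd 8354 = n9260 := ndS (p := 5666) (l := 1) rfl N5666 D9260
theorem N8355 : nd 8355 = n9261 := ndS (p := 5666) (l := 4) rfl N5666 D9261
theorem N8356 : nd 8356 = n9262 := ndS (p := 5668) (l := 4) rfl N5668 D9262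
theorem N8357 : nd 8357 = n9263 := ndS (p := 5669) (l := 1) rfl N5669 D9263
theorem N8358 : nd 8358 = n9264 := ndS (p := 5669) (l := 4) rfl N5669 D9264
theorem N8359 : nd 8359 = n9265 := ndS (p := 5670) (l := 2) rfl N5670 D9265
theorem N8360 : nd 8360 = n9266 := ndS (p := 5671) (l := 1) rfl N5671 D9266
theorem N8361 : nd 8361 = n9267 := ndS (p := 5672) (l := 4) rfl N5672 D9267
theorem N8362 : nd 8362 = n9268 := ndS (p := 5674) (l := 0) rfl N5674 D9268
theorem N8363 : nd 8363 = n9269 := ndS (p := 5674) (l := 2) rfl N5674 D9269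
theorem N8364 : nd 8364 = n9270 := ndS (p := 5674) (l := 3) rfl N5674 D9270
theorem N8365 : nd 8365 = n9271 := ndS (p := 5674) (l := 4) rfl N5674 D9271
theorem N8366 : nd 8366 = n9272 := ndS (p := 5675) (l := 4) rfl N5675 D9272
theorem N8367 : nd 8367 = n9273 := ndS (p := 5676) (l := 3) rfl N5676 D9273
theorem N8368 : nd 8368 = n9274 := ndS (p := 5679) (l := 3) rfl N5679 D9274
theorem N8369 : nd 8369 = n9275 := ndS (p := 5679) (l := 4) rfl N5679 D9275
theorem N8370 : nd 8370 = n9276 := ndS (p := 5681) (l := 4) rfl N5681 D9276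
theorem N8371 : nd 8371 = n9277 := ndS (p := 5682) (l := 3) rfl N5682 D9277
theorem N8372 : nd 8372 = n9278 := ndS (p := 5692) (l := 0) rfl N5692 D9278
theorem N8373 : nd 8373 = n9279 := ndS (p := 5692) (l := 2) rfl N5692 D9279
theorem N8374 : nd 8374 = n9280 := ndS (p := 5692) (l := 3) rfl N5692 D9280
theorem N8375 : nd 8375 = n9281 := ndS (p := 5692) (l := 4) rfl N5692 D9281
theorem N8376 : nd 8376 = n9282 := ndS (p := 5696) (l := 0) rfl N5696 D9282
theorem N8377 : nd 8377 = n9283 := ndS (p := 5696) (l := 2) rfl N5696 D9283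
theorem N8378 : nd 8378 = n9284 := ndS (p := 5696) (l := 4) rfl N5696 D9284
theorem N8379 : nd 8379 = n9285 := ndS (p := 5699) (l := 1) rfl N5699 D9285
theorem N8380 : nd 8380 = n9286 := ndS (p := 5699) (l := 4) rfl N5699 D9286
theorem N8381 : nd 8381 = n9287 := ndS (p := 5701) (l := 4) rfl N5701 D9287
theorem N8382 : nd 8382 = n9288 := ndS (p := 5702) (l := 4) rfl N5702 D9288
theorem N8383 : nd 8383 = n9289 := ndS (p := 5704) (l := 4) rfl N5704 D9289
theorem N8384 : nd 8384 = n9290 := ndS (p := 5706) (l := 4) rfl N5706 D9290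
theorem N8385 : nd 8385 = n9291 := ndS (p := 5707) (l := 2) rfl N5707 D9291
theorem N8386 : nd 8386 = n9292 := ndS (p := 5707) (l := 3) rfl N5707 D9292
theorem N8387 : nd 8387 = n9293 := ndS (p := 5708) (l := 0) rfl N5708 D9293
theorem N8388 : nd 8388 = n9294 := ndS (p := 5708) (l := 1) rfl N5708 D9294
theorem N8389 : nd 8389 = n9295 := ndS (p := 5708) (l := 3) rfl N5708 D9295
theorem N8390 : nd 8390 = n9296 := ndS (p := 5708) (l := 4) rfl N5708 D9296
theorem N8391 : nd 8391 = n9297 := ndS (p := 5710) (l := 3) rfl N5710 D9297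
theorem N8392 : nd 8392 = n9298 := ndS (p := 5711) (l := 0) rfl N5711 D9298
theorem N8393 : nd 8393 = n9299 := ndS (p := 5711) (l := 4) rfl N5711 D9299
theorem N8394 : nd 8394 = n9300 := ndS (p := 5713) (l := 1) rfl N5713 D9300
theorem N8395 : nd 8395 = n9301 := ndS (p := 5713) (l := 2) rfl N5713 D9301
theorem N8396 : nd 8396 = n9302 := ndS (p := 5713) (l := 4) rfl N5713 D9302
theorem N8397 : nd 8397 = n9303 := ndS (p := 5716) (l := 4) rfl N5716 D9303
theorem N8398 : nd 8398 = n9304 := ndS (p := 5717) (l := 1) rfl N5717 D9304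
theorem N8399 : nd 8399 = n9305 := ndS (p := 5717) (l := 4) rfl N5717 D9305
theorem N8400 : nd 8400 = n9306 := ndS (p := 5720) (l := 1) rfl N5720 D9306
theorem N8401 : nd 8401 = n9307 := ndS (p := 5720) (l := 4) rfl N5720 D9307
theorem N8402 : nd 8402 = n9308 := ndS (p := 5722) (l := 1) rfl N5722 D9308
theorem N8403 : nd 8403 = n9309 := ndS (p := 5722) (l := 4) rfl N5722 D9309
theorem N8404 : nd 8404 = n9310 := ndS (p := 5723) (l := 2) rfl N5723 D9310
theorem N8405 : nd 8405 = n9311 := ndS (p := 5725) (l := 0) rfl N5725 D9311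
theorem N8406 : nd 8406 = n9312 := ndS (p := 5726) (l := 0) rfl N5726 D9312
theorem N8407 : nd 8407 = n9313 := ndS (p := 5727) (l := 2) rfl N5727 D9313
theorem N8408 : nd 8408 = n9314 := ndS (p := 5728) (l := 1) rfl N5728 D9314
theorem N8409 : nd 8409 = n9315 := ndS (p := 5728) (l := 2) rfl N5728 D9315
theorem N8410 : nd 8410 = n9316 := ndS (p := 5728) (l := 3) rfl N5728 D9316
theorem N8411 : nd 8411 = n9317 := ndS (p := 5728) (l := 4) rfl N5728 D9317
theorem N8412 : nd 8412 = n9318 := ndS (p := 5729) (l := 2) rfl N5729 D9318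
theorem N8413 : nd 8413 = n9319 := ndS (p := 5730) (l := 0) rfl N5730 D9319
theorem N8414 : nd 8414 = n9320 := ndS (p := 5732) (l := 2) rfl N5732 D9320
theorem N8415 : nd 8415 = n9321 := ndS (p := 5732) (l := 3) rfl N5732 D9321
theorem N8416 : nd 8416 = n9322 := ndS (p := 5734) (l := 2) rfl N5734 D9322
theorem N8417 : nd 8417 = n9323 := ndS (p := 5735) (l := 2) rfl N5735 D9323
theorem N8418 : nd 8418 = n9324 := ndS (p := 5735) (l := 3) rfl N5735 D9324
theorem N8419 : nd 8419 = n9325 := ndS (p := 5735) (l := 4) rfl N5735 D9325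
theorem N8420 : nd 8420 = n9326 := ndS (p := 5736) (l := 2) rfl N5736 D9326
theorem N8421 : nd 8421 = n9327 := ndS (p := 5737) (l := 0) rfl N5737 D9327
theorem N8422 : nd 8422 = n9328 := ndS (p := 5737) (l := 1) rfl N5737 D9328
theorem N8423 : nd 8423 = n9329 := ndS (p := 5737) (l := 3) rfl N5737 D9329
theorem N8424 : nd 8424 = n9330 := ndS (p := 5737) (l := 4) rfl N5737 D9330
theorem N8425 : nd 8425 = n9331 := ndS (p := 5738) (l := 0) rfl N5738 D9331
theorem N8426 : nd 8426 = n9332 := ndS (p := 5740) (l := 4) rfl N5740 D9332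
theorem N8427 : nd 8427 = n9333 := ndS (p := 5742) (l := 1) rfl N5742 D9333
theorem N8428 : nd 8428 = n9334 := ndS (p := 5742) (l := 2) rfl N5742 D9334
theorem N8429 : nd 8429 = n9335 := ndS (p := 5742) (l := 3) rfl N5742 D9335
theorem N8430 : nd 8430 = n9336 := ndS (p := 5742) (l := 4) rfl N5742 D9336
theorem N8431 : nd 8431 = n9337 := ndS (p := 5743) (l := 2) rfl N5743 D9337
theorem N8432 : nd 8432 = n9338 := ndS (p := 5748) (l := 2) rfl N5748 D9338
theorem N8433 : nd 8433 = n9339 := ndS (p := 5749) (l := 0) rfl N5749 D9339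
theorem N8434 : nd 8434 = n9340 := ndS (p := 5750) (l := 3) rfl N5750 D9340
theorem N8435 : nd 8435 = n9341 := ndS (p := 5752) (l := 3) rfl N5752 D9341
theorem N8436 : nd 8436 = n9342 := ndS (p := 5753) (l := 4) rfl N5753 D9342
theorem N8437 : nd 8437 = n9343 := ndS (p := 5754) (l := 2) rfl N5754 D9343
theorem N8438 : nd 8438 = n9344 := ndS (p := 5754) (l := 3) rfl N5754 D9344
theorem N8439 : nd 8439 = n9345 := ndS (p := 5755) (l := 2) rfl N5755 D9345
theorem N8440 : nd 8440 = n9346 := ndS (p := 5755) (l := 3) rfl N5755 D9346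
theorem N8441 : nd 8441 = n9347 := ndS (p := 5755) (l := 4) rfl N5755 D9347
theorem N8442 : nd 8442 = n9348 := ndS (p := 5756) (l := 2) rfl N5756 D9348
theorem N8443 : nd 8443 = n9349 := ndS (p := 5757) (l := 0) rfl N5757 D9349
theorem N8444 : nd 8444 = n9350 := ndS (p := 5757) (l := 1) rfl N5757 D9350
theorem N8445 : nd 8445 = n9351 := ndS (p := 5757) (l := 3) rfl N5757 D9351
theorem N8446 : nd 8446 = n9352 := ndS (p := 5757) (l := 4) rfl N5757 D9352
theorem N8447 : nd 8447 = n9353 := ndS (p := 5758) (l := 0) rfl N5758 D9353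
theorem N8448 : nd 8448 = n9354 := ndS (p := 5759) (l := 3) rfl N5759 D9354
theorem N8449 : nd 8449 = n9355 := ndS (p := 5759) (l := 4) rfl N5759 D9355
theorem N8450 : nd 8450 = n9356 := ndS (p := 5760) (l := 3) rfl N5760 D9356
theorem N8451 : nd 8451 = n9357 := ndS (p := 5760) (l := 4) rfl N5760 D9357
theorem N8452 : nd 8452 = n9358 := ndS (p := 5761) (l := 4) rfl N5761 D9358
theorem N8453 : nd 8453 = n9359 := ndS (p := 5762) (l := 3) rfl N5762 D9359
theorem N8454 : nd 8454 = n9360 := ndS (p := 5765) (l := 1) rfl N5765 D9360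
theorem N8455 : nd 8455 = n9361 := ndS (p := 5765) (l := 2) rfl N5765 D9361
theorem N8456 : nd 8456 = n9362 := ndS (p := 5765) (l := 3) rfl N5765 D9362
theorem N8457 : nd 8457 = n9363 := ndS (p := 5765) (l := 4) rfl N5765 D9363
theorem N8458 : nd 8458 = n9364 := ndS (p := 5766) (l := 2) rfl N5766 D9364
theorem N8459 : nd 8459 = n9365 := ndS (p := 5767) (l := 3) rfl N5767 D9365
theorem N8460 : nd 8460 = n9366 := ndS (p := 5767) (l := 4) rfl N5767 D9366
theorem N8461 : nd 8461 = n9367 := ndS (p := 5768) (l := 0) rfl N5768 D9367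
theorem N8462 : nd 8462 = n9368 := ndS (p := 5770) (l := 1) rfl N5770 D9368
theorem N8463 : nd 8463 = n9369 := ndS (p := 5770) (l := 3) rfl N5770 D9369
theorem N8464 : nd 8464 = n9370 := ndS (p := 5770) (l := 4) rfl N5770 D9370
theorem N8465 : nd 8465 = n9371 := ndS (p := 5772) (l := 2) rfl N5772 D9371
theorem N8466 : nd 8466 = n9372 := ndS (p := 5773) (l := 0) rfl N5773 D9372
theorem N8467 : nd 8467 = n9373 := ndS (p := 5774) (l := 3) rfl N5774 D9373
theorem N8468 : nd 8468 = n9374 := ndS (p := 5774) (l := 4) rfl N5774 D9374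
theorem N8469 : nd 8469 = n9375 := ndS (p := 5776) (l := 0) rfl N5776 D9375
theorem N8470 : nd 8470 = n9376 := ndS (p := 5778) (l := 2) rfl N5778 D9376
theorem N8471 : nd 8471 = n9377 := ndS (p := 5779) (l := 3) rfl N5779 D9377
theorem N8472 : nd 8472 = n9378 := ndS (p := 5779) (l := 4) rfl N5779 D9378
theorem N8473 : nd 8473 = n9379 := ndS (p := 5780) (l := 4) rfl N5780 D9379
theorem N8474 : nd 8474 = n9380 := ndS (p := 5781) (l := 2) rfl N5781 D9380
theorem N8475 : nd 8475 = n9381 := ndS (p := 5784) (l := 4) rfl N5784 D9381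
theorem N8476 : nd 8476 = n9382 := ndS (p := 5785) (l := 2) rfl N5785 D9382
theorem N8477 : nd 8477 = n9383 := ndS (p := 5786) (l := 1) rfl N5786 D9383
theorem N8478 : nd 8478 = n9384 := ndS (p := 5786) (l := 3) rfl N5786 D9384
theorem N8479 : nd 8479 = n9385 := ndS (p := 5787) (l := 0) rfl N5787 D9385
theorem N8480 : nd 8480 = n9386 := ndS (p := 5788) (l := 3) rfl N5788 D9386
theorem N8481 : nd 8481 = n9387 := ndS (p := 5788) (l := 4) rfl N5788 D9387
theorem N8482 : nd 8482 = n9388 := ndS (p := 5790) (l := 2) rfl N5790 D9388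
theorem N8483 : nd 8483 = n9389 := ndS (p := 5791) (l := 0) rfl N5791 D9389
theorem N8484 : nd 8484 = n9390 := ndS (p := 5791) (l := 1) rfl N5791 D9390
theorem N8485 : nd 8485 = n9391 := ndS (p := 5791) (l := 4) rfl N5791 D9391
theorem N8486 : nd 8486 = n9392 := ndS (p := 5792) (l := 4) rfl N5792 D9392
theorem N8487 : nd 8487 = n9393 := ndS (p := 5793) (l := 0) rfl N5793 D9393
theorem N8488 : nd 8488 = n9394 := ndS (p := 5793) (l := 3) rfl N5793 D9394
theorem N8489 : nd 8489 = n9395 := ndS (p := 5794) (l := 0) rfl N5794 D9395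
theorem N8490 : nd 8490 = n9396 := ndS (p := 5794) (l := 4) rfl N5794 D9396
theorem N8491 : nd 8491 = n9397 := ndS (p := 5796) (l := 2) rfl N5796 D9397
theorem N8492 : nd 8492 = n9398 := ndS (p := 5797) (l := 3) rfl N5797 D9398
theorem N8493 : nd 8493 = n9399 := ndS (p := 5797) (l := 4) rfl N5797 D9399
theorem N8494 : nd 8494 = n9400 := ndS (p := 5798) (l := 4) rfl N5798 D9400
theorem N8495 : nd 8495 = n9401 := ndS (p := 5799) (l := 3) rfl N5799 D9401
theorem N8496 : nd 8496 = n9402 := ndS (p := 5800) (l := 4) rfl N5800 D9402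
theorem N8497 : nd 8497 = n9403 := ndS (p := 5801) (l := 3) rfl N5801 D9403
theorem N8498 : nd 8498 = n9404 := ndS (p := 5802) (l := 2) rfl N5802 D9404
theorem N8499 : nd 8499 = n9405 := ndS (p := 5803) (l := 3) rfl N5803 D9405
theorem N8500 : nd 8500 = n9406 := ndS (p := 5804) (l := 0) rfl N5804 D9406
theorem N8501 : nd 8501 = n9407 := ndS (p := 5805) (l := 0) rfl N5805 D9407
theorem N8502 : nd 8502 = n9408 := ndS (p := 5805) (l := 4) rfl N5805 D9408
theorem N8503 : nd 8503 = n9409 := ndS (p := 5806) (l := 3) rfl N5806 D9409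
theorem N8504 : nd 8504 = n9410 := ndS (p := 5806) (l := 4) rfl N5806 D9410
theorem N8505 : nd 8505 = n9411 := ndS (p := 5808) (l := 2) rfl N5808 D9411
theorem N8506 : nd 8506 = n9412 := ndS (p := 5809) (l := 0) rfl N5809 D9412
theorem N8507 : nd 8507 = n9413 := ndS (p := 5810) (l := 0) rfl N5810 D9413
theorem N8508 : nd 8508 = n9414 := ndS (p := 5813) (l := 0) rfl N5813 D9414
theorem N8509 : nd 8509 = n9415 := ndS (p := 5813) (l := 1) rfl N5813 D9415
theorem N8510 : nd 8510 = n9416 := ndS (p := 5813) (l := 4) rfl N5813 D9416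
theorem N8511 : nd 8511 = n9417 := ndS (p := 5816) (l := 2) rfl N5816 D9417
theorem N8512 : nd 8512 = n9418 := ndS (p := 5818) (l := 4) rfl N5818 D9418
theorem N8513 : nd 8513 = n9419 := ndS (p := 5820) (l := 2) rfl N5820 D9419
theorem N8514 : nd 8514 = n9420 := ndS (p := 5823) (l := 3) rfl N5823 D9420
theorem N8515 : nd 8515 = n9421 := ndS (p := 5824) (l := 4) rfl N5824 D9421
theorem N8516 : nd 8516 = n9422 := ndS (p := 5826) (l := 2) rfl N5826 D9422
theorem N8517 : nd 8517 = n9423 := ndS (p := 5827) (l := 0) rfl N5827 D9423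
theorem N8518 : nd 8518 = n9424 := ndS (p := 5827) (l := 1) rfl N5827 D9424
theorem N8519 : nd 8519 = n9425 := ndS (p := 5828) (l := 3) rfl N5828 D9425
theorem N8520 : nd 8520 = n9426 := ndS (p := 5829) (l := 0) rfl N5829 D9426
theorem N8521 : nd 8521 = n9427 := ndS (p := 5829) (l := 4) rfl N5829 D9427
theorem N8522 : nd 8522 = n9428 := ndS (p := 5830) (l := 2) rfl N5830 D9428
theorem N8523 : nd 8523 = n9429 := ndS (p := 5831) (l := 0) rfl N5831 D9429
theorem N8524 : nd 8524 = n9430 := ndS (p := 5835) (l := 4) rfl N5835 D9430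
theorem N8525 : nd 8525 = n9431 := ndS (p := 5836) (l := 0) rfl N5836 D9431
theorem N8526 : nd 8526 = n9432 := ndS (p := 5838) (l := 3) rfl N5838 D9432
theorem N8527 : nd 8527 = n9433 := ndS (p := 5839) (l := 3) rfl N5839 D9433
theorem N8528 : nd 8528 = n9434 := ndS (p := 5840) (l := 0) rfl N5840 D9434
theorem N8529 : nd 8529 = n9435 := ndS (p := 5841) (l := 2) rfl N5841 D9435
theorem N8530 : nd 8530 = n9436 := ndS (p := 5841) (l := 4) rfl N5841 D9436
theorem N8531 : nd 8531 = n9437 := ndS (p := 5843) (l := 4) rfl N5843 D9437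
theorem N8532 : nd 8532 = n9438 := ndS (p := 5844) (l := 0) rfl N5844 D9438
theorem N8533 : nd 8533 = n9439 := ndS (p := 5844) (l := 4) rfl N5844 D9439
theorem N8534 : nd 8534 = n9440 := ndS (p := 5845) (l := 3) rfl N5845 D9440
theorem N8535 : nd 8535 = n9441 := ndS (p := 5846) (l := 4) rfl N5846 D9441
theorem N8536 : nd 8536 = n9442 := ndS (p := 5848) (l := 0) rfl N5848 D9442
theorem N8537 : nd 8537 = n9443 := ndS (p := 5852) (l := 4) rfl N5852 D9443
theorem N8538 : nd 8538 = n9444 := ndS (p := 5854) (l := 3) rfl N5854 D9444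
theorem N8539 : nd 8539 = n9445 := ndS (p := 5854) (l := 4) rfl N5854 D9445
theorem N8540 : nd 8540 = n9446 := ndS (p := 5857) (l := 0) rfl N5857 D9446
theorem N8541 : nd 8541 = n9447 := ndS (p := 5857) (l := 4) rfl N5857 D9447
theorem N8542 : nd 8542 = n9448 := ndS (p := 5860) (l := 1) rfl N5860 D9448
theorem N8543 : nd 8543 = n9449 := ndS (p := 5861) (l := 1) rfl N5861 D9449
theorem N8544 : nd 8544 = n9450 := ndS (p := 5864) (l := 4) rfl N5864 D9450
theorem N8545 : nd 8545 = n9451 := ndS (p := 5869) (l := 0) rfl N5869 D9451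
theorem N8546 : nd 8546 = n9452 := ndS (p := 5871) (l := 0) rfl N5871 D9452
theorem N8547 : nd 8547 = n9453 := ndS (p := 5874) (l := 2) rfl N5874 D9453
theorem N8548 : nd 8548 = n9454 := ndS (p := 5874) (l := 4) rfl N5874 D9454
theorem N8549 : nd 8549 = n9455 := ndS (p := 5875) (l := 3) rfl N5875 D9455
theorem N8550 : nd 8550 = n9457 := ndS (p := 5877) (l := 2) rfl N5877 D9457
theorem N8551 : nd 8551 = n9459 := ndS (p := 5878) (l := 2) rfl N5878 D9459
theorem N8552 : nd 8552 = n9460 := ndS (p := 5879) (l := 0) rfl N5879 D9460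
theorem N8553 : nd 8553 = n9461 := ndS (p := 5879) (l := 1) rfl N5879 D9461
theorem N8554 : nd 8554 = n9462 := ndS (p := 5879) (l := 4) rfl N5879 D9462
theorem N8555 : nd 8555 = n9463 := ndS (p := 5880) (l := 4) rfl N5880 D9463
theorem N8556 : nd 8556 = n9464 := ndS (p := 5881) (l := 3) rfl N5881 D9464
theorem N8557 : nd 8557 = n9465 := ndS (p := 5881) (l := 4) rfl N5881 D9465
theorem N8558 : nd 8558 = n9466 := ndS (p := 5885) (l := 1) rfl N5885 D9466
theorem N8559 : nd 8559 = n9467 := ndS (p := 5885) (l := 2) rfl N5885 D9467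
theorem N8560 : nd 8560 = n9468 := ndS (p := 5885) (l := 3) rfl N5885 D9468
theorem N8561 : nd 8561 = n9469 := ndS (p := 5886) (l := 4) rfl N5886 D9469
theorem N8562 : nd 8562 = n9470 := ndS (p := 5887) (l := 4) rfl N5887 D9470
theorem N8563 : nd 8563 = n9471 := ndS (p := 5888) (l := 1) rfl N5888 D9471
theorem N8564 : nd 8564 = n9472 := ndS (p := 5888) (l := 3) rfl N5888 D9472
theorem N8565 : nd 8565 = n9473 := ndS (p := 5888) (l := 4) rfl N5888 D9473
theorem N8566 : nd 8566 = n9474 := ndS (p := 5891) (l := 4) rfl N5891 D9474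
theorem N8567 : nd 8567 = n9475 := ndS (p := 5893) (l := 4) rfl N5893 D9475
theorem N8568 : nd 8568 = n9476 := ndS (p := 5894) (l := 4) rfl N5894 D9476
theorem N8569 : nd 8569 = n9477 := ndS (p := 5899) (l := 4) rfl N5899 D9477
theorem N8570 : nd 8570 = n9478 := ndS (p := 5915) (l := 4) rfl N5915 D9478
theorem N8571 : nd 8571 = n9479 := ndS (p := 5916) (l := 2) rfl N5916 D9479
theorem N8572 : nd 8572 = n9480 := ndS (p := 5917) (l := 2) rfl N5917 D9480
theorem N8573 : nd 8573 = n9481 := ndS (p := 5918) (l := 0) rfl N5918 D9481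
theorem N8574 : nd 8574 = n9482 := ndS (p := 5918) (l := 1) rfl N5918 D9482
theorem N8575 : nd 8575 = n9483 := ndS (p := 5918) (l := 4) rfl N5918 D9483
theorem N8576 : nd 8576 = n9484 := ndS (p := 5921) (l := 4) rfl N5921 D9484
theorem N8577 : nd 8577 = n9485 := ndS (p := 5922) (l := 1) rfl N5922 D9485
theorem N8578 : nd 8578 = n9486 := ndS (p := 5922) (l := 3) rfl N5922 D9486
theorem N8579 : nd 8579 = n9487 := ndS (p := 5928) (l := 4) rfl N5928 D9487
theorem N8580 : nd 8580 = n9488 := ndS (p := 5933) (l := 2) rfl N5933 D9488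
theorem N8581 : nd 8581 = n9489 := ndS (p := 5934) (l := 3) rfl N5934 D9489
theorem N8582 : nd 8582 = n9490 := ndS (p := 5935) (l := 4) rfl N5935 D9490
theorem N8583 : nd 8583 = n9491 := ndS (p := 5942) (l := 1) rfl N5942 D9491
theorem N8584 : nd 8584 = n9492 := ndS (p := 5942) (l := 3) rfl N5942 D9492
theorem N8585 : nd 8585 = n9493 := ndS (p := 5942) (l := 4) rfl N5942 D9493
theorem N8586 : nd 8586 = n9494 := ndS (p := 5943) (l := 2) rfl N5943 D9494
theorem N8587 : nd 8587 = n9495 := ndS (p := 5946) (l := 0) rfl N5946 D9495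
theorem N8588 : nd 8588 = n9496 := ndS (p := 5946) (l := 3) rfl N5946 D9496
theorem N8589 : nd 8589 = n9497 := ndS (p := 5946) (l := 4) rfl N5946 D9497
theorem N8590 : nd 8590 = n9498 := ndS (p := 5948) (l := 1) rfl N5948 D9498
theorem N8591 : nd 8591 = n9499 := ndS (p := 5948) (l := 4) rfl N5948 D9499
theorem N8592 : nd 8592 = n9500 := ndS (p := 5951) (l := 2) rfl N5951 D9500
theorem N8593 : nd 8593 = n9501 := ndS (p := 5952) (l := 4) rfl N5952 D9501
theorem N8594 : nd 8594 = n9502 := ndS (p := 5953) (l := 2) rfl N5953 D9502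
theorem N8595 : nd 8595 = n9503 := ndS (p := 5955) (l := 2) rfl N5955 D9503
theorem N8596 : nd 8596 = n9504 := ndS (p := 5955) (l := 4) rfl N5955 D9504
theorem N8597 : nd 8597 = n9505 := ndS (p := 5958) (l := 4) rfl N5958 D9505
theorem N8598 : nd 8598 = n9506 := ndS (p := 5960) (l := 3) rfl N5960 D9506
theorem N8599 : nd 8599 = n9507 := ndS (p := 5960) (l := 4) rfl N5960 D9507
theorem N8600 : nd 8600 = n9508 := ndS (p := 5961) (l := 4) rfl N5961 D9508
theorem N8601 : nd 8601 = n9509 := ndS (p := 5962) (l := 3) rfl N5962 D9509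
theorem N8602 : nd 8602 = n9510 := ndS (p := 5965) (l := 4) rfl N5965 D9510
theorem N8603 : nd 8603 = n9511 := ndS (p := 5966) (l := 2) rfl N5966 D9511
theorem N8604 : nd 8604 = n9512 := ndS (p := 5968) (l := 2) rfl N5968 D9512
theorem N8605 : nd 8605 = n9513 := ndS (p := 5971) (l := 2) rfl N5971 D9513
theorem N8606 : nd 8606 = n9514 := ndS (p := 5971) (l := 4) rfl N5971 D9514
theorem N8607 : nd 8607 = n9515 := ndS (p := 5973) (l := 1) rfl N5973 D9515
theorem N8608 : nd 8608 = n9516 := ndS (p := 5974) (l := 4) rfl N5974 D9516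
theorem N8609 : nd 8609 = n9517 := ndS (p := 5975) (l := 4) rfl N5975 D9517
theorem N8610 : nd 8610 = n9518 := ndS (p := 5978) (l := 4) rfl N5978 D9518
theorem N8611 : nd 8611 = n9519 := ndS (p := 5985) (l := 2) rfl N5985 D9519
theorem N8612 : nd 8612 = n9520 := ndS (p := 5986) (l := 3) rfl N5986 D9520
theorem N8613 : nd 8613 = n9521 := ndS (p := 5987) (l := 0) rfl N5987 D9521
theorem N8614 : nd 8614 = n9522 := ndS (p := 5988) (l := 4) rfl N5988 D9522
theorem N8615 : nd 8615 = n9523 := ndS (p := 5989) (l := 2) rfl N5989 D9523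
theorem N8616 : nd 8616 = n9524 := ndS (p := 5990) (l := 1) rfl N5990 D9524
theorem N8617 : nd 8617 = n9525 := ndS (p := 5990) (l := 4) rfl N5990 D9525
theorem N8618 : nd 8618 = n9526 := ndS (p := 5993) (l := 4) rfl N5993 D9526
theorem N8619 : nd 8619 = n9527 := ndS (p := 5999) (l := 2) rfl N5999 D9527
theorem N8620 : nd 8620 = n9528 := ndS (p := 6002) (l := 4) rfl N6002 D9528
theorem N8621 : nd 8621 = n9529 := ndS (p := 6003) (l := 4) rfl N6003 D9529
theorem N8622 : nd 8622 = n9530 := ndS (p := 6005) (l := 2) rfl N6005 D9530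
theorem N8623 : nd 8623 = n9531 := ndS (p := 6007) (l := 1) rfl N6007 D9531
theorem N8624 : nd 8624 = n9532 := ndS (p := 6007) (l := 4) rfl N6007 D9532
theorem N8625 : nd 8625 = n9533 := ndS (p := 6008) (l := 2) rfl N6008 D9533
theorem N8626 : nd 8626 = n9534 := ndS (p := 6011) (l := 1) rfl N6011 D9534
theorem N8627 : nd 8627 = n9535 := ndS (p := 6012) (l := 2) rfl N6012 D9535
theorem N8628 : nd 8628 = n9536 := ndS (p := 6013) (l := 1) rfl N6013 D9536
theorem N8629 : nd 8629 = n9537 := ndS (p := 6013) (l := 4) rfl N6013 D9537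
theorem N8630 : nd 8630 = n9538 := ndS (p := 6014) (l := 2) rfl N6014 D9538
theorem N8631 : nd 8631 = n9539 := ndS (p := 6017) (l := 3) rfl N6017 D9539
theorem N8632 : nd 8632 = n9540 := ndS (p := 6021) (l := 1) rfl N6021 D9540
theorem N8633 : nd 8633 = n9541 := ndS (p := 6021) (l := 4) rfl N6021 D9541
theorem N8634 : nd 8634 = n9542 := ndS (p := 6022) (l := 2) rfl N6022 D9542
theorem N8635 : nd 8635 = n9543 := ndS (p := 6026) (l := 4) rfl N6026 D9543
theorem N8636 : nd 8636 = n9544 := ndS (p := 6031) (l := 2) rfl N6031 D9544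
theorem N8637 : nd 8637 = n9545 := ndS (p := 6031) (l := 3) rfl N6031 D9545
theorem N8638 : nd 8638 = n9546 := ndS (p := 6032) (l := 1) rfl N6032 D9546
theorem N8639 : nd 8639 = n9547 := ndS (p := 6032) (l := 3) rfl N6032 D9547
theorem N8640 : nd 8640 = n9548 := ndS (p := 6032) (l := 4) rfl N6032 D9548
theorem N8641 : nd 8641 = n9549 := ndS (p := 6033) (l := 4) rfl N6033 D9549
theorem N8642 : nd 8642 = n9550 := ndS (p := 6034) (l := 2) rfl N6034 D9550
theorem N8643 : nd 8643 = n9551 := ndS (p := 6035) (l := 1) rfl N6035 D9551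
theorem N8644 : nd 8644 = n9552 := ndS (p := 6035) (l := 3) rfl N6035 D9552
theorem N8645 : nd 8645 = n9553 := ndS (p := 6036) (l := 4) rfl N6036 D9553
theorem N8646 : nd 8646 = n9554 := ndS (p := 6037) (l := 4) rfl N6037 D9554
theorem N8647 : nd 8647 = n9555 := ndS (p := 6038) (l := 2) rfl N6038 D9555
theorem N8648 : nd 8648 = n9556 := ndS (p := 6038) (l := 3) rfl N6038 D9556
theorem N8649 : nd 8649 = n9557 := ndS (p := 6039) (l := 0) rfl N6039 D9557
theorem N8650 : nd 8650 = n9558 := ndS (p := 6039) (l := 1) rfl N6039 D9558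
theorem N8651 : nd 8651 = n9559 := ndS (p := 6039) (l := 3) rfl N6039 D9559
theorem N8652 : nd 8652 = n9560 := ndS (p := 6039) (l := 4) rfl N6039 D9560
theorem N8653 : nd 8653 = n9561 := ndS (p := 6041) (l := 2) rfl N6041 D9561
theorem N8654 : nd 8654 = n9562 := ndS (p := 6041) (l := 3) rfl N6041 D9562
theorem N8655 : nd 8655 = n9563 := ndS (p := 6042) (l := 0) rfl N6042 D9563
theorem N8656 : nd 8656 = n9564 := ndS (p := 6042) (l := 4) rfl N6042 D9564
theorem N8657 : nd 8657 = n9565 := ndS (p := 6044) (l := 2) rfl N6044 D9565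
theorem N8658 : nd 8658 = n9566 := ndS (p := 6044) (l := 4) rfl N6044 D9566
theorem N8659 : nd 8659 = n9567 := ndS (p := 6046) (l := 4) rfl N6046 D9567
theorem N8660 : nd 8660 = n9568 := ndS (p := 6047) (l := 3) rfl N6047 D9568
theorem N8661 : nd 8661 = n9569 := ndS (p := 6048) (l := 2) rfl N6048 D9569
theorem N8662 : nd 8662 = n9570 := ndS (p := 6049) (l := 1) rfl N6049 D9570
theorem N8663 : nd 8663 = n9571 := ndS (p := 6049) (l := 3) rfl N6049 D9571
theorem N8664 : nd 8664 = n9572 := ndS (p := 6049) (l := 4) rfl N6049 D9572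
theorem N8665 : nd 8665 = n9573 := ndS (p := 6050) (l := 4) rfl N6050 D9573
theorem N8666 : nd 8666 = n9574 := ndS (p := 6051) (l := 3) rfl N6051 D9574
theorem N8667 : nd 8667 = n9575 := ndS (p := 6052) (l := 2) rfl N6052 D9575
theorem N8668 : nd 8668 = n9576 := ndS (p := 6054) (l := 4) rfl N6054 D9576
theorem N8669 : nd 8669 = n9577 := ndS (p := 6055) (l := 3) rfl N6055 D9577
theorem N8670 : nd 8670 = n9578 := ndS (p := 6056) (l := 3) rfl N6056 D9578
theorem N8671 : nd 8671 = n9579 := ndS (p := 6059) (l := 3) rfl N6059 D9579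
theorem N8672 : nd 8672 = n9580 := ndS (p := 6062) (l := 1) rfl N6062 D9580
theorem N8673 : nd 8673 = n9581 := ndS (p := 6062) (l := 4) rfl N6062 D9581
theorem N8674 : nd 8674 = n9582 := ndS (p := 6063) (l := 2) rfl N6063 D9582
theorem N8675 : nd 8675 = n9583 := ndS (p := 6065) (l := 4) rfl N6065 D9583
theorem N8676 : nd 8676 = n9584 := ndS (p := 6067) (l := 4) rfl N6067 D9584
theorem N8677 : nd 8677 = n9585 := ndS (p := 6071) (l := 4) rfl N6071 D9585
theorem N8678 : nd 8678 = n9586 := ndS (p := 6072) (l := 2) rfl N6072 D9586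
theorem N8679 : nd 8679 = n9587 := ndS (p := 6073) (l := 4) rfl N6073 D9587
theorem N8680 : nd 8680 = n9588 := ndS (p := 6074) (l := 3) rfl N6074 D9588
theorem N8681 : nd 8681 = n9589 := ndS (p := 6075) (l := 2) rfl N6075 D9589
theorem N8682 : nd 8682 = n9590 := ndS (p := 6076) (l := 1) rfl N6076 D9590
theorem N8683 : nd 8683 = n9591 := ndS (p := 6076) (l := 3) rfl N6076 D9591
theorem N8684 : nd 8684 = n9592 := ndS (p := 6076) (l := 4) rfl N6076 D9592
theorem N8685 : nd 8685 = n9593 := ndS (p := 6077) (l := 4) rfl N6077 D9593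
theorem N8686 : nd 8686 = n9594 := ndS (p := 6078) (l := 1) rfl N6078 D9594
theorem N8687 : nd 8687 = n9595 := ndS (p := 6078) (l := 3) rfl N6078 D9595
theorem N8688 : nd 8688 = n9596 := ndS (p := 6078) (l := 4) rfl N6078 D9596
theorem N8689 : nd 8689 = n9597 := ndS (p := 6079) (l := 2) rfl N6079 D9597
theorem N8690 : nd 8690 = n9598 := ndS (p := 6082) (l := 3) rfl N6082 D9598
theorem N8691 : nd 8691 = n9599 := ndS (p := 6084) (l := 1) rfl N6084 D9599
theorem N8692 : nd 8692 = n9600 := ndS (p := 6084) (l := 3) rfl N6084 D9600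
theorem N8693 : nd 8693 = n9601 := ndS (p := 6084) (l := 4) rfl N6084 D9601
theorem N8694 : nd 8694 = n9602 := ndS (p := 6086) (l := 2) rfl N6086 D9602
theorem N8695 : nd 8695 = n9603 := ndS (p := 6086) (l := 4) rfl N6086 D9603
theorem N8696 : nd 8696 = n9604 := ndS (p := 6087) (l := 1) rfl N6087 D9604
theorem N8697 : nd 8697 = n9605 := ndS (p := 6087) (l := 4) rfl N6087 D9605
theorem N8698 : nd 8698 = n9606 := ndS (p := 6088) (l := 2) rfl N6088 D9606
theorem N8699 : nd 8699 = n9607 := ndS (p := 6090) (l := 1) rfl N6090 D9607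
theorem N8700 : nd 8700 = n9608 := ndS (p := 6092) (l := 4) rfl N6092 D9608
theorem N8701 : nd 8701 = n9609 := ndS (p := 6093) (l := 4) rfl N6093 D9609
theorem N8702 : nd 8702 = n9610 := ndS (p := 6095) (l := 4) rfl N6095 D9610
theorem N8703 : nd 8703 = n9611 := ndS (p := 6098) (l := 2) rfl N6098 D9611
theorem N8704 : nd 8704 = n9612 := ndS (p := 6098) (l := 4) rfl N6098 D9612
theorem N8705 : nd 8705 = n9613 := ndS (p := 6099) (l := 4) rfl N6099 D9613
theorem N8706 : nd 8706 = n9614 := ndS (p := 6100) (l := 3) rfl N6100 D9614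
theorem N8707 : nd 8707 = n9615 := ndS (p := 6104) (l := 2) rfl N6104 D9615
theorem N8708 : nd 8708 = n9616 := ndS (p := 6104) (l := 4) rfl N6104 D9616
theorem N8709 : nd 8709 = n9617 := ndS (p := 6108) (l := 1) rfl N6108 D9617
theorem N8710 : nd 8710 = n9618 := ndS (p := 6109) (l := 2) rfl N6109 D9618
theorem N8711 : nd 8711 = n9619 := ndS (p := 6110) (l := 2) rfl N6110 D9619
theorem N8712 : nd 8712 = n9620 := ndS (p := 6115) (l := 2) rfl N6115 D9620
theorem N8713 : nd 8713 = n9621 := ndS (p := 6115) (l := 4) rfl N6115 D9621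
theorem N8714 : nd 8714 = n9622 := ndS (p := 6116) (l := 3) rfl N6116 D9622
theorem N8715 : nd 8715 = n9623 := ndS (p := 6117) (l := 0) rfl N6117 D9623
theorem N8716 : nd 8716 = n9624 := ndS (p := 6117) (l := 4) rfl N6117 D9624
theorem N8717 : nd 8717 = n9625 := ndS (p := 6118) (l := 2) rfl N6118 D9625
theorem N8718 : nd 8718 = n9626 := ndS (p := 6118) (l := 3) rfl N6118 D9626
theorem N8719 : nd 8719 = n9627 := ndS (p := 6119) (l := 2) rfl N6119 D9627
theorem N8720 : nd 8720 = n9628 := ndS (p := 6119) (l := 4) rfl N6119 D9628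
theorem N8721 : nd 8721 = n9629 := ndS (p := 6120) (l := 2) rfl N6120 D9629
theorem N8722 : nd 8722 = n9630 := ndS (p := 6121) (l := 0) rfl N6121 D9630
theorem N8723 : nd 8723 = n9631 := ndS (p := 6121) (l := 1) rfl N6121 D9631
theorem N8724 : nd 8724 = n9632 := ndS (p := 6121) (l := 3) rfl N6121 D9632
theorem N8725 : nd 8725 = n9633 := ndS (p := 6121) (l := 4) rfl N6121 D9633
theorem N8726 : nd 8726 = n9634 := ndS (p := 6122) (l := 0) rfl N6122 D9634
theorem N8727 : nd 8727 = n9635 := ndS (p := 6123) (l := 2) rfl N6123 D9635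
theorem N8728 : nd 8728 = n9636 := ndS (p := 6123) (l := 3) rfl N6123 D9636
theorem N8729 : nd 8729 = n9637 := ndS (p := 6123) (l := 4) rfl N6123 D9637
theorem N8730 : nd 8730 = n9638 := ndS (p := 6124) (l := 3) rfl N6124 D9638
theorem N8731 : nd 8731 = n9639 := ndS (p := 6124) (l := 4) rfl N6124 D9639
theorem N8732 : nd 8732 = n9640 := ndS (p := 6125) (l := 4) rfl N6125 D9640
theorem N8733 : nd 8733 = n9641 := ndS (p := 6126) (l := 3) rfl N6126 D9641
theorem N8734 : nd 8734 = n9642 := ndS (p := 6128) (l := 1) rfl N6128 D9642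
theorem N8735 : nd 8735 = n9643 := ndS (p := 6128) (l := 3) rfl N6128 D9643
theorem N8736 : nd 8736 = n9644 := ndS (p := 6133) (l := 3) rfl N6133 D9644
theorem N8737 : nd 8737 = n9645 := ndS (p := 6133) (l := 4) rfl N6133 D9645
theorem N8738 : nd 8738 = n9646 := ndS (p := 6134) (l := 4) rfl N6134 D9646
theorem N8739 : nd 8739 = n9647 := ndS (p := 6136) (l := 4) rfl N6136 D9647
theorem N8740 : nd 8740 = n9648 := ndS (p := 6137) (l := 3) rfl N6137 D9648
theorem N8741 : nd 8741 = n9649 := ndS (p := 6138) (l := 2) rfl N6138 D9649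
theorem N8742 : nd 8742 = n9650 := ndS (p := 6138) (l := 3) rfl N6138 D9650
theorem N8743 : nd 8743 = n9651 := ndS (p := 6138) (l := 4) rfl N6138 D9651
theorem N8744 : nd 8744 = n9652 := ndS (p := 6139) (l := 2) rfl N6139 D9652
theorem N8745 : nd 8745 = n9653 := ndS (p := 6140) (l := 1) rfl N6140 D9653
theorem N8746 : nd 8746 = n9654 := ndS (p := 6140) (l := 3) rfl N6140 D9654
theorem N8747 : nd 8747 = n9655 := ndS (p := 6141) (l := 0) rfl N6141 D9655
theorem N8748 : nd 8748 = n9656 := ndS (p := 6142) (l := 3) rfl N6142 D9656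
theorem N8749 : nd 8749 = n9657 := ndS (p := 6142) (l := 4) rfl N6142 D9657
theorem N8750 : nd 8750 = n9658 := ndS (p := 6144) (l := 2) rfl N6144 D9658
theorem N8751 : nd 8751 = n9659 := ndS (p := 6145) (l := 0) rfl N6145 D9659
theorem N8752 : nd 8752 = n9660 := ndS (p := 6145) (l := 1) rfl N6145 D9660
theorem N8753 : nd 8753 = n9661 := ndS (p := 6145) (l := 4) rfl N6145 D9661
theorem N8754 : nd 8754 = n9662 := ndS (p := 6146) (l := 4) rfl N6146 D9662
theorem N8755 : nd 8755 = n9663 := ndS (p := 6147) (l := 0) rfl N6147 D9663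
theorem N8756 : nd 8756 = n9664 := ndS (p := 6147) (l := 3) rfl N6147 D9664
theorem N8757 : nd 8757 = n9665 := ndS (p := 6147) (l := 4) rfl N6147 D9665
theorem N8758 : nd 8758 = n9666 := ndS (p := 6148) (l := 0) rfl N6148 D9666
theorem N8759 : nd 8759 = n9667 := ndS (p := 6148) (l := 4) rfl N6148 D9667
theorem N8760 : nd 8760 = n9669 := ndS (p := 6150) (l := 2) rfl N6150 D9669
theorem N8761 : nd 8761 = n9670 := ndS (p := 6152) (l := 4) rfl N6152 D9670
theorem N8762 : nd 8762 = n9671 := ndS (p := 6153) (l := 3) rfl N6153 D9671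
theorem N8763 : nd 8763 = n9672 := ndS (p := 6155) (l := 0) rfl N6155 D9672
theorem N8764 : nd 8764 = n9673 := ndS (p := 6156) (l := 2) rfl N6156 D9673
theorem N8765 : nd 8765 = n9674 := ndS (p := 6156) (l := 3) rfl N6156 D9674
theorem N8766 : nd 8766 = n9675 := ndS (p := 6156) (l := 4) rfl N6156 D9675
theorem N8767 : nd 8767 = n9676 := ndS (p := 6157) (l := 3) rfl N6157 D9676
theorem N8768 : nd 8768 = n9677 := ndS (p := 6157) (l := 4) rfl N6157 D9677
theorem N8769 : nd 8769 = n9678 := ndS (p := 6160) (l := 0) rfl N6160 D9678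
theorem N8770 : nd 8770 = n9679 := ndS (p := 6164) (l := 2) rfl N6164 D9679
theorem N8771 : nd 8771 = n9680 := ndS (p := 6164) (l := 3) rfl N6164 D9680
theorem N8772 : nd 8772 = n9681 := ndS (p := 6167) (l := 0) rfl N6167 D9681
theorem N8773 : nd 8773 = n9682 := ndS (p := 6167) (l := 1) rfl N6167 D9682
theorem N8774 : nd 8774 = n9683 := ndS (p := 6167) (l := 4) rfl N6167 D9683
theorem N8775 : nd 8775 = n9684 := ndS (p := 6168) (l := 1) rfl N6168 D9684
theorem N8776 : nd 8776 = n9685 := ndS (p := 6168) (l := 3) rfl N6168 D9685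
theorem N8777 : nd 8777 = n9686 := ndS (p := 6169) (l := 4) rfl N6169 D9686
theorem N8778 : nd 8778 = n9687 := ndS (p := 6173) (l := 4) rfl N6173 D9687
theorem N8779 : nd 8779 = n9688 := ndS (p := 6174) (l := 1) rfl N6174 D9688
theorem N8780 : nd 8780 = n9689 := ndS (p := 6174) (l := 3) rfl N6174 D9689
theorem N8781 : nd 8781 = n9690 := ndS (p := 6174) (l := 4) rfl N6174 D9690
theorem N8782 : nd 8782 = n9691 := ndS (p := 6175) (l := 4) rfl N6175 D9691
theorem N8783 : nd 8783 = n9692 := ndS (p := 6176) (l := 2) rfl N6176 D9692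
theorem N8784 : nd 8784 = n9693 := ndS (p := 6176) (l := 3) rfl N6176 D9693
theorem N8785 : nd 8785 = n9694 := ndS (p := 6177) (l := 1) rfl N6177 D9694
theorem N8786 : nd 8786 = n9695 := ndS (p := 6177) (l := 4) rfl N6177 D9695
theorem N8787 : nd 8787 = n9696 := ndS (p := 6178) (l := 3) rfl N6178 D9696
theorem N8788 : nd 8788 = n9697 := ndS (p := 6178) (l := 4) rfl N6178 D9697
theorem N8789 : nd 8789 = n9698 := ndS (p := 6179) (l := 0) rfl N6179 D9698
theorem N8790 : nd 8790 = n9699 := ndS (p := 6179) (l := 3) rfl N6179 D9699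
theorem N8791 : nd 8791 = n9700 := ndS (p := 6179) (l := 4) rfl N6179 D9700
theorem N8792 : nd 8792 = n9701 := ndS (p := 6180) (l := 4) rfl N6180 D9701
theorem N8793 : nd 8793 = n9703 := ndS (p := 6182) (l := 2) rfl N6182 D9703
theorem N8794 : nd 8794 = n9704 := ndS (p := 6187) (l := 0) rfl N6187 D9704
theorem N8795 : nd 8795 = n9705 := ndS (p := 6192) (l := 4) rfl N6192 D9705
theorem N8796 : nd 8796 = n9706 := ndS (p := 6193) (l := 4) rfl N6193 D9706
theorem N8797 : nd 8797 = n9707 := ndS (p := 6194) (l := 4) rfl N6194 D9707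
theorem N8798 : nd 8798 = n9709 := ndS (p := 6195) (l := 3) rfl N6195 D9709
theorem N8799 : nd 8799 = n9710 := ndS (p := 6196) (l := 0) rfl N6196 D9710
theorem N8800 : nd 8800 = n9711 := ndS (p := 6196) (l := 4) rfl N6196 D9711
theorem N8801 : nd 8801 = n9712 := ndS (p := 6197) (l := 0) rfl N6197 D9712
theorem N8802 : nd 8802 = n9713 := ndS (p := 6197) (l := 4) rfl N6197 D9713
theorem N8803 : nd 8803 = n9714 := ndS (p := 6199) (l := 1) rfl N6199 D9714
theorem N8804 : nd 8804 = n9716 := ndS (p := 6205) (l := 2) rfl N6205 D9716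
theorem N8805 : nd 8805 = n9717 := ndS (p := 6206) (l := 0) rfl N6206 D9717
theorem N8806 : nd 8806 = n9718 := ndS (p := 6206) (l := 1) rfl N6206 D9718
theorem N8807 : nd 8807 = n9719 := ndS (p := 6206) (l := 3) rfl N6206 D9719
theorem N8808 : nd 8808 = n9720 := ndS (p := 6206) (l := 4) rfl N6206 D9720
theorem N8809 : nd 8809 = n9721 := ndS (p := 6208) (l := 1) rfl N6208 D9721
theorem N8810 : nd 8810 = n9722 := ndS (p := 6208) (l := 3) rfl N6208 D9722
theorem N8811 : nd 8811 = n9723 := ndS (p := 6208) (l := 4) rfl N6208 D9723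
theorem N8812 : nd 8812 = n9724 := ndS (p := 6211) (l := 4) rfl N6211 D9724
theorem N8813 : nd 8813 = n9725 := ndS (p := 6212) (l := 4) rfl N6212 D9725
theorem N8814 : nd 8814 = n9726 := ndS (p := 6213) (l := 3) rfl N6213 D9726
theorem N8815 : nd 8815 = n9727 := ndS (p := 6216) (l := 1) rfl N6216 D9727
theorem N8816 : nd 8816 = n9728 := ndS (p := 6216) (l := 2) rfl N6216 D9728
theorem N8817 : nd 8817 = n9729 := ndS (p := 6216) (l := 3) rfl N6216 D9729
theorem N8818 : nd 8818 = n9730 := ndS (p := 6216) (l := 4) rfl N6216 D9730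
theorem N8819 : nd 8819 = n9731 := ndS (p := 6219) (l := 1) rfl N6219 D9731
theorem N8820 : nd 8820 = n9732 := ndS (p := 6219) (l := 4) rfl N6219 D9732
theorem N8821 : nd 8821 = n9733 := ndS (p := 6223) (l := 4) rfl N6223 D9733
theorem N8822 : nd 8822 = n9734 := ndS (p := 6225) (l := 4) rfl N6225 D9734
theorem N8823 : nd 8823 = n9735 := ndS (p := 6229) (l := 0) rfl N6229 D9735
theorem N8824 : nd 8824 = n9736 := ndS (p := 6232) (l := 0) rfl N6232 D9736
theorem N8825 : nd 8825 = n9737 := ndS (p := 6235) (l := 0) rfl N6235 D9737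
theorem N8826 : nd 8826 = n9738 := ndS (p := 6235) (l := 1) rfl N6235 D9738
theorem N8827 : nd 8827 = n9739 := ndS (p := 6236) (l := 0) rfl N6236 D9739
theorem N8828 : nd 8828 = n9740 := ndS (p := 6236) (l := 2) rfl N6236 D9740
theorem N8829 : nd 8829 = n9741 := ndS (p := 6236) (l := 3) rfl N6236 D9741
theorem N8830 : nd 8830 = n9742 := ndS (p := 6237) (l := 0) rfl N6237 D9742
theorem N8831 : nd 8831 = n9743 := ndS (p := 6243) (l := 0) rfl N6243 D9743
theorem N8832 : nd 8832 = n9744 := ndS (p := 6243) (l := 4) rfl N6243 D9744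
theorem N8833 : nd 8833 = n9745 := ndS (p := 6246) (l := 3) rfl N6246 D9745
theorem N8834 : nd 8834 = n9746 := ndS (p := 6247) (l := 1) rfl N6247 D9746
theorem N8835 : nd 8835 = n9747 := ndS (p := 6249) (l := 0) rfl N6249 D9747
theorem N8836 : nd 8836 = n9748 := ndS (p := 6249) (l := 4) rfl N6249 D9748
theorem N8837 : nd 8837 = n9749 := ndS (p := 6254) (l := 4) rfl N6254 D9749
theorem N8838 : nd 8838 = n9750 := ndS (p := 6255) (l := 2) rfl N6255 D9750
theorem N8839 : nd 8839 = n9751 := ndS (p := 6255) (l := 3) rfl N6255 D9751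
theorem N8840 : nd 8840 = n9752 := ndS (p := 6256) (l := 0) rfl N6256 D9752
theorem N8841 : nd 8841 = n9753 := ndS (p := 6257) (l := 2) rfl N6257 D9753
theorem N8842 : nd 8842 = n9754 := ndS (p := 6258) (l := 3) rfl N6258 D9754
theorem N8843 : nd 8843 = n9755 := ndS (p := 6270) (l := 1) rfl N6270 D9755
theorem N8844 : nd 8844 = n9756 := ndS (p := 6278) (l := 1) rfl N6278 D9756
theorem N8845 : nd 8845 = n9757 := ndS (p := 6279) (l := 0) rfl N6279 D9757
theorem N8846 : nd 8846 = n9758 := ndS (p := 6279) (l := 2) rfl N6279 D9758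
theorem N8847 : nd 8847 = n9759 := ndS (p := 6279) (l := 4) rfl N6279 D9759
theorem N8848 : nd 8848 = n9760 := ndS (p := 6285) (l := 2) rfl N6285 D9760
theorem N8849 : nd 8849 = n9761 := ndS (p := 6286) (l := 2) rfl N6286 D9761
theorem N8850 : nd 8850 = n9762 := ndS (p := 6287) (l := 0) rfl N6287 D9762
theorem N8851 : nd 8851 = n9763 := ndS (p := 6287) (l := 1) rfl N6287 D9763
theorem N8852 : nd 8852 = n9764 := ndS (p := 6287) (l := 4) rfl N6287 D9764
theorem N8853 : nd 8853 = n9765 := ndS (p := 6288) (l := 3) rfl N6288 D9765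
theorem N8854 : nd 8854 = n9766 := ndS (p := 6288) (l := 4) rfl N6288 D9766
theorem N8855 : nd 8855 = n9767 := ndS (p := 6289) (l := 3) rfl N6289 D9767
theorem N8856 : nd 8856 = n9768 := ndS (p := 6289) (l := 4) rfl N6289 D9768
theorem N8857 : nd 8857 = n9769 := ndS (p := 6293) (l := 4) rfl N6293 D9769
theorem N8858 : nd 8858 = n9770 := ndS (p := 6294) (l := 4) rfl N6294 D9770
theorem N8859 : nd 8859 = n9771 := ndS (p := 6301) (l := 1) rfl N6301 D9771
theorem N8860 : nd 8860 = n9772 := ndS (p := 6301) (l := 3) rfl N6301 D9772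
theorem N8861 : nd 8861 = n9773 := ndS (p := 6301) (l := 4) rfl N6301 D9773
theorem N8862 : nd 8862 = n9774 := ndS (p := 6302) (l := 4) rfl N6302 D9774
theorem N8863 : nd 8863 = n9775 := ndS (p := 6303) (l := 3) rfl N6303 D9775
theorem N8864 : nd 8864 = n9776 := ndS (p := 6304) (l := 0) rfl N6304 D9776
theorem N8865 : nd 8865 = n9777 := ndS (p := 6304) (l := 4) rfl N6304 D9777
theorem N8866 : nd 8866 = n9778 := ndS (p := 6305) (l := 0) rfl N6305 D9778
theorem N8867 : nd 8867 = n9779 := ndS (p := 6305) (l := 4) rfl N6305 D9779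
theorem N8868 : nd 8868 = n9780 := ndS (p := 6309) (l := 0) rfl N6309 D9780
theorem N8869 : nd 8869 = n9781 := ndS (p := 6309) (l := 2) rfl N6309 D9781
theorem N8870 : nd 8870 = n9782 := ndS (p := 6309) (l := 3) rfl N6309 D9782
theorem N8871 : nd 8871 = n9783 := ndS (p := 6309) (l := 4) rfl N6309 D9783
theorem N8872 : nd 8872 = n9784 := ndS (p := 6310) (l := 4) rfl N6310 D9784
theorem N8873 : nd 8873 = n9785 := ndS (p := 6311) (l := 3) rfl N6311 D9785
theorem N8874 : nd 8874 = n9786 := ndS (p := 6312) (l := 2) rfl N6312 D9786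
theorem N8875 : nd 8875 = n9787 := ndS (p := 6313) (l := 1) rfl N6313 D9787
theorem N8876 : nd 8876 = n9788 := ndS (p := 6313) (l := 3) rfl N6313 D9788
theorem N8877 : nd 8877 = n9789 := ndS (p := 6313) (l := 4) rfl N6313 D9789
theorem N8878 : nd 8878 = n9790 := ndS (p := 6315) (l := 1) rfl N6315 D9790
theorem N8879 : nd 8879 = n9791 := ndS (p := 6315) (l := 3) rfl N6315 D9791
theorem N8880 : nd 8880 = n9792 := ndS (p := 6315) (l := 4) rfl N6315 D9792
theorem N8881 : nd 8881 = n9793 := ndS (p := 6316) (l := 0) rfl N6316 D9793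
theorem N8882 : nd 8882 = n9794 := ndS (p := 6316) (l := 4) rfl N6316 D9794
theorem N8883 : nd 8883 = n9795 := ndS (p := 6319) (l := 3) rfl N6319 D9795
theorem N8884 : nd 8884 = n9796 := ndS (p := 6320) (l := 0) rfl N6320 D9796
theorem N8885 : nd 8885 = n9797 := ndS (p := 6320) (l := 4) rfl N6320 D9797
theorem N8886 : nd 8886 = n9798 := ndS (p := 6322) (l := 1) rfl N6322 D9798
theorem N8887 : nd 8887 = n9799 := ndS (p := 6322) (l := 2) rfl N6322 D9799
theorem N8888 : nd 8888 = n9800 := ndS (p := 6322) (l := 3) rfl N6322 D9800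
theorem N8889 : nd 8889 = n9801 := ndS (p := 6322) (l := 4) rfl N6322 D9801
theorem N8890 : nd 8890 = n9802 := ndS (p := 6325) (l := 1) rfl N6325 D9802
theorem N8891 : nd 8891 = n9803 := ndS (p := 6325) (l := 4) rfl N6325 D9803
theorem N8892 : nd 8892 = n9804 := ndS (p := 6326) (l := 1) rfl N6326 D9804
theorem N8893 : nd 8893 = n9805 := ndS (p := 6326) (l := 4) rfl N6326 D9805
theorem N8894 : nd 8894 = n9806 := ndS (p := 6328) (l := 0) rfl N6328 D9806
theorem N8895 : nd 8895 = n9807 := ndS (p := 6331) (l := 1) rfl N6331 D9807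
theorem N8896 : nd 8896 = n9808 := ndS (p := 6332) (l := 4) rfl N6332 D9808
theorem N8897 : nd 8897 = n9809 := ndS (p := 6335) (l := 4) rfl N6335 D9809
theorem N8898 : nd 8898 = n9810 := ndS (p := 6336) (l := 3) rfl N6336 D9810
theorem N8899 : nd 8899 = n9811 := ndS (p := 6340) (l := 1) rfl N6340 D9811
theorem N8900 : nd 8900 = n9812 := ndS (p := 6340) (l := 3) rfl N6340 D9812
theorem N8901 : nd 8901 = n9813 := ndS (p := 6340) (l := 4) rfl N6340 D9813
theorem N8902 : nd 8902 = n9814 := ndS (p := 6343) (l := 1) rfl N6343 D9814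
theorem N8903 : nd 8903 = n9815 := ndS (p := 6343) (l := 3) rfl N6343 D9815
theorem N8904 : nd 8904 = n9816 := ndS (p := 6343) (l := 4) rfl N6343 D9816
theorem N8905 : nd 8905 = n9817 := ndS (p := 6345) (l := 0) rfl N6345 D9817
theorem N8906 : nd 8906 = n9818 := ndS (p := 6350) (l := 1) rfl N6350 D9818
theorem N8907 : nd 8907 = n9819 := ndS (p := 6350) (l := 4) rfl N6350 D9819
theorem N8908 : nd 8908 = n9820 := ndS (p := 6352) (l := 0) rfl N6352 D9820
theorem N8909 : nd 8909 = n9821 := ndS (p := 6352) (l := 2) rfl N6352 D9821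
theorem N8910 : nd 8910 = n9822 := ndS (p := 6352) (l := 3) rfl N6352 D9822
theorem N8911 : nd 8911 = n9823 := ndS (p := 6352) (l := 4) rfl N6352 D9823
theorem N8912 : nd 8912 = n9824 := ndS (p := 6353) (l := 4) rfl N6353 D9824
theorem N8913 : nd 8913 = n9825 := ndS (p := 6355) (l := 0) rfl N6355 D9825
theorem N8914 : nd 8914 = n9826 := ndS (p := 6356) (l := 4) rfl N6356 D9826
theorem N8915 : nd 8915 = n9827 := ndS (p := 6357) (l := 3) rfl N6357 D9827
theorem N8916 : nd 8916 = n9828 := ndS (p := 6363) (l := 0) rfl N6363 D9828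
theorem N8917 : nd 8917 = n9829 := ndS (p := 6363) (l := 2) rfl N6363 D9829
theorem N8918 : nd 8918 = n9830 := ndS (p := 6363) (l := 4) rfl N6363 D9830
theorem N8919 : nd 8919 = n9831 := ndS (p := 6366) (l := 2) rfl N6366 D9831
theorem N8920 : nd 8920 = n9832 := ndS (p := 6370) (l := 3) rfl N6370 D9832
theorem N8921 : nd 8921 = n9833 := ndS (p := 6374) (l := 1) rfl N6374 D9833
theorem N8922 : nd 8922 = n9834 := ndS (p := 6375) (l := 0) rfl N6375 D9834
theorem N8923 : nd 8923 = n9835 := ndS (p := 6375) (l := 2) rfl N6375 D9835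
theorem N8924 : nd 8924 = n9836 := ndS (p := 6376) (l := 3) rfl N6376 D9836
theorem N8925 : nd 8925 = n9837 := ndS (p := 6377) (l := 3) rfl N6377 D9837
theorem N8926 : nd 8926 = n9838 := ndS (p := 6378) (l := 0) rfl N6378 D9838
theorem N8927 : nd 8927 = n9839 := ndS (p := 6378) (l := 4) rfl N6378 D9839
theorem N8928 : nd 8928 = n9840 := ndS (p := 6379) (l := 1) rfl N6379 D9840
theorem N8929 : nd 8929 = n9841 := ndS (p := 6379) (l := 4) rfl N6379 D9841
theorem N8930 : nd 8930 = n9842 := ndS (p := 6383) (l := 2) rfl N6383 D9842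
theorem N8931 : nd 8931 = n9843 := ndS (p := 6383) (l := 3) rfl N6383 D9843
theorem N8932 : nd 8932 = n9844 := ndS (p := 6383) (l := 4) rfl N6383 D9844
theorem N8933 : nd 8933 = n9845 := ndS (p := 6385) (l := 0) rfl N6385 D9845
theorem N8934 : nd 8934 = n9846 := ndS (p := 6388) (l := 1) rfl N6388 D9846
theorem N8935 : nd 8935 = n9847 := ndS (p := 6388) (l := 3) rfl N6388 D9847
theorem N8936 : nd 8936 = n9848 := ndS (p := 6389) (l := 0) rfl N6389 D9848
theorem N8937 : nd 8937 = n9849 := ndS (p := 6393) (l := 0) rfl N6393 D9849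
theorem N8938 : nd 8938 = n9850 := ndS (p := 6394) (l := 1) rfl N6394 D9850
theorem N8939 : nd 8939 = n9851 := ndS (p := 6394) (l := 3) rfl N6394 D9851
theorem N8940 : nd 8940 = n9852 := ndS (p := 6400) (l := 0) rfl N6400 D9852
theorem N8941 : nd 8941 = n9853 := ndS (p := 6403) (l := 2) rfl N6403 D9853
theorem N8942 : nd 8942 = n9854 := ndS (p := 6404) (l := 2) rfl N6404 D9854
theorem N8943 : nd 8943 = n9855 := ndS (p := 6405) (l := 0) rfl N6405 D9855
theorem N8944 : nd 8944 = n9856 := ndS (p := 6407) (l := 2) rfl N6407 D9856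
theorem N8945 : nd 8945 = n9857 := ndS (p := 6409) (l := 0) rfl N6409 D9857
theorem N8946 : nd 8946 = n9858 := ndS (p := 6410) (l := 0) rfl N6410 D9858
theorem N8947 : nd 8947 = n9859 := ndS (p := 6410) (l := 1) rfl N6410 D9859
theorem N8948 : nd 8948 = n9860 := ndS (p := 6411) (l := 4) rfl N6411 D9860
theorem N8949 : nd 8949 = n9861 := ndS (p := 6412) (l := 0) rfl N6412 D9861
theorem N8950 : nd 8950 = n9862 := ndS (p := 6414) (l := 0) rfl N6414 D9862
theorem N8951 : nd 8951 = n9863 := ndS (p := 6415) (l := 0) rfl N6415 D9863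
theorem N8952 : nd 8952 = n9864 := ndS (p := 6415) (l := 2) rfl N6415 D9864
theorem N8953 : nd 8953 = n9865 := ndS (p := 6419) (l := 0) rfl N6419 D9865
theorem N8954 : nd 8954 = n9866 := ndS (p := 6424) (l := 1) rfl N6424 D9866
theorem N8955 : nd 8955 = n9867 := ndS (p := 6424) (l := 2) rfl N6424 D9867
theorem N8956 : nd 8956 = n9868 := ndS (p := 6424) (l := 4) rfl N6424 D9868
theorem N8957 : nd 8957 = n9869 := ndS (p := 6428) (l := 0) rfl N6428 D9869
theorem N8958 : nd 8958 = n9870 := ndS (p := 6431) (l := 4) rfl N6431 D9870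
theorem N8959 : nd 8959 = n9871 := ndS (p := 6433) (l := 4) rfl N6433 D9871
theorem N8960 : nd 8960 = n9872 := ndS (p := 6434) (l := 1) rfl N6434 D9872
theorem N8961 : nd 8961 = n9873 := ndS (p := 6435) (l := 4) rfl N6435 D9873
theorem N8962 : nd 8962 = n9874 := ndS (p := 6436) (l := 0) rfl N6436 D9874
theorem N8963 : nd 8963 = n9875 := ndS (p := 6436) (l := 2) rfl N6436 D9875
theorem N8964 : nd 8964 = n9876 := ndS (p := 6436) (l := 4) rfl N6436 D9876
theorem N8965 : nd 8965 = n9878 := ndS (p := 6446) (l := 0) rfl N6446 D9878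
theorem N8966 : nd 8966 = n9879 := ndS (p := 6446) (l := 4) rfl N6446 D9879
theorem N8967 : nd 8967 = n9880 := ndS (p := 6451) (l := 2) rfl N6451 D9880
theorem N8968 : nd 8968 = n9881 := ndS (p := 6454) (l := 2) rfl N6454 D9881
theorem N8969 : nd 8969 = n9882 := ndS (p := 6464) (l := 2) rfl N6464 D9882
theorem N8970 : nd 8970 = n9883 := ndS (p := 6466) (l := 1) rfl N6466 D9883
theorem N8971 : nd 8971 = n9884 := ndS (p := 6466) (l := 4) rfl N6466 D9884
theorem N8972 : nd 8972 = n9885 := ndS (p := 6468) (l := 4) rfl N6468 D9885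
theorem N8973 : nd 8973 = n9886 := ndS (p := 6469) (l := 4) rfl N6469 D9886
theorem N8974 : nd 8974 = n9888 := ndS (p := 6481) (l := 3) rfl N6481 D9888
theorem N8975 : nd 8975 = n9889 := ndS (p := 6482) (l := 4) rfl N6482 D9889
theorem N8976 : nd 8976 = n9890 := ndS (p := 6483) (l := 4) rfl N6483 D9890
theorem N8977 : nd 8977 = n9891 := ndS (p := 6485) (l := 0) rfl N6485 D9891
theorem N8978 : nd 8978 = n9892 := ndS (p := 6485) (l := 3) rfl N6485 D9892
theorem N8979 : nd 8979 = n9893 := ndS (p := 6486) (l := 4) rfl N6486 D9893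
theorem N8980 : nd 8980 = n9894 := ndS (p := 6489) (l := 0) rfl N6489 D9894
theorem N8981 : nd 8981 = n9895 := ndS (p := 6489) (l := 4) rfl N6489 D9895
theorem N8982 : nd 8982 = n9896 := ndS (p := 6492) (l := 2) rfl N6492 D9896
theorem N8983 : nd 8983 = n9897 := ndS (p := 6493) (l := 1) rfl N6493 D9897
theorem N8984 : nd 8984 = n9898 := ndS (p := 6493) (l := 4) rfl N6493 D9898
theorem N8985 : nd 8985 = n9899 := ndS (p := 6494) (l := 3) rfl N6494 D9899
theorem N8986 : nd 8986 = n9900 := ndS (p := 6495) (l := 3) rfl N6495 D9900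
theorem N8987 : nd 8987 = n9901 := ndS (p := 6495) (l := 4) rfl N6495 D9901
theorem N8988 : nd 8988 = n9902 := ndS (p := 6496) (l := 4) rfl N6496 D9902
theorem N8989 : nd 8989 = n9903 := ndS (p := 6497) (l := 4) rfl N6497 D9903
theorem N8990 : nd 8990 = n9904 := ndS (p := 6499) (l := 4) rfl N6499 D9904
theorem N8991 : nd 8991 = n9905 := ndS (p := 6501) (l := 4) rfl N6501 D9905
theorem N8992 : nd 8992 = n9906 := ndS (p := 6502) (l := 4) rfl N6502 D9906
theorem N8993 : nd 8993 = n9907 := ndS (p := 6505) (l := 4) rfl N6505 D9907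
theorem N8994 : nd 8994 = n9908 := ndS (p := 6509) (l := 1) rfl N6509 D9908
theorem N8995 : nd 8995 = n9909 := ndS (p := 6509) (l := 3) rfl N6509 D9909
theorem N8996 : nd 8996 = n9910 := ndS (p := 6509) (l := 4) rfl N6509 D9910
theorem N8997 : nd 8997 = n9911 := ndS (p := 6510) (l := 0) rfl N6510 D9911
theorem N8998 : nd 8998 = n9912 := ndS (p := 6510) (l := 3) rfl N6510 D9912
theorem N8999 : nd 8999 = n9913 := ndS (p := 6511) (l := 4) rfl N6511 D9913
theorem N9000 : nd 9000 = n9914 := ndS (p := 6514) (l := 3) rfl N6514 D9914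
theorem N9001 : nd 9001 = n9915 := ndS (p := 6515) (l := 0) rfl N6515 D9915
theorem N9002 : nd 9002 = n9916 := ndS (p := 6516) (l := 1) rfl N6516 D9916
theorem N9003 : nd 9003 = n9917 := ndS (p := 6516) (l := 4) rfl N6516 D9917
theorem N9004 : nd 9004 = n9918 := ndS (p := 6521) (l := 0) rfl N6521 D9918
theorem N9005 : nd 9005 = n9919 := ndS (p := 6525) (l := 1) rfl N6525 D9919
theorem N9006 : nd 9006 = n9920 := ndS (p := 6525) (l := 3) rfl N6525 D9920
theorem N9007 : nd 9007 = n9921 := ndS (p := 6528) (l := 1) rfl N6528 D9921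
theorem N9008 : nd 9008 = n9922 := ndS (p := 6528) (l := 3) rfl N6528 D9922
theorem N9009 : nd 9009 = n9923 := ndS (p := 6530) (l := 0) rfl N6530 D9923
theorem N9010 : nd 9010 = n9924 := ndS (p := 6533) (l := 0) rfl N6533 D9924
theorem N9011 : nd 9011 = n9925 := ndS (p := 6533) (l := 1) rfl N6533 D9925
theorem N9012 : nd 9012 = n9926 := ndS (p := 6533) (l := 4) rfl N6533 D9926
theorem N9013 : nd 9013 = n9927 := ndS (p := 6536) (l := 2) rfl N6536 D9927
theorem N9014 : nd 9014 = n9928 := ndS (p := 6537) (l := 3) rfl N6537 D9928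
theorem N9015 : nd 9015 = n9929 := ndS (p := 6537) (l := 4) rfl N6537 D9929
theorem N9016 : nd 9016 = n9930 := ndS (p := 6538) (l := 4) rfl N6538 D9930
theorem N9017 : nd 9017 = n9931 := ndS (p := 6539) (l := 2) rfl N6539 D9931
theorem N9018 : nd 9018 = n9932 := ndS (p := 6540) (l := 1) rfl N6540 D9932
theorem N9019 : nd 9019 = n9933 := ndS (p := 6540) (l := 4) rfl N6540 D9933
theorem N9020 : nd 9020 = n9934 := ndS (p := 6541) (l := 4) rfl N6541 D9934
theorem N9021 : nd 9021 = n9935 := ndS (p := 6542) (l := 0) rfl N6542 D9935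
theorem N9022 : nd 9022 = n9936 := ndS (p := 6542) (l := 2) rfl N6542 D9936
theorem N9023 : nd 9023 = n9937 := ndS (p := 6542) (l := 3) rfl N6542 D9937
theorem N9024 : nd 9024 = n9938 := ndS (p := 6542) (l := 4) rfl N6542 D9938
theorem N9025 : nd 9025 = n9939 := ndS (p := 6543) (l := 4) rfl N6543 D9939
theorem N9026 : nd 9026 = n9940 := ndS (p := 6545) (l := 2) rfl N6545 D9940
theorem N9027 : nd 9027 = n9941 := ndS (p := 6545) (l := 4) rfl N6545 D9941
theorem N9028 : nd 9028 = n9942 := ndS (p := 6547) (l := 4) rfl N6547 D9942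
theorem N9029 : nd 9029 = n9943 := ndS (p := 6548) (l := 2) rfl N6548 D9943
theorem N9030 : nd 9030 = n9944 := ndS (p := 6549) (l := 2) rfl N6549 D9944
theorem N9031 : nd 9031 = n9945 := ndS (p := 6550) (l := 4) rfl N6550 D9945
theorem N9032 : nd 9032 = n9946 := ndS (p := 6552) (l := 1) rfl N6552 D9946
theorem N9033 : nd 9033 = n9947 := ndS (p := 6552) (l := 2) rfl N6552 D9947
theorem N9034 : nd 9034 = n9948 := ndS (p := 6554) (l := 2) rfl N6554 D9948
theorem N9035 : nd 9035 = n9949 := ndS (p := 6555) (l := 0) rfl N6555 D9949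
theorem N9036 : nd 9036 = n9950 := ndS (p := 6555) (l := 1) rfl N6555 D9950
theorem N9037 : nd 9037 = n9951 := ndS (p := 6555) (l := 4) rfl N6555 D9951
theorem N9038 : nd 9038 = n9952 := ndS (p := 6556) (l := 2) rfl N6556 D9952
theorem N9039 : nd 9039 = n9953 := ndS (p := 6557) (l := 0) rfl N6557 D9953
theorem N9040 : nd 9040 = n9954 := ndS (p := 6557) (l := 1) rfl N6557 D9954
theorem N9041 : nd 9041 = n9955 := ndS (p := 6557) (l := 4) rfl N6557 D9955
theorem N9042 : nd 9042 = n9956 := ndS (p := 6558) (l := 0) rfl N6558 D9956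
theorem N9043 : nd 9043 = n9957 := ndS (p := 6558) (l := 1) rfl N6558 D9957
theorem N9044 : nd 9044 = n9958 := ndS (p := 6558) (l := 4) rfl N6558 D9958
theorem N9045 : nd 9045 = n9959 := ndS (p := 6560) (l := 4) rfl N6560 D9959
theorem N9046 : nd 9046 = n9960 := ndS (p := 6561) (l := 0) rfl N6561 D9960
theorem N9047 : nd 9047 = n9961 := ndS (p := 6561) (l := 2) rfl N6561 D9961
theorem N9048 : nd 9048 = n9962 := ndS (p := 6561) (l := 4) rfl N6561 D9962
theorem N9049 : nd 9049 = n9963 := ndS (p := 6562) (l := 2) rfl N6562 D9963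
theorem N9050 : nd 9050 = n9964 := ndS (p := 6563) (l := 1) rfl N6563 D9964
theorem N9051 : nd 9051 = n9965 := ndS (p := 6564) (l := 1) rfl N6564 D9965
theorem N9052 : nd 9052 = n9966 := ndS (p := 6564) (l := 2) rfl N6564 D9966
theorem N9053 : nd 9053 = n9967 := ndS (p := 6566) (l := 0) rfl N6566 D9967
theorem N9054 : nd 9054 = n9968 := ndS (p := 6566) (l := 2) rfl N6566 D9968
theorem N9055 : nd 9055 = n9969 := ndS (p := 6567) (l := 2) rfl N6567 D9969
theorem N9056 : nd 9056 = n9970 := ndS (p := 6569) (l := 4) rfl N6569 D9970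
theorem N9057 : nd 9057 = n9971 := ndS (p := 6572) (l := 2) rfl N6572 D9971
theorem N9058 : nd 9058 = n9972 := ndS (p := 6574) (l := 2) rfl N6574 D9972
theorem N9059 : nd 9059 = n9973 := ndS (p := 6576) (l := 4) rfl N6576 D9973
theorem N9060 : nd 9060 = n9974 := ndS (p := 6577) (l := 2) rfl N6577 D9974
theorem N9061 : nd 9061 = n9975 := ndS (p := 6578) (l := 4) rfl N6578 D9975
theorem N9062 : nd 9062 = n9976 := ndS (p := 6579) (l := 2) rfl N6579 D9976
theorem N9063 : nd 9063 = n9977 := ndS (p := 6580) (l := 0) rfl N6580 D9977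
theorem N9064 : nd 9064 = n9978 := ndS (p := 6580) (l := 1) rfl N6580 D9978
theorem N9065 : nd 9065 = n9979 := ndS (p := 6580) (l := 3) rfl N6580 D9979
theorem N9066 : nd 9066 = n9980 := ndS (p := 6580) (l := 4) rfl N6580 D9980
theorem N9067 : nd 9067 = n9981 := ndS (p := 6582) (l := 2) rfl N6582 D9981
theorem N9068 : nd 9068 = n9982 := ndS (p := 6583) (l := 3) rfl N6583 D9982
theorem N9069 : nd 9069 = n9983 := ndS (p := 6584) (l := 4) rfl N6584 D9983
theorem N9070 : nd 9070 = n9984 := ndS (p := 6585) (l := 2) rfl N6585 D9984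
theorem N9071 : nd 9071 = n9985 := ndS (p := 6586) (l := 4) rfl N6586 D9985
theorem N9072 : nd 9072 = n9986 := ndS (p := 6590) (l := 2) rfl N6590 D9986
theorem N9073 : nd 9073 = n9987 := ndS (p := 6590) (l := 4) rfl N6590 D9987
theorem N9074 : nd 9074 = n9988 := ndS (p := 6593) (l := 4) rfl N6593 D9988
theorem N9075 : nd 9075 = n9989 := ndS (p := 6597) (l := 0) rfl N6597 D9989
theorem N9076 : nd 9076 = n9990 := ndS (p := 6597) (l := 4) rfl N6597 D9990
theorem N9077 : nd 9077 = n9991 := ndS (p := 6598) (l := 2) rfl N6598 D9991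
theorem N9078 : nd 9078 = n9992 := ndS (p := 6599) (l := 4) rfl N6599 D9992
theorem N9079 : nd 9079 = n9993 := ndS (p := 6600) (l := 2) rfl N6600 D9993
theorem N9080 : nd 9080 = n9994 := ndS (p := 6601) (l := 2) rfl N6601 D9994
theorem N9081 : nd 9081 = n9995 := ndS (p := 6605) (l := 3) rfl N6605 D9995
theorem N9082 : nd 9082 = n9996 := ndS (p := 6605) (l := 4) rfl N6605 D9996
theorem N9083 : nd 9083 = n9997 := ndS (p := 6606) (l := 4) rfl N6606 D9997
theorem N9084 : nd 9084 = n9998 := ndS (p := 6607) (l := 3) rfl N6607 D9998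
theorem N9085 : nd 9085 = n9999 := ndS (p := 6610) (l := 1) rfl N6610 D9999
theorem N9086 : nd 9086 = n10000 := ndS (p := 6610) (l := 4) rfl N6610 D10000
theorem N9087 : nd 9087 = n10001 := ndS (p := 6612) (l := 2) rfl N6612 D10001
theorem N9088 : nd 9088 = n10002 := ndS (p := 6616) (l := 2) rfl N6616 D10002
theorem N9089 : nd 9089 = n10003 := ndS (p := 6619) (l := 1) rfl N6619 D10003
theorem N9090 : nd 9090 = n10004 := ndS (p := 6619) (l := 4) rfl N6619 D10004
theorem N9091 : nd 9091 = n10005 := ndS (p := 6621) (l := 4) rfl N6621 D10005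
theorem N9092 : nd 9092 = n10006 := ndS (p := 6624) (l := 1) rfl N6624 D10006
theorem N9093 : nd 9093 = n10007 := ndS (p := 6628) (l := 0) rfl N6628 D10007
theorem N9094 : nd 9094 = n10008 := ndS (p := 6632) (l := 4) rfl N6632 D10008
theorem N9095 : nd 9095 = n10009 := ndS (p := 6636) (l := 1) rfl N6636 D10009
theorem N9096 : nd 9096 = n10010 := ndS (p := 6636) (l := 4) rfl N6636 D10010
theorem N9097 : nd 9097 = n10011 := ndS (p := 6637) (l := 2) rfl N6637 D10011
theorem N9098 : nd 9098 = n10012 := ndS (p := 6638) (l := 4) rfl N6638 D10012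
theorem N9099 : nd 9099 = n10013 := ndS (p := 6639) (l := 4) rfl N6639 D10013
theorem N9100 : nd 9100 = n10014 := ndS (p := 6641) (l := 1) rfl N6641 D10014
theorem N9101 : nd 9101 = n10015 := ndS (p := 6643) (l := 4) rfl N6643 D10015
theorem N9102 : nd 9102 = n10016 := ndS (p := 6646) (l := 2) rfl N6646 D10016
theorem N9103 : nd 9103 = n10017 := ndS (p := 6647) (l := 0) rfl N6647 D10017
theorem N9104 : nd 9104 = n10018 := ndS (p := 6647) (l := 4) rfl N6647 D10018
theorem N9105 : nd 9105 = n10019 := ndS (p := 6648) (l := 2) rfl N6648 D10019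
theorem N9106 : nd 9106 = n10020 := ndS (p := 6649) (l := 2) rfl N6649 D10020
theorem N9107 : nd 9107 = n10021 := ndS (p := 6650) (l := 2) rfl N6650 D10021
theorem N9108 : nd 9108 = n10022 := ndS (p := 6657) (l := 1) rfl N6657 D10022
theorem N9109 : nd 9109 = n10023 := ndS (p := 6657) (l := 3) rfl N6657 D10023
theorem N9110 : nd 9110 = n10024 := ndS (p := 6659) (l := 1) rfl N6659 D10024
theorem N9111 : nd 9111 = n10025 := ndS (p := 6659) (l := 2) rfl N6659 D10025
theorem N9112 : nd 9112 = n10026 := ndS (p := 6659) (l := 3) rfl N6659 D10026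
theorem N9113 : nd 9113 = n10027 := ndS (p := 6660) (l := 0) rfl N6660 D10027
theorem N9114 : nd 9114 = n10028 := ndS (p := 6661) (l := 3) rfl N6661 D10028
theorem N9115 : nd 9115 = n10029 := ndS (p := 6663) (l := 1) rfl N6663 D10029
theorem N9116 : nd 9116 = n10030 := ndS (p := 6663) (l := 2) rfl N6663 D10030
theorem N9117 : nd 9117 = n10031 := ndS (p := 6663) (l := 3) rfl N6663 D10031
theorem N9118 : nd 9118 = n10032 := ndS (p := 6664) (l := 1) rfl N6664 D10032
theorem N9119 : nd 9119 = n10033 := ndS (p := 6664) (l := 3) rfl N6664 D10033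
theorem N9120 : nd 9120 = n10034 := ndS (p := 6671) (l := 4) rfl N6671 D10034
theorem N9121 : nd 9121 = n10035 := ndS (p := 6677) (l := 3) rfl N6677 D10035
theorem N9122 : nd 9122 = n10036 := ndS (p := 6678) (l := 4) rfl N6678 D10036
theorem N9123 : nd 9123 = n10037 := ndS (p := 6682) (l := 3) rfl N6682 D10037
theorem N9124 : nd 9124 = n10038 := ndS (p := 6683) (l := 2) rfl N6683 D10038
theorem N9125 : nd 9125 = n10039 := ndS (p := 6684) (l := 1) rfl N6684 D10039
theorem N9126 : nd 9126 = n10040 := ndS (p := 6684) (l := 3) rfl N6684 D10040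
theorem N9127 : nd 9127 = n10041 := ndS (p := 6685) (l := 4) rfl N6685 D10041
theorem N9128 : nd 9128 = n10042 := ndS (p := 6686) (l := 3) rfl N6686 D10042
theorem N9129 : nd 9129 = n10043 := ndS (p := 6687) (l := 2) rfl N6687 D10043
theorem N9130 : nd 9130 = n10044 := ndS (p := 6687) (l := 3) rfl N6687 D10044
theorem N9131 : nd 9131 = n10045 := ndS (p := 6690) (l := 3) rfl N6690 D10045
theorem N9132 : nd 9132 = n10046 := ndS (p := 6695) (l := 1) rfl N6695 D10046
theorem N9133 : nd 9133 = n10047 := ndS (p := 6695) (l := 4) rfl N6695 D10047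
theorem N9134 : nd 9134 = n10048 := ndS (p := 6696) (l := 2) rfl N6696 D10048
theorem N9135 : nd 9135 = n10049 := ndS (p := 6698) (l := 2) rfl N6698 D10049
theorem N9136 : nd 9136 = n10050 := ndS (p := 6700) (l := 2) rfl N6700 D10050
theorem N9137 : nd 9137 = n10051 := ndS (p := 6700) (l := 3) rfl N6700 D10051
theorem N9138 : nd 9138 = n10052 := ndS (p := 6701) (l := 4) rfl N6701 D10052
theorem N9139 : nd 9139 = n10053 := ndS (p := 6702) (l := 3) rfl N6702 D10053
theorem N9140 : nd 9140 = n10054 := ndS (p := 6703) (l := 3) rfl N6703 D10054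
theorem N9141 : nd 9141 = n10055 := ndS (p := 6704) (l := 0) rfl N6704 D10055
theorem N9142 : nd 9142 = n10056 := ndS (p := 6704) (l := 3) rfl N6704 D10056
theorem N9143 : nd 9143 = n10057 := ndS (p := 6709) (l := 0) rfl N6709 D10057
theorem N9144 : nd 9144 = n10058 := ndS (p := 6709) (l := 4) rfl N6709 D10058
theorem N9145 : nd 9145 = n10059 := ndS (p := 6710) (l := 3) rfl N6710 D10059
theorem N9146 : nd 9146 = n10060 := ndS (p := 6712) (l := 2) rfl N6712 D10060
theorem N9147 : nd 9147 = n10061 := ndS (p := 6712) (l := 3) rfl N6712 D10061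
theorem N9148 : nd 9148 = n10062 := ndS (p := 6716) (l := 2) rfl N6716 D10062
theorem N9149 : nd 9149 = n10063 := ndS (p := 6719) (l := 4) rfl N6719 D10063
theorem N9150 : nd 9150 = n10064 := ndS (p := 6724) (l := 2) rfl N6724 D10064
theorem N9151 : nd 9151 = n10065 := ndS (p := 6724) (l := 3) rfl N6724 D10065
theorem N9152 : nd 9152 = n10066 := ndS (p := 6726) (l := 0) rfl N6726 D10066
theorem N9153 : nd 9153 = n10067 := ndS (p := 6726) (l := 1) rfl N6726 D10067
theorem N9154 : nd 9154 = n10068 := ndS (p := 6726) (l := 3) rfl N6726 D10068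
theorem N9155 : nd 9155 = n10069 := ndS (p := 6726) (l := 4) rfl N6726 D10069
theorem N9156 : nd 9156 = n10070 := ndS (p := 6728) (l := 3) rfl N6728 D10070
theorem N9157 : nd 9157 = n10071 := ndS (p := 6730) (l := 4) rfl N6730 D10071
theorem N9158 : nd 9158 = n10072 := ndS (p := 6731) (l := 1) rfl N6731 D10072
theorem N9159 : nd 9159 = n10073 := ndS (p := 6731) (l := 4) rfl N6731 D10073
theorem N9160 : nd 9160 = n10074 := ndS (p := 6732) (l := 0) rfl N6732 D10074
theorem N9161 : nd 9161 = n10075 := ndS (p := 6732) (l := 3) rfl N6732 D10075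
theorem N9162 : nd 9162 = n10076 := ndS (p := 6732) (l := 4) rfl N6732 D10076
theorem N9163 : nd 9163 = n10077 := ndS (p := 6733) (l := 4) rfl N6733 D10077
theorem N9164 : nd 9164 = n10078 := ndS (p := 6736) (l := 2) rfl N6736 D10078
theorem N9165 : nd 9165 = n10079 := ndS (p := 6736) (l := 3) rfl N6736 D10079
theorem N9166 : nd 9166 = n10080 := ndS (p := 6737) (l := 4) rfl N6737 D10080
theorem N9167 : nd 9167 = n10081 := ndS (p := 6738) (l := 2) rfl N6738 D10081
theorem N9168 : nd 9168 = n10082 := ndS (p := 6738) (l := 3) rfl N6738 D10082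
theorem N9169 : nd 9169 = n10083 := ndS (p := 6741) (l := 2) rfl N6741 D10083
theorem N9170 : nd 9170 = n10084 := ndS (p := 6741) (l := 4) rfl N6741 D10084
theorem N9171 : nd 9171 = n10085 := ndS (p := 6742) (l := 0) rfl N6742 D10085
theorem N9172 : nd 9172 = n10086 := ndS (p := 6742) (l := 1) rfl N6742 D10086
theorem N9173 : nd 9173 = n10087 := ndS (p := 6742) (l := 4) rfl N6742 D10087
theorem N9174 : nd 9174 = n10088 := ndS (p := 6743) (l := 2) rfl N6743 D10088
theorem N9175 : nd 9175 = n10089 := ndS (p := 6744) (l := 0) rfl N6744 D10089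
theorem N9176 : nd 9176 = n10090 := ndS (p := 6744) (l := 4) rfl N6744 D10090
theorem N9177 : nd 9177 = n10091 := ndS (p := 6746) (l := 1) rfl N6746 D10091
theorem N9178 : nd 9178 = n10092 := ndS (p := 6759) (l := 3) rfl N6759 D10092
theorem N9179 : nd 9179 = n10093 := ndS (p := 6760) (l := 0) rfl N6760 D10093
theorem N9180 : nd 9180 = n10094 := ndS (p := 6760) (l := 1) rfl N6760 D10094
theorem N9181 : nd 9181 = n10095 := ndS (p := 6760) (l := 3) rfl N6760 D10095
theorem N9182 : nd 9182 = n10096 := ndS (p := 6762) (l := 2) rfl N6762 D10096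
theorem N9183 : nd 9183 = n10097 := ndS (p := 6765) (l := 1) rfl N6765 D10097
theorem N9184 : nd 9184 = n10098 := ndS (p := 6766) (l := 0) rfl N6766 D10098
theorem N9185 : nd 9185 = n10099 := ndS (p := 6768) (l := 1) rfl N6768 D10099
theorem N9186 : nd 9186 = n10100 := ndS (p := 6770) (l := 3) rfl N6770 D10100
theorem N9187 : nd 9187 = n10101 := ndS (p := 6771) (l := 0) rfl N6771 D10101
theorem N9188 : nd 9188 = n10102 := ndS (p := 6771) (l := 1) rfl N6771 D10102
theorem N9189 : nd 9189 = n10103 := ndS (p := 6771) (l := 3) rfl N6771 D10103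
theorem N9190 : nd 9190 = n10104 := ndS (p := 6773) (l := 2) rfl N6773 D10104
theorem N9191 : nd 9191 = n10105 := ndS (p := 6781) (l := 1) rfl N6781 D10105
theorem N9192 : nd 9192 = n10106 := ndS (p := 6781) (l := 3) rfl N6781 D10106
theorem N9193 : nd 9193 = n10107 := ndS (p := 6781) (l := 4) rfl N6781 D10107
theorem N9194 : nd 9194 = n10108 := ndS (p := 6782) (l := 0) rfl N6782 D10108
theorem N9195 : nd 9195 = n10109 := ndS (p := 6782) (l := 2) rfl N6782 D10109
theorem N9196 : nd 9196 = n10110 := ndS (p := 6785) (l := 2) rfl N6785 D10110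
theorem N9197 : nd 9197 = n10111 := ndS (p := 6787) (l := 4) rfl N6787 D10111
theorem N9198 : nd 9198 = n10112 := ndS (p := 6789) (l := 4) rfl N6789 D10112
theorem N9199 : nd 9199 = n10113 := ndS (p := 6791) (l := 4) rfl N6791 D10113
theorem N9200 : nd 9200 = n10114 := ndS (p := 6793) (l := 0) rfl N6793 D10114
theorem N9201 : nd 9201 = n10115 := ndS (p := 6794) (l := 1) rfl N6794 D10115
theorem N9202 : nd 9202 = n10116 := ndS (p := 6794) (l := 4) rfl N6794 D10116
theorem N9203 : nd 9203 = n10117 := ndS (p := 6797) (l := 0) rfl N6797 D10117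
theorem N9204 : nd 9204 = n10118 := ndS (p := 6797) (l := 4) rfl N6797 D10118
theorem N9205 : nd 9205 = n10119 := ndS (p := 6804) (l := 1) rfl N6804 D10119
theorem N9206 : nd 9206 = n10120 := ndS (p := 6804) (l := 4) rfl N6804 D10120
theorem N9207 : nd 9207 = n10121 := ndS (p := 6808) (l := 2) rfl N6808 D10121
theorem N9208 : nd 9208 = n10122 := ndS (p := 6809) (l := 4) rfl N6809 D10122
theorem N9209 : nd 9209 = n10123 := ndS (p := 6810) (l := 1) rfl N6810 D10123
theorem N9210 : nd 9210 = n10124 := ndS (p := 6810) (l := 4) rfl N6810 D10124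
theorem N9211 : nd 9211 = n10125 := ndS (p := 6814) (l := 0) rfl N6814 D10125
theorem N9212 : nd 9212 = n10126 := ndS (p := 6816) (l := 0) rfl N6816 D10126
theorem N9213 : nd 9213 = n10127 := ndS (p := 6816) (l := 1) rfl N6816 D10127
theorem N9214 : nd 9214 = n10128 := ndS (p := 6816) (l := 4) rfl N6816 D10128
theorem N9215 : nd 9215 = n10129 := ndS (p := 6818) (l := 2) rfl N6818 D10129
theorem N9216 : nd 9216 = n10130 := ndS (p := 6819) (l := 1) rfl N6819 D10130
theorem N9217 : nd 9217 = n10131 := ndS (p := 6819) (l := 2) rfl N6819 D10131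
theorem N9218 : nd 9218 = n10132 := ndS (p := 6819) (l := 3) rfl N6819 D10132
theorem N9219 : nd 9219 = n10133 := ndS (p := 6820) (l := 0) rfl N6820 D10133
theorem N9220 : nd 9220 = n10134 := ndS (p := 6821) (l := 2) rfl N6821 D10134
theorem N9221 : nd 9221 = n10135 := ndS (p := 6824) (l := 1) rfl N6824 D10135
theorem N9222 : nd 9222 = n10136 := ndS (p := 6824) (l := 3) rfl N6824 D10136
theorem N9223 : nd 9223 = n10137 := ndS (p := 6824) (l := 4) rfl N6824 D10137
theorem N9224 : nd 9224 = n10138 := ndS (p := 6826) (l := 2) rfl N6826 D10138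
theorem N9225 : nd 9225 = n10139 := ndS (p := 6827) (l := 1) rfl N6827 D10139
theorem N9226 : nd 9226 = n10140 := ndS (p := 6827) (l := 2) rfl N6827 D10140
theorem N9227 : nd 9227 = n10141 := ndS (p := 6827) (l := 3) rfl N6827 D10141
theorem N9228 : nd 9228 = n10142 := ndS (p := 6827) (l := 4) rfl N6827 D10142
theorem N9229 : nd 9229 = n10143 := ndS (p := 6829) (l := 0) rfl N6829 D10143
theorem N9230 : nd 9230 = n10144 := ndS (p := 6830) (l := 2) rfl N6830 D10144
theorem N9231 : nd 9231 = n10145 := ndS (p := 6832) (l := 0) rfl N6832 D10145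
theorem N9232 : nd 9232 = n10146 := ndS (p := 6834) (l := 2) rfl N6834 D10146
theorem N9233 : nd 9233 = n10147 := ndS (p := 6834) (l := 3) rfl N6834 D10147
theorem N9234 : nd 9234 = n10148 := ndS (p := 6835) (l := 0) rfl N6835 D10148
theorem N9235 : nd 9235 = n10149 := ndS (p := 6835) (l := 3) rfl N6835 D10149
theorem N9236 : nd 9236 = n10150 := ndS (p := 6836) (l := 0) rfl N6836 D10150
theorem N9237 : nd 9237 = n10151 := ndS (p := 6836) (l := 4) rfl N6836 D10151
theorem N9238 : nd 9238 = n10152 := ndS (p := 6837) (l := 2) rfl N6837 D10152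
theorem N9239 : nd 9239 = n10153 := ndS (p := 6837) (l := 3) rfl N6837 D10153
theorem N9240 : nd 9240 = n10154 := ndS (p := 6838) (l := 1) rfl N6838 D10154
theorem N9241 : nd 9241 = n10155 := ndS (p := 6838) (l := 4) rfl N6838 D10155
theorem N9242 : nd 9242 = n10156 := ndS (p := 6839) (l := 3) rfl N6839 D10156
theorem N9243 : nd 9243 = n10157 := ndS (p := 6839) (l := 4) rfl N6839 D10157
theorem N9244 : nd 9244 = n10158 := ndS (p := 6840) (l := 3) rfl N6840 D10158
theorem N9245 : nd 9245 = n10159 := ndS (p := 6840) (l := 4) rfl N6840 D10159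
theorem N9246 : nd 9246 = n10160 := ndS (p := 6841) (l := 4) rfl N6841 D10160
theorem N9247 : nd 9247 = n10161 := ndS (p := 6842) (l := 2) rfl N6842 D10161
theorem N9248 : nd 9248 = n10162 := ndS (p := 6842) (l := 3) rfl N6842 D10162
theorem N9249 : nd 9249 = n10163 := ndS (p := 6843) (l := 1) rfl N6843 D10163
theorem N9250 : nd 9250 = n10164 := ndS (p := 6843) (l := 2) rfl N6843 D10164
theorem N9251 : nd 9251 = n10165 := ndS (p := 6843) (l := 3) rfl N6843 D10165
theorem N9252 : nd 9252 = n10166 := ndS (p := 6843) (l := 4) rfl N6843 D10166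
theorem N9253 : nd 9253 = n10167 := ndS (p := 6844) (l := 2) rfl N6844 D10167
theorem N9254 : nd 9254 = n10168 := ndS (p := 6847) (l := 3) rfl N6847 D10168
theorem N9255 : nd 9255 = n10169 := ndS (p := 6848) (l := 3) rfl N6848 D10169
theorem N9256 : nd 9256 = n10170 := ndS (p := 6849) (l := 4) rfl N6849 D10170
theorem N9257 : nd 9257 = n10171 := ndS (p := 6850) (l := 4) rfl N6850 D10171
theorem N9258 : nd 9258 = n10172 := ndS (p := 6851) (l := 3) rfl N6851 D10172
theorem N9259 : nd 9259 = n10173 := ndS (p := 6854) (l := 0) rfl N6854 D10173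
theorem N9260 : nd 9260 = n10174 := ndS (p := 6855) (l := 3) rfl N6855 D10174
theorem N9261 : nd 9261 = n10175 := ndS (p := 6855) (l := 4) rfl N6855 D10175
theorem N9262 : nd 9262 = n10176 := ndS (p := 6856) (l := 1) rfl N6856 D10176
theorem N9263 : nd 9263 = n10177 := ndS (p := 6856) (l := 3) rfl N6856 D10177
theorem N9264 : nd 9264 = n10178 := ndS (p := 6856) (l := 4) rfl N6856 D10178
theorem N9265 : nd 9265 = n10179 := ndS (p := 6858) (l := 2) rfl N6858 D10179
theorem N9266 : nd 9266 = n10180 := ndS (p := 6859) (l := 0) rfl N6859 D10180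
theorem N9267 : nd 9267 = n10181 := ndS (p := 6861) (l := 0) rfl N6861 D10181
theorem N9268 : nd 9268 = n10182 := ndS (p := 6861) (l := 3) rfl N6861 D10182
theorem N9269 : nd 9269 = n10183 := ndS (p := 6864) (l := 1) rfl N6864 D10183
theorem N9270 : nd 9270 = n10184 := ndS (p := 6866) (l := 0) rfl N6866 D10184
theorem N9271 : nd 9271 = n10185 := ndS (p := 6866) (l := 1) rfl N6866 D10185
theorem N9272 : nd 9272 = n10186 := ndS (p := 6866) (l := 3) rfl N6866 D10186
theorem N9273 : nd 9273 = n10187 := ndS (p := 6866) (l := 4) rfl N6866 D10187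
theorem N9274 : nd 9274 = n10188 := ndS (p := 6868) (l := 2) rfl N6868 D10188
theorem N9275 : nd 9275 = n10189 := ndS (p := 6869) (l := 1) rfl N6869 D10189
theorem N9276 : nd 9276 = n10190 := ndS (p := 6869) (l := 2) rfl N6869 D10190
theorem N9277 : nd 9277 = n10191 := ndS (p := 6869) (l := 3) rfl N6869 D10191
theorem N9278 : nd 9278 = n10192 := ndS (p := 6869) (l := 4) rfl N6869 D10192
theorem N9279 : nd 9279 = n10193 := ndS (p := 6871) (l := 0) rfl N6871 D10193
theorem N9280 : nd 9280 = n10194 := ndS (p := 6872) (l := 2) rfl N6872 D10194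
theorem N9281 : nd 9281 = n10195 := ndS (p := 6873) (l := 0) rfl N6873 D10195
theorem N9282 : nd 9282 = n10196 := ndS (p := 6874) (l := 4) rfl N6874 D10196
theorem N9283 : nd 9283 = n10197 := ndS (p := 6875) (l := 0) rfl N6875 D10197
theorem N9284 : nd 9284 = n10198 := ndS (p := 6875) (l := 2) rfl N6875 D10198
theorem N9285 : nd 9285 = n10199 := ndS (p := 6877) (l := 0) rfl N6877 D10199
theorem N9286 : nd 9286 = n10200 := ndS (p := 6877) (l := 4) rfl N6877 D10200
theorem N9287 : nd 9287 = n10201 := ndS (p := 6886) (l := 0) rfl N6886 D10201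
theorem N9288 : nd 9288 = n10202 := ndS (p := 6886) (l := 1) rfl N6886 D10202
theorem N9289 : nd 9289 = n10203 := ndS (p := 6886) (l := 4) rfl N6886 D10203
theorem N9290 : nd 9290 = n10204 := ndS (p := 6888) (l := 2) rfl N6888 D10204
theorem N9291 : nd 9291 = n10205 := ndS (p := 6889) (l := 1) rfl N6889 D10205
theorem N9292 : nd 9292 = n10206 := ndS (p := 6889) (l := 3) rfl N6889 D10206
theorem N9293 : nd 9293 = n10207 := ndS (p := 6890) (l := 2) rfl N6890 D10207
theorem N9294 : nd 9294 = n10208 := ndS (p := 6892) (l := 2) rfl N6892 D10208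
theorem N9295 : nd 9295 = n10209 := ndS (p := 6896) (l := 4) rfl N6896 D10209
theorem N9296 : nd 9296 = n10210 := ndS (p := 6897) (l := 2) rfl N6897 D10210
theorem N9297 : nd 9297 = n10211 := ndS (p := 6898) (l := 4) rfl N6898 D10211
theorem N9298 : nd 9298 = n10212 := ndS (p := 6906) (l := 1) rfl N6906 D10212
theorem N9299 : nd 9299 = n10213 := ndS (p := 6910) (l := 4) rfl N6910 D10213
theorem N9300 : nd 9300 = n10214 := ndS (p := 6911) (l := 4) rfl N6911 D10214
theorem N9301 : nd 9301 = n10215 := ndS (p := 6912) (l := 2) rfl N6912 D10215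
theorem N9302 : nd 9302 = n10216 := ndS (p := 6912) (l := 3) rfl N6912 D10216
theorem N9303 : nd 9303 = n10217 := ndS (p := 6914) (l := 2) rfl N6914 D10217
theorem N9304 : nd 9304 = n10218 := ndS (p := 6914) (l := 3) rfl N6914 D10218
theorem N9305 : nd 9305 = n10219 := ndS (p := 6915) (l := 1) rfl N6915 D10219
theorem N9306 : nd 9306 = n10220 := ndS (p := 6915) (l := 3) rfl N6915 D10220
theorem N9307 : nd 9307 = n10221 := ndS (p := 6915) (l := 4) rfl N6915 D10221
theorem N9308 : nd 9308 = n10222 := ndS (p := 6916) (l := 4) rfl N6916 D10222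
theorem N9309 : nd 9309 = n10223 := ndS (p := 6917) (l := 0) rfl N6917 D10223
theorem N9310 : nd 9310 = n10224 := ndS (p := 6917) (l := 1) rfl N6917 D10224
theorem N9311 : nd 9311 = n10225 := ndS (p := 6917) (l := 4) rfl N6917 D10225
theorem N9312 : nd 9312 = n10226 := ndS (p := 6918) (l := 3) rfl N6918 D10226
theorem N9313 : nd 9313 = n10227 := ndS (p := 6918) (l := 4) rfl N6918 D10227
theorem N9314 : nd 9314 = n10228 := ndS (p := 6919) (l := 2) rfl N6919 D10228
theorem N9315 : nd 9315 = n10229 := ndS (p := 6919) (l := 3) rfl N6919 D10229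
theorem N9316 : nd 9316 = n10230 := ndS (p := 6919) (l := 4) rfl N6919 D10230
theorem N9317 : nd 9317 = n10231 := ndS (p := 6920) (l := 0) rfl N6920 D10231
theorem N9318 : nd 9318 = n10232 := ndS (p := 6920) (l := 4) rfl N6920 D10232
theorem N9319 : nd 9319 = n10233 := ndS (p := 6922) (l := 2) rfl N6922 D10233
theorem N9320 : nd 9320 = n10234 := ndS (p := 6924) (l := 4) rfl N6924 D10234
theorem N9321 : nd 9321 = n10235 := ndS (p := 6925) (l := 2) rfl N6925 D10235
theorem N9322 : nd 9322 = n10236 := ndS (p := 6927) (l := 2) rfl N6927 D10236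
theorem N9323 : nd 9323 = n10237 := ndS (p := 6928) (l := 4) rfl N6928 D10237
theorem N9324 : nd 9324 = n10238 := ndS (p := 6929) (l := 3) rfl N6929 D10238
theorem N9325 : nd 9325 = n10239 := ndS (p := 6930) (l := 2) rfl N6930 D10239
theorem N9326 : nd 9326 = n10240 := ndS (p := 6931) (l := 0) rfl N6931 D10240
theorem N9327 : nd 9327 = n10241 := ndS (p := 6931) (l := 3) rfl N6931 D10241
theorem N9328 : nd 9328 = n10242 := ndS (p := 6931) (l := 4) rfl N6931 D10242
theorem N9329 : nd 9329 = n10243 := ndS (p := 6932) (l := 4) rfl N6932 D10243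
theorem N9330 : nd 9330 = n10244 := ndS (p := 6933) (l := 3) rfl N6933 D10244
theorem N9331 : nd 9331 = n10245 := ndS (p := 6937) (l := 2) rfl N6937 D10245
theorem N9332 : nd 9332 = n10246 := ndS (p := 6937) (l := 3) rfl N6937 D10246
theorem N9333 : nd 9333 = n10247 := ndS (p := 6938) (l := 2) rfl N6938 D10247
theorem N9334 : nd 9334 = n10248 := ndS (p := 6938) (l := 4) rfl N6938 D10248
theorem N9335 : nd 9335 = n10249 := ndS (p := 6939) (l := 4) rfl N6939 D10249
theorem N9336 : nd 9336 = n10250 := ndS (p := 6940) (l := 2) rfl N6940 D10250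
theorem N9337 : nd 9337 = n10251 := ndS (p := 6942) (l := 0) rfl N6942 D10251
theorem N9338 : nd 9338 = n10252 := ndS (p := 6942) (l := 3) rfl N6942 D10252
theorem N9339 : nd 9339 = n10253 := ndS (p := 6943) (l := 4) rfl N6943 D10253
theorem N9340 : nd 9340 = n10254 := ndS (p := 6944) (l := 2) rfl N6944 D10254
theorem N9341 : nd 9341 = n10255 := ndS (p := 6944) (l := 3) rfl N6944 D10255
theorem N9342 : nd 9342 = n10256 := ndS (p := 6950) (l := 3) rfl N6950 D10256
theorem N9343 : nd 9343 = n10257 := ndS (p := 6950) (l := 4) rfl N6950 D10257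
theorem N9344 : nd 9344 = n10258 := ndS (p := 6951) (l := 4) rfl N6951 D10258
theorem N9345 : nd 9345 = n10259 := ndS (p := 6952) (l := 4) rfl N6952 D10259
theorem N9346 : nd 9346 = n10260 := ndS (p := 6953) (l := 2) rfl N6953 D10260
theorem N9347 : nd 9347 = n10261 := ndS (p := 6953) (l := 3) rfl N6953 D10261
theorem N9348 : nd 9348 = n10262 := ndS (p := 6954) (l := 2) rfl N6954 D10262
theorem N9349 : nd 9349 = n10263 := ndS (p := 6955) (l := 0) rfl N6955 D10263
theorem N9350 : nd 9350 = n10264 := ndS (p := 6955) (l := 1) rfl N6955 D10264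
theorem N9351 : nd 9351 = n10265 := ndS (p := 6955) (l := 3) rfl N6955 D10265
theorem N9352 : nd 9352 = n10266 := ndS (p := 6955) (l := 4) rfl N6955 D10266
theorem N9353 : nd 9353 = n10267 := ndS (p := 6959) (l := 2) rfl N6959 D10267
theorem N9354 : nd 9354 = n10268 := ndS (p := 6959) (l := 3) rfl N6959 D10268
theorem N9355 : nd 9355 = n10269 := ndS (p := 6961) (l := 3) rfl N6961 D10269
theorem N9356 : nd 9356 = n10270 := ndS (p := 6962) (l := 3) rfl N6962 D10270
theorem N9357 : nd 9357 = n10271 := ndS (p := 6964) (l := 2) rfl N6964 D10271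
theorem N9358 : nd 9358 = n10272 := ndS (p := 6966) (l := 0) rfl N6966 D10272
theorem N9359 : nd 9359 = n10273 := ndS (p := 6966) (l := 1) rfl N6966 D10273
theorem N9360 : nd 9360 = n10274 := ndS (p := 6966) (l := 4) rfl N6966 D10274
theorem N9361 : nd 9361 = n10275 := ndS (p := 6971) (l := 4) rfl N6971 D10275
theorem N9362 : nd 9362 = n10276 := ndS (p := 6972) (l := 2) rfl N6972 D10276
theorem N9363 : nd 9363 = n10277 := ndS (p := 6973) (l := 3) rfl N6973 D10277
theorem N9364 : nd 9364 = n10278 := ndS (p := 6973) (l := 4) rfl N6973 D10278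
theorem N9365 : nd 9365 = n10279 := ndS (p := 6974) (l := 0) rfl N6974 D10279
theorem N9366 : nd 9366 = n10280 := ndS (p := 6976) (l := 2) rfl N6976 D10280
theorem N9367 : nd 9367 = n10281 := ndS (p := 6978) (l := 4) rfl N6978 D10281
theorem N9368 : nd 9368 = n10282 := ndS (p := 6982) (l := 2) rfl N6982 D10282
theorem N9369 : nd 9369 = n10283 := ndS (p := 6985) (l := 4) rfl N6985 D10283
theorem N9370 : nd 9370 = n10284 := ndS (p := 6988) (l := 4) rfl N6988 D10284
theorem N9371 : nd 9371 = n10285 := ndS (p := 6989) (l := 2) rfl N6989 D10285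
theorem N9372 : nd 9372 = n10286 := ndS (p := 6990) (l := 1) rfl N6990 D10286
theorem N9373 : nd 9373 = n10287 := ndS (p := 6990) (l := 3) rfl N6990 D10287
theorem N9374 : nd 9374 = n10288 := ndS (p := 6991) (l := 0) rfl N6991 D10288
theorem N9375 : nd 9375 = n10289 := ndS (p := 6992) (l := 4) rfl N6992 D10289
theorem N9376 : nd 9376 = n10290 := ndS (p := 6994) (l := 0) rfl N6994 D10290
theorem N9377 : nd 9377 = n10291 := ndS (p := 6994) (l := 4) rfl N6994 D10291
theorem N9378 : nd 9378 = n10292 := ndS (p := 6995) (l := 4) rfl N6995 D10292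
theorem N9379 : nd 9379 = n10293 := ndS (p := 6997) (l := 4) rfl N6997 D10293
theorem N9380 : nd 9380 = n10294 := ndS (p := 7008) (l := 0) rfl N7008 D10294
theorem N9381 : nd 9381 = n10295 := ndS (p := 7011) (l := 0) rfl N7011 D10295
theorem N9382 : nd 9382 = n10296 := ndS (p := 7011) (l := 4) rfl N7011 D10296
theorem N9383 : nd 9383 = n10297 := ndS (p := 7019) (l := 4) rfl N7019 D10297
theorem N9384 : nd 9384 = n10298 := ndS (p := 7022) (l := 0) rfl N7022 D10298
theorem N9385 : nd 9385 = n10299 := ndS (p := 7023) (l := 0) rfl N7023 D10299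
theorem N9386 : nd 9386 = n10300 := ndS (p := 7023) (l := 4) rfl N7023 D10300
theorem N9387 : nd 9387 = n10301 := ndS (p := 7027) (l := 4) rfl N7027 D10301
theorem N9388 : nd 9388 = n10302 := ndS (p := 7029) (l := 4) rfl N7029 D10302
theorem N9389 : nd 9389 = n10303 := ndS (p := 7033) (l := 4) rfl N7033 D10303
theorem N9390 : nd 9390 = n10304 := ndS (p := 7040) (l := 1) rfl N7040 D10304
theorem N9391 : nd 9391 = n10305 := ndS (p := 7044) (l := 0) rfl N7044 D10305
theorem N9392 : nd 9392 = n10306 := ndS (p := 7044) (l := 4) rfl N7044 D10306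
theorem N9393 : nd 9393 = n10307 := ndS (p := 7046) (l := 0) rfl N7046 D10307
theorem N9394 : nd 9394 = n10308 := ndS (p := 7046) (l := 1) rfl N7046 D10308
theorem N9395 : nd 9395 = n10309 := ndS (p := 7046) (l := 4) rfl N7046 D10309
theorem N9396 : nd 9396 = n10310 := ndS (p := 7050) (l := 4) rfl N7050 D10310
theorem N9397 : nd 9397 = n10311 := ndS (p := 7051) (l := 4) rfl N7051 D10311
theorem N9398 : nd 9398 = n10312 := ndS (p := 7054) (l := 4) rfl N7054 D10312
theorem N9399 : nd 9399 = n10313 := ndS (p := 7055) (l := 2) rfl N7055 D10313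
theorem N9400 : nd 9400 = n10314 := ndS (p := 7056) (l := 4) rfl N7056 D10314
theorem N9401 : nd 9401 = n10315 := ndS (p := 7064) (l := 4) rfl N7064 D10315
theorem N9402 : nd 9402 = n10316 := ndS (p := 7065) (l := 4) rfl N7065 D10316
theorem N9403 : nd 9403 = n10317 := ndS (p := 7067) (l := 2) rfl N7067 D10317
theorem N9404 : nd 9404 = n10318 := ndS (p := 7068) (l := 0) rfl N7068 D10318
theorem N9405 : nd 9405 = n10319 := ndS (p := 7068) (l := 1) rfl N7068 D10319
theorem N9406 : nd 9406 = n10320 := ndS (p := 7068) (l := 4) rfl N7068 D10320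
theorem N9407 : nd 9407 = n10321 := ndS (p := 7072) (l := 0) rfl N7072 D10321
theorem N9408 : nd 9408 = n10322 := ndS (p := 7072) (l := 1) rfl N7072 D10322
theorem N9409 : nd 9409 = n10323 := ndS (p := 7082) (l := 1) rfl N7082 D10323
theorem N9410 : nd 9410 = n10324 := ndS (p := 7082) (l := 4) rfl N7082 D10324
theorem N9411 : nd 9411 = n10325 := ndS (p := 7084) (l := 4) rfl N7084 D10325
theorem N9412 : nd 9412 = n10326 := ndS (p := 7085) (l := 0) rfl N7085 D10326
theorem N9413 : nd 9413 = n10327 := ndS (p := 7085) (l := 3) rfl N7085 D10327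
theorem N9414 : nd 9414 = n10328 := ndS (p := 7086) (l := 4) rfl N7086 D10328
theorem N9415 : nd 9415 = n10329 := ndS (p := 7089) (l := 0) rfl N7089 D10329
theorem N9416 : nd 9416 = n10331 := ndS (p := 7090) (l := 4) rfl N7090 D10331
theorem N9417 : nd 9417 = n10332 := ndS (p := 7092) (l := 1) rfl N7092 D10332
theorem N9418 : nd 9418 = n10333 := ndS (p := 7092) (l := 4) rfl N7092 D10333
theorem N9419 : nd 9419 = n10334 := ndS (p := 7094) (l := 4) rfl N7094 D10334
theorem N9420 : nd 9420 = n10335 := ndS (p := 7095) (l := 2) rfl N7095 D10335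
theorem N9421 : nd 9421 = n10336 := ndS (p := 7097) (l := 0) rfl N7097 D10336
theorem N9422 : nd 9422 = n10337 := ndS (p := 7097) (l := 2) rfl N7097 D10337
theorem N9423 : nd 9423 = n10338 := ndS (p := 7097) (l := 4) rfl N7097 D10338
theorem N9424 : nd 9424 = n10339 := ndS (p := 7098) (l := 4) rfl N7098 D10339
theorem N9425 : nd 9425 = n10340 := ndS (p := 7100) (l := 2) rfl N7100 D10340
theorem N9426 : nd 9426 = n10341 := ndS (p := 7100) (l := 4) rfl N7100 D10341
theorem N9427 : nd 9427 = n10342 := ndS (p := 7101) (l := 4) rfl N7101 D10342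
theorem N9428 : nd 9428 = n10343 := ndS (p := 7102) (l := 3) rfl N7102 D10343
theorem N9429 : nd 9429 = n10344 := ndS (p := 7103) (l := 1) rfl N7103 D10344
theorem N9430 : nd 9430 = n10345 := ndS (p := 7103) (l := 3) rfl N7103 D10345
theorem N9431 : nd 9431 = n10346 := ndS (p := 7103) (l := 4) rfl N7103 D10346
theorem N9432 : nd 9432 = n10347 := ndS (p := 7104) (l := 0) rfl N7104 D10347
theorem N9433 : nd 9433 = n10348 := ndS (p := 7104) (l := 3) rfl N7104 D10348
theorem N9434 : nd 9434 = n10349 := ndS (p := 7105) (l := 0) rfl N7105 D10349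
theorem N9435 : nd 9435 = n10350 := ndS (p := 7105) (l := 4) rfl N7105 D10350
theorem N9436 : nd 9436 = n10351 := ndS (p := 7107) (l := 4) rfl N7107 D10351
theorem N9437 : nd 9437 = n10352 := ndS (p := 7112) (l := 0) rfl N7112 D10352
theorem N9438 : nd 9438 = n10353 := ndS (p := 7112) (l := 4) rfl N7112 D10353
theorem N9439 : nd 9439 = n10354 := ndS (p := 7113) (l := 1) rfl N7113 D10354
theorem N9440 : nd 9440 = n10355 := ndS (p := 7113) (l := 3) rfl N7113 D10355
theorem N9441 : nd 9441 = n10356 := ndS (p := 7113) (l := 4) rfl N7113 D10356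
theorem N9442 : nd 9442 = n10357 := ndS (p := 7115) (l := 2) rfl N7115 D10357
theorem N9443 : nd 9443 = n10358 := ndS (p := 7115) (l := 4) rfl N7115 D10358
theorem N9444 : nd 9444 = n10359 := ndS (p := 7118) (l := 0) rfl N7118 D10359
theorem N9445 : nd 9445 = n10360 := ndS (p := 7118) (l := 2) rfl N7118 D10360
theorem N9446 : nd 9446 = n10361 := ndS (p := 7118) (l := 4) rfl N7118 D10361
theorem N9447 : nd 9447 = n10362 := ndS (p := 7120) (l := 1) rfl N7120 D10362
theorem N9448 : nd 9448 = n10363 := ndS (p := 7122) (l := 4) rfl N7122 D10363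
theorem N9449 : nd 9449 = n10364 := ndS (p := 7126) (l := 0) rfl N7126 D10364
theorem N9450 : nd 9450 = n10365 := ndS (p := 7126) (l := 2) rfl N7126 D10365
theorem N9451 : nd 9451 = n10366 := ndS (p := 7128) (l := 4) rfl N7128 D10366
theorem N9452 : nd 9452 = n10367 := ndS (p := 7133) (l := 4) rfl N7133 D10367
theorem N9453 : nd 9453 = n10368 := ndS (p := 7138) (l := 3) rfl N7138 D10368
theorem N9454 : nd 9454 = n10369 := ndS (p := 7143) (l := 0) rfl N7143 D10369
theorem N9455 : nd 9455 = n10370 := ndS (p := 7143) (l := 4) rfl N7143 D10370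
theorem N9456 : nd 9456 = n10371 := ndS (p := 7144) (l := 4) rfl N7144 D10371
theorem N9457 : nd 9457 = n10372 := ndS (p := 7145) (l := 3) rfl N7145 D10372
theorem N9458 : nd 9458 = n10373 := ndS (p := 7147) (l := 0) rfl N7147 D10373
theorem N9459 : nd 9459 = n10374 := ndS (p := 7147) (l := 4) rfl N7147 D10374
theorem N9460 : nd 9460 = n10375 := ndS (p := 7150) (l := 4) rfl N7150 D10375
theorem N9461 : nd 9461 = n10376 := ndS (p := 7156) (l := 4) rfl N7156 D10376
theorem N9462 : nd 9462 = n10377 := ndS (p := 7158) (l := 4) rfl N7158 D10377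
theorem N9463 : nd 9463 = n10378 := ndS (p := 7159) (l := 0) rfl N7159 D10378
theorem N9464 : nd 9464 = n10379 := ndS (p := 7159) (l := 4) rfl N7159 D10379
theorem N9465 : nd 9465 = n10380 := ndS (p := 7160) (l := 4) rfl N7160 D10380
theorem N9466 : nd 9466 = n10381 := ndS (p := 7163) (l := 1) rfl N7163 D10381
theorem N9467 : nd 9467 = n10382 := ndS (p := 7163) (l := 4) rfl N7163 D10382
theorem N9468 : nd 9468 = n10383 := ndS (p := 7171) (l := 0) rfl N7171 D10383
theorem N9469 : nd 9469 = n10384 := ndS (p := 7173) (l := 2) rfl N7173 D10384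
theorem N9470 : nd 9470 = n10385 := ndS (p := 7175) (l := 4) rfl N7175 D10385
theorem N9471 : nd 9471 = n10386 := ndS (p := 7177) (l := 1) rfl N7177 D10386
theorem N9472 : nd 9472 = n10387 := ndS (p := 7177) (l := 4) rfl N7177 D10387
theorem N9473 : nd 9473 = n10388 := ndS (p := 7179) (l := 0) rfl N7179 D10388
theorem N9474 : nd 9474 = n10389 := ndS (p := 7183) (l := 0) rfl N7183 D10389
theorem N9475 : nd 9475 = n10390 := ndS (p := 7186) (l := 4) rfl N7186 D10390
theorem N9476 : nd 9476 = n10391 := ndS (p := 7191) (l := 4) rfl N7191 D10391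
theorem N9477 : nd 9477 = n10392 := ndS (p := 7192) (l := 0) rfl N7192 D10392
theorem N9478 : nd 9478 = n10393 := ndS (p := 7192) (l := 4) rfl N7192 D10393
theorem N9479 : nd 9479 = n10394 := ndS (p := 7195) (l := 3) rfl N7195 D10394
theorem N9480 : nd 9480 = n10395 := ndS (p := 7196) (l := 2) rfl N7196 D10395
theorem N9481 : nd 9481 = n10396 := ndS (p := 7197) (l := 1) rfl N7197 D10396
theorem N9482 : nd 9482 = n10397 := ndS (p := 7197) (l := 3) rfl N7197 D10397
theorem N9483 : nd 9483 = n10398 := ndS (p := 7197) (l := 4) rfl N7197 D10398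
theorem N9484 : nd 9484 = n10399 := ndS (p := 7198) (l := 4) rfl N7198 D10399
theorem N9485 : nd 9485 = n10400 := ndS (p := 7199) (l := 1) rfl N7199 D10400
theorem N9486 : nd 9486 = n10401 := ndS (p := 7199) (l := 3) rfl N7199 D10401
theorem N9487 : nd 9487 = n10402 := ndS (p := 7199) (l := 4) rfl N7199 D10402
theorem N9488 : nd 9488 = n10403 := ndS (p := 7200) (l := 4) rfl N7200 D10403
theorem N9489 : nd 9489 = n10404 := ndS (p := 7203) (l := 1) rfl N7203 D10404
theorem N9490 : nd 9490 = n10405 := ndS (p := 7203) (l := 3) rfl N7203 D10405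
theorem N9491 : nd 9491 = n10406 := ndS (p := 7203) (l := 4) rfl N7203 D10406
theorem N9492 : nd 9492 = n10407 := ndS (p := 7205) (l := 4) rfl N7205 D10407
theorem N9493 : nd 9493 = n10408 := ndS (p := 7206) (l := 1) rfl N7206 D10408
theorem N9494 : nd 9494 = n10409 := ndS (p := 7206) (l := 4) rfl N7206 D10409
theorem N9495 : nd 9495 = n10410 := ndS (p := 7209) (l := 4) rfl N7209 D10410
theorem N9496 : nd 9496 = n10411 := ndS (p := 7210) (l := 4) rfl N7210 D10411
theorem N9497 : nd 9497 = n10412 := ndS (p := 7211) (l := 4) rfl N7211 D10412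
theorem N9498 : nd 9498 = n10413 := ndS (p := 7214) (l := 3) rfl N7214 D10413
theorem N9499 : nd 9499 = n10414 := ndS (p := 7214) (l := 4) rfl N7214 D10414
theorem N9500 : nd 9500 = n10415 := ndS (p := 7215) (l := 4) rfl N7215 D10415
theorem N9501 : nd 9501 = n10416 := ndS (p := 7216) (l := 3) rfl N7216 D10416
theorem N9502 : nd 9502 = n10417 := ndS (p := 7219) (l := 4) rfl N7219 D10417
theorem N9503 : nd 9503 = n10418 := ndS (p := 7226) (l := 2) rfl N7226 D10418
theorem N9504 : nd 9504 = n10419 := ndS (p := 7226) (l := 3) rfl N7226 D10419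
theorem N9505 : nd 9505 = n10420 := ndS (p := 7228) (l := 2) rfl N7228 D10420
theorem N9506 : nd 9506 = n10421 := ndS (p := 7229) (l := 1) rfl N7229 D10421
theorem N9507 : nd 9507 = n10422 := ndS (p := 7229) (l := 3) rfl N7229 D10422
theorem N9508 : nd 9508 = n10423 := ndS (p := 7231) (l := 3) rfl N7231 D10423
theorem N9509 : nd 9509 = n10424 := ndS (p := 7232) (l := 3) rfl N7232 D10424
theorem N9510 : nd 9510 = n10425 := ndS (p := 7232) (l := 4) rfl N7232 D10425
theorem N9511 : nd 9511 = n10426 := ndS (p := 7236) (l := 3) rfl N7236 D10426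
theorem N9512 : nd 9512 = n10427 := ndS (p := 7237) (l := 3) rfl N7237 D10427
theorem N9513 : nd 9513 = n10428 := ndS (p := 7237) (l := 4) rfl N7237 D10428
theorem N9514 : nd 9514 = n10429 := ndS (p := 7238) (l := 3) rfl N7238 D10429
theorem N9515 : nd 9515 = n10430 := ndS (p := 7238) (l := 4) rfl N7238 D10430
theorem N9516 : nd 9516 = n10431 := ndS (p := 7241) (l := 0) rfl N7241 D10431
theorem N9517 : nd 9517 = n10432 := ndS (p := 7244) (l := 2) rfl N7244 D10432
theorem N9518 : nd 9518 = n10433 := ndS (p := 7244) (l := 3) rfl N7244 D10433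
theorem N9519 : nd 9519 = n10434 := ndS (p := 7247) (l := 1) rfl N7247 D10434
theorem N9520 : nd 9520 = n10435 := ndS (p := 7248) (l := 3) rfl N7248 D10435
theorem N9521 : nd 9521 = n10436 := ndS (p := 7249) (l := 4) rfl N7249 D10436
theorem N9522 : nd 9522 = n10437 := ndS (p := 7250) (l := 2) rfl N7250 D10437
theorem N9523 : nd 9523 = n10438 := ndS (p := 7250) (l := 4) rfl N7250 D10438
theorem N9524 : nd 9524 = n10439 := ndS (p := 7251) (l := 2) rfl N7251 D10439
theorem N9525 : nd 9525 = n10440 := ndS (p := 7252) (l := 2) rfl N7252 D10440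
theorem N9526 : nd 9526 = n10441 := ndS (p := 7254) (l := 1) rfl N7254 D10441
theorem N9527 : nd 9527 = n10442 := ndS (p := 7254) (l := 4) rfl N7254 D10442
theorem N9528 : nd 9528 = n10443 := ndS (p := 7258) (l := 2) rfl N7258 D10443
theorem N9529 : nd 9529 = n10444 := ndS (p := 7262) (l := 2) rfl N7262 D10444
theorem N9530 : nd 9530 = n10445 := ndS (p := 7265) (l := 1) rfl N7265 D10445
theorem N9531 : nd 9531 = n10446 := ndS (p := 7265) (l := 4) rfl N7265 D10446
theorem N9532 : nd 9532 = n10447 := ndS (p := 7270) (l := 4) rfl N7270 D10447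
theorem N9533 : nd 9533 = n10448 := ndS (p := 7271) (l := 2) rfl N7271 D10448
theorem N9534 : nd 9534 = n10449 := ndS (p := 7271) (l := 3) rfl N7271 D10449
theorem N9535 : nd 9535 = n10450 := ndS (p := 7272) (l := 2) rfl N7272 D10450
theorem N9536 : nd 9536 = n10451 := ndS (p := 7273) (l := 3) rfl N7273 D10451
theorem N9537 : nd 9537 = n10452 := ndS (p := 7274) (l := 4) rfl N7274 D10452
theorem N9538 : nd 9538 = n10453 := ndS (p := 7275) (l := 1) rfl N7275 D10453
theorem N9539 : nd 9539 = n10454 := ndS (p := 7275) (l := 3) rfl N7275 D10454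
theorem N9540 : nd 9540 = n10455 := ndS (p := 7278) (l := 1) rfl N7278 D10455
theorem N9541 : nd 9541 = n10456 := ndS (p := 7278) (l := 3) rfl N7278 D10456
theorem N9542 : nd 9542 = n10457 := ndS (p := 7280) (l := 2) rfl N7280 D10457
theorem N9543 : nd 9543 = n10458 := ndS (p := 7280) (l := 4) rfl N7280 D10458
theorem N9544 : nd 9544 = n10459 := ndS (p := 7283) (l := 0) rfl N7283 D10459
theorem N9545 : nd 9545 = n10460 := ndS (p := 7283) (l := 2) rfl N7283 D10460
theorem N9546 : nd 9546 = n10461 := ndS (p := 7286) (l := 1) rfl N7286 D10461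
theorem N9547 : nd 9547 = n10462 := ndS (p := 7286) (l := 3) rfl N7286 D10462
theorem N9548 : nd 9548 = n10463 := ndS (p := 7286) (l := 4) rfl N7286 D10463
theorem N9549 : nd 9549 = n10464 := ndS (p := 7287) (l := 0) rfl N7287 D10464
theorem N9550 : nd 9550 = n10465 := ndS (p := 7287) (l := 3) rfl N7287 D10465
theorem N9551 : nd 9551 = n10466 := ndS (p := 7288) (l := 0) rfl N7288 D10466
theorem N9552 : nd 9552 = n10467 := ndS (p := 7288) (l := 4) rfl N7288 D10467
theorem N9553 : nd 9553 = n10468 := ndS (p := 7291) (l := 0) rfl N7291 D10468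
theorem N9554 : nd 9554 = n10469 := ndS (p := 7292) (l := 0) rfl N7292 D10469
theorem N9555 : nd 9555 = n10470 := ndS (p := 7292) (l := 4) rfl N7292 D10470
theorem N9556 : nd 9556 = n10471 := ndS (p := 7293) (l := 1) rfl N7293 D10471
theorem N9557 : nd 9557 = n10472 := ndS (p := 7293) (l := 3) rfl N7293 D10472
theorem N9558 : nd 9558 = n10473 := ndS (p := 7293) (l := 4) rfl N7293 D10473
theorem N9559 : nd 9559 = n10474 := ndS (p := 7295) (l := 0) rfl N7295 D10474
theorem N9560 : nd 9560 = n10475 := ndS (p := 7295) (l := 2) rfl N7295 D10475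
theorem N9561 : nd 9561 = n10476 := ndS (p := 7298) (l := 1) rfl N7298 D10476
theorem N9562 : nd 9562 = n10477 := ndS (p := 7298) (l := 2) rfl N7298 D10477
theorem N9563 : nd 9563 = n10478 := ndS (p := 7298) (l := 3) rfl N7298 D10478
theorem N9564 : nd 9564 = n10479 := ndS (p := 7299) (l := 0) rfl N7299 D10479
theorem N9565 : nd 9565 = n10480 := ndS (p := 7300) (l := 1) rfl N7300 D10480
theorem N9566 : nd 9566 = n10481 := ndS (p := 7301) (l := 0) rfl N7301 D10481
theorem N9567 : nd 9567 = n10482 := ndS (p := 7302) (l := 2) rfl N7302 D10482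
theorem N9568 : nd 9568 = n10483 := ndS (p := 7302) (l := 3) rfl N7302 D10483
theorem N9569 : nd 9569 = n10484 := ndS (p := 7303) (l := 0) rfl N7303 D10484
theorem N9570 : nd 9570 = n10485 := ndS (p := 7303) (l := 4) rfl N7303 D10485
theorem N9571 : nd 9571 = n10486 := ndS (p := 7304) (l := 3) rfl N7304 D10486
theorem N9572 : nd 9572 = n10487 := ndS (p := 7305) (l := 1) rfl N7305 D10487
theorem N9573 : nd 9573 = n10488 := ndS (p := 7305) (l := 3) rfl N7305 D10488
theorem N9574 : nd 9574 = n10489 := ndS (p := 7309) (l := 2) rfl N7309 D10489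
theorem N9575 : nd 9575 = n10490 := ndS (p := 7312) (l := 3) rfl N7312 D10490
theorem N9576 : nd 9576 = n10491 := ndS (p := 7313) (l := 1) rfl N7313 D10491
theorem N9577 : nd 9577 = n10492 := ndS (p := 7313) (l := 3) rfl N7313 D10492
theorem N9578 : nd 9578 = n10493 := ndS (p := 7315) (l := 0) rfl N7315 D10493
theorem N9579 : nd 9579 = n10494 := ndS (p := 7315) (l := 2) rfl N7315 D10494
theorem N9580 : nd 9580 = n10495 := ndS (p := 7315) (l := 3) rfl N7315 D10495
theorem N9581 : nd 9581 = n10496 := ndS (p := 7319) (l := 0) rfl N7319 D10496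
theorem N9582 : nd 9582 = n10497 := ndS (p := 7320) (l := 1) rfl N7320 D10497
theorem N9583 : nd 9583 = n10498 := ndS (p := 7320) (l := 2) rfl N7320 D10498
theorem N9584 : nd 9584 = n10499 := ndS (p := 7320) (l := 3) rfl N7320 D10499
theorem N9585 : nd 9585 = n10500 := ndS (p := 7321) (l := 0) rfl N7321 D10500
theorem N9586 : nd 9586 = n10501 := ndS (p := 7324) (l := 0) rfl N7324 D10501
theorem N9587 : nd 9587 = n10502 := ndS (p := 7324) (l := 4) rfl N7324 D10502
theorem N9588 : nd 9588 = n10503 := ndS (p := 7331) (l := 3) rfl N7331 D10503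
theorem N9589 : nd 9589 = n10504 := ndS (p := 7332) (l := 0) rfl N7332 D10504
theorem N9590 : nd 9590 = n10505 := ndS (p := 7333) (l := 4) rfl N7333 D10505
theorem N9591 : nd 9591 = n10506 := ndS (p := 7334) (l := 3) rfl N7334 D10506
theorem N9592 : nd 9592 = n10507 := ndS (p := 7335) (l := 0) rfl N7335 D10507
theorem N9593 : nd 9593 = n10508 := ndS (p := 7336) (l := 0) rfl N7336 D10508
theorem N9594 : nd 9594 = n10509 := ndS (p := 7337) (l := 1) rfl N7337 D10509
theorem N9595 : nd 9595 = n10510 := ndS (p := 7337) (l := 3) rfl N7337 D10510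
theorem N9596 : nd 9596 = n10511 := ndS (p := 7337) (l := 4) rfl N7337 D10511
theorem N9597 : nd 9597 = n10512 := ndS (p := 7338) (l := 0) rfl N7338 D10512
theorem N9598 : nd 9598 = n10513 := ndS (p := 7340) (l := 3) rfl N7340 D10513
theorem N9599 : nd 9599 = n10514 := ndS (p := 7342) (l := 4) rfl N7342 D10514
theorem N9600 : nd 9600 = n10515 := ndS (p := 7343) (l := 2) rfl N7343 D10515
theorem N9601 : nd 9601 = n10516 := ndS (p := 7346) (l := 3) rfl N7346 D10516
theorem N9602 : nd 9602 = n10517 := ndS (p := 7348) (l := 3) rfl N7348 D10517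
theorem N9603 : nd 9603 = n10518 := ndS (p := 7349) (l := 0) rfl N7349 D10518
theorem N9604 : nd 9604 = n10519 := ndS (p := 7350) (l := 2) rfl N7350 D10519
theorem N9605 : nd 9605 = n10520 := ndS (p := 7353) (l := 3) rfl N7353 D10520
theorem N9606 : nd 9606 = n10521 := ndS (p := 7354) (l := 3) rfl N7354 D10521
theorem N9607 : nd 9607 = n10522 := ndS (p := 7356) (l := 3) rfl N7356 D10522
theorem N9608 : nd 9608 = n10523 := ndS (p := 7361) (l := 3) rfl N7361 D10523
theorem N9609 : nd 9609 = n10524 := ndS (p := 7362) (l := 0) rfl N7362 D10524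
theorem N9610 : nd 9610 = n10525 := ndS (p := 7363) (l := 1) rfl N7363 D10525
theorem N9611 : nd 9611 = n10526 := ndS (p := 7363) (l := 3) rfl N7363 D10526
theorem N9612 : nd 9612 = n10527 := ndS (p := 7363) (l := 4) rfl N7363 D10527
theorem N9613 : nd 9613 = n10528 := ndS (p := 7365) (l := 0) rfl N7365 D10528
theorem N9614 : nd 9614 = n10529 := ndS (p := 7367) (l := 3) rfl N7367 D10529
theorem N9615 : nd 9615 = n10530 := ndS (p := 7369) (l := 0) rfl N7369 D10530
theorem N9616 : nd 9616 = n10531 := ndS (p := 7369) (l := 4) rfl N7369 D10531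
theorem N9617 : nd 9617 = n10532 := ndS (p := 7373) (l := 2) rfl N7373 D10532
theorem N9618 : nd 9618 = n10533 := ndS (p := 7375) (l := 3) rfl N7375 D10533
theorem N9619 : nd 9619 = n10534 := ndS (p := 7377) (l := 3) rfl N7377 D10534
theorem N9620 : nd 9620 = n10535 := ndS (p := 7378) (l := 0) rfl N7378 D10535
theorem N9621 : nd 9621 = n10536 := ndS (p := 7378) (l := 4) rfl N7378 D10536
theorem N9622 : nd 9622 = n10537 := ndS (p := 7379) (l := 3) rfl N7379 D10537
theorem N9623 : nd 9623 = n10538 := ndS (p := 7380) (l := 3) rfl N7380 D10538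
theorem N9624 : nd 9624 = n10539 := ndS (p := 7381) (l := 0) rfl N7381 D10539
theorem N9625 : nd 9625 = n10540 := ndS (p := 7388) (l := 1) rfl N7388 D10540
theorem N9626 : nd 9626 = n10541 := ndS (p := 7391) (l := 0) rfl N7391 D10541
theorem N9627 : nd 9627 = n10542 := ndS (p := 7398) (l := 2) rfl N7398 D10542
theorem N9628 : nd 9628 = n10543 := ndS (p := 7399) (l := 2) rfl N7399 D10543
theorem N9629 : nd 9629 = n10544 := ndS (p := 7402) (l := 0) rfl N7402 D10544
theorem N9630 : nd 9630 = n10545 := ndS (p := 7405) (l := 3) rfl N7405 D10545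
theorem N9631 : nd 9631 = n10546 := ndS (p := 7407) (l := 0) rfl N7407 D10546
theorem N9632 : nd 9632 = n10547 := ndS (p := 7408) (l := 0) rfl N7408 D10547
theorem N9633 : nd 9633 = n10548 := ndS (p := 7410) (l := 3) rfl N7410 D10548
theorem N9634 : nd 9634 = n10549 := ndS (p := 7411) (l := 0) rfl N7411 D10549
theorem N9635 : nd 9635 = n10550 := ndS (p := 7412) (l := 0) rfl N7412 D10550
theorem N9636 : nd 9636 = n10551 := ndS (p := 7415) (l := 2) rfl N7415 D10551
theorem N9637 : nd 9637 = n10552 := ndS (p := 7415) (l := 3) rfl N7415 D10552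
theorem N9638 : nd 9638 = n10553 := ndS (p := 7419) (l := 1) rfl N7419 D10553
theorem N9639 : nd 9639 = n10554 := ndS (p := 7423) (l := 1) rfl N7423 D10554
theorem N9640 : nd 9640 = n10555 := ndS (p := 7423) (l := 4) rfl N7423 D10555
theorem N9641 : nd 9641 = n10556 := ndS (p := 7424) (l := 0) rfl N7424 D10556
theorem N9642 : nd 9642 = n10557 := ndS (p := 7424) (l := 4) rfl N7424 D10557
theorem N9643 : nd 9643 = n10558 := ndS (p := 7426) (l := 2) rfl N7426 D10558
theorem N9644 : nd 9644 = n10559 := ndS (p := 7426) (l := 3) rfl N7426 D10559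
theorem N9645 : nd 9645 = n10560 := ndS (p := 7426) (l := 4) rfl N7426 D10560
theorem N9646 : nd 9646 = n10561 := ndS (p := 7427) (l := 4) rfl N7427 D10561
theorem N9647 : nd 9647 = n10562 := ndS (p := 7428) (l := 3) rfl N7428 D10562
theorem N9648 : nd 9648 = n10563 := ndS (p := 7429) (l := 4) rfl N7429 D10563
theorem N9649 : nd 9649 = n10564 := ndS (p := 7431) (l := 0) rfl N7431 D10564
theorem N9650 : nd 9650 = n10565 := ndS (p := 7431) (l := 4) rfl N7431 D10565
theorem N9651 : nd 9651 = n10566 := ndS (p := 7435) (l := 1) rfl N7435 D10566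
theorem N9652 : nd 9652 = n10567 := ndS (p := 7435) (l := 4) rfl N7435 D10567
theorem N9653 : nd 9653 = n10568 := ndS (p := 7444) (l := 4) rfl N7444 D10568
theorem N9654 : nd 9654 = n10569 := ndS (p := 7445) (l := 4) rfl N7445 D10569
theorem N9655 : nd 9655 = n10570 := ndS (p := 7446) (l := 1) rfl N7446 D10570
theorem N9656 : nd 9656 = n10571 := ndS (p := 7446) (l := 4) rfl N7446 D10571
theorem N9657 : nd 9657 = n10572 := ndS (p := 7448) (l := 1) rfl N7448 D10572
theorem N9658 : nd 9658 = n10573 := ndS (p := 7448) (l := 4) rfl N7448 D10573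
theorem N9659 : nd 9659 = n10574 := ndS (p := 7450) (l := 4) rfl N7450 D10574
theorem N9660 : nd 9660 = n10575 := ndS (p := 7451) (l := 2) rfl N7451 D10575
theorem N9661 : nd 9661 = n10576 := ndS (p := 7452) (l := 1) rfl N7452 D10576
theorem N9662 : nd 9662 = n10577 := ndS (p := 7455) (l := 2) rfl N7455 D10577
theorem N9663 : nd 9663 = n10578 := ndS (p := 7455) (l := 3) rfl N7455 D10578
theorem N9664 : nd 9664 = n10579 := ndS (p := 7455) (l := 4) rfl N7455 D10579
theorem N9665 : nd 9665 = n10580 := ndS (p := 7456) (l := 4) rfl N7456 D10580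
theorem N9666 : nd 9666 = n10581 := ndS (p := 7457) (l := 3) rfl N7457 D10581
theorem N9667 : nd 9667 = n10582 := ndS (p := 7467) (l := 2) rfl N7467 D10582
theorem N9668 : nd 9668 = n10583 := ndS (p := 7467) (l := 3) rfl N7467 D10583
theorem N9669 : nd 9669 = n10584 := ndS (p := 7467) (l := 4) rfl N7467 D10584
theorem N9670 : nd 9670 = n10585 := ndS (p := 7471) (l := 2) rfl N7471 D10585
theorem N9671 : nd 9671 = n10586 := ndS (p := 7474) (l := 2) rfl N7474 D10586
theorem N9672 : nd 9672 = n10587 := ndS (p := 7474) (l := 3) rfl N7474 D10587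
theorem N9673 : nd 9673 = n10588 := ndS (p := 7475) (l := 1) rfl N7475 D10588
theorem N9674 : nd 9674 = n10589 := ndS (p := 7475) (l := 3) rfl N7475 D10589
theorem N9675 : nd 9675 = n10590 := ndS (p := 7475) (l := 4) rfl N7475 D10590
theorem N9676 : nd 9676 = n10591 := ndS (p := 7476) (l := 4) rfl N7476 D10591
theorem N9677 : nd 9677 = n10592 := ndS (p := 7477) (l := 4) rfl N7477 D10592
theorem N9678 : nd 9678 = n10593 := ndS (p := 7478) (l := 4) rfl N7478 D10593
theorem N9679 : nd 9679 = n10594 := ndS (p := 7481) (l := 2) rfl N7481 D10594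
theorem N9680 : nd 9680 = n10595 := ndS (p := 7481) (l := 3) rfl N7481 D10595
theorem N9681 : nd 9681 = n10596 := ndS (p := 7482) (l := 4) rfl N7482 D10596
theorem N9682 : nd 9682 = n10597 := ndS (p := 7484) (l := 4) rfl N7484 D10597
theorem N9683 : nd 9683 = n10598 := ndS (p := 7486) (l := 2) rfl N7486 D10598
theorem N9684 : nd 9684 = n10599 := ndS (p := 7486) (l := 4) rfl N7486 D10599
theorem N9685 : nd 9685 = n10600 := ndS (p := 7488) (l := 4) rfl N7488 D10600
theorem N9686 : nd 9686 = n10601 := ndS (p := 7491) (l := 4) rfl N7491 D10601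
theorem N9687 : nd 9687 = n10602 := ndS (p := 7493) (l := 1) rfl N7493 D10602
theorem N9688 : nd 9688 = n10603 := ndS (p := 7493) (l := 2) rfl N7493 D10603
theorem N9689 : nd 9689 = n10604 := ndS (p := 7493) (l := 3) rfl N7493 D10604
theorem N9690 : nd 9690 = n10605 := ndS (p := 7494) (l := 0) rfl N7494 D10605
theorem N9691 : nd 9691 = n10606 := ndS (p := 7497) (l := 2) rfl N7497 D10606
theorem N9692 : nd 9692 = n10607 := ndS (p := 7498) (l := 3) rfl N7498 D10607
theorem N9693 : nd 9693 = n10608 := ndS (p := 7500) (l := 1) rfl N7500 D10608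
theorem N9694 : nd 9694 = n10609 := ndS (p := 7500) (l := 2) rfl N7500 D10609
theorem N9695 : nd 9695 = n10610 := ndS (p := 7500) (l := 3) rfl N7500 D10610
theorem N9696 : nd 9696 = n10611 := ndS (p := 7501) (l := 0) rfl N7501 D10611
theorem N9697 : nd 9697 = n10612 := ndS (p := 7502) (l := 3) rfl N7502 D10612
theorem N9698 : nd 9698 = n10613 := ndS (p := 7503) (l := 4) rfl N7503 D10613
theorem N9699 : nd 9699 = n10614 := ndS (p := 7504) (l := 2) rfl N7504 D10614
theorem N9700 : nd 9700 = n10615 := ndS (p := 7504) (l := 3) rfl N7504 D10615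
theorem N9701 : nd 9701 = n10616 := ndS (p := 7505) (l := 4) rfl N7505 D10616
theorem N9702 : nd 9702 = n10617 := ndS (p := 7506) (l := 3) rfl N7506 D10617
theorem N9703 : nd 9703 = n10618 := ndS (p := 7506) (l := 4) rfl N7506 D10618
theorem N9704 : nd 9704 = n10619 := ndS (p := 7507) (l := 4) rfl N7507 D10619
theorem N9705 : nd 9705 = n10620 := ndS (p := 7508) (l := 3) rfl N7508 D10620
theorem N9706 : nd 9706 = n10621 := ndS (p := 7510) (l := 0) rfl N7510 D10621
theorem N9707 : nd 9707 = n10622 := ndS (p := 7512) (l := 1) rfl N7512 D10622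
theorem N9708 : nd 9708 = n10623 := ndS (p := 7512) (l := 2) rfl N7512 D10623
theorem N9709 : nd 9709 = n10624 := ndS (p := 7512) (l := 3) rfl N7512 D10624
theorem N9710 : nd 9710 = n10625 := ndS (p := 7512) (l := 4) rfl N7512 D10625
theorem N9711 : nd 9711 = n10626 := ndS (p := 7513) (l := 2) rfl N7513 D10626
theorem N9712 : nd 9712 = n10627 := ndS (p := 7514) (l := 3) rfl N7514 D10627
theorem N9713 : nd 9713 = n10628 := ndS (p := 7515) (l := 0) rfl N7515 D10628
theorem N9714 : nd 9714 = n10629 := ndS (p := 7517) (l := 4) rfl N7517 D10629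
theorem N9715 : nd 9715 = n10630 := ndS (p := 7518) (l := 0) rfl N7518 D10630
theorem N9716 : nd 9716 = n10631 := ndS (p := 7532) (l := 2) rfl N7532 D10631
theorem N9717 : nd 9717 = n10632 := ndS (p := 7532) (l := 4) rfl N7532 D10632
theorem N9718 : nd 9718 = n10633 := ndS (p := 7533) (l := 3) rfl N7533 D10633
theorem N9719 : nd 9719 = n10634 := ndS (p := 7535) (l := 2) rfl N7535 D10634
theorem N9720 : nd 9720 = n10635 := ndS (p := 7536) (l := 4) rfl N7536 D10635
theorem N9721 : nd 9721 = n10636 := ndS (p := 7537) (l := 4) rfl N7537 D10636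
theorem N9722 : nd 9722 = n10637 := ndS (p := 7538) (l := 3) rfl N7538 D10637
theorem N9723 : nd 9723 = n10638 := ndS (p := 7538) (l := 4) rfl N7538 D10638
theorem N9724 : nd 9724 = n10639 := ndS (p := 7544) (l := 1) rfl N7544 D10639
theorem N9725 : nd 9725 = n10640 := ndS (p := 7544) (l := 2) rfl N7544 D10640
theorem N9726 : nd 9726 = n10641 := ndS (p := 7546) (l := 4) rfl N7546 D10641
theorem N9727 : nd 9727 = n10642 := ndS (p := 7547) (l := 0) rfl N7547 D10642
theorem N9728 : nd 9728 = n10643 := ndS (p := 7550) (l := 4) rfl N7550 D10643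
theorem N9729 : nd 9729 = n10644 := ndS (p := 7569) (l := 2) rfl N7569 D10644
theorem N9730 : nd 9730 = n10645 := ndS (p := 7570) (l := 0) rfl N7570 D10645
theorem N9731 : nd 9731 = n10646 := ndS (p := 7572) (l := 0) rfl N7572 D10646
theorem N9732 : nd 9732 = n10647 := ndS (p := 7573) (l := 2) rfl N7573 D10647
theorem N9733 : nd 9733 = n10648 := ndS (p := 7573) (l := 4) rfl N7573 D10648
theorem N9734 : nd 9734 = n10649 := ndS (p := 7575) (l := 2) rfl N7575 D10649
theorem N9735 : nd 9735 = n10650 := ndS (p := 7580) (l := 2) rfl N7580 D10650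
theorem N9736 : nd 9736 = n10651 := ndS (p := 7587) (l := 0) rfl N7587 D10651
theorem N9737 : nd 9737 = n10652 := ndS (p := 7590) (l := 0) rfl N7590 D10652
theorem N9738 : nd 9738 = n10653 := ndS (p := 7593) (l := 1) rfl N7593 D10653
theorem N9739 : nd 9739 = n10654 := ndS (p := 7593) (l := 4) rfl N7593 D10654
theorem N9740 : nd 9740 = n10655 := ndS (p := 7595) (l := 1) rfl N7595 D10655
theorem N9741 : nd 9741 = n10656 := ndS (p := 7595) (l := 4) rfl N7595 D10656
theorem N9742 : nd 9742 = n10657 := ndS (p := 7596) (l := 2) rfl N7596 D10657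
theorem N9743 : nd 9743 = n10658 := ndS (p := 7598) (l := 1) rfl N7598 D10658
theorem N9744 : nd 9744 = n10659 := ndS (p := 7598) (l := 4) rfl N7598 D10659
theorem N9745 : nd 9745 = n10660 := ndS (p := 7601) (l := 3) rfl N7601 D10660
theorem N9746 : nd 9746 = n10661 := ndS (p := 7608) (l := 1) rfl N7608 D10661
theorem N9747 : nd 9747 = n10662 := ndS (p := 7608) (l := 4) rfl N7608 D10662
theorem N9748 : nd 9748 = n10663 := ndS (p := 7611) (l := 2) rfl N7611 D10663
theorem N9749 : nd 9749 = n10664 := ndS (p := 7611) (l := 3) rfl N7611 D10664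
theorem N9750 : nd 9750 = n10665 := ndS (p := 7612) (l := 3) rfl N7612 D10665
theorem N9751 : nd 9751 = n10666 := ndS (p := 7613) (l := 4) rfl N7613 D10666
theorem N9752 : nd 9752 = n10667 := ndS (p := 7617) (l := 2) rfl N7617 D10667
theorem N9753 : nd 9753 = n10668 := ndS (p := 7621) (l := 3) rfl N7621 D10668
theorem N9754 : nd 9754 = n10669 := ndS (p := 7624) (l := 3) rfl N7624 D10669
theorem N9755 : nd 9755 = n10670 := ndS (p := 7626) (l := 4) rfl N7626 D10670
theorem N9756 : nd 9756 = n10671 := ndS (p := 7627) (l := 3) rfl N7627 D10671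
theorem N9757 : nd 9757 = n10672 := ndS (p := 7628) (l := 2) rfl N7628 D10672
theorem N9758 : nd 9758 = n10673 := ndS (p := 7629) (l := 1) rfl N7629 D10673
theorem N9759 : nd 9759 = n10674 := ndS (p := 7629) (l := 3) rfl N7629 D10674
theorem N9760 : nd 9760 = n10675 := ndS (p := 7629) (l := 4) rfl N7629 D10675
theorem N9761 : nd 9761 = n10676 := ndS (p := 7630) (l := 4) rfl N7630 D10676
theorem N9762 : nd 9762 = n10677 := ndS (p := 7631) (l := 1) rfl N7631 D10677
theorem N9763 : nd 9763 = n10678 := ndS (p := 7631) (l := 3) rfl N7631 D10678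
theorem N9764 : nd 9764 = n10679 := ndS (p := 7632) (l := 1) rfl N7632 D10679
theorem N9765 : nd 9765 = n10680 := ndS (p := 7632) (l := 3) rfl N7632 D10680
theorem N9766 : nd 9766 = n10681 := ndS (p := 7633) (l := 1) rfl N7633 D10681
theorem N9767 : nd 9767 = n10682 := ndS (p := 7633) (l := 4) rfl N7633 D10682
theorem N9768 : nd 9768 = n10683 := ndS (p := 7634) (l := 2) rfl N7634 D10683
theorem N9769 : nd 9769 = n10684 := ndS (p := 7637) (l := 4) rfl N7637 D10684
theorem N9770 : nd 9770 = n10685 := ndS (p := 7642) (l := 2) rfl N7642 D10685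
theorem N9771 : nd 9771 = n10686 := ndS (p := 7642) (l := 3) rfl N7642 D10686
theorem N9772 : nd 9772 = n10687 := ndS (p := 7643) (l := 4) rfl N7643 D10687
theorem N9773 : nd 9773 = n10688 := ndS (p := 7644) (l := 3) rfl N7644 D10688
theorem N9774 : nd 9774 = n10689 := ndS (p := 7645) (l := 2) rfl N7645 D10689
theorem N9775 : nd 9775 = n10690 := ndS (p := 7645) (l := 3) rfl N7645 D10690
theorem N9776 : nd 9776 = n10691 := ndS (p := 7652) (l := 4) rfl N7652 D10691
theorem N9777 : nd 9777 = n10692 := ndS (p := 7653) (l := 4) rfl N7653 D10692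
theorem N9778 : nd 9778 = n10693 := ndS (p := 7654) (l := 2) rfl N7654 D10693
theorem N9779 : nd 9779 = n10694 := ndS (p := 7654) (l := 3) rfl N7654 D10694
theorem N9780 : nd 9780 = n10695 := ndS (p := 7655) (l := 2) rfl N7655 D10695
theorem N9781 : nd 9781 = n10696 := ndS (p := 7656) (l := 0) rfl N7656 D10696
theorem N9782 : nd 9782 = n10697 := ndS (p := 7656) (l := 3) rfl N7656 D10697
theorem N9783 : nd 9783 = n10698 := ndS (p := 7658) (l := 3) rfl N7658 D10698
theorem N9784 : nd 9784 = n10699 := ndS (p := 7658) (l := 4) rfl N7658 D10699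
theorem N9785 : nd 9785 = n10700 := ndS (p := 7659) (l := 4) rfl N7659 D10700
theorem N9786 : nd 9786 = n10701 := ndS (p := 7660) (l := 2) rfl N7660 D10701
theorem N9787 : nd 9787 = n10702 := ndS (p := 7660) (l := 3) rfl N7660 D10702
theorem N9788 : nd 9788 = n10703 := ndS (p := 7664) (l := 4) rfl N7664 D10703
theorem N9789 : nd 9789 = n10704 := ndS (p := 7666) (l := 2) rfl N7666 D10704
theorem N9790 : nd 9790 = n10705 := ndS (p := 7667) (l := 1) rfl N7667 D10705
theorem N9791 : nd 9791 = n10706 := ndS (p := 7667) (l := 3) rfl N7667 D10706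
theorem N9792 : nd 9792 = n10707 := ndS (p := 7674) (l := 3) rfl N7674 D10707
theorem N9793 : nd 9793 = n10708 := ndS (p := 7674) (l := 4) rfl N7674 D10708
theorem N9794 : nd 9794 = n10709 := ndS (p := 7676) (l := 2) rfl N7676 D10709
theorem N9795 : nd 9795 = n10710 := ndS (p := 7677) (l := 0) rfl N7677 D10710
theorem N9796 : nd 9796 = n10711 := ndS (p := 7679) (l := 3) rfl N7679 D10711
theorem N9797 : nd 9797 = n10712 := ndS (p := 7682) (l := 0) rfl N7682 D10712
theorem N9798 : nd 9798 = n10713 := ndS (p := 7684) (l := 4) rfl N7684 D10713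
theorem N9799 : nd 9799 = n10714 := ndS (p := 7686) (l := 4) rfl N7686 D10714
theorem N9800 : nd 9800 = n10715 := ndS (p := 7687) (l := 4) rfl N7687 D10715
theorem N9801 : nd 9801 = n10716 := ndS (p := 7688) (l := 0) rfl N7688 D10716
theorem N9802 : nd 9802 = n10717 := ndS (p := 7688) (l := 4) rfl N7688 D10717
theorem N9803 : nd 9803 = n10718 := ndS (p := 7689) (l := 4) rfl N7689 D10718
theorem N9804 : nd 9804 = n10719 := ndS (p := 7693) (l := 0) rfl N7693 D10719
theorem N9805 : nd 9805 = n10720 := ndS (p := 7699) (l := 1) rfl N7699 D10720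
theorem N9806 : nd 9806 = n10721 := ndS (p := 7699) (l := 4) rfl N7699 D10721
theorem N9807 : nd 9807 = n10722 := ndS (p := 7706) (l := 1) rfl N7706 D10722
theorem N9808 : nd 9808 = n10723 := ndS (p := 7706) (l := 4) rfl N7706 D10723
theorem N9809 : nd 9809 = n10724 := ndS (p := 7713) (l := 1) rfl N7713 D10724
theorem N9810 : nd 9810 = n10725 := ndS (p := 7713) (l := 3) rfl N7713 D10725
theorem N9811 : nd 9811 = n10726 := ndS (p := 7721) (l := 1) rfl N7721 D10726
theorem N9812 : nd 9812 = n10727 := ndS (p := 7721) (l := 4) rfl N7721 D10727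
theorem N9813 : nd 9813 = n10728 := ndS (p := 7728) (l := 0) rfl N7728 D10728
theorem N9814 : nd 9814 = n10729 := ndS (p := 7730) (l := 1) rfl N7730 D10729
theorem N9815 : nd 9815 = n10730 := ndS (p := 7731) (l := 4) rfl N7731 D10730
theorem N9816 : nd 9816 = n10731 := ndS (p := 7732) (l := 0) rfl N7732 D10731
theorem N9817 : nd 9817 = n10732 := ndS (p := 7734) (l := 0) rfl N7734 D10732
theorem N9818 : nd 9818 = n10733 := ndS (p := 7734) (l := 4) rfl N7734 D10733
theorem N9819 : nd 9819 = n10734 := ndS (p := 7735) (l := 4) rfl N7735 D10734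
theorem N9820 : nd 9820 = n10735 := ndS (p := 7744) (l := 4) rfl N7744 D10735
theorem N9821 : nd 9821 = n10736 := ndS (p := 7746) (l := 0) rfl N7746 D10736
theorem N9822 : nd 9822 = n10737 := ndS (p := 7746) (l := 4) rfl N7746 D10737
theorem N9823 : nd 9823 = n10738 := ndS (p := 7747) (l := 4) rfl N7747 D10738
theorem N9824 : nd 9824 = n10739 := ndS (p := 7754) (l := 0) rfl N7754 D10739
theorem N9825 : nd 9825 = n10740 := ndS (p := 7754) (l := 4) rfl N7754 D10740
theorem N9826 : nd 9826 = n10741 := ndS (p := 7764) (l := 4) rfl N7764 D10741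
theorem N9827 : nd 9827 = n10742 := ndS (p := 7767) (l := 1) rfl N7767 D10742
theorem N9828 : nd 9828 = n10743 := ndS (p := 7767) (l := 3) rfl N7767 D10743
theorem N9829 : nd 9829 = n10744 := ndS (p := 7770) (l := 4) rfl N7770 D10744
theorem N9830 : nd 9830 = n10745 := ndS (p := 7771) (l := 0) rfl N7771 D10745
theorem N9831 : nd 9831 = n10746 := ndS (p := 7771) (l := 4) rfl N7771 D10746
theorem N9832 : nd 9832 = n10747 := ndS (p := 7778) (l := 2) rfl N7778 D10747
theorem N9833 : nd 9833 = n10748 := ndS (p := 7788) (l := 1) rfl N7788 D10748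
theorem N9834 : nd 9834 = n10749 := ndS (p := 7798) (l := 2) rfl N7798 D10749
theorem N9835 : nd 9835 = n10750 := ndS (p := 7799) (l := 2) rfl N7799 D10750
theorem N9836 : nd 9836 = n10751 := ndS (p := 7805) (l := 4) rfl N7805 D10751
theorem N9837 : nd 9837 = n10752 := ndS (p := 7806) (l := 1) rfl N7806 D10752
theorem N9838 : nd 9838 = n10753 := ndS (p := 7806) (l := 4) rfl N7806 D10753
theorem N9839 : nd 9839 = n10754 := ndS (p := 7807) (l := 0) rfl N7807 D10754
theorem N9840 : nd 9840 = n10755 := ndS (p := 7807) (l := 2) rfl N7807 D10755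
theorem N9841 : nd 9841 = n10756 := ndS (p := 7807) (l := 3) rfl N7807 D10756
theorem N9842 : nd 9842 = n10757 := ndS (p := 7807) (l := 4) rfl N7807 D10757
theorem N9843 : nd 9843 = n10758 := ndS (p := 7808) (l := 4) rfl N7808 D10758
theorem N9844 : nd 9844 = n10759 := ndS (p := 7811) (l := 2) rfl N7811 D10759
theorem N9845 : nd 9845 = n10760 := ndS (p := 7811) (l := 4) rfl N7811 D10760
theorem N9846 : nd 9846 = n10761 := ndS (p := 7812) (l := 4) rfl N7812 D10761
theorem N9847 : nd 9847 = n10762 := ndS (p := 7813) (l := 3) rfl N7813 D10762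
theorem N9848 : nd 9848 = n10763 := ndS (p := 7814) (l := 1) rfl N7814 D10763
theorem N9849 : nd 9849 = n10764 := ndS (p := 7814) (l := 3) rfl N7814 D10764
theorem N9850 : nd 9850 = n10765 := ndS (p := 7817) (l := 1) rfl N7817 D10765
theorem N9851 : nd 9851 = n10766 := ndS (p := 7817) (l := 3) rfl N7817 D10766
theorem N9852 : nd 9852 = n10767 := ndS (p := 7817) (l := 4) rfl N7817 D10767
theorem N9853 : nd 9853 = n10768 := ndS (p := 7819) (l := 2) rfl N7819 D10768
theorem N9854 : nd 9854 = n10769 := ndS (p := 7819) (l := 4) rfl N7819 D10769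
theorem N9855 : nd 9855 = n10770 := ndS (p := 7822) (l := 0) rfl N7822 D10770
theorem N9856 : nd 9856 = n10771 := ndS (p := 7822) (l := 2) rfl N7822 D10771
theorem N9857 : nd 9857 = n10772 := ndS (p := 7822) (l := 4) rfl N7822 D10772
theorem N9858 : nd 9858 = n10773 := ndS (p := 7824) (l := 1) rfl N7824 D10773
theorem N9859 : nd 9859 = n10774 := ndS (p := 7828) (l := 2) rfl N7828 D10774
theorem N9860 : nd 9860 = n10775 := ndS (p := 7830) (l := 4) rfl N7830 D10775
theorem N9861 : nd 9861 = n10776 := ndS (p := 7831) (l := 4) rfl N7831 D10776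
theorem N9862 : nd 9862 = n10777 := ndS (p := 7833) (l := 4) rfl N7833 D10777
theorem N9863 : nd 9863 = n10778 := ndS (p := 7835) (l := 1) rfl N7835 D10778
theorem N9864 : nd 9864 = n10779 := ndS (p := 7835) (l := 4) rfl N7835 D10779
theorem N9865 : nd 9865 = n10780 := ndS (p := 7836) (l := 0) rfl N7836 D10780
theorem N9866 : nd 9866 = n10781 := ndS (p := 7837) (l := 4) rfl N7837 D10781
theorem N9867 : nd 9867 = n10782 := ndS (p := 7838) (l := 2) rfl N7838 D10782
theorem N9868 : nd 9868 = n10783 := ndS (p := 7840) (l := 1) rfl N7840 D10783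
theorem N9869 : nd 9869 = n10784 := ndS (p := 7840) (l := 3) rfl N7840 D10784
theorem N9870 : nd 9870 = n10785 := ndS (p := 7840) (l := 4) rfl N7840 D10785
theorem N9871 : nd 9871 = n10786 := ndS (p := 7841) (l := 4) rfl N7841 D10786
theorem N9872 : nd 9872 = n10787 := ndS (p := 7842) (l := 2) rfl N7842 D10787
theorem N9873 : nd 9873 = n10788 := ndS (p := 7842) (l := 3) rfl N7842 D10788
theorem N9874 : nd 9874 = n10789 := ndS (p := 7847) (l := 2) rfl N7847 D10789
theorem N9875 : nd 9875 = n10790 := ndS (p := 7848) (l := 1) rfl N7848 D10790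
theorem N9876 : nd 9876 = n10791 := ndS (p := 7848) (l := 3) rfl N7848 D10791
theorem N9877 : nd 9877 = n10792 := ndS (p := 7848) (l := 4) rfl N7848 D10792
theorem N9878 : nd 9878 = n10793 := ndS (p := 7849) (l := 4) rfl N7849 D10793
theorem N9879 : nd 9879 = n10794 := ndS (p := 7854) (l := 1) rfl N7854 D10794
theorem N9880 : nd 9880 = n10795 := ndS (p := 7854) (l := 3) rfl N7854 D10795
theorem N9881 : nd 9881 = n10796 := ndS (p := 7854) (l := 4) rfl N7854 D10796
theorem N9882 : nd 9882 = n10797 := ndS (p := 7858) (l := 2) rfl N7858 D10797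
theorem N9883 : nd 9883 = n10798 := ndS (p := 7859) (l := 0) rfl N7859 D10798
theorem N9884 : nd 9884 = n10799 := ndS (p := 7860) (l := 1) rfl N7860 D10799
theorem N9885 : nd 9885 = n10800 := ndS (p := 7860) (l := 3) rfl N7860 D10800
theorem N9886 : nd 9886 = n10801 := ndS (p := 7860) (l := 4) rfl N7860 D10801
theorem N9887 : nd 9887 = n10802 := ndS (p := 7862) (l := 2) rfl N7862 D10802
theorem N9888 : nd 9888 = n10803 := ndS (p := 7866) (l := 1) rfl N7866 D10803
theorem N9889 : nd 9889 = n10804 := ndS (p := 7866) (l := 4) rfl N7866 D10804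
theorem N9890 : nd 9890 = n10805 := ndS (p := 7867) (l := 0) rfl N7867 D10805
theorem N9891 : nd 9891 = n10806 := ndS (p := 7868) (l := 2) rfl N7868 D10806
theorem N9892 : nd 9892 = n10807 := ndS (p := 7869) (l := 0) rfl N7869 D10807
theorem N9893 : nd 9893 = n10808 := ndS (p := 7869) (l := 2) rfl N7869 D10808
theorem N9894 : nd 9894 = n10809 := ndS (p := 7874) (l := 4) rfl N7874 D10809
theorem N9895 : nd 9895 = n10810 := ndS (p := 7877) (l := 1) rfl N7877 D10810
theorem N9896 : nd 9896 = n10811 := ndS (p := 7877) (l := 4) rfl N7877 D10811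
theorem N9897 : nd 9897 = n10812 := ndS (p := 7878) (l := 4) rfl N7878 D10812
theorem N9898 : nd 9898 = n10813 := ndS (p := 7881) (l := 1) rfl N7881 D10813
theorem N9899 : nd 9899 = n10814 := ndS (p := 7881) (l := 4) rfl N7881 D10814
theorem N9900 : nd 9900 = n10815 := ndS (p := 7884) (l := 4) rfl N7884 D10815
theorem N9901 : nd 9901 = n10816 := ndS (p := 7890) (l := 3) rfl N7890 D10816
theorem N9902 : nd 9902 = n10817 := ndS (p := 7902) (l := 4) rfl N7902 D10817
theorem N9903 : nd 9903 = n10818 := ndS (p := 7907) (l := 3) rfl N7907 D10818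
theorem N9904 : nd 9904 = n10819 := ndS (p := 7907) (l := 4) rfl N7907 D10819
theorem N9905 : nd 9905 = n10820 := ndS (p := 7909) (l := 4) rfl N7909 D10820
theorem N9906 : nd 9906 = n10821 := ndS (p := 7911) (l := 0) rfl N7911 D10821
theorem N9907 : nd 9907 = n10822 := ndS (p := 7911) (l := 4) rfl N7911 D10822
theorem N9908 : nd 9908 = n10823 := ndS (p := 7914) (l := 0) rfl N7914 D10823
theorem N9909 : nd 9909 = n10824 := ndS (p := 7914) (l := 4) rfl N7914 D10824
theorem N9910 : nd 9910 = n10825 := ndS (p := 7919) (l := 3) rfl N7919 D10825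
theorem N9911 : nd 9911 = n10826 := ndS (p := 7920) (l := 4) rfl N7920 D10826
theorem N9912 : nd 9912 = n10827 := ndS (p := 7921) (l := 3) rfl N7921 D10827
theorem N9913 : nd 9913 = n10828 := ndS (p := 7924) (l := 0) rfl N7924 D10828
theorem N9914 : nd 9914 = n10829 := ndS (p := 7925) (l := 4) rfl N7925 D10829
theorem N9915 : nd 9915 = n10830 := ndS (p := 7934) (l := 3) rfl N7934 D10830
theorem N9916 : nd 9916 = n10831 := ndS (p := 7937) (l := 4) rfl N7937 D10831
theorem N9917 : nd 9917 = n10832 := ndS (p := 7938) (l := 2) rfl N7938 D10832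
theorem N9918 : nd 9918 = n10833 := ndS (p := 7942) (l := 0) rfl N7942 D10833
theorem N9919 : nd 9919 = n10834 := ndS (p := 7942) (l := 3) rfl N7942 D10834
theorem N9920 : nd 9920 = n10835 := ndS (p := 7942) (l := 4) rfl N7942 D10835
theorem N9921 : nd 9921 = n10836 := ndS (p := 7943) (l := 4) rfl N7943 D10836
theorem N9922 : nd 9922 = n10837 := ndS (p := 7947) (l := 0) rfl N7947 D10837
theorem N9923 : nd 9923 = n10838 := ndS (p := 7947) (l := 4) rfl N7947 D10838
theorem N9924 : nd 9924 = n10839 := ndS (p := 7952) (l := 4) rfl N7952 D10839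
theorem N9925 : nd 9925 = n10840 := ndS (p := 7953) (l := 1) rfl N7953 D10840
theorem N9926 : nd 9926 = n10841 := ndS (p := 7953) (l := 4) rfl N7953 D10841
theorem N9927 : nd 9927 = n10842 := ndS (p := 7954) (l := 0) rfl N7954 D10842
theorem N9928 : nd 9928 = n10843 := ndS (p := 7954) (l := 3) rfl N7954 D10843
theorem N9929 : nd 9929 = n10844 := ndS (p := 7954) (l := 4) rfl N7954 D10844
theorem N9930 : nd 9930 = n10845 := ndS (p := 7955) (l := 4) rfl N7955 D10845
theorem N9931 : nd 9931 = n10846 := ndS (p := 7958) (l := 0) rfl N7958 D10846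
theorem N9932 : nd 9932 = n10847 := ndS (p := 7958) (l := 3) rfl N7958 D10847
theorem N9933 : nd 9933 = n10848 := ndS (p := 7958) (l := 4) rfl N7958 D10848
theorem N9934 : nd 9934 = n10849 := ndS (p := 7959) (l := 4) rfl N7959 D10849
theorem N9935 : nd 9935 = n10850 := ndS (p := 7960) (l := 3) rfl N7960 D10850
theorem N9936 : nd 9936 = n10851 := ndS (p := 7963) (l := 0) rfl N7963 D10851
theorem N9937 : nd 9937 = n10852 := ndS (p := 7963) (l := 3) rfl N7963 D10852
theorem N9938 : nd 9938 = n10853 := ndS (p := 7963) (l := 4) rfl N7963 D10853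
theorem N9939 : nd 9939 = n10854 := ndS (p := 7968) (l := 0) rfl N7968 D10854
theorem N9940 : nd 9940 = n10855 := ndS (p := 7968) (l := 4) rfl N7968 D10855
theorem N9941 : nd 9941 = n10856 := ndS (p := 7971) (l := 4) rfl N7971 D10856
theorem N9942 : nd 9942 = n10857 := ndS (p := 7973) (l := 4) rfl N7973 D10857
theorem N9943 : nd 9943 = n10858 := ndS (p := 7975) (l := 4) rfl N7975 D10858
theorem N9944 : nd 9944 = n10859 := ndS (p := 7978) (l := 4) rfl N7978 D10859
theorem N9945 : nd 9945 = n10860 := ndS (p := 7979) (l := 3) rfl N7979 D10860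
theorem N9946 : nd 9946 = n10861 := ndS (p := 7986) (l := 3) rfl N7986 D10861
theorem N9947 : nd 9947 = n10862 := ndS (p := 7989) (l := 2) rfl N7989 D10862
theorem N9948 : nd 9948 = n10863 := ndS (p := 7990) (l := 3) rfl N7990 D10863
theorem N9949 : nd 9949 = n10864 := ndS (p := 7994) (l := 2) rfl N7994 D10864
theorem N9950 : nd 9950 = n10865 := ndS (p := 7995) (l := 0) rfl N7995 D10865
theorem N9951 : nd 9951 = n10866 := ndS (p := 7995) (l := 1) rfl N7995 D10866
theorem N9952 : nd 9952 = n10867 := ndS (p := 7996) (l := 3) rfl N7996 D10867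
theorem N9953 : nd 9953 = n10868 := ndS (p := 7997) (l := 0) rfl N7997 D10868
theorem N9954 : nd 9954 = n10869 := ndS (p := 7998) (l := 2) rfl N7998 D10869
theorem N9955 : nd 9955 = n10870 := ndS (p := 8002) (l := 4) rfl N8002 D10870
theorem N9956 : nd 9956 = n10871 := ndS (p := 8003) (l := 3) rfl N8003 D10871
theorem N9957 : nd 9957 = n10872 := ndS (p := 8007) (l := 4) rfl N8007 D10872
theorem N9958 : nd 9958 = n10873 := ndS (p := 8008) (l := 0) rfl N8008 D10873
theorem N9959 : nd 9959 = n10874 := ndS (p := 8012) (l := 1) rfl N8012 D10874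
theorem N9960 : nd 9960 = n10875 := ndS (p := 8016) (l := 4) rfl N8016 D10875
theorem N9961 : nd 9961 = n10876 := ndS (p := 8019) (l := 4) rfl N8019 D10876
theorem N9962 : nd 9962 = n10877 := ndS (p := 8020) (l := 0) rfl N8020 D10877
theorem N9963 : nd 9963 = n10878 := ndS (p := 8022) (l := 1) rfl N8022 D10878
theorem N9964 : nd 9964 = n10879 := ndS (p := 8026) (l := 2) rfl N8026 D10879
theorem N9965 : nd 9965 = n10880 := ndS (p := 8028) (l := 1) rfl N8028 D10880
theorem N9966 : nd 9966 = n10881 := ndS (p := 8044) (l := 4) rfl N8044 D10881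
theorem N9967 : nd 9967 = n10882 := ndS (p := 8046) (l := 1) rfl N8046 D10882
theorem N9968 : nd 9968 = n10883 := ndS (p := 8046) (l := 4) rfl N8046 D10883
theorem N9969 : nd 9969 = n10884 := ndS (p := 8047) (l := 2) rfl N8047 D10884
theorem N9970 : nd 9970 = n10885 := ndS (p := 8047) (l := 4) rfl N8047 D10885
theorem N9971 : nd 9971 = n10886 := ndS (p := 8049) (l := 2) rfl N8049 D10886
theorem N9972 : nd 9972 = n10887 := ndS (p := 8050) (l := 3) rfl N8050 D10887
theorem N9973 : nd 9973 = n10888 := ndS (p := 8050) (l := 4) rfl N8050 D10888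
theorem N9974 : nd 9974 = n10889 := ndS (p := 8056) (l := 1) rfl N8056 D10889
theorem N9975 : nd 9975 = n10890 := ndS (p := 8056) (l := 4) rfl N8056 D10890
theorem N9976 : nd 9976 = n10891 := ndS (p := 8057) (l := 1) rfl N8057 D10891
theorem N9977 : nd 9977 = n10892 := ndS (p := 8057) (l := 4) rfl N8057 D10892
theorem N9978 : nd 9978 = n10893 := ndS (p := 8058) (l := 2) rfl N8058 D10893
theorem N9979 : nd 9979 = n10894 := ndS (p := 8059) (l := 4) rfl N8059 D10894
theorem N9980 : nd 9980 = n10895 := ndS (p := 8061) (l := 3) rfl N8061 D10895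
theorem N9981 : nd 9981 = n10896 := ndS (p := 8062) (l := 4) rfl N8062 D10896
theorem N9982 : nd 9982 = n10897 := ndS (p := 8069) (l := 3) rfl N8069 D10897
theorem N9983 : nd 9983 = n10898 := ndS (p := 8075) (l := 4) rfl N8075 D10898
theorem N9984 : nd 9984 = n10899 := ndS (p := 8082) (l := 4) rfl N8082 D10899
theorem N9985 : nd 9985 = n10900 := ndS (p := 8089) (l := 0) rfl N8089 D10900
theorem N9986 : nd 9986 = n10901 := ndS (p := 8089) (l := 2) rfl N8089 D10901
theorem N9987 : nd 9987 = n10902 := ndS (p := 8089) (l := 3) rfl N8089 D10902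
theorem N9988 : nd 9988 = n10903 := ndS (p := 8090) (l := 4) rfl N8090 D10903
theorem N9989 : nd 9989 = n10904 := ndS (p := 8092) (l := 3) rfl N8092 D10904
theorem N9990 : nd 9990 = n10905 := ndS (p := 8096) (l := 0) rfl N8096 D10905
theorem N9991 : nd 9991 = n10906 := ndS (p := 8096) (l := 2) rfl N8096 D10906
theorem N9992 : nd 9992 = n10907 := ndS (p := 8096) (l := 3) rfl N8096 D10907
theorem N9993 : nd 9993 = n10908 := ndS (p := 8099) (l := 1) rfl N8099 D10908
theorem N9994 : nd 9994 = n10909 := ndS (p := 8099) (l := 3) rfl N8099 D10909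
theorem N9995 : nd 9995 = n10910 := ndS (p := 8099) (l := 4) rfl N8099 D10910
theorem N9996 : nd 9996 = n10911 := ndS (p := 8101) (l := 2) rfl N8101 D10911
theorem N9997 : nd 9997 = n10912 := ndS (p := 8101) (l := 3) rfl N8101 D10912
theorem N9998 : nd 9998 = n10913 := ndS (p := 8101) (l := 4) rfl N8101 D10913
theorem N9999 : nd 9999 = n10914 := ndS (p := 8102) (l := 0) rfl N8102 D10914
theorem N10000 : nd 10000 = n10915 := ndS (p := 8104) (l := 2) rfl N8104 D10915

end Cfsg.Agent.Helper17.HCPTC
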