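import Cfsg.Agent.Helper17.HCPTC.Fin1

set_option autoImplicit false
set_option linter.all false
set_option maxRecDepth 100000

noncomputable section

namespace Cfsg.Agent.Helper17.HCPTC

theorem N10001 : nd 10001 = n10916 := ndS (p := 8105) (l := 2) rfl N8105 D10916
theorem N10002 : nd 10002 = n10917 := ndS (p := 8105) (l := 3) rfl N8105 D10917
theorem N10003 : nd 10003 = n10918 := ndS (p := 8106) (l := 0) rfl N8106 D10918
theorem N10004 : nd 10004 = n10919 := ndS (p := 8107) (l := 1) rfl N8107 D10919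
theorem N10005 : nd 10005 = n10920 := ndS (p := 8107) (l := 2) rfl N8107 D10920
theorem N10006 : nd 10006 = n10921 := ndS (p := 8107) (l := 3) rfl N8107 D10921
theorem N10007 : nd 10007 = n10922 := ndS (p := 8107) (l := 4) rfl N8107 D10922
theorem N10008 : nd 10008 = n10923 := ndS (p := 8108) (l := 0) rfl N8108 D10923
theorem N10009 : nd 10009 = n10924 := ndS (p := 8108) (l := 1) rfl N8108 D10924
theorem N10010 : nd 10010 = n10925 := ndS (p := 8108) (l := 3) rfl N8108 D10925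
theorem N10011 : nd 10011 = n10926 := ndS (p := 8109) (l := 0) rfl N8109 D10926
theorem N10012 : nd 10012 = n10927 := ndS (p := 8114) (l := 3) rfl N8114 D10927
theorem N10013 : nd 10013 = n10928 := ndS (p := 8117) (l := 3) rfl N8117 D10928
theorem N10014 : nd 10014 = n10929 := ndS (p := 8118) (l := 0) rfl N8118 D10929
theorem N10015 : nd 10015 = n10930 := ndS (p := 8118) (l := 4) rfl N8118 D10930
theorem N10016 : nd 10016 = n10931 := ndS (p := 8122) (l := 2) rfl N8122 D10931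
theorem N10017 : nd 10017 = n10932 := ndS (p := 8124) (l := 3) rfl N8124 D10932
theorem N10018 : nd 10018 = n10933 := ndS (p := 8126) (l := 0) rfl N8126 D10933
theorem N10019 : nd 10019 = n10934 := ndS (p := 8127) (l := 3) rfl N8127 D10934
theorem N10020 : nd 10020 = n10935 := ndS (p := 8131) (l := 2) rfl N8131 D10935
theorem N10021 : nd 10021 = n10936 := ndS (p := 8131) (l := 3) rfl N8131 D10936
theorem N10022 : nd 10022 = n10937 := ndS (p := 8131) (l := 4) rfl N8131 D10937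
theorem N10023 : nd 10023 = n10938 := ndS (p := 8132) (l := 0) rfl N8132 D10938
theorem N10024 : nd 10024 = n10939 := ndS (p := 8132) (l := 1) rfl N8132 D10939
theorem N10025 : nd 10025 = n10940 := ndS (p := 8132) (l := 3) rfl N8132 D10940
theorem N10026 : nd 10026 = n10941 := ndS (p := 8133) (l := 0) rfl N8133 D10941
theorem N10027 : nd 10027 = n10942 := ndS (p := 8135) (l := 1) rfl N8135 D10942
theorem N10028 : nd 10028 = n10943 := ndS (p := 8135) (l := 4) rfl N8135 D10943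
theorem N10029 : nd 10029 = n10944 := ndS (p := 8137) (l := 2) rfl N8137 D10944
theorem N10030 : nd 10030 = n10945 := ndS (p := 8137) (l := 4) rfl N8137 D10945
theorem N10031 : nd 10031 = n10946 := ndS (p := 8139) (l := 2) rfl N8139 D10946
theorem N10032 : nd 10032 = n10947 := ndS (p := 8139) (l := 3) rfl N8139 D10947
theorem N10033 : nd 10033 = n10948 := ndS (p := 8140) (l := 0) rfl N8140 D10948
theorem N10034 : nd 10034 = n10949 := ndS (p := 8145) (l := 2) rfl N8145 D10949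
theorem N10035 : nd 10035 = n10950 := ndS (p := 8146) (l := 0) rfl N8146 D10950
theorem N10036 : nd 10036 = n10951 := ndS (p := 8146) (l := 3) rfl N8146 D10951
theorem N10037 : nd 10037 = n10952 := ndS (p := 8146) (l := 4) rfl N8146 D10952
theorem N10038 : nd 10038 = n10953 := ndS (p := 8147) (l := 4) rfl N8147 D10953
theorem N10039 : nd 10039 = n10954 := ndS (p := 8148) (l := 1) rfl N8148 D10954
theorem N10040 : nd 10040 = n10955 := ndS (p := 8148) (l := 3) rfl N8148 D10955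
theorem N10041 : nd 10041 = n10956 := ndS (p := 8148) (l := 4) rfl N8148 D10956
theorem N10042 : nd 10042 = n10957 := ndS (p := 8150) (l := 0) rfl N8150 D10957
theorem N10043 : nd 10043 = n10958 := ndS (p := 8154) (l := 0) rfl N8154 D10958
theorem N10044 : nd 10044 = n10959 := ndS (p := 8156) (l := 0) rfl N8156 D10959
theorem N10045 : nd 10045 = n10960 := ndS (p := 8160) (l := 2) rfl N8160 D10960
theorem N10046 : nd 10046 = n10961 := ndS (p := 8161) (l := 4) rfl N8161 D10961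
theorem N10047 : nd 10047 = n10962 := ndS (p := 8162) (l := 3) rfl N8162 D10962
theorem N10048 : nd 10048 = n10963 := ndS (p := 8162) (l := 4) rfl N8162 D10963
theorem N10049 : nd 10049 = n10964 := ndS (p := 8163) (l := 0) rfl N8163 D10964
theorem N10050 : nd 10050 = n10965 := ndS (p := 8168) (l := 2) rfl N8168 D10965
theorem N10051 : nd 10051 = n10966 := ndS (p := 8169) (l := 2) rfl N8169 D10966
theorem N10052 : nd 10052 = n10967 := ndS (p := 8170) (l := 3) rfl N8170 D10967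
theorem N10053 : nd 10053 = n10968 := ndS (p := 8172) (l := 0) rfl N8172 D10968
theorem N10054 : nd 10054 = n10969 := ndS (p := 8173) (l := 4) rfl N8173 D10969
theorem N10055 : nd 10055 = n10970 := ndS (p := 8174) (l := 3) rfl N8174 D10970
theorem N10056 : nd 10056 = n10971 := ndS (p := 8177) (l := 4) rfl N8177 D10971
theorem N10057 : nd 10057 = n10972 := ndS (p := 8180) (l := 1) rfl N8180 D10972
theorem N10058 : nd 10058 = n10973 := ndS (p := 8180) (l := 3) rfl N8180 D10973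
theorem N10059 : nd 10059 = n10974 := ndS (p := 8182) (l := 0) rfl N8182 D10974
theorem N10060 : nd 10060 = n10975 := ndS (p := 8190) (l := 2) rfl N8190 D10975
theorem N10061 : nd 10061 = n10976 := ndS (p := 8191) (l := 4) rfl N8191 D10976
theorem N10062 : nd 10062 = n10977 := ndS (p := 8192) (l := 4) rfl N8192 D10977
theorem N10063 : nd 10063 = n10978 := ndS (p := 8193) (l := 0) rfl N8193 D10978
theorem N10064 : nd 10064 = n10979 := ndS (p := 8199) (l := 0) rfl N8199 D10979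
theorem N10065 : nd 10065 = n10980 := ndS (p := 8202) (l := 2) rfl N8202 D10980
theorem N10066 : nd 10066 = n10981 := ndS (p := 8204) (l := 0) rfl N8204 D10981
theorem N10067 : nd 10067 = n10982 := ndS (p := 8204) (l := 2) rfl N8204 D10982
theorem N10068 : nd 10068 = n10983 := ndS (p := 8210) (l := 0) rfl N8210 D10983
theorem N10069 : nd 10069 = n10984 := ndS (p := 8210) (l := 2) rfl N8210 D10984
theorem N10070 : nd 10070 = n10985 := ndS (p := 8213) (l := 0) rfl N8213 D10985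
theorem N10071 : nd 10071 = n10986 := ndS (p := 8213) (l := 4) rfl N8213 D10986
theorem N10072 : nd 10072 = n10987 := ndS (p := 8214) (l := 1) rfl N8214 D10987
theorem N10073 : nd 10073 = n10988 := ndS (p := 8214) (l := 3) rfl N8214 D10988
theorem N10074 : nd 10074 = n10989 := ndS (p := 8214) (l := 4) rfl N8214 D10989
theorem N10075 : nd 10075 = n10990 := ndS (p := 8217) (l := 2) rfl N8217 D10990
theorem N10076 : nd 10076 = n10991 := ndS (p := 8218) (l := 0) rfl N8218 D10991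
theorem N10077 : nd 10077 = n10992 := ndS (p := 8219) (l := 3) rfl N8219 D10992
theorem N10078 : nd 10078 = n10993 := ndS (p := 8220) (l := 0) rfl N8220 D10993
theorem N10079 : nd 10079 = n10994 := ndS (p := 8221) (l := 2) rfl N8221 D10994
theorem N10080 : nd 10080 = n10995 := ndS (p := 8221) (l := 4) rfl N8221 D10995
theorem N10081 : nd 10081 = n10996 := ndS (p := 8223) (l := 3) rfl N8223 D10996
theorem N10082 : nd 10082 = n10997 := ndS (p := 8224) (l := 2) rfl N8224 D10997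
theorem N10083 : nd 10083 = n10998 := ndS (p := 8224) (l := 4) rfl N8224 D10998
theorem N10084 : nd 10084 = n10999 := ndS (p := 8226) (l := 3) rfl N8226 D10999
theorem N10085 : nd 10085 = n11000 := ndS (p := 8230) (l := 2) rfl N8230 D11000
theorem N10086 : nd 10086 = n11001 := ndS (p := 8230) (l := 3) rfl N8230 D11001
theorem N10087 : nd 10087 = n11002 := ndS (p := 8233) (l := 4) rfl N8233 D11002
theorem N10088 : nd 10088 = n11003 := ndS (p := 8235) (l := 4) rfl N8235 D11003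
theorem N10089 : nd 10089 = n11004 := ndS (p := 8239) (l := 3) rfl N8239 D11004
theorem N10090 : nd 10090 = n11005 := ndS (p := 8240) (l := 4) rfl N8240 D11005
theorem N10091 : nd 10091 = n11006 := ndS (p := 8241) (l := 3) rfl N8241 D11006
theorem N10092 : nd 10092 = n11007 := ndS (p := 8245) (l := 2) rfl N8245 D11007
theorem N10093 : nd 10093 = n11008 := ndS (p := 8247) (l := 0) rfl N8247 D11008
theorem N10094 : nd 10094 = n11009 := ndS (p := 8260) (l := 2) rfl N8260 D11009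
theorem N10095 : nd 10095 = n11010 := ndS (p := 8262) (l := 0) rfl N8262 D11010
theorem N10096 : nd 10096 = n11011 := ndS (p := 8271) (l := 3) rfl N8271 D11011
theorem N10097 : nd 10097 = n11012 := ndS (p := 8278) (l := 4) rfl N8278 D11012
theorem N10098 : nd 10098 = n11013 := ndS (p := 8284) (l := 2) rfl N8284 D11013
theorem N10099 : nd 10099 = n11014 := ndS (p := 8289) (l := 1) rfl N8289 D11014
theorem N10100 : nd 10100 = n11015 := ndS (p := 8289) (l := 2) rfl N8289 D11015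
theorem N10101 : nd 10101 = n11016 := ndS (p := 8293) (l := 2) rfl N8293 D11016
theorem N10102 : nd 10102 = n11017 := ndS (p := 8293) (l := 4) rfl N8293 D11017
theorem N10103 : nd 10103 = n11018 := ndS (p := 8294) (l := 2) rfl N8294 D11018
theorem N10104 : nd 10104 = n11019 := ndS (p := 8295) (l := 0) rfl N8295 D11019
theorem N10105 : nd 10105 = n11020 := ndS (p := 8295) (l := 3) rfl N8295 D11020
theorem N10106 : nd 10106 = n11021 := ndS (p := 8296) (l := 0) rfl N8296 D11021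
theorem N10107 : nd 10107 = n11022 := ndS (p := 8298) (l := 2) rfl N8298 D11022
theorem N10108 : nd 10108 = n11023 := ndS (p := 8298) (l := 3) rfl N8298 D11023
theorem N10109 : nd 10109 = n11024 := ndS (p := 8299) (l := 2) rfl N8299 D11024
theorem N10110 : nd 10110 = n11025 := ndS (p := 8307) (l := 3) rfl N8307 D11025
theorem N10111 : nd 10111 = n11026 := ndS (p := 8311) (l := 2) rfl N8311 D11026
theorem N10112 : nd 10112 = n11027 := ndS (p := 8312) (l := 0) rfl N8312 D11027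
theorem N10113 : nd 10113 = n11028 := ndS (p := 8314) (l := 2) rfl N8314 D11028
theorem N10114 : nd 10114 = n11029 := ndS (p := 8314) (l := 3) rfl N8314 D11029
theorem N10115 : nd 10115 = n11030 := ndS (p := 8320) (l := 4) rfl N8320 D11030
theorem N10116 : nd 10116 = n11031 := ndS (p := 8324) (l := 3) rfl N8324 D11031
theorem N10117 : nd 10117 = n11032 := ndS (p := 8326) (l := 2) rfl N8326 D11032
theorem N10118 : nd 10118 = n11033 := ndS (p := 8329) (l := 0) rfl N8329 D11033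
theorem N10119 : nd 10119 = n11034 := ndS (p := 8329) (l := 4) rfl N8329 D11034
theorem N10120 : nd 10120 = n11035 := ndS (p := 8331) (l := 3) rfl N8331 D11035
theorem N10121 : nd 10121 = n11036 := ndS (p := 8331) (l := 4) rfl N8331 D11036
theorem N10122 : nd 10122 = n11037 := ndS (p := 8332) (l := 4) rfl N8332 D11037
theorem N10123 : nd 10123 = n11038 := ndS (p := 8333) (l := 3) rfl N8333 D11038
theorem N10124 : nd 10124 = n11039 := ndS (p := 8337) (l := 0) rfl N8337 D11039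
theorem N10125 : nd 10125 = n11040 := ndS (p := 8337) (l := 4) rfl N8337 D11040
theorem N10126 : nd 10126 = n11041 := ndS (p := 8342) (l := 2) rfl N8342 D11041
theorem N10127 : nd 10127 = n11042 := ndS (p := 8344) (l := 1) rfl N8344 D11042
theorem N10128 : nd 10128 = n11043 := ndS (p := 8346) (l := 0) rfl N8346 D11043
theorem N10129 : nd 10129 = n11044 := ndS (p := 8350) (l := 2) rfl N8350 D11044
theorem N10130 : nd 10130 = n11045 := ndS (p := 8354) (l := 2) rfl N8354 D11045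
theorem N10131 : nd 10131 = n11046 := ndS (p := 8360) (l := 2) rfl N8360 D11046
theorem N10132 : nd 10132 = n11047 := ndS (p := 8364) (l := 4) rfl N8364 D11047
theorem N10133 : nd 10133 = n11048 := ndS (p := 8365) (l := 2) rfl N8365 D11048
theorem N10134 : nd 10134 = n11049 := ndS (p := 8365) (l := 3) rfl N8365 D11049
theorem N10135 : nd 10135 = n11050 := ndS (p := 8375) (l := 2) rfl N8375 D11050
theorem N10136 : nd 10136 = n11051 := ndS (p := 8379) (l := 2) rfl N8379 D11051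
theorem N10137 : nd 10137 = n11052 := ndS (p := 8385) (l := 1) rfl N8385 D11052
theorem N10138 : nd 10138 = n11053 := ndS (p := 8385) (l := 4) rfl N8385 D11053
theorem N10139 : nd 10139 = n11054 := ndS (p := 8387) (l := 1) rfl N8387 D11054
theorem N10140 : nd 10140 = n11055 := ndS (p := 8387) (l := 4) rfl N8387 D11055
theorem N10141 : nd 10141 = n11056 := ndS (p := 8392) (l := 1) rfl N8392 D11056
theorem N10142 : nd 10142 = n11057 := ndS (p := 8392) (l := 4) rfl N8392 D11057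
theorem N10143 : nd 10143 = n11058 := ndS (p := 8394) (l := 4) rfl N8394 D11058
theorem N10144 : nd 10144 = n11059 := ndS (p := 8395) (l := 1) rfl N8395 D11059
theorem N10145 : nd 10145 = n11060 := ndS (p := 8395) (l := 4) rfl N8395 D11060
theorem N10146 : nd 10146 = n11061 := ndS (p := 8398) (l := 4) rfl N8398 D11061
theorem N10147 : nd 10147 = n11062 := ndS (p := 8400) (l := 4) rfl N8400 D11062
theorem N10148 : nd 10148 = n11063 := ndS (p := 8405) (l := 2) rfl N8405 D11063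
theorem N10149 : nd 10149 = n11064 := ndS (p := 8406) (l := 2) rfl N8406 D11064
theorem N10150 : nd 10150 = n11065 := ndS (p := 8407) (l := 0) rfl N8407 D11065
theorem N10151 : nd 10151 = n11066 := ndS (p := 8408) (l := 4) rfl N8408 D11066
theorem N10152 : nd 10152 = n11067 := ndS (p := 8409) (l := 4) rfl N8409 D11067
theorem N10153 : nd 10153 = n11068 := ndS (p := 8413) (l := 1) rfl N8413 D11068
theorem N10154 : nd 10154 = n11069 := ndS (p := 8414) (l := 3) rfl N8414 D11069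
theorem N10155 : nd 10155 = n11070 := ndS (p := 8414) (l := 4) rfl N8414 D11070
theorem N10156 : nd 10156 = n11071 := ndS (p := 8417) (l := 3) rfl N8417 D11071
theorem N10157 : nd 10157 = n11072 := ndS (p := 8419) (l := 2) rfl N8419 D11072
theorem N10158 : nd 10158 = n11073 := ndS (p := 8420) (l := 1) rfl N8420 D11073
theorem N10159 : nd 10159 = n11074 := ndS (p := 8422) (l := 3) rfl N8422 D11074
theorem N10160 : nd 10160 = n11075 := ndS (p := 8425) (l := 2) rfl N8425 D11075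
theorem N10161 : nd 10161 = n11076 := ndS (p := 8427) (l := 0) rfl N8427 D11076
theorem N10162 : nd 10162 = n11077 := ndS (p := 8427) (l := 4) rfl N8427 D11077
theorem N10163 : nd 10163 = n11078 := ndS (p := 8428) (l := 4) rfl N8428 D11078
theorem N10164 : nd 10164 = n11079 := ndS (p := 8432) (l := 0) rfl N8432 D11079
theorem N10165 : nd 10165 = n11080 := ndS (p := 8433) (l := 1) rfl N8433 D11080
theorem N10166 : nd 10166 = n11081 := ndS (p := 8436) (l := 2) rfl N8436 D11081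
theorem N10167 : nd 10167 = n11082 := ndS (p := 8437) (l := 3) rfl N8437 D11082
theorem N10168 : nd 10168 = n11083 := ndS (p := 8437) (l := 4) rfl N8437 D11083
theorem N10169 : nd 10169 = n11084 := ndS (p := 8439) (l := 1) rfl N8439 D11084
theorem N10170 : nd 10170 = n11085 := ndS (p := 8439) (l := 3) rfl N8439 D11085
theorem N10171 : nd 10171 = n11086 := ndS (p := 8439) (l := 4) rfl N8439 D11086
theorem N10172 : nd 10172 = n11087 := ndS (p := 8441) (l := 2) rfl N8441 D11087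
theorem N10173 : nd 10173 = n11088 := ndS (p := 8442) (l := 1) rfl N8442 D11088
theorem N10174 : nd 10174 = n11089 := ndS (p := 8442) (l := 4) rfl N8442 D11089
theorem N10175 : nd 10175 = n11090 := ndS (p := 8443) (l := 3) rfl N8443 D11090
theorem N10176 : nd 10176 = n11091 := ndS (p := 8443) (l := 4) rfl N8443 D11091
theorem N10177 : nd 10177 = n11092 := ndS (p := 8444) (l := 0) rfl N8444 D11092
theorem N10178 : nd 10178 = n11093 := ndS (p := 8444) (l := 3) rfl N8444 D11093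
theorem N10179 : nd 10179 = n11094 := ndS (p := 8445) (l := 4) rfl N8445 D11094
theorem N10180 : nd 10180 = n11096 := ndS (p := 8447) (l := 2) rfl N8447 D11096
theorem N10181 : nd 10181 = n11097 := ndS (p := 8448) (l := 4) rfl N8448 D11097
theorem N10182 : nd 10182 = n11098 := ndS (p := 8449) (l := 3) rfl N8449 D11098
theorem N10183 : nd 10183 = n11099 := ndS (p := 8450) (l := 4) rfl N8450 D11099
theorem N10184 : nd 10184 = n11100 := ndS (p := 8451) (l := 3) rfl N8451 D11100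
theorem N10185 : nd 10185 = n11101 := ndS (p := 8453) (l := 0) rfl N8453 D11101
theorem N10186 : nd 10186 = n11102 := ndS (p := 8454) (l := 3) rfl N8454 D11102
theorem N10187 : nd 10187 = n11103 := ndS (p := 8454) (l := 4) rfl N8454 D11103
theorem N10188 : nd 10188 = n11104 := ndS (p := 8455) (l := 3) rfl N8455 D11104
theorem N10189 : nd 10189 = n11105 := ndS (p := 8455) (l := 4) rfl N8455 D11105
theorem N10190 : nd 10190 = n11106 := ndS (p := 8456) (l := 4) rfl N8456 D11106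
theorem N10191 : nd 10191 = n11108 := ndS (p := 8457) (l := 3) rfl N8457 D11108
theorem N10192 : nd 10192 = n11109 := ndS (p := 8458) (l := 0) rfl N8458 D11109
theorem N10193 : nd 10193 = n11110 := ndS (p := 8459) (l := 0) rfl N8459 D11110
theorem N10194 : nd 10194 = n11111 := ndS (p := 8461) (l := 1) rfl N8461 D11111
theorem N10195 : nd 10195 = n11113 := ndS (p := 8463) (l := 4) rfl N8463 D11113
theorem N10196 : nd 10196 = n11114 := ndS (p := 8464) (l := 3) rfl N8464 D11114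
theorem N10197 : nd 10197 = n11115 := ndS (p := 8465) (l := 0) rfl N8465 D11115
theorem N10198 : nd 10198 = n11116 := ndS (p := 8465) (l := 4) rfl N8465 D11116
theorem N10199 : nd 10199 = n11117 := ndS (p := 8466) (l := 1) rfl N8466 D11117
theorem N10200 : nd 10200 = n11118 := ndS (p := 8466) (l := 3) rfl N8466 D11118
theorem N10201 : nd 10201 = n11119 := ndS (p := 8467) (l := 4) rfl N8467 D11119
theorem N10202 : nd 10202 = n11120 := ndS (p := 8468) (l := 3) rfl N8468 D11120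
theorem N10203 : nd 10203 = n11121 := ndS (p := 8469) (l := 2) rfl N8469 D11121
theorem N10204 : nd 10204 = n11122 := ndS (p := 8469) (l := 3) rfl N8469 D11122
theorem N10205 : nd 10205 = n11123 := ndS (p := 8470) (l := 4) rfl N8470 D11123
theorem N10206 : nd 10206 = n11124 := ndS (p := 8471) (l := 4) rfl N8471 D11124
theorem N10207 : nd 10207 = n11125 := ndS (p := 8473) (l := 2) rfl N8473 D11125
theorem N10208 : nd 10208 = n11126 := ndS (p := 8476) (l := 0) rfl N8476 D11126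
theorem N10209 : nd 10209 = n11127 := ndS (p := 8477) (l := 0) rfl N8477 D11127
theorem N10210 : nd 10210 = n11128 := ndS (p := 8478) (l := 0) rfl N8478 D11128
theorem N10211 : nd 10211 = n11129 := ndS (p := 8484) (l := 0) rfl N8484 D11129
theorem N10212 : nd 10212 = n11130 := ndS (p := 8486) (l := 3) rfl N8486 D11130
theorem N10213 : nd 10213 = n11131 := ndS (p := 8488) (l := 0) rfl N8488 D11131
theorem N10214 : nd 10214 = n11132 := ndS (p := 8492) (l := 4) rfl N8492 D11132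
theorem N10215 : nd 10215 = n11133 := ndS (p := 8493) (l := 3) rfl N8493 D11133
theorem N10216 : nd 10216 = n11134 := ndS (p := 8501) (l := 4) rfl N8501 D11134
theorem N10217 : nd 10217 = n11135 := ndS (p := 8506) (l := 1) rfl N8506 D11135
theorem N10218 : nd 10218 = n11136 := ndS (p := 8509) (l := 0) rfl N8509 D11136
theorem N10219 : nd 10219 = n11137 := ndS (p := 8518) (l := 0) rfl N8518 D11137
theorem N10220 : nd 10220 = n11138 := ndS (p := 8519) (l := 0) rfl N8519 D11138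
theorem N10221 : nd 10221 = n11139 := ndS (p := 8520) (l := 4) rfl N8520 D11139
theorem N10222 : nd 10222 = n11140 := ndS (p := 8523) (l := 3) rfl N8523 D11140
theorem N10223 : nd 10223 = n11141 := ndS (p := 8525) (l := 1) rfl N8525 D11141
theorem N10224 : nd 10224 = n11142 := ndS (p := 8525) (l := 3) rfl N8525 D11142
theorem N10225 : nd 10225 = n11143 := ndS (p := 8528) (l := 1) rfl N8528 D11143
theorem N10226 : nd 10226 = n11144 := ndS (p := 8528) (l := 3) rfl N8528 D11144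
theorem N10227 : nd 10227 = n11145 := ndS (p := 8538) (l := 0) rfl N8538 D11145
theorem N10228 : nd 10228 = n11146 := ndS (p := 8540) (l := 4) rfl N8540 D11146
theorem N10229 : nd 10229 = n11147 := ndS (p := 8542) (l := 0) rfl N8542 D11147
theorem N10230 : nd 10230 = n11148 := ndS (p := 8543) (l := 0) rfl N8543 D11148
theorem N10231 : nd 10231 = n11149 := ndS (p := 8545) (l := 3) rfl N8545 D11149
theorem N10232 : nd 10232 = n11150 := ndS (p := 8547) (l := 4) rfl N8547 D11150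
theorem N10233 : nd 10233 = n11151 := ndS (p := 8550) (l := 4) rfl N8550 D11151
theorem N10234 : nd 10234 = n11152 := ndS (p := 8551) (l := 1) rfl N8551 D11152
theorem N10235 : nd 10235 = n11153 := ndS (p := 8552) (l := 4) rfl N8552 D11153
theorem N10236 : nd 10236 = n11155 := ndS (p := 8559) (l := 3) rfl N8559 D11155
theorem N10237 : nd 10237 = n11156 := ndS (p := 8563) (l := 4) rfl N8563 D11156
theorem N10238 : nd 10238 = n11157 := ndS (p := 8571) (l := 4) rfl N8571 D11157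
theorem N10239 : nd 10239 = n11158 := ndS (p := 8583) (l := 2) rfl N8583 D11158
theorem N10240 : nd 10240 = n11159 := ndS (p := 8586) (l := 4) rfl N8586 D11159
theorem N10241 : nd 10241 = n11160 := ndS (p := 8587) (l := 2) rfl N8587 D11160
theorem N10242 : nd 10242 = n11161 := ndS (p := 8588) (l := 4) rfl N8588 D11161
theorem N10243 : nd 10243 = n11162 := ndS (p := 8590) (l := 2) rfl N8590 D11162
theorem N10244 : nd 10244 = n11163 := ndS (p := 8593) (l := 2) rfl N8593 D11163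
theorem N10245 : nd 10245 = n11164 := ndS (p := 8594) (l := 1) rfl N8594 D11164
theorem N10246 : nd 10246 = n11165 := ndS (p := 8594) (l := 4) rfl N8594 D11165
theorem N10247 : nd 10247 = n11166 := ndS (p := 8595) (l := 4) rfl N8595 D11166
theorem N10248 : nd 10248 = n11167 := ndS (p := 8597) (l := 2) rfl N8597 D11167
theorem N10249 : nd 10249 = n11168 := ndS (p := 8598) (l := 4) rfl N8598 D11168
theorem N10250 : nd 10250 = n11169 := ndS (p := 8599) (l := 3) rfl N8599 D11169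
theorem N10251 : nd 10251 = n11170 := ndS (p := 8602) (l := 2) rfl N8602 D11170
theorem N10252 : nd 10252 = n11171 := ndS (p := 8604) (l := 1) rfl N8604 D11171
theorem N10253 : nd 10253 = n11172 := ndS (p := 8605) (l := 4) rfl N8605 D11172
theorem N10254 : nd 10254 = n11173 := ndS (p := 8607) (l := 2) rfl N8607 D11173
theorem N10255 : nd 10255 = n11174 := ndS (p := 8611) (l := 1) rfl N8611 D11174
theorem N10256 : nd 10256 = n11175 := ndS (p := 8611) (l := 4) rfl N8611 D11175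
theorem N10257 : nd 10257 = n11176 := ndS (p := 8612) (l := 0) rfl N8612 D11176
theorem N10258 : nd 10258 = n11177 := ndS (p := 8613) (l := 1) rfl N8613 D11177
theorem N10259 : nd 10259 = n11178 := ndS (p := 8613) (l := 3) rfl N8613 D11178
theorem N10260 : nd 10260 = n11179 := ndS (p := 8615) (l := 4) rfl N8615 D11179
theorem N10261 : nd 10261 = n11180 := ndS (p := 8616) (l := 0) rfl N8616 D11180
theorem N10262 : nd 10262 = n11181 := ndS (p := 8616) (l := 4) rfl N8616 D11181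
theorem N10263 : nd 10263 = n11182 := ndS (p := 8619) (l := 4) rfl N8619 D11182
theorem N10264 : nd 10264 = n11183 := ndS (p := 8622) (l := 4) rfl N8622 D11183
theorem N10265 : nd 10265 = n11184 := ndS (p := 8623) (l := 0) rfl N8623 D11184
theorem N10266 : nd 10266 = n11185 := ndS (p := 8623) (l := 4) rfl N8623 D11185
theorem N10267 : nd 10267 = n11186 := ndS (p := 8624) (l := 2) rfl N8624 D11186
theorem N10268 : nd 10268 = n11187 := ndS (p := 8625) (l := 1) rfl N8625 D11187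
theorem N10269 : nd 10269 = n11188 := ndS (p := 8630) (l := 1) rfl N8630 D11188
theorem N10270 : nd 10270 = n11189 := ndS (p := 8630) (l := 4) rfl N8630 D11189
theorem N10271 : nd 10271 = n11190 := ndS (p := 8631) (l := 0) rfl N8631 D11190
theorem N10272 : nd 10272 = n11191 := ndS (p := 8634) (l := 1) rfl N8634 D11191
theorem N10273 : nd 10273 = n11192 := ndS (p := 8634) (l := 4) rfl N8634 D11192
theorem N10274 : nd 10274 = n11193 := ndS (p := 8636) (l := 1) rfl N8636 D11193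
theorem N10275 : nd 10275 = n11194 := ndS (p := 8636) (l := 4) rfl N8636 D11194
theorem N10276 : nd 10276 = n11195 := ndS (p := 8638) (l := 3) rfl N8638 D11195
theorem N10277 : nd 10277 = n11196 := ndS (p := 8639) (l := 4) rfl N8639 D11196
theorem N10278 : nd 10278 = n11197 := ndS (p := 8643) (l := 2) rfl N8643 D11197
theorem N10279 : nd 10279 = n11198 := ndS (p := 8646) (l := 2) rfl N8646 D11198
theorem N10280 : nd 10280 = n11199 := ndS (p := 8647) (l := 1) rfl N8647 D11199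
theorem N10281 : nd 10281 = n11200 := ndS (p := 8647) (l := 3) rfl N8647 D11200
theorem N10282 : nd 10282 = n11201 := ndS (p := 8648) (l := 4) rfl N8648 D11201
theorem N10283 : nd 10283 = n11202 := ndS (p := 8649) (l := 3) rfl N8649 D11202
theorem N10284 : nd 10284 = n11203 := ndS (p := 8650) (l := 2) rfl N8650 D11203
theorem N10285 : nd 10285 = n11204 := ndS (p := 8653) (l := 3) rfl N8653 D11204
theorem N10286 : nd 10286 = n11205 := ndS (p := 8655) (l := 3) rfl N8655 D11205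
theorem N10287 : nd 10287 = n11206 := ndS (p := 8657) (l := 1) rfl N8657 D11206
theorem N10288 : nd 10288 = n11207 := ndS (p := 8660) (l := 4) rfl N8660 D11207
theorem N10289 : nd 10289 = n11208 := ndS (p := 8661) (l := 4) rfl N8661 D11208
theorem N10290 : nd 10290 = n11209 := ndS (p := 8662) (l := 2) rfl N8662 D11209
theorem N10291 : nd 10291 = n11210 := ndS (p := 8663) (l := 4) rfl N8663 D11210
theorem N10292 : nd 10292 = n11211 := ndS (p := 8672) (l := 2) rfl N8672 D11211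
theorem N10293 : nd 10293 = n11212 := ndS (p := 8678) (l := 1) rfl N8678 D11212
theorem N10294 : nd 10294 = n11213 := ndS (p := 8678) (l := 4) rfl N8678 D11213
theorem N10295 : nd 10295 = n11214 := ndS (p := 8680) (l := 4) rfl N8680 D11214
theorem N10296 : nd 10296 = n11215 := ndS (p := 8681) (l := 1) rfl N8681 D11215
theorem N10297 : nd 10297 = n11216 := ndS (p := 8681) (l := 4) rfl N8681 D11216
theorem N10298 : nd 10298 = n11217 := ndS (p := 8682) (l := 3) rfl N8682 D11217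
theorem N10299 : nd 10299 = n11218 := ndS (p := 8683) (l := 4) rfl N8683 D11218
theorem N10300 : nd 10300 = n11219 := ndS (p := 8686) (l := 2) rfl N8686 D11219
theorem N10301 : nd 10301 = n11220 := ndS (p := 8691) (l := 2) rfl N8691 D11220
theorem N10302 : nd 10302 = n11221 := ndS (p := 8694) (l := 1) rfl N8694 D11221
theorem N10303 : nd 10303 = n11222 := ndS (p := 8694) (l := 4) rfl N8694 D11222
theorem N10304 : nd 10304 = n11223 := ndS (p := 8695) (l := 2) rfl N8695 D11223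
theorem N10305 : nd 10305 = n11224 := ndS (p := 8712) (l := 4) rfl N8712 D11224
theorem N10306 : nd 10306 = n11225 := ndS (p := 8715) (l := 4) rfl N8715 D11225
theorem N10307 : nd 10307 = n11226 := ndS (p := 8716) (l := 2) rfl N8716 D11226
theorem N10308 : nd 10308 = n11227 := ndS (p := 8717) (l := 1) rfl N8717 D11227
theorem N10309 : nd 10309 = n11228 := ndS (p := 8717) (l := 3) rfl N8717 D11228
theorem N10310 : nd 10310 = n11229 := ndS (p := 8718) (l := 0) rfl N8718 D11229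
theorem N10311 : nd 10311 = n11230 := ndS (p := 8719) (l := 4) rfl N8719 D11230
theorem N10312 : nd 10312 = n11231 := ndS (p := 8720) (l := 2) rfl N8720 D11231
theorem N10313 : nd 10313 = n11232 := ndS (p := 8721) (l := 0) rfl N8721 D11232
theorem N10314 : nd 10314 = n11233 := ndS (p := 8721) (l := 1) rfl N8721 D11233
theorem N10315 : nd 10315 = n11234 := ndS (p := 8721) (l := 4) rfl N8721 D11234
theorem N10316 : nd 10316 = n11235 := ndS (p := 8722) (l := 4) rfl N8722 D11235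
theorem N10317 : nd 10317 = n11236 := ndS (p := 8723) (l := 3) rfl N8723 D11236
theorem N10318 : nd 10318 = n11237 := ndS (p := 8724) (l := 0) rfl N8724 D11237
theorem N10319 : nd 10319 = n11238 := ndS (p := 8724) (l := 4) rfl N8724 D11238
theorem N10320 : nd 10320 = n11239 := ndS (p := 8726) (l := 2) rfl N8726 D11239
theorem N10321 : nd 10321 = n11240 := ndS (p := 8728) (l := 4) rfl N8728 D11240
theorem N10322 : nd 10322 = n11241 := ndS (p := 8729) (l := 3) rfl N8729 D11241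
theorem N10323 : nd 10323 = n11242 := ndS (p := 8730) (l := 4) rfl N8730 D11242
theorem N10324 : nd 10324 = n11243 := ndS (p := 8731) (l := 3) rfl N8731 D11243
theorem N10325 : nd 10325 = n11244 := ndS (p := 8733) (l := 0) rfl N8733 D11244
theorem N10326 : nd 10326 = n11245 := ndS (p := 8736) (l := 4) rfl N8736 D11245
theorem N10327 : nd 10327 = n11246 := ndS (p := 8741) (l := 4) rfl N8741 D11246
theorem N10328 : nd 10328 = n11247 := ndS (p := 8744) (l := 0) rfl N8744 D11247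
theorem N10329 : nd 10329 = n11248 := ndS (p := 8744) (l := 1) rfl N8744 D11248
theorem N10330 : nd 10330 = n11249 := ndS (p := 8745) (l := 3) rfl N8745 D11249
theorem N10331 : nd 10331 = n11250 := ndS (p := 8746) (l := 0) rfl N8746 D11250
theorem N10332 : nd 10332 = n11251 := ndS (p := 8746) (l := 4) rfl N8746 D11251
theorem N10333 : nd 10333 = n11252 := ndS (p := 8750) (l := 1) rfl N8750 D11252
theorem N10334 : nd 10334 = n11253 := ndS (p := 8754) (l := 3) rfl N8754 D11253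
theorem N10335 : nd 10335 = n11254 := ndS (p := 8758) (l := 2) rfl N8758 D11254
theorem N10336 : nd 10336 = n11255 := ndS (p := 8760) (l := 1) rfl N8760 D11255
theorem N10337 : nd 10337 = n11256 := ndS (p := 8760) (l := 4) rfl N8760 D11256
theorem N10338 : nd 10338 = n11257 := ndS (p := 8769) (l := 1) rfl N8769 D11257
theorem N10339 : nd 10339 = n11258 := ndS (p := 8770) (l := 3) rfl N8770 D11258
theorem N10340 : nd 10340 = n11259 := ndS (p := 8775) (l := 2) rfl N8775 D11259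
theorem N10341 : nd 10341 = n11260 := ndS (p := 8779) (l := 3) rfl N8779 D11260
theorem N10342 : nd 10342 = n11261 := ndS (p := 8779) (l := 4) rfl N8779 D11261
theorem N10343 : nd 10343 = n11262 := ndS (p := 8780) (l := 4) rfl N8780 D11262
theorem N10344 : nd 10344 = n11263 := ndS (p := 8781) (l := 3) rfl N8781 D11263
theorem N10345 : nd 10345 = n11264 := ndS (p := 8782) (l := 2) rfl N8782 D11264
theorem N10346 : nd 10346 = n11265 := ndS (p := 8783) (l := 1) rfl N8783 D11265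
theorem N10347 : nd 10347 = n11266 := ndS (p := 8783) (l := 3) rfl N8783 D11266
theorem N10348 : nd 10348 = n11267 := ndS (p := 8783) (l := 4) rfl N8783 D11267
theorem N10349 : nd 10349 = n11268 := ndS (p := 8785) (l := 4) rfl N8785 D11268
theorem N10350 : nd 10350 = n11269 := ndS (p := 8787) (l := 4) rfl N8787 D11269
theorem N10351 : nd 10351 = n11270 := ndS (p := 8788) (l := 3) rfl N8788 D11270
theorem N10352 : nd 10352 = n11271 := ndS (p := 8790) (l := 4) rfl N8790 D11271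
theorem N10353 : nd 10353 = n11272 := ndS (p := 8793) (l := 1) rfl N8793 D11272
theorem N10354 : nd 10354 = n11273 := ndS (p := 8793) (l := 4) rfl N8793 D11273
theorem N10355 : nd 10355 = n11274 := ndS (p := 8794) (l := 1) rfl N8794 D11274
theorem N10356 : nd 10356 = n11275 := ndS (p := 8799) (l := 1) rfl N8799 D11275
theorem N10357 : nd 10357 = n11276 := ndS (p := 8799) (l := 4) rfl N8799 D11276
theorem N10358 : nd 10358 = n11277 := ndS (p := 8801) (l := 1) rfl N8801 D11277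
theorem N10359 : nd 10359 = n11278 := ndS (p := 8801) (l := 4) rfl N8801 D11278
theorem N10360 : nd 10360 = n11279 := ndS (p := 8804) (l := 1) rfl N8804 D11279
theorem N10361 : nd 10361 = n11280 := ndS (p := 8806) (l := 0) rfl N8806 D11280
theorem N10362 : nd 10362 = n11281 := ndS (p := 8806) (l := 3) rfl N8806 D11281
theorem N10363 : nd 10363 = n11282 := ndS (p := 8806) (l := 4) rfl N8806 D11282
theorem N10364 : nd 10364 = n11283 := ndS (p := 8809) (l := 4) rfl N8809 D11283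
theorem N10365 : nd 10365 = n11284 := ndS (p := 8815) (l := 4) rfl N8815 D11284
theorem N10366 : nd 10366 = n11285 := ndS (p := 8819) (l := 4) rfl N8819 D11285
theorem N10367 : nd 10367 = n11286 := ndS (p := 8827) (l := 3) rfl N8827 D11286
theorem N10368 : nd 10368 = n11287 := ndS (p := 8837) (l := 2) rfl N8837 D11287
theorem N10369 : nd 10369 = n11288 := ndS (p := 8838) (l := 3) rfl N8838 D11288
theorem N10370 : nd 10370 = n11289 := ndS (p := 8841) (l := 0) rfl N8841 D11289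
theorem N10371 : nd 10371 = n11290 := ndS (p := 8842) (l := 0) rfl N8842 D11290
theorem N10372 : nd 10372 = n11291 := ndS (p := 8843) (l := 0) rfl N8843 D11291
theorem N10373 : nd 10373 = n11292 := ndS (p := 8843) (l := 2) rfl N8843 D11292
theorem N10374 : nd 10374 = n11293 := ndS (p := 8848) (l := 4) rfl N8848 D11293
theorem N10375 : nd 10375 = n11294 := ndS (p := 8849) (l := 1) rfl N8849 D11294
theorem N10376 : nd 10376 = n11295 := ndS (p := 8851) (l := 0) rfl N8851 D11295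
theorem N10377 : nd 10377 = n11296 := ndS (p := 8851) (l := 4) rfl N8851 D11296
theorem N10378 : nd 10378 = n11297 := ndS (p := 8859) (l := 4) rfl N8859 D11297
theorem N10379 : nd 10379 = n11298 := ndS (p := 8860) (l := 4) rfl N8860 D11298
theorem N10380 : nd 10380 = n11299 := ndS (p := 8861) (l := 3) rfl N8861 D11299
theorem N10381 : nd 10381 = n11300 := ndS (p := 8864) (l := 4) rfl N8864 D11300
theorem N10382 : nd 10382 = n11301 := ndS (p := 8866) (l := 4) rfl N8866 D11301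
theorem N10383 : nd 10383 = n11302 := ndS (p := 8868) (l := 4) rfl N8868 D11302
theorem N10384 : nd 10384 = n11303 := ndS (p := 8874) (l := 1) rfl N8874 D11303
theorem N10385 : nd 10385 = n11304 := ndS (p := 8874) (l := 4) rfl N8874 D11304
theorem N10386 : nd 10386 = n11305 := ndS (p := 8875) (l := 0) rfl N8875 D11305
theorem N10387 : nd 10387 = n11306 := ndS (p := 8875) (l := 3) rfl N8875 D11306
theorem N10388 : nd 10388 = n11307 := ndS (p := 8876) (l := 4) rfl N8876 D11307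
theorem N10389 : nd 10389 = n11308 := ndS (p := 8878) (l := 4) rfl N8878 D11308
theorem N10390 : nd 10390 = n11309 := ndS (p := 8879) (l := 4) rfl N8879 D11309
theorem N10391 : nd 10391 = n11310 := ndS (p := 8880) (l := 3) rfl N8880 D11310
theorem N10392 : nd 10392 = n11311 := ndS (p := 8881) (l := 1) rfl N8881 D11311
theorem N10393 : nd 10393 = n11312 := ndS (p := 8881) (l := 3) rfl N8881 D11312
theorem N10394 : nd 10394 = n11313 := ndS (p := 8884) (l := 1) rfl N8884 D11313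
theorem N10395 : nd 10395 = n11314 := ndS (p := 8884) (l := 3) rfl N8884 D11314
theorem N10396 : nd 10396 = n11315 := ndS (p := 8886) (l := 4) rfl N8886 D11315
theorem N10397 : nd 10397 = n11316 := ndS (p := 8887) (l := 1) rfl N8887 D11316
theorem N10398 : nd 10398 = n11317 := ndS (p := 8890) (l := 0) rfl N8890 D11317
theorem N10399 : nd 10399 = n11318 := ndS (p := 8890) (l := 4) rfl N8890 D11318
theorem N10400 : nd 10400 = n11319 := ndS (p := 8895) (l := 0) rfl N8895 D11319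
theorem N10401 : nd 10401 = n11320 := ndS (p := 8899) (l := 0) rfl N8899 D11320
theorem N10402 : nd 10402 = n11321 := ndS (p := 8900) (l := 4) rfl N8900 D11321
theorem N10403 : nd 10403 = n11322 := ndS (p := 8901) (l := 3) rfl N8901 D11322
theorem N10404 : nd 10404 = n11323 := ndS (p := 8906) (l := 0) rfl N8906 D11323
theorem N10405 : nd 10405 = n11324 := ndS (p := 8906) (l := 4) rfl N8906 D11324
theorem N10406 : nd 10406 = n11325 := ndS (p := 8910) (l := 0) rfl N8910 D11325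
theorem N10407 : nd 10407 = n11326 := ndS (p := 8910) (l := 4) rfl N8910 D11326
theorem N10408 : nd 10408 = n11327 := ndS (p := 8919) (l := 1) rfl N8919 D11327
theorem N10409 : nd 10409 = n11328 := ndS (p := 8921) (l := 0) rfl N8921 D11328
theorem N10410 : nd 10410 = n11329 := ndS (p := 8922) (l := 1) rfl N8922 D11329
theorem N10411 : nd 10411 = n11330 := ndS (p := 8922) (l := 3) rfl N8922 D11330
theorem N10412 : nd 10412 = n11331 := ndS (p := 8924) (l := 0) rfl N8924 D11331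
theorem N10413 : nd 10413 = n11332 := ndS (p := 8926) (l := 1) rfl N8926 D11332
theorem N10414 : nd 10414 = n11333 := ndS (p := 8926) (l := 3) rfl N8926 D11333
theorem N10415 : nd 10415 = n11334 := ndS (p := 8928) (l := 0) rfl N8928 D11334
theorem N10416 : nd 10416 = n11335 := ndS (p := 8931) (l := 4) rfl N8931 D11335
theorem N10417 : nd 10417 = n11336 := ndS (p := 8932) (l := 3) rfl N8932 D11336
theorem N10418 : nd 10418 = n11337 := ndS (p := 8933) (l := 3) rfl N8933 D11337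
theorem N10419 : nd 10419 = n11338 := ndS (p := 8934) (l := 3) rfl N8934 D11338
theorem N10420 : nd 10420 = n11339 := ndS (p := 8936) (l := 3) rfl N8936 D11339
theorem N10421 : nd 10421 = n11340 := ndS (p := 8937) (l := 3) rfl N8937 D11340
theorem N10422 : nd 10422 = n11341 := ndS (p := 8938) (l := 3) rfl N8938 D11341
theorem N10423 : nd 10423 = n11342 := ndS (p := 8940) (l := 3) rfl N8940 D11342
theorem N10424 : nd 10424 = n11343 := ndS (p := 8944) (l := 0) rfl N8944 D11343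
theorem N10425 : nd 10425 = n11344 := ndS (p := 8951) (l := 3) rfl N8951 D11344
theorem N10426 : nd 10426 = n11345 := ndS (p := 8965) (l := 4) rfl N8965 D11345
theorem N10427 : nd 10427 = n11346 := ndS (p := 8974) (l := 4) rfl N8974 D11346
theorem N10428 : nd 10428 = n11347 := ndS (p := 8986) (l := 4) rfl N8986 D11347
theorem N10429 : nd 10429 = n11348 := ndS (p := 8997) (l := 3) rfl N8997 D11348
theorem N10430 : nd 10430 = n11349 := ndS (p := 8998) (l := 0) rfl N8998 D11349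
theorem N10431 : nd 10431 = n11350 := ndS (p := 9001) (l := 3) rfl N9001 D11350
theorem N10432 : nd 10432 = n11351 := ndS (p := 9010) (l := 4) rfl N9010 D11351
theorem N10433 : nd 10433 = n11352 := ndS (p := 9011) (l := 0) rfl N9011 D11352
theorem N10434 : nd 10434 = n11353 := ndS (p := 9013) (l := 4) rfl N9013 D11353
theorem N10435 : nd 10435 = n11354 := ndS (p := 9014) (l := 4) rfl N9014 D11354
theorem N10436 : nd 10436 = n11355 := ndS (p := 9028) (l := 2) rfl N9028 D11355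
theorem N10437 : nd 10437 = n11356 := ndS (p := 9029) (l := 4) rfl N9029 D11356
theorem N10438 : nd 10438 = n11357 := ndS (p := 9030) (l := 4) rfl N9030 D11357
theorem N10439 : nd 10439 = n11358 := ndS (p := 9034) (l := 1) rfl N9034 D11358
theorem N10440 : nd 10440 = n11359 := ndS (p := 9034) (l := 4) rfl N9034 D11359
theorem N10441 : nd 10441 = n11360 := ndS (p := 9035) (l := 2) rfl N9035 D11360
theorem N10442 : nd 10442 = n11361 := ndS (p := 9035) (l := 4) rfl N9035 D11361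
theorem N10443 : nd 10443 = n11362 := ndS (p := 9036) (l := 4) rfl N9036 D11362
theorem N10444 : nd 10444 = n11363 := ndS (p := 9037) (l := 2) rfl N9037 D11363
theorem N10445 : nd 10445 = n11364 := ndS (p := 9038) (l := 1) rfl N9038 D11364
theorem N10446 : nd 10446 = n11365 := ndS (p := 9038) (l := 4) rfl N9038 D11365
theorem N10447 : nd 10447 = n11366 := ndS (p := 9039) (l := 2) rfl N9039 D11366
theorem N10448 : nd 10448 = n11367 := ndS (p := 9039) (l := 4) rfl N9039 D11367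
theorem N10449 : nd 10449 = n11368 := ndS (p := 9040) (l := 4) rfl N9040 D11368
theorem N10450 : nd 10450 = n11369 := ndS (p := 9041) (l := 2) rfl N9041 D11369
theorem N10451 : nd 10451 = n11370 := ndS (p := 9042) (l := 4) rfl N9042 D11370
theorem N10452 : nd 10452 = n11371 := ndS (p := 9043) (l := 0) rfl N9043 D11371
theorem N10453 : nd 10453 = n11372 := ndS (p := 9053) (l := 2) rfl N9053 D11372
theorem N10454 : nd 10454 = n11373 := ndS (p := 9074) (l := 2) rfl N9074 D11373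
theorem N10455 : nd 10455 = n11374 := ndS (p := 9075) (l := 4) rfl N9075 D11374
theorem N10456 : nd 10456 = n11375 := ndS (p := 9076) (l := 2) rfl N9076 D11375
theorem N10457 : nd 10457 = n11376 := ndS (p := 9077) (l := 4) rfl N9077 D11376
theorem N10458 : nd 10458 = n11377 := ndS (p := 9078) (l := 2) rfl N9078 D11377
theorem N10459 : nd 10459 = n11378 := ndS (p := 9097) (l := 4) rfl N9097 D11378
theorem N10460 : nd 10460 = n11379 := ndS (p := 9098) (l := 2) rfl N9098 D11379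
theorem N10461 : nd 10461 = n11380 := ndS (p := 9103) (l := 4) rfl N9103 D11380
theorem N10462 : nd 10462 = n11381 := ndS (p := 9104) (l := 2) rfl N9104 D11381
theorem N10463 : nd 10463 = n11382 := ndS (p := 9105) (l := 4) rfl N9105 D11382
theorem N10464 : nd 10464 = n11383 := ndS (p := 9107) (l := 0) rfl N9107 D11383
theorem N10465 : nd 10465 = n11384 := ndS (p := 9108) (l := 3) rfl N9108 D11384
theorem N10466 : nd 10466 = n11385 := ndS (p := 9110) (l := 3) rfl N9110 D11385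
theorem N10467 : nd 10467 = n11386 := ndS (p := 9111) (l := 3) rfl N9111 D11386
theorem N10468 : nd 10468 = n11387 := ndS (p := 9113) (l := 2) rfl N9113 D11387
theorem N10469 : nd 10469 = n11388 := ndS (p := 9115) (l := 3) rfl N9115 D11388
theorem N10470 : nd 10470 = n11389 := ndS (p := 9116) (l := 3) rfl N9116 D11389
theorem N10471 : nd 10471 = n11390 := ndS (p := 9118) (l := 3) rfl N9118 D11390
theorem N10472 : nd 10472 = n11391 := ndS (p := 9125) (l := 2) rfl N9125 D11391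
theorem N10473 : nd 10473 = n11392 := ndS (p := 9129) (l := 3) rfl N9129 D11392
theorem N10474 : nd 10474 = n11393 := ndS (p := 9132) (l := 2) rfl N9132 D11393
theorem N10475 : nd 10475 = n11394 := ndS (p := 9135) (l := 0) rfl N9135 D11394
theorem N10476 : nd 10476 = n11395 := ndS (p := 9136) (l := 1) rfl N9136 D11395
theorem N10477 : nd 10477 = n11396 := ndS (p := 9136) (l := 3) rfl N9136 D11396
theorem N10478 : nd 10478 = n11397 := ndS (p := 9141) (l := 3) rfl N9141 D11397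
theorem N10479 : nd 10479 = n11398 := ndS (p := 9143) (l := 3) rfl N9143 D11398
theorem N10480 : nd 10480 = n11399 := ndS (p := 9146) (l := 1) rfl N9146 D11399
theorem N10481 : nd 10481 = n11400 := ndS (p := 9146) (l := 3) rfl N9146 D11400
theorem N10482 : nd 10482 = n11401 := ndS (p := 9148) (l := 0) rfl N9148 D11401
theorem N10483 : nd 10483 = n11402 := ndS (p := 9150) (l := 3) rfl N9150 D11402
theorem N10484 : nd 10484 = n11403 := ndS (p := 9154) (l := 0) rfl N9154 D11403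
theorem N10485 : nd 10485 = n11404 := ndS (p := 9160) (l := 3) rfl N9160 D11404
theorem N10486 : nd 10486 = n11405 := ndS (p := 9175) (l := 3) rfl N9175 D11405
theorem N10487 : nd 10487 = n11406 := ndS (p := 9191) (l := 2) rfl N9191 D11406
theorem N10488 : nd 10488 = n11407 := ndS (p := 9207) (l := 1) rfl N9207 D11407
theorem N10489 : nd 10489 = n11408 := ndS (p := 9207) (l := 4) rfl N9207 D11408
theorem N10490 : nd 10490 = n11409 := ndS (p := 9211) (l := 2) rfl N9211 D11409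
theorem N10491 : nd 10491 = n11410 := ndS (p := 9212) (l := 2) rfl N9212 D11410
theorem N10492 : nd 10492 = n11411 := ndS (p := 9214) (l := 2) rfl N9214 D11411
theorem N10493 : nd 10493 = n11412 := ndS (p := 9215) (l := 1) rfl N9215 D11412
theorem N10494 : nd 10494 = n11413 := ndS (p := 9219) (l := 2) rfl N9219 D11413
theorem N10495 : nd 10495 = n11414 := ndS (p := 9221) (l := 3) rfl N9221 D11414
theorem N10496 : nd 10496 = n11415 := ndS (p := 9222) (l := 4) rfl N9222 D11415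
theorem N10497 : nd 10497 = n11416 := ndS (p := 9223) (l := 2) rfl N9223 D11416
theorem N10498 : nd 10498 = n11417 := ndS (p := 9223) (l := 3) rfl N9223 D11417
theorem N10499 : nd 10499 = n11418 := ndS (p := 9224) (l := 0) rfl N9224 D11418
theorem N10500 : nd 10500 = n11419 := ndS (p := 9224) (l := 1) rfl N9224 D11419
theorem N10501 : nd 10501 = n11420 := ndS (p := 9224) (l := 4) rfl N9224 D11420
theorem N10502 : nd 10502 = n11421 := ndS (p := 9225) (l := 4) rfl N9225 D11421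
theorem N10503 : nd 10503 = n11422 := ndS (p := 9226) (l := 3) rfl N9226 D11422
theorem N10504 : nd 10504 = n11423 := ndS (p := 9226) (l := 4) rfl N9226 D11423
theorem N10505 : nd 10505 = n11424 := ndS (p := 9227) (l := 4) rfl N9227 D11424
theorem N10506 : nd 10506 = n11425 := ndS (p := 9228) (l := 3) rfl N9228 D11425
theorem N10507 : nd 10507 = n11426 := ndS (p := 9229) (l := 1) rfl N9229 D11426
theorem N10508 : nd 10508 = n11427 := ndS (p := 9229) (l := 2) rfl N9229 D11427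
theorem N10509 : nd 10509 = n11428 := ndS (p := 9229) (l := 3) rfl N9229 D11428
theorem N10510 : nd 10510 = n11429 := ndS (p := 9232) (l := 3) rfl N9232 D11429
theorem N10511 : nd 10511 = n11430 := ndS (p := 9237) (l := 2) rfl N9237 D11430
theorem N10512 : nd 10512 = n11431 := ndS (p := 9238) (l := 1) rfl N9238 D11431
theorem N10513 : nd 10513 = n11432 := ndS (p := 9238) (l := 3) rfl N9238 D11432
theorem N10514 : nd 10514 = n11433 := ndS (p := 9240) (l := 0) rfl N9240 D11433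
theorem N10515 : nd 10515 = n11434 := ndS (p := 9249) (l := 4) rfl N9249 D11434
theorem N10516 : nd 10516 = n11435 := ndS (p := 9250) (l := 3) rfl N9250 D11435
theorem N10517 : nd 10517 = n11436 := ndS (p := 9262) (l := 0) rfl N9262 D11436
theorem N10518 : nd 10518 = n11437 := ndS (p := 9266) (l := 1) rfl N9266 D11437
theorem N10519 : nd 10519 = n11438 := ndS (p := 9269) (l := 0) rfl N9269 D11438
theorem N10520 : nd 10520 = n11439 := ndS (p := 9270) (l := 2) rfl N9270 D11439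
theorem N10521 : nd 10521 = n11440 := ndS (p := 9271) (l := 3) rfl N9271 D11440
theorem N10522 : nd 10522 = n11441 := ndS (p := 9273) (l := 2) rfl N9273 D11441
theorem N10523 : nd 10523 = n11442 := ndS (p := 9274) (l := 1) rfl N9274 D11442
theorem N10524 : nd 10524 = n11443 := ndS (p := 9274) (l := 4) rfl N9274 D11443
theorem N10525 : nd 10525 = n11444 := ndS (p := 9275) (l := 4) rfl N9275 D11444
theorem N10526 : nd 10526 = n11445 := ndS (p := 9276) (l := 3) rfl N9276 D11445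
theorem N10527 : nd 10527 = n11446 := ndS (p := 9276) (l := 4) rfl N9276 D11446
theorem N10528 : nd 10528 = n11447 := ndS (p := 9279) (l := 1) rfl N9279 D11447
theorem N10529 : nd 10529 = n11448 := ndS (p := 9279) (l := 2) rfl N9279 D11448
theorem N10530 : nd 10530 = n11449 := ndS (p := 9289) (l := 2) rfl N9289 D11449
theorem N10531 : nd 10531 = n11450 := ndS (p := 9290) (l := 1) rfl N9290 D11450
theorem N10532 : nd 10532 = n11451 := ndS (p := 9296) (l := 4) rfl N9296 D11451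
theorem N10533 : nd 10533 = n11452 := ndS (p := 9300) (l := 3) rfl N9300 D11452
theorem N10534 : nd 10534 = n11453 := ndS (p := 9302) (l := 4) rfl N9302 D11453
theorem N10535 : nd 10535 = n11454 := ndS (p := 9303) (l := 1) rfl N9303 D11454
theorem N10536 : nd 10536 = n11455 := ndS (p := 9303) (l := 4) rfl N9303 D11455
theorem N10537 : nd 10537 = n11456 := ndS (p := 9305) (l := 2) rfl N9305 D11456
theorem N10538 : nd 10538 = n11457 := ndS (p := 9305) (l := 3) rfl N9305 D11457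
theorem N10539 : nd 10539 = n11458 := ndS (p := 9306) (l := 4) rfl N9306 D11458
theorem N10540 : nd 10540 = n11459 := ndS (p := 9312) (l := 4) rfl N9312 D11459
theorem N10541 : nd 10541 = n11460 := ndS (p := 9313) (l := 3) rfl N9313 D11460
theorem N10542 : nd 10542 = n11461 := ndS (p := 9324) (l := 4) rfl N9324 D11461
theorem N10543 : nd 10543 = n11462 := ndS (p := 9325) (l := 4) rfl N9325 D11462
theorem N10544 : nd 10544 = n11463 := ndS (p := 9327) (l := 4) rfl N9327 D11463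
theorem N10545 : nd 10545 = n11464 := ndS (p := 9339) (l := 2) rfl N9339 D11464
theorem N10546 : nd 10546 = n11465 := ndS (p := 9340) (l := 3) rfl N9340 D11465
theorem N10547 : nd 10547 = n11466 := ndS (p := 9345) (l := 2) rfl N9345 D11466
theorem N10548 : nd 10548 = n11467 := ndS (p := 9346) (l := 1) rfl N9346 D11467
theorem N10549 : nd 10549 = n11468 := ndS (p := 9346) (l := 3) rfl N9346 D11468
theorem N10550 : nd 10550 = n11469 := ndS (p := 9353) (l := 3) rfl N9353 D11469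
theorem N10551 : nd 10551 = n11470 := ndS (p := 9358) (l := 4) rfl N9358 D11470
theorem N10552 : nd 10552 = n11471 := ndS (p := 9359) (l := 0) rfl N9359 D11471
theorem N10553 : nd 10553 = n11472 := ndS (p := 9379) (l := 2) rfl N9379 D11472
theorem N10554 : nd 10554 = n11473 := ndS (p := 9389) (l := 2) rfl N9389 D11473
theorem N10555 : nd 10555 = n11474 := ndS (p := 9393) (l := 4) rfl N9393 D11474
theorem N10556 : nd 10556 = n11475 := ndS (p := 9394) (l := 0) rfl N9394 D11475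
theorem N10557 : nd 10557 = n11476 := ndS (p := 9398) (l := 2) rfl N9398 D11476
theorem N10558 : nd 10558 = n11477 := ndS (p := 9403) (l := 1) rfl N9403 D11477
theorem N10559 : nd 10559 = n11478 := ndS (p := 9409) (l := 0) rfl N9409 D11478
theorem N10560 : nd 10560 = n11479 := ndS (p := 9409) (l := 4) rfl N9409 D11479
theorem N10561 : nd 10561 = n11480 := ndS (p := 9412) (l := 1) rfl N9412 D11480
theorem N10562 : nd 10562 = n11481 := ndS (p := 9412) (l := 3) rfl N9412 D11481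
theorem N10563 : nd 10563 = n11482 := ndS (p := 9415) (l := 1) rfl N9415 D11482
theorem N10564 : nd 10564 = n11483 := ndS (p := 9415) (l := 3) rfl N9415 D11483
theorem N10565 : nd 10565 = n11484 := ndS (p := 9417) (l := 0) rfl N9417 D11484
theorem N10566 : nd 10566 = n11485 := ndS (p := 9417) (l := 4) rfl N9417 D11485
theorem N10567 : nd 10567 = n11486 := ndS (p := 9421) (l := 1) rfl N9421 D11486
theorem N10568 : nd 10568 = n11487 := ndS (p := 9421) (l := 4) rfl N9421 D11487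
theorem N10569 : nd 10569 = n11488 := ndS (p := 9422) (l := 0) rfl N9422 D11488
theorem N10570 : nd 10570 = n11489 := ndS (p := 9426) (l := 2) rfl N9426 D11489
theorem N10571 : nd 10571 = n11490 := ndS (p := 9430) (l := 4) rfl N9430 D11490
theorem N10572 : nd 10572 = n11491 := ndS (p := 9431) (l := 3) rfl N9431 D11491
theorem N10573 : nd 10573 = n11492 := ndS (p := 9432) (l := 1) rfl N9432 D11492
theorem N10574 : nd 10574 = n11493 := ndS (p := 9432) (l := 3) rfl N9432 D11493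
theorem N10575 : nd 10575 = n11494 := ndS (p := 9437) (l := 1) rfl N9437 D11494
theorem N10576 : nd 10576 = n11495 := ndS (p := 9437) (l := 3) rfl N9437 D11495
theorem N10577 : nd 10577 = n11496 := ndS (p := 9437) (l := 4) rfl N9437 D11496
theorem N10578 : nd 10578 = n11497 := ndS (p := 9443) (l := 2) rfl N9443 D11497
theorem N10579 : nd 10579 = n11498 := ndS (p := 9444) (l := 1) rfl N9444 D11498
theorem N10580 : nd 10580 = n11499 := ndS (p := 9444) (l := 4) rfl N9444 D11499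
theorem N10581 : nd 10581 = n11500 := ndS (p := 9445) (l := 0) rfl N9445 D11500
theorem N10582 : nd 10582 = n11501 := ndS (p := 9447) (l := 0) rfl N9447 D11501
theorem N10583 : nd 10583 = n11502 := ndS (p := 9458) (l := 4) rfl N9458 D11502
theorem N10584 : nd 10584 = n11503 := ndS (p := 9467) (l := 2) rfl N9467 D11503
theorem N10585 : nd 10585 = n11504 := ndS (p := 9475) (l := 2) rfl N9475 D11504
theorem N10586 : nd 10586 = n11505 := ndS (p := 9480) (l := 1) rfl N9480 D11505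
theorem N10587 : nd 10587 = n11506 := ndS (p := 9480) (l := 4) rfl N9480 D11506
theorem N10588 : nd 10588 = n11507 := ndS (p := 9481) (l := 0) rfl N9481 D11507
theorem N10589 : nd 10589 = n11508 := ndS (p := 9481) (l := 3) rfl N9481 D11508
theorem N10590 : nd 10590 = n11509 := ndS (p := 9481) (l := 4) rfl N9481 D11509
theorem N10591 : nd 10591 = n11510 := ndS (p := 9482) (l := 4) rfl N9482 D11510
theorem N10592 : nd 10592 = n11511 := ndS (p := 9485) (l := 0) rfl N9485 D11511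
theorem N10593 : nd 10593 = n11512 := ndS (p := 9485) (l := 3) rfl N9485 D11512
theorem N10594 : nd 10594 = n11513 := ndS (p := 9485) (l := 4) rfl N9485 D11513
theorem N10595 : nd 10595 = n11514 := ndS (p := 9486) (l := 4) rfl N9486 D11514
theorem N10596 : nd 10596 = n11515 := ndS (p := 9487) (l := 3) rfl N9487 D11515
theorem N10597 : nd 10597 = n11516 := ndS (p := 9489) (l := 0) rfl N9489 D11516
theorem N10598 : nd 10598 = n11517 := ndS (p := 9489) (l := 3) rfl N9489 D11517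
theorem N10599 : nd 10599 = n11518 := ndS (p := 9489) (l := 4) rfl N9489 D11518
theorem N10600 : nd 10600 = n11519 := ndS (p := 9493) (l := 0) rfl N9493 D11519
theorem N10601 : nd 10601 = n11520 := ndS (p := 9493) (l := 4) rfl N9493 D11520
theorem N10602 : nd 10602 = n11521 := ndS (p := 9509) (l := 4) rfl N9509 D11521
theorem N10603 : nd 10603 = n11522 := ndS (p := 9510) (l := 3) rfl N9510 D11522
theorem N10604 : nd 10604 = n11523 := ndS (p := 9528) (l := 4) rfl N9528 D11523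
theorem N10605 : nd 10605 = n11524 := ndS (p := 9529) (l := 4) rfl N9529 D11524
theorem N10606 : nd 10606 = n11525 := ndS (p := 9534) (l := 4) rfl N9534 D11525
theorem N10607 : nd 10607 = n11526 := ndS (p := 9538) (l := 2) rfl N9538 D11526
theorem N10608 : nd 10608 = n11527 := ndS (p := 9538) (l := 3) rfl N9538 D11527
theorem N10609 : nd 10609 = n11528 := ndS (p := 9540) (l := 2) rfl N9540 D11528
theorem N10610 : nd 10610 = n11529 := ndS (p := 9540) (l := 3) rfl N9540 D11529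
theorem N10611 : nd 10611 = n11530 := ndS (p := 9544) (l := 2) rfl N9544 D11530
theorem N10612 : nd 10612 = n11531 := ndS (p := 9544) (l := 3) rfl N9544 D11531
theorem N10613 : nd 10613 = n11532 := ndS (p := 9545) (l := 0) rfl N9545 D11532
theorem N10614 : nd 10614 = n11533 := ndS (p := 9549) (l := 1) rfl N9549 D11533
theorem N10615 : nd 10615 = n11534 := ndS (p := 9549) (l := 3) rfl N9549 D11534
theorem N10616 : nd 10616 = n11535 := ndS (p := 9554) (l := 1) rfl N9554 D11535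
theorem N10617 : nd 10617 = n11536 := ndS (p := 9554) (l := 3) rfl N9554 D11536
theorem N10618 : nd 10618 = n11537 := ndS (p := 9559) (l := 2) rfl N9559 D11537
theorem N10619 : nd 10619 = n11538 := ndS (p := 9559) (l := 3) rfl N9559 D11538
theorem N10620 : nd 10620 = n11539 := ndS (p := 9560) (l := 0) rfl N9560 D11539
theorem N10621 : nd 10621 = n11540 := ndS (p := 9561) (l := 3) rfl N9561 D11540
theorem N10622 : nd 10622 = n11541 := ndS (p := 9582) (l := 3) rfl N9582 D11541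
theorem N10623 : nd 10623 = n11542 := ndS (p := 9591) (l := 4) rfl N9591 D11542
theorem N10624 : nd 10624 = n11543 := ndS (p := 9620) (l := 2) rfl N9620 D11543
theorem N10625 : nd 10625 = n11544 := ndS (p := 9620) (l := 4) rfl N9620 D11544
theorem N10626 : nd 10626 = n11545 := ndS (p := 9622) (l := 0) rfl N9622 D11545
theorem N10627 : nd 10627 = n11546 := ndS (p := 9624) (l := 3) rfl N9624 D11546
theorem N10628 : nd 10628 = n11547 := ndS (p := 9632) (l := 2) rfl N9632 D11547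
theorem N10629 : nd 10629 = n11548 := ndS (p := 9634) (l := 3) rfl N9634 D11548
theorem N10630 : nd 10630 = n11549 := ndS (p := 9643) (l := 3) rfl N9643 D11549
theorem N10631 : nd 10631 = n11550 := ndS (p := 9661) (l := 2) rfl N9661 D11550
theorem N10632 : nd 10632 = n11551 := ndS (p := 9671) (l := 1) rfl N9671 D11551
theorem N10633 : nd 10633 = n11552 := ndS (p := 9671) (l := 4) rfl N9671 D11552
theorem N10634 : nd 10634 = n11553 := ndS (p := 9673) (l := 3) rfl N9673 D11553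
theorem N10635 : nd 10635 = n11554 := ndS (p := 9674) (l := 4) rfl N9674 D11554
theorem N10636 : nd 10636 = n11555 := ndS (p := 9679) (l := 1) rfl N9679 D11555
theorem N10637 : nd 10637 = n11556 := ndS (p := 9679) (l := 3) rfl N9679 D11556
theorem N10638 : nd 10638 = n11557 := ndS (p := 9679) (l := 4) rfl N9679 D11557
theorem N10639 : nd 10639 = n11558 := ndS (p := 9683) (l := 1) rfl N9683 D11558
theorem N10640 : nd 10640 = n11559 := ndS (p := 9683) (l := 4) rfl N9683 D11559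
theorem N10641 : nd 10641 = n11560 := ndS (p := 9687) (l := 2) rfl N9687 D11560
theorem N10642 : nd 10642 = n11561 := ndS (p := 9688) (l := 3) rfl N9688 D11561
theorem N10643 : nd 10643 = n11562 := ndS (p := 9688) (l := 4) rfl N9688 D11562
theorem N10644 : nd 10644 = n11563 := ndS (p := 9693) (l := 2) rfl N9693 D11563
theorem N10645 : nd 10645 = n11564 := ndS (p := 9694) (l := 3) rfl N9694 D11564
theorem N10646 : nd 10646 = n11565 := ndS (p := 9694) (l := 4) rfl N9694 D11565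
theorem N10647 : nd 10647 = n11566 := ndS (p := 9698) (l := 2) rfl N9698 D11566
theorem N10648 : nd 10648 = n11567 := ndS (p := 9699) (l := 3) rfl N9699 D11567
theorem N10649 : nd 10649 = n11568 := ndS (p := 9707) (l := 4) rfl N9707 D11568
theorem N10650 : nd 10650 = n11569 := ndS (p := 9708) (l := 3) rfl N9708 D11569
theorem N10651 : nd 10651 = n11570 := ndS (p := 9709) (l := 4) rfl N9709 D11570
theorem N10652 : nd 10652 = n11571 := ndS (p := 9713) (l := 1) rfl N9713 D11571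
theorem N10653 : nd 10653 = n11572 := ndS (p := 9736) (l := 2) rfl N9736 D11572
theorem N10654 : nd 10654 = n11573 := ndS (p := 9737) (l := 2) rfl N9737 D11573
theorem N10655 : nd 10655 = n11574 := ndS (p := 9756) (l := 4) rfl N9756 D11574
theorem N10656 : nd 10656 = n11575 := ndS (p := 9762) (l := 2) rfl N9762 D11575
theorem N10657 : nd 10657 = n11576 := ndS (p := 9764) (l := 2) rfl N9764 D11576
theorem N10658 : nd 10658 = n11577 := ndS (p := 9777) (l := 2) rfl N9777 D11577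
theorem N10659 : nd 10659 = n11578 := ndS (p := 9778) (l := 3) rfl N9778 D11578
theorem N10660 : nd 10660 = n11579 := ndS (p := 9785) (l := 2) rfl N9785 D11579
theorem N10661 : nd 10661 = n11580 := ndS (p := 9786) (l := 3) rfl N9786 D11580
theorem N10662 : nd 10662 = n11581 := ndS (p := 9816) (l := 1) rfl N9816 D11581
theorem N10663 : nd 10663 = n11582 := ndS (p := 9816) (l := 3) rfl N9816 D11582
theorem N10664 : nd 10664 = n11583 := ndS (p := 9817) (l := 1) rfl N9817 D11583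
theorem N10665 : nd 10665 = n11584 := ndS (p := 9817) (l := 3) rfl N9817 D11584
theorem N10666 : nd 10666 = n11585 := ndS (p := 9817) (l := 4) rfl N9817 D11585
theorem N10667 : nd 10667 = n11586 := ndS (p := 9830) (l := 4) rfl N9830 D11586
theorem N10668 : nd 10668 = n11587 := ndS (p := 9845) (l := 2) rfl N9845 D11587
theorem N10669 : nd 10669 = n11588 := ndS (p := 9854) (l := 2) rfl N9854 D11588
theorem N10670 : nd 10670 = n11589 := ndS (p := 9868) (l := 4) rfl N9868 D11589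
theorem N10671 : nd 10671 = n11590 := ndS (p := 9875) (l := 4) rfl N9875 D11590
theorem N10672 : nd 10672 = n11591 := ndS (p := 9876) (l := 4) rfl N9876 D11591
theorem N10673 : nd 10673 = n11592 := ndS (p := 9877) (l := 3) rfl N9877 D11592
theorem N10674 : nd 10674 = n11593 := ndS (p := 9879) (l := 4) rfl N9879 D11593
theorem N10675 : nd 10675 = n11594 := ndS (p := 9884) (l := 4) rfl N9884 D11594
theorem N10676 : nd 10676 = n11595 := ndS (p := 9918) (l := 3) rfl N9918 D11595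
theorem N10677 : nd 10677 = n11596 := ndS (p := 9919) (l := 0) rfl N9919 D11596
theorem N10678 : nd 10678 = n11597 := ndS (p := 9922) (l := 3) rfl N9922 D11597
theorem N10679 : nd 10679 = n11598 := ndS (p := 9925) (l := 4) rfl N9925 D11598
theorem N10680 : nd 10680 = n11599 := ndS (p := 9927) (l := 3) rfl N9927 D11599
theorem N10681 : nd 10681 = n11600 := ndS (p := 9928) (l := 4) rfl N9928 D11600
theorem N10682 : nd 10682 = n11601 := ndS (p := 9931) (l := 3) rfl N9931 D11601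
theorem N10683 : nd 10683 = n11602 := ndS (p := 9936) (l := 3) rfl N9936 D11602
theorem N10684 : nd 10684 = n11603 := ndS (p := 9936) (l := 4) rfl N9936 D11603
theorem N10685 : nd 10685 = n11604 := ndS (p := 9939) (l := 3) rfl N9939 D11604
theorem N10686 : nd 10686 = n11605 := ndS (p := 9939) (l := 4) rfl N9939 D11605
theorem N10687 : nd 10687 = n11606 := ndS (p := 9978) (l := 1) rfl N9978 D11606
theorem N10688 : nd 10688 = n11607 := ndS (p := 9999) (l := 1) rfl N9999 D11607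
theorem N10689 : nd 10689 = n11608 := ndS (p := 10001) (l := 0) rfl N10001 D11608
theorem N10690 : nd 10690 = n11609 := ndS (p := 10003) (l := 1) rfl N10003 D11609
theorem N10691 : nd 10691 = n11610 := ndS (p := 10007) (l := 2) rfl N10007 D11610
theorem N10692 : nd 10692 = n11611 := ndS (p := 10010) (l := 0) rfl N10010 D11611
theorem N10693 : nd 10693 = n11612 := ndS (p := 10016) (l := 1) rfl N10016 D11612
theorem N10694 : nd 10694 = n11613 := ndS (p := 10022) (l := 2) rfl N10022 D11613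
theorem N10695 : nd 10695 = n11614 := ndS (p := 10025) (l := 0) rfl N10025 D11614
theorem N10696 : nd 10696 = n11615 := ndS (p := 10031) (l := 0) rfl N10031 D11615
theorem N10697 : nd 10697 = n11616 := ndS (p := 10033) (l := 1) rfl N10033 D11616
theorem N10698 : nd 10698 = n11617 := ndS (p := 10035) (l := 4) rfl N10035 D11617
theorem N10699 : nd 10699 = n11618 := ndS (p := 10044) (l := 3) rfl N10044 D11618
theorem N10700 : nd 10700 = n11619 := ndS (p := 10070) (l := 4) rfl N10070 D11619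
theorem N10701 : nd 10701 = n11620 := ndS (p := 10120) (l := 4) rfl N10120 D11620
theorem N10702 : nd 10702 = n11621 := ndS (p := 10121) (l := 3) rfl N10121 D11621
theorem N10703 : nd 10703 = n11622 := ndS (p := 10124) (l := 4) rfl N10124 D11622
theorem N10704 : nd 10704 = n11623 := ndS (p := 10148) (l := 4) rfl N10148 D11623
theorem N10705 : nd 10705 = n11624 := ndS (p := 10154) (l := 4) rfl N10154 D11624
theorem N10706 : nd 10706 = n11625 := ndS (p := 10166) (l := 0) rfl N10166 D11625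
theorem N10707 : nd 10707 = n11626 := ndS (p := 10166) (l := 4) rfl N10166 D11626
theorem N10708 : nd 10708 = n11627 := ndS (p := 10167) (l := 0) rfl N10167 D11627
theorem N10709 : nd 10709 = n11628 := ndS (p := 10167) (l := 4) rfl N10167 D11628
theorem N10710 : nd 10710 = n11629 := ndS (p := 10169) (l := 4) rfl N10169 D11629
theorem N10711 : nd 10711 = n11630 := ndS (p := 10170) (l := 4) rfl N10170 D11630
theorem N10712 : nd 10712 = n11631 := ndS (p := 10172) (l := 1) rfl N10172 D11631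
theorem N10713 : nd 10713 = n11632 := ndS (p := 10172) (l := 4) rfl N10172 D11632
theorem N10714 : nd 10714 = n11633 := ndS (p := 10175) (l := 4) rfl N10175 D11633
theorem N10715 : nd 10715 = n11634 := ndS (p := 10176) (l := 3) rfl N10176 D11634
theorem N10716 : nd 10716 = n11635 := ndS (p := 10180) (l := 1) rfl N10180 D11635
theorem N10717 : nd 10717 = n11636 := ndS (p := 10180) (l := 4) rfl N10180 D11636
theorem N10718 : nd 10718 = n11637 := ndS (p := 10185) (l := 1) rfl N10185 D11637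
theorem N10719 : nd 10719 = n11638 := ndS (p := 10188) (l := 4) rfl N10188 D11638
theorem N10720 : nd 10720 = n11639 := ndS (p := 10189) (l := 3) rfl N10189 D11639
theorem N10721 : nd 10721 = n11640 := ndS (p := 10209) (l := 3) rfl N10209 D11640
theorem N10722 : nd 10722 = n11641 := ndS (p := 10219) (l := 3) rfl N10219 D11641
theorem N10723 : nd 10723 = n11642 := ndS (p := 10220) (l := 3) rfl N10220 D11642
theorem N10724 : nd 10724 = n11643 := ndS (p := 10230) (l := 3) rfl N10230 D11643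
theorem N10725 : nd 10725 = n11644 := ndS (p := 10239) (l := 1) rfl N10239 D11644
theorem N10726 : nd 10726 = n11645 := ndS (p := 10239) (l := 4) rfl N10239 D11645
theorem N10727 : nd 10727 = n11646 := ndS (p := 10243) (l := 1) rfl N10243 D11646
theorem N10728 : nd 10728 = n11647 := ndS (p := 10243) (l := 4) rfl N10243 D11647
theorem N10729 : nd 10729 = n11648 := ndS (p := 10307) (l := 0) rfl N10307 D11648
theorem N10730 : nd 10730 = n11649 := ndS (p := 10309) (l := 0) rfl N10309 D11649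
theorem N10731 : nd 10731 = n11650 := ndS (p := 10368) (l := 0) rfl N10368 D11650
theorem N10732 : nd 10732 = n11651 := ndS (p := 10409) (l := 1) rfl N10409 D11651
theorem N10733 : nd 10733 = n11652 := ndS (p := 10409) (l := 3) rfl N10409 D11652
theorem N10734 : nd 10734 = n11653 := ndS (p := 10413) (l := 0) rfl N10413 D11653
theorem N10735 : nd 10735 = n11654 := ndS (p := 10415) (l := 3) rfl N10415 D11654
theorem N10736 : nd 10736 = n11655 := ndS (p := 10436) (l := 1) rfl N10436 D11655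
theorem N10737 : nd 10737 = n11656 := ndS (p := 10436) (l := 4) rfl N10436 D11656
theorem N10738 : nd 10738 = n11657 := ndS (p := 10440) (l := 2) rfl N10440 D11657
theorem N10739 : nd 10739 = n11658 := ndS (p := 10446) (l := 2) rfl N10446 D11658
theorem N10740 : nd 10740 = n11659 := ndS (p := 10459) (l := 2) rfl N10459 D11659
theorem N10741 : nd 10741 = n11660 := ndS (p := 10487) (l := 4) rfl N10487 D11660
theorem N10742 : nd 10742 = n11661 := ndS (p := 10496) (l := 2) rfl N10496 D11661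
theorem N10743 : nd 10743 = n11662 := ndS (p := 10497) (l := 3) rfl N10497 D11662
theorem N10744 : nd 10744 = n11663 := ndS (p := 10508) (l := 3) rfl N10508 D11663
theorem N10745 : nd 10745 = n11664 := ndS (p := 10512) (l := 0) rfl N10512 D11664
theorem N10746 : nd 10746 = n11665 := ndS (p := 10518) (l := 0) rfl N10518 D11665
theorem N10747 : nd 10747 = n11666 := ndS (p := 10600) (l := 4) rfl N10600 D11666
theorem N10748 : nd 10748 = n11667 := ndS (p := 10692) (l := 3) rfl N10692 D11667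
theorem N10749 : nd 10749 = n11668 := ndS (p := 10695) (l := 3) rfl N10695 D11668
theorem N10750 : nd 10750 = n11669 := ndS (p := 10706) (l := 4) rfl N10706 D11669
theorem N10751 : nd 10751 = n11670 := ndS (p := 10708) (l := 4) rfl N10708 D11670
theorem Q1 : ∀ i, i < 1 → P i := stepQ 0 Q0 (allL N0 (tt N0 F1) (tt N1 D1) (tt N2 D2) (tt N3 D3) (tt N4 D4))
theorem Q2 : ∀ i, i < 2 → P i := stepQ 1 Q1 (allL N1 (tt N5 D5) (tt N0 (iv D1)) (tt N6 D6) (tt N7 D7) (tt N8 D8))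
theorem Q3 : ∀ i, i < 3 → P i := stepQ 2 Q2 (allL N2 (tt N9 D9) (tt N10 D10) (tt N0 (iv D2)) (tt N11 D11) (tt N12 D12))
theorem Q4 : ∀ i, i < 4 → P i := stepQ 3 Q3 (allL N3 (tt N13 D13) (tt N7 (iv F3)) (tt N11 (iv F5)) (tt N0 (iv D3)) (tt N14 D14))
theorem Q5 : ∀ i, i < 5 → P i := stepQ 4 Q4 (allL N4 (tt N4 F2) (tt N8 (iv F4)) (tt N15 D15) (tt N16 D16) (tt N0 (iv D4)))
theorem Q6 : ∀ i, i < 6 → P i := stepQ 5 Q5 (allL N5 (tt N1 (iv D5)) (tt N17 D17) (tt N18 D18) (tt N19 D19) (tt N20 D20))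
theorem Q7 : ∀ i, i < 7 → P i := stepQ 6 Q6 (allL N6 (tt N21 D21) (tt N22 D22) (tt N1 (iv D6)) (tt N23 D23) (tt N24 D24))
theorem Q8 : ∀ i, i < 8 → P i := stepQ 7 Q7 (allL N7 (tt N25 D25) (tt N3 F3) (tt N23 (iv F8)) (tt N1 (iv D7)) (tt N26 D26))
theorem Q9 : ∀ i, i < 9 → P i := stepQ 8 Q8 (allL N8 (tt N20 (iv F7)) (tt N4 F4) (tt N27 D27) (tt N28 D28) (tt N1 (iv D8)))
theorem Q10 : ∀ i, i < 10 → P i := stepQ 9 Q9 (allL N9 (tt N2 (iv D9)) (tt N29 D29) (tt N30 D30) (tt N31 D31) (tt N32 D32))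
theorem Q11 : ∀ i, i < 11 → P i := stepQ 10 Q10 (allL N10 (tt N33 D33) (tt N2 (iv D10)) (tt N34 D34) (tt N35 D35) (tt N36 D36))
theorem Q12 : ∀ i, i < 12 → P i := stepQ 11 Q11 (allL N11 (tt N37 D37) (tt N35 (iv F13)) (tt N3 F5) (tt N2 (iv D11)) (tt N38 D38))
theorem Q13 : ∀ i, i < 13 → P i := stepQ 12 Q12 (allL N12 (tt N32 (iv F12)) (tt N36 (iv F14)) (tt N39 D39) (tt N40 D40) (tt N2 (iv D12)))
theorem Q14 : ∀ i, i < 14 → P i := stepQ 13 Q13 (allL N13 (tt N3 (iv D13)) (tt N41 D41) (tt N42 D42) (tt N43 D43) (tt N44 D44))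
theorem Q15 : ∀ i, i < 15 → P i := stepQ 14 Q14 (allL N14 (tt N44 (iv F18)) (tt N26 (iv F9)) (tt N45 D45) (tt N46 D46) (tt N3 (iv D14)))
theorem Q16 : ∀ i, i < 16 → P i := stepQ 15 Q15 (allL N15 (tt N47 D47) (tt N48 D48) (tt N4 (iv D15)) (tt N49 D49) (tt N50 D50))
theorem Q17 : ∀ i, i < 17 → P i := stepQ 16 Q16 (allL N16 (tt N51 D51) (tt N28 (iv F10)) (tt N49 (iv F20)) (tt N4 (iv D16)) (tt N52 D52))
theorem Q18 : ∀ i, i < 18 → P i := stepQ 17 Q17 (allL N17 (tt N17 F6) (tt N5 (iv D17)) (tt N53 D53) (tt N54 D54) (tt N55 D55))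
theorem Q19 : ∀ i, i < 19 → P i := stepQ 18 Q18 (allL N18 (tt N56 D56) (tt N57 D57) (tt N5 (iv D18)) (tt N58 D58) (tt N59 D59))
theorem Q20 : ∀ i, i < 20 → P i := stepQ 19 Q19 (allL N19 (tt N60 D60) (tt N54 (iv F21)) (tt N58 (iv F24)) (tt N5 (iv D19)) (tt N61 D61))
theorem Q21 : ∀ i, i < 21 → P i := stepQ 20 Q20 (allL N20 (tt N8 F7) (tt N55 (iv F23)) (tt N62 D62) (tt N63 D63) (tt N5 (iv D20)))
theorem Q22 : ∀ i, i < 22 → P i := stepQ 21 Q21 (allL N21 (tt N6 (iv D21)) (tt N64 D64) (tt N65 D65) (tt N66 D66) (tt N67 D67))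
theorem Q23 : ∀ i, i < 23 → P i := stepQ 22 Q22 (allL N22 (tt N68 D68) (tt N6 (iv D22)) (tt N69 D69) (tt N70 D70) (tt N71 D71))
theorem Q24 : ∀ i, i < 24 → P i := stepQ 23 Q23 (allL N23 (tt N72 D72) (tt N70 (iv F27)) (tt N7 F8) (tt N6 (iv D23)) (tt N73 D73))
theorem Q25 : ∀ i, i < 25 → P i := stepQ 24 Q24 (allL N24 (tt N67 (iv F25)) (tt N71 (iv F28)) (tt N74 D74) (tt N75 D75) (tt N6 (iv D24)))
theorem Q26 : ∀ i, i < 26 → P i := stepQ 25 Q25 (allL N25 (tt N7 (iv D25)) (tt N76 D76) (tt N77 D77) (tt N78 D78) (tt N79 D79))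
theorem Q27 : ∀ i, i < 27 → P i := stepQ 26 Q26 (allL N26 (tt N79 (iv F29)) (tt N14 F9) (tt N80 D80) (tt N81 D81) (tt N7 (iv D26)))
theorem Q28 : ∀ i, i < 28 → P i := stepQ 27 Q27 (allL N27 (tt N82 D82) (tt N83 D83) (tt N8 (iv D27)) (tt N84 D84) (tt N85 D85))
theorem Q29 : ∀ i, i < 29 → P i := stepQ 28 Q28 (allL N28 (tt N86 D86) (tt N16 F10) (tt N84 (iv F31)) (tt N8 (iv D28)) (tt N87 D87))
theorem Q30 : ∀ i, i < 30 → P i := stepQ 29 Q29 (allL N29 (tt N88 D88) (tt N9 (iv D29)) (tt N89 D89) (tt N90 D90) (tt N91 D91))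
theorem Q31 : ∀ i, i < 31 → P i := stepQ 30 Q30 (allL N30 (tt N30 F11) (tt N92 D92) (tt N9 (iv D30)) (tt N93 D93) (tt N94 D94))
theorem Q32 : ∀ i, i < 32 → P i := stepQ 31 Q31 (allL N31 (tt N42 (iv F16)) (tt N90 (iv F33)) (tt N93 (iv F35)) (tt N9 (iv D31)) (tt N95 D95))
theorem Q33 : ∀ i, i < 33 → P i := stepQ 32 Q32 (allL N32 (tt N12 F12) (tt N91 (iv F34)) (tt N96 D96) (tt N97 D97) (tt N9 (iv D32)))
theorem Q34 : ∀ i, i < 34 → P i := stepQ 33 Q33 (allL N33 (tt N10 (iv D33)) (tt N98 D98) (tt N99 D99) (tt N100 D100) (tt N101 D101))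
theorem Q35 : ∀ i, i < 35 → P i := stepQ 34 Q34 (allL N34 (tt N102 D102) (tt N69 (iv F26)) (tt N10 (iv D34)) (tt N103 D103) (tt N104 D104))
theorem Q36 : ∀ i, i < 36 → P i := stepQ 35 Q35 (allL N35 (tt N105 D105) (tt N11 F13) (tt N103 (iv F40)) (tt N10 (iv D35)) (tt N106 D106))
theorem Q37 : ∀ i, i < 37 → P i := stepQ 36 Q36 (allL N36 (tt N101 (iv F39)) (tt N12 F14) (tt N107 D107) (tt N108 D108) (tt N10 (iv D36)))
theorem Q38 : ∀ i, i < 38 → P i := stepQ 37 Q37 (allL N37 (tt N11 (iv D37)) (tt N109 D109) (tt N110 D110) (tt N111 D111) (tt N112 D112))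
theorem Q39 : ∀ i, i < 39 → P i := stepQ 38 Q38 (allL N38 (tt N112 (iv F44)) (tt N106 (iv F41)) (tt N113 D113) (tt N114 D114) (tt N11 (iv D38)))
theorem Q40 : ∀ i, i < 40 → P i := stepQ 39 Q39 (allL N39 (tt N39 F15) (tt N115 D115) (tt N12 (iv D39)) (tt N116 D116) (tt N117 D117))
theorem Q41 : ∀ i, i < 41 → P i := stepQ 40 Q40 (allL N40 (tt N118 D118) (tt N108 (iv F42)) (tt N116 (iv F45)) (tt N12 (iv D40)) (tt N119 D119))
theorem Q42 : ∀ i, i < 42 → P i := stepQ 41 Q41 (allL N41 (tt N120 D120) (tt N13 (iv D41)) (tt N121 D121) (tt N122 D122) (tt N123 D123))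
theorem Q43 : ∀ i, i < 43 → P i := stepQ 42 Q42 (allL N42 (tt N31 F16) (tt N124 D124) (tt N13 (iv D42)) (tt N125 D125) (tt N126 D126))
theorem Q44 : ∀ i, i < 44 → P i := stepQ 43 Q43 (allL N43 (tt N43 F17) (tt N122 (iv F48)) (tt N125 (iv F51)) (tt N13 (iv D43)) (tt N127 D127))
theorem Q45 : ∀ i, i < 45 → P i := stepQ 44 Q44 (allL N44 (tt N14 F18) (tt N123 (iv F49)) (tt N128 D128) (tt N129 D129) (tt N13 (iv D44)))
theorem Q46 : ∀ i, i < 46 → P i := stepQ 45 Q45 (allL N45 (tt N130 D130) (tt N131 D131) (tt N14 (iv D45)) (tt N132 D132) (tt N133 D133))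
theorem Q47 : ∀ i, i < 47 → P i := stepQ 46 Q46 (allL N46 (tt N46 F19) (tt N81 (iv F30)) (tt N132 (iv F56)) (tt N14 (iv D46)) (tt N134 D134))
theorem Q48 : ∀ i, i < 48 → P i := stepQ 47 Q47 (allL N47 (tt N15 (iv D47)) (tt N135 D135) (tt N94 (iv F37)) (tt N136 D136) (tt N137 D137))
theorem Q49 : ∀ i, i < 49 → P i := stepQ 48 Q48 (allL N48 (tt N138 D138) (tt N15 (iv D48)) (tt N139 D139) (tt N140 D140) (tt N141 D141))
theorem Q50 : ∀ i, i < 50 → P i := stepQ 49 Q49 (allL N49 (tt N142 D142) (tt N140 (iv F60)) (tt N16 F20) (tt N15 (iv D49)) (tt N143 D143))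
theorem Q51 : ∀ i, i < 51 → P i := stepQ 50 Q50 (allL N50 (tt N137 (iv F59)) (tt N141 (iv F61)) (tt N117 (iv F47)) (tt N133 F2046) (tt N15 (iv D50)))
theorem Q52 : ∀ i, i < 52 → P i := stepQ 51 Q51 (allL N51 (tt N16 (iv D51)) (tt N144 D145) (tt N145 D146) (tt N127 (iv F54)) (tt N146 D147))
theorem Q53 : ∀ i, i < 53 → P i := stepQ 52 Q52 (allL N52 (tt N146 (iv F63)) (tt N87 (iv F32)) (tt N119 (iv F3366)) (tt N134 (iv F58)) (tt N16 (iv D52)))
theorem Q54 : ∀ i, i < 54 → P i := stepQ 53 Q53 (allL N53 (tt N147 D149) (tt N148 D150) (tt N17 (iv D53)) (tt N149 D151) (tt N150 D152))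
theorem Q55 : ∀ i, i < 55 → P i := stepQ 54 Q54 (allL N54 (tt N151 D153) (tt N19 F21) (tt N149 (iv F64)) (tt N17 (iv D54)) (tt N152 D154))
theorem Q56 : ∀ i, i < 56 → P i := stepQ 55 Q55 (allL N55 (tt N55 F22) (tt N20 F23) (tt N153 D155) (tt N154 D156) (tt N17 (iv D55)))
theorem Q57 : ∀ i, i < 57 → P i := stepQ 56 Q56 (allL N56 (tt N18 (iv D56)) (tt N155 D157) (tt N156 D158) (tt N157 D159) (tt N158 D160))
theorem Q58 : ∀ i, i < 58 → P i := stepQ 57 Q57 (allL N57 (tt N159 D161) (tt N18 (iv D57)) (tt N160 D162) (tt N161 D163) (tt N162 D164))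
theorem Q59 : ∀ i, i < 59 → P i := stepQ 58 Q58 (allL N58 (tt N163 D165) (tt N161 (iv F70)) (tt N19 F24) (tt N18 (iv D58)) (tt N164 D166))
theorem Q60 : ∀ i, i < 60 → P i := stepQ 59 Q59 (allL N59 (tt N158 (iv F69)) (tt N162 (iv F71)) (tt N165 D167) (tt N166 D168) (tt N18 (iv D59)))
theorem Q61 : ∀ i, i < 61 → P i := stepQ 60 Q60 (allL N60 (tt N19 (iv D60)) (tt N167 D169) (tt N168 D170) (tt N169 D171) (tt N170 D172))
theorem Q62 : ∀ i, i < 62 → P i := stepQ 61 Q61 (allL N61 (tt N170 (iv F75)) (tt N152 (iv F65)) (tt N171 D173) (tt N172 D174) (tt N19 (iv D61)))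
theorem Q63 : ∀ i, i < 63 → P i := stepQ 62 Q62 (allL N62 (tt N173 D175) (tt N174 D176) (tt N20 (iv D62)) (tt N175 D177) (tt N176 D178))
theorem Q64 : ∀ i, i < 64 → P i := stepQ 63 Q63 (allL N63 (tt N177 D179) (tt N154 (iv F66)) (tt N175 (iv F77)) (tt N20 (iv D63)) (tt N178 D180))
theorem Q65 : ∀ i, i < 65 → P i := stepQ 64 Q64 (allL N64 (tt N179 D181) (tt N21 (iv D64)) (tt N180 D182) (tt N181 D183) (tt N182 D184))
theorem Q66 : ∀ i, i < 66 → P i := stepQ 65 Q65 (allL N65 (tt N156 (iv F67)) (tt N183 D185) (tt N21 (iv D65)) (tt N184 D186) (tt N185 D187))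
theorem Q67 : ∀ i, i < 67 → P i := stepQ 66 Q66 (allL N66 (tt N168 (iv F73)) (tt N181 (iv F78)) (tt N184 (iv F80)) (tt N21 (iv D66)) (tt N186 D188))
theorem Q68 : ∀ i, i < 68 → P i := stepQ 67 Q67 (allL N67 (tt N24 F25) (tt N182 (iv F79)) (tt N187 D189) (tt N188 D190) (tt N21 (iv D67)))
theorem Q69 : ∀ i, i < 69 → P i := stepQ 68 Q68 (allL N68 (tt N22 (iv D68)) (tt N189 D191) (tt N190 D192) (tt N191 D193) (tt N192 D194))
theorem Q70 : ∀ i, i < 70 → P i := stepQ 69 Q69 (allL N69 (tt N193 D195) (tt N34 F26) (tt N22 (iv D69)) (tt N194 D196) (tt N195 D197))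
theorem Q71 : ∀ i, i < 71 → P i := stepQ 70 Q70 (allL N70 (tt N196 D198) (tt N23 F27) (tt N194 (iv F85)) (tt N22 (iv D70)) (tt N197 D199))
theorem Q72 : ∀ i, i < 72 → P i := stepQ 71 Q71 (allL N71 (tt N192 (iv F83)) (tt N24 F28) (tt N198 D200) (tt N199 D201) (tt N22 (iv D71)))
theorem Q73 : ∀ i, i < 73 → P i := stepQ 72 Q72 (allL N72 (tt N23 (iv D72)) (tt N200 D202) (tt N201 D203) (tt N202 D204) (tt N203 D205))
theorem Q74 : ∀ i, i < 74 → P i := stepQ 73 Q73 (allL N73 (tt N203 (iv F89)) (tt N197 (iv F87)) (tt N204 D206) (tt N205 D207) (tt N23 (iv D73)))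
theorem Q75 : ∀ i, i < 75 → P i := stepQ 74 Q74 (allL N74 (tt N165 (iv F72)) (tt N206 D208) (tt N24 (iv D74)) (tt N207 D209) (tt N208 D210))
theorem Q76 : ∀ i, i < 76 → P i := stepQ 75 Q75 (allL N75 (tt N209 D211) (tt N199 (iv F88)) (tt N207 (iv F90)) (tt N24 (iv D75)) (tt N210 D212))
theorem Q77 : ∀ i, i < 77 → P i := stepQ 76 Q76 (allL N76 (tt N211 D213) (tt N25 (iv D76)) (tt N212 D214) (tt N213 D215) (tt N214 D216))
theorem Q78 : ∀ i, i < 78 → P i := stepQ 77 Q77 (allL N77 (tt N157 (iv F68)) (tt N215 D217) (tt N25 (iv D77)) (tt N216 D218) (tt N217 D219))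
theorem Q79 : ∀ i, i < 79 → P i := stepQ 78 Q78 (allL N78 (tt N169 (iv F74)) (tt N213 (iv F93)) (tt N216 (iv F95)) (tt N25 (iv D78)) (tt N218 D220))
theorem Q80 : ∀ i, i < 80 → P i := stepQ 79 Q79 (allL N79 (tt N26 F29) (tt N214 (iv F94)) (tt N219 D221) (tt N220 D222) (tt N25 (iv D79)))
theorem Q81 : ∀ i, i < 81 → P i := stepQ 80 Q80 (allL N80 (tt N221 D223) (tt N222 D224) (tt N26 (iv D80)) (tt N223 D225) (tt N224 D226))
theorem Q82 : ∀ i, i < 82 → P i := stepQ 81 Q81 (allL N81 (tt N172 (iv F76)) (tt N46 F30) (tt N223 (iv F97)) (tt N26 (iv D81)) (tt N225 D227))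
theorem Q83 : ∀ i, i < 83 → P i := stepQ 82 Q82 (allL N82 (tt N27 (iv D82)) (tt N226 D228) (tt N185 (iv F81)) (tt N227 D229) (tt N228 D230))
theorem Q84 : ∀ i, i < 84 → P i := stepQ 83 Q83 (allL N83 (tt N229 D231) (tt N27 (iv D83)) (tt N230 D232) (tt N231 D233) (tt N232 D234))
theorem Q85 : ∀ i, i < 85 → P i := stepQ 84 Q84 (allL N84 (tt N233 D235) (tt N231 (iv F102)) (tt N28 F31) (tt N27 (iv D84)) (tt N234 D236))
theorem Q86 : ∀ i, i < 86 → P i := stepQ 85 Q85 (allL N85 (tt N228 (iv F100)) (tt N232 (iv F103)) (tt N208 (iv F91)) (tt N224 F1173) (tt N27 (iv D85)))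
theorem Q87 : ∀ i, i < 87 → P i := stepQ 86 Q86 (allL N86 (tt N28 (iv D86)) (tt N235 D238) (tt N236 D239) (tt N218 (iv F96)) (tt N237 D240))
theorem Q88 : ∀ i, i < 88 → P i := stepQ 87 Q87 (allL N87 (tt N237 (iv F104)) (tt N52 F32) (tt N210 F2175) (tt N225 (iv F99)) (tt N28 (iv D87)))
theorem Q89 : ∀ i, i < 89 → P i := stepQ 88 Q88 (allL N88 (tt N29 (iv D88)) (tt N238 D242) (tt N239 D243) (tt N240 D244) (tt N241 D245))
theorem Q90 : ∀ i, i < 90 → P i := stepQ 89 Q89 (allL N89 (tt N242 D246) (tt N243 D247) (tt N29 (iv D89)) (tt N244 D248) (tt N245 D249))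
theorem Q91 : ∀ i, i < 91 → P i := stepQ 90 Q90 (allL N90 (tt N246 D250) (tt N31 F33) (tt N244 (iv F108)) (tt N29 (iv D90)) (tt N247 D251))
theorem Q92 : ∀ i, i < 92 → P i := stepQ 91 Q91 (allL N91 (tt N241 (iv F107)) (tt N32 F34) (tt N248 D252) (tt N249 D253) (tt N29 (iv D91)))
theorem Q93 : ∀ i, i < 93 → P i := stepQ 92 Q92 (allL N92 (tt N250 D254) (tt N30 (iv D92)) (tt N251 D255) (tt N252 D256) (tt N253 D257))
theorem Q94 : ∀ i, i < 94 → P i := stepQ 93 Q93 (allL N93 (tt N110 (iv F43)) (tt N252 (iv F111)) (tt N31 F35) (tt N30 (iv D93)) (tt N254 D258))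
theorem Q95 : ∀ i, i < 95 → P i := stepQ 94 Q94 (allL N94 (tt N94 F36) (tt N253 (iv F112)) (tt N47 F37) (tt N255 D259) (tt N30 (iv D94)))
theorem Q96 : ∀ i, i < 96 → P i := stepQ 95 Q95 (allL N95 (tt N126 (iv F52)) (tt N247 (iv F109)) (tt N256 D260) (tt N257 D261) (tt N31 (iv D95)))
theorem Q97 : ∀ i, i < 97 → P i := stepQ 96 Q96 (allL N96 (tt N96 F38) (tt N258 D262) (tt N32 (iv D96)) (tt N259 D263) (tt N260 D264))
theorem Q98 : ∀ i, i < 98 → P i := stepQ 97 Q97 (allL N97 (tt N261 D265) (tt N249 (iv F110)) (tt N259 (iv F115)) (tt N32 (iv D97)) (tt N262 D266))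
theorem Q99 : ∀ i, i < 99 → P i := stepQ 98 Q98 (allL N98 (tt N238 (iv F105)) (tt N33 (iv D98)) (tt N263 D267) (tt N264 D268) (tt N265 D269))
theorem Q100 : ∀ i, i < 100 → P i := stepQ 99 Q99 (allL N99 (tt N266 D270) (tt N267 D271) (tt N33 (iv D99)) (tt N268 D272) (tt N269 D273))
theorem Q101 : ∀ i, i < 101 → P i := stepQ 100 Q100 (allL N100 (tt N270 D274) (tt N264 (iv F118)) (tt N268 (iv F120)) (tt N33 (iv D100)) (tt N271 D275))
theorem Q102 : ∀ i, i < 102 → P i := stepQ 101 Q101 (allL N101 (tt N36 F39) (tt N265 (iv F119)) (tt N272 D276) (tt N273 D277) (tt N33 (iv D101)))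
theorem Q103 : ∀ i, i < 103 → P i := stepQ 102 Q102 (allL N102 (tt N34 (iv D102)) (tt N274 D278) (tt N275 D279) (tt N276 D280) (tt N277 D281))
theorem Q104 : ∀ i, i < 104 → P i := stepQ 103 Q103 (allL N103 (tt N278 D282) (tt N194 (iv F84)) (tt N35 F40) (tt N34 (iv D103)) (tt N279 D283))
theorem Q105 : ∀ i, i < 105 → P i := stepQ 104 Q104 (allL N104 (tt N277 (iv F121)) (tt N195 (iv F86)) (tt N280 D284) (tt N281 D285) (tt N34 (iv D104)))
theorem Q106 : ∀ i, i < 106 → P i := stepQ 105 Q105 (allL N105 (tt N35 (iv D105)) (tt N282 D286) (tt N283 D287) (tt N284 D288) (tt N285 D289))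
theorem Q107 : ∀ i, i < 107 → P i := stepQ 106 Q106 (allL N106 (tt N285 (iv F122)) (tt N38 F41) (tt N286 D290) (tt N287 D291) (tt N35 (iv D106)))
theorem Q108 : ∀ i, i < 108 → P i := stepQ 107 Q107 (allL N107 (tt N288 D292) (tt N289 D293) (tt N36 (iv D107)) (tt N290 D294) (tt N291 D295))
theorem Q109 : ∀ i, i < 109 → P i := stepQ 108 Q108 (allL N108 (tt N292 D296) (tt N40 F42) (tt N290 (iv F124)) (tt N36 (iv D108)) (tt N293 D297))
theorem Q110 : ∀ i, i < 110 → P i := stepQ 109 Q109 (allL N109 (tt N294 D298) (tt N37 (iv D109)) (tt N295 D299) (tt N296 D300) (tt N297 D301))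
theorem Q111 : ∀ i, i < 111 → P i := stepQ 110 Q110 (allL N110 (tt N93 F43) (tt N298 D302) (tt N37 (iv D110)) (tt N299 D303) (tt N300 D304))
theorem Q112 : ∀ i, i < 112 → P i := stepQ 111 Q111 (allL N111 (tt N125 (iv F50)) (tt N296 (iv F126)) (tt N299 (iv F129)) (tt N37 (iv D111)) (tt N301 D305))
theorem Q113 : ∀ i, i < 113 → P i := stepQ 112 Q112 (allL N112 (tt N38 F44) (tt N297 (iv F127)) (tt N302 D306) (tt N303 D307) (tt N37 (iv D112)))
theorem Q114 : ∀ i, i < 114 → P i := stepQ 113 Q113 (allL N113 (tt N304 D308) (tt N305 D309) (tt N38 (iv D113)) (tt N306 D310) (tt N307 D311))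
theorem Q115 : ∀ i, i < 115 → P i := stepQ 114 Q114 (allL N114 (tt N257 (iv F114)) (tt N287 (iv F123)) (tt N306 (iv F135)) (tt N38 (iv D114)) (tt N308 D312))
theorem Q116 : ∀ i, i < 116 → P i := stepQ 115 Q115 (allL N115 (tt N309 D313) (tt N39 (iv D115)) (tt N310 D314) (tt N311 D315) (tt N312 D316))
theorem Q117 : ∀ i, i < 117 → P i := stepQ 116 Q116 (allL N116 (tt N313 D317) (tt N311 (iv F139)) (tt N40 F45) (tt N39 (iv D116)) (tt N314 D318))
theorem Q118 : ∀ i, i < 118 → P i := stepQ 117 Q117 (allL N117 (tt N117 F46) (tt N312 (iv F140)) (tt N50 F47) (tt N307 F2044) (tt N39 (iv D117)))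
theorem Q119 : ∀ i, i < 119 → P i := stepQ 118 Q118 (allL N118 (tt N40 (iv D118)) (tt N315 D320) (tt N316 D321) (tt N301 (iv F132)) (tt N317 D322))
theorem Q120 : ∀ i, i < 120 → P i := stepQ 119 Q119 (allL N119 (tt N317 (iv F144)) (tt N293 (iv F125)) (tt N52 F3366) (tt N308 (iv F138)) (tt N40 (iv D119)))
theorem Q121 : ∀ i, i < 121 → P i := stepQ 120 Q120 (allL N120 (tt N41 (iv D120)) (tt N211 (iv F92)) (tt N318 D324) (tt N319 D325) (tt N320 D326))
theorem Q122 : ∀ i, i < 122 → P i := stepQ 121 Q121 (allL N121 (tt N321 D327) (tt N322 D328) (tt N41 (iv D121)) (tt N323 D329) (tt N324 D330))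
theorem Q123 : ∀ i, i < 123 → P i := stepQ 122 Q122 (allL N122 (tt N325 D331) (tt N43 F48) (tt N323 (iv F146)) (tt N41 (iv D122)) (tt N326 D332))
theorem Q124 : ∀ i, i < 124 → P i := stepQ 123 Q123 (allL N123 (tt N320 (iv F145)) (tt N44 F49) (tt N327 D333) (tt N328 D334) (tt N41 (iv D123)))
theorem Q125 : ∀ i, i < 125 → P i := stepQ 124 Q124 (allL N124 (tt N329 D335) (tt N42 (iv D124)) (tt N330 D336) (tt N331 D337) (tt N332 D338))
theorem Q126 : ∀ i, i < 126 → P i := stepQ 125 Q125 (allL N125 (tt N111 F50) (tt N331 (iv F150)) (tt N43 F51) (tt N42 (iv D125)) (tt N333 D339))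
theorem Q127 : ∀ i, i < 127 → P i := stepQ 126 Q126 (allL N126 (tt N95 F52) (tt N332 (iv F151)) (tt N304 (iv F134)) (tt N334 D340) (tt N42 (iv D126)))
theorem Q128 : ∀ i, i < 128 → P i := stepQ 127 Q127 (allL N127 (tt N127 F53) (tt N326 (iv F147)) (tt N335 D341) (tt N51 F54) (tt N43 (iv D127)))
theorem Q129 : ∀ i, i < 129 → P i := stepQ 128 Q128 (allL N128 (tt N336 D342) (tt N337 D343) (tt N44 (iv D128)) (tt N338 D344) (tt N339 D345))
theorem Q130 : ∀ i, i < 130 → P i := stepQ 129 Q129 (allL N129 (tt N129 F55) (tt N328 (iv F149)) (tt N338 (iv F157)) (tt N44 (iv D129)) (tt N340 D346))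
theorem Q131 : ∀ i, i < 131 → P i := stepQ 130 Q130 (allL N130 (tt N45 (iv D130)) (tt N341 D347) (tt N300 (iv F131)) (tt N342 D348) (tt N343 D349))
theorem Q132 : ∀ i, i < 132 → P i := stepQ 131 Q131 (allL N131 (tt N344 D350) (tt N45 (iv D131)) (tt N345 D351) (tt N346 D352) (tt N347 D353))
theorem Q133 : ∀ i, i < 133 → P i := stepQ 132 Q132 (allL N132 (tt N348 D354) (tt N346 (iv F162)) (tt N46 F56) (tt N45 (iv D132)) (tt N349 D355))
theorem Q134 : ∀ i, i < 134 → P i := stepQ 133 Q133 (allL N133 (tt N343 (iv F161)) (tt N347 (iv F163)) (tt N307 (iv F137)) (tt N50 (iv F2046)) (tt N45 (iv D133)))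
theorem Q135 : ∀ i, i < 135 → P i := stepQ 134 Q134 (allL N134 (tt N134 F57) (tt N225 (iv F98)) (tt N308 (iv F3365)) (tt N52 F58) (tt N46 (iv D134)))
theorem Q136 : ∀ i, i < 136 → P i := stepQ 135 Q135 (allL N135 (tt N350 D358) (tt N47 (iv D135)) (tt N351 D359) (tt N352 D360) (tt N353 D361))
theorem Q137 : ∀ i, i < 137 → P i := stepQ 136 Q136 (allL N136 (tt N145 (iv F62)) (tt N352 (iv F166)) (tt N255 (iv F113)) (tt N47 (iv D136)) (tt N354 D362))
theorem Q138 : ∀ i, i < 138 → P i := stepQ 137 Q137 (allL N137 (tt N50 F59) (tt N353 (iv F167)) (tt N260 (iv F117)) (tt N355 D363) (tt N47 (iv D137)))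
theorem Q139 : ∀ i, i < 139 → P i := stepQ 138 Q138 (allL N138 (tt N48 (iv D138)) (tt N356 D364) (tt N357 D365) (tt N358 D366) (tt N359 D367))
theorem Q140 : ∀ i, i < 140 → P i := stepQ 139 Q139 (allL N139 (tt N360 D368) (tt N230 (iv F101)) (tt N48 (iv D139)) (tt N361 D369) (tt N362 D370))
theorem Q141 : ∀ i, i < 141 → P i := stepQ 140 Q140 (allL N140 (tt N363 D371) (tt N49 F60) (tt N361 (iv F169)) (tt N48 (iv D140)) (tt N364 D372))
theorem Q142 : ∀ i, i < 142 → P i := stepQ 141 Q141 (allL N141 (tt N359 (iv F168)) (tt N50 F61) (tt N365 D373) (tt N347 F2051) (tt N48 (iv D141)))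
theorem Q143 : ∀ i, i < 143 → P i := stepQ 142 Q142 (allL N142 (tt N49 (iv D142)) (tt N366 D375) (tt N367 D376) (tt N368 D377) (tt N369 D378))
theorem Q144 : ∀ i, i < 144 → P i := stepQ 143 Q143 (allL N143 (tt N369 (iv F174)) (tt N364 (iv F170)) (tt N314 (iv F3382)) (tt N349 F2069) (tt N49 (iv D143)))
theorem Q145 : ∀ i, i < 145 → P i := stepQ 144 Q144 (allL N144 (tt N370 D383) (tt N51 (iv D145)) (tt N371 D384) (tt N326 F148) (tt N372 D385))
theorem Q146 : ∀ i, i < 146 → P i := stepQ 145 Q145 (allL N145 (tt N136 F62) (tt N373 D386) (tt N51 (iv D146)) (tt N335 (iv F155)) (tt N374 D387))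
theorem Q147 : ∀ i, i < 147 → P i := stepQ 146 Q146 (allL N146 (tt N52 F63) (tt N372 (iv F175)) (tt N375 D388) (tt N340 (iv F159)) (tt N51 (iv D147)))
theorem Q148 : ∀ i, i < 148 → P i := stepQ 147 Q147 (allL N147 (tt N53 (iv D149)) (tt N376 D392) (tt N377 D393) (tt N378 D394) (tt N379 D395))
theorem Q149 : ∀ i, i < 149 → P i := stepQ 148 Q148 (allL N148 (tt N380 D396) (tt N53 (iv D150)) (tt N381 D397) (tt N382 D398) (tt N383 D399))
theorem Q150 : ∀ i, i < 150 → P i := stepQ 149 Q149 (allL N149 (tt N384 D400) (tt N382 (iv F182)) (tt N54 F64) (tt N53 (iv D151)) (tt N385 D401))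
theorem Q151 : ∀ i, i < 151 → P i := stepQ 150 Q150 (allL N150 (tt N379 (iv F179)) (tt N383 (iv F183)) (tt N386 D402) (tt N387 D403) (tt N53 (iv D152)))
theorem Q152 : ∀ i, i < 152 → P i := stepQ 151 Q151 (allL N151 (tt N54 (iv D153)) (tt N388 D404) (tt N389 D405) (tt N390 D406) (tt N391 D407))
theorem Q153 : ∀ i, i < 153 → P i := stepQ 152 Q152 (allL N152 (tt N391 (iv F187)) (tt N61 F65) (tt N392 D408) (tt N393 D409) (tt N54 (iv D154)))
theorem Q154 : ∀ i, i < 154 → P i := stepQ 153 Q153 (allL N153 (tt N394 D410) (tt N395 D411) (tt N55 (iv D155)) (tt N396 D412) (tt N397 D413))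
theorem Q155 : ∀ i, i < 155 → P i := stepQ 154 Q154 (allL N154 (tt N398 D414) (tt N63 F66) (tt N396 (iv F190)) (tt N55 (iv D156)) (tt N399 D415))
theorem Q156 : ∀ i, i < 156 → P i := stepQ 155 Q155 (allL N155 (tt N239 (iv F106)) (tt N56 (iv D157)) (tt N400 D416) (tt N401 D417) (tt N402 D418))
theorem Q157 : ∀ i, i < 157 → P i := stepQ 156 Q156 (allL N156 (tt N65 F67) (tt N403 D419) (tt N56 (iv D158)) (tt N404 D420) (tt N405 D421))
theorem Q158 : ∀ i, i < 158 → P i := stepQ 157 Q157 (allL N157 (tt N77 F68) (tt N401 (iv F192)) (tt N404 (iv F195)) (tt N56 (iv D159)) (tt N406 D422))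
theorem Q159 : ∀ i, i < 159 → P i := stepQ 158 Q158 (allL N158 (tt N59 F69) (tt N402 (iv F193)) (tt N407 D423) (tt N408 D424) (tt N56 (iv D160)))
theorem Q160 : ∀ i, i < 160 → P i := stepQ 159 Q159 (allL N159 (tt N57 (iv D161)) (tt N409 D425) (tt N410 D426) (tt N411 D427) (tt N412 D428))
theorem Q161 : ∀ i, i < 161 → P i := stepQ 160 Q160 (allL N160 (tt N413 D429) (tt N381 (iv F181)) (tt N57 (iv D162)) (tt N414 D430) (tt N415 D431))
theorem Q162 : ∀ i, i < 162 → P i := stepQ 161 Q161 (allL N161 (tt N416 D432) (tt N58 F70) (tt N414 (iv F203)) (tt N57 (iv D163)) (tt N417 D433))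
theorem Q163 : ∀ i, i < 163 → P i := stepQ 162 Q162 (allL N162 (tt N412 (iv F202)) (tt N59 F71) (tt N418 D434) (tt N419 D435) (tt N57 (iv D164)))
theorem Q164 : ∀ i, i < 164 → P i := stepQ 163 Q163 (allL N163 (tt N58 (iv D165)) (tt N420 D436) (tt N421 D437) (tt N422 D438) (tt N423 D439))
theorem Q165 : ∀ i, i < 165 → P i := stepQ 164 Q164 (allL N164 (tt N423 (iv F208)) (tt N417 (iv F204)) (tt N424 D440) (tt N425 D441) (tt N58 (iv D166)))
theorem Q166 : ∀ i, i < 166 → P i := stepQ 165 Q165 (allL N165 (tt N74 F72) (tt N426 D442) (tt N59 (iv D167)) (tt N427 D443) (tt N428 D444))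
theorem Q167 : ∀ i, i < 167 → P i := stepQ 166 Q166 (allL N166 (tt N429 D445) (tt N419 (iv F205)) (tt N427 (iv F209)) (tt N59 (iv D168)) (tt N430 D446))
theorem Q168 : ∀ i, i < 168 → P i := stepQ 167 Q167 (allL N167 (tt N431 D447) (tt N60 (iv D169)) (tt N432 D448) (tt N433 D449) (tt N434 D450))
theorem Q169 : ∀ i, i < 169 → P i := stepQ 168 Q168 (allL N168 (tt N66 F73) (tt N435 D451) (tt N60 (iv D170)) (tt N436 D452) (tt N437 D453))
theorem Q170 : ∀ i, i < 170 → P i := stepQ 169 Q169 (allL N169 (tt N78 F74) (tt N433 (iv F212)) (tt N436 (iv F215)) (tt N60 (iv D171)) (tt N438 D454))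
theorem Q171 : ∀ i, i < 171 → P i := stepQ 170 Q170 (allL N170 (tt N61 F75) (tt N434 (iv F213)) (tt N439 D455) (tt N440 D456) (tt N60 (iv D172)))
theorem Q172 : ∀ i, i < 172 → P i := stepQ 171 Q171 (allL N171 (tt N441 D457) (tt N442 D458) (tt N61 (iv D173)) (tt N443 D459) (tt N444 D460))
theorem Q173 : ∀ i, i < 173 → P i := stepQ 172 Q172 (allL N172 (tt N81 F76) (tt N393 (iv F188)) (tt N443 (iv F220)) (tt N61 (iv D174)) (tt N445 D461))
theorem Q174 : ∀ i, i < 174 → P i := stepQ 173 Q173 (allL N173 (tt N62 (iv D175)) (tt N446 D462) (tt N405 (iv F198)) (tt N447 D463) (tt N448 D464))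
theorem Q175 : ∀ i, i < 175 → P i := stepQ 174 Q174 (allL N174 (tt N449 D465) (tt N62 (iv D176)) (tt N450 D466) (tt N451 D467) (tt N452 D468))
theorem Q176 : ∀ i, i < 176 → P i := stepQ 175 Q175 (allL N175 (tt N453 D469) (tt N451 (iv F225)) (tt N63 F77) (tt N62 (iv D177)) (tt N454 D470))
theorem Q177 : ∀ i, i < 177 → P i := stepQ 176 Q176 (allL N176 (tt N448 (iv F224)) (tt N452 (iv F226)) (tt N428 (iv F211)) (tt N444 F1191) (tt N62 (iv D178)))
theorem Q178 : ∀ i, i < 178 → P i := stepQ 177 Q177 (allL N177 (tt N63 (iv D179)) (tt N455 D472) (tt N456 D473) (tt N438 (iv F218)) (tt N457 D474))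
theorem Q179 : ∀ i, i < 179 → P i := stepQ 178 Q178 (allL N178 (tt N457 (iv F228)) (tt N399 (iv F191)) (tt N430 F2176) (tt N445 (iv F222)) (tt N63 (iv D180)))
theorem Q180 : ∀ i, i < 180 → P i := stepQ 179 Q179 (allL N179 (tt N64 (iv D181)) (tt N458 D476) (tt N459 D477) (tt N460 D478) (tt N461 D479))
theorem Q181 : ∀ i, i < 181 → P i := stepQ 180 Q180 (allL N180 (tt N462 D480) (tt N463 D481) (tt N64 (iv D182)) (tt N464 D482) (tt N465 D483))
theorem Q182 : ∀ i, i < 182 → P i := stepQ 181 Q181 (allL N181 (tt N466 D484) (tt N66 F78) (tt N464 (iv F233)) (tt N64 (iv D183)) (tt N467 D485))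
theorem Q183 : ∀ i, i < 183 → P i := stepQ 182 Q182 (allL N182 (tt N461 (iv F231)) (tt N67 F79) (tt N468 D486) (tt N469 D487) (tt N64 (iv D184)))
theorem Q184 : ∀ i, i < 184 → P i := stepQ 183 Q183 (allL N183 (tt N403 (iv F194)) (tt N65 (iv D185)) (tt N470 D488) (tt N471 D489) (tt N472 D490))
theorem Q185 : ∀ i, i < 185 → P i := stepQ 184 Q184 (allL N184 (tt N421 (iv F206)) (tt N471 (iv F236)) (tt N66 F80) (tt N65 (iv D186)) (tt N473 D491))
theorem Q186 : ∀ i, i < 186 → P i := stepQ 185 Q185 (allL N185 (tt N405 (iv F197)) (tt N472 (iv F237)) (tt N82 F81) (tt N474 D492) (tt N65 (iv D187)))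
theorem Q187 : ∀ i, i < 187 → P i := stepQ 186 Q186 (allL N186 (tt N437 (iv F216)) (tt N467 (iv F234)) (tt N475 D493) (tt N476 D494) (tt N66 (iv D188)))
theorem Q188 : ∀ i, i < 188 → P i := stepQ 187 Q187 (allL N187 (tt N407 (iv F200)) (tt N477 D495) (tt N67 (iv D189)) (tt N478 D496) (tt N479 D497))
theorem Q189 : ∀ i, i < 189 → P i := stepQ 188 Q188 (allL N188 (tt N480 D498) (tt N469 (iv F235)) (tt N478 (iv F240)) (tt N67 (iv D190)) (tt N481 D499))
theorem Q190 : ∀ i, i < 190 → P i := stepQ 189 Q189 (allL N189 (tt N458 (iv F229)) (tt N68 (iv D191)) (tt N189 F82) (tt N482 D500) (tt N483 D501))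
theorem Q191 : ∀ i, i < 191 → P i := stepQ 190 Q190 (allL N190 (tt N484 D502) (tt N485 D503) (tt N68 (iv D192)) (tt N486 D504) (tt N487 D505))
theorem Q192 : ∀ i, i < 192 → P i := stepQ 191 Q191 (allL N191 (tt N488 D506) (tt N482 (iv F242)) (tt N486 (iv F246)) (tt N68 (iv D193)) (tt N489 D507))
theorem Q193 : ∀ i, i < 193 → P i := stepQ 192 Q192 (allL N192 (tt N71 F83) (tt N483 (iv F244)) (tt N490 D508) (tt N491 D509) (tt N68 (iv D194)))
theorem Q194 : ∀ i, i < 194 → P i := stepQ 193 Q193 (allL N193 (tt N69 (iv D195)) (tt N413 (iv F303)) (tt N492 D511) (tt N493 D512) (tt N494 D513))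
theorem Q195 : ∀ i, i < 195 → P i := stepQ 194 Q194 (allL N194 (tt N495 D514) (tt N103 F84) (tt N70 F85) (tt N69 (iv D196)) (tt N496 D515))
theorem Q196 : ∀ i, i < 196 → P i := stepQ 195 Q195 (allL N195 (tt N494 (iv F249)) (tt N104 F86) (tt N497 D516) (tt N498 D517) (tt N69 (iv D197)))
theorem Q197 : ∀ i, i < 197 → P i := stepQ 196 Q196 (allL N196 (tt N70 (iv D198)) (tt N499 D518) (tt N500 D519) (tt N501 D520) (tt N502 D521))
theorem Q198 : ∀ i, i < 198 → P i := stepQ 197 Q197 (allL N197 (tt N502 (iv F253)) (tt N73 F87) (tt N503 D522) (tt N504 D523) (tt N70 (iv D199)))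
theorem Q199 : ∀ i, i < 199 → P i := stepQ 198 Q198 (allL N198 (tt N505 D524) (tt N506 D525) (tt N71 (iv D200)) (tt N507 D526) (tt N508 D527))
theorem Q200 : ∀ i, i < 200 → P i := stepQ 199 Q199 (allL N199 (tt N509 D528) (tt N75 F88) (tt N507 (iv F255)) (tt N71 (iv D201)) (tt N510 D529))
theorem Q201 : ∀ i, i < 201 → P i := stepQ 200 Q200 (allL N200 (tt N511 D530) (tt N72 (iv D202)) (tt N512 D531) (tt N513 D532) (tt N514 D533))
theorem Q202 : ∀ i, i < 202 → P i := stepQ 201 Q201 (allL N201 (tt N404 (iv F196)) (tt N515 D534) (tt N72 (iv D203)) (tt N516 D535) (tt N517 D536))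
theorem Q203 : ∀ i, i < 203 → P i := stepQ 202 Q202 (allL N202 (tt N436 (iv F214)) (tt N513 (iv F257)) (tt N516 (iv F259)) (tt N72 (iv D204)) (tt N518 D537))
theorem Q204 : ∀ i, i < 204 → P i := stepQ 203 Q203 (allL N203 (tt N73 F89) (tt N514 (iv F258)) (tt N519 D538) (tt N520 D539) (tt N72 (iv D205)))
theorem Q205 : ∀ i, i < 205 → P i := stepQ 204 Q204 (allL N204 (tt N521 D540) (tt N522 D541) (tt N73 (iv D206)) (tt N523 D542) (tt N524 D543))
theorem Q206 : ∀ i, i < 206 → P i := stepQ 205 Q205 (allL N205 (tt N476 (iv F239)) (tt N504 (iv F254)) (tt N523 (iv F263)) (tt N73 (iv D207)) (tt N525 D544))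
theorem Q207 : ∀ i, i < 207 → P i := stepQ 206 Q206 (allL N206 (tt N526 D545) (tt N74 (iv D208)) (tt N527 D546) (tt N528 D547) (tt N526 (iv F267)))
theorem Q208 : ∀ i, i < 208 → P i := stepQ 207 Q207 (allL N207 (tt N529 D548) (tt N528 (iv F268)) (tt N75 F90) (tt N74 (iv D209)) (tt N530 D549))
theorem Q209 : ∀ i, i < 209 → P i := stepQ 208 Q208 (allL N208 (tt N428 (iv F210)) (tt N526 (iv F266)) (tt N85 F91) (tt N524 F1184) (tt N74 (iv D210)))
theorem Q210 : ∀ i, i < 210 → P i := stepQ 209 Q209 (allL N209 (tt N75 (iv D211)) (tt N531 D551) (tt N532 D552) (tt N518 (iv F261)) (tt N533 D553))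
theorem Q211 : ∀ i, i < 211 → P i := stepQ 210 Q210 (allL N210 (tt N533 (iv F270)) (tt N510 (iv F256)) (tt N87 (iv F2175)) (tt N525 (iv F265)) (tt N75 (iv D212)))
theorem Q212 : ∀ i, i < 212 → P i := stepQ 211 Q211 (allL N211 (tt N76 (iv D213)) (tt N120 F92) (tt N534 D555) (tt N535 D556) (tt N536 D557))
theorem Q213 : ∀ i, i < 213 → P i := stepQ 212 Q212 (allL N212 (tt N537 D558) (tt N538 D559) (tt N76 (iv D214)) (tt N539 D560) (tt N540 D561))
theorem Q214 : ∀ i, i < 214 → P i := stepQ 213 Q213 (allL N213 (tt N213 F915) (tt N78 F93) (tt N539 (iv F274)) (tt N76 (iv D215)) (tt N541 D563))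
theorem Q215 : ∀ i, i < 215 → P i := stepQ 214 Q214 (allL N214 (tt N536 (iv F272)) (tt N79 F94) (tt N542 D564) (tt N543 D565) (tt N76 (iv D216)))
theorem Q216 : ∀ i, i < 216 → P i := stepQ 215 Q215 (allL N215 (tt N544 D566) (tt N77 (iv D217)) (tt N545 D567) (tt N546 D568) (tt N547 D569))
theorem Q217 : ∀ i, i < 217 → P i := stepQ 216 Q216 (allL N216 (tt N422 (iv F207)) (tt N546 (iv F278)) (tt N78 F95) (tt N77 (iv D218)) (tt N548 D570))
theorem Q218 : ∀ i, i < 218 → P i := stepQ 217 Q217 (allL N217 (tt N406 (iv F199)) (tt N547 (iv F279)) (tt N521 (iv F262)) (tt N549 D571) (tt N77 (iv D219)))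
theorem Q219 : ∀ i, i < 219 → P i := stepQ 218 Q218 (allL N218 (tt N438 (iv F217)) (tt N541 (iv F275)) (tt N550 D572) (tt N86 F96) (tt N78 (iv D220)))
theorem Q220 : ∀ i, i < 220 → P i := stepQ 219 Q219 (allL N219 (tt N551 D573) (tt N552 D574) (tt N79 (iv D221)) (tt N553 D575) (tt N554 D576))
theorem Q221 : ∀ i, i < 221 → P i := stepQ 220 Q220 (allL N220 (tt N440 (iv F219)) (tt N543 (iv F277)) (tt N553 (iv F281)) (tt N79 (iv D222)) (tt N555 D577))
theorem Q222 : ∀ i, i < 222 → P i := stepQ 221 Q221 (allL N221 (tt N80 (iv D223)) (tt N556 D578) (tt N517 (iv F260)) (tt N557 D579) (tt N558 D580))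
theorem Q223 : ∀ i, i < 223 → P i := stepQ 222 Q222 (allL N222 (tt N559 D581) (tt N80 (iv D224)) (tt N560 D582) (tt N561 D583) (tt N562 D584))
theorem Q224 : ∀ i, i < 224 → P i := stepQ 223 Q223 (allL N223 (tt N563 D585) (tt N561 (iv F285)) (tt N81 F97) (tt N80 (iv D225)) (tt N564 D586))
theorem Q225 : ∀ i, i < 225 → P i := stepQ 224 Q224 (allL N224 (tt N558 (iv F283)) (tt N562 (iv F286)) (tt N524 (iv F264)) (tt N85 (iv F1173)) (tt N80 (iv D226)))
theorem Q226 : ∀ i, i < 226 → P i := stepQ 225 Q225 (allL N225 (tt N445 (iv F221)) (tt N134 F98) (tt N525 F2177) (tt N87 F99) (tt N81 (iv D227)))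
theorem Q227 : ∀ i, i < 227 → P i := stepQ 226 Q226 (allL N226 (tt N565 D589) (tt N82 (iv D228)) (tt N566 D590) (tt N567 D591) (tt N568 D592))
theorem Q228 : ∀ i, i < 228 → P i := stepQ 227 Q227 (allL N227 (tt N456 (iv F227)) (tt N567 (iv F288)) (tt N474 (iv F238)) (tt N82 (iv D229)) (tt N569 D593))
theorem Q229 : ∀ i, i < 229 → P i := stepQ 228 Q228 (allL N228 (tt N85 F100) (tt N568 (iv F289)) (tt N479 (iv F241)) (tt N570 D594) (tt N82 (iv D230)))
theorem Q230 : ∀ i, i < 230 → P i := stepQ 229 Q229 (allL N229 (tt N83 (iv D231)) (tt N571 D595) (tt N572 D596) (tt N573 D597) (tt N574 D598))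
theorem Q231 : ∀ i, i < 231 → P i := stepQ 230 Q230 (allL N230 (tt N575 D599) (tt N139 F101) (tt N83 (iv D232)) (tt N576 D600) (tt N577 D601))
theorem Q232 : ∀ i, i < 232 → P i := stepQ 231 Q231 (allL N231 (tt N578 D602) (tt N84 F102) (tt N576 (iv F293)) (tt N83 (iv D233)) (tt N579 D603))
theorem Q233 : ∀ i, i < 233 → P i := stepQ 232 Q232 (allL N232 (tt N574 (iv F291)) (tt N85 F103) (tt N580 D604) (tt N562 F1177) (tt N83 (iv D234)))
theorem Q234 : ∀ i, i < 234 → P i := stepQ 233 Q233 (allL N233 (tt N84 (iv D235)) (tt N581 D606) (tt N582 D607) (tt N583 D608) (tt N584 D609))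
theorem Q235 : ∀ i, i < 235 → P i := stepQ 234 Q234 (allL N234 (tt N584 (iv F297)) (tt N579 (iv F295)) (tt N530 F2167) (tt N564 F1181) (tt N84 (iv D236)))
theorem Q236 : ∀ i, i < 236 → P i := stepQ 235 Q235 (allL N235 (tt N585 D614) (tt N86 (iv D238)) (tt N586 D615) (tt N541 F276) (tt N587 D616))
theorem Q237 : ∀ i, i < 237 → P i := stepQ 236 Q236 (allL N236 (tt N447 (iv F223)) (tt N588 D617) (tt N86 (iv D239)) (tt N550 (iv F280)) (tt N589 D618))
theorem Q238 : ∀ i, i < 238 → P i := stepQ 237 Q237 (allL N237 (tt N87 F104) (tt N587 (iv F299)) (tt N590 D619) (tt N555 (iv F282)) (tt N86 (iv D240)))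
theorem Q239 : ∀ i, i < 239 → P i := stepQ 238 Q238 (allL N238 (tt N98 F105) (tt N88 (iv D242)) (tt N591 D623) (tt N592 D624) (tt N593 D625))
theorem Q240 : ∀ i, i < 240 → P i := stepQ 239 Q239 (allL N239 (tt N155 F106) (tt N594 D626) (tt N88 (iv D243)) (tt N595 D627) (tt N596 D628))
theorem Q241 : ∀ i, i < 241 → P i := stepQ 240 Q240 (allL N240 (tt N597 D629) (tt N592 (iv F304)) (tt N595 (iv F309)) (tt N88 (iv D244)) (tt N598 D630))
theorem Q242 : ∀ i, i < 242 → P i := stepQ 241 Q241 (allL N241 (tt N91 F107) (tt N593 (iv F306)) (tt N599 D631) (tt N600 D632) (tt N88 (iv D245)))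
theorem Q243 : ∀ i, i < 243 → P i := stepQ 242 Q242 (allL N242 (tt N89 (iv D246)) (tt N601 D633) (tt N602 D634) (tt N603 D635) (tt N604 D636))
theorem Q244 : ∀ i, i < 244 → P i := stepQ 243 Q243 (allL N243 (tt N492 (iv F347)) (tt N89 (iv D247)) (tt N484 (iv F346)) (tt N605 D639) (tt N606 D640))
theorem Q245 : ∀ i, i < 245 → P i := stepQ 244 Q244 (allL N244 (tt N607 D641) (tt N605 (iv F315)) (tt N90 F108) (tt N89 (iv D248)) (tt N608 D642))
theorem Q246 : ∀ i, i < 246 → P i := stepQ 245 Q245 (allL N245 (tt N604 (iv F313)) (tt N606 (iv F316)) (tt N609 D643) (tt N610 D644) (tt N89 (iv D249)))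
theorem Q247 : ∀ i, i < 247 → P i := stepQ 246 Q246 (allL N246 (tt N90 (iv D250)) (tt N611 D645) (tt N612 D646) (tt N613 D647) (tt N614 D648))
theorem Q248 : ∀ i, i < 248 → P i := stepQ 247 Q247 (allL N247 (tt N614 (iv F318)) (tt N95 F109) (tt N615 D649) (tt N616 D650) (tt N90 (iv D251)))
theorem Q249 : ∀ i, i < 249 → P i := stepQ 248 Q248 (allL N248 (tt N617 D651) (tt N618 D652) (tt N91 (iv D252)) (tt N619 D653) (tt N620 D654))
theorem Q250 : ∀ i, i < 250 → P i := stepQ 249 Q249 (allL N249 (tt N621 D655) (tt N97 F110) (tt N619 (iv F320)) (tt N91 (iv D253)) (tt N622 D656))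
theorem Q251 : ∀ i, i < 251 → P i := stepQ 250 Q250 (allL N250 (tt N92 (iv D254)) (tt N377 (iv F178)) (tt N623 D657) (tt N624 D658) (tt N625 D659))
theorem Q252 : ∀ i, i < 252 → P i := stepQ 251 Q251 (allL N251 (tt N470 (iv F344)) (tt N484 (iv F345)) (tt N92 (iv D255)) (tt N626 D661) (tt N627 D662))
theorem Q253 : ∀ i, i < 253 → P i := stepQ 252 Q252 (allL N252 (tt N628 D663) (tt N93 F111) (tt N626 (iv F323)) (tt N92 (iv D256)) (tt N629 D664))
theorem Q254 : ∀ i, i < 254 → P i := stepQ 253 Q253 (allL N253 (tt N625 (iv F322)) (tt N94 F112) (tt N630 D665) (tt N631 D666) (tt N92 (iv D257)))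
theorem Q255 : ∀ i, i < 255 → P i := stepQ 254 Q254 (allL N254 (tt N300 (iv F130)) (tt N629 (iv F324)) (tt N336 (iv F156)) (tt N632 D667) (tt N93 (iv D258)))
theorem Q256 : ∀ i, i < 256 → P i := stepQ 255 Q255 (allL N255 (tt N367 (iv F172)) (tt N631 (iv F325)) (tt N136 F113) (tt N94 (iv D259)) (tt N633 D668))
theorem Q257 : ∀ i, i < 257 → P i := stepQ 256 Q256 (allL N256 (tt N302 (iv F133)) (tt N634 D669) (tt N95 (iv D260)) (tt N635 D670) (tt N636 D671))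
theorem Q258 : ∀ i, i < 258 → P i := stepQ 257 Q257 (allL N257 (tt N114 F114) (tt N616 (iv F319)) (tt N635 (iv F328)) (tt N95 (iv D261)) (tt N637 D672))
theorem Q259 : ∀ i, i < 259 → P i := stepQ 258 Q258 (allL N258 (tt N638 D673) (tt N96 (iv D262)) (tt N639 D674) (tt N640 D675) (tt N641 D676))
theorem Q260 : ∀ i, i < 260 → P i := stepQ 259 Q259 (allL N259 (tt N316 (iv F143)) (tt N640 (iv F332)) (tt N97 F115) (tt N96 (iv D263)) (tt N642 D677))
theorem Q261 : ∀ i, i < 261 → P i := stepQ 260 Q260 (allL N260 (tt N260 F116) (tt N641 (iv F333)) (tt N137 F117) (tt N636 F2063) (tt N96 (iv D264)))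
theorem Q262 : ∀ i, i < 262 → P i := stepQ 261 Q261 (allL N261 (tt N97 (iv D265)) (tt N643 D679) (tt N313 (iv F141)) (tt N333 (iv F153)) (tt N375 F3376))
theorem Q263 : ∀ i, i < 263 → P i := stepQ 262 Q262 (allL N262 (tt N375 (iv F3368)) (tt N622 (iv F321)) (tt N633 (iv F3369)) (tt N637 (iv F331)) (tt N97 (iv D266)))
theorem Q264 : ∀ i, i < 264 → P i := stepQ 263 Q263 (allL N263 (tt N591 (iv F301)) (tt N380 (iv F180)) (tt N98 (iv D267)) (tt N644 D682) (tt N645 D683))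
theorem Q265 : ∀ i, i < 265 → P i := stepQ 264 Q264 (allL N264 (tt N646 D684) (tt N100 F118) (tt N644 (iv F336)) (tt N98 (iv D268)) (tt N647 D685))
theorem Q266 : ∀ i, i < 266 → P i := stepQ 265 Q265 (allL N265 (tt N593 (iv F305)) (tt N101 F119) (tt N648 D686) (tt N649 D687) (tt N98 (iv D269)))
theorem Q267 : ∀ i, i < 267 → P i := stepQ 266 Q266 (allL N266 (tt N99 (iv D270)) (tt N650 D688) (tt N651 D689) (tt N652 D690) (tt N653 D691))
theorem Q268 : ∀ i, i < 268 → P i := stepQ 267 Q267 (allL N267 (tt N654 D692) (tt N99 (iv D271)) (tt N655 D693) (tt N656 D694) (tt N657 D695))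
theorem Q269 : ∀ i, i < 269 → P i := stepQ 268 Q268 (allL N268 (tt N658 D696) (tt N656 (iv F354)) (tt N100 F120) (tt N99 (iv D272)) (tt N659 D697))
theorem Q270 : ∀ i, i < 270 → P i := stepQ 269 Q269 (allL N269 (tt N653 (iv F350)) (tt N657 (iv F355)) (tt N660 D698) (tt N661 D699) (tt N99 (iv D273)))
theorem Q271 : ∀ i, i < 271 → P i := stepQ 270 Q270 (allL N270 (tt N100 (iv D274)) (tt N662 D700) (tt N663 D701) (tt N664 D702) (tt N665 D703))
theorem Q272 : ∀ i, i < 272 → P i := stepQ 271 Q271 (allL N271 (tt N665 (iv F362)) (tt N647 (iv F337)) (tt N666 D704) (tt N667 D705) (tt N100 (iv D275)))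
theorem Q273 : ∀ i, i < 273 → P i := stepQ 272 Q272 (allL N272 (tt N668 D706) (tt N669 D707) (tt N101 (iv D276)) (tt N670 D708) (tt N671 D709))
theorem Q274 : ∀ i, i < 274 → P i := stepQ 273 Q273 (allL N273 (tt N672 D710) (tt N649 (iv F338)) (tt N670 (iv F364)) (tt N101 (iv D277)) (tt N673 D711))
theorem Q275 : ∀ i, i < 275 → P i := stepQ 274 Q274 (allL N274 (tt N381 F302) (tt N102 (iv D278)) (tt N674 D712) (tt N675 D713) (tt N676 D714))
theorem Q276 : ∀ i, i < 276 → P i := stepQ 275 Q275 (allL N275 (tt N651 (iv F340)) (tt N275 F343) (tt N102 (iv D279)) (tt N677 D715) (tt N678 D716))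
theorem Q277 : ∀ i, i < 277 → P i := stepQ 276 Q276 (allL N276 (tt N663 (iv F359)) (tt N675 (iv F367)) (tt N677 (iv F370)) (tt N102 (iv D280)) (tt N679 D717))
theorem Q278 : ∀ i, i < 278 → P i := stepQ 277 Q277 (allL N277 (tt N104 F121) (tt N676 (iv F368)) (tt N680 D718) (tt N681 D719) (tt N102 (iv D281)))
theorem Q279 : ∀ i, i < 279 → P i := stepQ 278 Q278 (allL N278 (tt N103 (iv D282)) (tt N682 D720) (tt N683 D721) (tt N684 D722) (tt N685 D723))
theorem Q280 : ∀ i, i < 280 → P i := stepQ 279 Q279 (allL N279 (tt N685 (iv F373)) (tt N496 (iv F250)) (tt N686 D724) (tt N687 D725) (tt N103 (iv D283)))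
theorem Q281 : ∀ i, i < 281 → P i := stepQ 280 Q280 (allL N280 (tt N660 (iv F356)) (tt N688 D726) (tt N104 (iv D284)) (tt N689 D727) (tt N690 D728))
theorem Q282 : ∀ i, i < 282 → P i := stepQ 281 Q281 (allL N281 (tt N691 D729) (tt N498 (iv F251)) (tt N689 (iv F374)) (tt N104 (iv D285)) (tt N692 D730))
theorem Q283 : ∀ i, i < 283 → P i := stepQ 282 Q282 (allL N282 (tt N693 D731) (tt N105 (iv D286)) (tt N694 D732) (tt N695 D733) (tt N696 D734))
theorem Q284 : ∀ i, i < 284 → P i := stepQ 283 Q283 (allL N283 (tt N652 (iv F349)) (tt N697 D735) (tt N105 (iv D287)) (tt N698 D736) (tt N699 D737))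
theorem Q285 : ∀ i, i < 285 → P i := stepQ 284 Q284 (allL N284 (tt N664 (iv F360)) (tt N695 (iv F377)) (tt N698 (iv F379)) (tt N105 (iv D288)) (tt N700 D738))
theorem Q286 : ∀ i, i < 286 → P i := stepQ 285 Q285 (allL N285 (tt N106 F122) (tt N696 (iv F378)) (tt N701 D739) (tt N702 D740) (tt N105 (iv D289)))
theorem Q287 : ∀ i, i < 287 → P i := stepQ 286 Q286 (allL N286 (tt N703 D741) (tt N704 D742) (tt N106 (iv D290)) (tt N705 D743) (tt N706 D744))
theorem Q288 : ∀ i, i < 288 → P i := stepQ 287 Q287 (allL N287 (tt N667 (iv F363)) (tt N114 F123) (tt N705 (iv F381)) (tt N106 (iv D291)) (tt N707 D745))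
theorem Q289 : ∀ i, i < 289 → P i := stepQ 288 Q288 (allL N288 (tt N107 (iv D292)) (tt N708 D746) (tt N678 (iv F372)) (tt N709 D747) (tt N710 D748))
theorem Q290 : ∀ i, i < 290 → P i := stepQ 289 Q289 (allL N289 (tt N711 D749) (tt N107 (iv D293)) (tt N712 D750) (tt N713 D751) (tt N580 F867))
theorem Q291 : ∀ i, i < 291 → P i := stepQ 290 Q290 (allL N290 (tt N714 D753) (tt N713 (iv F386)) (tt N108 F124) (tt N107 (iv D294)) (tt N715 D754))
theorem Q292 : ∀ i, i < 292 → P i := stepQ 291 Q291 (allL N291 (tt N710 (iv F384)) (tt N580 F866) (tt N690 (iv F375)) (tt N706 F2784) (tt N107 (iv D295)))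
theorem Q293 : ∀ i, i < 293 → P i := stepQ 292 Q292 (allL N292 (tt N108 (iv D296)) (tt N716 D756) (tt N717 D757) (tt N700 (iv F380)) (tt N718 D758))
theorem Q294 : ∀ i, i < 294 → P i := stepQ 293 Q293 (allL N293 (tt N718 (iv F388)) (tt N119 F125) (tt N692 F5279) (tt N707 (iv F383)) (tt N108 (iv D297)))
theorem Q295 : ∀ i, i < 295 → P i := stepQ 294 Q294 (allL N294 (tt N109 (iv D298)) (tt N693 (iv F376)) (tt N719 D760) (tt N720 D761) (tt N721 D762))
theorem Q296 : ∀ i, i < 296 → P i := stepQ 295 Q295 (allL N295 (tt N722 D763) (tt N723 D764) (tt N109 (iv D299)) (tt N724 D765) (tt N725 D766))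
theorem Q297 : ∀ i, i < 297 → P i := stepQ 296 Q296 (allL N296 (tt N726 D767) (tt N111 F126) (tt N724 (iv F390)) (tt N109 (iv D300)) (tt N727 D768))
theorem Q298 : ∀ i, i < 298 → P i := stepQ 297 Q297 (allL N297 (tt N721 (iv F389)) (tt N112 F127) (tt N728 D769) (tt N729 D770) (tt N109 (iv D301)))
theorem Q299 : ∀ i, i < 299 → P i := stepQ 298 Q298 (allL N298 (tt N730 D771) (tt N110 (iv D302)) (tt N731 D772) (tt N732 D773) (tt N733 D774))
theorem Q300 : ∀ i, i < 300 → P i := stepQ 299 Q299 (allL N299 (tt N299 F128) (tt N732 (iv F394)) (tt N111 F129) (tt N110 (iv D303)) (tt N734 D775))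
theorem Q301 : ∀ i, i < 301 → P i := stepQ 300 Q300 (allL N300 (tt N254 F130) (tt N733 (iv F395)) (tt N130 F131) (tt N735 D776) (tt N110 (iv D304)))
theorem Q302 : ∀ i, i < 302 → P i := stepQ 301 Q301 (allL N301 (tt N333 (iv F152)) (tt N727 (iv F391)) (tt N736 D777) (tt N118 F132) (tt N111 (iv D305)))
theorem Q303 : ∀ i, i < 303 → P i := stepQ 302 Q302 (allL N302 (tt N256 F133) (tt N737 D778) (tt N112 (iv D306)) (tt N738 D779) (tt N739 D780))
theorem Q304 : ∀ i, i < 304 → P i := stepQ 303 Q303 (allL N303 (tt N334 (iv F154)) (tt N729 (iv F393)) (tt N738 (iv F404)) (tt N112 (iv D307)) (tt N740 D781))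
theorem Q305 : ∀ i, i < 305 → P i := stepQ 304 Q304 (allL N304 (tt N113 (iv D308)) (tt N741 D782) (tt N126 F134) (tt N742 D783) (tt N743 D784))
theorem Q306 : ∀ i, i < 306 → P i := stepQ 305 Q305 (allL N305 (tt N744 D785) (tt N113 (iv D309)) (tt N745 D786) (tt N746 D787) (tt N747 D788))
theorem Q307 : ∀ i, i < 307 → P i := stepQ 306 Q306 (allL N306 (tt N306 F136) (tt N746 (iv F412)) (tt N114 F135) (tt N113 (iv D310)) (tt N748 D789))
theorem Q308 : ∀ i, i < 308 → P i := stepQ 307 Q307 (allL N307 (tt N743 (iv F410)) (tt N747 (iv F413)) (tt N133 F137) (tt N117 (iv F2044)) (tt N113 (iv D311)))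
theorem Q309 : ∀ i, i < 309 → P i := stepQ 308 Q308 (allL N308 (tt N637 (iv F330)) (tt N707 (iv F382)) (tt N134 F3365) (tt N119 F138) (tt N114 (iv D312)))
theorem Q310 : ∀ i, i < 310 → P i := stepQ 309 Q309 (allL N309 (tt N115 (iv D313)) (tt N749 D792) (tt N750 D793) (tt N751 D794) (tt N752 D795))
theorem Q311 : ∀ i, i < 311 → P i := stepQ 310 Q310 (allL N310 (tt N753 D796) (tt N712 (iv F385)) (tt N115 (iv D314)) (tt N754 D797) (tt N755 D798))
theorem Q312 : ∀ i, i < 312 → P i := stepQ 311 Q311 (allL N311 (tt N756 D799) (tt N116 F139) (tt N754 (iv F424)) (tt N115 (iv D315)) (tt N757 D800))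
theorem Q313 : ∀ i, i < 313 → P i := stepQ 312 Q312 (allL N312 (tt N752 (iv F422)) (tt N117 F140) (tt N758 D801) (tt N747 F2043) (tt N115 (iv D316)))
theorem Q314 : ∀ i, i < 314 → P i := stepQ 313 Q313 (allL N313 (tt N116 (iv D317)) (tt N759 D803) (tt N261 F141) (tt N760 D804) (tt N761 D805))
theorem Q315 : ∀ i, i < 315 → P i := stepQ 314 Q314 (allL N314 (tt N761 (iv F429)) (tt N757 (iv F425)) (tt N143 F3382) (tt N748 F2066) (tt N116 (iv D318)))
theorem Q316 : ∀ i, i < 316 → P i := stepQ 315 Q315 (allL N315 (tt N762 D810) (tt N118 (iv D320)) (tt N763 D811) (tt N727 F392) (tt N764 D812))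
theorem Q317 : ∀ i, i < 317 → P i := stepQ 316 Q316 (allL N316 (tt N259 F143) (tt N765 D813) (tt N118 (iv D321)) (tt N736 (iv F401)) (tt N766 D814))
theorem Q318 : ∀ i, i < 318 → P i := stepQ 317 Q317 (allL N317 (tt N119 F144) (tt N764 (iv F431)) (tt N767 D815) (tt N740 (iv F407)) (tt N118 (iv D322)))
theorem Q319 : ∀ i, i < 319 → P i := stepQ 318 Q318 (allL N318 (tt N768 D819) (tt N769 D820) (tt N120 (iv D324)) (tt N770 D821) (tt N771 D822))
theorem Q320 : ∀ i, i < 320 → P i := stepQ 319 Q319 (allL N319 (tt N772 D823) (tt N535 (iv F271)) (tt N770 (iv F435)) (tt N120 (iv D325)) (tt N773 D824))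
theorem Q321 : ∀ i, i < 321 → P i := stepQ 320 Q320 (allL N320 (tt N123 F145) (tt N536 (iv F273)) (tt N774 D825) (tt N775 D826) (tt N120 (iv D326)))
theorem Q322 : ∀ i, i < 322 → P i := stepQ 321 Q321 (allL N321 (tt N121 (iv D327)) (tt N776 D827) (tt N777 D828) (tt N778 D829) (tt N779 D830))
theorem Q323 : ∀ i, i < 323 → P i := stepQ 322 Q322 (allL N322 (tt N501 (iv F252)) (tt N121 (iv D328)) (tt N780 D831) (tt N488 (iv F247)) (tt N781 D832))
theorem Q324 : ∀ i, i < 324 → P i := stepQ 323 Q323 (allL N323 (tt N782 D833) (tt N488 (iv F248)) (tt N122 F146) (tt N121 (iv D329)) (tt N783 D834))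
theorem Q325 : ∀ i, i < 325 → P i := stepQ 324 Q324 (allL N324 (tt N779 (iv F437)) (tt N781 (iv F439)) (tt N784 D835) (tt N785 D836) (tt N121 (iv D330)))
theorem Q326 : ∀ i, i < 326 → P i := stepQ 325 Q325 (allL N325 (tt N122 (iv D331)) (tt N390 (iv F1526)) (tt N786 D838) (tt N388 (iv F1527)) (tt N787 D840))
theorem Q327 : ∀ i, i < 327 → P i := stepQ 326 Q326 (allL N326 (tt N787 (iv F441)) (tt N127 F147) (tt N788 D841) (tt N144 (iv F148)) (tt N122 (iv D332)))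
theorem Q328 : ∀ i, i < 328 → P i := stepQ 327 Q327 (allL N327 (tt N789 D842) (tt N790 D843) (tt N123 (iv D333)) (tt N791 D844) (tt N792 D845))
theorem Q329 : ∀ i, i < 329 → P i := stepQ 328 Q328 (allL N328 (tt N793 D846) (tt N129 F149) (tt N791 (iv F443)) (tt N123 (iv D334)) (tt N794 D847))
theorem Q330 : ∀ i, i < 330 → P i := stepQ 329 Q329 (allL N329 (tt N124 (iv D335)) (tt N795 D848) (tt N796 D849) (tt N797 D850) (tt N798 D851))
theorem Q331 : ∀ i, i < 331 → P i := stepQ 330 Q330 (allL N330 (tt N799 D852) (tt N780 (iv F438)) (tt N124 (iv D336)) (tt N800 D853) (tt N801 D854))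
theorem Q332 : ∀ i, i < 332 → P i := stepQ 331 Q331 (allL N331 (tt N802 D855) (tt N125 F150) (tt N800 (iv F448)) (tt N124 (iv D337)) (tt N803 D856))
theorem Q333 : ∀ i, i < 333 → P i := stepQ 332 Q332 (allL N332 (tt N798 (iv F447)) (tt N126 F151) (tt N804 D857) (tt N805 D858) (tt N124 (iv D338)))
theorem Q334 : ∀ i, i < 334 → P i := stepQ 333 Q333 (allL N333 (tt N301 F152) (tt N803 (iv F449)) (tt N760 (iv F428)) (tt N261 F153) (tt N125 (iv D339)))
theorem Q335 : ∀ i, i < 335 → P i := stepQ 334 Q334 (allL N334 (tt N303 F154) (tt N805 (iv F451)) (tt N742 (iv F409)) (tt N126 (iv D340)) (tt N806 D859))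
theorem Q336 : ∀ i, i < 336 → P i := stepQ 335 Q335 (allL N335 (tt N368 (iv F173)) (tt N807 D860) (tt N127 (iv D341)) (tt N145 F155) (tt N808 D861))
theorem Q337 : ∀ i, i < 337 → P i := stepQ 336 Q336 (allL N336 (tt N128 (iv D342)) (tt N809 D862) (tt N254 F156) (tt N348 (iv F164)) (tt N355 F2053))
theorem Q338 : ∀ i, i < 338 → P i := stepQ 337 Q337 (allL N337 (tt N810 D864) (tt N128 (iv D343)) (tt N811 D865) (tt N812 D866) (tt N813 D867))
theorem Q339 : ∀ i, i < 339 → P i := stepQ 338 Q338 (allL N338 (tt N342 (iv F160)) (tt N812 (iv F457)) (tt N129 F157) (tt N128 (iv D344)) (tt N814 D868))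
theorem Q340 : ∀ i, i < 340 → P i := stepQ 339 Q339 (allL N339 (tt N355 (iv F2047)) (tt N813 (iv F458)) (tt N743 (iv F411)) (tt N808 (iv F2049)) (tt N128 (iv D345)))
theorem Q341 : ∀ i, i < 341 → P i := stepQ 340 Q340 (allL N340 (tt N340 F158) (tt N794 (iv F444)) (tt N806 (iv F3374)) (tt N146 F159) (tt N129 (iv D346)))
theorem Q342 : ∀ i, i < 342 → P i := stepQ 341 Q341 (allL N341 (tt N815 D871) (tt N130 (iv D347)) (tt N816 D872) (tt N817 D873) (tt N818 D874))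
theorem Q343 : ∀ i, i < 343 → P i := stepQ 342 Q342 (allL N342 (tt N338 F160) (tt N817 (iv F460)) (tt N735 (iv F400)) (tt N130 (iv D348)) (tt N819 D875))
theorem Q344 : ∀ i, i < 344 → P i := stepQ 343 Q343 (allL N343 (tt N133 F161) (tt N818 (iv F461)) (tt N739 (iv F406)) (tt N820 D876) (tt N130 (iv D349)))
theorem Q345 : ∀ i, i < 345 → P i := stepQ 344 Q344 (allL N344 (tt N131 (iv D350)) (tt N821 D877) (tt N822 D878) (tt N823 D879) (tt N824 D880))
theorem Q346 : ∀ i, i < 346 → P i := stepQ 345 Q345 (allL N345 (tt N825 D881) (tt N560 (iv F284)) (tt N131 (iv D351)) (tt N826 D882) (tt N827 D883))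
theorem Q347 : ∀ i, i < 347 → P i := stepQ 346 Q346 (allL N346 (tt N828 D884) (tt N132 F162) (tt N826 (iv F465)) (tt N131 (iv D352)) (tt N829 D885))
theorem Q348 : ∀ i, i < 348 → P i := stepQ 347 Q347 (allL N347 (tt N824 (iv F464)) (tt N133 F163) (tt N830 D886) (tt N141 (iv F2051)) (tt N131 (iv D353)))
theorem Q349 : ∀ i, i < 349 → P i := stepQ 348 Q348 (allL N348 (tt N132 (iv D354)) (tt N831 D888) (tt N632 (iv F326)) (tt N336 F164) (tt N832 D889))
theorem Q350 : ∀ i, i < 350 → P i := stepQ 349 Q349 (allL N349 (tt N832 (iv F469)) (tt N829 (iv F466)) (tt N748 (iv F3373)) (tt N143 (iv F2069)) (tt N132 (iv D355)))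
theorem Q351 : ∀ i, i < 351 → P i := stepQ 350 Q350 (allL N350 (tt N135 (iv D358)) (tt N833 D897) (tt N834 D898) (tt N835 D899) (tt N836 D900))
theorem Q352 : ∀ i, i < 352 → P i := stepQ 351 Q351 (allL N351 (tt N837 D901) (tt N838 D902) (tt N135 (iv D359)) (tt N839 D903) (tt N840 D904))
theorem Q353 : ∀ i, i < 353 → P i := stepQ 352 Q352 (allL N352 (tt N841 D905) (tt N136 F166) (tt N839 (iv F476)) (tt N135 (iv D360)) (tt N842 D906))
theorem Q354 : ∀ i, i < 354 → P i := stepQ 353 Q353 (allL N353 (tt N836 (iv F475)) (tt N137 F167) (tt N843 D907) (tt N844 D908) (tt N135 (iv D361)))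
theorem Q355 : ∀ i, i < 355 → P i := stepQ 354 Q354 (allL N354 (tt N374 (iv F176)) (tt N842 (iv F477)) (tt N642 (iv F3387)) (tt N832 F2082) (tt N136 (iv D362)))
theorem Q356 : ∀ i, i < 356 → P i := stepQ 355 Q355 (allL N355 (tt N339 F2047) (tt N844 (iv F478)) (tt N636 (iv F2052)) (tt N137 (iv D363)) (tt N336 (iv F2053)))
theorem Q357 : ∀ i, i < 357 → P i := stepQ 356 Q356 (allL N356 (tt N833 (iv F473)) (tt N138 (iv D364)) (tt N845 D913) (tt N846 D914) (tt N847 D915))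
theorem Q358 : ∀ i, i < 358 → P i := stepQ 357 Q357 (allL N357 (tt N848 D916) (tt N849 D917) (tt N138 (iv D365)) (tt N850 D918) (tt N851 D919))
theorem Q359 : ∀ i, i < 359 → P i := stepQ 358 Q358 (allL N358 (tt N852 D920) (tt N846 (iv F483)) (tt N850 (iv F486)) (tt N138 (iv D366)) (tt N853 D921))
theorem Q360 : ∀ i, i < 360 → P i := stepQ 359 Q359 (allL N359 (tt N141 F168) (tt N847 (iv F484)) (tt N854 D922) (tt N855 D923) (tt N138 (iv D367)))
theorem Q361 : ∀ i, i < 361 → P i := stepQ 360 Q360 (allL N360 (tt N139 (iv D368)) (tt N856 D924) (tt N857 D925) (tt N858 D926) (tt N859 D927))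
theorem Q362 : ∀ i, i < 362 → P i := stepQ 361 Q361 (allL N361 (tt N860 D928) (tt N576 (iv F292)) (tt N140 F169) (tt N139 (iv D369)) (tt N861 D929))
theorem Q363 : ∀ i, i < 363 → P i := stepQ 362 Q362 (allL N362 (tt N859 (iv F487)) (tt N577 (iv F294)) (tt N862 D930) (tt N827 F4837) (tt N139 (iv D370)))
theorem Q364 : ∀ i, i < 364 → P i := stepQ 363 Q363 (allL N363 (tt N140 (iv D371)) (tt N863 D932) (tt N864 D933) (tt N865 D934) (tt N866 D935))
theorem Q365 : ∀ i, i < 365 → P i := stepQ 364 Q364 (allL N364 (tt N866 (iv F488)) (tt N143 F170) (tt N867 D936) (tt N829 F2078) (tt N140 (iv D372)))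
theorem Q366 : ∀ i, i < 366 → P i := stepQ 365 Q365 (allL N365 (tt N868 D938) (tt N508 F1359) (tt N141 (iv D373)) (tt N830 F2061) (tt N506 (iv F1360)))
theorem Q367 : ∀ i, i < 367 → P i := stepQ 366 Q366 (allL N366 (tt N869 D944) (tt N142 (iv D375)) (tt N870 D945) (tt N871 D946) (tt N872 D947))
theorem Q368 : ∀ i, i < 368 → P i := stepQ 367 Q367 (allL N367 (tt N255 F172) (tt N873 D948) (tt N142 (iv D376)) (tt N734 (iv F398)) (tt N767 F3381))
theorem Q369 : ∀ i, i < 369 → P i := stepQ 368 Q368 (allL N368 (tt N335 F173) (tt N871 (iv F492)) (tt N734 (iv F397)) (tt N142 (iv D377)) (tt N820 F2058))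
theorem Q370 : ∀ i, i < 370 → P i := stepQ 369 Q369 (allL N369 (tt N143 F174) (tt N872 (iv F493)) (tt N766 (iv F3390)) (tt N819 F2075) (tt N142 (iv D378)))
theorem Q371 : ∀ i, i < 371 → P i := stepQ 370 Q370 (allL N370 (tt N144 (iv D383)) (tt N585 (iv F298)) (tt N874 D962) (tt N773 (iv F436)) (tt N875 D963))
theorem Q372 : ∀ i, i < 372 → P i := stepQ 371 Q371 (allL N371 (tt N876 D964) (tt N877 D965) (tt N144 (iv D384)) (tt N788 (iv F442)) (tt N878 D966))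
theorem Q373 : ∀ i, i < 373 → P i := stepQ 372 Q372 (allL N372 (tt N875 (iv F506)) (tt N146 F175) (tt N879 D967) (tt N794 (iv F445)) (tt N144 (iv D385)))
theorem Q374 : ∀ i, i < 374 → P i := stepQ 373 Q373 (allL N373 (tt N880 D968) (tt N145 (iv D386)) (tt N881 D969) (tt N807 (iv F454)) (tt N882 D970))
theorem Q375 : ∀ i, i < 375 → P i := stepQ 374 Q374 (allL N374 (tt N354 F176) (tt N882 (iv F507)) (tt N761 (iv F3391)) (tt N814 F2072) (tt N145 (iv D387)))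
theorem Q376 : ∀ i, i < 376 → P i := stepQ 375 Q375 (allL N375 (tt N262 F3368) (tt N883 D973) (tt N146 (iv D388)) (tt N806 (iv F3375)) (tt N261 (iv F3376)))
theorem Q377 : ∀ i, i < 377 → P i := stepQ 376 Q376 (allL N376 (tt N459 (iv F230)) (tt N147 (iv D392)) (tt N884 D982) (tt N885 D983) (tt N886 D984))
theorem Q378 : ∀ i, i < 378 → P i := stepQ 377 Q377 (allL N377 (tt N377 F177) (tt N250 F178) (tt N147 (iv D393)) (tt N887 D985) (tt N888 D986))
theorem Q379 : ∀ i, i < 379 → P i := stepQ 378 Q378 (allL N378 (tt N389 (iv F185)) (tt N885 (iv F515)) (tt N887 (iv F518)) (tt N147 (iv D394)) (tt N889 D987))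
theorem Q380 : ∀ i, i < 380 → P i := stepQ 379 Q379 (allL N379 (tt N150 F179) (tt N886 (iv F516)) (tt N890 D988) (tt N891 D989) (tt N147 (iv D395)))
theorem Q381 : ∀ i, i < 381 → P i := stepQ 380 Q380 (allL N380 (tt N148 (iv D396)) (tt N263 F180) (tt N892 D990) (tt N893 D991) (tt N894 D992))
theorem Q382 : ∀ i, i < 382 → P i := stepQ 381 Q381 (allL N381 (tt N274 (iv F302)) (tt N160 F181) (tt N148 (iv D397)) (tt N895 D993) (tt N896 D994))
theorem Q383 : ∀ i, i < 383 → P i := stepQ 382 Q382 (allL N382 (tt N897 D995) (tt N149 F182) (tt N895 (iv F528)) (tt N148 (iv D398)) (tt N898 D996))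
theorem Q384 : ∀ i, i < 384 → P i := stepQ 383 Q383 (allL N383 (tt N894 (iv F525)) (tt N150 F183) (tt N899 D997) (tt N900 D998) (tt N148 (iv D399)))
theorem Q385 : ∀ i, i < 385 → P i := stepQ 384 Q384 (allL N384 (tt N149 (iv D400)) (tt N901 D999) (tt N902 D1000) (tt N903 D1001) (tt N904 D1002))
theorem Q386 : ∀ i, i < 386 → P i := stepQ 385 Q385 (allL N385 (tt N904 (iv F534)) (tt N898 (iv F531)) (tt N905 D1003) (tt N906 D1004) (tt N149 (iv D401)))
theorem Q387 : ∀ i, i < 387 → P i := stepQ 386 Q386 (allL N386 (tt N386 F184) (tt N752 (iv F423)) (tt N150 (iv D402)) (tt N907 D1005) (tt N749 F421))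
theorem Q388 : ∀ i, i < 388 → P i := stepQ 387 Q387 (allL N387 (tt N908 D1006) (tt N900 (iv F532)) (tt N907 (iv F535)) (tt N150 (iv D403)) (tt N909 D1007))
theorem Q389 : ∀ i, i < 389 → P i := stepQ 388 Q388 (allL N388 (tt N910 D1008) (tt N151 (iv D404)) (tt N911 D1009) (tt N325 F1527) (tt N912 D1011))
theorem Q390 : ∀ i, i < 390 → P i := stepQ 389 Q389 (allL N389 (tt N378 F185) (tt N913 D1012) (tt N151 (iv D405)) (tt N914 D1013) (tt N915 D1014))
theorem Q391 : ∀ i, i < 391 → P i := stepQ 390 Q390 (allL N390 (tt N390 F186) (tt N325 F1526) (tt N914 (iv F540)) (tt N151 (iv D406)) (tt N916 D1015))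
theorem Q392 : ∀ i, i < 392 → P i := stepQ 391 Q391 (allL N391 (tt N152 F187) (tt N912 (iv F538)) (tt N917 D1016) (tt N918 D1017) (tt N151 (iv D407)))
theorem Q393 : ∀ i, i < 393 → P i := stepQ 392 Q392 (allL N392 (tt N919 D1018) (tt N920 D1019) (tt N152 (iv D408)) (tt N921 D1020) (tt N922 D1021))
theorem Q394 : ∀ i, i < 394 → P i := stepQ 393 Q393 (allL N393 (tt N393 F189) (tt N172 F188) (tt N921 (iv F545)) (tt N152 (iv D409)) (tt N923 D1022))
theorem Q395 : ∀ i, i < 395 → P i := stepQ 394 Q394 (allL N394 (tt N153 (iv D410)) (tt N924 D1023) (tt N888 (iv F521)) (tt N925 D1024) (tt N926 D1025))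
theorem Q396 : ∀ i, i < 396 → P i := stepQ 395 Q395 (allL N395 (tt N927 D1026) (tt N153 (iv D411)) (tt N928 D1027) (tt N929 D1028) (tt N930 D1029))
theorem Q397 : ∀ i, i < 397 → P i := stepQ 396 Q396 (allL N396 (tt N931 D1030) (tt N929 (iv F552)) (tt N154 F190) (tt N153 (iv D412)) (tt N932 D1031))
theorem Q398 : ∀ i, i < 398 → P i := stepQ 397 Q397 (allL N397 (tt N926 (iv F549)) (tt N930 (iv F553)) (tt N749 (iv F420)) (tt N922 F1663) (tt N153 (iv D413)))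
theorem Q399 : ∀ i, i < 399 → P i := stepQ 398 Q398 (allL N398 (tt N154 (iv D414)) (tt N933 D1033) (tt N934 D1034) (tt N916 (iv F543)) (tt N935 D1035))
theorem Q400 : ∀ i, i < 400 → P i := stepQ 399 Q399 (allL N399 (tt N935 (iv F555)) (tt N178 F191) (tt N909 (iv F3361)) (tt N923 (iv F548)) (tt N154 (iv D415)))
theorem Q401 : ∀ i, i < 401 → P i := stepQ 400 Q400 (allL N400 (tt N602 (iv F311)) (tt N651 (iv F341)) (tt N155 (iv D416)) (tt N936 D1037) (tt N937 D1038))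
theorem Q402 : ∀ i, i < 402 → P i := stepQ 401 Q401 (allL N401 (tt N612 (iv F317)) (tt N157 F192) (tt N936 (iv F556)) (tt N155 (iv D417)) (tt N938 D1039))
theorem Q403 : ∀ i, i < 403 → P i := stepQ 402 Q402 (allL N402 (tt N596 (iv F310)) (tt N158 F193) (tt N939 D1040) (tt N940 D1041) (tt N155 (iv D418)))
theorem Q404 : ∀ i, i < 404 → P i := stepQ 403 Q403 (allL N403 (tt N183 F194) (tt N156 (iv D419)) (tt N650 (iv F342)) (tt N941 D1042) (tt N942 D1043))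
theorem Q405 : ∀ i, i < 405 → P i := stepQ 404 Q404 (allL N404 (tt N201 F196) (tt N941 (iv F559)) (tt N157 F195) (tt N156 (iv D420)) (tt N943 D1044))
theorem Q406 : ∀ i, i < 406 → P i := stepQ 405 Q405 (allL N405 (tt N185 F197) (tt N942 (iv F561)) (tt N173 F198) (tt N944 D1045) (tt N156 (iv D421)))
theorem Q407 : ∀ i, i < 407 → P i := stepQ 406 Q406 (allL N406 (tt N217 F199) (tt N938 (iv F557)) (tt N945 D1046) (tt N946 D1047) (tt N157 (iv D422)))
theorem Q408 : ∀ i, i < 408 → P i := stepQ 407 Q407 (allL N407 (tt N187 F200) (tt N947 D1048) (tt N158 (iv D423)) (tt N948 D1049) (tt N949 D1050))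
theorem Q409 : ∀ i, i < 409 → P i := stepQ 408 Q408 (allL N408 (tt N950 D1051) (tt N940 (iv F558)) (tt N948 (iv F568)) (tt N158 (iv D424)) (tt N951 D1052))
theorem Q410 : ∀ i, i < 410 → P i := stepQ 409 Q409 (allL N409 (tt N594 (iv F307)) (tt N159 (iv D425)) (tt N409 F201) (tt N952 D1053) (tt N953 D1054))
theorem Q411 : ∀ i, i < 411 → P i := stepQ 410 Q410 (allL N410 (tt N954 D1055) (tt N654 (iv F352)) (tt N159 (iv D426)) (tt N955 D1056) (tt N956 D1057))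
theorem Q412 : ∀ i, i < 412 → P i := stepQ 411 Q411 (allL N411 (tt N957 D1058) (tt N952 (iv F574)) (tt N955 (iv F578)) (tt N159 (iv D427)) (tt N958 D1059))
theorem Q413 : ∀ i, i < 413 → P i := stepQ 412 Q412 (allL N412 (tt N162 F202) (tt N953 (iv F576)) (tt N959 D1060) (tt N960 D1061) (tt N159 (iv D428)))
theorem Q414 : ∀ i, i < 414 → P i := stepQ 413 Q413 (allL N413 (tt N160 (iv D429)) (tt N193 F303) (tt N961 D1062) (tt N962 D1063) (tt N963 D1064))
theorem Q415 : ∀ i, i < 415 → P i := stepQ 414 Q414 (allL N414 (tt N964 D1065) (tt N895 (iv F527)) (tt N161 F203) (tt N160 (iv D430)) (tt N965 D1066))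
theorem Q416 : ∀ i, i < 416 → P i := stepQ 415 Q415 (allL N415 (tt N963 (iv F581)) (tt N896 (iv F530)) (tt N966 D1067) (tt N967 D1068) (tt N160 (iv D431)))
theorem Q417 : ∀ i, i < 417 → P i := stepQ 416 Q416 (allL N416 (tt N161 (iv D432)) (tt N968 D1069) (tt N969 D1070) (tt N970 D1071) (tt N971 D1072))
theorem Q418 : ∀ i, i < 418 → P i := stepQ 417 Q417 (allL N417 (tt N971 (iv F583)) (tt N164 F204) (tt N972 D1073) (tt N973 D1074) (tt N161 (iv D433)))
theorem Q419 : ∀ i, i < 419 → P i := stepQ 418 Q418 (allL N418 (tt N974 D1075) (tt N975 D1076) (tt N162 (iv D434)) (tt N976 D1077) (tt N977 D1078))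
theorem Q420 : ∀ i, i < 420 → P i := stepQ 419 Q419 (allL N419 (tt N978 D1079) (tt N166 F205) (tt N976 (iv F585)) (tt N162 (iv D435)) (tt N979 D1080))
theorem Q421 : ∀ i, i < 421 → P i := stepQ 420 Q420 (allL N420 (tt N980 D1081) (tt N163 (iv D436)) (tt N981 D1082) (tt N982 D1083) (tt N983 D1084))
theorem Q422 : ∀ i, i < 422 → P i := stepQ 421 Q421 (allL N421 (tt N184 F206) (tt N984 D1085) (tt N163 (iv D437)) (tt N985 D1086) (tt N986 D1087))
theorem Q423 : ∀ i, i < 423 → P i := stepQ 422 Q422 (allL N422 (tt N216 F207) (tt N982 (iv F587)) (tt N985 (iv F590)) (tt N163 (iv D438)) (tt N987 D1088))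
theorem Q424 : ∀ i, i < 424 → P i := stepQ 423 Q423 (allL N423 (tt N164 F208) (tt N983 (iv F588)) (tt N988 D1089) (tt N989 D1090) (tt N163 (iv D439)))
theorem Q425 : ∀ i, i < 425 → P i := stepQ 424 Q424 (allL N424 (tt N990 D1091) (tt N991 D1092) (tt N164 (iv D440)) (tt N992 D1093) (tt N993 D1094))
theorem Q426 : ∀ i, i < 426 → P i := stepQ 425 Q425 (allL N425 (tt N946 (iv F567)) (tt N973 (iv F584)) (tt N992 (iv F598)) (tt N164 (iv D441)) (tt N994 D1095))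
theorem Q427 : ∀ i, i < 427 → P i := stepQ 426 Q426 (allL N426 (tt N995 D1096) (tt N165 (iv D442)) (tt N996 D1097) (tt N997 D1098) (tt N995 (iv F603)))
theorem Q428 : ∀ i, i < 428 → P i := stepQ 427 Q427 (allL N427 (tt N998 D1099) (tt N997 (iv F604)) (tt N166 F209) (tt N165 (iv D443)) (tt N999 D1100))
theorem Q429 : ∀ i, i < 429 → P i := stepQ 428 Q428 (allL N428 (tt N208 F210) (tt N995 (iv F602)) (tt N176 F211) (tt N993 (iv F1189)) (tt N165 (iv D444)))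
theorem Q430 : ∀ i, i < 430 → P i := stepQ 429 Q429 (allL N429 (tt N166 (iv D445)) (tt N1000 D1102) (tt N1001 D1103) (tt N987 (iv F594)) (tt N1002 D1104))
theorem Q431 : ∀ i, i < 431 → P i := stepQ 430 Q430 (allL N430 (tt N1002 (iv F608)) (tt N979 (iv F586)) (tt N178 (iv F2176)) (tt N994 (iv F601)) (tt N166 (iv D446)))
theorem Q432 : ∀ i, i < 432 → P i := stepQ 431 Q431 (allL N431 (tt N167 (iv D447)) (tt N910 (iv F536)) (tt N1003 D1106) (tt N1004 D1107) (tt N1005 D1108))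
theorem Q433 : ∀ i, i < 433 → P i := stepQ 432 Q432 (allL N432 (tt N1006 D1109) (tt N664 (iv F361)) (tt N167 (iv D448)) (tt N662 F358) (tt N1007 D1110))
theorem Q434 : ∀ i, i < 434 → P i := stepQ 433 Q433 (allL N433 (tt N433 F917) (tt N169 F212) (tt N662 (iv F357)) (tt N167 (iv D449)) (tt N1008 D1112))
theorem Q435 : ∀ i, i < 435 → P i := stepQ 434 Q434 (allL N434 (tt N1005 (iv F609)) (tt N170 F213) (tt N1009 D1113) (tt N1010 D1114) (tt N167 (iv D450)))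
theorem Q436 : ∀ i, i < 436 → P i := stepQ 435 Q435 (allL N435 (tt N1011 D1115) (tt N168 (iv D451)) (tt N1012 D1116) (tt N1013 D1117) (tt N1014 D1118))
theorem Q437 : ∀ i, i < 437 → P i := stepQ 436 Q436 (allL N436 (tt N202 F214) (tt N1013 (iv F613)) (tt N169 F215) (tt N168 (iv D452)) (tt N1015 D1119))
theorem Q438 : ∀ i, i < 438 → P i := stepQ 437 Q437 (allL N437 (tt N186 F216) (tt N1014 (iv F614)) (tt N990 (iv F597)) (tt N1016 D1120) (tt N168 (iv D453)))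
theorem Q439 : ∀ i, i < 439 → P i := stepQ 438 Q438 (allL N438 (tt N218 F217) (tt N1008 (iv F610)) (tt N1017 D1121) (tt N177 F218) (tt N169 (iv D454)))
theorem Q440 : ∀ i, i < 440 → P i := stepQ 439 Q439 (allL N439 (tt N1018 D1122) (tt N1019 D1123) (tt N170 (iv D455)) (tt N1020 D1124) (tt N1021 D1125))
theorem Q441 : ∀ i, i < 441 → P i := stepQ 440 Q440 (allL N440 (tt N220 F219) (tt N1010 (iv F612)) (tt N1020 (iv F623)) (tt N170 (iv D456)) (tt N1022 D1126))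
theorem Q442 : ∀ i, i < 442 → P i := stepQ 441 Q441 (allL N441 (tt N171 (iv D457)) (tt N1023 D1127) (tt N986 (iv F592)) (tt N1024 D1128) (tt N1025 D1129))
theorem Q443 : ∀ i, i < 443 → P i := stepQ 442 Q442 (allL N442 (tt N1026 D1130) (tt N171 (iv D458)) (tt N1027 D1131) (tt N1028 D1132) (tt N1029 D1133))
theorem Q444 : ∀ i, i < 444 → P i := stepQ 443 Q443 (allL N443 (tt N1030 D1134) (tt N1028 (iv F628)) (tt N172 F220) (tt N171 (iv D459)) (tt N1031 D1135))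
theorem Q445 : ∀ i, i < 445 → P i := stepQ 444 Q444 (allL N444 (tt N1025 (iv F627)) (tt N1029 (iv F629)) (tt N993 (iv F600)) (tt N176 (iv F1191)) (tt N171 (iv D460)))
theorem Q446 : ∀ i, i < 446 → P i := stepQ 445 Q445 (allL N445 (tt N225 F221) (tt N923 (iv F547)) (tt N994 F2179) (tt N178 F222) (tt N172 (iv D461)))
theorem Q447 : ∀ i, i < 447 → P i := stepQ 446 Q446 (allL N446 (tt N834 (iv F474)) (tt N173 (iv D462)) (tt N1032 D1138) (tt N1033 D1139) (tt N1034 D1140))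
theorem Q448 : ∀ i, i < 448 → P i := stepQ 447 Q447 (allL N447 (tt N236 F223) (tt N1033 (iv F632)) (tt N944 (iv F564)) (tt N173 (iv D463)) (tt N1035 D1141))
theorem Q449 : ∀ i, i < 449 → P i := stepQ 448 Q448 (allL N448 (tt N176 F224) (tt N1034 (iv F633)) (tt N949 (iv F571)) (tt N1036 D1142) (tt N173 (iv D464)))
theorem Q450 : ∀ i, i < 450 → P i := stepQ 449 Q449 (allL N449 (tt N174 (iv D465)) (tt N1037 D1143) (tt N1038 D1144) (tt N1039 D1145) (tt N1040 D1146))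
theorem Q451 : ∀ i, i < 451 → P i := stepQ 450 Q450 (allL N450 (tt N1041 D1147) (tt N928 (iv F551)) (tt N174 (iv D466)) (tt N1042 D1148) (tt N1043 D1149))
theorem Q452 : ∀ i, i < 452 → P i := stepQ 451 Q451 (allL N451 (tt N1044 D1150) (tt N175 F225) (tt N1042 (iv F637)) (tt N174 (iv D467)) (tt N1045 D1151))
theorem Q453 : ∀ i, i < 453 → P i := stepQ 452 Q452 (allL N452 (tt N1040 (iv F636)) (tt N176 F226) (tt N1046 D1152) (tt N1029 (iv F1190)) (tt N174 (iv D468)))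
theorem Q454 : ∀ i, i < 454 → P i := stepQ 453 Q453 (allL N453 (tt N175 (iv D469)) (tt N1047 D1154) (tt N1048 D1155) (tt N1049 D1156) (tt N1050 D1157))
theorem Q455 : ∀ i, i < 455 → P i := stepQ 454 Q454 (allL N454 (tt N1050 (iv F642)) (tt N1045 (iv F638)) (tt N999 F2169) (tt N1031 (iv F1192)) (tt N175 (iv D470)))
theorem Q456 : ∀ i, i < 456 → P i := stepQ 455 Q455 (allL N455 (tt N1051 D1162) (tt N177 (iv D472)) (tt N1052 D1163) (tt N1008 F611) (tt N1053 D1164))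
theorem Q457 : ∀ i, i < 457 → P i := stepQ 456 Q456 (allL N456 (tt N227 F227) (tt N1054 D1165) (tt N177 (iv D473)) (tt N1017 (iv F618)) (tt N1055 D1166))
theorem Q458 : ∀ i, i < 458 → P i := stepQ 457 Q457 (allL N457 (tt N178 F228) (tt N1053 (iv F643)) (tt N1056 D1167) (tt N1022 (iv F625)) (tt N177 (iv D474)))
theorem Q459 : ∀ i, i < 459 → P i := stepQ 458 Q458 (allL N458 (tt N189 F229) (tt N179 (iv D476)) (tt N594 (iv F308)) (tt N1057 D1171) (tt N1058 D1172))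
theorem Q460 : ∀ i, i < 460 → P i := stepQ 459 Q459 (allL N459 (tt N376 F230) (tt N591 (iv F300)) (tt N179 (iv D477)) (tt N1059 D1173) (tt N1060 D1174))
theorem Q461 : ∀ i, i < 461 → P i := stepQ 460 Q460 (allL N460 (tt N1061 D1175) (tt N1057 (iv F645)) (tt N1059 (iv F648)) (tt N179 (iv D478)) (tt N1062 D1176))
theorem Q462 : ∀ i, i < 462 → P i := stepQ 461 Q461 (allL N461 (tt N182 F231) (tt N1058 (iv F647)) (tt N1063 D1177) (tt N1064 D1178) (tt N179 (iv D479)))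
theorem Q463 : ∀ i, i < 463 → P i := stepQ 462 Q462 (allL N462 (tt N180 (iv D480)) (tt N462 F232) (tt N601 (iv F348)) (tt N1065 D1179) (tt N1066 D1180))
theorem Q464 : ∀ i, i < 464 → P i := stepQ 463 Q463 (allL N463 (tt N674 (iv F366)) (tt N180 (iv D481)) (tt N1067 D1181) (tt N1068 D1182) (tt N1069 D1183))
theorem Q465 : ∀ i, i < 465 → P i := stepQ 464 Q464 (allL N464 (tt N1070 D1184) (tt N1068 (iv F655)) (tt N181 F233) (tt N180 (iv D482)) (tt N1071 D1185))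
theorem Q466 : ∀ i, i < 466 → P i := stepQ 465 Q465 (allL N465 (tt N1066 (iv F651)) (tt N1069 (iv F656)) (tt N1072 D1186) (tt N1073 D1187) (tt N180 (iv D483)))
theorem Q467 : ∀ i, i < 467 → P i := stepQ 466 Q466 (allL N466 (tt N181 (iv D484)) (tt N1074 D1188) (tt N1075 D1189) (tt N1076 D1190) (tt N1077 D1191))
theorem Q468 : ∀ i, i < 468 → P i := stepQ 467 Q467 (allL N467 (tt N1077 (iv F658)) (tt N186 F234) (tt N1078 D1192) (tt N1079 D1193) (tt N181 (iv D485)))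
theorem Q469 : ∀ i, i < 469 → P i := stepQ 468 Q468 (allL N468 (tt N1080 D1194) (tt N1081 D1195) (tt N182 (iv D486)) (tt N1082 D1196) (tt N1083 D1197))
theorem Q470 : ∀ i, i < 470 → P i := stepQ 469 Q469 (allL N469 (tt N1084 D1198) (tt N188 F235) (tt N1082 (iv F660)) (tt N182 (iv D487)) (tt N1085 D1199))
theorem Q471 : ∀ i, i < 471 → P i := stepQ 470 Q470 (allL N470 (tt N251 F344) (tt N1067 (iv F654)) (tt N183 (iv D488)) (tt N1086 D1200) (tt N1087 D1201))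
theorem Q472 : ∀ i, i < 472 → P i := stepQ 471 Q471 (allL N471 (tt N1088 D1202) (tt N184 F236) (tt N1086 (iv F662)) (tt N183 (iv D489)) (tt N1089 D1203))
theorem Q473 : ∀ i, i < 473 → P i := stepQ 472 Q472 (allL N472 (tt N942 (iv F560)) (tt N185 F237) (tt N1090 D1204) (tt N1091 D1205) (tt N183 (iv D490)))
theorem Q474 : ∀ i, i < 474 → P i := stepQ 473 Q473 (allL N473 (tt N986 (iv F591)) (tt N1089 (iv F664)) (tt N1018 (iv F620)) (tt N1092 D1206) (tt N184 (iv D491)))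
theorem Q475 : ∀ i, i < 475 → P i := stepQ 474 Q474 (allL N474 (tt N1048 (iv F640)) (tt N1091 (iv F666)) (tt N227 F238) (tt N185 (iv D492)) (tt N1093 D1207))
theorem Q476 : ∀ i, i < 476 → P i := stepQ 475 Q475 (allL N475 (tt N988 (iv F595)) (tt N1094 D1208) (tt N186 (iv D493)) (tt N1095 D1209) (tt N1096 D1210))
theorem Q477 : ∀ i, i < 477 → P i := stepQ 476 Q476 (allL N476 (tt N205 F239) (tt N1079 (iv F659)) (tt N1095 (iv F668)) (tt N186 (iv D494)) (tt N1097 D1211))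
theorem Q478 : ∀ i, i < 478 → P i := stepQ 477 Q477 (allL N477 (tt N1098 D1212) (tt N187 (iv D495)) (tt N1099 D1213) (tt N1100 D1214) (tt N1101 D1215))
theorem Q479 : ∀ i, i < 479 → P i := stepQ 478 Q478 (allL N478 (tt N1001 (iv F607)) (tt N1100 (iv F673)) (tt N188 F240) (tt N187 (iv D496)) (tt N1102 D1216))
theorem Q480 : ∀ i, i < 480 → P i := stepQ 479 Q479 (allL N479 (tt N949 (iv F570)) (tt N1101 (iv F675)) (tt N228 F241) (tt N1096 (iv F1199)) (tt N187 (iv D497)))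
theorem Q481 : ∀ i, i < 481 → P i := stepQ 480 Q480 (allL N480 (tt N188 (iv D498)) (tt N1103 D1218) (tt N998 (iv F605)) (tt N1015 (iv F616)) (tt N1056 F2198))
theorem Q482 : ∀ i, i < 482 → P i := stepQ 481 Q481 (allL N481 (tt N1056 (iv F2191)) (tt N1085 (iv F661)) (tt N1093 (iv F2188)) (tt N1097 (iv F670)) (tt N188 (iv D499)))
theorem Q483 : ∀ i, i < 483 → P i := stepQ 482 Q482 (allL N482 (tt N1104 D1221) (tt N191 F242) (tt N482 F243) (tt N189 (iv D500)) (tt N1105 D1222))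
theorem Q484 : ∀ i, i < 484 → P i := stepQ 483 Q483 (allL N483 (tt N1058 (iv F646)) (tt N192 F244) (tt N1106 D1223) (tt N1107 D1224) (tt N189 (iv D501)))
theorem Q485 : ∀ i, i < 485 → P i := stepQ 484 Q484 (allL N484 (tt N190 (iv D502)) (tt N251 F345) (tt N243 F346) (tt N1108 D1225) (tt N1109 D1226))
theorem Q486 : ∀ i, i < 486 → P i := stepQ 485 Q485 (allL N485 (tt N655 (iv F353)) (tt N190 (iv D503)) (tt N485 F245) (tt N1110 D1227) (tt N1111 D1228))
theorem Q487 : ∀ i, i < 487 → P i := stepQ 486 Q486 (allL N486 (tt N1112 D1229) (tt N1110 (iv F687)) (tt N191 F246) (tt N190 (iv D504)) (tt N1113 D1230))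
theorem Q488 : ∀ i, i < 488 → P i := stepQ 487 Q487 (allL N487 (tt N1109 (iv F685)) (tt N1111 (iv F689)) (tt N1114 D1231) (tt N1115 D1232) (tt N190 (iv D505)))
theorem Q489 : ∀ i, i < 489 → P i := stepQ 488 Q488 (allL N488 (tt N191 (iv D506)) (tt N323 F248) (tt N1116 D1233) (tt N322 F247) (tt N1117 D1234))
theorem Q490 : ∀ i, i < 490 → P i := stepQ 489 Q489 (allL N489 (tt N1117 (iv F694)) (tt N1105 (iv F678)) (tt N1118 D1235) (tt N1119 D1236) (tt N191 (iv D507)))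
theorem Q491 : ∀ i, i < 491 → P i := stepQ 490 Q490 (allL N490 (tt N1120 D1237) (tt N1121 D1238) (tt N192 (iv D508)) (tt N1122 D1239) (tt N1123 D1240))
theorem Q492 : ∀ i, i < 492 → P i := stepQ 491 Q491 (allL N491 (tt N1124 D1241) (tt N1107 (iv F681)) (tt N1122 (iv F698)) (tt N192 (iv D509)) (tt N1125 D1242))
theorem Q493 : ∀ i, i < 493 → P i := stepQ 492 Q492 (allL N492 (tt N243 F347) (tt N961 (iv F579)) (tt N193 (iv D511)) (tt N1126 D1243) (tt N1127 D1244))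
theorem Q494 : ∀ i, i < 494 → P i := stepQ 493 Q493 (allL N493 (tt N1116 (iv F693)) (tt N962 (iv F580)) (tt N1126 (iv F701)) (tt N193 (iv D512)) (tt N1128 D1245))
theorem Q495 : ∀ i, i < 495 → P i := stepQ 494 Q494 (allL N494 (tt N195 F249) (tt N963 (iv F582)) (tt N1129 D1246) (tt N1130 D1247) (tt N193 (iv D513)))
theorem Q496 : ∀ i, i < 496 → P i := stepQ 495 Q495 (allL N495 (tt N194 (iv D514)) (tt N1131 D1248) (tt N1132 D1249) (tt N1133 D1250) (tt N1134 D1251))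
theorem Q497 : ∀ i, i < 497 → P i := stepQ 496 Q496 (allL N496 (tt N1134 (iv F706)) (tt N279 F250) (tt N1135 D1252) (tt N1136 D1253) (tt N194 (iv D515)))
theorem Q498 : ∀ i, i < 498 → P i := stepQ 497 Q497 (allL N497 (tt N1114 (iv F690)) (tt N1137 D1254) (tt N195 (iv D516)) (tt N1138 D1255) (tt N1139 D1256))
theorem Q499 : ∀ i, i < 499 → P i := stepQ 498 Q498 (allL N498 (tt N1140 D1257) (tt N281 F251) (tt N1138 (iv F708)) (tt N195 (iv D517)) (tt N1141 D1258))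
theorem Q500 : ∀ i, i < 500 → P i := stepQ 499 Q499 (allL N499 (tt N1142 D1259) (tt N196 (iv D518)) (tt N1143 D1260) (tt N1143 F713) (tt N1144 D1261))
theorem Q501 : ∀ i, i < 501 → P i := stepQ 500 Q500 (allL N500 (tt N1108 (iv F684)) (tt N1145 D1262) (tt N196 (iv D519)) (tt N1146 D1263) (tt N1147 D1264))
theorem Q502 : ∀ i, i < 502 → P i := stepQ 501 Q501 (allL N501 (tt N322 F252) (tt N1143 (iv F712)) (tt N1146 (iv F715)) (tt N196 (iv D520)) (tt N1148 D1265))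
theorem Q503 : ∀ i, i < 503 → P i := stepQ 502 Q502 (allL N502 (tt N197 F253) (tt N1144 (iv F714)) (tt N1149 D1266) (tt N1150 D1267) (tt N196 (iv D521)))
theorem Q504 : ∀ i, i < 504 → P i := stepQ 503 Q503 (allL N503 (tt N1151 D1268) (tt N1152 D1269) (tt N197 (iv D522)) (tt N1153 D1270) (tt N1154 D1271))
theorem Q505 : ∀ i, i < 505 → P i := stepQ 504 Q504 (allL N504 (tt N1119 (iv F696)) (tt N205 F254) (tt N1153 (iv F718)) (tt N197 (iv D523)) (tt N1155 D1272))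
theorem Q506 : ∀ i, i < 506 → P i := stepQ 505 Q505 (allL N505 (tt N198 (iv D524)) (tt N1156 D1273) (tt N1127 (iv F703)) (tt N1157 D1274) (tt N1158 D1275))
theorem Q507 : ∀ i, i < 507 → P i := stepQ 506 Q506 (allL N506 (tt N1159 D1276) (tt N198 (iv D525)) (tt N1160 D1277) (tt N1161 D1278) (tt N365 F1360))
theorem Q508 : ∀ i, i < 508 → P i := stepQ 507 Q507 (allL N507 (tt N1162 D1280) (tt N1161 (iv F723)) (tt N199 F255) (tt N198 (iv D526)) (tt N1163 D1281))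
theorem Q509 : ∀ i, i < 509 → P i := stepQ 508 Q508 (allL N508 (tt N1158 (iv F721)) (tt N365 (iv F1359)) (tt N1139 (iv F709)) (tt N1154 F4425) (tt N198 (iv D527)))
theorem Q510 : ∀ i, i < 510 → P i := stepQ 509 Q509 (allL N509 (tt N199 (iv D528)) (tt N1164 D1283) (tt N1165 D1284) (tt N1148 (iv F717)) (tt N1166 D1285))
theorem Q511 : ∀ i, i < 511 → P i := stepQ 510 Q510 (allL N510 (tt N1166 (iv F725)) (tt N210 F256) (tt N1141 F5281) (tt N1155 (iv F720)) (tt N199 (iv D529)))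
theorem Q512 : ∀ i, i < 512 → P i := stepQ 511 Q511 (allL N511 (tt N200 (iv D530)) (tt N1142 (iv F711)) (tt N1167 D1287) (tt N1168 D1288) (tt N1169 D1289))
theorem Q513 : ∀ i, i < 513 → P i := stepQ 512 Q512 (allL N512 (tt N1170 D1290) (tt N1171 D1291) (tt N200 (iv D531)) (tt N1172 D1292) (tt N1173 D1293))
theorem Q514 : ∀ i, i < 514 → P i := stepQ 513 Q513 (allL N513 (tt N1174 D1294) (tt N202 F257) (tt N1172 (iv F727)) (tt N200 (iv D532)) (tt N1175 D1295))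
theorem Q515 : ∀ i, i < 515 → P i := stepQ 514 Q514 (allL N514 (tt N1169 (iv F726)) (tt N203 F258) (tt N1176 D1296) (tt N1177 D1297) (tt N200 (iv D533)))
theorem Q516 : ∀ i, i < 516 → P i := stepQ 515 Q515 (allL N515 (tt N1178 D1298) (tt N201 (iv D534)) (tt N1179 D1299) (tt N1180 D1300) (tt N1181 D1301))
theorem Q517 : ∀ i, i < 517 → P i := stepQ 516 Q516 (allL N516 (tt N985 (iv F589)) (tt N1180 (iv F731)) (tt N202 F259) (tt N201 (iv D535)) (tt N1182 D1302))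
theorem Q518 : ∀ i, i < 518 → P i := stepQ 517 Q517 (allL N517 (tt N943 (iv F562)) (tt N1181 (iv F732)) (tt N221 F260) (tt N1183 D1303) (tt N201 (iv D536)))
theorem Q519 : ∀ i, i < 519 → P i := stepQ 518 Q518 (allL N518 (tt N1015 (iv F615)) (tt N1175 (iv F728)) (tt N1184 D1304) (tt N209 F261) (tt N202 (iv D537)))
theorem Q520 : ∀ i, i < 520 → P i := stepQ 519 Q519 (allL N519 (tt N945 (iv F566)) (tt N1185 D1305) (tt N203 (iv D538)) (tt N1186 D1306) (tt N1187 D1307))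
theorem Q521 : ∀ i, i < 521 → P i := stepQ 520 Q520 (allL N520 (tt N1016 (iv F617)) (tt N1177 (iv F730)) (tt N1186 (iv F737)) (tt N203 (iv D539)) (tt N1188 D1308))
theorem Q522 : ∀ i, i < 522 → P i := stepQ 521 Q521 (allL N521 (tt N204 (iv D540)) (tt N1189 D1309) (tt N217 F262) (tt N1190 D1310) (tt N1191 D1311))
theorem Q523 : ∀ i, i < 523 → P i := stepQ 522 Q522 (allL N522 (tt N1192 D1312) (tt N204 (iv D541)) (tt N1193 D1313) (tt N1194 D1314) (tt N1195 D1315))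
theorem Q524 : ∀ i, i < 524 → P i := stepQ 523 Q523 (allL N523 (tt N992 (iv F599)) (tt N1194 (iv F743)) (tt N205 F263) (tt N204 (iv D542)) (tt N1196 D1316))
theorem Q525 : ∀ i, i < 525 → P i := stepQ 524 Q524 (allL N524 (tt N1191 (iv F741)) (tt N1195 (iv F744)) (tt N224 F264) (tt N208 (iv F1184)) (tt N204 (iv D543)))
theorem Q526 : ∀ i, i < 526 → P i := stepQ 525 Q525 (allL N525 (tt N1097 (iv F669)) (tt N1155 (iv F719)) (tt N225 (iv F2177)) (tt N210 F265) (tt N205 (iv D544)))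
theorem Q527 : ∀ i, i < 527 → P i := stepQ 526 Q526 (allL N526 (tt N206 (iv D545)) (tt N208 F266) (tt N1197 D1319) (tt N1195 (iv F1183)) (tt N206 F267))
theorem Q528 : ∀ i, i < 528 → P i := stepQ 527 Q527 (allL N527 (tt N1198 D1321) (tt N1160 (iv F722)) (tt N206 (iv D546)) (tt N1199 D1322) (tt N1200 D1323))
theorem Q529 : ∀ i, i < 529 → P i := stepQ 528 Q528 (allL N528 (tt N1201 D1324) (tt N207 F268) (tt N1199 (iv F748)) (tt N206 (iv D547)) (tt N1202 D1325))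
theorem Q530 : ∀ i, i < 530 → P i := stepQ 529 Q529 (allL N529 (tt N207 (iv D548)) (tt N1203 D1326) (tt N950 (iv F572)) (tt N1204 D1327) (tt N1205 D1328))
theorem Q531 : ∀ i, i < 531 → P i := stepQ 530 Q530 (allL N530 (tt N1205 (iv F751)) (tt N1202 (iv F749)) (tt N234 (iv F2167)) (tt N1196 (iv F1186)) (tt N207 (iv D549)))
theorem Q532 : ∀ i, i < 532 → P i := stepQ 531 Q531 (allL N531 (tt N1206 D1333) (tt N209 (iv D551)) (tt N1207 D1334) (tt N1175 F729) (tt N1208 D1335))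
theorem Q533 : ∀ i, i < 533 → P i := stepQ 532 Q532 (allL N532 (tt N948 (iv F569)) (tt N1209 D1336) (tt N209 (iv D552)) (tt N1184 (iv F736)) (tt N1210 D1337))
theorem Q534 : ∀ i, i < 534 → P i := stepQ 533 Q533 (allL N533 (tt N210 F270) (tt N1208 (iv F752)) (tt N1211 D1338) (tt N1188 (iv F739)) (tt N209 (iv D553)))
theorem Q535 : ∀ i, i < 535 → P i := stepQ 534 Q534 (allL N534 (tt N1212 D1342) (tt N1213 D1343) (tt N211 (iv D555)) (tt N1214 D1344) (tt N1215 D1345))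
theorem Q536 : ∀ i, i < 536 → P i := stepQ 535 Q535 (allL N535 (tt N535 F924) (tt N319 F271) (tt N1214 (iv F753)) (tt N211 (iv D556)) (tt N1216 D1347))
theorem Q537 : ∀ i, i < 537 → P i := stepQ 536 Q536 (allL N536 (tt N214 F272) (tt N320 F273) (tt N1217 D1348) (tt N1218 D1349) (tt N211 (iv D557)))
theorem Q538 : ∀ i, i < 538 → P i := stepQ 537 Q537 (allL N537 (tt N212 (iv D558)) (tt N1219 D1350) (tt N1220 D1351) (tt N1221 D1352) (tt N1222 D1353))
theorem Q539 : ∀ i, i < 539 → P i := stepQ 538 Q538 (allL N538 (tt N1223 D1354) (tt N212 (iv D559)) (tt N1224 D1355) (tt N1225 D1356) (tt N1226 D1357))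
theorem Q540 : ∀ i, i < 540 → P i := stepQ 539 Q539 (allL N539 (tt N1227 D1358) (tt N1225 (iv F763)) (tt N213 F274) (tt N212 (iv D560)) (tt N1228 D1359))
theorem Q541 : ∀ i, i < 541 → P i := stepQ 540 Q540 (allL N540 (tt N1222 (iv F758)) (tt N1226 (iv F764)) (tt N1229 D1360) (tt N1230 D1361) (tt N212 (iv D561)))
theorem Q542 : ∀ i, i < 542 → P i := stepQ 541 Q541 (allL N541 (tt N541 F916) (tt N218 F275) (tt N1231 D1366) (tt N235 (iv F276)) (tt N213 (iv D563)))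
theorem Q543 : ∀ i, i < 543 → P i := stepQ 542 Q542 (allL N542 (tt N1232 D1367) (tt N1233 D1368) (tt N214 (iv D564)) (tt N1234 D1369) (tt N1235 D1370))
theorem Q544 : ∀ i, i < 544 → P i := stepQ 543 Q543 (allL N543 (tt N543 F921) (tt N220 F277) (tt N1234 (iv F767)) (tt N214 (iv D565)) (tt N1236 D1372))
theorem Q545 : ∀ i, i < 545 → P i := stepQ 544 Q544 (allL N544 (tt N215 (iv D566)) (tt N1237 D1373) (tt N1238 D1374) (tt N1239 D1375) (tt N1240 D1376))
theorem Q546 : ∀ i, i < 546 → P i := stepQ 545 Q545 (allL N545 (tt N1241 D1377) (tt N1224 (iv F761)) (tt N215 (iv D567)) (tt N1242 D1378) (tt N1243 D1379))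
theorem Q547 : ∀ i, i < 547 → P i := stepQ 546 Q546 (allL N546 (tt N1244 D1380) (tt N216 F278) (tt N1242 (iv F771)) (tt N215 (iv D568)) (tt N1245 D1381))
theorem Q548 : ∀ i, i < 548 → P i := stepQ 547 Q547 (allL N547 (tt N1240 (iv F770)) (tt N217 F279) (tt N1246 D1382) (tt N1247 D1383) (tt N215 (iv D569)))
theorem Q549 : ∀ i, i < 549 → P i := stepQ 548 Q548 (allL N548 (tt N987 (iv F593)) (tt N1245 (iv F772)) (tt N1204 (iv F750)) (tt N950 (iv F573)) (tt N216 (iv D570)))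
theorem Q550 : ∀ i, i < 550 → P i := stepQ 549 Q549 (allL N549 (tt N989 (iv F596)) (tt N1247 (iv F773)) (tt N1190 (iv F740)) (tt N217 (iv D571)) (tt N1248 D1384))
theorem Q551 : ∀ i, i < 551 → P i := stepQ 550 Q550 (allL N550 (tt N1049 (iv F641)) (tt N1249 D1385) (tt N218 (iv D572)) (tt N236 F280) (tt N1250 D1386))
theorem Q552 : ∀ i, i < 552 → P i := stepQ 551 Q551 (allL N551 (tt N219 (iv D573)) (tt N1251 D1387) (tt N943 (iv F563)) (tt N1030 (iv F630)) (tt N1036 (iv F1188)))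
theorem Q553 : ∀ i, i < 553 → P i := stepQ 552 Q552 (allL N552 (tt N1252 D1389) (tt N219 (iv D574)) (tt N1253 D1390) (tt N1254 D1391) (tt N1255 D1392))
theorem Q554 : ∀ i, i < 554 → P i := stepQ 553 Q553 (allL N553 (tt N1024 (iv F626)) (tt N1254 (iv F776)) (tt N220 F281) (tt N219 (iv D575)) (tt N1256 D1393))
theorem Q555 : ∀ i, i < 555 → P i := stepQ 554 Q554 (allL N554 (tt N1036 (iv F1187)) (tt N1255 (iv F777)) (tt N1191 (iv F742)) (tt N1250 (iv F1193)) (tt N219 (iv D576)))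
theorem Q556 : ∀ i, i < 556 → P i := stepQ 555 Q555 (allL N555 (tt N1022 (iv F624)) (tt N1236 (iv F768)) (tt N1248 (iv F2189)) (tt N237 F282) (tt N220 (iv D577)))
theorem Q557 : ∀ i, i < 557 → P i := stepQ 556 Q556 (allL N556 (tt N1257 D1396) (tt N221 (iv D578)) (tt N1258 D1397) (tt N1259 D1398) (tt N1260 D1399))
theorem Q558 : ∀ i, i < 558 → P i := stepQ 557 Q557 (allL N557 (tt N1020 (iv F622)) (tt N1259 (iv F779)) (tt N1183 (iv F735)) (tt N221 (iv D579)) (tt N1261 D1400))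
theorem Q559 : ∀ i, i < 559 → P i := stepQ 558 Q558 (allL N558 (tt N224 F283) (tt N1260 (iv F780)) (tt N1187 (iv F738)) (tt N1262 D1401) (tt N221 (iv D580)))
theorem Q560 : ∀ i, i < 560 → P i := stepQ 559 Q559 (allL N559 (tt N222 (iv D581)) (tt N1263 D1402) (tt N1264 D1403) (tt N1265 D1404) (tt N1266 D1405))
theorem Q561 : ∀ i, i < 561 → P i := stepQ 560 Q560 (allL N560 (tt N1267 D1406) (tt N345 F284) (tt N222 (iv D582)) (tt N1268 D1407) (tt N1269 D1408))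
theorem Q562 : ∀ i, i < 562 → P i := stepQ 561 Q561 (allL N561 (tt N1270 D1409) (tt N223 F285) (tt N1268 (iv F784)) (tt N222 (iv D583)) (tt N1271 D1410))
theorem Q563 : ∀ i, i < 563 → P i := stepQ 562 Q562 (allL N562 (tt N1266 (iv F782)) (tt N224 F286) (tt N1272 D1411) (tt N232 (iv F1177)) (tt N222 (iv D584)))
theorem Q564 : ∀ i, i < 564 → P i := stepQ 563 Q563 (allL N563 (tt N223 (iv D585)) (tt N1273 D1413) (tt N1092 (iv F667)) (tt N1018 (iv F621)) (tt N1274 D1414))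
theorem Q565 : ∀ i, i < 565 → P i := stepQ 564 Q564 (allL N564 (tt N1274 (iv F788)) (tt N1271 (iv F786)) (tt N1196 F2166) (tt N234 (iv F1181)) (tt N223 (iv D586)))
theorem Q566 : ∀ i, i < 566 → P i := stepQ 565 Q565 (allL N565 (tt N226 (iv D589)) (tt N1275 D1422) (tt N1276 D1423) (tt N1277 D1424) (tt N1278 D1425))
theorem Q567 : ∀ i, i < 567 → P i := stepQ 566 Q566 (allL N566 (tt N1279 D1426) (tt N1280 D1427) (tt N226 (iv D590)) (tt N1281 D1428) (tt N1282 D1429))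
theorem Q568 : ∀ i, i < 568 → P i := stepQ 567 Q567 (allL N567 (tt N1283 D1430) (tt N227 F288) (tt N1281 (iv F794)) (tt N226 (iv D591)) (tt N1284 D1431))
theorem Q569 : ∀ i, i < 569 → P i := stepQ 568 Q568 (allL N568 (tt N1278 (iv F792)) (tt N228 F289) (tt N1285 D1432) (tt N1286 D1433) (tt N226 (iv D592)))
theorem Q570 : ∀ i, i < 570 → P i := stepQ 569 Q569 (allL N569 (tt N1055 (iv F644)) (tt N1284 (iv F795)) (tt N1102 (iv F2200)) (tt N1274 (iv F1178)) (tt N227 (iv D593)))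
theorem Q571 : ∀ i, i < 571 → P i := stepQ 570 Q570 (allL N570 (tt N1021 (iv F1197)) (tt N1286 (iv F796)) (tt N1096 (iv F1198)) (tt N228 (iv D594)) (tt N1018 (iv F1196)))
theorem Q572 : ∀ i, i < 572 → P i := stepQ 571 Q571 (allL N571 (tt N1275 (iv F790)) (tt N229 (iv D595)) (tt N571 F290) (tt N1287 D1438) (tt N1106 (iv F680)))
theorem Q573 : ∀ i, i < 573 → P i := stepQ 572 Q572 (allL N572 (tt N1288 D1439) (tt N1289 D1440) (tt N229 (iv D596)) (tt N1290 D1441) (tt N1291 D1442))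
theorem Q574 : ∀ i, i < 574 → P i := stepQ 573 Q573 (allL N573 (tt N1292 D1443) (tt N1287 (iv F798)) (tt N1290 (iv F803)) (tt N229 (iv D597)) (tt N1293 D1444))
theorem Q575 : ∀ i, i < 575 → P i := stepQ 574 Q574 (allL N574 (tt N232 F291) (tt N1106 (iv F679)) (tt N1294 D1445) (tt N1295 D1446) (tt N229 (iv D598)))
theorem Q576 : ∀ i, i < 576 → P i := stepQ 575 Q575 (allL N575 (tt N230 (iv D599)) (tt N1041 (iv F1280)) (tt N1296 D1448) (tt N1297 D1449) (tt N1298 D1450))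
theorem Q577 : ∀ i, i < 577 → P i := stepQ 576 Q576 (allL N576 (tt N1299 D1451) (tt N361 F292) (tt N231 F293) (tt N230 (iv D600)) (tt N1300 D1452))
theorem Q578 : ∀ i, i < 578 → P i := stepQ 577 Q577 (allL N577 (tt N1298 (iv F807)) (tt N362 F294) (tt N1301 D1453) (tt N1269 F4836) (tt N230 (iv D601)))
theorem Q579 : ∀ i, i < 579 → P i := stepQ 578 Q578 (allL N578 (tt N231 (iv D602)) (tt N1302 D1455) (tt N1303 D1456) (tt N1304 D1457) (tt N1305 D1458))
theorem Q580 : ∀ i, i < 580 → P i := stepQ 579 Q579 (allL N579 (tt N1305 (iv F811)) (tt N234 F295) (tt N1306 D1459) (tt N1271 (iv F1179)) (tt N231 (iv D603)))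
theorem Q581 : ∀ i, i < 581 → P i := stepQ 580 Q580 (allL N580 (tt N1307 D1461) (tt N291 (iv F866)) (tt N232 (iv D604)) (tt N1272 (iv F1176)) (tt N289 (iv F867)))
theorem Q582 : ∀ i, i < 582 → P i := stepQ 581 Q581 (allL N581 (tt N1308 D1467) (tt N233 (iv D606)) (tt N1309 D1468) (tt N1310 D1469) (tt N1311 D1470))
theorem Q583 : ∀ i, i < 583 → P i := stepQ 582 Q582 (allL N582 (tt N944 (iv F565)) (tt N1312 D1471) (tt N233 (iv D607)) (tt N1182 (iv F734)) (tt N1211 F2183))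
theorem Q584 : ∀ i, i < 584 → P i := stepQ 583 Q583 (allL N583 (tt N1017 (iv F619)) (tt N1310 (iv F815)) (tt N1182 (iv F733)) (tt N233 (iv D608)) (tt N1262 (iv F1174)))
theorem Q585 : ∀ i, i < 585 → P i := stepQ 584 Q584 (allL N584 (tt N234 F297) (tt N1311 (iv F816)) (tt N1210 (iv F2172)) (tt N1261 (iv F1195)) (tt N233 (iv D609)))
theorem Q586 : ∀ i, i < 586 → P i := stepQ 585 Q585 (allL N585 (tt N235 (iv D614)) (tt N370 F298) (tt N1313 D1485) (tt N1216 (iv F755)) (tt N1314 D1486))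
theorem Q587 : ∀ i, i < 587 → P i := stepQ 586 Q586 (allL N586 (tt N1315 D1487) (tt N1316 D1488) (tt N235 (iv D615)) (tt N1231 (iv F766)) (tt N1317 D1489))
theorem Q588 : ∀ i, i < 588 → P i := stepQ 587 Q587 (allL N587 (tt N1314 (iv F824)) (tt N237 F299) (tt N1318 D1490) (tt N1236 (iv F769)) (tt N235 (iv D616)))
theorem Q589 : ∀ i, i < 589 → P i := stepQ 588 Q588 (allL N588 (tt N1319 D1491) (tt N236 (iv D617)) (tt N1320 D1492) (tt N1249 (iv F774)) (tt N1321 D1493))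
theorem Q590 : ∀ i, i < 590 → P i := stepQ 589 Q589 (allL N589 (tt N1035 (iv F634)) (tt N1321 (iv F826)) (tt N1205 F2170) (tt N1256 (iv F1194)) (tt N236 (iv D618)))
theorem Q591 : ∀ i, i < 591 → P i := stepQ 590 Q590 (allL N590 (tt N951 (iv F2193)) (tt N1322 D1496) (tt N237 (iv D619)) (tt N1248 (iv F2190)) (tt N950 (iv F2195)))
theorem Q592 : ∀ i, i < 592 → P i := stepQ 591 Q591 (allL N591 (tt N263 F301) (tt N459 F300) (tt N238 (iv D623)) (tt N1323 D1505) (tt N1324 D1506))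
theorem Q593 : ∀ i, i < 593 → P i := stepQ 592 Q592 (allL N592 (tt N1325 D1507) (tt N240 F304) (tt N1323 (iv F831)) (tt N238 (iv D624)) (tt N1326 D1508))
theorem Q594 : ∀ i, i < 594 → P i := stepQ 593 Q593 (allL N593 (tt N265 F305) (tt N241 F306) (tt N1327 D1509) (tt N1328 D1510) (tt N238 (iv D625)))
theorem Q595 : ∀ i, i < 595 → P i := stepQ 594 Q594 (allL N594 (tt N409 F307) (tt N239 (iv D626)) (tt N458 F308) (tt N1329 D1511) (tt N1330 D1512))
theorem Q596 : ∀ i, i < 596 → P i := stepQ 595 Q595 (allL N595 (tt N1331 D1513) (tt N1329 (iv F837)) (tt N240 F309) (tt N239 (iv D627)) (tt N1332 D1514))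
theorem Q597 : ∀ i, i < 597 → P i := stepQ 596 Q596 (allL N596 (tt N402 F310) (tt N1330 (iv F840)) (tt N1333 D1515) (tt N1334 D1516) (tt N239 (iv D628)))
theorem Q598 : ∀ i, i < 598 → P i := stepQ 597 Q597 (allL N597 (tt N240 (iv D629)) (tt N1335 D1517) (tt N1336 D1518) (tt N1337 D1519) (tt N1338 D1520))
theorem Q599 : ∀ i, i < 599 → P i := stepQ 598 Q598 (allL N598 (tt N1338 (iv F844)) (tt N1326 (iv F834)) (tt N1339 D1521) (tt N1340 D1522) (tt N240 (iv D630)))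
theorem Q600 : ∀ i, i < 600 → P i := stepQ 599 Q599 (allL N599 (tt N1341 D1523) (tt N1342 D1524) (tt N241 (iv D631)) (tt N1343 D1525) (tt N1344 D1526))
theorem Q601 : ∀ i, i < 601 → P i := stepQ 600 Q600 (allL N600 (tt N1345 D1527) (tt N1328 (iv F836)) (tt N1343 (iv F847)) (tt N241 (iv D632)) (tt N1346 D1528))
theorem Q602 : ∀ i, i < 602 → P i := stepQ 601 Q601 (allL N601 (tt N884 (iv F514)) (tt N242 (iv D633)) (tt N462 F348) (tt N1347 D1529) (tt N1348 D1530))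
theorem Q603 : ∀ i, i < 603 → P i := stepQ 602 Q602 (allL N602 (tt N400 F311) (tt N602 F312) (tt N242 (iv D634)) (tt N1349 D1531) (tt N1350 D1532))
theorem Q604 : ∀ i, i < 604 → P i := stepQ 603 Q603 (allL N603 (tt N1336 (iv F842)) (tt N1347 (iv F848)) (tt N1349 (iv F853)) (tt N242 (iv D635)) (tt N1351 D1533))
theorem Q605 : ∀ i, i < 605 → P i := stepQ 604 Q604 (allL N604 (tt N245 F313) (tt N1348 (iv F850)) (tt N1352 D1534) (tt N1353 D1535) (tt N242 (iv D636)))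
theorem Q606 : ∀ i, i < 606 → P i := stepQ 605 Q605 (allL N605 (tt N1132 (iv F704)) (tt N244 F315) (tt N1108 (iv F683)) (tt N243 (iv D639)) (tt N1354 D1536))
theorem Q607 : ∀ i, i < 607 → P i := stepQ 606 Q606 (allL N606 (tt N1127 (iv F702)) (tt N245 F316) (tt N1120 (iv F697)) (tt N1355 D1537) (tt N243 (iv D640)))
theorem Q608 : ∀ i, i < 608 → P i := stepQ 607 Q607 (allL N607 (tt N244 (iv D641)) (tt N1356 D1538) (tt N1357 D1539) (tt N1358 D1540) (tt N1359 D1541))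
theorem Q609 : ∀ i, i < 609 → P i := stepQ 608 Q608 (allL N608 (tt N1359 (iv F862)) (tt N1354 (iv F858)) (tt N1360 D1542) (tt N1361 D1543) (tt N244 (iv D642)))
theorem Q610 : ∀ i, i < 610 → P i := stepQ 609 Q609 (allL N609 (tt N1333 (iv F841)) (tt N1362 D1544) (tt N245 (iv D643)) (tt N1363 D1545) (tt N1364 D1546))
theorem Q611 : ∀ i, i < 611 → P i := stepQ 610 Q610 (allL N610 (tt N1365 D1547) (tt N1355 (iv F859)) (tt N1363 (iv F872)) (tt N245 (iv D644)) (tt N1366 D1548))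
theorem Q612 : ∀ i, i < 612 → P i := stepQ 611 Q611 (allL N611 (tt N795 (iv F446)) (tt N246 (iv D645)) (tt N1367 D1549) (tt N1368 D1550) (tt N1369 D1551))
theorem Q613 : ∀ i, i < 613 → P i := stepQ 612 Q612 (allL N612 (tt N401 F317) (tt N1370 D1552) (tt N246 (iv D646)) (tt N1371 D1553) (tt N1372 D1554))
theorem Q614 : ∀ i, i < 614 → P i := stepQ 613 Q613 (allL N613 (tt N1337 (iv F843)) (tt N1368 (iv F875)) (tt N1371 (iv F878)) (tt N246 (iv D647)) (tt N1373 D1555))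
theorem Q615 : ∀ i, i < 615 → P i := stepQ 614 Q614 (allL N614 (tt N247 F318) (tt N1369 (iv F876)) (tt N1374 D1556) (tt N1375 D1557) (tt N246 (iv D648)))
theorem Q616 : ∀ i, i < 616 → P i := stepQ 615 Q615 (allL N615 (tt N1376 D1558) (tt N1377 D1559) (tt N247 (iv D649)) (tt N1378 D1560) (tt N1379 D1561))
theorem Q617 : ∀ i, i < 617 → P i := stepQ 616 Q616 (allL N616 (tt N1340 (iv F845)) (tt N257 F319) (tt N1378 (iv F881)) (tt N247 (iv D650)) (tt N1380 D1562))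
theorem Q618 : ∀ i, i < 618 → P i := stepQ 617 Q617 (allL N617 (tt N248 (iv D651)) (tt N1381 D1563) (tt N1350 (iv F856)) (tt N1382 D1564) (tt N1383 D1565))
theorem Q619 : ∀ i, i < 619 → P i := stepQ 618 Q618 (allL N618 (tt N1384 D1566) (tt N248 (iv D652)) (tt N1385 D1567) (tt N1386 D1568) (tt N1387 D1569))
theorem Q620 : ∀ i, i < 620 → P i := stepQ 619 Q619 (allL N619 (tt N1388 D1570) (tt N1386 (iv F886)) (tt N249 F320) (tt N248 (iv D653)) (tt N1389 D1571))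
theorem Q621 : ∀ i, i < 621 → P i := stepQ 620 Q620 (allL N620 (tt N1383 (iv F884)) (tt N1387 (iv F887)) (tt N1364 (iv F873)) (tt N1379 F3086) (tt N248 (iv D654)))
theorem Q622 : ∀ i, i < 622 → P i := stepQ 621 Q621 (allL N621 (tt N249 (iv D655)) (tt N1390 D1573) (tt N1391 D1574) (tt N1373 (iv F880)) (tt N1392 D1575))
theorem Q623 : ∀ i, i < 623 → P i := stepQ 622 Q622 (allL N622 (tt N1392 (iv F888)) (tt N262 F321) (tt N1366 F3420) (tt N1380 (iv F883)) (tt N249 (iv D656)))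
theorem Q624 : ∀ i, i < 624 → P i := stepQ 623 Q623 (allL N623 (tt N650 (iv F339)) (tt N954 (iv F577)) (tt N250 (iv D657)) (tt N1393 D1577) (tt N1394 D1578))
theorem Q625 : ∀ i, i < 625 → P i := stepQ 624 Q624 (allL N624 (tt N1395 D1579) (tt N887 (iv F517)) (tt N1393 (iv F889)) (tt N250 (iv D658)) (tt N1396 D1580))
theorem Q626 : ∀ i, i < 626 → P i := stepQ 625 Q625 (allL N625 (tt N253 F322) (tt N888 (iv F520)) (tt N1397 D1581) (tt N1398 D1582) (tt N250 (iv D659)))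
theorem Q627 : ∀ i, i < 627 → P i := stepQ 626 Q626 (allL N626 (tt N1399 D1583) (tt N1108 (iv F682)) (tt N252 F323) (tt N251 (iv D661)) (tt N1400 D1584))
theorem Q628 : ∀ i, i < 628 → P i := stepQ 627 Q627 (allL N627 (tt N1087 (iv F663)) (tt N1109 (iv F686)) (tt N1401 D1585) (tt N1402 D1586) (tt N251 (iv D662)))
theorem Q629 : ∀ i, i < 629 → P i := stepQ 628 Q628 (allL N628 (tt N252 (iv D663)) (tt N1220 (iv F757)) (tt N1403 D1587) (tt N1404 D1588) (tt N1405 D1589))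
theorem Q630 : ∀ i, i < 630 → P i := stepQ 629 Q629 (allL N629 (tt N1405 (iv F890)) (tt N254 F324) (tt N1406 D1590) (tt N1407 D1591) (tt N252 (iv D664)))
theorem Q631 : ∀ i, i < 631 → P i := stepQ 630 Q630 (allL N630 (tt N1090 (iv F665)) (tt N1288 (iv F800)) (tt N253 (iv D665)) (tt N1408 D1592) (tt N1409 D1593))
theorem Q632 : ∀ i, i < 632 → P i := stepQ 631 Q631 (allL N631 (tt N1410 D1594) (tt N255 F325) (tt N1408 (iv F892)) (tt N253 (iv D666)) (tt N1411 D1595))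
theorem Q633 : ∀ i, i < 633 → P i := stepQ 632 Q632 (allL N632 (tt N632 F327) (tt N1407 (iv F891)) (tt N348 F326) (tt N254 (iv D667)) (tt N1412 D1596))
theorem Q634 : ∀ i, i < 634 → P i := stepQ 633 Q633 (allL N633 (tt N767 (iv F3372)) (tt N1411 (iv F893)) (tt N262 F3369) (tt N1412 (iv F895)) (tt N255 (iv D668)))
theorem Q635 : ∀ i, i < 635 → P i := stepQ 634 Q634 (allL N634 (tt N1413 D1597) (tt N256 (iv D669)) (tt N1414 D1598) (tt N1415 D1599) (tt N1416 D1600))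
theorem Q636 : ∀ i, i < 636 → P i := stepQ 635 Q635 (allL N635 (tt N635 F329) (tt N1415 (iv F897)) (tt N257 F328) (tt N256 (iv D670)) (tt N1417 D1601))
theorem Q637 : ∀ i, i < 637 → P i := stepQ 636 Q636 (allL N636 (tt N739 (iv F405)) (tt N1416 (iv F898)) (tt N355 F2052) (tt N260 (iv F2063)) (tt N256 (iv D671)))
theorem Q638 : ∀ i, i < 638 → P i := stepQ 637 Q637 (allL N637 (tt N308 F330) (tt N1380 (iv F882)) (tt N1412 (iv F3367)) (tt N262 F331) (tt N257 (iv D672)))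
theorem Q639 : ∀ i, i < 639 → P i := stepQ 638 Q638 (allL N638 (tt N258 (iv D673)) (tt N1418 D1604) (tt N1419 D1605) (tt N1420 D1606) (tt N1421 D1607))
theorem Q640 : ∀ i, i < 640 → P i := stepQ 639 Q639 (allL N639 (tt N1422 D1608) (tt N1385 (iv F885)) (tt N258 (iv D674)) (tt N1423 D1609) (tt N1424 D1610))
theorem Q641 : ∀ i, i < 641 → P i := stepQ 640 Q640 (allL N640 (tt N1425 D1611) (tt N259 F332) (tt N1423 (iv F909)) (tt N258 (iv D675)) (tt N1426 D1612))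
theorem Q642 : ∀ i, i < 642 → P i := stepQ 641 Q641 (allL N641 (tt N1421 (iv F907)) (tt N260 F333) (tt N1427 D1613) (tt N1416 (iv F2068)) (tt N258 (iv D676)))
theorem Q643 : ∀ i, i < 643 → P i := stepQ 642 Q642 (allL N642 (tt N766 (iv F432)) (tt N1426 (iv F910)) (tt N354 F3387) (tt N1417 (iv F2088)) (tt N259 (iv D677)))
theorem Q644 : ∀ i, i < 644 → P i := stepQ 643 Q643 (allL N643 (tt N1428 D1618) (tt N261 (iv D679)) (tt N1429 D1619) (tt N803 F450) (tt N883 F3386))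
theorem Q645 : ∀ i, i < 645 → P i := stepQ 644 Q644 (allL N644 (tt N1430 D1623) (tt N893 (iv F524)) (tt N264 F336) (tt N263 (iv D682)) (tt N1431 D1624))
theorem Q646 : ∀ i, i < 646 → P i := stepQ 645 Q645 (allL N645 (tt N1324 (iv F832)) (tt N894 (iv F526)) (tt N847 (iv F485)) (tt N1432 D1625) (tt N263 (iv D683)))
theorem Q647 : ∀ i, i < 647 → P i := stepQ 646 Q646 (allL N646 (tt N264 (iv D684)) (tt N1433 D1626) (tt N1430 (iv F914)) (tt N1434 D1627) (tt N1435 D1628))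
theorem Q648 : ∀ i, i < 648 → P i := stepQ 647 Q647 (allL N647 (tt N1435 (iv F929)) (tt N271 F337) (tt N1436 D1629) (tt N1437 D1630) (tt N264 (iv D685)))
theorem Q649 : ∀ i, i < 649 → P i := stepQ 648 Q648 (allL N648 (tt N1327 (iv F835)) (tt N1438 D1631) (tt N265 (iv D686)) (tt N1439 D1632) (tt N845 (iv F482)))
theorem Q650 : ∀ i, i < 650 → P i := stepQ 649 Q649 (allL N649 (tt N1440 D1633) (tt N273 F338) (tt N1439 (iv F933)) (tt N265 (iv D687)) (tt N1441 D1634))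
theorem Q651 : ∀ i, i < 651 → P i := stepQ 650 Q650 (allL N650 (tt N623 F339) (tt N266 (iv D688)) (tt N403 F342) (tt N1442 D1635) (tt N1443 D1636))
theorem Q652 : ∀ i, i < 652 → P i := stepQ 651 Q651 (allL N651 (tt N275 F340) (tt N400 F341) (tt N266 (iv D689)) (tt N1444 D1637) (tt N1445 D1638))
theorem Q653 : ∀ i, i < 653 → P i := stepQ 652 Q652 (allL N652 (tt N283 F349) (tt N1442 (iv F935)) (tt N1444 (iv F942)) (tt N266 (iv D690)) (tt N1446 D1639))
theorem Q654 : ∀ i, i < 654 → P i := stepQ 653 Q653 (allL N653 (tt N269 F350) (tt N1443 (iv F940)) (tt N1447 D1640) (tt N1448 D1641) (tt N266 (iv D691)))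
theorem Q655 : ∀ i, i < 655 → P i := stepQ 654 Q654 (allL N654 (tt N267 (iv D692)) (tt N410 F352) (tt N654 F351) (tt N1449 D1642) (tt N1450 D1643))
theorem Q656 : ∀ i, i < 656 → P i := stepQ 655 Q655 (allL N655 (tt N485 F353) (tt N892 (iv F523)) (tt N267 (iv D693)) (tt N1451 D1644) (tt N1452 D1645))
theorem Q657 : ∀ i, i < 657 → P i := stepQ 656 Q656 (allL N656 (tt N1453 D1646) (tt N268 F354) (tt N1451 (iv F954)) (tt N267 (iv D694)) (tt N1454 D1647))
theorem Q658 : ∀ i, i < 658 → P i := stepQ 657 Q657 (allL N657 (tt N1450 (iv F952)) (tt N269 F355) (tt N1455 D1648) (tt N1456 D1649) (tt N267 (iv D695)))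
theorem Q659 : ∀ i, i < 659 → P i := stepQ 658 Q658 (allL N658 (tt N268 (iv D696)) (tt N1457 D1650) (tt N1458 D1651) (tt N1459 D1652) (tt N1460 D1653))
theorem Q660 : ∀ i, i < 660 → P i := stepQ 659 Q659 (allL N659 (tt N1460 (iv F961)) (tt N1454 (iv F957)) (tt N1461 D1654) (tt N1462 D1655) (tt N268 (iv D697)))
theorem Q661 : ∀ i, i < 661 → P i := stepQ 660 Q660 (allL N660 (tt N280 F356) (tt N1463 D1656) (tt N269 (iv D698)) (tt N1464 D1657) (tt N1465 D1658))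
theorem Q662 : ∀ i, i < 662 → P i := stepQ 661 Q661 (allL N661 (tt N1466 D1659) (tt N1456 (iv F958)) (tt N1464 (iv F962)) (tt N269 (iv D699)) (tt N1467 D1660))
theorem Q663 : ∀ i, i < 663 → P i := stepQ 662 Q662 (allL N662 (tt N1468 D1661) (tt N270 (iv D700)) (tt N433 F357) (tt N432 (iv F358)) (tt N1469 D1662))
theorem Q664 : ∀ i, i < 664 → P i := stepQ 663 Q663 (allL N663 (tt N276 F359) (tt N1470 D1663) (tt N270 (iv D701)) (tt N1471 D1664) (tt N1472 D1665))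
theorem Q665 : ∀ i, i < 665 → P i := stepQ 664 Q664 (allL N664 (tt N284 F360) (tt N432 F361) (tt N1471 (iv F970)) (tt N270 (iv D702)) (tt N1473 D1666))
theorem Q666 : ∀ i, i < 666 → P i := stepQ 665 Q665 (allL N665 (tt N271 F362) (tt N1469 (iv F965)) (tt N1474 D1667) (tt N1475 D1668) (tt N270 (iv D703)))
theorem Q667 : ∀ i, i < 667 → P i := stepQ 666 Q666 (allL N666 (tt N1476 D1669) (tt N1477 D1670) (tt N271 (iv D704)) (tt N1478 D1671) (tt N1479 D1672))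
theorem Q668 : ∀ i, i < 668 → P i := stepQ 667 Q667 (allL N667 (tt N287 F363) (tt N1437 (iv F930)) (tt N1478 (iv F976)) (tt N271 (iv D705)) (tt N1480 D1673))
theorem Q669 : ∀ i, i < 669 → P i := stepQ 668 Q668 (allL N668 (tt N272 (iv D706)) (tt N1481 D1674) (tt N1445 (iv F946)) (tt N1482 D1675) (tt N1483 D1676))
theorem Q670 : ∀ i, i < 670 → P i := stepQ 669 Q669 (allL N669 (tt N1484 D1677) (tt N272 (iv D707)) (tt N1485 D1678) (tt N1486 D1679) (tt N1487 D1680))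
theorem Q671 : ∀ i, i < 671 → P i := stepQ 670 Q670 (allL N670 (tt N1488 D1681) (tt N1486 (iv F983)) (tt N273 F364) (tt N272 (iv D708)) (tt N1489 D1682))
theorem Q672 : ∀ i, i < 672 → P i := stepQ 671 Q671 (allL N671 (tt N1483 (iv F981)) (tt N1487 (iv F984)) (tt N1465 (iv F964)) (tt N1479 F2800) (tt N272 (iv D709)))
theorem Q673 : ∀ i, i < 673 → P i := stepQ 672 Q672 (allL N672 (tt N273 (iv D710)) (tt N1490 D1684) (tt N1491 D1685) (tt N1473 (iv F974)) (tt N1492 D1686))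
theorem Q674 : ∀ i, i < 674 → P i := stepQ 673 Q673 (allL N673 (tt N1492 (iv F987)) (tt N1441 (iv F934)) (tt N1467 F5317) (tt N1480 (iv F978)) (tt N273 (iv D711)))
theorem Q675 : ∀ i, i < 675 → P i := stepQ 674 Q674 (allL N674 (tt N463 F366) (tt N674 F365) (tt N274 (iv D712)) (tt N1493 D1688) (tt N1494 D1689))
theorem Q676 : ∀ i, i < 676 → P i := stepQ 675 Q675 (allL N675 (tt N1495 D1690) (tt N276 F367) (tt N1493 (iv F989)) (tt N274 (iv D713)) (tt N1496 D1691))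
theorem Q677 : ∀ i, i < 677 → P i := stepQ 676 Q676 (allL N676 (tt N896 (iv F529)) (tt N277 F368) (tt N1497 D1692) (tt N1498 D1693) (tt N274 (iv D714)))
theorem Q678 : ∀ i, i < 678 → P i := stepQ 677 Q677 (allL N677 (tt N1458 (iv F959)) (tt N677 F369) (tt N276 F370) (tt N275 (iv D715)) (tt N1499 D1694))
theorem Q679 : ∀ i, i < 679 → P i := stepQ 678 Q678 (allL N678 (tt N1445 (iv F944)) (tt N678 F371) (tt N288 F372) (tt N1500 D1695) (tt N275 (iv D716)))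
theorem Q680 : ∀ i, i < 680 → P i := stepQ 679 Q679 (allL N679 (tt N1472 (iv F971)) (tt N1496 (iv F995)) (tt N1501 D1696) (tt N1502 D1697) (tt N276 (iv D717)))
theorem Q681 : ∀ i, i < 681 → P i := stepQ 680 Q680 (allL N680 (tt N1447 (iv F949)) (tt N1503 D1698) (tt N277 (iv D718)) (tt N1504 D1699) (tt N1505 D1700))
theorem Q682 : ∀ i, i < 682 → P i := stepQ 681 Q681 (allL N681 (tt N1506 D1701) (tt N1498 (iv F996)) (tt N1504 (iv F1001)) (tt N277 (iv D719)) (tt N1507 D1702))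
theorem Q683 : ∀ i, i < 683 → P i := stepQ 682 Q682 (allL N682 (tt N1508 D1703) (tt N278 (iv D720)) (tt N1509 D1704) (tt N1510 D1705) (tt N1511 D1706))
theorem Q684 : ∀ i, i < 684 → P i := stepQ 683 Q683 (allL N683 (tt N1444 (iv F943)) (tt N1512 D1707) (tt N278 (iv D721)) (tt N1513 D1708) (tt N1514 D1709))
theorem Q685 : ∀ i, i < 685 → P i := stepQ 684 Q684 (allL N684 (tt N1471 (iv F968)) (tt N1510 (iv F1003)) (tt N1513 (iv F1006)) (tt N278 (iv D722)) (tt N1515 D1710))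
theorem Q686 : ∀ i, i < 686 → P i := stepQ 685 Q685 (allL N685 (tt N279 F373) (tt N1511 (iv F1004)) (tt N1516 D1711) (tt N1517 D1712) (tt N278 (iv D723)))
theorem Q687 : ∀ i, i < 687 → P i := stepQ 686 Q686 (allL N686 (tt N1518 D1713) (tt N1519 D1714) (tt N279 (iv D724)) (tt N1520 D1715) (tt N1521 D1716))
theorem Q688 : ∀ i, i < 688 → P i := stepQ 687 Q687 (allL N687 (tt N1502 (iv F1000)) (tt N1136 (iv F707)) (tt N1520 (iv F1010)) (tt N279 (iv D725)) (tt N1522 D1717))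
theorem Q689 : ∀ i, i < 689 → P i := stepQ 688 Q688 (allL N688 (tt N1523 D1718) (tt N280 (iv D726)) (tt N1524 D1719) (tt N1525 D1720) (tt N1197 (iv F865)))
theorem Q690 : ∀ i, i < 690 → P i := stepQ 689 Q689 (allL N689 (tt N1526 D1721) (tt N1525 (iv F1015)) (tt N281 F374) (tt N280 (iv D727)) (tt N1527 D1722))
theorem Q691 : ∀ i, i < 691 → P i := stepQ 690 Q690 (allL N690 (tt N1465 (iv F963)) (tt N1197 (iv F864)) (tt N291 F375) (tt N1521 F2793) (tt N280 (iv D728)))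
theorem Q692 : ∀ i, i < 692 → P i := stepQ 691 Q691 (allL N691 (tt N281 (iv D729)) (tt N1528 D1724) (tt N1529 D1725) (tt N1515 (iv F1008)) (tt N1530 D1726))
theorem Q693 : ∀ i, i < 693 → P i := stepQ 692 Q692 (allL N692 (tt N1530 (iv F1017)) (tt N1141 (iv F710)) (tt N293 (iv F5279)) (tt N1522 (iv F1012)) (tt N281 (iv D730)))
theorem Q694 : ∀ i, i < 694 → P i := stepQ 693 Q693 (allL N693 (tt N282 (iv D731)) (tt N294 F376) (tt N1531 D1728) (tt N1532 D1729) (tt N1533 D1730))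
theorem Q695 : ∀ i, i < 695 → P i := stepQ 694 Q694 (allL N694 (tt N1367 (iv F874)) (tt N1223 (iv F759)) (tt N282 (iv D732)) (tt N1534 D1731) (tt N1535 D1732))
theorem Q696 : ∀ i, i < 696 → P i := stepQ 695 Q695 (allL N695 (tt N1368 (iv F1646)) (tt N284 F377) (tt N1534 (iv F1022)) (tt N282 (iv D733)) (tt N1536 D1734))
theorem Q697 : ∀ i, i < 697 → P i := stepQ 696 Q696 (allL N696 (tt N1533 (iv F1019)) (tt N285 F378) (tt N1537 D1735) (tt N1538 D1736) (tt N282 (iv D734)))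
theorem Q698 : ∀ i, i < 698 → P i := stepQ 697 Q697 (allL N697 (tt N1539 D1737) (tt N283 (iv D735)) (tt N1540 D1738) (tt N1541 D1739) (tt N1542 D1740))
theorem Q699 : ∀ i, i < 699 → P i := stepQ 698 Q698 (allL N698 (tt N1459 (iv F960)) (tt N1541 (iv F1026)) (tt N284 F379) (tt N283 (iv D736)) (tt N1543 D1741))
theorem Q700 : ∀ i, i < 700 → P i := stepQ 699 Q699 (allL N699 (tt N1446 (iv F948)) (tt N1542 (iv F1027)) (tt N1518 (iv F1009)) (tt N1544 D1742) (tt N283 (iv D737)))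
theorem Q701 : ∀ i, i < 701 → P i := stepQ 700 Q700 (allL N700 (tt N1473 (iv F972)) (tt N1536 (iv F1023)) (tt N1545 D1743) (tt N292 F380) (tt N284 (iv D738)))
theorem Q702 : ∀ i, i < 702 → P i := stepQ 701 Q701 (allL N701 (tt N1546 D1744) (tt N1547 D1745) (tt N285 (iv D739)) (tt N1548 D1746) (tt N1549 D1747))
theorem Q703 : ∀ i, i < 703 → P i := stepQ 702 Q702 (allL N702 (tt N1475 (iv F975)) (tt N1538 (iv F1025)) (tt N1548 (iv F1029)) (tt N285 (iv D740)) (tt N1550 D1748))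
theorem Q704 : ∀ i, i < 704 → P i := stepQ 703 Q703 (allL N703 (tt N286 (iv D741)) (tt N1551 D1749) (tt N1514 (iv F1007)) (tt N1552 D1750) (tt N1553 D1751))
theorem Q705 : ∀ i, i < 705 → P i := stepQ 704 Q704 (allL N704 (tt N1554 D1752) (tt N286 (iv D742)) (tt N1555 D1753) (tt N1556 D1754) (tt N1272 (iv F2783)))
theorem Q706 : ∀ i, i < 706 → P i := stepQ 705 Q705 (allL N705 (tt N1557 D1756) (tt N1556 (iv F1033)) (tt N287 F381) (tt N286 (iv D743)) (tt N1558 D1757))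
theorem Q707 : ∀ i, i < 707 → P i := stepQ 706 Q706 (allL N706 (tt N1553 (iv F1031)) (tt N1272 (iv F2782)) (tt N1521 (iv F1011)) (tt N291 (iv F2784)) (tt N286 (iv D744)))
theorem Q708 : ∀ i, i < 708 → P i := stepQ 707 Q707 (allL N707 (tt N1480 (iv F977)) (tt N308 F382) (tt N1522 F5282) (tt N293 F383) (tt N287 (iv D745)))
theorem Q709 : ∀ i, i < 709 → P i := stepQ 708 Q708 (allL N708 (tt N1559 D1760) (tt N288 (iv D746)) (tt N1560 D1761) (tt N1561 D1762) (tt N1562 D1763))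
theorem Q710 : ∀ i, i < 710 → P i := stepQ 709 Q709 (allL N709 (tt N1491 (iv F986)) (tt N1561 (iv F1040)) (tt N1500 (iv F999)) (tt N288 (iv D747)) (tt N1563 D1764))
theorem Q711 : ∀ i, i < 711 → P i := stepQ 710 Q710 (allL N710 (tt N291 F384) (tt N1562 (iv F1042)) (tt N1505 (iv F1002)) (tt N1564 D1765) (tt N288 (iv D748)))
theorem Q712 : ∀ i, i < 712 → P i := stepQ 711 Q711 (allL N711 (tt N289 (iv D749)) (tt N1565 D1766) (tt N1384 (iv F947)) (tt N1566 D1767) (tt N1307 (iv F868)))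
theorem Q713 : ∀ i, i < 713 → P i := stepQ 712 Q712 (allL N712 (tt N1567 D1768) (tt N310 F385) (tt N289 (iv D750)) (tt N1568 D1769) (tt N1301 (iv F869)))
theorem Q714 : ∀ i, i < 714 → P i := stepQ 713 Q713 (allL N713 (tt N1569 D1770) (tt N290 F386) (tt N1568 (iv F1047)) (tt N289 (iv D751)) (tt N1306 F4732))
theorem Q715 : ∀ i, i < 715 → P i := stepQ 714 Q714 (allL N714 (tt N290 (iv D753)) (tt N1570 D1772) (tt N1571 D1773) (tt N1572 D1774) (tt N1573 D1775))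
theorem Q716 : ∀ i, i < 716 → P i := stepQ 715 Q715 (allL N715 (tt N1573 (iv F1049)) (tt N1306 F4729) (tt N1527 F5276) (tt N1558 F2790) (tt N290 (iv D754)))
theorem Q717 : ∀ i, i < 717 → P i := stepQ 716 Q716 (allL N716 (tt N1574 D1780) (tt N292 (iv D756)) (tt N1575 D1781) (tt N1536 F1024) (tt N1576 D1782))
theorem Q718 : ∀ i, i < 718 → P i := stepQ 717 Q717 (allL N717 (tt N1482 (iv F980)) (tt N1577 D1783) (tt N292 (iv D757)) (tt N1545 (iv F1028)) (tt N1578 D1784))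
theorem Q719 : ∀ i, i < 719 → P i := stepQ 718 Q718 (allL N718 (tt N293 F388) (tt N1576 (iv F1051)) (tt N1579 D1785) (tt N1550 (iv F1030)) (tt N292 (iv D758)))
theorem Q720 : ∀ i, i < 720 → P i := stepQ 719 Q719 (allL N719 (tt N1580 D1789) (tt N1581 D1790) (tt N294 (iv D760)) (tt N980 F1606) (tt N1582 D1792))
theorem Q721 : ∀ i, i < 721 → P i := stepQ 720 Q720 (allL N720 (tt N1583 D1793) (tt N1532 (iv F1018)) (tt N980 F1605) (tt N294 (iv D761)) (tt N1584 D1794))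
theorem Q722 : ∀ i, i < 722 → P i := stepQ 721 Q721 (allL N721 (tt N297 F389) (tt N1533 (iv F1020)) (tt N1585 D1795) (tt N1586 D1796) (tt N294 (iv D762)))
theorem Q723 : ∀ i, i < 723 → P i := stepQ 722 Q722 (allL N722 (tt N295 (iv D763)) (tt N1587 D1797) (tt N1588 D1798) (tt N1589 D1799) (tt N1590 D1800))
theorem Q724 : ∀ i, i < 724 → P i := stepQ 723 Q723 (allL N723 (tt N1591 D1801) (tt N295 (iv D764)) (tt N1592 D1802) (tt N1593 D1803) (tt N1594 D1804))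
theorem Q725 : ∀ i, i < 725 → P i := stepQ 724 Q724 (allL N724 (tt N1595 D1805) (tt N1593 (iv F1065)) (tt N296 F390) (tt N295 (iv D765)) (tt N1596 D1806))
theorem Q726 : ∀ i, i < 726 → P i := stepQ 725 Q725 (allL N725 (tt N1590 (iv F1058)) (tt N1594 (iv F1067)) (tt N1597 D1807) (tt N1598 D1808) (tt N295 (iv D766)))
theorem Q727 : ∀ i, i < 727 → P i := stepQ 726 Q726 (allL N726 (tt N296 (iv D767)) (tt N1434 (iv F1567)) (tt N1599 D1810) (tt N1433 (iv F1570)) (tt N1600 D1812))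
theorem Q728 : ∀ i, i < 728 → P i := stepQ 727 Q727 (allL N727 (tt N1600 (iv F1068)) (tt N301 F391) (tt N1601 D1813) (tt N315 (iv F392)) (tt N296 (iv D768)))
theorem Q729 : ∀ i, i < 729 → P i := stepQ 728 Q728 (allL N728 (tt N1602 D1814) (tt N1603 D1815) (tt N297 (iv D769)) (tt N1604 D1816) (tt N1605 D1817))
theorem Q730 : ∀ i, i < 730 → P i := stepQ 729 Q729 (allL N729 (tt N1606 D1818) (tt N303 F393) (tt N1604 (iv F1070)) (tt N297 (iv D770)) (tt N1607 D1819))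
theorem Q731 : ∀ i, i < 731 → P i := stepQ 730 Q730 (allL N730 (tt N298 (iv D771)) (tt N1608 D1820) (tt N1609 D1821) (tt N1610 D1822) (tt N1611 D1823))
theorem Q732 : ∀ i, i < 732 → P i := stepQ 731 Q731 (allL N731 (tt N1179 (iv F938)) (tt N1592 (iv F1062)) (tt N298 (iv D772)) (tt N1612 D1824) (tt N1613 D1825))
theorem Q733 : ∀ i, i < 733 → P i := stepQ 732 Q732 (allL N732 (tt N1614 D1826) (tt N299 F394) (tt N1612 (iv F1077)) (tt N298 (iv D773)) (tt N1615 D1827))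
theorem Q734 : ∀ i, i < 734 → P i := stepQ 733 Q733 (allL N733 (tt N1611 (iv F1075)) (tt N300 F395) (tt N1616 D1828) (tt N1617 D1829) (tt N298 (iv D774)))
theorem Q735 : ∀ i, i < 735 → P i := stepQ 734 Q734 (allL N734 (tt N734 F396) (tt N1615 (iv F1078)) (tt N368 F397) (tt N367 F398) (tt N299 (iv D775)))
theorem Q736 : ∀ i, i < 736 → P i := stepQ 735 Q735 (allL N735 (tt N735 F399) (tt N1617 (iv F1080)) (tt N342 F400) (tt N300 (iv D776)) (tt N1618 D1830))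
theorem Q737 : ∀ i, i < 737 → P i := stepQ 736 Q736 (allL N736 (tt N736 F402) (tt N1619 D1831) (tt N301 (iv D777)) (tt N316 F401) (tt N1620 D1832))
theorem Q738 : ∀ i, i < 738 → P i := stepQ 737 Q737 (allL N737 (tt N1621 D1833) (tt N302 (iv D778)) (tt N1622 D1834) (tt N1623 D1835) (tt N1624 D1836))
theorem Q739 : ∀ i, i < 739 → P i := stepQ 738 Q738 (allL N738 (tt N738 F403) (tt N1623 (iv F1088)) (tt N303 F404) (tt N302 (iv D779)) (tt N1625 D1837))
theorem Q740 : ∀ i, i < 740 → P i := stepQ 739 Q739 (allL N739 (tt N636 F405) (tt N1624 (iv F1089)) (tt N343 F406) (tt N1620 (iv F2057)) (tt N302 (iv D780)))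
theorem Q741 : ∀ i, i < 741 → P i := stepQ 740 Q740 (allL N740 (tt N806 (iv F452)) (tt N1607 (iv F1071)) (tt N1618 (iv F3379)) (tt N317 F407) (tt N303 (iv D781)))
theorem Q742 : ∀ i, i < 742 → P i := stepQ 741 Q741 (allL N741 (tt N1626 D1840) (tt N304 (iv D782)) (tt N1627 D1841) (tt N1628 D1842) (tt N1629 D1843))
theorem Q743 : ∀ i, i < 743 → P i := stepQ 742 Q742 (allL N742 (tt N742 F408) (tt N1628 (iv F1095)) (tt N334 F409) (tt N304 (iv D783)) (tt N1630 D1844))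
theorem Q744 : ∀ i, i < 744 → P i := stepQ 743 Q743 (allL N743 (tt N307 F410) (tt N1629 (iv F1096)) (tt N339 F411) (tt N1631 D1845) (tt N304 (iv D784)))
theorem Q745 : ∀ i, i < 745 → P i := stepQ 744 Q744 (allL N744 (tt N305 (iv D785)) (tt N1632 D1846) (tt N1633 D1847) (tt N1634 D1848) (tt N1635 D1849))
theorem Q746 : ∀ i, i < 746 → P i := stepQ 745 Q745 (allL N745 (tt N1636 D1850) (tt N1555 (iv F1032)) (tt N305 (iv D786)) (tt N1637 D1851) (tt N1638 D1852))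
theorem Q747 : ∀ i, i < 747 → P i := stepQ 746 Q746 (allL N746 (tt N1639 D1853) (tt N306 F412) (tt N1637 (iv F1104)) (tt N305 (iv D787)) (tt N1640 D1854))
theorem Q748 : ∀ i, i < 748 → P i := stepQ 747 Q747 (allL N747 (tt N1635 (iv F1102)) (tt N307 F413) (tt N1641 D1855) (tt N312 (iv F2043)) (tt N305 (iv D788)))
theorem Q749 : ∀ i, i < 749 → P i := stepQ 748 Q748 (allL N748 (tt N748 F414) (tt N1640 (iv F1105)) (tt N349 F3373) (tt N314 (iv F2066)) (tt N306 (iv D789)))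
theorem Q750 : ∀ i, i < 750 → P i := stepQ 749 Q749 (allL N749 (tt N749 F419) (tt N309 (iv D792)) (tt N397 F420) (tt N1642 D1862) (tt N386 (iv F421)))
theorem Q751 : ∀ i, i < 751 → P i := stepQ 750 Q750 (allL N750 (tt N1643 D1863) (tt N1644 D1864) (tt N309 (iv D793)) (tt N1645 D1865) (tt N1646 D1866))
theorem Q752 : ∀ i, i < 752 → P i := stepQ 751 Q751 (allL N751 (tt N1647 D1867) (tt N1642 (iv F1110)) (tt N1645 (iv F1115)) (tt N309 (iv D794)) (tt N1648 D1868))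
theorem Q753 : ∀ i, i < 753 → P i := stepQ 752 Q752 (allL N752 (tt N312 F422) (tt N386 F423) (tt N1649 D1869) (tt N1650 D1870) (tt N309 (iv D795)))
theorem Q754 : ∀ i, i < 754 → P i := stepQ 753 Q753 (allL N753 (tt N310 (iv D796)) (tt N1651 D1871) (tt N1652 D1872) (tt N1653 D1873) (tt N1654 D1874))
theorem Q755 : ∀ i, i < 755 → P i := stepQ 754 Q754 (allL N754 (tt N1655 D1875) (tt N1568 (iv F1046)) (tt N311 F424) (tt N310 (iv D797)) (tt N1656 D1876))
theorem Q756 : ∀ i, i < 756 → P i := stepQ 755 Q755 (allL N755 (tt N1654 (iv F1119)) (tt N1301 F870) (tt N1657 D1877) (tt N1638 F4845) (tt N310 (iv D798)))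
theorem Q757 : ∀ i, i < 757 → P i := stepQ 756 Q756 (allL N756 (tt N311 (iv D799)) (tt N1658 D1879) (tt N1659 D1880) (tt N1660 D1881) (tt N1661 D1882))
theorem Q758 : ∀ i, i < 758 → P i := stepQ 757 Q757 (allL N757 (tt N1661 (iv F1120)) (tt N314 F425) (tt N1662 D1883) (tt N1640 (iv F2064)) (tt N311 (iv D800)))
theorem Q759 : ∀ i, i < 759 → P i := stepQ 758 Q758 (allL N758 (tt N1663 D1885) (tt N1139 (iv F1358)) (tt N312 (iv D801)) (tt N1641 (iv F2042)) (tt N1137 (iv F1366)))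
theorem Q760 : ∀ i, i < 760 → P i := stepQ 759 Q759 (allL N759 (tt N1664 D1891) (tt N313 (iv D803)) (tt N1665 D1892) (tt N1666 D1893) (tt N1667 D1894))
theorem Q761 : ∀ i, i < 761 → P i := stepQ 760 Q760 (allL N760 (tt N760 F427) (tt N1666 (iv F1125)) (tt N333 F428) (tt N313 (iv D804)) (tt N1631 (iv F2045)))
theorem Q762 : ∀ i, i < 762 → P i := stepQ 761 Q761 (allL N761 (tt N314 F429) (tt N1667 (iv F1126)) (tt N374 F3391) (tt N1630 (iv F2087)) (tt N313 (iv D805)))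
theorem Q763 : ∀ i, i < 763 → P i := stepQ 762 Q762 (allL N762 (tt N315 (iv D810)) (tt N1574 (iv F1050)) (tt N1668 D1906) (tt N1584 (iv F1056)) (tt N1669 D1907))
theorem Q764 : ∀ i, i < 764 → P i := stepQ 763 Q763 (allL N763 (tt N1670 D1908) (tt N1671 D1909) (tt N315 (iv D811)) (tt N1601 (iv F1069)) (tt N1672 D1910))
theorem Q765 : ∀ i, i < 765 → P i := stepQ 764 Q764 (allL N764 (tt N1669 (iv F1138)) (tt N317 F431) (tt N1673 D1911) (tt N1607 (iv F1072)) (tt N315 (iv D812)))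
theorem Q766 : ∀ i, i < 766 → P i := stepQ 765 Q765 (allL N765 (tt N1674 D1912) (tt N316 (iv D813)) (tt N1675 D1913) (tt N1619 (iv F1084)) (tt N1676 D1914))
theorem Q767 : ∀ i, i < 767 → P i := stepQ 766 Q766 (allL N766 (tt N642 F432) (tt N1676 (iv F1139)) (tt N369 F3390) (tt N1625 (iv F2089)) (tt N316 (iv D814)))
theorem Q768 : ∀ i, i < 768 → P i := stepQ 767 Q767 (allL N767 (tt N633 F3372) (tt N1677 D1916) (tt N317 (iv D815)) (tt N1618 (iv F3380)) (tt N367 (iv F3381)))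
theorem Q769 : ∀ i, i < 769 → P i := stepQ 768 Q768 (allL N768 (tt N318 (iv D819)) (tt N1580 (iv F1052)) (tt N1678 D1925) (tt N1679 D1926) (tt N1680 D1927))
theorem Q770 : ∀ i, i < 770 → P i := stepQ 769 Q769 (allL N769 (tt N1239 F927) (tt N318 (iv D820)) (tt N1681 D1928) (tt N1682 D1929) (tt N1683 D1930))
theorem Q771 : ∀ i, i < 771 → P i := stepQ 770 Q770 (allL N770 (tt N1684 D1931) (tt N1682 (iv F1151)) (tt N319 F435) (tt N318 (iv D821)) (tt N1685 D1932))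
theorem Q772 : ∀ i, i < 772 → P i := stepQ 771 Q771 (allL N771 (tt N1680 (iv F1150)) (tt N1683 (iv F1152)) (tt N1686 D1933) (tt N1687 D1934) (tt N318 (iv D822)))
theorem Q773 : ∀ i, i < 773 → P i := stepQ 772 Q772 (allL N772 (tt N319 (iv D823)) (tt N1004 (iv F1532)) (tt N1688 D1936) (tt N910 F1530) (tt N1689 D1938))
theorem Q774 : ∀ i, i < 774 → P i := stepQ 773 Q773 (allL N773 (tt N1689 (iv F1157)) (tt N1216 (iv F754)) (tt N1690 D1939) (tt N370 F436) (tt N319 (iv D824)))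
theorem Q775 : ∀ i, i < 775 → P i := stepQ 774 Q774 (allL N774 (tt N1691 D1940) (tt N1692 D1941) (tt N320 (iv D825)) (tt N1693 D1942) (tt N1694 D1943))
theorem Q776 : ∀ i, i < 776 → P i := stepQ 775 Q775 (allL N775 (tt N1695 D1944) (tt N1218 (iv F756)) (tt N1693 (iv F1159)) (tt N320 (iv D826)) (tt N1696 D1945))
theorem Q777 : ∀ i, i < 777 → P i := stepQ 776 Q776 (allL N776 (tt N1076 (iv F1166)) (tt N321 (iv D827)) (tt N1697 D1947) (tt N1061 (iv F1165)) (tt N1698 D1949))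
theorem Q778 : ∀ i, i < 778 → P i := stepQ 777 Q777 (allL N777 (tt N1678 (iv F1147)) (tt N1699 D1950) (tt N321 (iv D828)) (tt N1700 D1951) (tt N1701 D1952))
theorem Q779 : ∀ i, i < 779 → P i := stepQ 778 Q778 (allL N778 (tt N1688 (iv F1155)) (tt N1061 (iv F1164)) (tt N1700 (iv F1168)) (tt N321 (iv D829)) (tt N1702 D1953))
theorem Q780 : ∀ i, i < 780 → P i := stepQ 779 Q779 (allL N779 (tt N324 F437) (tt N1698 (iv F1162)) (tt N1703 D1954) (tt N1704 D1955) (tt N321 (iv D830)))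
theorem Q781 : ∀ i, i < 781 → P i := stepQ 780 Q780 (allL N780 (tt N1133 (iv F705)) (tt N330 F438) (tt N322 (iv D831)) (tt N1116 (iv F692)) (tt N1705 D1956))
theorem Q782 : ∀ i, i < 782 → P i := stepQ 781 Q781 (allL N781 (tt N1148 (iv F716)) (tt N324 F439) (tt N1706 D1957) (tt N1124 (iv F699)) (tt N322 (iv D832)))
theorem Q783 : ∀ i, i < 783 → P i := stepQ 782 Q782 (allL N782 (tt N323 (iv D833)) (tt N1707 D1958) (tt N1708 D1959) (tt N1709 D1960) (tt N1710 D1961))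
theorem Q784 : ∀ i, i < 784 → P i := stepQ 783 Q783 (allL N783 (tt N1710 (iv F1171)) (tt N1117 (iv F695)) (tt N1711 D1962) (tt N1712 D1963) (tt N323 (iv D834)))
theorem Q785 : ∀ i, i < 785 → P i := stepQ 784 Q784 (allL N784 (tt N1686 (iv F1153)) (tt N1713 D1964) (tt N324 (iv D835)) (tt N1714 D1965) (tt N1715 D1966))
theorem Q786 : ∀ i, i < 786 → P i := stepQ 785 Q785 (allL N785 (tt N1716 D1967) (tt N1124 F700) (tt N1714 (iv F1200)) (tt N324 (iv D836)) (tt N1717 D1968))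
theorem Q787 : ∀ i, i < 787 → P i := stepQ 786 Q786 (allL N786 (tt N1679 (iv F1149)) (tt N957 F1524) (tt N325 (iv D838)) (tt N911 (iv F1525)) (tt N1718 D1974))
theorem Q788 : ∀ i, i < 788 → P i := stepQ 787 Q787 (allL N787 (tt N326 F441) (tt N916 (iv F1528)) (tt N1719 D1976) (tt N933 (iv F1529)) (tt N325 (iv D840)))
theorem Q789 : ∀ i, i < 789 → P i := stepQ 788 Q788 (allL N788 (tt N1720 D1978) (tt N1292 (iv F805)) (tt N326 (iv D841)) (tt N371 F442) (tt N1721 D1979))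
theorem Q790 : ∀ i, i < 790 → P i := stepQ 789 Q789 (allL N789 (tt N327 (iv D842)) (tt N1722 D1980) (tt N1701 (iv F1169)) (tt N1723 D1981) (tt N1724 D1982))
theorem Q791 : ∀ i, i < 791 → P i := stepQ 790 Q790 (allL N790 (tt N1265 (iv F781)) (tt N327 (iv D843)) (tt N1725 D1983) (tt N1726 D1984) (tt N1727 D1985))
theorem Q792 : ∀ i, i < 792 → P i := stepQ 791 Q791 (allL N791 (tt N1728 D1986) (tt N1726 (iv F1210)) (tt N328 F443) (tt N327 (iv D844)) (tt N1729 D1987))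
theorem Q793 : ∀ i, i < 793 → P i := stepQ 792 Q792 (allL N792 (tt N1724 (iv F1208)) (tt N1727 (iv F1211)) (tt N1715 (iv F1202)) (tt N1721 (iv F2260)) (tt N327 (iv D845)))
theorem Q794 : ∀ i, i < 794 → P i := stepQ 793 Q793 (allL N793 (tt N328 (iv D846)) (tt N918 (iv F1533)) (tt N1730 D1990) (tt N912 F1531) (tt N1731 D1991))
theorem Q795 : ∀ i, i < 795 → P i := stepQ 794 Q794 (allL N794 (tt N1731 (iv F1213)) (tt N340 F444) (tt N1717 (iv F2206)) (tt N372 F445) (tt N328 (iv D847)))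
theorem Q796 : ∀ i, i < 796 → P i := stepQ 795 Q795 (allL N795 (tt N611 F446) (tt N329 (iv D848)) (tt N1732 D1993) (tt N1733 D1994) (tt N1734 D1995))
theorem Q797 : ∀ i, i < 797 → P i := stepQ 796 Q796 (allL N796 (tt N1735 D1996) (tt N1736 D1997) (tt N329 (iv D849)) (tt N1737 D1998) (tt N1738 D1999))
theorem Q798 : ∀ i, i < 798 → P i := stepQ 797 Q797 (allL N797 (tt N1739 D2000) (tt N1733 (iv F1216)) (tt N1737 (iv F1219)) (tt N329 (iv D850)) (tt N1740 D2001))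
theorem Q799 : ∀ i, i < 799 → P i := stepQ 798 Q798 (allL N798 (tt N332 F447) (tt N1734 (iv F1218)) (tt N1741 D2002) (tt N1742 D2003) (tt N329 (iv D851)))
theorem Q800 : ∀ i, i < 800 → P i := stepQ 799 Q799 (allL N799 (tt N330 (iv D852)) (tt N1743 D2004) (tt N1512 (iv F1005)) (tt N1744 D2005) (tt N1745 D2006))
theorem Q801 : ∀ i, i < 801 → P i := stepQ 800 Q800 (allL N800 (tt N1746 D2007) (tt N1116 (iv F691)) (tt N331 F448) (tt N330 (iv D853)) (tt N1747 D2008))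
theorem Q802 : ∀ i, i < 802 → P i := stepQ 801 Q801 (allL N801 (tt N1745 (iv F1227)) (tt N1705 (iv F1170)) (tt N1748 D2009) (tt N1749 D2010) (tt N330 (iv D854)))
theorem Q803 : ∀ i, i < 803 → P i := stepQ 802 Q802 (allL N802 (tt N331 (iv D855)) (tt N1750 D2011) (tt N1751 D2012) (tt N1752 D2013) (tt N1753 D2014))
theorem Q804 : ∀ i, i < 804 → P i := stepQ 803 Q803 (allL N803 (tt N1753 (iv F1229)) (tt N333 F449) (tt N1754 D2015) (tt N643 (iv F450)) (tt N331 (iv D856)))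
theorem Q805 : ∀ i, i < 805 → P i := stepQ 804 Q804 (allL N804 (tt N1755 D2016) (tt N1756 D2017) (tt N332 (iv D857)) (tt N1757 D2018) (tt N1758 D2019))
theorem Q806 : ∀ i, i < 806 → P i := stepQ 805 Q805 (allL N805 (tt N1759 D2020) (tt N334 F451) (tt N1757 (iv F1231)) (tt N332 (iv D858)) (tt N1760 D2021))
theorem Q807 : ∀ i, i < 807 → P i := stepQ 806 Q806 (allL N806 (tt N740 F452) (tt N1760 (iv F1232)) (tt N340 F3374) (tt N375 F3375) (tt N334 (iv D859)))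
theorem Q808 : ∀ i, i < 808 → P i := stepQ 807 Q807 (allL N807 (tt N1761 D2022) (tt N335 (iv D860)) (tt N1762 D2023) (tt N373 F454) (tt N1763 D2024))
theorem Q809 : ∀ i, i < 809 → P i := stepQ 808 Q808 (allL N808 (tt N820 (iv F2050)) (tt N1763 (iv F1235)) (tt N1631 F2048) (tt N339 F2049) (tt N335 (iv D861)))
theorem Q810 : ∀ i, i < 810 → P i := stepQ 809 Q809 (allL N809 (tt N1764 D2025) (tt N336 (iv D862)) (tt N1765 D2026) (tt N831 (iv F468)) (tt N844 F2067))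
theorem Q811 : ∀ i, i < 811 → P i := stepQ 810 Q810 (allL N810 (tt N337 (iv D864)) (tt N1766 D2028) (tt N1767 D2029) (tt N1768 D2030) (tt N1769 D2031))
theorem Q812 : ∀ i, i < 812 → P i := stepQ 811 Q811 (allL N811 (tt N1770 D2032) (tt N1725 (iv F1209)) (tt N337 (iv D865)) (tt N1771 D2033) (tt N1772 D2034))
theorem Q813 : ∀ i, i < 813 → P i := stepQ 812 Q812 (allL N812 (tt N1773 D2035) (tt N338 F457) (tt N1771 (iv F1238)) (tt N337 (iv D866)) (tt N1774 D2036))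
theorem Q814 : ∀ i, i < 814 → P i := stepQ 813 Q813 (allL N813 (tt N1769 (iv F1237)) (tt N339 F458) (tt N1775 D2037) (tt N1763 (iv F2054)) (tt N337 (iv D867)))
theorem Q815 : ∀ i, i < 815 → P i := stepQ 814 Q814 (allL N814 (tt N819 (iv F462)) (tt N1774 (iv F1239)) (tt N1630 (iv F3394)) (tt N374 (iv F2072)) (tt N338 (iv D868)))
theorem Q816 : ∀ i, i < 816 → P i := stepQ 815 Q815 (allL N815 (tt N341 (iv D871)) (tt N1776 D2044) (tt N1777 D2045) (tt N1778 D2046) (tt N1779 D2047))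
theorem Q817 : ∀ i, i < 817 → P i := stepQ 816 Q816 (allL N816 (tt N1780 D2048) (tt N1781 D2049) (tt N341 (iv D872)) (tt N1782 D2050) (tt N1783 D2051))
theorem Q818 : ∀ i, i < 818 → P i := stepQ 817 Q817 (allL N817 (tt N1784 D2052) (tt N342 F460) (tt N1782 (iv F1245)) (tt N341 (iv D873)) (tt N1785 D2053))
theorem Q819 : ∀ i, i < 819 → P i := stepQ 818 Q818 (allL N818 (tt N1779 (iv F1244)) (tt N343 F461) (tt N1786 D2054) (tt N1787 D2055) (tt N341 (iv D874)))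
theorem Q820 : ∀ i, i < 820 → P i := stepQ 819 Q819 (allL N819 (tt N814 F462) (tt N1785 (iv F1246)) (tt N1625 (iv F3393)) (tt N369 (iv F2075)) (tt N342 (iv D875)))
theorem Q821 : ∀ i, i < 821 → P i := stepQ 820 Q820 (allL N820 (tt N808 F2050) (tt N1787 (iv F1247)) (tt N1620 (iv F2056)) (tt N343 (iv D876)) (tt N368 (iv F2058)))
theorem Q822 : ∀ i, i < 822 → P i := stepQ 821 Q821 (allL N821 (tt N1776 (iv F1243)) (tt N344 (iv D877)) (tt N1788 D2059) (tt N1789 D2060) (tt N1790 D2061))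
theorem Q823 : ∀ i, i < 823 → P i := stepQ 822 Q822 (allL N822 (tt N1791 D2062) (tt N1792 D2063) (tt N344 (iv D878)) (tt N1793 D2064) (tt N1794 D2065))
theorem Q824 : ∀ i, i < 824 → P i := stepQ 823 Q823 (allL N823 (tt N1795 D2066) (tt N1789 (iv F1252)) (tt N1793 (iv F1255)) (tt N344 (iv D879)) (tt N1796 D2067))
theorem Q825 : ∀ i, i < 825 → P i := stepQ 824 Q824 (allL N824 (tt N347 F464) (tt N1790 (iv F1253)) (tt N1797 D2068) (tt N1798 D2069) (tt N344 (iv D880)))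
theorem Q826 : ∀ i, i < 826 → P i := stepQ 825 Q825 (allL N825 (tt N345 (iv D881)) (tt N1799 D2070) (tt N1800 D2071) (tt N1801 D2072) (tt N1802 D2073))
theorem Q827 : ∀ i, i < 827 → P i := stepQ 826 Q826 (allL N826 (tt N1803 D2074) (tt N1268 (iv F783)) (tt N346 F465) (tt N345 (iv D882)) (tt N1804 D2075))
theorem Q828 : ∀ i, i < 828 → P i := stepQ 827 Q827 (allL N827 (tt N1802 (iv F1257)) (tt N1269 (iv F785)) (tt N1805 D2076) (tt N362 (iv F4837)) (tt N345 (iv D883)))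
theorem Q829 : ∀ i, i < 829 → P i := stepQ 828 Q828 (allL N828 (tt N346 (iv D884)) (tt N1806 D2078) (tt N1807 D2079) (tt N1808 D2080) (tt N1809 D2081))
theorem Q830 : ∀ i, i < 830 → P i := stepQ 829 Q829 (allL N829 (tt N1809 (iv F1258)) (tt N349 F466) (tt N1810 D2082) (tt N364 (iv F2078)) (tt N346 (iv D885)))
theorem Q831 : ∀ i, i < 831 → P i := stepQ 830 Q830 (allL N830 (tt N1811 D2084) (tt N1154 F4423) (tt N347 (iv D886)) (tt N365 (iv F2061)) (tt N1152 F4424))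
theorem Q832 : ∀ i, i < 832 → P i := stepQ 831 Q831 (allL N831 (tt N1812 D2090) (tt N348 (iv D888)) (tt N1813 D2091) (tt N809 F468) (tt N1814 D2092))
theorem Q833 : ∀ i, i < 833 → P i := stepQ 832 Q832 (allL N832 (tt N349 F469) (tt N1814 (iv F1263)) (tt N1417 (iv F3377)) (tt N354 (iv F2082)) (tt N348 (iv D889)))
theorem Q834 : ∀ i, i < 834 → P i := stepQ 833 Q833 (allL N833 (tt N356 F473) (tt N350 (iv D897)) (tt N1815 D2108) (tt N1816 D2109) (tt N1817 D2110))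
theorem Q835 : ∀ i, i < 835 → P i := stepQ 834 Q834 (allL N834 (tt N446 F474) (tt N1818 D2111) (tt N350 (iv D898)) (tt N1819 D2112) (tt N1820 D2113))
theorem Q836 : ∀ i, i < 836 → P i := stepQ 835 Q835 (allL N835 (tt N1821 D2114) (tt N1816 (iv F1281)) (tt N1819 (iv F1287)) (tt N350 (iv D899)) (tt N1822 D2115))
theorem Q837 : ∀ i, i < 837 → P i := stepQ 836 Q836 (allL N836 (tt N353 F475) (tt N1817 (iv F1283)) (tt N1823 D2116) (tt N1824 D2117) (tt N350 (iv D900)))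
theorem Q838 : ∀ i, i < 838 → P i := stepQ 837 Q837 (allL N837 (tt N351 (iv D901)) (tt N1825 D2118) (tt N1826 D2119) (tt N1827 D2120) (tt N1828 D2121))
theorem Q839 : ∀ i, i < 839 → P i := stepQ 838 Q838 (allL N838 (tt N1296 (iv F806)) (tt N351 (iv D902)) (tt N1288 F801) (tt N1829 D2122) (tt N1830 D2123))
theorem Q840 : ∀ i, i < 840 → P i := stepQ 839 Q839 (allL N839 (tt N1831 D2124) (tt N1829 (iv F1293)) (tt N352 F476) (tt N351 (iv D903)) (tt N1832 D2125))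
theorem Q841 : ∀ i, i < 841 → P i := stepQ 840 Q840 (allL N840 (tt N1828 (iv F1292)) (tt N1830 (iv F1294)) (tt N1833 D2126) (tt N1834 D2127) (tt N351 (iv D904)))
theorem Q842 : ∀ i, i < 842 → P i := stepQ 841 Q841 (allL N841 (tt N352 (iv D905)) (tt N1835 D2128) (tt N1836 D2129) (tt N1837 D2130) (tt N1838 D2131))
theorem Q843 : ∀ i, i < 843 → P i := stepQ 842 Q842 (allL N842 (tt N1838 (iv F1296)) (tt N354 F477) (tt N1839 D2132) (tt N1814 (iv F2080)) (tt N352 (iv D906)))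
theorem Q844 : ∀ i, i < 844 → P i := stepQ 843 Q843 (allL N843 (tt N1840 D2134) (tt N1841 D2135) (tt N353 (iv D907)) (tt N1842 D2136) (tt N1843 D2137))
theorem Q845 : ∀ i, i < 845 → P i := stepQ 844 Q844 (allL N844 (tt N1844 D2138) (tt N355 F478) (tt N1842 (iv F1298)) (tt N353 (iv D908)) (tt N809 (iv F2067)))
theorem Q846 : ∀ i, i < 846 → P i := stepQ 845 Q845 (allL N845 (tt N1815 (iv F1278)) (tt N927 (iv F550)) (tt N356 (iv D913)) (tt N1845 D2147) (tt N648 F482))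
theorem Q847 : ∀ i, i < 847 → P i := stepQ 846 Q846 (allL N846 (tt N1846 D2148) (tt N358 F483) (tt N1845 (iv F1306)) (tt N356 (iv D914)) (tt N1847 D2149))
theorem Q848 : ∀ i, i < 848 → P i := stepQ 847 Q847 (allL N847 (tt N1817 (iv F1282)) (tt N359 F484) (tt N645 F485) (tt N1848 D2150) (tt N356 (iv D915)))
theorem Q849 : ∀ i, i < 849 → P i := stepQ 848 Q848 (allL N848 (tt N357 (iv D916)) (tt N1849 D2151) (tt N1850 D2152) (tt N1851 D2153) (tt N1852 D2154))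
theorem Q850 : ∀ i, i < 850 → P i := stepQ 849 Q849 (allL N849 (tt N1853 D2155) (tt N357 (iv D917)) (tt N1854 D2156) (tt N1855 D2157) (tt N1856 D2158))
theorem Q851 : ∀ i, i < 851 → P i := stepQ 850 Q850 (allL N850 (tt N1857 D2159) (tt N1855 (iv F1321)) (tt N358 F486) (tt N357 (iv D918)) (tt N1858 D2160))
theorem Q852 : ∀ i, i < 852 → P i := stepQ 851 Q851 (allL N851 (tt N1852 (iv F1316)) (tt N1856 (iv F1322)) (tt N1859 D2161) (tt N1860 D2162) (tt N357 (iv D919)))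
theorem Q853 : ∀ i, i < 853 → P i := stepQ 852 Q852 (allL N852 (tt N358 (iv D920)) (tt N1861 D2163) (tt N1862 D2164) (tt N1863 D2165) (tt N1864 D2166))
theorem Q854 : ∀ i, i < 854 → P i := stepQ 853 Q853 (allL N853 (tt N1864 (iv F1332)) (tt N1847 (iv F1307)) (tt N1865 D2167) (tt N1809 (iv F2076)) (tt N358 (iv D921)))
theorem Q855 : ∀ i, i < 855 → P i := stepQ 854 Q854 (allL N854 (tt N1866 D2169) (tt N1867 D2170) (tt N359 (iv D922)) (tt N1868 D2171) (tt N1869 D2172))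
theorem Q856 : ∀ i, i < 856 → P i := stepQ 855 Q855 (allL N855 (tt N1870 D2173) (tt N1848 (iv F1308)) (tt N1868 (iv F1334)) (tt N359 (iv D923)) (tt N1808 (iv F2085)))
theorem Q857 : ∀ i, i < 857 → P i := stepQ 856 Q856 (allL N856 (tt N928 F1279) (tt N360 (iv D924)) (tt N1871 D2175) (tt N1872 D2176) (tt N1873 D2177))
theorem Q858 : ∀ i, i < 858 → P i := stepQ 857 Q857 (allL N857 (tt N1850 (iv F1312)) (tt N857 F1314) (tt N360 (iv D925)) (tt N1874 D2178) (tt N1875 D2179))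
theorem Q859 : ∀ i, i < 859 → P i := stepQ 858 Q858 (allL N858 (tt N1862 (iv F1329)) (tt N1872 (iv F1338)) (tt N1874 (iv F1341)) (tt N360 (iv D926)) (tt N1876 D2180))
theorem Q860 : ∀ i, i < 860 → P i := stepQ 859 Q859 (allL N859 (tt N362 F487) (tt N1873 (iv F1339)) (tt N1503 (iv F1930)) (tt N1877 D2182) (tt N360 (iv D927)))
theorem Q861 : ∀ i, i < 861 → P i := stepQ 860 Q860 (allL N860 (tt N361 (iv D928)) (tt N1878 D2183) (tt N1879 D2184) (tt N1880 D2185) (tt N1881 D2186))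
theorem Q862 : ∀ i, i < 862 → P i := stepQ 861 Q861 (allL N861 (tt N1881 (iv F1344)) (tt N1300 (iv F808)) (tt N1882 D2187) (tt N1804 F4842) (tt N361 (iv D929)))
theorem Q863 : ∀ i, i < 863 → P i := stepQ 862 Q862 (allL N862 (tt N1859 (iv F1324)) (tt N1200 (iv F1363)) (tt N362 (iv D930)) (tt N1805 F4843) (tt N1160 (iv F1361)))
theorem Q864 : ∀ i, i < 864 → P i := stepQ 863 Q863 (allL N863 (tt N1883 D2194) (tt N363 (iv D932)) (tt N1884 D2195) (tt N1885 D2196) (tt N1886 D2197))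
theorem Q865 : ∀ i, i < 865 → P i := stepQ 864 Q864 (allL N864 (tt N1851 (iv F1315)) (tt N1887 D2198) (tt N363 (iv D933)) (tt N1888 D2199) (tt N1889 D2200))
theorem Q866 : ∀ i, i < 866 → P i := stepQ 865 Q865 (allL N865 (tt N1863 (iv F1330)) (tt N1885 (iv F1348)) (tt N1888 (iv F1350)) (tt N363 (iv D934)) (tt N1798 (iv F2059)))
theorem Q867 : ∀ i, i < 867 → P i := stepQ 866 Q866 (allL N866 (tt N364 F488) (tt N1886 (iv F1349)) (tt N1890 D2202) (tt N1796 (iv F2084)) (tt N363 (iv D935)))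
theorem Q868 : ∀ i, i < 868 → P i := stepQ 867 Q867 (allL N867 (tt N1891 D2204) (tt N1163 (iv F5729)) (tt N364 (iv D936)) (tt N1810 (iv F2077)) (tt N1161 F5727))
theorem Q869 : ∀ i, i < 869 → P i := stepQ 868 Q868 (allL N868 (tt N365 (iv D938)) (tt N1892 D2209) (tt N1875 (iv F1343)) (tt N1893 D2210) (tt N1159 (iv F1362)))
theorem Q870 : ∀ i, i < 870 → P i := stepQ 869 Q869 (allL N869 (tt N366 (iv D944)) (tt N1883 (iv F1347)) (tt N1894 D2217) (tt N1895 D2218) (tt N1896 D2219))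
theorem Q871 : ∀ i, i < 871 → P i := stepQ 870 Q870 (allL N870 (tt N1897 D2220) (tt N1898 D2221) (tt N366 (iv D945)) (tt N1899 D2222) (tt N1900 D2223))
theorem Q872 : ∀ i, i < 872 → P i := stepQ 871 Q871 (allL N871 (tt N1901 D2224) (tt N368 F492) (tt N1899 (iv F1369)) (tt N366 (iv D946)) (tt N1787 (iv F2055)))
theorem Q873 : ∀ i, i < 873 → P i := stepQ 872 Q872 (allL N872 (tt N1896 (iv F1368)) (tt N369 F493) (tt N1902 D2226) (tt N1785 (iv F2073)) (tt N366 (iv D947)))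
theorem Q874 : ∀ i, i < 874 → P i := stepQ 873 Q873 (allL N873 (tt N1903 D2228) (tt N367 (iv D948)) (tt N1904 D2229) (tt N1615 F1079) (tt N1677 F3389))
theorem Q875 : ∀ i, i < 875 → P i := stepQ 874 Q874 (allL N874 (tt N1905 D2254) (tt N1906 D2255) (tt N370 (iv D962)) (tt N1690 (iv F1158)) (tt N1907 D2256))
theorem Q876 : ∀ i, i < 876 → P i := stepQ 875 Q875 (allL N875 (tt N372 F506) (tt N1314 (iv F825)) (tt N1908 D2257) (tt N1696 (iv F1160)) (tt N370 (iv D963)))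
theorem Q877 : ∀ i, i < 877 → P i := stepQ 876 Q876 (allL N876 (tt N371 (iv D964)) (tt N1909 D2258) (tt N1910 D2259) (tt N1911 D2260) (tt N1912 D2261))
theorem Q878 : ∀ i, i < 878 → P i := stepQ 877 Q877 (allL N877 (tt N1304 (iv F810)) (tt N371 (iv D965)) (tt N1913 D2262) (tt N1292 (iv F804)) (tt N1914 D2263))
theorem Q879 : ∀ i, i < 879 → P i := stepQ 878 Q878 (allL N878 (tt N1912 (iv F1394)) (tt N1914 (iv F1396)) (tt N1915 D2264) (tt N1729 (iv F2261)) (tt N371 (iv D966)))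
theorem Q880 : ∀ i, i < 880 → P i := stepQ 879 Q879 (allL N879 (tt N1916 D2266) (tt N1917 D2267) (tt N372 (iv D967)) (tt N1717 (iv F2207)) (tt N1712 (iv F2211)))
theorem Q881 : ∀ i, i < 881 → P i := stepQ 880 Q880 (allL N880 (tt N373 (iv D968)) (tt N1918 D2269) (tt N1919 D2270) (tt N1920 D2271) (tt N1921 D2272))
theorem Q882 : ∀ i, i < 882 → P i := stepQ 881 Q881 (allL N881 (tt N1922 D2273) (tt N1913 (iv F1395)) (tt N373 (iv D969)) (tt N1762 (iv F1234)) (tt N1923 D2274))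
theorem Q883 : ∀ i, i < 883 → P i := stepQ 882 Q882 (allL N882 (tt N1921 (iv F1398)) (tt N374 F507) (tt N1924 D2275) (tt N1774 (iv F2070)) (tt N373 (iv D970)))
theorem Q884 : ∀ i, i < 884 → P i := stepQ 883 Q883 (allL N883 (tt N1925 D2280) (tt N375 (iv D973)) (tt N1926 D2281) (tt N1760 (iv F3385)) (tt N643 (iv F3386)))
theorem Q885 : ∀ i, i < 885 → P i := stepQ 884 Q884 (allL N884 (tt N601 F514) (tt N1927 D2300) (tt N376 (iv D982)) (tt N1928 D2301) (tt N1929 D2302))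
theorem Q886 : ∀ i, i < 886 → P i := stepQ 885 Q885 (allL N885 (tt N1075 (iv F657)) (tt N378 F515) (tt N1928 (iv F1415)) (tt N376 (iv D983)) (tt N1930 D2303))
theorem Q887 : ∀ i, i < 887 → P i := stepQ 886 Q886 (allL N886 (tt N1060 (iv F649)) (tt N379 F516) (tt N1931 D2304) (tt N1932 D2305) (tt N376 (iv D984)))
theorem Q888 : ∀ i, i < 888 → P i := stepQ 887 Q887 (allL N887 (tt N902 (iv F533)) (tt N624 F517) (tt N378 F518) (tt N377 (iv D985)) (tt N1933 D2306))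
theorem Q889 : ∀ i, i < 889 → P i := stepQ 888 Q888 (allL N888 (tt N888 F519) (tt N625 F520) (tt N394 F521) (tt N1934 D2307) (tt N377 (iv D986)))
theorem Q890 : ∀ i, i < 890 → P i := stepQ 889 Q889 (allL N889 (tt N915 (iv F541)) (tt N1930 (iv F1417)) (tt N1935 D2308) (tt N1936 D2309) (tt N378 (iv D987)))
theorem Q891 : ∀ i, i < 891 → P i := stepQ 890 Q890 (allL N890 (tt N890 F522) (tt N1421 (iv F908)) (tt N379 (iv D988)) (tt N1937 D2310) (tt N1418 F906))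
theorem Q892 : ∀ i, i < 892 → P i := stepQ 891 Q891 (allL N891 (tt N1938 D2311) (tt N1932 (iv F1418)) (tt N1937 (iv F1423)) (tt N379 (iv D989)) (tt N1939 D2312))
theorem Q893 : ∀ i, i < 893 → P i := stepQ 892 Q892 (allL N892 (tt N1067 (iv F653)) (tt N655 F523) (tt N380 (iv D990)) (tt N1940 D2313) (tt N1941 D2314))
theorem Q894 : ∀ i, i < 894 → P i := stepQ 893 Q893 (allL N893 (tt N1225 (iv F762)) (tt N644 F524) (tt N1940 (iv F1425)) (tt N380 (iv D991)) (tt N1942 D2315))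
theorem Q895 : ∀ i, i < 895 → P i := stepQ 894 Q894 (allL N894 (tt N383 F525) (tt N645 F526) (tt N1943 D2316) (tt N1944 D2317) (tt N380 (iv D992)))
theorem Q896 : ∀ i, i < 896 → P i := stepQ 895 Q895 (allL N895 (tt N1945 D2318) (tt N414 F527) (tt N382 F528) (tt N381 (iv D993)) (tt N1946 D2319))
theorem Q897 : ∀ i, i < 897 → P i := stepQ 896 Q896 (allL N896 (tt N676 F529) (tt N415 F530) (tt N1947 D2320) (tt N1948 D2321) (tt N381 (iv D994)))
theorem Q898 : ∀ i, i < 898 → P i := stepQ 897 Q897 (allL N897 (tt N382 (iv D995)) (tt N1534 (iv F1021)) (tt N1949 D2322) (tt N1223 (iv F760)) (tt N1950 D2323))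
theorem Q899 : ∀ i, i < 899 → P i := stepQ 898 Q898 (allL N898 (tt N1950 (iv F1433)) (tt N385 F531) (tt N1951 D2324) (tt N1952 D2325) (tt N382 (iv D996)))
theorem Q900 : ∀ i, i < 900 → P i := stepQ 899 Q899 (allL N899 (tt N1892 (iv F1355)) (tt N1953 D2326) (tt N383 (iv D997)) (tt N1954 D2327) (tt N1955 D2328))
theorem Q901 : ∀ i, i < 901 → P i := stepQ 900 Q900 (allL N900 (tt N1956 D2329) (tt N387 F532) (tt N1954 (iv F1435)) (tt N383 (iv D998)) (tt N1957 D2330))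
theorem Q902 : ∀ i, i < 902 → P i := stepQ 901 Q901 (allL N901 (tt N1958 D2331) (tt N384 (iv D999)) (tt N1959 D2332) (tt N1960 D2333) (tt N1961 D2334))
theorem Q903 : ∀ i, i < 903 → P i := stepQ 902 Q902 (allL N902 (tt N887 F533) (tt N1962 D2335) (tt N384 (iv D1000)) (tt N1963 D2336) (tt N1964 D2337))
theorem Q904 : ∀ i, i < 904 → P i := stepQ 903 Q903 (allL N903 (tt N914 (iv F539)) (tt N1960 (iv F1440)) (tt N1963 (iv F1443)) (tt N384 (iv D1001)) (tt N1965 D2338))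
theorem Q905 : ∀ i, i < 905 → P i := stepQ 904 Q904 (allL N904 (tt N385 F534) (tt N1961 (iv F1441)) (tt N1966 D2339) (tt N1967 D2340) (tt N384 (iv D1002)))
theorem Q906 : ∀ i, i < 906 → P i := stepQ 905 Q905 (allL N905 (tt N1968 D2341) (tt N1648 (iv F1664)) (tt N385 (iv D1003)) (tt N1969 D2343) (tt N1642 (iv F1662)))
theorem Q907 : ∀ i, i < 907 → P i := stepQ 906 Q906 (allL N906 (tt N1936 (iv F1422)) (tt N1952 (iv F1434)) (tt N1969 (iv F1449)) (tt N385 (iv D1004)) (tt N1970 D2345))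
theorem Q908 : ∀ i, i < 908 → P i := stepQ 907 Q907 (allL N907 (tt N1971 D2346) (tt N1650 (iv F1117)) (tt N387 F535) (tt N386 (iv D1005)) (tt N1972 D2347))
theorem Q909 : ∀ i, i < 909 → P i := stepQ 908 Q908 (allL N908 (tt N387 (iv D1006)) (tt N1973 D2348) (tt N1974 D2349) (tt N1965 (iv F1446)) (tt N1975 D2350))
theorem Q910 : ∀ i, i < 910 → P i := stepQ 909 Q909 (allL N909 (tt N1975 (iv F1455)) (tt N1957 (iv F1439)) (tt N399 F3361) (tt N1970 (iv F1452)) (tt N387 (iv D1007)))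
theorem Q911 : ∀ i, i < 911 → P i := stepQ 910 Q910 (allL N910 (tt N388 (iv D1008)) (tt N431 F536) (tt N1976 D2352) (tt N772 (iv F1530)) (tt N1977 D2354))
theorem Q912 : ∀ i, i < 912 → P i := stepQ 911 Q911 (allL N911 (tt N1978 D2355) (tt N1979 D2356) (tt N388 (iv D1009)) (tt N786 F1525) (tt N1980 D2358))
theorem Q913 : ∀ i, i < 913 → P i := stepQ 912 Q912 (allL N912 (tt N1977 (iv F1457)) (tt N391 F538) (tt N1981 D2361) (tt N793 (iv F1531)) (tt N388 (iv D1011)))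
theorem Q914 : ∀ i, i < 914 → P i := stepQ 913 Q913 (allL N913 (tt N1982 D2363) (tt N389 (iv D1012)) (tt N1983 D2364) (tt N1984 D2365) (tt N1985 D2366))
theorem Q915 : ∀ i, i < 915 → P i := stepQ 914 Q914 (allL N914 (tt N903 F539) (tt N1984 (iv F1466)) (tt N390 F540) (tt N389 (iv D1013)) (tt N1986 D2367))
theorem Q916 : ∀ i, i < 916 → P i := stepQ 915 Q915 (allL N915 (tt N889 F541) (tt N1985 (iv F1467)) (tt N1968 (iv F1448)) (tt N1987 D2368) (tt N389 (iv D1014)))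
theorem Q917 : ∀ i, i < 917 → P i := stepQ 916 Q916 (allL N916 (tt N916 F542) (tt N787 F1528) (tt N1988 D2369) (tt N398 F543) (tt N390 (iv D1015)))
theorem Q918 : ∀ i, i < 918 → P i := stepQ 917 Q917 (allL N917 (tt N1989 D2370) (tt N1990 D2371) (tt N391 (iv D1016)) (tt N1991 D2372) (tt N1992 D2373))
theorem Q919 : ∀ i, i < 919 → P i := stepQ 918 Q918 (allL N918 (tt N918 F544) (tt N793 F1533) (tt N1991 (iv F1473)) (tt N391 (iv D1017)) (tt N1993 D2374))
theorem Q920 : ∀ i, i < 920 → P i := stepQ 919 Q919 (allL N919 (tt N392 (iv D1018)) (tt N1994 D2375) (tt N1964 (iv F1445)) (tt N1995 D2376) (tt N1996 D2377))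
theorem Q921 : ∀ i, i < 921 → P i := stepQ 920 Q920 (allL N920 (tt N1997 D2378) (tt N392 (iv D1019)) (tt N1998 D2379) (tt N1999 D2380) (tt N2000 D2381))
theorem Q922 : ∀ i, i < 922 → P i := stepQ 921 Q921 (allL N921 (tt N2001 D2382) (tt N1999 (iv F1479)) (tt N393 F545) (tt N392 (iv D1020)) (tt N2002 D2383))
theorem Q923 : ∀ i, i < 923 → P i := stepQ 922 Q922 (allL N922 (tt N1996 (iv F1477)) (tt N2000 (iv F1480)) (tt N1642 (iv F1661)) (tt N397 (iv F1663)) (tt N392 (iv D1021)))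
theorem Q924 : ∀ i, i < 924 → P i := stepQ 923 Q923 (allL N923 (tt N923 F546) (tt N445 F547) (tt N1970 (iv F3362)) (tt N399 F548) (tt N393 (iv D1022)))
theorem Q925 : ∀ i, i < 925 → P i := stepQ 924 Q924 (allL N924 (tt N1276 (iv F791)) (tt N394 (iv D1023)) (tt N2003 D2386) (tt N2004 D2387) (tt N2005 D2388))
theorem Q926 : ∀ i, i < 926 → P i := stepQ 925 Q925 (allL N925 (tt N934 (iv F554)) (tt N2004 (iv F1484)) (tt N1934 (iv F1421)) (tt N394 (iv D1024)) (tt N2006 D2389))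
theorem Q927 : ∀ i, i < 927 → P i := stepQ 926 Q926 (allL N926 (tt N397 F549) (tt N2005 (iv F1485)) (tt N1418 (iv F905)) (tt N2007 D2390) (tt N394 (iv D1025)))
theorem Q928 : ∀ i, i < 928 → P i := stepQ 927 Q927 (allL N927 (tt N395 (iv D1026)) (tt N845 F550) (tt N2008 D2391) (tt N2009 D2392) (tt N1438 (iv F931)))
theorem Q929 : ∀ i, i < 929 → P i := stepQ 928 Q928 (allL N928 (tt N856 (iv F1279)) (tt N450 F551) (tt N395 (iv D1027)) (tt N2010 D2393) (tt N2011 D2394))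
theorem Q930 : ∀ i, i < 930 → P i := stepQ 929 Q929 (allL N929 (tt N2012 D2395) (tt N396 F552) (tt N2010 (iv F1489)) (tt N395 (iv D1028)) (tt N2013 D2396))
theorem Q931 : ∀ i, i < 931 → P i := stepQ 930 Q930 (allL N930 (tt N1438 (iv F932)) (tt N397 F553) (tt N1559 (iv F1036)) (tt N2000 (iv F1660)) (tt N395 (iv D1029)))
theorem Q932 : ∀ i, i < 932 → P i := stepQ 931 Q931 (allL N931 (tt N396 (iv D1030)) (tt N2014 D2398) (tt N2015 D2399) (tt N2016 D2400) (tt N2017 D2401))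
theorem Q933 : ∀ i, i < 933 → P i := stepQ 932 Q932 (allL N932 (tt N2017 (iv F1496)) (tt N2013 (iv F1492)) (tt N1972 (iv F3363)) (tt N2002 (iv F1665)) (tt N396 (iv D1031)))
theorem Q934 : ∀ i, i < 934 → P i := stepQ 933 Q933 (allL N933 (tt N2018 D2406) (tt N398 (iv D1033)) (tt N2019 D2407) (tt N787 F1529) (tt N2020 D2408))
theorem Q935 : ∀ i, i < 935 → P i := stepQ 934 Q934 (allL N934 (tt N925 F554) (tt N2021 D2409) (tt N398 (iv D1034)) (tt N1988 (iv F1471)) (tt N2022 D2410))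
theorem Q936 : ∀ i, i < 936 → P i := stepQ 935 Q935 (allL N935 (tt N399 F555) (tt N2020 (iv F1498)) (tt N2023 D2411) (tt N1993 (iv F1475)) (tt N398 (iv D1035)))
theorem Q937 : ∀ i, i < 937 → P i := stepQ 936 Q936 (allL N936 (tt N1357 (iv F861)) (tt N1444 (iv F941)) (tt N401 F556) (tt N400 (iv D1037)) (tt N2024 D2415))
theorem Q938 : ∀ i, i < 938 → P i := stepQ 937 Q937 (allL N937 (tt N1350 (iv F854)) (tt N1445 (iv F945)) (tt N1341 (iv F846)) (tt N2025 D2416) (tt N400 (iv D1038)))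
theorem Q939 : ∀ i, i < 939 → P i := stepQ 938 Q938 (allL N938 (tt N1372 (iv F879)) (tt N406 F557) (tt N2026 D2417) (tt N2027 D2418) (tt N401 (iv D1039)))
theorem Q940 : ∀ i, i < 940 → P i := stepQ 939 Q939 (allL N939 (tt N1352 (iv F857)) (tt N2028 D2419) (tt N402 (iv D1040)) (tt N2029 D2420) (tt N2030 D2421))
theorem Q941 : ∀ i, i < 941 → P i := stepQ 940 Q940 (allL N940 (tt N2031 D2422) (tt N408 F558) (tt N2029 (iv F1501)) (tt N402 (iv D1041)) (tt N2032 D2423))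
theorem Q942 : ∀ i, i < 942 → P i := stepQ 941 Q941 (allL N941 (tt N1699 (iv F1163)) (tt N404 F559) (tt N1442 (iv F936)) (tt N403 (iv D1042)) (tt N2033 D2424))
theorem Q943 : ∀ i, i < 943 → P i := stepQ 942 Q942 (allL N942 (tt N472 F560) (tt N405 F561) (tt N1849 F1311) (tt N2034 D2425) (tt N403 (iv D1043)))
theorem Q944 : ∀ i, i < 944 → P i := stepQ 943 Q943 (allL N943 (tt N517 F562) (tt N2033 (iv F1503)) (tt N551 F563) (tt N2035 D2426) (tt N404 (iv D1044)))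
theorem Q945 : ∀ i, i < 945 → P i := stepQ 944 Q944 (allL N944 (tt N582 F565) (tt N2034 (iv F1504)) (tt N447 F564) (tt N405 (iv D1045)) (tt N2036 D2427))
theorem Q946 : ∀ i, i < 946 → P i := stepQ 945 Q945 (allL N945 (tt N519 F566) (tt N2037 D2428) (tt N406 (iv D1046)) (tt N2038 D2429) (tt N2039 D2430))
theorem Q947 : ∀ i, i < 947 → P i := stepQ 946 Q946 (allL N946 (tt N425 F567) (tt N2027 (iv F1500)) (tt N2038 (iv F1509)) (tt N406 (iv D1047)) (tt N2040 D2431))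
theorem Q948 : ∀ i, i < 948 → P i := stepQ 947 Q947 (allL N947 (tt N1101 (iv F674)) (tt N407 (iv D1048)) (tt N2041 D2432) (tt N2042 D2433) (tt N1098 (iv F672)))
theorem Q949 : ∀ i, i < 949 → P i := stepQ 948 Q948 (allL N948 (tt N532 F569) (tt N2042 (iv F1516)) (tt N408 F568) (tt N407 (iv D1049)) (tt N2043 D2434))
theorem Q950 : ∀ i, i < 950 → P i := stepQ 949 Q949 (allL N949 (tt N479 F570) (tt N1098 (iv F671)) (tt N448 F571) (tt N2039 (iv F1513)) (tt N407 (iv D1050)))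
theorem Q951 : ∀ i, i < 951 → P i := stepQ 950 Q950 (allL N950 (tt N408 (iv D1051)) (tt N2044 D2435) (tt N529 F572) (tt N548 F573) (tt N590 F2195))
theorem Q952 : ∀ i, i < 952 → P i := stepQ 951 Q951 (allL N951 (tt N590 F2193) (tt N2032 (iv F1502)) (tt N2036 F2194) (tt N2040 (iv F1515)) (tt N408 (iv D1052)))
theorem Q953 : ∀ i, i < 953 → P i := stepQ 952 Q952 (allL N952 (tt N2045 D2438) (tt N411 F574) (tt N952 F575) (tt N409 (iv D1053)) (tt N2046 D2439))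
theorem Q954 : ∀ i, i < 954 → P i := stepQ 953 Q953 (allL N953 (tt N1330 (iv F839)) (tt N412 F576) (tt N2047 D2440) (tt N2048 D2441) (tt N409 (iv D1054)))
theorem Q955 : ∀ i, i < 955 → P i := stepQ 954 Q954 (allL N954 (tt N410 (iv D1055)) (tt N623 F577) (tt N1927 (iv F1414)) (tt N2049 D2442) (tt N2050 D2443))
theorem Q956 : ∀ i, i < 956 → P i := stepQ 955 Q955 (allL N955 (tt N2051 D2444) (tt N1449 (iv F950)) (tt N411 F578) (tt N410 (iv D1056)) (tt N2052 D2445))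
theorem Q957 : ∀ i, i < 957 → P i := stepQ 956 Q956 (allL N956 (tt N2050 (iv F1552)) (tt N1450 (iv F953)) (tt N2053 D2446) (tt N2054 D2447) (tt N410 (iv D1057)))
theorem Q958 : ∀ i, i < 958 → P i := stepQ 957 Q957 (allL N957 (tt N411 (iv D1058)) (tt N786 (iv F1524)) (tt N2055 D2448) (tt N1979 F1460) (tt N2056 D2449))
theorem Q959 : ∀ i, i < 959 → P i := stepQ 958 Q958 (allL N958 (tt N2056 (iv F1556)) (tt N2046 (iv F1546)) (tt N2057 D2450) (tt N2058 D2451) (tt N411 (iv D1059)))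
theorem Q960 : ∀ i, i < 960 → P i := stepQ 959 Q959 (allL N959 (tt N2059 D2452) (tt N2060 D2453) (tt N412 (iv D1060)) (tt N2061 D2454) (tt N2062 D2455))
theorem Q961 : ∀ i, i < 961 → P i := stepQ 960 Q960 (allL N960 (tt N2063 D2456) (tt N2048 (iv F1549)) (tt N2061 (iv F1561)) (tt N412 (iv D1061)) (tt N2064 D2457))
theorem Q962 : ∀ i, i < 962 → P i := stepQ 961 Q961 (allL N961 (tt N1927 (iv F1413)) (tt N492 F579) (tt N413 (iv D1062)) (tt N2065 D2458) (tt N2066 D2459))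
theorem Q963 : ∀ i, i < 963 → P i := stepQ 962 Q962 (allL N962 (tt N2055 (iv F1555)) (tt N493 F580) (tt N2065 (iv F1564)) (tt N413 (iv D1063)) (tt N2067 D2460))
theorem Q964 : ∀ i, i < 964 → P i := stepQ 963 Q963 (allL N963 (tt N415 F581) (tt N494 F582) (tt N2068 D2461) (tt N2069 D2462) (tt N413 (iv D1064)))
theorem Q965 : ∀ i, i < 965 → P i := stepQ 964 Q964 (allL N964 (tt N414 (iv D1065)) (tt N2070 D2463) (tt N2071 D2464) (tt N2072 D2465) (tt N2073 D2466))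
theorem Q966 : ∀ i, i < 966 → P i := stepQ 965 Q965 (allL N965 (tt N2073 (iv F1575)) (tt N1946 (iv F1431)) (tt N2074 D2467) (tt N2075 D2468) (tt N414 (iv D1066)))
theorem Q967 : ∀ i, i < 967 → P i := stepQ 966 Q966 (allL N966 (tt N2053 (iv F1554)) (tt N1646 (iv F1116)) (tt N415 (iv D1067)) (tt N2076 D2469) (tt N1644 F1114))
theorem Q968 : ∀ i, i < 968 → P i := stepQ 967 Q967 (allL N967 (tt N2077 D2470) (tt N1948 (iv F1432)) (tt N2076 (iv F1576)) (tt N415 (iv D1068)) (tt N2078 D2471))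
theorem Q969 : ∀ i, i < 969 → P i := stepQ 968 Q968 (allL N968 (tt N2079 D2472) (tt N416 (iv D1069)) (tt N2080 D2473) (tt N2080 F1579) (tt N2081 D2474))
theorem Q970 : ∀ i, i < 970 → P i := stepQ 969 Q969 (allL N969 (tt N2049 (iv F1551)) (tt N2082 D2475) (tt N416 (iv D1070)) (tt N2083 D2476) (tt N2084 D2477))
theorem Q971 : ∀ i, i < 971 → P i := stepQ 970 Q970 (allL N970 (tt N1979 (iv F1459)) (tt N2080 (iv F1578)) (tt N2083 (iv F1581)) (tt N416 (iv D1071)) (tt N2085 D2478))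
theorem Q972 : ∀ i, i < 972 → P i := stepQ 971 Q971 (allL N971 (tt N417 F583) (tt N2081 (iv F1580)) (tt N2086 D2479) (tt N2087 D2480) (tt N416 (iv D1072)))
theorem Q973 : ∀ i, i < 973 → P i := stepQ 972 Q972 (allL N972 (tt N2088 D2481) (tt N2089 D2482) (tt N417 (iv D1073)) (tt N2090 D2483) (tt N2091 D2484))
theorem Q974 : ∀ i, i < 974 → P i := stepQ 973 Q973 (allL N973 (tt N2058 (iv F1558)) (tt N425 F584) (tt N2090 (iv F1583)) (tt N417 (iv D1074)) (tt N2092 D2485))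
theorem Q975 : ∀ i, i < 975 → P i := stepQ 974 Q974 (allL N974 (tt N418 (iv D1075)) (tt N1307 (iv F1043)) (tt N2066 (iv F1572)) (tt N2093 D2486) (tt N1565 (iv F1045)))
theorem Q976 : ∀ i, i < 976 → P i := stepQ 975 Q975 (allL N975 (tt N1562 (iv F1041)) (tt N418 (iv D1076)) (tt N2094 D2487) (tt N2095 D2488) (tt N1559 (iv F1037)))
theorem Q977 : ∀ i, i < 977 → P i := stepQ 976 Q976 (allL N976 (tt N2096 D2489) (tt N2095 (iv F1587)) (tt N419 F585) (tt N418 (iv D1077)) (tt N2097 D2490))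
theorem Q978 : ∀ i, i < 978 → P i := stepQ 977 Q977 (allL N977 (tt N1565 (iv F1044)) (tt N1559 F1038) (tt N1644 (iv F1113)) (tt N2091 F3786) (tt N418 (iv D1078)))
theorem Q979 : ∀ i, i < 979 → P i := stepQ 978 Q978 (allL N978 (tt N419 (iv D1079)) (tt N2098 D2492) (tt N2099 D2493) (tt N2085 (iv F1582)) (tt N2100 D2494))
theorem Q980 : ∀ i, i < 980 → P i := stepQ 979 Q979 (allL N979 (tt N2100 (iv F1588)) (tt N430 F586) (tt N2078 F6315) (tt N2092 (iv F1585)) (tt N419 (iv D1080)))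
theorem Q981 : ∀ i, i < 981 → P i := stepQ 980 Q980 (allL N980 (tt N420 (iv D1081)) (tt N2079 (iv F1577)) (tt N720 (iv F1605)) (tt N719 (iv F1606)) (tt N2101 D2498))
theorem Q982 : ∀ i, i < 982 → P i := stepQ 981 Q981 (allL N981 (tt N2102 D2499) (tt N2103 D2500) (tt N420 (iv D1082)) (tt N2104 D2501) (tt N2105 D2502))
theorem Q983 : ∀ i, i < 983 → P i := stepQ 982 Q982 (allL N982 (tt N2106 D2503) (tt N422 F587) (tt N2104 (iv F1594)) (tt N420 (iv D1083)) (tt N2107 D2504))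
theorem Q984 : ∀ i, i < 984 → P i := stepQ 983 Q983 (allL N983 (tt N2101 (iv F1589)) (tt N423 F588) (tt N2108 D2505) (tt N2109 D2506) (tt N420 (iv D1084)))
theorem Q985 : ∀ i, i < 985 → P i := stepQ 984 Q984 (allL N984 (tt N2110 D2507) (tt N421 (iv D1085)) (tt N2111 D2508) (tt N2112 D2509) (tt N2113 D2510))
theorem Q986 : ∀ i, i < 986 → P i := stepQ 985 Q985 (allL N985 (tt N516 F589) (tt N2112 (iv F1602)) (tt N422 F590) (tt N421 (iv D1086)) (tt N2114 D2511))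
theorem Q987 : ∀ i, i < 987 → P i := stepQ 986 Q986 (allL N986 (tt N473 F591) (tt N2113 (iv F1608)) (tt N441 F592) (tt N2115 D2512) (tt N421 (iv D1087)))
theorem Q988 : ∀ i, i < 988 → P i := stepQ 987 Q987 (allL N987 (tt N548 F593) (tt N2107 (iv F1597)) (tt N2116 D2513) (tt N429 F594) (tt N422 (iv D1088)))
theorem Q989 : ∀ i, i < 989 → P i := stepQ 988 Q988 (allL N988 (tt N475 F595) (tt N2117 D2514) (tt N423 (iv D1089)) (tt N2118 D2515) (tt N2119 D2516))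
theorem Q990 : ∀ i, i < 990 → P i := stepQ 989 Q989 (allL N989 (tt N549 F596) (tt N2109 (iv F1599)) (tt N2118 (iv F1617)) (tt N423 (iv D1090)) (tt N2120 D2517))
theorem Q991 : ∀ i, i < 991 → P i := stepQ 990 Q990 (allL N990 (tt N424 (iv D1091)) (tt N2121 D2518) (tt N437 F597) (tt N2122 D2519) (tt N2123 D2520))
theorem Q992 : ∀ i, i < 992 → P i := stepQ 991 Q991 (allL N991 (tt N2124 D2521) (tt N424 (iv D1092)) (tt N2125 D2522) (tt N2126 D2523) (tt N2127 D2524))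
theorem Q993 : ∀ i, i < 993 → P i := stepQ 992 Q992 (allL N992 (tt N523 F599) (tt N2126 (iv F1626)) (tt N425 F598) (tt N424 (iv D1093)) (tt N2128 D2525))
theorem Q994 : ∀ i, i < 994 → P i := stepQ 993 Q993 (allL N993 (tt N2123 (iv F1624)) (tt N2127 (iv F1627)) (tt N444 F600) (tt N428 F1189) (tt N424 (iv D1094)))
theorem Q995 : ∀ i, i < 995 → P i := stepQ 994 Q994 (allL N994 (tt N2040 (iv F1514)) (tt N2092 (iv F1584)) (tt N445 (iv F2179)) (tt N430 F601) (tt N425 (iv D1095)))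
theorem Q996 : ∀ i, i < 996 → P i := stepQ 995 Q995 (allL N995 (tt N426 (iv D1096)) (tt N428 F602) (tt N2129 D2527) (tt N2127 F1628) (tt N426 F603))
theorem Q997 : ∀ i, i < 997 → P i := stepQ 996 Q996 (allL N996 (tt N2130 D2528) (tt N2094 (iv F1586)) (tt N426 (iv D1097)) (tt N2131 D2529) (tt N2132 D2530))
theorem Q998 : ∀ i, i < 998 → P i := stepQ 997 Q997 (allL N997 (tt N2133 D2531) (tt N427 F604) (tt N2131 (iv F1633)) (tt N426 (iv D1098)) (tt N2134 D2532))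
theorem Q999 : ∀ i, i < 999 → P i := stepQ 998 Q998 (allL N998 (tt N427 (iv D1099)) (tt N2135 D2533) (tt N480 F605) (tt N2136 D2534) (tt N2137 D2535))
theorem Q1000 : ∀ i, i < 1000 → P i := stepQ 999 Q999 (allL N999 (tt N2137 (iv F1637)) (tt N2134 (iv F1634)) (tt N454 (iv F2169)) (tt N2128 (iv F1630)) (tt N427 (iv D1100)))
theorem Q1001 : ∀ i, i < 1001 → P i := stepQ 1000 Q1000 (allL N1000 (tt N2138 D2537) (tt N429 (iv D1102)) (tt N2139 D2538) (tt N2107 F1598) (tt N2140 D2539))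
theorem Q1002 : ∀ i, i < 1002 → P i := stepQ 1001 Q1001 (allL N1001 (tt N478 F607) (tt N2141 D2540) (tt N429 (iv D1103)) (tt N2116 (iv F1614)) (tt N2142 D2541))
theorem Q1003 : ∀ i, i < 1003 → P i := stepQ 1002 Q1002 (allL N1002 (tt N430 F608) (tt N2140 (iv F1639)) (tt N2143 D2542) (tt N2120 (iv F1621)) (tt N429 (iv D1104)))
theorem Q1004 : ∀ i, i < 1004 → P i := stepQ 1003 Q1003 (allL N1003 (tt N2144 D2546) (tt N1739 F1541) (tt N431 (iv D1106)) (tt N2145 D2547) (tt N2146 D2548))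
theorem Q1005 : ∀ i, i < 1005 → P i := stepQ 1004 Q1004 (allL N1004 (tt N1004 F918) (tt N772 F1532) (tt N2145 (iv F1650)) (tt N431 (iv D1107)) (tt N2147 D2549))
theorem Q1006 : ∀ i, i < 1006 → P i := stepQ 1005 Q1005 (allL N1005 (tt N434 F609) (tt N1977 (iv F1458)) (tt N2148 D2550) (tt N2149 D2551) (tt N431 (iv D1108)))
theorem Q1007 : ∀ i, i < 1007 → P i := stepQ 1006 Q1006 (allL N1006 (tt N432 (iv D1109)) (tt N1337 F1647) (tt N2150 D2552) (tt N1335 (iv F1648)) (tt N2151 D2553))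
theorem Q1008 : ∀ i, i < 1008 → P i := stepQ 1007 Q1007 (allL N1007 (tt N2151 (iv F1658)) (tt N1473 (iv F973)) (tt N2152 D2554) (tt N1490 (iv F985)) (tt N432 (iv D1110)))
theorem Q1009 : ∀ i, i < 1009 → P i := stepQ 1008 Q1008 (allL N1008 (tt N1008 F919) (tt N438 F610) (tt N1861 (iv F1325)) (tt N455 (iv F611)) (tt N433 (iv D1112)))
theorem Q1010 : ∀ i, i < 1010 → P i := stepQ 1009 Q1009 (allL N1009 (tt N2153 D2555) (tt N1795 (iv F1256)) (tt N434 (iv D1113)) (tt N2154 D2556) (tt N2155 D2557))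
theorem Q1011 : ∀ i, i < 1011 → P i := stepQ 1010 Q1010 (allL N1010 (tt N1010 F920) (tt N440 F612) (tt N2154 (iv F1668)) (tt N434 (iv D1114)) (tt N2156 D2558))
theorem Q1012 : ∀ i, i < 1012 → P i := stepQ 1011 Q1011 (allL N1011 (tt N435 (iv D1115)) (tt N2157 D2559) (tt N2158 D2560) (tt N2159 D2561) (tt N2160 D2562))
theorem Q1013 : ∀ i, i < 1013 → P i := stepQ 1012 Q1012 (allL N1012 (tt N2161 D2563) (tt N1471 (iv F969)) (tt N435 (iv D1116)) (tt N1470 F967) (tt N2162 D2564))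
theorem Q1014 : ∀ i, i < 1014 → P i := stepQ 1013 Q1013 (allL N1013 (tt N2163 D2565) (tt N436 F613) (tt N1470 (iv F966)) (tt N435 (iv D1117)) (tt N2164 D2566))
theorem Q1015 : ∀ i, i < 1015 → P i := stepQ 1014 Q1014 (allL N1014 (tt N2160 (iv F1673)) (tt N437 F614) (tt N2165 D2567) (tt N2166 D2568) (tt N435 (iv D1118)))
theorem Q1016 : ∀ i, i < 1016 → P i := stepQ 1015 Q1015 (allL N1015 (tt N518 F615) (tt N2164 (iv F1674)) (tt N2136 (iv F1636)) (tt N480 F616) (tt N436 (iv D1119)))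
theorem Q1017 : ∀ i, i < 1017 → P i := stepQ 1016 Q1016 (allL N1016 (tt N520 F617) (tt N2166 (iv F1676)) (tt N2122 (iv F1623)) (tt N437 (iv D1120)) (tt N2167 D2569))
theorem Q1018 : ∀ i, i < 1018 → P i := stepQ 1017 Q1017 (allL N1017 (tt N583 F619) (tt N2168 D2570) (tt N438 (iv D1121)) (tt N456 F618) (tt N2169 D2571))
theorem Q1019 : ∀ i, i < 1019 → P i := stepQ 1018 Q1018 (allL N1018 (tt N439 (iv D1122)) (tt N2170 D2572) (tt N473 F620) (tt N563 F621) (tt N570 F1196))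
theorem Q1020 : ∀ i, i < 1020 → P i := stepQ 1019 Q1019 (allL N1019 (tt N2171 D2573) (tt N439 (iv D1123)) (tt N2172 D2574) (tt N2173 D2575) (tt N2174 D2576))
theorem Q1021 : ∀ i, i < 1021 → P i := stepQ 1020 Q1020 (allL N1020 (tt N557 F622) (tt N2173 (iv F1684)) (tt N440 F623) (tt N439 (iv D1124)) (tt N2175 D2577))
theorem Q1022 : ∀ i, i < 1022 → P i := stepQ 1021 Q1021 (allL N1021 (tt N570 F1197) (tt N2174 (iv F1685)) (tt N2123 (iv F1625)) (tt N2169 (iv F1681)) (tt N439 (iv D1125)))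
theorem Q1023 : ∀ i, i < 1023 → P i := stepQ 1022 Q1022 (allL N1022 (tt N555 F624) (tt N2156 (iv F1670)) (tt N2167 (iv F2184)) (tt N457 F625) (tt N440 (iv D1126)))
theorem Q1024 : ∀ i, i < 1024 → P i := stepQ 1023 Q1023 (allL N1023 (tt N2176 D2579) (tt N441 (iv D1127)) (tt N2177 D2580) (tt N2178 D2581) (tt N2179 D2582))
theorem Q1025 : ∀ i, i < 1025 → P i := stepQ 1024 Q1024 (allL N1024 (tt N553 F626) (tt N2178 (iv F1690)) (tt N2115 (iv F1613)) (tt N441 (iv D1128)) (tt N2180 D2583))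
theorem Q1026 : ∀ i, i < 1026 → P i := stepQ 1025 Q1025 (allL N1025 (tt N444 F627) (tt N2179 (iv F1691)) (tt N2119 (iv F1619)) (tt N2181 D2584) (tt N441 (iv D1129)))
theorem Q1027 : ∀ i, i < 1027 → P i := stepQ 1026 Q1026 (allL N1026 (tt N442 (iv D1130)) (tt N2182 D2585) (tt N2183 D2586) (tt N2184 D2587) (tt N2185 D2588))
theorem Q1028 : ∀ i, i < 1028 → P i := stepQ 1027 Q1027 (allL N1027 (tt N2186 D2589) (tt N1998 (iv F1478)) (tt N442 (iv D1131)) (tt N2187 D2590) (tt N2188 D2591))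
theorem Q1029 : ∀ i, i < 1029 → P i := stepQ 1028 Q1028 (allL N1028 (tt N2189 D2592) (tt N443 F628) (tt N2187 (iv F1697)) (tt N442 (iv D1132)) (tt N2190 D2593))
theorem Q1030 : ∀ i, i < 1030 → P i := stepQ 1029 Q1029 (allL N1029 (tt N2185 (iv F1696)) (tt N444 F629) (tt N2191 D2594) (tt N452 F1190) (tt N442 (iv D1133)))
theorem Q1031 : ∀ i, i < 1031 → P i := stepQ 1030 Q1030 (allL N1030 (tt N443 (iv D1134)) (tt N2192 D2595) (tt N2035 (iv F1505)) (tt N551 F630) (tt N2193 D2596))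
theorem Q1032 : ∀ i, i < 1032 → P i := stepQ 1031 Q1031 (allL N1031 (tt N2193 (iv F1702)) (tt N2190 (iv F1698)) (tt N2128 (iv F2165)) (tt N454 F1192) (tt N443 (iv D1135)))
theorem Q1033 : ∀ i, i < 1033 → P i := stepQ 1032 Q1032 (allL N1032 (tt N1826 (iv F1290)) (tt N1850 (iv F1313)) (tt N446 (iv D1138)) (tt N2194 D2601) (tt N2195 D2602))
theorem Q1034 : ∀ i, i < 1034 → P i := stepQ 1033 Q1033 (allL N1033 (tt N1836 (iv F1295)) (tt N447 F632) (tt N2194 (iv F1708)) (tt N446 (iv D1139)) (tt N2196 D2603))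
theorem Q1035 : ∀ i, i < 1035 → P i := stepQ 1034 Q1034 (allL N1034 (tt N1820 (iv F1288)) (tt N448 F633) (tt N2197 D2604) (tt N2198 D2605) (tt N446 (iv D1140)))
theorem Q1036 : ∀ i, i < 1036 → P i := stepQ 1035 Q1035 (allL N1035 (tt N589 F634) (tt N2196 (iv F1709)) (tt N2043 (iv F2173)) (tt N2193 (iv F1703)) (tt N447 (iv D1141)))
theorem Q1037 : ∀ i, i < 1037 → P i := stepQ 1036 Q1036 (allL N1036 (tt N554 F1187) (tt N2198 (iv F1710)) (tt N2039 (iv F1512)) (tt N448 (iv D1142)) (tt N551 F1188))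
theorem Q1038 : ∀ i, i < 1038 → P i := stepQ 1037 Q1037 (allL N1037 (tt N1818 (iv F1285)) (tt N449 (iv D1143)) (tt N1037 F635) (tt N2199 D2607) (tt N2047 (iv F1548)))
theorem Q1039 : ∀ i, i < 1039 → P i := stepQ 1038 Q1038 (allL N1038 (tt N2200 D2608) (tt N1853 (iv F1318)) (tt N449 (iv D1144)) (tt N2201 D2609) (tt N2202 D2610))
theorem Q1040 : ∀ i, i < 1040 → P i := stepQ 1039 Q1039 (allL N1039 (tt N2203 D2611) (tt N2199 (iv F1713)) (tt N2201 (iv F1716)) (tt N449 (iv D1145)) (tt N2204 D2612))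
theorem Q1041 : ∀ i, i < 1041 → P i := stepQ 1040 Q1040 (allL N1040 (tt N452 F636) (tt N2047 (iv F1547)) (tt N2205 D2613) (tt N2206 D2614) (tt N449 (iv D1146)))
theorem Q1042 : ∀ i, i < 1042 → P i := stepQ 1041 Q1041 (allL N1041 (tt N450 (iv D1147)) (tt N575 F1280) (tt N2207 D2615) (tt N2208 D2616) (tt N2209 D2617))
theorem Q1043 : ∀ i, i < 1043 → P i := stepQ 1042 Q1042 (allL N1042 (tt N2210 D2618) (tt N2010 (iv F1488)) (tt N451 F637) (tt N450 (iv D1148)) (tt N2211 D2619))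
theorem Q1044 : ∀ i, i < 1044 → P i := stepQ 1043 Q1043 (allL N1043 (tt N2209 (iv F1720)) (tt N2011 (iv F1491)) (tt N2212 D2620) (tt N2188 F7105) (tt N450 (iv D1149)))
theorem Q1045 : ∀ i, i < 1045 → P i := stepQ 1044 Q1044 (allL N1044 (tt N451 (iv D1150)) (tt N2213 D2622) (tt N2214 D2623) (tt N2215 D2624) (tt N2216 D2625))
theorem Q1046 : ∀ i, i < 1046 → P i := stepQ 1045 Q1045 (allL N1045 (tt N2216 (iv F1722)) (tt N454 F638) (tt N2217 D2626) (tt N2190 (iv F1699)) (tt N451 (iv D1151)))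
theorem Q1047 : ∀ i, i < 1047 → P i := stepQ 1046 Q1046 (allL N1046 (tt N1156 (iv F1438)) (tt N1955 (iv F1436)) (tt N452 (iv D1152)) (tt N2191 (iv F1700)) (tt N1953 (iv F1437)))
theorem Q1048 : ∀ i, i < 1048 → P i := stepQ 1047 Q1047 (allL N1047 (tt N2218 D2627) (tt N453 (iv D1154)) (tt N2219 D2628) (tt N2220 D2629) (tt N2221 D2630))
theorem Q1049 : ∀ i, i < 1049 → P i := stepQ 1048 Q1048 (allL N1048 (tt N474 F640) (tt N2222 D2631) (tt N453 (iv D1155)) (tt N2114 (iv F1611)) (tt N2143 (iv F2178)))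
theorem Q1050 : ∀ i, i < 1050 → P i := stepQ 1049 Q1049 (allL N1049 (tt N550 F641) (tt N2220 (iv F1723)) (tt N2114 (iv F1610)) (tt N453 (iv D1156)) (tt N2181 (iv F1695)))
theorem Q1051 : ∀ i, i < 1051 → P i := stepQ 1050 Q1050 (allL N1050 (tt N454 F642) (tt N2221 (iv F1724)) (tt N2142 (iv F2201)) (tt N2180 (iv F1693)) (tt N453 (iv D1157)))
theorem Q1052 : ∀ i, i < 1052 → P i := stepQ 1051 Q1051 (allL N1051 (tt N455 (iv D1162)) (tt N2018 (iv F1497)) (tt N2223 D2637) (tt N2147 (iv F1654)) (tt N2224 D2638))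
theorem Q1053 : ∀ i, i < 1053 → P i := stepQ 1052 Q1052 (allL N1052 (tt N2225 D2639) (tt N1863 (iv F1331)) (tt N455 (iv D1163)) (tt N1861 F1328) (tt N2226 D2640))
theorem Q1054 : ∀ i, i < 1054 → P i := stepQ 1053 Q1053 (allL N1053 (tt N2224 (iv F1730)) (tt N457 F643) (tt N2227 D2641) (tt N2156 (iv F1671)) (tt N455 (iv D1164)))
theorem Q1055 : ∀ i, i < 1055 → P i := stepQ 1054 Q1054 (allL N1054 (tt N2228 D2642) (tt N456 (iv D1165)) (tt N2229 D2643) (tt N2168 (iv F1679)) (tt N2230 D2644))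
theorem Q1056 : ∀ i, i < 1056 → P i := stepQ 1055 Q1055 (allL N1055 (tt N569 F644) (tt N2230 (iv F1731)) (tt N2137 (iv F2168)) (tt N2175 (iv F1687)) (tt N456 (iv D1166)))
theorem Q1057 : ∀ i, i < 1057 → P i := stepQ 1056 Q1056 (allL N1056 (tt N481 F2191) (tt N2231 D2646) (tt N457 (iv D1167)) (tt N2167 F2192) (tt N480 (iv F2198)))
theorem Q1058 : ∀ i, i < 1058 → P i := stepQ 1057 Q1057 (allL N1057 (tt N2232 D2655) (tt N460 F645) (tt N1329 (iv F838)) (tt N458 (iv D1171)) (tt N2233 D2656))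
theorem Q1059 : ∀ i, i < 1059 → P i := stepQ 1058 Q1058 (allL N1058 (tt N483 F646) (tt N461 F647) (tt N2234 D2657) (tt N2235 D2658) (tt N458 (iv D1172)))
theorem Q1060 : ∀ i, i < 1060 → P i := stepQ 1059 Q1059 (allL N1059 (tt N2236 D2659) (tt N1323 (iv F830)) (tt N460 F648) (tt N459 (iv D1173)) (tt N2237 D2660))
theorem Q1061 : ∀ i, i < 1061 → P i := stepQ 1060 Q1060 (allL N1060 (tt N886 F649) (tt N1324 (iv F833)) (tt N2238 D2661) (tt N2239 D2662) (tt N459 (iv D1174)))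
theorem Q1062 : ∀ i, i < 1062 → P i := stepQ 1061 Q1061 (allL N1061 (tt N460 (iv D1175)) (tt N778 F1164) (tt N2240 D2663) (tt N776 F1165) (tt N2241 D2664))
theorem Q1063 : ∀ i, i < 1063 → P i := stepQ 1062 Q1062 (allL N1062 (tt N2241 (iv F1748)) (tt N2233 (iv F1738)) (tt N2242 D2665) (tt N2243 D2666) (tt N460 (iv D1176)))
theorem Q1064 : ∀ i, i < 1064 → P i := stepQ 1063 Q1063 (allL N1063 (tt N2244 D2667) (tt N2245 D2668) (tt N461 (iv D1177)) (tt N2246 D2669) (tt N2247 D2670))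
theorem Q1065 : ∀ i, i < 1065 → P i := stepQ 1064 Q1064 (allL N1064 (tt N2248 D2671) (tt N2235 (iv F1742)) (tt N2246 (iv F1752)) (tt N461 (iv D1178)) (tt N2249 D2672))
theorem Q1066 : ∀ i, i < 1066 → P i := stepQ 1065 Q1065 (allL N1065 (tt N2240 (iv F1747)) (tt N1065 F650) (tt N1347 (iv F849)) (tt N462 (iv D1179)) (tt N2250 D2673))
theorem Q1067 : ∀ i, i < 1067 → P i := stepQ 1066 Q1066 (allL N1066 (tt N465 F651) (tt N1066 F652) (tt N2251 D2674) (tt N2252 D2675) (tt N462 (iv D1180)))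
theorem Q1068 : ∀ i, i < 1068 → P i := stepQ 1067 Q1067 (allL N1067 (tt N892 F653) (tt N470 F654) (tt N463 (iv D1181)) (tt N2253 D2676) (tt N2254 D2677))
theorem Q1069 : ∀ i, i < 1069 → P i := stepQ 1068 Q1068 (allL N1068 (tt N2255 D2678) (tt N464 F655) (tt N2253 (iv F1760)) (tt N463 (iv D1182)) (tt N2256 D2679))
theorem Q1070 : ∀ i, i < 1070 → P i := stepQ 1069 Q1069 (allL N1069 (tt N1494 (iv F990)) (tt N465 F656) (tt N2257 D2680) (tt N2258 D2681) (tt N463 (iv D1183)))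
theorem Q1071 : ∀ i, i < 1071 → P i := stepQ 1070 Q1070 (allL N1070 (tt N464 (iv D1184)) (tt N2259 D2682) (tt N2260 D2683) (tt N2261 D2684) (tt N2262 D2685))
theorem Q1072 : ∀ i, i < 1072 → P i := stepQ 1071 Q1071 (allL N1071 (tt N2262 (iv F1775)) (tt N2256 (iv F1765)) (tt N2263 D2686) (tt N2264 D2687) (tt N464 (iv D1185)))
theorem Q1073 : ∀ i, i < 1073 → P i := stepQ 1072 Q1072 (allL N1072 (tt N2238 (iv F1745)) (tt N1663 (iv F1357)) (tt N465 (iv D1186)) (tt N2265 D2688) (tt N2266 D2689))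
theorem Q1074 : ∀ i, i < 1074 → P i := stepQ 1073 Q1073 (allL N1073 (tt N2267 D2690) (tt N2258 (iv F1767)) (tt N2265 (iv F1776)) (tt N465 (iv D1187)) (tt N2268 D2691))
theorem Q1075 : ∀ i, i < 1075 → P i := stepQ 1074 Q1074 (allL N1074 (tt N2157 (iv F1672)) (tt N466 (iv D1188)) (tt N2269 D2692) (tt N2270 D2693) (tt N2271 D2694))
theorem Q1076 : ∀ i, i < 1076 → P i := stepQ 1075 Q1075 (allL N1075 (tt N885 F657) (tt N2272 D2695) (tt N466 (iv D1189)) (tt N2273 D2696) (tt N2274 D2697))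
theorem Q1077 : ∀ i, i < 1077 → P i := stepQ 1076 Q1076 (allL N1076 (tt N776 F1166) (tt N2270 (iv F1781)) (tt N2273 (iv F1789)) (tt N466 (iv D1190)) (tt N2275 D2698))
theorem Q1078 : ∀ i, i < 1078 → P i := stepQ 1077 Q1077 (allL N1077 (tt N467 F658) (tt N2271 (iv F1784)) (tt N2276 D2699) (tt N2277 D2700) (tt N466 (iv D1191)))
theorem Q1079 : ∀ i, i < 1079 → P i := stepQ 1078 Q1078 (allL N1078 (tt N2278 D2701) (tt N2279 D2702) (tt N467 (iv D1192)) (tt N2280 D2703) (tt N2281 D2704))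
theorem Q1080 : ∀ i, i < 1080 → P i := stepQ 1079 Q1079 (allL N1079 (tt N2243 (iv F1750)) (tt N476 F659) (tt N2280 (iv F1793)) (tt N467 (iv D1193)) (tt N2282 D2705))
theorem Q1081 : ∀ i, i < 1081 → P i := stepQ 1080 Q1080 (allL N1080 (tt N468 (iv D1194)) (tt N2283 D2706) (tt N1348 (iv F851)) (tt N2284 D2707) (tt N2285 D2708))
theorem Q1082 : ∀ i, i < 1082 → P i := stepQ 1081 Q1081 (allL N1081 (tt N2286 D2709) (tt N468 (iv D1195)) (tt N2287 D2710) (tt N2288 D2711) (tt N2289 D2712))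
theorem Q1083 : ∀ i, i < 1083 → P i := stepQ 1082 Q1082 (allL N1082 (tt N2290 D2713) (tt N2288 (iv F1798)) (tt N469 F660) (tt N468 (iv D1196)) (tt N2291 D2714))
theorem Q1084 : ∀ i, i < 1084 → P i := stepQ 1083 Q1083 (allL N1083 (tt N2285 (iv F1796)) (tt N2289 (iv F1799)) (tt N2266 (iv F1777)) (tt N2281 F6330) (tt N468 (iv D1197)))
theorem Q1085 : ∀ i, i < 1085 → P i := stepQ 1084 Q1084 (allL N1084 (tt N469 (iv D1198)) (tt N2292 D2716) (tt N2293 D2717) (tt N2275 (iv F1792)) (tt N2294 D2718))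
theorem Q1086 : ∀ i, i < 1086 → P i := stepQ 1085 Q1085 (allL N1085 (tt N2294 (iv F1800)) (tt N481 F661) (tt N2268 F4137) (tt N2282 (iv F1795)) (tt N469 (iv D1199)))
theorem Q1087 : ∀ i, i < 1087 → P i := stepQ 1086 Q1086 (allL N1086 (tt N2295 D2720) (tt N2253 (iv F1759)) (tt N471 F662) (tt N470 (iv D1200)) (tt N2296 D2721))
theorem Q1088 : ∀ i, i < 1088 → P i := stepQ 1087 Q1087 (allL N1087 (tt N627 F663) (tt N2254 (iv F1763)) (tt N2297 D2722) (tt N2298 D2723) (tt N470 (iv D1201)))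
theorem Q1089 : ∀ i, i < 1089 → P i := stepQ 1088 Q1088 (allL N1088 (tt N471 (iv D1202)) (tt N2299 D2724) (tt N2300 D2725) (tt N2301 D2726) (tt N2302 D2727))
theorem Q1090 : ∀ i, i < 1090 → P i := stepQ 1089 Q1089 (allL N1089 (tt N2302 (iv F1804)) (tt N473 F664) (tt N2303 D2728) (tt N2304 D2729) (tt N471 (iv D1203)))
theorem Q1091 : ∀ i, i < 1091 → P i := stepQ 1090 Q1090 (allL N1090 (tt N630 F665) (tt N2305 D2730) (tt N472 (iv D1204)) (tt N2306 D2731) (tt N2307 D2732))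
theorem Q1092 : ∀ i, i < 1092 → P i := stepQ 1091 Q1091 (allL N1091 (tt N2308 D2733) (tt N474 F666) (tt N2306 (iv F1808)) (tt N472 (iv D1205)) (tt N2309 D2734))
theorem Q1093 : ∀ i, i < 1093 → P i := stepQ 1092 Q1092 (allL N1092 (tt N2035 (iv F1506)) (tt N2304 (iv F1805)) (tt N563 F667) (tt N473 (iv D1206)) (tt N2310 D2735))
theorem Q1094 : ∀ i, i < 1094 → P i := stepQ 1093 Q1093 (allL N1093 (tt N2143 F2187) (tt N2309 (iv F1810)) (tt N481 F2188) (tt N2310 (iv F1811)) (tt N474 (iv D1207)))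
theorem Q1095 : ∀ i, i < 1095 → P i := stepQ 1094 Q1094 (allL N1094 (tt N2311 D2736) (tt N475 (iv D1208)) (tt N2312 D2737) (tt N2313 D2738) (tt N2314 D2739))
theorem Q1096 : ∀ i, i < 1096 → P i := stepQ 1095 Q1095 (allL N1095 (tt N2038 (iv F1510)) (tt N2313 (iv F1813)) (tt N476 F668) (tt N475 (iv D1209)) (tt N2315 D2740))
theorem Q1097 : ∀ i, i < 1097 → P i := stepQ 1096 Q1096 (allL N1096 (tt N2119 (iv F1618)) (tt N2314 (iv F1814)) (tt N570 F1198) (tt N479 F1199) (tt N475 (iv D1210)))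
theorem Q1098 : ∀ i, i < 1098 → P i := stepQ 1097 Q1097 (allL N1097 (tt N525 F669) (tt N2282 (iv F1794)) (tt N2310 (iv F2186)) (tt N481 F670) (tt N476 (iv D1211)))
theorem Q1099 : ∀ i, i < 1099 → P i := stepQ 1098 Q1098 (allL N1098 (tt N477 (iv D1212)) (tt N949 F671) (tt N2316 D2742) (tt N2317 D2743) (tt N947 F672))
theorem Q1100 : ∀ i, i < 1100 → P i := stepQ 1099 Q1099 (allL N1099 (tt N1424 (iv F2266)) (tt N2287 (iv F1797)) (tt N477 (iv D1213)) (tt N2318 D2745) (tt N1422 (iv F2268)))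
theorem Q1101 : ∀ i, i < 1101 → P i := stepQ 1100 Q1100 (allL N1100 (tt N2319 D2747) (tt N478 F673) (tt N2318 (iv F1820)) (tt N477 (iv D1214)) (tt N2320 D2748))
theorem Q1102 : ∀ i, i < 1102 → P i := stepQ 1101 Q1101 (allL N1101 (tt N947 F674) (tt N479 F675) (tt N2321 D2749) (tt N2314 F1815) (tt N477 (iv D1215)))
theorem Q1103 : ∀ i, i < 1103 → P i := stepQ 1102 Q1102 (allL N1102 (tt N2142 (iv F1640)) (tt N2320 (iv F1821)) (tt N569 F2200) (tt N2315 (iv F1816)) (tt N478 (iv D1216)))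
theorem Q1104 : ∀ i, i < 1104 → P i := stepQ 1103 Q1103 (allL N1103 (tt N2322 D2751) (tt N480 (iv D1218)) (tt N2323 D2752) (tt N2164 F1675) (tt N2231 (iv F2197)))
theorem Q1105 : ∀ i, i < 1105 → P i := stepQ 1104 Q1104 (allL N1104 (tt N482 (iv D1221)) (tt N2324 D2756) (tt N2045 (iv F1523)) (tt N2325 D2757) (tt N2326 D2758))
theorem Q1106 : ∀ i, i < 1106 → P i := stepQ 1105 Q1105 (allL N1105 (tt N2326 (iv F1824)) (tt N489 F678) (tt N2327 D2759) (tt N2328 D2760) (tt N482 (iv D1222)))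
theorem Q1107 : ∀ i, i < 1107 → P i := stepQ 1106 Q1106 (allL N1106 (tt N2329 D2761) (tt N574 F679) (tt N483 (iv D1223)) (tt N2330 D2762) (tt N571 F680))
theorem Q1108 : ∀ i, i < 1108 → P i := stepQ 1107 Q1107 (allL N1107 (tt N2331 D2763) (tt N491 F681) (tt N2330 (iv F1833)) (tt N483 (iv D1224)) (tt N2332 D2764))
theorem Q1109 : ∀ i, i < 1109 → P i := stepQ 1108 Q1108 (allL N1108 (tt N500 F684) (tt N626 F682) (tt N605 F683) (tt N484 (iv D1225)) (tt N2333 D2765))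
theorem Q1110 : ∀ i, i < 1110 → P i := stepQ 1109 Q1109 (allL N1109 (tt N487 F685) (tt N627 F686) (tt N2334 D2766) (tt N2335 D2767) (tt N484 (iv D1226)))
theorem Q1111 : ∀ i, i < 1111 → P i := stepQ 1110 Q1110 (allL N1110 (tt N2336 D2768) (tt N486 F687) (tt N1110 F688) (tt N485 (iv D1227)) (tt N2337 D2769))
theorem Q1112 : ∀ i, i < 1112 → P i := stepQ 1111 Q1111 (allL N1111 (tt N1452 (iv F955)) (tt N487 F689) (tt N2338 D2770) (tt N2339 D2771) (tt N485 (iv D1228)))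
theorem Q1113 : ∀ i, i < 1113 → P i := stepQ 1112 Q1112 (allL N1112 (tt N486 (iv D1229)) (tt N1612 (iv F1076)) (tt N1593 (iv F1066)) (tt N1592 F1063) (tt N2340 D2772))
theorem Q1114 : ∀ i, i < 1114 → P i := stepQ 1113 Q1113 (allL N1113 (tt N2340 (iv F1846)) (tt N2337 (iv F1841)) (tt N2341 D2773) (tt N2342 D2774) (tt N486 (iv D1230)))
theorem Q1115 : ∀ i, i < 1115 → P i := stepQ 1114 Q1114 (allL N1114 (tt N497 F690) (tt N2343 D2775) (tt N487 (iv D1231)) (tt N2344 D2776) (tt N2345 D2777))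
theorem Q1116 : ∀ i, i < 1116 → P i := stepQ 1115 Q1115 (allL N1115 (tt N2346 D2778) (tt N2339 (iv F1845)) (tt N2344 (iv F1847)) (tt N487 (iv D1232)) (tt N2347 D2779))
theorem Q1117 : ∀ i, i < 1117 → P i := stepQ 1116 Q1116 (allL N1116 (tt N493 F693) (tt N800 F691) (tt N488 (iv D1233)) (tt N780 F692) (tt N2348 D2780))
theorem Q1118 : ∀ i, i < 1118 → P i := stepQ 1117 Q1117 (allL N1117 (tt N489 F694) (tt N783 F695) (tt N2349 D2781) (tt N2350 D2782) (tt N488 (iv D1234)))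
theorem Q1119 : ∀ i, i < 1119 → P i := stepQ 1118 Q1118 (allL N1118 (tt N2351 D2783) (tt N2352 D2784) (tt N489 (iv D1235)) (tt N2353 D2785) (tt N2354 D2786))
theorem Q1120 : ∀ i, i < 1120 → P i := stepQ 1119 Q1119 (allL N1119 (tt N504 F696) (tt N2328 (iv F1827)) (tt N2353 (iv F1854)) (tt N489 (iv D1236)) (tt N2355 D2787))
theorem Q1121 : ∀ i, i < 1121 → P i := stepQ 1120 Q1120 (allL N1120 (tt N490 (iv D1237)) (tt N2356 D2788) (tt N606 F697) (tt N2357 D2789) (tt N2358 D2790))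
theorem Q1122 : ∀ i, i < 1122 → P i := stepQ 1121 Q1121 (allL N1121 (tt N2359 D2791) (tt N490 (iv D1238)) (tt N2360 D2792) (tt N2361 D2793) (tt N2362 D2794))
theorem Q1123 : ∀ i, i < 1123 → P i := stepQ 1122 Q1122 (allL N1122 (tt N2363 D2795) (tt N2361 (iv F1865)) (tt N491 F698) (tt N490 (iv D1239)) (tt N2364 D2796))
theorem Q1124 : ∀ i, i < 1124 → P i := stepQ 1123 Q1123 (allL N1123 (tt N2358 (iv F1860)) (tt N2362 (iv F1866)) (tt N2345 (iv F1849)) (tt N2354 F4448) (tt N490 (iv D1240)))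
theorem Q1125 : ∀ i, i < 1125 → P i := stepQ 1124 Q1124 (allL N1124 (tt N491 (iv D1241)) (tt N785 (iv F700)) (tt N2365 D2798) (tt N781 F699) (tt N2366 D2799))
theorem Q1126 : ∀ i, i < 1126 → P i := stepQ 1125 Q1125 (allL N1125 (tt N2366 (iv F1870)) (tt N2332 (iv F1834)) (tt N2347 F5297) (tt N2355 (iv F1856)) (tt N491 (iv D1242)))
theorem Q1127 : ∀ i, i < 1127 → P i := stepQ 1126 Q1126 (allL N1126 (tt N1593 (iv F1064)) (tt N2065 (iv F1563)) (tt N493 F701) (tt N492 (iv D1243)) (tt N2367 D2801))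
theorem Q1128 : ∀ i, i < 1128 → P i := stepQ 1127 Q1127 (allL N1127 (tt N606 F702) (tt N2066 (iv F1571)) (tt N505 F703) (tt N2368 D2802) (tt N492 (iv D1244)))
theorem Q1129 : ∀ i, i < 1129 → P i := stepQ 1128 Q1128 (allL N1128 (tt N2348 (iv F1850)) (tt N2067 (iv F1573)) (tt N2369 D2803) (tt N2370 D2804) (tt N493 (iv D1245)))
theorem Q1130 : ∀ i, i < 1130 → P i := stepQ 1129 Q1129 (allL N1129 (tt N2334 (iv F1837)) (tt N2371 D2805) (tt N494 (iv D1246)) (tt N2372 D2806) (tt N2373 D2807))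
theorem Q1131 : ∀ i, i < 1131 → P i := stepQ 1130 Q1130 (allL N1130 (tt N2374 D2808) (tt N2069 (iv F1574)) (tt N2372 (iv F1875)) (tt N494 (iv D1247)) (tt N2375 D2809))
theorem Q1132 : ∀ i, i < 1132 → P i := stepQ 1131 Q1131 (allL N1131 (tt N1681 F1224) (tt N495 (iv D1248)) (tt N2376 D2810) (tt N1241 (iv F1223)) (tt N2377 D2811))
theorem Q1133 : ∀ i, i < 1133 → P i := stepQ 1132 Q1132 (allL N1132 (tt N605 F704) (tt N2378 D2812) (tt N495 (iv D1249)) (tt N1591 (iv F1059)) (tt N2379 D2813))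
theorem Q1134 : ∀ i, i < 1134 → P i := stepQ 1133 Q1133 (allL N1133 (tt N780 F705) (tt N1241 F1222) (tt N1591 F1060) (tt N495 (iv D1250)) (tt N2380 D2814))
theorem Q1135 : ∀ i, i < 1135 → P i := stepQ 1134 Q1134 (allL N1134 (tt N496 F706) (tt N2377 (iv F1881)) (tt N2381 D2815) (tt N2382 D2816) (tt N495 (iv D1251)))
theorem Q1136 : ∀ i, i < 1136 → P i := stepQ 1135 Q1135 (allL N1135 (tt N2383 D2817) (tt N2384 D2818) (tt N496 (iv D1252)) (tt N2385 D2819) (tt N2386 D2820))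
theorem Q1137 : ∀ i, i < 1137 → P i := stepQ 1136 Q1136 (allL N1136 (tt N2370 (iv F1873)) (tt N687 F707) (tt N2385 (iv F1889)) (tt N496 (iv D1253)) (tt N2387 D2821))
theorem Q1138 : ∀ i, i < 1138 → P i := stepQ 1137 Q1137 (allL N1137 (tt N2388 D2822) (tt N497 (iv D1254)) (tt N2389 D2823) (tt N2390 D2824) (tt N758 F1366))
theorem Q1139 : ∀ i, i < 1139 → P i := stepQ 1138 Q1138 (allL N1138 (tt N2391 D2825) (tt N2390 (iv F1897)) (tt N498 F708) (tt N497 (iv D1255)) (tt N2392 D2826))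
theorem Q1140 : ∀ i, i < 1140 → P i := stepQ 1139 Q1139 (allL N1139 (tt N2345 (iv F1848)) (tt N758 F1358) (tt N508 F709) (tt N2386 F4436) (tt N497 (iv D1256)))
theorem Q1141 : ∀ i, i < 1141 → P i := stepQ 1140 Q1140 (allL N1140 (tt N498 (iv D1257)) (tt N2393 D2828) (tt N2394 D2829) (tt N2380 (iv F1887)) (tt N2395 D2830))
theorem Q1142 : ∀ i, i < 1142 → P i := stepQ 1141 Q1141 (allL N1141 (tt N2395 (iv F1900)) (tt N692 F710) (tt N510 (iv F5281)) (tt N2387 (iv F1892)) (tt N498 (iv D1258)))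
theorem Q1143 : ∀ i, i < 1143 → P i := stepQ 1142 Q1142 (allL N1142 (tt N499 (iv D1259)) (tt N511 F711) (tt N1581 F1053) (tt N2396 D2832) (tt N2397 D2833))
theorem Q1144 : ∀ i, i < 1144 → P i := stepQ 1143 Q1143 (allL N1143 (tt N2270 F1783) (tt N501 F712) (tt N499 (iv D1260)) (tt N499 (iv F713)) (tt N2398 D2834))
theorem Q1145 : ∀ i, i < 1145 → P i := stepQ 1144 Q1144 (allL N1144 (tt N2397 (iv F1903)) (tt N502 F714) (tt N2399 D2835) (tt N2400 D2836) (tt N499 (iv D1261)))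
theorem Q1146 : ∀ i, i < 1146 → P i := stepQ 1145 Q1145 (allL N1145 (tt N2401 D2837) (tt N500 (iv D1262)) (tt N2402 D2838) (tt N2402 F1910) (tt N2403 D2839))
theorem Q1147 : ∀ i, i < 1147 → P i := stepQ 1146 Q1146 (allL N1146 (tt N1592 (iv F1061)) (tt N2402 (iv F1908)) (tt N501 F715) (tt N500 (iv D1263)) (tt N2404 D2840))
theorem Q1148 : ∀ i, i < 1148 → P i := stepQ 1147 Q1147 (allL N1147 (tt N2333 (iv F1835)) (tt N2403 (iv F1911)) (tt N2383 (iv F1888)) (tt N2405 D2841) (tt N500 (iv D1264)))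
theorem Q1149 : ∀ i, i < 1149 → P i := stepQ 1148 Q1148 (allL N1148 (tt N781 F716) (tt N2398 (iv F1905)) (tt N2406 D2842) (tt N509 F717) (tt N501 (iv D1265)))
theorem Q1150 : ∀ i, i < 1150 → P i := stepQ 1149 Q1149 (allL N1149 (tt N2407 D2843) (tt N2408 D2844) (tt N502 (iv D1266)) (tt N2409 D2845) (tt N2410 D2846))
theorem Q1151 : ∀ i, i < 1151 → P i := stepQ 1150 Q1150 (allL N1150 (tt N2350 (iv F1852)) (tt N2400 (iv F1907)) (tt N2409 (iv F1914)) (tt N502 (iv D1267)) (tt N2411 D2847))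
theorem Q1152 : ∀ i, i < 1152 → P i := stepQ 1151 Q1151 (allL N1151 (tt N503 (iv D1268)) (tt N2412 D2848) (tt N2379 (iv F1885)) (tt N2413 D2849) (tt N2414 D2850))
theorem Q1153 : ∀ i, i < 1153 → P i := stepQ 1152 Q1152 (allL N1152 (tt N2415 D2851) (tt N503 (iv D1269)) (tt N2416 D2852) (tt N2417 D2853) (tt N830 (iv F4424)))
theorem Q1154 : ∀ i, i < 1154 → P i := stepQ 1153 Q1153 (allL N1153 (tt N2418 D2855) (tt N2417 (iv F1918)) (tt N504 F718) (tt N503 (iv D1270)) (tt N2419 D2856))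
theorem Q1155 : ∀ i, i < 1155 → P i := stepQ 1154 Q1154 (allL N1154 (tt N2414 (iv F1916)) (tt N830 (iv F4423)) (tt N2386 (iv F1890)) (tt N508 (iv F4425)) (tt N503 (iv D1271)))
theorem Q1156 : ∀ i, i < 1156 → P i := stepQ 1155 Q1155 (allL N1155 (tt N2355 (iv F1855)) (tt N525 F719) (tt N2387 F5289) (tt N510 F720) (tt N504 (iv D1272)))
theorem Q1157 : ∀ i, i < 1157 → P i := stepQ 1156 Q1156 (allL N1156 (tt N1046 F1438) (tt N505 (iv D1273)) (tt N2420 D2859) (tt N2421 D2860) (tt N2422 D2861))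
theorem Q1158 : ∀ i, i < 1158 → P i := stepQ 1157 Q1157 (allL N1157 (tt N2365 (iv F1869)) (tt N2421 (iv F1922)) (tt N2368 (iv F1872)) (tt N505 (iv D1274)) (tt N2423 D2862))
theorem Q1159 : ∀ i, i < 1159 → P i := stepQ 1158 Q1158 (allL N1158 (tt N508 F721) (tt N2422 (iv F1924)) (tt N2373 (iv F1877)) (tt N2424 D2863) (tt N505 (iv D1275)))
theorem Q1160 : ∀ i, i < 1160 → P i := stepQ 1159 Q1159 (allL N1159 (tt N506 (iv D1276)) (tt N2425 D2864) (tt N2426 D2865) (tt N2427 D2866) (tt N868 F1362))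
theorem Q1161 : ∀ i, i < 1161 → P i := stepQ 1160 Q1160 (allL N1160 (tt N2428 D2867) (tt N527 F722) (tt N506 (iv D1277)) (tt N2429 D2868) (tt N862 F1361))
theorem Q1162 : ∀ i, i < 1162 → P i := stepQ 1161 Q1161 (allL N1161 (tt N2430 D2869) (tt N507 F723) (tt N2429 (iv F1935)) (tt N506 (iv D1278)) (tt N867 (iv F5727)))
theorem Q1163 : ∀ i, i < 1163 → P i := stepQ 1162 Q1162 (allL N1162 (tt N507 (iv D1280)) (tt N2431 D2871) (tt N2432 D2872) (tt N2433 D2873) (tt N2434 D2874))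
theorem Q1164 : ∀ i, i < 1164 → P i := stepQ 1163 Q1163 (allL N1163 (tt N2434 (iv F1939)) (tt N867 F5729) (tt N2392 F5287) (tt N2419 F4434) (tt N507 (iv D1281)))
theorem Q1165 : ∀ i, i < 1165 → P i := stepQ 1164 Q1164 (allL N1164 (tt N2435 D2879) (tt N509 (iv D1283)) (tt N2436 D2880) (tt N2398 F1906) (tt N2437 D2881))
theorem Q1166 : ∀ i, i < 1166 → P i := stepQ 1165 Q1165 (allL N1165 (tt N2357 (iv F1859)) (tt N2438 D2882) (tt N509 (iv D1284)) (tt N2406 (iv F1912)) (tt N2439 D2883))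
theorem Q1167 : ∀ i, i < 1167 → P i := stepQ 1166 Q1166 (allL N1166 (tt N510 F725) (tt N2437 (iv F1942)) (tt N2440 D2884) (tt N2411 (iv F1915)) (tt N509 (iv D1285)))
theorem Q1168 : ∀ i, i < 1168 → P i := stepQ 1167 Q1167 (allL N1167 (tt N2441 D2888) (tt N1531 (iv F1054)) (tt N511 (iv D1287)) (tt N1958 (iv F1944)) (tt N2442 D2889))
theorem Q1169 : ∀ i, i < 1169 → P i := stepQ 1168 Q1168 (allL N1168 (tt N2443 D2890) (tt N2396 (iv F1901)) (tt N1958 F1945) (tt N511 (iv D1288)) (tt N2444 D2891))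
theorem Q1170 : ∀ i, i < 1170 → P i := stepQ 1169 Q1169 (allL N1169 (tt N514 F726) (tt N2397 (iv F1904)) (tt N2445 D2892) (tt N2446 D2893) (tt N511 (iv D1289)))
theorem Q1171 : ∀ i, i < 1171 → P i := stepQ 1170 Q1170 (allL N1170 (tt N512 (iv D1290)) (tt N2261 (iv F1773)) (tt N1356 (iv F860)) (tt N2259 (iv F1774)) (tt N2447 D2894))
theorem Q1172 : ∀ i, i < 1172 → P i := stepQ 1171 Q1171 (allL N1171 (tt N2448 D2895) (tt N512 (iv D1291)) (tt N2449 D2896) (tt N2450 D2897) (tt N2451 D2898))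
theorem Q1173 : ∀ i, i < 1173 → P i := stepQ 1172 Q1172 (allL N1172 (tt N2452 D2899) (tt N2450 (iv F1957)) (tt N513 F727) (tt N512 (iv D1292)) (tt N2453 D2900))
theorem Q1174 : ∀ i, i < 1174 → P i := stepQ 1173 Q1173 (allL N1173 (tt N2447 (iv F1951)) (tt N2451 (iv F1958)) (tt N2454 D2901) (tt N2455 D2902) (tt N512 (iv D1293)))
theorem Q1175 : ∀ i, i < 1175 → P i := stepQ 1174 Q1174 (allL N1174 (tt N513 (iv D1294)) (tt N2325 (iv F1949)) (tt N2456 D2903) (tt N2324 F1948) (tt N2457 D2904))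
theorem Q1176 : ∀ i, i < 1176 → P i := stepQ 1175 Q1175 (allL N1175 (tt N2457 (iv F1961)) (tt N518 F728) (tt N2458 D2905) (tt N531 (iv F729)) (tt N513 (iv D1295)))
theorem Q1177 : ∀ i, i < 1177 → P i := stepQ 1176 Q1176 (allL N1176 (tt N2459 D2906) (tt N2460 D2907) (tt N514 (iv D1296)) (tt N2461 D2908) (tt N2462 D2909))
theorem Q1178 : ∀ i, i < 1178 → P i := stepQ 1177 Q1177 (allL N1177 (tt N2463 D2910) (tt N520 F730) (tt N2461 (iv F1963)) (tt N514 (iv D1297)) (tt N2464 D2911))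
theorem Q1179 : ∀ i, i < 1179 → P i := stepQ 1178 Q1178 (allL N1178 (tt N515 (iv D1298)) (tt N1678 (iv F1148)) (tt N2465 D2912) (tt N2466 D2913) (tt N2467 D2914))
theorem Q1180 : ∀ i, i < 1180 → P i := stepQ 1179 Q1179 (allL N1179 (tt N731 F938) (tt N2449 (iv F1955)) (tt N515 (iv D1299)) (tt N2468 D2915) (tt N2469 D2916))
theorem Q1181 : ∀ i, i < 1181 → P i := stepQ 1180 Q1180 (allL N1180 (tt N2112 F1604) (tt N516 F731) (tt N2468 (iv F1970)) (tt N515 (iv D1300)) (tt N2470 D2917))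
theorem Q1182 : ∀ i, i < 1182 → P i := stepQ 1181 Q1181 (allL N1181 (tt N2467 (iv F1969)) (tt N517 F732) (tt N2471 D2918) (tt N2472 D2919) (tt N515 (iv D1301)))
theorem Q1183 : ∀ i, i < 1183 → P i := stepQ 1182 Q1182 (allL N1182 (tt N2114 (iv F1609)) (tt N2470 (iv F1972)) (tt N583 F733) (tt N582 F734) (tt N516 (iv D1302)))
theorem Q1184 : ∀ i, i < 1184 → P i := stepQ 1183 Q1183 (allL N1183 (tt N2115 (iv F1612)) (tt N2472 (iv F1975)) (tt N557 F735) (tt N517 (iv D1303)) (tt N2473 D2920))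
theorem Q1185 : ∀ i, i < 1185 → P i := stepQ 1184 Q1184 (allL N1184 (tt N2116 (iv F1615)) (tt N2474 D2921) (tt N518 (iv D1304)) (tt N532 F736) (tt N2475 D2922))
theorem Q1186 : ∀ i, i < 1186 → P i := stepQ 1185 Q1185 (allL N1185 (tt N2476 D2923) (tt N519 (iv D1305)) (tt N2477 D2924) (tt N2478 D2925) (tt N2479 D2926))
theorem Q1187 : ∀ i, i < 1187 → P i := stepQ 1186 Q1186 (allL N1186 (tt N2118 (iv F1616)) (tt N2478 (iv F1981)) (tt N520 F737) (tt N519 (iv D1306)) (tt N2480 D2927))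
theorem Q1188 : ∀ i, i < 1188 → P i := stepQ 1187 Q1187 (allL N1187 (tt N2039 (iv F1511)) (tt N2479 (iv F1982)) (tt N558 F738) (tt N2475 (iv F1980)) (tt N519 (iv D1307)))
theorem Q1189 : ∀ i, i < 1189 → P i := stepQ 1188 Q1188 (allL N1188 (tt N2167 (iv F1677)) (tt N2464 (iv F1964)) (tt N2473 (iv F2181)) (tt N533 F739) (tt N520 (iv D1308)))
theorem Q1190 : ∀ i, i < 1190 → P i := stepQ 1189 Q1189 (allL N1189 (tt N2481 D2929) (tt N521 (iv D1309)) (tt N2482 D2930) (tt N2483 D2931) (tt N2484 D2932))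
theorem Q1191 : ∀ i, i < 1191 → P i := stepQ 1190 Q1190 (allL N1190 (tt N2122 (iv F1622)) (tt N2483 (iv F1985)) (tt N549 F740) (tt N521 (iv D1310)) (tt N2485 D2933))
theorem Q1192 : ∀ i, i < 1192 → P i := stepQ 1191 Q1191 (allL N1191 (tt N524 F741) (tt N2484 (iv F1986)) (tt N554 F742) (tt N2486 D2934) (tt N521 (iv D1311)))
theorem Q1193 : ∀ i, i < 1193 → P i := stepQ 1192 Q1192 (allL N1192 (tt N522 (iv D1312)) (tt N1715 (iv F1201)) (tt N2487 D2935) (tt N2488 D2936) (tt N1713 F1185))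
theorem Q1194 : ∀ i, i < 1194 → P i := stepQ 1193 Q1193 (allL N1193 (tt N2489 D2937) (tt N2416 (iv F1917)) (tt N522 (iv D1313)) (tt N2490 D2938) (tt N2491 D2939))
theorem Q1195 : ∀ i, i < 1195 → P i := stepQ 1194 Q1194 (allL N1194 (tt N2492 D2940) (tt N523 F743) (tt N2490 (iv F1990)) (tt N522 (iv D1314)) (tt N2492 F1993))
theorem Q1196 : ∀ i, i < 1196 → P i := stepQ 1195 Q1195 (allL N1195 (tt N1713 F1182) (tt N524 F744) (tt N2493 D2941) (tt N526 F1183) (tt N522 (iv D1315)))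
theorem Q1197 : ∀ i, i < 1197 → P i := stepQ 1196 Q1196 (allL N1196 (tt N2128 (iv F1629)) (tt N2492 F1992) (tt N564 (iv F2166)) (tt N530 F1186) (tt N523 (iv D1316)))
theorem Q1198 : ∀ i, i < 1198 → P i := stepQ 1197 Q1197 (allL N1197 (tt N1362 (iv F863)) (tt N690 F864) (tt N526 (iv D1319)) (tt N2493 (iv F1995)) (tt N688 F865))
theorem Q1199 : ∀ i, i < 1199 → P i := stepQ 1198 Q1198 (allL N1198 (tt N527 (iv D1321)) (tt N1833 (iv F1364)) (tt N2494 D2945) (tt N2495 D2946) (tt N2496 D2947))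
theorem Q1200 : ∀ i, i < 1200 → P i := stepQ 1199 Q1199 (allL N1199 (tt N2497 D2948) (tt N2429 (iv F1934)) (tt N528 F748) (tt N527 (iv D1322)) (tt N2498 D2949))
theorem Q1201 : ∀ i, i < 1201 → P i := stepQ 1200 Q1200 (allL N1200 (tt N2496 (iv F1999)) (tt N862 F1363) (tt N2499 D2950) (tt N2491 F4847) (tt N527 (iv D1323)))
theorem Q1202 : ∀ i, i < 1202 → P i := stepQ 1201 Q1201 (allL N1201 (tt N528 (iv D1324)) (tt N1915 (iv F2213)) (tt N2500 D2953) (tt N2501 D2954) (tt N2502 D2955))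
theorem Q1203 : ∀ i, i < 1203 → P i := stepQ 1202 Q1202 (allL N1202 (tt N2502 (iv F2004)) (tt N530 F749) (tt N2503 D2956) (tt N2492 (iv F1991)) (tt N528 (iv D1325)))
theorem Q1204 : ∀ i, i < 1204 → P i := stepQ 1203 Q1203 (allL N1203 (tt N2504 D2957) (tt N529 (iv D1326)) (tt N2505 D2958) (tt N2506 D2959) (tt N2507 D2960))
theorem Q1205 : ∀ i, i < 1205 → P i := stepQ 1204 Q1204 (allL N1204 (tt N2136 (iv F1635)) (tt N2506 (iv F2005)) (tt N548 F750) (tt N529 (iv D1327)) (tt N2486 (iv F1989)))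
theorem Q1206 : ∀ i, i < 1206 → P i := stepQ 1205 Q1205 (allL N1205 (tt N530 F751) (tt N2507 (iv F2006)) (tt N589 (iv F2170)) (tt N2485 (iv F1987)) (tt N529 (iv D1328)))
theorem Q1207 : ∀ i, i < 1207 → P i := stepQ 1206 Q1206 (allL N1206 (tt N531 (iv D1333)) (tt N2435 (iv F1941)) (tt N2508 D2965) (tt N2444 (iv F1950)) (tt N2509 D2966))
theorem Q1208 : ∀ i, i < 1208 → P i := stepQ 1207 Q1207 (allL N1207 (tt N2510 D2967) (tt N2511 D2968) (tt N531 (iv D1334)) (tt N2458 (iv F1962)) (tt N2512 D2969))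
theorem Q1209 : ∀ i, i < 1209 → P i := stepQ 1208 Q1208 (allL N1208 (tt N2509 (iv F2009)) (tt N533 F752) (tt N2513 D2970) (tt N2464 (iv F1965)) (tt N531 (iv D1335)))
theorem Q1210 : ∀ i, i < 1210 → P i := stepQ 1209 Q1209 (allL N1209 (tt N2514 D2971) (tt N532 (iv D1336)) (tt N2515 D2972) (tt N2474 (iv F1978)) (tt N2516 D2973))
theorem Q1211 : ∀ i, i < 1211 → P i := stepQ 1210 Q1210 (allL N1210 (tt N2043 (iv F1517)) (tt N2516 (iv F2010)) (tt N584 F2172) (tt N2480 (iv F1983)) (tt N532 (iv D1337)))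
theorem Q1212 : ∀ i, i < 1212 → P i := stepQ 1211 Q1211 (allL N1211 (tt N2036 (iv F2180)) (tt N2517 D2974) (tt N533 (iv D1338)) (tt N2473 (iv F2182)) (tt N582 (iv F2183)))
theorem Q1213 : ∀ i, i < 1213 → P i := stepQ 1212 Q1212 (allL N1212 (tt N534 (iv D1342)) (tt N2441 (iv F1943)) (tt N1608 (iv F1074)) (tt N1227 (iv F928)) (tt N2518 D2983))
theorem Q1214 : ∀ i, i < 1214 → P i := stepQ 1213 Q1213 (allL N1213 (tt N2519 D2984) (tt N534 (iv D1343)) (tt N1508 (iv F1226)) (tt N2520 D2985) (tt N2521 D2986))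
theorem Q1215 : ∀ i, i < 1215 → P i := stepQ 1214 Q1214 (allL N1214 (tt N1221 F926) (tt N2520 (iv F2018)) (tt N535 F753) (tt N534 (iv D1344)) (tt N2522 D2987))
theorem Q1216 : ∀ i, i < 1216 → P i := stepQ 1215 Q1215 (allL N1215 (tt N2518 (iv F2014)) (tt N2521 (iv F2019)) (tt N2523 D2988) (tt N2524 D2989) (tt N534 (iv D1345)))
theorem Q1217 : ∀ i, i < 1217 → P i := stepQ 1216 Q1216 (allL N1216 (tt N1216 F925) (tt N773 F754) (tt N2525 D2990) (tt N585 F755) (tt N535 (iv D1347)))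
theorem Q1218 : ∀ i, i < 1218 → P i := stepQ 1217 Q1217 (allL N1217 (tt N2526 D2991) (tt N2527 D2992) (tt N536 (iv D1348)) (tt N2528 D2993) (tt N2529 D2994))
theorem Q1219 : ∀ i, i < 1219 → P i := stepQ 1218 Q1218 (allL N1218 (tt N1218 F922) (tt N775 F756) (tt N2528 (iv F2022)) (tt N536 (iv D1349)) (tt N2530 D2995))
theorem Q1220 : ∀ i, i < 1220 → P i := stepQ 1219 Q1219 (allL N1219 (tt N2273 (iv F1787)) (tt N537 (iv D1350)) (tt N2531 D2996) (tt N2236 (iv F1744)) (tt N2532 D2997))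
theorem Q1221 : ∀ i, i < 1221 → P i := stepQ 1220 Q1220 (allL N1220 (tt N1608 (iv F1073)) (tt N628 F757) (tt N537 (iv D1351)) (tt N2533 D2998) (tt N2534 D2999))
theorem Q1222 : ∀ i, i < 1222 → P i := stepQ 1221 Q1221 (allL N1221 (tt N1214 (iv F926)) (tt N2236 (iv F1743)) (tt N2533 (iv F2029)) (tt N537 (iv D1352)) (tt N2535 D3000))
theorem Q1223 : ∀ i, i < 1223 → P i := stepQ 1222 Q1222 (allL N1222 (tt N540 F758) (tt N2532 (iv F2027)) (tt N2536 D3001) (tt N2537 D3002) (tt N537 (iv D1353)))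
theorem Q1224 : ∀ i, i < 1224 → P i := stepQ 1223 Q1223 (allL N1223 (tt N538 (iv D1354)) (tt N694 F759) (tt N2538 D3003) (tt N897 F760) (tt N2539 D3004))
theorem Q1225 : ∀ i, i < 1225 → P i := stepQ 1224 Q1224 (allL N1224 (tt N1743 (iv F1221)) (tt N545 F761) (tt N538 (iv D1355)) (tt N1495 (iv F993)) (tt N2540 D3005))
theorem Q1226 : ∀ i, i < 1226 → P i := stepQ 1225 Q1225 (allL N1225 (tt N893 F762) (tt N539 F763) (tt N1495 (iv F992)) (tt N538 (iv D1356)) (tt N2541 D3006))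
theorem Q1227 : ∀ i, i < 1227 → P i := stepQ 1226 Q1226 (allL N1226 (tt N2539 (iv F2038)) (tt N540 F764) (tt N2542 D3007) (tt N2543 D3008) (tt N538 (iv D1357)))
theorem Q1228 : ∀ i, i < 1228 → P i := stepQ 1227 Q1227 (allL N1227 (tt N539 (iv D1358)) (tt N2544 D3009) (tt N2545 D3010) (tt N1212 F928) (tt N2546 D3011))
theorem Q1229 : ∀ i, i < 1229 → P i := stepQ 1228 Q1228 (allL N1228 (tt N2546 (iv F2100)) (tt N2541 (iv F2092)) (tt N2547 D3012) (tt N2548 D3013) (tt N539 (iv D1359)))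
theorem Q1230 : ∀ i, i < 1230 → P i := stepQ 1229 Q1229 (allL N1229 (tt N2523 (iv F2020)) (tt N1635 (iv F1103)) (tt N540 (iv D1360)) (tt N2549 D3014) (tt N1632 F1101))
theorem Q1231 : ∀ i, i < 1231 → P i := stepQ 1230 Q1230 (allL N1230 (tt N2550 D3015) (tt N2543 (iv F2094)) (tt N2549 (iv F2102)) (tt N540 (iv D1361)) (tt N2551 D3016))
theorem Q1232 : ∀ i, i < 1232 → P i := stepQ 1231 Q1231 (allL N1231 (tt N2552 D3017) (tt N2553 D3018) (tt N541 (iv D1366)) (tt N586 F766) (tt N2554 D3019))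
theorem Q1233 : ∀ i, i < 1233 → P i := stepQ 1232 Q1232 (allL N1232 (tt N542 (iv D1367)) (tt N2555 D3020) (tt N2534 (iv F2032)) (tt N2556 D3021) (tt N2557 D3022))
theorem Q1234 : ∀ i, i < 1234 → P i := stepQ 1233 Q1233 (allL N1233 (tt N2558 D3023) (tt N542 (iv D1368)) (tt N2559 D3024) (tt N2560 D3025) (tt N2561 D3026))
theorem Q1235 : ∀ i, i < 1235 → P i := stepQ 1234 Q1234 (allL N1234 (tt N2562 D3027) (tt N2560 (iv F2112)) (tt N543 F767) (tt N542 (iv D1369)) (tt N2563 D3028))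
theorem Q1236 : ∀ i, i < 1236 → P i := stepQ 1235 Q1235 (allL N1235 (tt N2557 (iv F2108)) (tt N2561 (iv F2113)) (tt N1632 (iv F1100)) (tt N2554 (iv F2873)) (tt N542 (iv D1370)))
theorem Q1237 : ∀ i, i < 1237 → P i := stepQ 1236 Q1236 (allL N1236 (tt N1236 F923) (tt N555 F768) (tt N2551 (iv F3411)) (tt N587 F769) (tt N543 (iv D1372)))
theorem Q1238 : ∀ i, i < 1238 → P i := stepQ 1237 Q1237 (allL N1237 (tt N1370 (iv F877)) (tt N544 (iv D1373)) (tt N2564 D3031) (tt N2564 F2118) (tt N2565 D3032))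
theorem Q1239 : ∀ i, i < 1239 → P i := stepQ 1238 Q1238 (allL N1238 (tt N2566 D3033) (tt N2567 D3034) (tt N544 (iv D1374)) (tt N2568 D3035) (tt N2569 D3036))
theorem Q1240 : ∀ i, i < 1240 → P i := stepQ 1239 Q1239 (allL N1239 (tt N769 (iv F927)) (tt N2564 (iv F2117)) (tt N2568 (iv F2125)) (tt N544 (iv D1375)) (tt N2570 D3037))
theorem Q1241 : ∀ i, i < 1241 → P i := stepQ 1240 Q1240 (allL N1240 (tt N547 F770) (tt N2565 (iv F2119)) (tt N2571 D3038) (tt N2572 D3039) (tt N544 (iv D1376)))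
theorem Q1242 : ∀ i, i < 1242 → P i := stepQ 1241 Q1241 (allL N1241 (tt N545 (iv D1377)) (tt N1133 (iv F1222)) (tt N2378 (iv F1882)) (tt N1131 F1223) (tt N2573 D3040))
theorem Q1243 : ∀ i, i < 1243 → P i := stepQ 1242 Q1242 (allL N1242 (tt N2574 D3041) (tt N1495 (iv F994)) (tt N546 F771) (tt N545 (iv D1378)) (tt N2575 D3042))
theorem Q1244 : ∀ i, i < 1244 → P i := stepQ 1243 Q1243 (allL N1243 (tt N2573 (iv F2127)) (tt N2540 (iv F2090)) (tt N2576 D3043) (tt N2577 D3044) (tt N545 (iv D1379)))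
theorem Q1245 : ∀ i, i < 1245 → P i := stepQ 1244 Q1244 (allL N1244 (tt N546 (iv D1380)) (tt N2578 D3045) (tt N2579 D3046) (tt N2580 D3047) (tt N2581 D3048))
theorem Q1246 : ∀ i, i < 1246 → P i := stepQ 1245 Q1245 (allL N1245 (tt N2581 (iv F2133)) (tt N548 F772) (tt N2582 D3049) (tt N2044 (iv F1518)) (tt N546 (iv D1381)))
theorem Q1247 : ∀ i, i < 1247 → P i := stepQ 1246 Q1246 (allL N1246 (tt N2583 D3050) (tt N2584 D3051) (tt N547 (iv D1382)) (tt N2585 D3052) (tt N2586 D3053))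
theorem Q1248 : ∀ i, i < 1248 → P i := stepQ 1247 Q1247 (allL N1247 (tt N2587 D3054) (tt N549 F773) (tt N2585 (iv F2134)) (tt N547 (iv D1383)) (tt N2588 D3055))
theorem Q1249 : ∀ i, i < 1249 → P i := stepQ 1248 Q1248 (allL N1248 (tt N2120 (iv F1620)) (tt N2588 (iv F2135)) (tt N555 F2189) (tt N590 F2190) (tt N549 (iv D1384)))
theorem Q1250 : ∀ i, i < 1250 → P i := stepQ 1249 Q1249 (allL N1249 (tt N2589 D3056) (tt N550 (iv D1385)) (tt N2590 D3057) (tt N588 F774) (tt N2591 D3058))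
theorem Q1251 : ∀ i, i < 1251 → P i := stepQ 1250 Q1250 (allL N1250 (tt N2181 (iv F1694)) (tt N2591 (iv F2137)) (tt N2486 (iv F1988)) (tt N554 F1193) (tt N550 (iv D1386)))
theorem Q1252 : ∀ i, i < 1252 → P i := stepQ 1251 Q1251 (allL N1251 (tt N2592 D3059) (tt N551 (iv D1387)) (tt N2593 D3060) (tt N2192 (iv F1701)) (tt N2198 F1711))
theorem Q1253 : ∀ i, i < 1253 → P i := stepQ 1252 Q1252 (allL N1252 (tt N552 (iv D1389)) (tt N2594 D3061) (tt N2595 D3062) (tt N2596 D3063) (tt N2597 D3064))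
theorem Q1254 : ∀ i, i < 1254 → P i := stepQ 1253 Q1253 (allL N1253 (tt N2598 D3065) (tt N2559 (iv F2111)) (tt N552 (iv D1390)) (tt N2599 D3066) (tt N2600 D3067))
theorem Q1255 : ∀ i, i < 1255 → P i := stepQ 1254 Q1254 (allL N1254 (tt N2601 D3068) (tt N553 F776) (tt N2599 (iv F2142)) (tt N552 (iv D1391)) (tt N2602 D3069))
theorem Q1256 : ∀ i, i < 1256 → P i := stepQ 1255 Q1255 (allL N1255 (tt N2597 (iv F2141)) (tt N554 F777) (tt N2603 D3070) (tt N2591 F2138) (tt N552 (iv D1392)))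
theorem Q1257 : ∀ i, i < 1257 → P i := stepQ 1256 Q1256 (allL N1256 (tt N2180 (iv F1692)) (tt N2602 (iv F2143)) (tt N2485 (iv F2171)) (tt N589 F1194) (tt N553 (iv D1393)))
theorem Q1258 : ∀ i, i < 1258 → P i := stepQ 1257 Q1257 (allL N1257 (tt N556 (iv D1396)) (tt N2604 D3074) (tt N2605 D3075) (tt N2606 D3076) (tt N2607 D3077))
theorem Q1259 : ∀ i, i < 1259 → P i := stepQ 1258 Q1258 (allL N1258 (tt N2608 D3078) (tt N2609 D3079) (tt N556 (iv D1397)) (tt N2610 D3080) (tt N2611 D3081))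
theorem Q1260 : ∀ i, i < 1260 → P i := stepQ 1259 Q1259 (allL N1259 (tt N2612 D3082) (tt N557 F779) (tt N2610 (iv F2149)) (tt N556 (iv D1398)) (tt N2613 D3083))
theorem Q1261 : ∀ i, i < 1261 → P i := stepQ 1260 Q1260 (allL N1260 (tt N2607 (iv F2148)) (tt N558 F780) (tt N2614 D3084) (tt N2615 D3085) (tt N556 (iv D1399)))
theorem Q1262 : ∀ i, i < 1262 → P i := stepQ 1261 Q1261 (allL N1261 (tt N2175 (iv F1686)) (tt N2613 (iv F2150)) (tt N2480 (iv F2174)) (tt N584 F1195) (tt N557 (iv D1400)))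
theorem Q1263 : ∀ i, i < 1263 → P i := stepQ 1262 Q1262 (allL N1262 (tt N2169 (iv F1680)) (tt N2615 (iv F2152)) (tt N2475 (iv F1979)) (tt N558 (iv D1401)) (tt N583 F1174))
theorem Q1264 : ∀ i, i < 1264 → P i := stepQ 1263 Q1263 (allL N1263 (tt N2604 (iv F2147)) (tt N559 (iv D1402)) (tt N2616 D3087) (tt N2616 F2157) (tt N2617 D3088))
theorem Q1265 : ∀ i, i < 1265 → P i := stepQ 1264 Q1264 (allL N1264 (tt N2618 D3089) (tt N2619 D3090) (tt N559 (iv D1403)) (tt N2620 D3091) (tt N2621 D3092))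
theorem Q1266 : ∀ i, i < 1266 → P i := stepQ 1265 Q1265 (allL N1265 (tt N790 F781) (tt N2616 (iv F2155)) (tt N2620 (iv F2161)) (tt N559 (iv D1404)) (tt N2622 D3093))
theorem Q1267 : ∀ i, i < 1267 → P i := stepQ 1266 Q1266 (allL N1266 (tt N562 F782) (tt N2617 (iv F2158)) (tt N2623 D3094) (tt N2624 D3095) (tt N559 (iv D1405)))
theorem Q1268 : ∀ i, i < 1268 → P i := stepQ 1267 Q1267 (allL N1267 (tt N560 (iv D1406)) (tt N2625 D3096) (tt N2626 D3097) (tt N2627 D3098) (tt N2628 D3099))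
theorem Q1269 : ∀ i, i < 1269 → P i := stepQ 1268 Q1268 (allL N1268 (tt N2629 D3100) (tt N826 F783) (tt N561 F784) (tt N560 (iv D1407)) (tt N2630 D3101))
theorem Q1270 : ∀ i, i < 1270 → P i := stepQ 1269 Q1269 (allL N1269 (tt N2628 (iv F2218)) (tt N827 F785) (tt N2631 D3102) (tt N577 (iv F4836)) (tt N560 (iv D1408)))
theorem Q1271 : ∀ i, i < 1271 → P i := stepQ 1270 Q1270 (allL N1270 (tt N561 (iv D1409)) (tt N2632 D3104) (tt N2633 D3105) (tt N2634 D3106) (tt N2635 D3107))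
theorem Q1272 : ∀ i, i < 1272 → P i := stepQ 1271 Q1271 (allL N1271 (tt N2635 (iv F2224)) (tt N564 F786) (tt N2636 D3108) (tt N579 F1179) (tt N561 (iv D1410)))
theorem Q1273 : ∀ i, i < 1273 → P i := stepQ 1272 Q1272 (allL N1272 (tt N2637 D3109) (tt N706 F2782) (tt N562 (iv D1411)) (tt N580 F1176) (tt N704 F2783))
theorem Q1274 : ∀ i, i < 1274 → P i := stepQ 1273 Q1273 (allL N1273 (tt N2638 D3111) (tt N563 (iv D1413)) (tt N2639 D3112) (tt N2170 (iv F1682)) (tt N2640 D3113))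
theorem Q1275 : ∀ i, i < 1275 → P i := stepQ 1274 Q1274 (allL N1274 (tt N564 F788) (tt N2640 (iv F2228)) (tt N2315 F2202) (tt N569 F1178) (tt N563 (iv D1414)))
theorem Q1276 : ∀ i, i < 1276 → P i := stepQ 1275 Q1275 (allL N1275 (tt N571 F790) (tt N565 (iv D1422)) (tt N1818 (iv F1286)) (tt N2641 D3114) (tt N2329 (iv F1830)))
theorem Q1277 : ∀ i, i < 1277 → P i := stepQ 1276 Q1276 (allL N1276 (tt N924 F791) (tt N1815 (iv F1277)) (tt N565 (iv D1423)) (tt N2642 D3115) (tt N2643 D3116))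
theorem Q1278 : ∀ i, i < 1278 → P i := stepQ 1277 Q1277 (allL N1277 (tt N2644 D3117) (tt N2641 (iv F2230)) (tt N2642 (iv F2231)) (tt N565 (iv D1424)) (tt N2645 D3118))
theorem Q1279 : ∀ i, i < 1279 → P i := stepQ 1278 Q1278 (allL N1278 (tt N568 F792) (tt N2329 (iv F1828)) (tt N2646 D3119) (tt N2647 D3120) (tt N565 (iv D1425)))
theorem Q1280 : ∀ i, i < 1280 → P i := stepQ 1279 Q1279 (allL N1279 (tt N566 (iv D1426)) (tt N1279 F793) (tt N1825 (iv F1289)) (tt N2648 D3121) (tt N2649 D3122))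
theorem Q1281 : ∀ i, i < 1281 → P i := stepQ 1280 Q1280 (allL N1280 (tt N1871 (iv F1337)) (tt N566 (iv D1427)) (tt N2305 (iv F1807)) (tt N2650 D3123) (tt N2651 D3124))
theorem Q1282 : ∀ i, i < 1282 → P i := stepQ 1281 Q1281 (allL N1281 (tt N2652 D3125) (tt N2650 (iv F2238)) (tt N567 F794) (tt N566 (iv D1428)) (tt N2653 D3126))
theorem Q1283 : ∀ i, i < 1283 → P i := stepQ 1282 Q1282 (allL N1282 (tt N2649 (iv F2235)) (tt N2651 (iv F2240)) (tt N1651 (iv F1118)) (tt N2654 D3127) (tt N566 (iv D1429)))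
theorem Q1284 : ∀ i, i < 1284 → P i := stepQ 1283 Q1283 (allL N1283 (tt N567 (iv D1430)) (tt N2655 D3128) (tt N2656 D3129) (tt N2657 D3130) (tt N2658 D3131))
theorem Q1285 : ∀ i, i < 1285 → P i := stepQ 1284 Q1284 (allL N1284 (tt N2658 (iv F2242)) (tt N569 F795) (tt N2659 D3132) (tt N2640 (iv F2229)) (tt N567 (iv D1431)))
theorem Q1286 : ∀ i, i < 1286 → P i := stepQ 1285 Q1285 (allL N1285 (tt N2283 F1831) (tt N2660 D3133) (tt N568 (iv D1432)) (tt N2661 D3134) (tt N2662 D3135))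
theorem Q1287 : ∀ i, i < 1287 → P i := stepQ 1286 Q1286 (allL N1286 (tt N2663 D3136) (tt N570 F796) (tt N2661 (iv F2243)) (tt N568 (iv D1433)) (tt N2170 (iv F1683)))
theorem Q1288 : ∀ i, i < 1288 → P i := stepQ 1287 Q1287 (allL N1287 (tt N2664 D3137) (tt N573 F798) (tt N1287 F799) (tt N571 (iv D1438)) (tt N2327 (iv F1825)))
theorem Q1289 : ∀ i, i < 1289 → P i := stepQ 1288 Q1288 (allL N1288 (tt N572 (iv D1439)) (tt N630 F800) (tt N838 (iv F801)) (tt N2665 D3138) (tt N2666 D3139))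
theorem Q1290 : ∀ i, i < 1290 → P i := stepQ 1289 Q1289 (allL N1289 (tt N1854 (iv F1319)) (tt N572 (iv D1440)) (tt N1289 F802) (tt N2667 D3140) (tt N2338 (iv F1842)))
theorem Q1291 : ∀ i, i < 1291 → P i := stepQ 1290 Q1290 (allL N1290 (tt N2668 D3141) (tt N2667 (iv F2250)) (tt N573 F803) (tt N572 (iv D1441)) (tt N2669 D3142))
theorem Q1292 : ∀ i, i < 1292 → P i := stepQ 1291 Q1291 (allL N1291 (tt N2666 (iv F2247)) (tt N2338 F1844) (tt N2670 D3143) (tt N2671 D3144) (tt N572 (iv D1442)))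
theorem Q1293 : ∀ i, i < 1293 → P i := stepQ 1292 Q1292 (allL N1292 (tt N573 (iv D1443)) (tt N788 F805) (tt N2672 D3145) (tt N877 F804) (tt N2673 D3146))
theorem Q1294 : ∀ i, i < 1294 → P i := stepQ 1293 Q1293 (allL N1293 (tt N2673 (iv F2257)) (tt N2327 F1826) (tt N2674 D3147) (tt N2635 (iv F2225)) (tt N573 (iv D1444)))
theorem Q1295 : ∀ i, i < 1295 → P i := stepQ 1294 Q1294 (allL N1294 (tt N2675 D3148) (tt N2360 (iv F1864)) (tt N574 (iv D1445)) (tt N2676 D3149) (tt N2677 D3150))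
theorem Q1296 : ∀ i, i < 1296 → P i := stepQ 1295 Q1295 (allL N1295 (tt N2678 D3151) (tt N2330 (iv F1832)) (tt N2676 (iv F2269)) (tt N574 (iv D1446)) (tt N2634 (iv F2223)))
theorem Q1297 : ∀ i, i < 1297 → P i := stepQ 1296 Q1296 (allL N1296 (tt N838 F806) (tt N2207 (iv F1718)) (tt N575 (iv D1448)) (tt N2679 D3152) (tt N2680 D3153))
theorem Q1298 : ∀ i, i < 1298 → P i := stepQ 1297 Q1297 (allL N1297 (tt N2672 (iv F2256)) (tt N2208 (iv F1719)) (tt N2679 (iv F2275)) (tt N575 (iv D1449)) (tt N2681 D3154))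
theorem Q1299 : ∀ i, i < 1299 → P i := stepQ 1298 Q1298 (allL N1298 (tt N577 F807) (tt N2209 (iv F1721)) (tt N2682 D3155) (tt N2683 D3156) (tt N575 (iv D1450)))
theorem Q1300 : ∀ i, i < 1300 → P i := stepQ 1299 Q1299 (allL N1299 (tt N576 (iv D1451)) (tt N2684 D3157) (tt N2685 D3158) (tt N2686 D3159) (tt N2687 D3160))
theorem Q1301 : ∀ i, i < 1301 → P i := stepQ 1300 Q1300 (allL N1300 (tt N2687 (iv F2284)) (tt N861 F808) (tt N2688 D3161) (tt N2630 (iv F4840)) (tt N576 (iv D1452)))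
theorem Q1302 : ∀ i, i < 1302 → P i := stepQ 1301 Q1301 (allL N1301 (tt N2670 (iv F2252)) (tt N755 (iv F870)) (tt N577 (iv D1453)) (tt N2631 (iv F4835)) (tt N712 F869))
theorem Q1303 : ∀ i, i < 1303 → P i := stepQ 1302 Q1302 (allL N1302 (tt N2689 D3166) (tt N578 (iv D1455)) (tt N2690 D3167) (tt N2690 F2292) (tt N2691 D3168))
theorem Q1304 : ∀ i, i < 1304 → P i := stepQ 1303 Q1303 (allL N1303 (tt N2665 (iv F2246)) (tt N2692 D3169) (tt N578 (iv D1456)) (tt N2693 D3170) (tt N2694 D3171))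
theorem Q1305 : ∀ i, i < 1305 → P i := stepQ 1304 Q1304 (allL N1304 (tt N877 F810) (tt N2690 (iv F2290)) (tt N2693 (iv F2296)) (tt N578 (iv D1457)) (tt N2624 (iv F2215)))
theorem Q1306 : ∀ i, i < 1306 → P i := stepQ 1305 Q1305 (allL N1305 (tt N579 F811) (tt N2691 (iv F2293)) (tt N2695 D3172) (tt N2622 (iv F2164)) (tt N578 (iv D1458)))
theorem Q1307 : ∀ i, i < 1307 → P i := stepQ 1306 Q1306 (allL N1306 (tt N2696 D3173) (tt N715 (iv F4729)) (tt N579 (iv D1459)) (tt N2636 (iv F2226)) (tt N713 (iv F4732)))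
theorem Q1308 : ∀ i, i < 1308 → P i := stepQ 1307 Q1307 (allL N1307 (tt N580 (iv D1461)) (tt N974 F1043) (tt N2680 (iv F2278)) (tt N2697 D3176) (tt N711 F868))
theorem Q1309 : ∀ i, i < 1309 → P i := stepQ 1308 Q1308 (allL N1308 (tt N581 (iv D1467)) (tt N2689 (iv F2289)) (tt N2698 D3177) (tt N2699 D3178) (tt N2700 D3179))
theorem Q1310 : ∀ i, i < 1310 → P i := stepQ 1309 Q1309 (allL N1309 (tt N2701 D3180) (tt N2702 D3181) (tt N581 (iv D1468)) (tt N2703 D3182) (tt N2704 D3183))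
theorem Q1311 : ∀ i, i < 1311 → P i := stepQ 1310 Q1310 (allL N1310 (tt N2705 D3184) (tt N583 F815) (tt N2703 (iv F2299)) (tt N581 (iv D1469)) (tt N2615 (iv F2153)))
theorem Q1312 : ∀ i, i < 1312 → P i := stepQ 1311 Q1311 (allL N1311 (tt N2700 (iv F2298)) (tt N584 F816) (tt N2706 D3185) (tt N2613 F2151) (tt N581 (iv D1470)))
theorem Q1313 : ∀ i, i < 1313 → P i := stepQ 1312 Q1312 (allL N1312 (tt N2707 D3186) (tt N582 (iv D1471)) (tt N2708 D3187) (tt N2470 F1973) (tt N2517 (iv F2205)))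
theorem Q1314 : ∀ i, i < 1314 → P i := stepQ 1313 Q1313 (allL N1313 (tt N2709 D3188) (tt N2710 D3189) (tt N585 (iv D1485)) (tt N2525 (iv F2021)) (tt N2711 D3190))
theorem Q1315 : ∀ i, i < 1315 → P i := stepQ 1314 Q1314 (allL N1314 (tt N587 F824) (tt N875 F825) (tt N2712 D3191) (tt N2530 (iv F2025)) (tt N585 (iv D1486)))
theorem Q1316 : ∀ i, i < 1316 → P i := stepQ 1315 Q1315 (allL N1315 (tt N586 (iv D1487)) (tt N2713 D3192) (tt N2714 D3193) (tt N2715 D3194) (tt N2716 D3195))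
theorem Q1317 : ∀ i, i < 1317 → P i := stepQ 1316 Q1316 (allL N1316 (tt N2717 D3196) (tt N586 (iv D1488)) (tt N2718 D3197) (tt N2553 (iv F2105)) (tt N2719 D3198))
theorem Q1318 : ∀ i, i < 1318 → P i := stepQ 1317 Q1317 (allL N1317 (tt N2716 (iv F2303)) (tt N2719 (iv F2307)) (tt N1658 (iv F3396)) (tt N2563 (iv F2874)) (tt N586 (iv D1489)))
theorem Q1319 : ∀ i, i < 1319 → P i := stepQ 1318 Q1318 (allL N1318 (tt N2720 D3201) (tt N2721 D3202) (tt N587 (iv D1490)) (tt N2551 (iv F3412)) (tt N2548 (iv F3398)))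
theorem Q1320 : ∀ i, i < 1320 → P i := stepQ 1319 Q1319 (allL N1319 (tt N588 (iv D1491)) (tt N2722 D3204) (tt N2723 D3205) (tt N2724 D3206) (tt N2725 D3207))
theorem Q1321 : ∀ i, i < 1321 → P i := stepQ 1320 Q1320 (allL N1320 (tt N2726 D3208) (tt N2718 (iv F2306)) (tt N588 (iv D1492)) (tt N2590 (iv F2136)) (tt N2727 D3209))
theorem Q1322 : ∀ i, i < 1322 → P i := stepQ 1321 Q1321 (allL N1321 (tt N2725 (iv F2309)) (tt N589 F826) (tt N2728 D3210) (tt N2602 (iv F2144)) (tt N588 (iv D1493)))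
theorem Q1323 : ∀ i, i < 1323 → P i := stepQ 1322 Q1322 (allL N1322 (tt N2729 D3211) (tt N590 (iv D1496)) (tt N2730 D3212) (tt N2588 (iv F2196)) (tt N2044 F2199))
theorem Q1324 : ∀ i, i < 1324 → P i := stepQ 1323 Q1323 (allL N1323 (tt N2731 D3213) (tt N1059 F830) (tt N592 F831) (tt N591 (iv D1505)) (tt N2732 D3214))
theorem Q1325 : ∀ i, i < 1325 → P i := stepQ 1324 Q1324 (allL N1324 (tt N645 F832) (tt N1060 F833) (tt N1817 (iv F1284)) (tt N2733 D3215) (tt N591 (iv D1506)))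
theorem Q1326 : ∀ i, i < 1326 → P i := stepQ 1325 Q1325 (allL N1325 (tt N592 (iv D1507)) (tt N1752 (iv F1569)) (tt N2731 (iv F2310)) (tt N1750 F1568) (tt N2734 D3216))
theorem Q1327 : ∀ i, i < 1327 → P i := stepQ 1326 Q1326 (allL N1326 (tt N2734 (iv F2313)) (tt N598 F834) (tt N2735 D3217) (tt N2736 D3218) (tt N592 (iv D1508)))
theorem Q1328 : ∀ i, i < 1328 → P i := stepQ 1327 Q1327 (allL N1327 (tt N648 F835) (tt N2643 (iv F2233)) (tt N593 (iv D1509)) (tt N2737 D3219) (tt N1815 (iv F1276)))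
theorem Q1329 : ∀ i, i < 1329 → P i := stepQ 1328 Q1328 (allL N1328 (tt N2738 D3220) (tt N600 F836) (tt N2737 (iv F2316)) (tt N593 (iv D1510)) (tt N2739 D3221))
theorem Q1330 : ∀ i, i < 1330 → P i := stepQ 1329 Q1329 (allL N1329 (tt N2740 D3222) (tt N595 F837) (tt N1057 F838) (tt N594 (iv D1511)) (tt N2741 D3223))
theorem Q1331 : ∀ i, i < 1331 → P i := stepQ 1330 Q1330 (allL N1330 (tt N953 F839) (tt N596 F840) (tt N2329 (iv F1829)) (tt N2742 D3224) (tt N594 (iv D1512)))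
theorem Q1332 : ∀ i, i < 1332 → P i := stepQ 1331 Q1331 (allL N1331 (tt N595 (iv D1513)) (tt N1684 (iv F1651)) (tt N2743 D3225) (tt N2744 D3226) (tt N2745 D3227))
theorem Q1333 : ∀ i, i < 1333 → P i := stepQ 1332 Q1332 (allL N1332 (tt N2745 (iv F2326)) (tt N2741 (iv F2321)) (tt N2746 D3228) (tt N2747 D3229) (tt N595 (iv D1514)))
theorem Q1334 : ∀ i, i < 1334 → P i := stepQ 1333 Q1333 (allL N1333 (tt N609 F841) (tt N2748 D3230) (tt N596 (iv D1515)) (tt N2749 D3231) (tt N2750 D3232))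
theorem Q1335 : ∀ i, i < 1335 → P i := stepQ 1334 Q1334 (allL N1334 (tt N2751 D3233) (tt N2742 (iv F2322)) (tt N2749 (iv F2328)) (tt N596 (iv D1516)) (tt N2752 D3234))
theorem Q1336 : ∀ i, i < 1336 → P i := stepQ 1335 Q1335 (allL N1335 (tt N2145 (iv F1649)) (tt N597 (iv D1517)) (tt N2753 D3235) (tt N1006 F1648) (tt N2754 D3236))
theorem Q1337 : ∀ i, i < 1337 → P i := stepQ 1336 Q1336 (allL N1336 (tt N603 F842) (tt N2755 D3237) (tt N597 (iv D1518)) (tt N2756 D3238) (tt N2757 D3239))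
theorem Q1338 : ∀ i, i < 1338 → P i := stepQ 1337 Q1337 (allL N1337 (tt N613 F843) (tt N1006 (iv F1647)) (tt N2756 (iv F2335)) (tt N597 (iv D1519)) (tt N2758 D3240))
theorem Q1339 : ∀ i, i < 1339 → P i := stepQ 1338 Q1338 (allL N1338 (tt N598 F844) (tt N2754 (iv F2333)) (tt N2759 D3241) (tt N2760 D3242) (tt N597 (iv D1520)))
theorem Q1340 : ∀ i, i < 1340 → P i := stepQ 1339 Q1339 (allL N1339 (tt N2761 D3243) (tt N2762 D3244) (tt N598 (iv D1521)) (tt N2763 D3245) (tt N2764 D3246))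
theorem Q1341 : ∀ i, i < 1341 → P i := stepQ 1340 Q1340 (allL N1340 (tt N616 F845) (tt N2736 (iv F2314)) (tt N2763 (iv F2341)) (tt N598 (iv D1522)) (tt N2765 D3247))
theorem Q1342 : ∀ i, i < 1342 → P i := stepQ 1341 Q1341 (allL N1341 (tt N599 (iv D1523)) (tt N1643 (iv F1112)) (tt N937 F846) (tt N2766 D3248) (tt N2767 D3249))
theorem Q1343 : ∀ i, i < 1343 → P i := stepQ 1342 Q1342 (allL N1342 (tt N2768 D3250) (tt N599 (iv D1524)) (tt N2769 D3251) (tt N2770 D3252) (tt N2771 D3253))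
theorem Q1344 : ∀ i, i < 1344 → P i := stepQ 1343 Q1343 (allL N1343 (tt N2772 D3254) (tt N2770 (iv F2349)) (tt N600 F847) (tt N599 (iv D1525)) (tt N2773 D3255))
theorem Q1345 : ∀ i, i < 1345 → P i := stepQ 1344 Q1344 (allL N1344 (tt N2767 (iv F2346)) (tt N2771 (iv F2350)) (tt N2750 (iv F2330)) (tt N2764 (iv F5149)) (tt N599 (iv D1526)))
theorem Q1346 : ∀ i, i < 1346 → P i := stepQ 1345 Q1345 (allL N1345 (tt N600 (iv D1527)) (tt N2774 D3257) (tt N2775 D3258) (tt N2758 (iv F2339)) (tt N2776 D3259))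
theorem Q1347 : ∀ i, i < 1347 → P i := stepQ 1346 Q1346 (allL N1346 (tt N2776 (iv F2353)) (tt N2739 (iv F2317)) (tt N2752 (iv F5153)) (tt N2765 (iv F2343)) (tt N600 (iv D1528)))
theorem Q1348 : ∀ i, i < 1348 → P i := stepQ 1347 Q1347 (allL N1347 (tt N2777 D3261) (tt N603 F848) (tt N1065 F849) (tt N601 (iv D1529)) (tt N2778 D3262))
theorem Q1349 : ∀ i, i < 1349 → P i := stepQ 1348 Q1348 (allL N1348 (tt N1929 (iv F1416)) (tt N604 F850) (tt N1080 F851) (tt N2779 D3263) (tt N601 (iv D1530)))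
theorem Q1350 : ∀ i, i < 1350 → P i := stepQ 1349 Q1349 (allL N1349 (tt N2743 (iv F2323)) (tt N1349 F852) (tt N603 F853) (tt N602 (iv D1531)) (tt N2780 D3264))
theorem Q1351 : ∀ i, i < 1351 → P i := stepQ 1350 Q1350 (allL N1350 (tt N937 F854) (tt N1350 F855) (tt N617 F856) (tt N2781 D3265) (tt N602 (iv D1532)))
theorem Q1352 : ∀ i, i < 1352 → P i := stepQ 1351 Q1351 (allL N1351 (tt N2757 (iv F2336)) (tt N2778 (iv F2356)) (tt N2782 D3266) (tt N2783 D3267) (tt N603 (iv D1533)))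
theorem Q1353 : ∀ i, i < 1353 → P i := stepQ 1352 Q1352 (allL N1352 (tt N939 F857) (tt N2784 D3268) (tt N604 (iv D1534)) (tt N2785 D3269) (tt N2786 D3270))
theorem Q1354 : ∀ i, i < 1354 → P i := stepQ 1353 Q1353 (allL N1353 (tt N2787 D3271) (tt N2779 (iv F2357)) (tt N2785 (iv F2365)) (tt N604 (iv D1535)) (tt N2788 D3272))
theorem Q1355 : ∀ i, i < 1355 → P i := stepQ 1354 Q1354 (allL N1354 (tt N2379 (iv F1884)) (tt N608 F858) (tt N2407 (iv F1913)) (tt N2789 D3273) (tt N605 (iv D1536)))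
theorem Q1356 : ∀ i, i < 1356 → P i := stepQ 1355 Q1355 (allL N1355 (tt N2432 (iv F1937)) (tt N610 F859) (tt N2357 (iv F1858)) (tt N606 (iv D1537)) (tt N2790 D3274))
theorem Q1357 : ∀ i, i < 1357 → P i := stepQ 1356 Q1356 (allL N1356 (tt N2791 D3275) (tt N607 (iv D1538)) (tt N1170 F860) (tt N2792 D3276) (tt N2793 D3277))
theorem Q1358 : ∀ i, i < 1358 → P i := stepQ 1357 Q1357 (allL N1357 (tt N936 F861) (tt N1588 (iv F1057)) (tt N607 (iv D1539)) (tt N2794 D3278) (tt N2795 D3279))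
theorem Q1359 : ∀ i, i < 1359 → P i := stepQ 1358 Q1358 (allL N1358 (tt N2756 (iv F2334)) (tt N2792 (iv F2371)) (tt N2794 (iv F2376)) (tt N607 (iv D1540)) (tt N2796 D3280))
theorem Q1360 : ∀ i, i < 1360 → P i := stepQ 1359 Q1359 (allL N1359 (tt N608 F862) (tt N2793 (iv F2374)) (tt N2797 D3281) (tt N2798 D3282) (tt N607 (iv D1541)))
theorem Q1361 : ∀ i, i < 1361 → P i := stepQ 1360 Q1360 (allL N1360 (tt N2799 D3283) (tt N2800 D3284) (tt N608 (iv D1542)) (tt N2801 D3285) (tt N2802 D3286))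
theorem Q1362 : ∀ i, i < 1362 → P i := stepQ 1361 Q1361 (allL N1361 (tt N2783 (iv F2362)) (tt N2789 (iv F2368)) (tt N2801 (iv F2386)) (tt N608 (iv D1543)) (tt N2803 D3287))
theorem Q1363 : ∀ i, i < 1363 → P i := stepQ 1362 Q1362 (allL N1362 (tt N1197 F863) (tt N609 (iv D1544)) (tt N2804 D3288) (tt N2805 D3289) (tt N1523 (iv F1013)))
theorem Q1364 : ∀ i, i < 1364 → P i := stepQ 1363 Q1363 (allL N1363 (tt N2806 D3290) (tt N2805 (iv F2391)) (tt N610 F872) (tt N609 (iv D1545)) (tt N2807 D3291))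
theorem Q1365 : ∀ i, i < 1365 → P i := stepQ 1364 Q1364 (allL N1364 (tt N2750 (iv F2329)) (tt N1523 (iv F1014)) (tt N620 F873) (tt N2802 (iv F3085)) (tt N609 (iv D1546)))
theorem Q1366 : ∀ i, i < 1366 → P i := stepQ 1365 Q1365 (allL N1365 (tt N610 (iv D1547)) (tt N2808 D3293) (tt N2809 D3294) (tt N2796 (iv F2382)) (tt N2810 D3295))
theorem Q1367 : ∀ i, i < 1367 → P i := stepQ 1366 Q1366 (allL N1366 (tt N2810 (iv F2397)) (tt N2790 (iv F2369)) (tt N622 (iv F3420)) (tt N2803 (iv F2388)) (tt N610 (iv D1548)))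
theorem Q1368 : ∀ i, i < 1368 → P i := stepQ 1367 Q1367 (allL N1367 (tt N694 F874) (tt N2273 (iv F1788)) (tt N611 (iv D1549)) (tt N2272 F1786) (tt N2811 D3297))
theorem Q1369 : ∀ i, i < 1369 → P i := stepQ 1368 Q1368 (allL N1368 (tt N695 F1646) (tt N613 F875) (tt N2272 (iv F1785)) (tt N611 (iv D1550)) (tt N2812 D3298))
theorem Q1370 : ∀ i, i < 1370 → P i := stepQ 1369 Q1369 (allL N1369 (tt N1734 (iv F1217)) (tt N614 F876) (tt N2813 D3299) (tt N2814 D3300) (tt N611 (iv D1551)))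
theorem Q1371 : ∀ i, i < 1371 → P i := stepQ 1370 Q1370 (allL N1370 (tt N1237 F877) (tt N612 (iv D1552)) (tt N2270 (iv F1782)) (tt N2269 (iv F1780)) (tt N2815 D3301))
theorem Q1372 : ∀ i, i < 1372 → P i := stepQ 1371 Q1371 (allL N1371 (tt N2744 (iv F2324)) (tt N2269 F1779) (tt N613 F878) (tt N612 (iv D1553)) (tt N2816 D3302))
theorem Q1373 : ∀ i, i < 1373 → P i := stepQ 1372 Q1372 (allL N1372 (tt N938 F879) (tt N2815 (iv F2406)) (tt N2799 (iv F2384)) (tt N2817 D3303) (tt N612 (iv D1554)))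
theorem Q1374 : ∀ i, i < 1374 → P i := stepQ 1373 Q1373 (allL N1373 (tt N2758 (iv F2337)) (tt N2812 (iv F2400)) (tt N2818 D3304) (tt N621 F880) (tt N613 (iv D1555)))
theorem Q1375 : ∀ i, i < 1375 → P i := stepQ 1374 Q1374 (allL N1374 (tt N2819 D3305) (tt N2820 D3306) (tt N614 (iv D1556)) (tt N2821 D3307) (tt N2822 D3308))
theorem Q1376 : ∀ i, i < 1376 → P i := stepQ 1375 Q1375 (allL N1375 (tt N2760 (iv F2340)) (tt N2814 (iv F2403)) (tt N2821 (iv F2410)) (tt N614 (iv D1557)) (tt N2823 D3309))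
theorem Q1377 : ∀ i, i < 1377 → P i := stepQ 1376 Q1376 (allL N1376 (tt N615 (iv D1558)) (tt N2824 D3310) (tt N2795 (iv F2381)) (tt N2825 D3311) (tt N2826 D3312))
theorem Q1378 : ∀ i, i < 1378 → P i := stepQ 1377 Q1377 (allL N1377 (tt N2827 D3313) (tt N615 (iv D1559)) (tt N2828 D3314) (tt N2829 D3315) (tt N2830 D3316))
theorem Q1379 : ∀ i, i < 1379 → P i := stepQ 1378 Q1378 (allL N1378 (tt N2831 D3317) (tt N2829 (iv F2414)) (tt N616 F881) (tt N615 (iv D1560)) (tt N2832 D3318))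
theorem Q1380 : ∀ i, i < 1380 → P i := stepQ 1379 Q1379 (allL N1379 (tt N2826 (iv F2412)) (tt N2830 (iv F2415)) (tt N2802 (iv F2387)) (tt N620 (iv F3086)) (tt N615 (iv D1561)))
theorem Q1381 : ∀ i, i < 1381 → P i := stepQ 1380 Q1380 (allL N1380 (tt N2765 (iv F2342)) (tt N637 F882) (tt N2803 (iv F3421)) (tt N622 F883) (tt N616 (iv D1562)))
theorem Q1382 : ∀ i, i < 1382 → P i := stepQ 1381 Q1381 (allL N1381 (tt N2833 D3321) (tt N617 (iv D1563)) (tt N2649 (iv F2237)) (tt N2834 D3322) (tt N2835 D3323))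
theorem Q1383 : ∀ i, i < 1383 → P i := stepQ 1382 Q1382 (allL N1382 (tt N2775 (iv F2352)) (tt N2834 (iv F2418)) (tt N2781 (iv F2361)) (tt N617 (iv D1564)) (tt N2836 D3324))
theorem Q1384 : ∀ i, i < 1384 → P i := stepQ 1383 Q1383 (allL N1383 (tt N620 F884) (tt N2835 (iv F2419)) (tt N2786 (iv F2367)) (tt N2837 D3325) (tt N617 (iv D1565)))
theorem Q1385 : ∀ i, i < 1385 → P i := stepQ 1384 Q1384 (allL N1384 (tt N618 (iv D1566)) (tt N2838 D3326) (tt N711 F947) (tt N2839 D3327) (tt N2682 (iv F2281)))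
theorem Q1386 : ∀ i, i < 1386 → P i := stepQ 1385 Q1385 (allL N1385 (tt N2677 (iv F2270)) (tt N639 F885) (tt N618 (iv D1567)) (tt N2840 D3328) (tt N2675 (iv F2264)))
theorem Q1387 : ∀ i, i < 1387 → P i := stepQ 1386 Q1386 (allL N1386 (tt N2841 D3329) (tt N619 F886) (tt N2840 (iv F2424)) (tt N618 (iv D1568)) (tt N2842 D3330))
theorem Q1388 : ∀ i, i < 1388 → P i := stepQ 1387 Q1387 (allL N1387 (tt N2682 (iv F2279)) (tt N620 F887) (tt N2666 (iv F2249)) (tt N2830 (iv F3083)) (tt N618 (iv D1569)))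
theorem Q1389 : ∀ i, i < 1389 → P i := stepQ 1388 Q1388 (allL N1388 (tt N619 (iv D1570)) (tt N2843 D3332) (tt N2844 D3333) (tt N2845 D3334) (tt N2846 D3335))
theorem Q1390 : ∀ i, i < 1390 → P i := stepQ 1389 Q1389 (allL N1389 (tt N2846 (iv F2429)) (tt N2842 (iv F2426)) (tt N2807 (iv F3422)) (tt N2832 (iv F3089)) (tt N619 (iv D1571)))
theorem Q1391 : ∀ i, i < 1391 → P i := stepQ 1390 Q1390 (allL N1390 (tt N2847 D3340) (tt N621 (iv D1573)) (tt N2848 D3341) (tt N2812 F2401) (tt N2849 D3342))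
theorem Q1392 : ∀ i, i < 1392 → P i := stepQ 1391 Q1391 (allL N1391 (tt N2766 (iv F2345)) (tt N2850 D3343) (tt N621 (iv D1574)) (tt N2818 (iv F2408)) (tt N2851 D3344))
theorem Q1393 : ∀ i, i < 1393 → P i := stepQ 1392 Q1392 (allL N1392 (tt N622 F888) (tt N2849 (iv F2432)) (tt N2852 D3345) (tt N2823 (iv F2411)) (tt N621 (iv D1575)))
theorem Q1394 : ∀ i, i < 1394 → P i := stepQ 1393 Q1393 (allL N1393 (tt N2300 (iv F1803)) (tt N2049 (iv F1550)) (tt N624 F889) (tt N623 (iv D1577)) (tt N2853 D3349))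
theorem Q1395 : ∀ i, i < 1395 → P i := stepQ 1394 Q1394 (allL N1394 (tt N1443 (iv F939)) (tt N2050 (iv F1553)) (tt N2854 D3350) (tt N2855 D3351) (tt N623 (iv D1578)))
theorem Q1396 : ∀ i, i < 1396 → P i := stepQ 1395 Q1395 (allL N1395 (tt N624 (iv D1579)) (tt N2150 (iv F1657)) (tt N2295 (iv F1801)) (tt N2856 D3352) (tt N2857 D3353))
theorem Q1397 : ∀ i, i < 1397 → P i := stepQ 1396 Q1396 (allL N1396 (tt N2857 (iv F2436)) (tt N1933 (iv F1419)) (tt N2858 D3354) (tt N2859 D3355) (tt N624 (iv D1580)))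
theorem Q1398 : ∀ i, i < 1398 → P i := stepQ 1397 Q1397 (allL N1397 (tt N1849 (iv F1310)) (tt N2200 (iv F1715)) (tt N625 (iv D1581)) (tt N2860 D3356) (tt N2861 D3357))
theorem Q1399 : ∀ i, i < 1399 → P i := stepQ 1398 Q1398 (allL N1398 (tt N2862 D3358) (tt N1934 (iv F1420)) (tt N2860 (iv F2438)) (tt N625 (iv D1582)) (tt N2863 D3359))
theorem Q1400 : ∀ i, i < 1400 → P i := stepQ 1399 Q1399 (allL N1399 (tt N626 (iv D1583)) (tt N2864 D3360) (tt N1699 F1167) (tt N2865 D3361) (tt N2866 D3362))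
theorem Q1401 : ∀ i, i < 1401 → P i := stepQ 1400 Q1400 (allL N1400 (tt N2866 (iv F2439)) (tt N2333 (iv F1836)) (tt N2867 D3363) (tt N2868 D3364) (tt N626 (iv D1584)))
theorem Q1402 : ∀ i, i < 1402 → P i := stepQ 1401 Q1401 (allL N1401 (tt N2854 (iv F2433)) (tt N2869 D3365) (tt N627 (iv D1585)) (tt N2870 D3366) (tt N2871 D3367))
theorem Q1403 : ∀ i, i < 1403 → P i := stepQ 1402 Q1402 (allL N1402 (tt N2872 D3368) (tt N2335 (iv F1840)) (tt N2870 (iv F2440)) (tt N627 (iv D1586)) (tt N2873 D3369))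
theorem Q1404 : ∀ i, i < 1404 → P i := stepQ 1403 Q1403 (allL N1403 (tt N1442 (iv F937)) (tt N2874 D3370) (tt N628 (iv D1587)) (tt N2875 D3371) (tt N2876 D3372))
theorem Q1405 : ∀ i, i < 1405 → P i := stepQ 1404 Q1404 (allL N1404 (tt N2856 (iv F2434)) (tt N2533 (iv F2028)) (tt N2875 (iv F2443)) (tt N628 (iv D1588)) (tt N2877 D3373))
theorem Q1406 : ∀ i, i < 1406 → P i := stepQ 1405 Q1405 (allL N1405 (tt N629 F890) (tt N2534 (iv F2031)) (tt N2878 D3374) (tt N2879 D3375) (tt N628 (iv D1589)))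
theorem Q1407 : ∀ i, i < 1407 → P i := stepQ 1406 Q1406 (allL N1406 (tt N2880 D3376) (tt N2618 (iv F2971)) (tt N629 (iv D1590)) (tt N2881 D3378) (tt N2882 D3379))
theorem Q1408 : ∀ i, i < 1408 → P i := stepQ 1407 Q1407 (allL N1407 (tt N2859 (iv F2437)) (tt N632 F891) (tt N2881 (iv F2445)) (tt N629 (iv D1591)) (tt N2883 D3380))
theorem Q1409 : ∀ i, i < 1409 → P i := stepQ 1408 Q1408 (allL N1408 (tt N2884 D3381) (tt N2665 (iv F2244)) (tt N631 F892) (tt N630 (iv D1592)) (tt N2885 D3382))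
theorem Q1410 : ∀ i, i < 1410 → P i := stepQ 1409 Q1409 (allL N1409 (tt N2307 (iv F1809)) (tt N2666 (iv F2248)) (tt N2871 (iv F2441)) (tt N2882 (iv F4823)) (tt N630 (iv D1593)))
theorem Q1411 : ∀ i, i < 1411 → P i := stepQ 1410 Q1410 (allL N1410 (tt N631 (iv D1594)) (tt N2714 (iv F2301)) (tt N2886 D3384) (tt N2877 (iv F2444)) (tt N2887 D3385))
theorem Q1412 : ∀ i, i < 1412 → P i := stepQ 1411 Q1411 (allL N1411 (tt N2887 (iv F2448)) (tt N633 F893) (tt N2873 (iv F5309)) (tt N2883 (iv F2447)) (tt N631 (iv D1595)))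
theorem Q1413 : ∀ i, i < 1413 → P i := stepQ 1412 Q1412 (allL N1412 (tt N1412 F894) (tt N2883 (iv F2446)) (tt N637 F3367) (tt N633 F895) (tt N632 (iv D1596)))
theorem Q1414 : ∀ i, i < 1414 → P i := stepQ 1413 Q1413 (allL N1413 (tt N634 (iv D1597)) (tt N2888 D3387) (tt N2889 D3388) (tt N2890 D3389) (tt N2891 D3390))
theorem Q1415 : ∀ i, i < 1415 → P i := stepQ 1414 Q1414 (allL N1414 (tt N2892 D3391) (tt N2828 (iv F2413)) (tt N634 (iv D1598)) (tt N2893 D3392) (tt N2894 D3393))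
theorem Q1416 : ∀ i, i < 1416 → P i := stepQ 1415 Q1415 (allL N1415 (tt N2895 D3394) (tt N635 F897) (tt N2893 (iv F2453)) (tt N634 (iv D1599)) (tt N2896 D3395))
theorem Q1417 : ∀ i, i < 1417 → P i := stepQ 1416 Q1416 (allL N1416 (tt N2891 (iv F2451)) (tt N636 F898) (tt N2897 D3396) (tt N641 F2068) (tt N634 (iv D1600)))
theorem Q1418 : ∀ i, i < 1418 → P i := stepQ 1417 Q1417 (allL N1417 (tt N1417 F899) (tt N2896 (iv F2454)) (tt N832 F3377) (tt N642 F2088) (tt N635 (iv D1601)))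
theorem Q1419 : ∀ i, i < 1419 → P i := stepQ 1418 Q1418 (allL N1418 (tt N1418 F904) (tt N638 (iv D1604)) (tt N926 F905) (tt N2898 D3400) (tt N890 (iv F906)))
theorem Q1420 : ∀ i, i < 1420 → P i := stepQ 1419 Q1419 (allL N1419 (tt N1481 (iv F979)) (tt N2899 D3401) (tt N638 (iv D1605)) (tt N2900 D3402) (tt N2901 D3403))
theorem Q1421 : ∀ i, i < 1421 → P i := stepQ 1420 Q1420 (allL N1420 (tt N2902 D3404) (tt N2898 (iv F2461)) (tt N2900 (iv F2466)) (tt N638 (iv D1606)) (tt N2903 D3405))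
theorem Q1422 : ∀ i, i < 1422 → P i := stepQ 1421 Q1421 (allL N1421 (tt N641 F907) (tt N890 F908) (tt N2904 D3406) (tt N2905 D3407) (tt N638 (iv D1607)))
theorem Q1423 : ∀ i, i < 1423 → P i := stepQ 1422 Q1422 (allL N1422 (tt N639 (iv D1608)) (tt N2906 D3408) (tt N2907 D3409) (tt N2908 D3410) (tt N1099 F2268))
theorem Q1424 : ∀ i, i < 1424 → P i := stepQ 1423 Q1423 (allL N1423 (tt N2909 D3411) (tt N2840 (iv F2423)) (tt N640 F909) (tt N639 (iv D1609)) (tt N2910 D3412))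
theorem Q1425 : ∀ i, i < 1425 → P i := stepQ 1424 Q1424 (allL N1424 (tt N1099 F2266) (tt N2675 F2267) (tt N2911 D3413) (tt N2894 (iv F4871)) (tt N639 (iv D1610)))
theorem Q1426 : ∀ i, i < 1426 → P i := stepQ 1425 Q1425 (allL N1425 (tt N640 (iv D1611)) (tt N2912 D3415) (tt N2913 D3416) (tt N2914 D3417) (tt N2915 D3418))
theorem Q1427 : ∀ i, i < 1427 → P i := stepQ 1426 Q1426 (allL N1426 (tt N2915 (iv F2478)) (tt N642 F910) (tt N2916 D3419) (tt N2896 (iv F2455)) (tt N640 (iv D1612)))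
theorem Q1428 : ∀ i, i < 1428 → P i := stepQ 1427 Q1427 (allL N1427 (tt N2917 D3420) (tt N2358 F1862) (tt N641 (iv D1613)) (tt N2897 (iv F2456)) (tt N2356 (iv F1863)))
theorem Q1429 : ∀ i, i < 1429 → P i := stepQ 1428 Q1428 (allL N1428 (tt N643 (iv D1618)) (tt N2847 (iv F2430)) (tt N2918 D3423) (tt N1740 (iv F1220)) (tt N1925 (iv F3384)))
theorem Q1430 : ∀ i, i < 1430 → P i := stepQ 1429 Q1429 (allL N1429 (tt N2919 D3425) (tt N2920 D3426) (tt N643 (iv D1619)) (tt N1754 (iv F1230)) (tt N2921 D3427))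
theorem Q1431 : ∀ i, i < 1431 → P i := stepQ 1430 Q1430 (allL N1430 (tt N644 (iv D1623)) (tt N2456 (iv F1960)) (tt N646 F914) (tt N2922 D3433) (tt N2923 D3434))
theorem Q1432 : ∀ i, i < 1432 → P i := stepQ 1431 Q1431 (allL N1431 (tt N2923 (iv F2486)) (tt N1942 (iv F1427)) (tt N1847 (iv F1327)) (tt N2924 D3435) (tt N644 (iv D1624)))
theorem Q1433 : ∀ i, i < 1433 → P i := stepQ 1432 Q1432 (allL N1432 (tt N2925 D3436) (tt N1944 (iv F1428)) (tt N1848 (iv F1309)) (tt N645 (iv D1625)) (tt N2926 D3437))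
theorem Q1434 : ∀ i, i < 1434 → P i := stepQ 1433 Q1433 (allL N1433 (tt N2927 D3438) (tt N646 (iv D1626)) (tt N2106 (iv F1595)) (tt N726 F1570) (tt N2928 D3439))
theorem Q1435 : ∀ i, i < 1435 → P i := stepQ 1434 Q1434 (allL N1434 (tt N1750 F1566) (tt N726 F1567) (tt N2922 (iv F2485)) (tt N646 (iv D1627)) (tt N2929 D3440))
theorem Q1436 : ∀ i, i < 1436 → P i := stepQ 1435 Q1435 (allL N1435 (tt N647 F929) (tt N2928 (iv F2489)) (tt N2930 D3441) (tt N2931 D3442) (tt N646 (iv D1628)))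
theorem Q1437 : ∀ i, i < 1437 → P i := stepQ 1436 Q1436 (allL N1436 (tt N2930 (iv F2493)) (tt N2932 D3443) (tt N647 (iv D1629)) (tt N2933 D3444) (tt N1845 F1326))
theorem Q1438 : ∀ i, i < 1438 → P i := stepQ 1437 Q1437 (allL N1437 (tt N2736 (iv F2315)) (tt N667 F930) (tt N2933 (iv F2496)) (tt N647 (iv D1630)) (tt N2934 D3445))
theorem Q1439 : ∀ i, i < 1439 → P i := stepQ 1438 Q1438 (allL N1438 (tt N930 F932) (tt N648 (iv D1631)) (tt N2935 D3446) (tt N2936 D3447) (tt N927 F931))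
theorem Q1440 : ∀ i, i < 1440 → P i := stepQ 1439 Q1439 (allL N1439 (tt N2937 D3448) (tt N2936 (iv F2501)) (tt N649 F933) (tt N648 (iv D1632)) (tt N2938 D3449))
theorem Q1441 : ∀ i, i < 1441 → P i := stepQ 1440 Q1440 (allL N1440 (tt N649 (iv D1633)) (tt N2939 D3450) (tt N2937 (iv F2502)) (tt N2929 (iv F2492)) (tt N2940 D3451))
theorem Q1442 : ∀ i, i < 1442 → P i := stepQ 1441 Q1441 (allL N1441 (tt N2940 (iv F2504)) (tt N673 F934) (tt N2926 (iv F3410)) (tt N2934 (iv F2498)) (tt N649 (iv D1634)))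
theorem Q1443 : ∀ i, i < 1443 → P i := stepQ 1442 Q1442 (allL N1442 (tt N1403 F937) (tt N652 F935) (tt N941 F936) (tt N650 (iv D1635)) (tt N2941 D3453))
theorem Q1444 : ∀ i, i < 1444 → P i := stepQ 1443 Q1443 (allL N1443 (tt N1394 F939) (tt N653 F940) (tt N2942 D3454) (tt N2943 D3455) (tt N650 (iv D1636)))
theorem Q1445 : ∀ i, i < 1445 → P i := stepQ 1444 Q1444 (allL N1444 (tt N683 F943) (tt N936 F941) (tt N652 F942) (tt N651 (iv D1637)) (tt N2944 D3456))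
theorem Q1446 : ∀ i, i < 1446 → P i := stepQ 1445 Q1445 (allL N1445 (tt N678 F944) (tt N937 F945) (tt N668 F946) (tt N2945 D3457) (tt N651 (iv D1638)))
theorem Q1447 : ∀ i, i < 1447 → P i := stepQ 1446 Q1446 (allL N1446 (tt N699 F948) (tt N2941 (iv F2506)) (tt N2946 D3458) (tt N2947 D3459) (tt N652 (iv D1639)))
theorem Q1448 : ∀ i, i < 1448 → P i := stepQ 1447 Q1447 (allL N1447 (tt N680 F949) (tt N2948 D3460) (tt N653 (iv D1640)) (tt N2949 D3461) (tt N2950 D3462))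
theorem Q1449 : ∀ i, i < 1449 → P i := stepQ 1448 Q1448 (allL N1448 (tt N2951 D3463) (tt N2943 (iv F2508)) (tt N2949 (iv F2519)) (tt N653 (iv D1641)) (tt N2952 D3464))
theorem Q1450 : ∀ i, i < 1450 → P i := stepQ 1449 Q1449 (allL N1449 (tt N2953 D3465) (tt N955 F950) (tt N1449 F951) (tt N654 (iv D1642)) (tt N2954 D3466))
theorem Q1451 : ∀ i, i < 1451 → P i := stepQ 1450 Q1450 (allL N1450 (tt N657 F952) (tt N956 F953) (tt N2955 D3467) (tt N2956 D3468) (tt N654 (iv D1643)))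
theorem Q1452 : ∀ i, i < 1452 → P i := stepQ 1451 Q1451 (allL N1451 (tt N2957 D3469) (tt N1940 (iv F1424)) (tt N656 F954) (tt N655 (iv D1644)) (tt N2958 D3470))
theorem Q1453 : ∀ i, i < 1453 → P i := stepQ 1452 Q1452 (allL N1452 (tt N1111 F955) (tt N1941 (iv F1426)) (tt N1856 (iv F1323)) (tt N2959 D3471) (tt N655 (iv D1645)))
theorem Q1454 : ∀ i, i < 1454 → P i := stepQ 1453 Q1453 (allL N1453 (tt N656 (iv D1646)) (tt N2579 (iv F2131)) (tt N1453 F956) (tt N2960 D3472) (tt N2961 D3473))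
theorem Q1455 : ∀ i, i < 1455 → P i := stepQ 1454 Q1454 (allL N1454 (tt N2961 (iv F2535)) (tt N659 F957) (tt N2962 D3474) (tt N2963 D3475) (tt N656 (iv D1647)))
theorem Q1456 : ∀ i, i < 1456 → P i := stepQ 1455 Q1455 (allL N1455 (tt N2338 (iv F1843)) (tt N2964 D3476) (tt N657 (iv D1648)) (tt N2965 D3477) (tt N1854 (iv F1320)))
theorem Q1457 : ∀ i, i < 1457 → P i := stepQ 1456 Q1456 (allL N1456 (tt N2966 D3478) (tt N661 F958) (tt N2965 (iv F2538)) (tt N657 (iv D1649)) (tt N2967 D3479))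
theorem Q1458 : ∀ i, i < 1458 → P i := stepQ 1457 Q1457 (allL N1457 (tt N2968 D3480) (tt N658 (iv D1650)) (tt N2112 (iv F1603)) (tt N2111 F1601) (tt N2969 D3481))
theorem Q1459 : ∀ i, i < 1459 → P i := stepQ 1458 Q1458 (allL N1458 (tt N677 F959) (tt N2104 (iv F1593)) (tt N658 (iv D1651)) (tt N2103 F1591) (tt N2970 D3482))
theorem Q1460 : ∀ i, i < 1460 → P i := stepQ 1459 Q1459 (allL N1459 (tt N698 F960) (tt N2111 (iv F1600)) (tt N2103 (iv F1592)) (tt N658 (iv D1652)) (tt N2971 D3483))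
theorem Q1461 : ∀ i, i < 1461 → P i := stepQ 1460 Q1460 (allL N1460 (tt N659 F961) (tt N2969 (iv F2542)) (tt N2972 D3484) (tt N2973 D3485) (tt N658 (iv D1653)))
theorem Q1462 : ∀ i, i < 1462 → P i := stepQ 1461 Q1461 (allL N1461 (tt N2974 D3486) (tt N2975 D3487) (tt N659 (iv D1654)) (tt N2976 D3488) (tt N2977 D3489))
theorem Q1463 : ∀ i, i < 1463 → P i := stepQ 1462 Q1462 (allL N1462 (tt N2947 (iv F2517)) (tt N2963 (iv F2536)) (tt N2976 (iv F2550)) (tt N659 (iv D1655)) (tt N2978 D3490))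
theorem Q1464 : ∀ i, i < 1464 → P i := stepQ 1463 Q1463 (allL N1463 (tt N2979 D3491) (tt N660 (iv D1656)) (tt N2980 D3492) (tt N2981 D3493) (tt N2982 D3494))
theorem Q1465 : ∀ i, i < 1465 → P i := stepQ 1464 Q1464 (allL N1464 (tt N2983 D3495) (tt N2981 (iv F2556)) (tt N661 F962) (tt N660 (iv D1657)) (tt N2984 D3496))
theorem Q1466 : ∀ i, i < 1466 → P i := stepQ 1465 Q1465 (allL N1465 (tt N690 F963) (tt N2982 (iv F2558)) (tt N671 F964) (tt N2977 (iv F2798)) (tt N660 (iv D1658)))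
theorem Q1467 : ∀ i, i < 1467 → P i := stepQ 1466 Q1466 (allL N1466 (tt N661 (iv D1659)) (tt N2985 D3498) (tt N2986 D3499) (tt N2971 (iv F2546)) (tt N2987 D3500))
theorem Q1468 : ∀ i, i < 1468 → P i := stepQ 1467 Q1467 (allL N1467 (tt N2987 (iv F2562)) (tt N2967 (iv F2539)) (tt N673 (iv F5317)) (tt N2978 (iv F2553)) (tt N661 (iv D1660)))
theorem Q1469 : ∀ i, i < 1469 → P i := stepQ 1468 Q1468 (allL N1468 (tt N662 (iv D1661)) (tt N2927 (iv F2487)) (tt N2988 D3502) (tt N2144 (iv F1643)) (tt N2989 D3503))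
theorem Q1470 : ∀ i, i < 1470 → P i := stepQ 1469 Q1469 (allL N1469 (tt N2989 (iv F2564)) (tt N665 F965) (tt N2990 D3504) (tt N2991 D3505) (tt N662 (iv D1662)))
theorem Q1471 : ∀ i, i < 1471 → P i := stepQ 1470 Q1470 (allL N1470 (tt N2992 D3506) (tt N663 (iv D1663)) (tt N1013 F966) (tt N1012 (iv F967)) (tt N2993 D3507))
theorem Q1472 : ∀ i, i < 1472 → P i := stepQ 1471 Q1471 (allL N1471 (tt N684 F968) (tt N1012 F969) (tt N664 F970) (tt N663 (iv D1664)) (tt N2994 D3508))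
theorem Q1473 : ∀ i, i < 1473 → P i := stepQ 1472 Q1472 (allL N1472 (tt N679 F971) (tt N2993 (iv F2568)) (tt N2974 (iv F2549)) (tt N2995 D3509) (tt N663 (iv D1665)))
theorem Q1474 : ∀ i, i < 1474 → P i := stepQ 1473 Q1473 (allL N1473 (tt N700 F972) (tt N1007 F973) (tt N2996 D3510) (tt N672 F974) (tt N664 (iv D1666)))
theorem Q1475 : ∀ i, i < 1475 → P i := stepQ 1474 Q1474 (allL N1474 (tt N2997 D3511) (tt N2998 D3512) (tt N665 (iv D1667)) (tt N2999 D3513) (tt N3000 D3514))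
theorem Q1476 : ∀ i, i < 1476 → P i := stepQ 1475 Q1475 (allL N1475 (tt N702 F975) (tt N2991 (iv F2566)) (tt N2999 (iv F2578)) (tt N665 (iv D1668)) (tt N3001 D3515))
theorem Q1477 : ∀ i, i < 1477 → P i := stepQ 1476 Q1476 (allL N1476 (tt N666 (iv D1669)) (tt N3002 D3516) (tt N2970 (iv F2544)) (tt N3003 D3517) (tt N3004 D3518))
theorem Q1478 : ∀ i, i < 1478 → P i := stepQ 1477 Q1477 (allL N1477 (tt N3005 D3519) (tt N666 (iv D1670)) (tt N3006 D3520) (tt N3007 D3521) (tt N3008 D3522))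
theorem Q1479 : ∀ i, i < 1479 → P i := stepQ 1478 Q1478 (allL N1478 (tt N3009 D3523) (tt N3007 (iv F2584)) (tt N667 F976) (tt N666 (iv D1671)) (tt N3010 D3524))
theorem Q1480 : ∀ i, i < 1480 → P i := stepQ 1479 Q1479 (allL N1479 (tt N3004 (iv F2582)) (tt N3008 (iv F2585)) (tt N2977 (iv F2552)) (tt N671 (iv F2800)) (tt N666 (iv D1672)))
theorem Q1481 : ∀ i, i < 1481 → P i := stepQ 1480 Q1480 (allL N1480 (tt N707 F977) (tt N2934 (iv F2497)) (tt N2978 (iv F5316)) (tt N673 F978) (tt N667 (iv D1673)))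
theorem Q1482 : ∀ i, i < 1482 → P i := stepQ 1481 Q1481 (allL N1481 (tt N1419 F979) (tt N668 (iv D1674)) (tt N3011 D3527) (tt N3012 D3528) (tt N2316 F2470))
theorem Q1483 : ∀ i, i < 1483 → P i := stepQ 1482 Q1482 (allL N1482 (tt N717 F980) (tt N3012 (iv F2589)) (tt N2945 (iv F2514)) (tt N668 (iv D1675)) (tt N3013 D3529))
theorem Q1484 : ∀ i, i < 1484 → P i := stepQ 1483 Q1483 (allL N1483 (tt N671 F981) (tt N2316 (iv F2469)) (tt N2950 (iv F2523)) (tt N3014 D3530) (tt N668 (iv D1676)))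
theorem Q1485 : ∀ i, i < 1485 → P i := stepQ 1484 Q1484 (allL N1484 (tt N669 (iv D1677)) (tt N2062 (iv F1562)) (tt N1484 F982) (tt N3015 D3531) (tt N2060 F1560))
theorem Q1486 : ∀ i, i < 1486 → P i := stepQ 1485 Q1485 (allL N1485 (tt N3016 D3532) (tt N2935 (iv F2500)) (tt N669 (iv D1678)) (tt N3017 D3533) (tt N3018 D3534))
theorem Q1487 : ∀ i, i < 1487 → P i := stepQ 1486 Q1486 (allL N1486 (tt N3019 D3535) (tt N670 F983) (tt N3017 (iv F2596)) (tt N669 (iv D1679)) (tt N3020 D3536))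
theorem Q1488 : ∀ i, i < 1488 → P i := stepQ 1487 Q1487 (allL N1487 (tt N2060 (iv F1559)) (tt N671 F984) (tt N2359 F2471) (tt N3008 (iv F2799)) (tt N669 (iv D1680)))
theorem Q1489 : ∀ i, i < 1489 → P i := stepQ 1488 Q1488 (allL N1488 (tt N670 (iv D1681)) (tt N3021 D3538) (tt N3022 D3539) (tt N3023 D3540) (tt N3024 D3541))
theorem Q1490 : ∀ i, i < 1490 → P i := stepQ 1489 Q1489 (allL N1489 (tt N3024 (iv F2603)) (tt N3020 (iv F2599)) (tt N2984 (iv F5319)) (tt N3010 (iv F2801)) (tt N670 (iv D1682)))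
theorem Q1491 : ∀ i, i < 1491 → P i := stepQ 1490 Q1490 (allL N1490 (tt N3025 D3546) (tt N672 (iv D1684)) (tt N3026 D3547) (tt N1007 F985) (tt N3027 D3548))
theorem Q1492 : ∀ i, i < 1492 → P i := stepQ 1491 Q1491 (allL N1491 (tt N709 F986) (tt N3028 D3549) (tt N672 (iv D1685)) (tt N2996 (iv F2573)) (tt N3029 D3550))
theorem Q1493 : ∀ i, i < 1493 → P i := stepQ 1492 Q1492 (allL N1492 (tt N673 F987) (tt N3027 (iv F2606)) (tt N3030 D3551) (tt N3001 (iv F2580)) (tt N672 (iv D1686)))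
theorem Q1494 : ∀ i, i < 1494 → P i := stepQ 1493 Q1493 (allL N1493 (tt N2450 (iv F1956)) (tt N1493 F988) (tt N675 F989) (tt N674 (iv D1688)) (tt N3031 D3555))
theorem Q1495 : ∀ i, i < 1495 → P i := stepQ 1494 Q1494 (allL N1494 (tt N1069 F990) (tt N1494 F991) (tt N1892 F1356) (tt N3032 D3556) (tt N674 (iv D1689)))
theorem Q1496 : ∀ i, i < 1496 → P i := stepQ 1495 Q1495 (allL N1495 (tt N675 (iv D1690)) (tt N1242 F994) (tt N1225 F992) (tt N1224 F993) (tt N3033 D3557))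
theorem Q1497 : ∀ i, i < 1497 → P i := stepQ 1496 Q1496 (allL N1496 (tt N3033 (iv F2610)) (tt N679 F995) (tt N3034 D3558) (tt N3035 D3559) (tt N675 (iv D1691)))
theorem Q1498 : ∀ i, i < 1498 → P i := stepQ 1497 Q1497 (allL N1497 (tt N3036 D3560) (tt N3037 D3561) (tt N676 (iv D1692)) (tt N3038 D3562) (tt N3039 D3563))
theorem Q1499 : ∀ i, i < 1499 → P i := stepQ 1498 Q1498 (allL N1498 (tt N3040 D3564) (tt N681 F996) (tt N3038 (iv F2619)) (tt N676 (iv D1693)) (tt N3041 D3565))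
theorem Q1500 : ∀ i, i < 1500 → P i := stepQ 1499 Q1499 (allL N1499 (tt N2970 (iv F2543)) (tt N1499 F997) (tt N2997 (iv F2575)) (tt N3042 D3566) (tt N677 (iv D1694)))
theorem Q1501 : ∀ i, i < 1501 → P i := stepQ 1500 Q1500 (allL N1500 (tt N3022 (iv F2601)) (tt N1500 F998) (tt N709 F999) (tt N678 (iv D1695)) (tt N3043 D3567))
theorem Q1502 : ∀ i, i < 1502 → P i := stepQ 1501 Q1501 (allL N1501 (tt N2972 (iv F2547)) (tt N3044 D3568) (tt N679 (iv D1696)) (tt N3045 D3569) (tt N3046 D3570))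
theorem Q1503 : ∀ i, i < 1503 → P i := stepQ 1502 Q1502 (allL N1502 (tt N687 F1000) (tt N3035 (iv F2612)) (tt N3045 (iv F2629)) (tt N679 (iv D1697)) (tt N3047 D3571))
theorem Q1504 : ∀ i, i < 1504 → P i := stepQ 1503 Q1503 (allL N1503 (tt N3048 D3572) (tt N680 (iv D1698)) (tt N859 F1930) (tt N3049 D3573) (tt N2426 F1931))
theorem Q1505 : ∀ i, i < 1505 → P i := stepQ 1504 Q1504 (allL N1504 (tt N2986 (iv F2561)) (tt N3049 (iv F2635)) (tt N681 F1001) (tt N680 (iv D1699)) (tt N3050 D3574))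
theorem Q1506 : ∀ i, i < 1506 → P i := stepQ 1505 Q1505 (allL N1505 (tt N2950 (iv F2521)) (tt N2426 F1929) (tt N710 F1002) (tt N3046 (iv F2808)) (tt N680 (iv D1700)))
theorem Q1507 : ∀ i, i < 1507 → P i := stepQ 1506 Q1506 (allL N1506 (tt N681 (iv D1701)) (tt N3051 D3576) (tt N2983 (iv F2559)) (tt N2994 (iv F2571)) (tt N3030 (iv F5315)))
theorem Q1508 : ∀ i, i < 1508 → P i := stepQ 1507 Q1507 (allL N1507 (tt N3030 (iv F5314)) (tt N3041 (iv F2625)) (tt N3043 (iv F5320)) (tt N3047 (iv F2631)) (tt N681 (iv D1702)))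
theorem Q1509 : ∀ i, i < 1509 → P i := stepQ 1508 Q1508 (allL N1508 (tt N682 (iv D1703)) (tt N1681 (iv F1225)) (tt N1213 F1226) (tt N3052 D3579) (tt N3053 D3580))
theorem Q1510 : ∀ i, i < 1510 → P i := stepQ 1509 Q1509 (allL N1509 (tt N3054 D3581) (tt N2448 (iv F1952)) (tt N682 (iv D1704)) (tt N3055 D3582) (tt N3056 D3583))
theorem Q1511 : ∀ i, i < 1511 → P i := stepQ 1510 Q1510 (allL N1510 (tt N1983 F2017) (tt N684 F1003) (tt N3055 (iv F2645)) (tt N682 (iv D1705)) (tt N3057 D3584))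
theorem Q1512 : ∀ i, i < 1512 → P i := stepQ 1511 Q1511 (allL N1511 (tt N3053 (iv F2641)) (tt N685 F1004) (tt N3058 D3585) (tt N3059 D3586) (tt N682 (iv D1706)))
theorem Q1513 : ∀ i, i < 1513 → P i := stepQ 1512 Q1512 (allL N1512 (tt N3060 D3587) (tt N683 (iv D1707)) (tt N799 F1005) (tt N3061 D3588) (tt N3062 D3589))
theorem Q1514 : ∀ i, i < 1514 → P i := stepQ 1513 Q1513 (allL N1513 (tt N2103 (iv F1590)) (tt N3061 (iv F2650)) (tt N684 F1006) (tt N683 (iv D1708)) (tt N3063 D3590))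
theorem Q1515 : ∀ i, i < 1515 → P i := stepQ 1514 Q1514 (allL N1514 (tt N2944 (iv F2509)) (tt N3062 (iv F2652)) (tt N703 F1007) (tt N3064 D3591) (tt N683 (iv D1709)))
theorem Q1516 : ∀ i, i < 1516 → P i := stepQ 1515 Q1515 (allL N1515 (tt N2994 (iv F2569)) (tt N3057 (iv F2646)) (tt N3065 D3592) (tt N691 F1008) (tt N684 (iv D1710)))
theorem Q1517 : ∀ i, i < 1517 → P i := stepQ 1516 Q1516 (allL N1516 (tt N2946 (iv F2516)) (tt N3066 D3593) (tt N685 (iv D1711)) (tt N3067 D3594) (tt N3068 D3595))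
theorem Q1518 : ∀ i, i < 1518 → P i := stepQ 1517 Q1517 (allL N1517 (tt N2995 (iv F2572)) (tt N3059 (iv F2648)) (tt N3067 (iv F2658)) (tt N685 (iv D1712)) (tt N3069 D3596))
theorem Q1519 : ∀ i, i < 1519 → P i := stepQ 1518 Q1518 (allL N1518 (tt N686 (iv D1713)) (tt N3070 D3597) (tt N699 F1009) (tt N3071 D3598) (tt N3072 D3599))
theorem Q1520 : ∀ i, i < 1520 → P i := stepQ 1519 Q1519 (allL N1519 (tt N3073 D3600) (tt N686 (iv D1714)) (tt N3074 D3601) (tt N3075 D3602) (tt N2493 (iv F2792)))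
theorem Q1521 : ∀ i, i < 1521 → P i := stepQ 1520 Q1520 (allL N1520 (tt N2976 (iv F2551)) (tt N3075 (iv F2664)) (tt N687 F1010) (tt N686 (iv D1715)) (tt N3076 D3604))
theorem Q1522 : ∀ i, i < 1522 → P i := stepQ 1521 Q1521 (allL N1521 (tt N3072 (iv F2662)) (tt N2493 (iv F2791)) (tt N706 F1011) (tt N690 (iv F2793)) (tt N686 (iv D1716)))
theorem Q1523 : ∀ i, i < 1523 → P i := stepQ 1522 Q1522 (allL N1522 (tt N3047 (iv F2630)) (tt N2387 (iv F1891)) (tt N707 (iv F5282)) (tt N692 F1012) (tt N687 (iv D1717)))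
theorem Q1524 : ∀ i, i < 1524 → P i := stepQ 1523 Q1523 (allL N1523 (tt N688 (iv D1718)) (tt N1364 F1014) (tt N3077 D3607) (tt N3078 D3608) (tt N1362 F1013))
theorem Q1525 : ∀ i, i < 1525 → P i := stepQ 1524 Q1524 (allL N1524 (tt N2499 (iv F2002)) (tt N2389 (iv F1895)) (tt N688 (iv D1719)) (tt N3079 D3609) (tt N2499 (iv F2001)))
theorem Q1526 : ∀ i, i < 1526 → P i := stepQ 1525 Q1525 (allL N1525 (tt N3080 D3610) (tt N689 F1015) (tt N3079 (iv F2673)) (tt N688 (iv D1720)) (tt N2503 (iv F5273)))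
theorem Q1527 : ∀ i, i < 1527 → P i := stepQ 1526 Q1526 (allL N1526 (tt N689 (iv D1721)) (tt N3081 D3612) (tt N2951 (iv F2524)) (tt N3082 D3613) (tt N3083 D3614))
theorem Q1528 : ∀ i, i < 1528 → P i := stepQ 1527 Q1527 (allL N1527 (tt N3083 (iv F2676)) (tt N2503 F5274) (tt N715 (iv F5276)) (tt N3076 (iv F2795)) (tt N689 (iv D1722)))
theorem Q1529 : ∀ i, i < 1529 → P i := stepQ 1528 Q1528 (allL N1528 (tt N3084 D3619) (tt N691 (iv D1724)) (tt N3085 D3620) (tt N3057 F2647) (tt N3086 D3621))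
theorem Q1530 : ∀ i, i < 1530 → P i := stepQ 1529 Q1529 (allL N1529 (tt N2949 (iv F2520)) (tt N3087 D3622) (tt N691 (iv D1725)) (tt N3065 (iv F2657)) (tt N3088 D3623))
theorem Q1531 : ∀ i, i < 1531 → P i := stepQ 1530 Q1530 (allL N1530 (tt N692 F1017) (tt N3086 (iv F2677)) (tt N3089 D3624) (tt N3069 (iv F2660)) (tt N691 (iv D1726)))
theorem Q1532 : ∀ i, i < 1532 → P i := stepQ 1531 Q1531 (allL N1531 (tt N1732 (iv F1215)) (tt N1167 F1054) (tt N693 (iv D1728)) (tt N3090 D3628) (tt N3091 D3629))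
theorem Q1533 : ∀ i, i < 1533 → P i := stepQ 1532 Q1532 (allL N1532 (tt N1733 (iv F1645)) (tt N720 F1018) (tt N3090 (iv F2679)) (tt N693 (iv D1729)) (tt N3092 D3630))
theorem Q1534 : ∀ i, i < 1534 → P i := stepQ 1533 Q1533 (allL N1533 (tt N696 F1019) (tt N721 F1020) (tt N3093 D3631) (tt N3094 D3632) (tt N693 (iv D1730)))
theorem Q1535 : ∀ i, i < 1535 → P i := stepQ 1534 Q1534 (allL N1534 (tt N3090 (iv F2680)) (tt N897 F1021) (tt N695 F1022) (tt N694 (iv D1731)) (tt N3095 D3633))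
theorem Q1536 : ∀ i, i < 1536 → P i := stepQ 1535 Q1535 (allL N1535 (tt N2811 (iv F2398)) (tt N2539 (iv F2039)) (tt N1790 (iv F1254)) (tt N3096 D3634) (tt N694 (iv D1732)))
theorem Q1537 : ∀ i, i < 1537 → P i := stepQ 1536 Q1536 (allL N1536 (tt N2812 (iv F2399)) (tt N700 F1023) (tt N3097 D3635) (tt N716 (iv F1024)) (tt N695 (iv D1734)))
theorem Q1538 : ∀ i, i < 1538 → P i := stepQ 1537 Q1537 (allL N1537 (tt N2813 (iv F2402)) (tt N3098 D3636) (tt N696 (iv D1735)) (tt N3099 D3637) (tt N1788 (iv F1251)))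
theorem Q1539 : ∀ i, i < 1539 → P i := stepQ 1538 Q1538 (allL N1538 (tt N2814 (iv F2404)) (tt N702 F1025) (tt N3099 (iv F2690)) (tt N696 (iv D1736)) (tt N3100 D3638))
theorem Q1540 : ∀ i, i < 1540 → P i := stepQ 1539 Q1539 (allL N1539 (tt N697 (iv D1737)) (tt N2568 (iv F2124)) (tt N2567 (iv F2122)) (tt N2567 F2123) (tt N3101 D3639))
theorem Q1541 : ∀ i, i < 1541 → P i := stepQ 1540 Q1540 (allL N1540 (tt N2402 (iv F1909)) (tt N2538 (iv F2036)) (tt N697 (iv D1738)) (tt N3102 D3640) (tt N3103 D3641))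
theorem Q1542 : ∀ i, i < 1542 → P i := stepQ 1541 Q1541 (allL N1541 (tt N3104 D3642) (tt N698 F1026) (tt N3102 (iv F2695)) (tt N697 (iv D1739)) (tt N3105 D3643))
theorem Q1543 : ∀ i, i < 1543 → P i := stepQ 1542 Q1542 (allL N1542 (tt N3101 (iv F2693)) (tt N699 F1027) (tt N3106 D3644) (tt N3107 D3645) (tt N697 (iv D1740)))
theorem Q1544 : ∀ i, i < 1544 → P i := stepQ 1543 Q1543 (allL N1543 (tt N2971 (iv F2545)) (tt N3105 (iv F2699)) (tt N3082 (iv F2675)) (tt N2951 (iv F2525)) (tt N698 (iv D1741)))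
theorem Q1545 : ∀ i, i < 1545 → P i := stepQ 1544 Q1544 (allL N1544 (tt N2973 (iv F2548)) (tt N3107 (iv F2700)) (tt N3071 (iv F2661)) (tt N699 (iv D1742)) (tt N3108 D3646))
theorem Q1546 : ∀ i, i < 1546 → P i := stepQ 1545 Q1545 (allL N1545 (tt N3023 (iv F2602)) (tt N3109 D3647) (tt N700 (iv D1743)) (tt N717 F1028) (tt N3110 D3648))
theorem Q1547 : ∀ i, i < 1547 → P i := stepQ 1546 Q1546 (allL N1546 (tt N701 (iv D1744)) (tt N3111 D3649) (tt N2944 (iv F2511)) (tt N3009 (iv F2586)) (tt N3014 (iv F2797)))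
theorem Q1548 : ∀ i, i < 1548 → P i := stepQ 1547 Q1547 (allL N1547 (tt N3112 D3651) (tt N701 (iv D1745)) (tt N3113 D3652) (tt N3114 D3653) (tt N3115 D3654))
theorem Q1549 : ∀ i, i < 1549 → P i := stepQ 1548 Q1548 (allL N1548 (tt N3003 (iv F2581)) (tt N3114 (iv F2704)) (tt N702 F1029) (tt N701 (iv D1746)) (tt N3116 D3655))
theorem Q1550 : ∀ i, i < 1550 → P i := stepQ 1549 Q1549 (allL N1549 (tt N3014 (iv F2796)) (tt N3115 (iv F2705)) (tt N3072 (iv F2663)) (tt N3110 (iv F2802)) (tt N701 (iv D1747)))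
theorem Q1551 : ∀ i, i < 1551 → P i := stepQ 1550 Q1550 (allL N1550 (tt N3001 (iv F2579)) (tt N3100 (iv F2691)) (tt N3108 (iv F5327)) (tt N718 F1030) (tt N702 (iv D1748)))
theorem Q1552 : ∀ i, i < 1552 → P i := stepQ 1551 Q1551 (allL N1551 (tt N3117 D3658) (tt N703 (iv D1749)) (tt N3118 D3659) (tt N3119 D3660) (tt N3120 D3661))
theorem Q1553 : ∀ i, i < 1553 → P i := stepQ 1552 Q1552 (allL N1552 (tt N2999 (iv F2577)) (tt N3119 (iv F2707)) (tt N3064 (iv F2656)) (tt N703 (iv D1750)) (tt N3121 D3662))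
theorem Q1554 : ∀ i, i < 1554 → P i := stepQ 1553 Q1553 (allL N1553 (tt N706 F1031) (tt N3120 (iv F2708)) (tt N3068 (iv F2659)) (tt N3122 D3663) (tt N703 (iv D1751)))
theorem Q1555 : ∀ i, i < 1555 → P i := stepQ 1554 Q1554 (allL N1554 (tt N704 (iv D1752)) (tt N3123 D3664) (tt N2827 (iv F2512)) (tt N3124 D3665) (tt N2637 (iv F2786)))
theorem Q1556 : ∀ i, i < 1556 → P i := stepQ 1555 Q1555 (allL N1555 (tt N3125 D3667) (tt N745 F1032) (tt N704 (iv D1753)) (tt N3126 D3668) (tt N2631 (iv F2810)))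
theorem Q1557 : ∀ i, i < 1557 → P i := stepQ 1556 Q1556 (allL N1556 (tt N3127 D3670) (tt N705 F1033) (tt N3126 (iv F2712)) (tt N704 (iv D1754)) (tt N2636 (iv F4731)))
theorem Q1558 : ∀ i, i < 1558 → P i := stepQ 1557 Q1557 (allL N1557 (tt N705 (iv D1756)) (tt N3128 D3674) (tt N3042 (iv F2627)) (tt N2997 (iv F2576)) (tt N3129 D3675))
theorem Q1559 : ∀ i, i < 1559 → P i := stepQ 1558 Q1558 (allL N1558 (tt N3129 (iv F2716)) (tt N2636 (iv F4730)) (tt N3076 (iv F5278)) (tt N715 (iv F2790)) (tt N705 (iv D1757)))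
theorem Q1560 : ∀ i, i < 1560 → P i := stepQ 1559 Q1559 (allL N1559 (tt N708 (iv D1760)) (tt N977 (iv F1038)) (tt N930 F1036) (tt N3130 D3683) (tt N975 F1037))
theorem Q1561 : ∀ i, i < 1561 → P i := stepQ 1560 Q1560 (allL N1560 (tt N2651 (iv F2239)) (tt N1560 F1039) (tt N708 (iv D1761)) (tt N3131 D3684) (tt N1871 (iv F1336)))
theorem Q1562 : ∀ i, i < 1562 → P i := stepQ 1561 Q1561 (allL N1561 (tt N3132 D3685) (tt N709 F1040) (tt N3131 (iv F2721)) (tt N708 (iv D1762)) (tt N3133 D3686))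
theorem Q1563 : ∀ i, i < 1563 → P i := stepQ 1562 Q1562 (allL N1562 (tt N975 F1041) (tt N710 F1042) (tt N2286 F2265) (tt N3134 D3687) (tt N708 (iv D1763)))
theorem Q1564 : ∀ i, i < 1564 → P i := stepQ 1563 Q1563 (allL N1563 (tt N3029 (iv F2607)) (tt N3133 (iv F2722)) (tt N3050 (iv F5321)) (tt N3129 (iv F2787)) (tt N709 (iv D1764)))
theorem Q1565 : ∀ i, i < 1565 → P i := stepQ 1564 Q1564 (allL N1564 (tt N3000 (iv F2806)) (tt N3134 (iv F2723)) (tt N3046 (iv F2807)) (tt N710 (iv D1765)) (tt N2997 (iv F2805)))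
theorem Q1566 : ∀ i, i < 1566 → P i := stepQ 1565 Q1565 (allL N1565 (tt N977 F1044) (tt N711 (iv D1766)) (tt N2838 (iv F2421)) (tt N3135 D3692) (tt N974 F1045))
theorem Q1567 : ∀ i, i < 1567 → P i := stepQ 1566 Q1566 (allL N1566 (tt N3136 D3693) (tt N3135 (iv F2725)) (tt N2839 (iv F2422)) (tt N711 (iv D1767)) (tt N3137 D3694))
theorem Q1568 : ∀ i, i < 1568 → P i := stepQ 1567 Q1567 (allL N1567 (tt N712 (iv D1768)) (tt N3138 D3695) (tt N2677 (iv F2271)) (tt N3139 D3696) (tt N2670 F2253))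
theorem Q1569 : ∀ i, i < 1569 → P i := stepQ 1568 Q1568 (allL N1568 (tt N3140 D3697) (tt N754 F1046) (tt N713 F1047) (tt N712 (iv D1769)) (tt N2688 (iv F4737)))
theorem Q1570 : ∀ i, i < 1570 → P i := stepQ 1569 Q1569 (allL N1569 (tt N713 (iv D1770)) (tt N3141 D3699) (tt N2841 (iv F2425)) (tt N3142 D3700) (tt N2696 (iv F4728)))
theorem Q1571 : ∀ i, i < 1571 → P i := stepQ 1570 Q1570 (allL N1570 (tt N3143 D3704) (tt N714 (iv D1772)) (tt N3144 D3705) (tt N3145 D3706) (tt N3146 D3707))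
theorem Q1572 : ∀ i, i < 1572 → P i := stepQ 1571 Q1571 (allL N1571 (tt N2945 (iv F2515)) (tt N3147 D3708) (tt N714 (iv D1773)) (tt N3063 (iv F2655)) (tt N3089 (iv F5280)))
theorem Q1573 : ∀ i, i < 1573 → P i := stepQ 1572 Q1572 (allL N1572 (tt N2996 (iv F2574)) (tt N3145 (iv F2734)) (tt N3063 (iv F2654)) (tt N714 (iv D1774)) (tt N3122 (iv F2785)))
theorem Q1574 : ∀ i, i < 1574 → P i := stepQ 1573 Q1573 (allL N1573 (tt N715 F1049) (tt N3146 (iv F2735)) (tt N3088 (iv F5322)) (tt N3121 (iv F2804)) (tt N714 (iv D1775)))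
theorem Q1575 : ∀ i, i < 1575 → P i := stepQ 1574 Q1574 (allL N1574 (tt N716 (iv D1780)) (tt N762 F1050) (tt N3148 D3722) (tt N3092 (iv F2683)) (tt N3149 D3723))
theorem Q1576 : ∀ i, i < 1576 → P i := stepQ 1575 Q1575 (allL N1575 (tt N2848 (iv F2431)) (tt N3150 D3724) (tt N716 (iv D1781)) (tt N3097 (iv F2687)) (tt N1884 (iv F3402)))
theorem Q1577 : ∀ i, i < 1577 → P i := stepQ 1576 Q1576 (allL N1576 (tt N3149 (iv F2744)) (tt N718 F1051) (tt N3151 D3726) (tt N3100 (iv F2692)) (tt N716 (iv D1782)))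
theorem Q1578 : ∀ i, i < 1578 → P i := stepQ 1577 Q1577 (allL N1577 (tt N3152 D3727) (tt N717 (iv D1783)) (tt N3153 D3728) (tt N3109 (iv F2701)) (tt N3154 D3729))
theorem Q1579 : ∀ i, i < 1579 → P i := stepQ 1578 Q1578 (allL N1578 (tt N3013 (iv F2591)) (tt N3154 (iv F2746)) (tt N3083 (iv F5275)) (tt N3116 (iv F2803)) (tt N717 (iv D1784)))
theorem Q1580 : ∀ i, i < 1580 → P i := stepQ 1579 Q1579 (allL N1579 (tt N2952 (iv F5326)) (tt N3155 D3732) (tt N718 (iv D1785)) (tt N3108 (iv F5328)) (tt N2951 (iv F5323)))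
theorem Q1581 : ∀ i, i < 1581 → P i := stepQ 1580 Q1580 (allL N1580 (tt N719 (iv D1789)) (tt N768 F1052) (tt N3156 D3741) (tt N3157 D3742) (tt N3158 D3743))
theorem Q1582 : ∀ i, i < 1582 → P i := stepQ 1581 Q1581 (allL N1581 (tt N2564 (iv F2116)) (tt N719 (iv D1790)) (tt N1142 (iv F1053)) (tt N2079 (iv F1607)) (tt N3159 D3744))
theorem Q1583 : ∀ i, i < 1583 → P i := stepQ 1582 Q1582 (allL N1582 (tt N3158 (iv F2754)) (tt N3159 (iv F2756)) (tt N3160 D3745) (tt N2138 (iv F1638)) (tt N719 (iv D1792)))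
theorem Q1584 : ∀ i, i < 1584 → P i := stepQ 1583 Q1583 (allL N1583 (tt N720 (iv D1793)) (tt N2144 (iv F1644)) (tt N3161 D3746) (tt N2927 (iv F2488)) (tt N3162 D3747))
theorem Q1585 : ∀ i, i < 1585 → P i := stepQ 1584 Q1584 (allL N1584 (tt N3162 (iv F2759)) (tt N3092 (iv F2682)) (tt N3163 D3748) (tt N762 F1056) (tt N720 (iv D1794)))
theorem Q1586 : ∀ i, i < 1586 → P i := stepQ 1585 Q1585 (allL N1585 (tt N3164 D3749) (tt N3165 D3750) (tt N721 (iv D1795)) (tt N3166 D3751) (tt N3167 D3752))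
theorem Q1587 : ∀ i, i < 1587 → P i := stepQ 1586 Q1586 (allL N1586 (tt N3168 D3753) (tt N3094 (iv F2684)) (tt N3166 (iv F2761)) (tt N721 (iv D1796)) (tt N3169 D3754))
theorem Q1588 : ∀ i, i < 1588 → P i := stepQ 1587 Q1587 (allL N1587 (tt N2531 (iv F2026)) (tt N722 (iv D1797)) (tt N2261 (iv F1772)) (tt N2260 (iv F1769)) (tt N3170 D3755))
theorem Q1589 : ∀ i, i < 1589 → P i := stepQ 1588 Q1588 (allL N1588 (tt N3156 (iv F2750)) (tt N1357 F1057) (tt N722 (iv D1798)) (tt N2102 F2379) (tt N3171 D3756))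
theorem Q1590 : ∀ i, i < 1590 → P i := stepQ 1589 Q1589 (allL N1589 (tt N3161 (iv F2758)) (tt N2260 F1770) (tt N2102 (iv F2378)) (tt N722 (iv D1799)) (tt N3172 D3757))
theorem Q1591 : ∀ i, i < 1591 → P i := stepQ 1590 Q1590 (allL N1590 (tt N725 F1058) (tt N3170 (iv F2763)) (tt N3173 D3758) (tt N3174 D3759) (tt N722 (iv D1800)))
theorem Q1592 : ∀ i, i < 1592 → P i := stepQ 1591 Q1591 (allL N1591 (tt N723 (iv D1801)) (tt N2376 (iv F1880)) (tt N1133 (iv F1060)) (tt N1132 F1059) (tt N3175 D3760))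
theorem Q1593 : ∀ i, i < 1593 → P i := stepQ 1592 Q1592 (allL N1592 (tt N1146 F1061) (tt N731 F1062) (tt N723 (iv D1802)) (tt N1112 (iv F1063)) (tt N3176 D3761))
theorem Q1594 : ∀ i, i < 1594 → P i := stepQ 1593 Q1593 (allL N1593 (tt N1126 F1064) (tt N724 F1065) (tt N1112 F1066) (tt N723 (iv D1803)) (tt N3177 D3762))
theorem Q1595 : ∀ i, i < 1595 → P i := stepQ 1594 Q1594 (allL N1594 (tt N3175 (iv F2766)) (tt N725 F1067) (tt N3178 D3763) (tt N3179 D3764) (tt N723 (iv D1804)))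
theorem Q1596 : ∀ i, i < 1596 → P i := stepQ 1595 Q1595 (allL N1595 (tt N724 (iv D1805)) (tt N3180 D3765) (tt N3181 D3766) (tt N3182 D3767) (tt N3183 D3768))
theorem Q1597 : ∀ i, i < 1597 → P i := stepQ 1596 Q1596 (allL N1596 (tt N3183 (iv F2780)) (tt N3177 (iv F2773)) (tt N3184 D3769) (tt N3185 D3770) (tt N724 (iv D1806)))
theorem Q1598 : ∀ i, i < 1598 → P i := stepQ 1597 Q1597 (allL N1597 (tt N3160 (iv F2757)) (tt N3186 D3771) (tt N725 (iv D1807)) (tt N3187 D3772) (tt N3188 D3773))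
theorem Q1599 : ∀ i, i < 1599 → P i := stepQ 1598 Q1598 (allL N1598 (tt N3189 D3774) (tt N3179 (iv F2778)) (tt N3187 (iv F2811)) (tt N725 (iv D1808)) (tt N3190 D3775))
theorem Q1600 : ∀ i, i < 1600 → P i := stepQ 1599 Q1599 (allL N1599 (tt N3157 (iv F2752)) (tt N2045 F1565) (tt N726 (iv D1810)) (tt N2106 F1596) (tt N3191 D3776))
theorem Q1601 : ∀ i, i < 1601 → P i := stepQ 1600 Q1600 (allL N1600 (tt N727 F1068) (tt N2929 (iv F2491)) (tt N3192 D3777) (tt N2939 (iv F2503)) (tt N726 (iv D1812)))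
theorem Q1602 : ∀ i, i < 1602 → P i := stepQ 1601 Q1601 (allL N1601 (tt N3193 D3778) (tt N3194 D3779) (tt N727 (iv D1813)) (tt N763 F1069) (tt N3195 D3780))
theorem Q1603 : ∀ i, i < 1603 → P i := stepQ 1602 Q1602 (allL N1602 (tt N728 (iv D1814)) (tt N3196 D3781) (tt N3171 (iv F2765)) (tt N3197 D3782) (tt N3198 D3783))
theorem Q1604 : ∀ i, i < 1604 → P i := stepQ 1603 Q1603 (allL N1603 (tt N3199 D3784) (tt N728 (iv D1815)) (tt N3200 D3785) (tt N3201 D3786) (tt N3202 D3787))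
theorem Q1605 : ∀ i, i < 1605 → P i := stepQ 1604 Q1604 (allL N1604 (tt N3203 D3788) (tt N3201 (iv F2820)) (tt N729 F1070) (tt N728 (iv D1816)) (tt N3204 D3789))
theorem Q1606 : ∀ i, i < 1606 → P i := stepQ 1605 Q1605 (allL N1605 (tt N3198 (iv F2816)) (tt N3202 (iv F2821)) (tt N3188 (iv F2813)) (tt N3195 (iv F6078)) (tt N728 (iv D1817)))
theorem Q1607 : ∀ i, i < 1607 → P i := stepQ 1606 Q1606 (allL N1606 (tt N729 (iv D1818)) (tt N2931 (iv F2494)) (tt N3205 D3791) (tt N2928 (iv F2490)) (tt N3206 D3792))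
theorem Q1608 : ∀ i, i < 1608 → P i := stepQ 1607 Q1607 (allL N1607 (tt N3206 (iv F2822)) (tt N740 F1071) (tt N3190 (iv F6071)) (tt N764 F1072) (tt N729 (iv D1819)))
theorem Q1609 : ∀ i, i < 1609 → P i := stepQ 1608 Q1608 (allL N1608 (tt N1220 F1073) (tt N730 (iv D1820)) (tt N1212 F1074) (tt N2545 (iv F2098)) (tt N3207 D3794))
theorem Q1610 : ∀ i, i < 1610 → P i := stepQ 1609 Q1609 (allL N1609 (tt N2465 (iv F1966)) (tt N2566 (iv F2120)) (tt N730 (iv D1821)) (tt N2968 (iv F2540)) (tt N3208 D3795))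
theorem Q1611 : ∀ i, i < 1611 → P i := stepQ 1610 Q1610 (allL N1610 (tt N3209 D3796) (tt N2545 F2099) (tt N2968 F2541) (tt N730 (iv D1822)) (tt N3210 D3797))
theorem Q1612 : ∀ i, i < 1612 → P i := stepQ 1611 Q1611 (allL N1611 (tt N733 F1075) (tt N3207 (iv F2825)) (tt N3211 D3798) (tt N3212 D3799) (tt N730 (iv D1823)))
theorem Q1613 : ∀ i, i < 1613 → P i := stepQ 1612 Q1612 (allL N1612 (tt N3213 D3800) (tt N1112 F1076) (tt N732 F1077) (tt N731 (iv D1824)) (tt N3214 D3801))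
theorem Q1614 : ∀ i, i < 1614 → P i := stepQ 1613 Q1613 (allL N1613 (tt N2469 (iv F1971)) (tt N3176 (iv F2770)) (tt N3215 D3802) (tt N3216 D3803) (tt N731 (iv D1825)))
theorem Q1615 : ∀ i, i < 1615 → P i := stepQ 1614 Q1614 (allL N1614 (tt N732 (iv D1826)) (tt N1963 F1544) (tt N3217 D3804) (tt N1962 (iv F1545)) (tt N3218 D3805))
theorem Q1616 : ∀ i, i < 1616 → P i := stepQ 1615 Q1615 (allL N1615 (tt N3218 (iv F2832)) (tt N734 F1078) (tt N3219 D3806) (tt N873 (iv F1079)) (tt N732 (iv D1827)))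
theorem Q1617 : ∀ i, i < 1617 → P i := stepQ 1616 Q1616 (allL N1616 (tt N2471 (iv F1974)) (tt N3220 D3807) (tt N733 (iv D1828)) (tt N3221 D3808) (tt N3222 D3809))
theorem Q1618 : ∀ i, i < 1618 → P i := stepQ 1617 Q1617 (allL N1617 (tt N3223 D3810) (tt N735 F1080) (tt N3221 (iv F2836)) (tt N733 (iv D1829)) (tt N3224 D3811))
theorem Q1619 : ∀ i, i < 1619 → P i := stepQ 1618 Q1618 (allL N1618 (tt N1618 F1081) (tt N3224 (iv F2837)) (tt N740 F3379) (tt N767 F3380) (tt N735 (iv D1830)))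
theorem Q1620 : ∀ i, i < 1620 → P i := stepQ 1619 Q1619 (allL N1619 (tt N3225 D3812) (tt N736 (iv D1831)) (tt N3226 D3813) (tt N765 F1084) (tt N3227 D3814))
theorem Q1621 : ∀ i, i < 1621 → P i := stepQ 1620 Q1620 (allL N1620 (tt N1620 F1085) (tt N3227 (iv F2840)) (tt N820 F2056) (tt N739 F2057) (tt N736 (iv D1832)))
theorem Q1622 : ∀ i, i < 1622 → P i := stepQ 1621 Q1621 (allL N1621 (tt N737 (iv D1833)) (tt N3228 D3815) (tt N3229 D3816) (tt N3230 D3817) (tt N3231 D3818))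
theorem Q1623 : ∀ i, i < 1623 → P i := stepQ 1622 Q1622 (allL N1622 (tt N3232 D3819) (tt N3200 (iv F2819)) (tt N737 (iv D1834)) (tt N3233 D3820) (tt N3234 D3821))
theorem Q1624 : ∀ i, i < 1624 → P i := stepQ 1623 Q1623 (allL N1623 (tt N3235 D3822) (tt N738 F1088) (tt N3233 (iv F2844)) (tt N737 (iv D1835)) (tt N3236 D3823))
theorem Q1625 : ∀ i, i < 1625 → P i := stepQ 1624 Q1624 (allL N1624 (tt N3231 (iv F2843)) (tt N739 F1089) (tt N3237 D3824) (tt N3227 F2841) (tt N737 (iv D1836)))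
theorem Q1626 : ∀ i, i < 1626 → P i := stepQ 1625 Q1625 (allL N1625 (tt N1625 F1090) (tt N3236 (iv F2845)) (tt N819 F3393) (tt N766 F2089) (tt N738 (iv D1837)))
theorem Q1627 : ∀ i, i < 1627 → P i := stepQ 1626 Q1626 (allL N1626 (tt N741 (iv D1840)) (tt N3238 D3828) (tt N3239 D3829) (tt N3240 D3830) (tt N3241 D3831))
theorem Q1628 : ∀ i, i < 1628 → P i := stepQ 1627 Q1627 (allL N1627 (tt N3242 D3832) (tt N3243 D3833) (tt N741 (iv D1841)) (tt N3244 D3834) (tt N3245 D3835))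
theorem Q1629 : ∀ i, i < 1629 → P i := stepQ 1628 Q1628 (allL N1628 (tt N3246 D3836) (tt N742 F1095) (tt N3244 (iv F2856)) (tt N741 (iv D1842)) (tt N3247 D3837))
theorem Q1630 : ∀ i, i < 1630 → P i := stepQ 1629 Q1629 (allL N1629 (tt N3241 (iv F2853)) (tt N743 F1096) (tt N3248 D3838) (tt N3249 D3839) (tt N741 (iv D1843)))
theorem Q1631 : ∀ i, i < 1631 → P i := stepQ 1630 Q1630 (allL N1630 (tt N1630 F1097) (tt N3247 (iv F2857)) (tt N814 F3394) (tt N761 F2087) (tt N742 (iv D1844)))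
theorem Q1632 : ∀ i, i < 1632 → P i := stepQ 1631 Q1631 (allL N1631 (tt N1631 F1098) (tt N3249 (iv F2859)) (tt N808 (iv F2048)) (tt N743 (iv D1845)) (tt N760 F2045))
theorem Q1633 : ∀ i, i < 1633 → P i := stepQ 1632 Q1632 (allL N1632 (tt N3238 (iv F2850)) (tt N744 (iv D1846)) (tt N1235 F1100) (tt N3250 D3841) (tt N1229 (iv F1101)))
theorem Q1634 : ∀ i, i < 1634 → P i := stepQ 1633 Q1633 (allL N1633 (tt N3251 D3842) (tt N3252 D3843) (tt N744 (iv D1847)) (tt N3253 D3844) (tt N3254 D3845))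
theorem Q1635 : ∀ i, i < 1635 → P i := stepQ 1634 Q1634 (allL N1634 (tt N3255 D3846) (tt N3250 (iv F2863)) (tt N3253 (iv F2869)) (tt N744 (iv D1848)) (tt N3256 D3847))
theorem Q1636 : ∀ i, i < 1636 → P i := stepQ 1635 Q1635 (allL N1635 (tt N747 F1102) (tt N1229 F1103) (tt N3257 D3848) (tt N3258 D3849) (tt N744 (iv D1849)))
theorem Q1637 : ∀ i, i < 1637 → P i := stepQ 1636 Q1636 (allL N1636 (tt N745 (iv D1850)) (tt N3259 D3850) (tt N3260 D3851) (tt N3261 D3852) (tt N3262 D3853))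
theorem Q1638 : ∀ i, i < 1638 → P i := stepQ 1637 Q1637 (allL N1637 (tt N3263 D3854) (tt N3126 (iv F2711)) (tt N746 F1104) (tt N745 (iv D1851)) (tt N3264 D3855))
theorem Q1639 : ∀ i, i < 1639 → P i := stepQ 1638 Q1638 (allL N1638 (tt N3262 (iv F2881)) (tt N2631 (iv F2809)) (tt N3265 D3856) (tt N755 (iv F4845)) (tt N745 (iv D1852)))
theorem Q1640 : ∀ i, i < 1640 → P i := stepQ 1639 Q1639 (allL N1639 (tt N746 (iv D1853)) (tt N3266 D3858) (tt N3267 D3859) (tt N3268 D3860) (tt N3269 D3861))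
theorem Q1641 : ∀ i, i < 1641 → P i := stepQ 1640 Q1640 (allL N1640 (tt N3269 (iv F2887)) (tt N748 F1105) (tt N3270 D3862) (tt N757 F2064) (tt N746 (iv D1854)))
theorem Q1642 : ∀ i, i < 1642 → P i := stepQ 1641 Q1641 (allL N1641 (tt N3271 D3863) (tt N2386 F4435) (tt N747 (iv D1855)) (tt N758 F2042) (tt N2384 (iv F4438)))
theorem Q1643 : ∀ i, i < 1643 → P i := stepQ 1642 Q1642 (allL N1642 (tt N3272 D3871) (tt N751 F1110) (tt N922 F1661) (tt N749 (iv D1862)) (tt N905 F1662))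
theorem Q1644 : ∀ i, i < 1644 → P i := stepQ 1643 Q1643 (allL N1643 (tt N750 (iv D1863)) (tt N1341 F1112) (tt N3273 D3872) (tt N3274 D3873) (tt N3275 D3874))
theorem Q1645 : ∀ i, i < 1645 → P i := stepQ 1644 Q1644 (allL N1644 (tt N3276 D3875) (tt N750 (iv D1864)) (tt N977 F1113) (tt N3277 D3876) (tt N966 (iv F1114)))
theorem Q1646 : ∀ i, i < 1646 → P i := stepQ 1645 Q1645 (allL N1645 (tt N3278 D3877) (tt N3277 (iv F2906)) (tt N751 F1115) (tt N750 (iv D1865)) (tt N3279 D3878))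
theorem Q1647 : ∀ i, i < 1647 → P i := stepQ 1646 Q1646 (allL N1646 (tt N3275 (iv F2901)) (tt N966 F1116) (tt N3280 D3879) (tt N3281 D3880) (tt N750 (iv D1866)))
theorem Q1648 : ∀ i, i < 1648 → P i := stepQ 1647 Q1647 (allL N1647 (tt N751 (iv D1867)) (tt N2152 (iv F1659)) (tt N3282 D3881) (tt N3283 D3882) (tt N3284 D3883))
theorem Q1649 : ∀ i, i < 1649 → P i := stepQ 1648 Q1648 (allL N1648 (tt N3284 (iv F2913)) (tt N905 F1664) (tt N3285 D3884) (tt N3269 (iv F2889)) (tt N751 (iv D1868)))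
theorem Q1650 : ∀ i, i < 1650 → P i := stepQ 1649 Q1649 (allL N1649 (tt N3286 D3885) (tt N3287 D3886) (tt N752 (iv D1869)) (tt N3288 D3887) (tt N3289 D3888))
theorem Q1651 : ∀ i, i < 1651 → P i := stepQ 1650 Q1650 (allL N1650 (tt N3290 D3889) (tt N907 F1117) (tt N3288 (iv F2916)) (tt N752 (iv D1870)) (tt N3268 (iv F2883)))
theorem Q1652 : ∀ i, i < 1652 → P i := stepQ 1651 Q1651 (allL N1651 (tt N3291 D3890) (tt N753 (iv D1871)) (tt N1282 F1118) (tt N3292 D3891) (tt N3293 D3892))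
theorem Q1653 : ∀ i, i < 1653 → P i := stepQ 1652 Q1652 (allL N1652 (tt N3273 (iv F2897)) (tt N2907 (iv F2476)) (tt N753 (iv D1872)) (tt N3294 D3893) (tt N3295 D3894))
theorem Q1654 : ∀ i, i < 1654 → P i := stepQ 1653 Q1653 (allL N1653 (tt N3282 (iv F2910)) (tt N3292 (iv F2920)) (tt N3294 (iv F2924)) (tt N753 (iv D1873)) (tt N3296 D3895))
theorem Q1655 : ∀ i, i < 1655 → P i := stepQ 1654 Q1654 (allL N1654 (tt N755 F1119) (tt N3293 (iv F2922)) (tt N3297 D3896) (tt N3298 D3897) (tt N753 (iv D1874)))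
theorem Q1656 : ∀ i, i < 1656 → P i := stepQ 1655 Q1655 (allL N1655 (tt N754 (iv D1875)) (tt N3299 D3898) (tt N3300 D3899) (tt N3301 D3900) (tt N3302 D3901))
theorem Q1657 : ∀ i, i < 1657 → P i := stepQ 1656 Q1656 (allL N1656 (tt N3302 (iv F2927)) (tt N2688 (iv F4736)) (tt N3303 D3902) (tt N3264 (iv F4849)) (tt N754 (iv D1876)))
theorem Q1658 : ∀ i, i < 1658 → P i := stepQ 1657 Q1657 (allL N1657 (tt N3280 (iv F2908)) (tt N2499 (iv F2000)) (tt N755 (iv D1877)) (tt N3265 (iv F4844)) (tt N2389 (iv F1896)))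
theorem Q1659 : ∀ i, i < 1659 → P i := stepQ 1658 Q1658 (allL N1658 (tt N3304 D3907) (tt N756 (iv D1879)) (tt N1317 F3396) (tt N3305 D3909) (tt N3306 D3910))
theorem Q1660 : ∀ i, i < 1660 → P i := stepQ 1659 Q1659 (allL N1659 (tt N3274 (iv F2900)) (tt N3307 D3911) (tt N756 (iv D1880)) (tt N3308 D3912) (tt N3309 D3913))
theorem Q1661 : ∀ i, i < 1661 → P i := stepQ 1660 Q1660 (allL N1660 (tt N3283 (iv F2911)) (tt N3305 (iv F2930)) (tt N3308 (iv F2936)) (tt N756 (iv D1881)) (tt N3258 (iv F2879)))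
theorem Q1662 : ∀ i, i < 1662 → P i := stepQ 1661 Q1661 (allL N1661 (tt N757 F1120) (tt N3306 (iv F2933)) (tt N3310 D3914) (tt N3256 (iv F2877)) (tt N756 (iv D1882)))
theorem Q1663 : ∀ i, i < 1663 → P i := stepQ 1662 Q1662 (allL N1662 (tt N3311 D3915) (tt N2392 F5734) (tt N757 (iv D1883)) (tt N3270 (iv F2890)) (tt N2390 (iv F5735)))
theorem Q1664 : ∀ i, i < 1664 → P i := stepQ 1663 Q1663 (allL N1663 (tt N758 (iv D1885)) (tt N1072 F1357) (tt N3295 (iv F2925)) (tt N3312 D3918) (tt N2388 (iv F1893)))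
theorem Q1665 : ∀ i, i < 1665 → P i := stepQ 1664 Q1664 (allL N1664 (tt N759 (iv D1891)) (tt N3304 (iv F2929)) (tt N3313 D3919) (tt N3314 D3920) (tt N3315 D3921))
theorem Q1666 : ∀ i, i < 1666 → P i := stepQ 1665 Q1665 (allL N1665 (tt N3316 D3922) (tt N3317 D3923) (tt N759 (iv D1892)) (tt N3318 D3924) (tt N3319 D3925))
theorem Q1667 : ∀ i, i < 1667 → P i := stepQ 1666 Q1666 (allL N1666 (tt N3320 D3926) (tt N760 F1125) (tt N3318 (iv F2940)) (tt N759 (iv D1893)) (tt N3249 (iv F2860)))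
theorem Q1668 : ∀ i, i < 1668 → P i := stepQ 1667 Q1667 (allL N1667 (tt N3315 (iv F2938)) (tt N761 F1126) (tt N3321 D3927) (tt N3247 F2858) (tt N759 (iv D1894)))
theorem Q1669 : ∀ i, i < 1669 → P i := stepQ 1668 Q1668 (allL N1668 (tt N3322 D3936) (tt N3323 D3937) (tt N762 (iv D1906)) (tt N3163 (iv F2760)) (tt N3324 D3938))
theorem Q1670 : ∀ i, i < 1670 → P i := stepQ 1669 Q1669 (allL N1669 (tt N764 F1138) (tt N3149 (iv F2745)) (tt N3325 D3939) (tt N3169 (iv F2762)) (tt N762 (iv D1907)))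
theorem Q1671 : ∀ i, i < 1671 → P i := stepQ 1670 Q1670 (allL N1670 (tt N763 (iv D1908)) (tt N3326 D3940) (tt N3327 D3941) (tt N3328 D3942) (tt N3329 D3943))
theorem Q1672 : ∀ i, i < 1672 → P i := stepQ 1671 Q1671 (allL N1671 (tt N3330 D3944) (tt N763 (iv D1909)) (tt N3331 D3945) (tt N3194 (iv F2814)) (tt N3332 D3946))
theorem Q1673 : ∀ i, i < 1673 → P i := stepQ 1672 Q1672 (allL N1672 (tt N3329 (iv F2948)) (tt N3332 (iv F2952)) (tt N3333 D3947) (tt N3204 (iv F6079)) (tt N763 (iv D1910)))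
theorem Q1674 : ∀ i, i < 1674 → P i := stepQ 1673 Q1673 (allL N1673 (tt N3334 D3949) (tt N3335 D3950) (tt N764 (iv D1911)) (tt N3190 (iv F6072)) (tt N3185 (iv F6067)))
theorem Q1675 : ∀ i, i < 1675 → P i := stepQ 1674 Q1674 (allL N1674 (tt N765 (iv D1912)) (tt N3336 D3952) (tt N3337 D3953) (tt N3338 D3954) (tt N3339 D3955))
theorem Q1676 : ∀ i, i < 1676 → P i := stepQ 1675 Q1675 (allL N1675 (tt N3340 D3956) (tt N3331 (iv F2951)) (tt N765 (iv D1913)) (tt N3226 (iv F2839)) (tt N3341 D3957))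
theorem Q1677 : ∀ i, i < 1677 → P i := stepQ 1676 Q1676 (allL N1676 (tt N3339 (iv F2954)) (tt N766 F1139) (tt N3342 D3958) (tt N3236 (iv F2846)) (tt N765 (iv D1914)))
theorem Q1678 : ∀ i, i < 1678 → P i := stepQ 1677 Q1677 (allL N1677 (tt N3343 D3959) (tt N767 (iv D1916)) (tt N3344 D3960) (tt N3224 (iv F3388)) (tt N873 (iv F3389)))
theorem Q1679 : ∀ i, i < 1679 → P i := stepQ 1678 Q1678 (allL N1678 (tt N777 F1147) (tt N1178 F1148) (tt N768 (iv D1925)) (tt N3345 D3978) (tt N3346 D3979))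
theorem Q1680 : ∀ i, i < 1680 → P i := stepQ 1679 Q1679 (allL N1679 (tt N786 F1149) (tt N3157 (iv F2753)) (tt N3345 (iv F2965)) (tt N768 (iv D1926)) (tt N3347 D3980))
theorem Q1681 : ∀ i, i < 1681 → P i := stepQ 1680 Q1680 (allL N1680 (tt N771 F1150) (tt N3158 (iv F2755)) (tt N3348 D3981) (tt N3349 D3982) (tt N768 (iv D1927)))
theorem Q1682 : ∀ i, i < 1682 → P i := stepQ 1681 Q1681 (allL N1681 (tt N1131 (iv F1224)) (tt N1508 F1225) (tt N769 (iv D1928)) (tt N3350 D3983) (tt N3351 D3984))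
theorem Q1683 : ∀ i, i < 1683 → P i := stepQ 1682 Q1682 (allL N1682 (tt N2580 (iv F2132)) (tt N770 F1151) (tt N3350 (iv F2975)) (tt N769 (iv D1929)) (tt N3352 D3985))
theorem Q1684 : ∀ i, i < 1684 → P i := stepQ 1683 Q1683 (allL N1683 (tt N2570 (iv F2126)) (tt N771 F1152) (tt N3353 D3986) (tt N3354 D3987) (tt N769 (iv D1930)))
theorem Q1685 : ∀ i, i < 1685 → P i := stepQ 1684 Q1684 (allL N1684 (tt N770 (iv D1931)) (tt N1331 F1651) (tt N3355 D3988) (tt N1978 (iv F1539)) (tt N3356 D3989))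
theorem Q1686 : ∀ i, i < 1686 → P i := stepQ 1685 Q1685 (allL N1685 (tt N3356 (iv F2983)) (tt N3352 (iv F2978)) (tt N3357 D3990) (tt N3358 D3991) (tt N770 (iv D1932)))
theorem Q1687 : ∀ i, i < 1687 → P i := stepQ 1686 Q1686 (allL N1686 (tt N784 F1153) (tt N3359 D3992) (tt N771 (iv D1933)) (tt N3360 D3993) (tt N3361 D3994))
theorem Q1688 : ∀ i, i < 1688 → P i := stepQ 1687 Q1687 (allL N1687 (tt N3362 D3995) (tt N3354 (iv F2979)) (tt N3360 (iv F2987)) (tt N771 (iv D1934)) (tt N3363 D3996))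
theorem Q1689 : ∀ i, i < 1689 → P i := stepQ 1688 Q1688 (allL N1688 (tt N778 F1155) (tt N3364 D3997) (tt N772 (iv D1936)) (tt N1976 (iv F1538)) (tt N3365 D3998))
theorem Q1690 : ∀ i, i < 1690 → P i := stepQ 1689 Q1689 (allL N1689 (tt N773 F1157) (tt N2147 (iv F1653)) (tt N3366 D3999) (tt N2018 (iv F1540)) (tt N772 (iv D1938)))
theorem Q1691 : ∀ i, i < 1691 → P i := stepQ 1690 Q1690 (allL N1690 (tt N3367 D4000) (tt N3368 D4001) (tt N773 (iv D1939)) (tt N874 F1158) (tt N3369 D4002))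
theorem Q1692 : ∀ i, i < 1692 → P i := stepQ 1691 Q1691 (allL N1691 (tt N774 (iv D1940)) (tt N3370 D4003) (tt N3346 (iv F2969)) (tt N3371 D4004) (tt N3372 D4005))
theorem Q1693 : ∀ i, i < 1693 → P i := stepQ 1692 Q1692 (allL N1692 (tt N2596 (iv F2140)) (tt N774 (iv D1941)) (tt N3373 D4006) (tt N3374 D4007) (tt N3375 D4008))
theorem Q1694 : ∀ i, i < 1694 → P i := stepQ 1693 Q1693 (allL N1693 (tt N3376 D4009) (tt N3374 (iv F2997)) (tt N775 F1159) (tt N774 (iv D1942)) (tt N3377 D4010))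
theorem Q1695 : ∀ i, i < 1695 → P i := stepQ 1694 Q1694 (allL N1694 (tt N3372 (iv F2996)) (tt N3375 (iv F2998)) (tt N3361 (iv F2990)) (tt N3369 (iv F6584)) (tt N774 (iv D1943)))
theorem Q1696 : ∀ i, i < 1696 → P i := stepQ 1695 Q1695 (allL N1695 (tt N775 (iv D1944)) (tt N2149 (iv F1656)) (tt N3378 D4012) (tt N1977 (iv F1536)) (tt N3379 D4013))
theorem Q1697 : ∀ i, i < 1697 → P i := stepQ 1696 Q1696 (allL N1696 (tt N3379 (iv F3000)) (tt N2530 (iv F2024)) (tt N3363 (iv F4709)) (tt N875 F1160) (tt N775 (iv D1945)))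
theorem Q1698 : ∀ i, i < 1698 → P i := stepQ 1697 Q1697 (allL N1697 (tt N2261 (iv F1771)) (tt N3054 (iv F2642)) (tt N776 (iv D1947)) (tt N2240 (iv F1746)) (tt N3380 D4015))
theorem Q1699 : ∀ i, i < 1699 → P i := stepQ 1698 Q1698 (allL N1698 (tt N2275 (iv F1791)) (tt N779 F1162) (tt N3381 D4016) (tt N2248 (iv F1753)) (tt N776 (iv D1949)))
theorem Q1700 : ∀ i, i < 1700 → P i := stepQ 1699 Q1699 (allL N1699 (tt N941 F1163) (tt N777 (iv D1950)) (tt N1399 (iv F1167)) (tt N3382 D4017) (tt N3383 D4018))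
theorem Q1701 : ∀ i, i < 1701 → P i := stepQ 1700 Q1700 (allL N1700 (tt N3355 (iv F2980)) (tt N3382 (iv F3003)) (tt N778 F1168) (tt N777 (iv D1951)) (tt N3384 D4019))
theorem Q1702 : ∀ i, i < 1702 → P i := stepQ 1701 Q1701 (allL N1701 (tt N3346 (iv F2967)) (tt N3383 (iv F3006)) (tt N789 F1169) (tt N3385 D4020) (tt N777 (iv D1952)))
theorem Q1703 : ∀ i, i < 1703 → P i := stepQ 1702 Q1702 (allL N1702 (tt N3365 (iv F2991)) (tt N2241 (iv F1749)) (tt N3386 D4021) (tt N3387 D4022) (tt N778 (iv D1953)))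
theorem Q1704 : ∀ i, i < 1704 → P i := stepQ 1703 Q1703 (allL N1703 (tt N3348 (iv F2973)) (tt N3388 D4023) (tt N779 (iv D1954)) (tt N3389 D4024) (tt N3390 D4025))
theorem Q1705 : ∀ i, i < 1705 → P i := stepQ 1704 Q1704 (allL N1704 (tt N3391 D4026) (tt N2248 F1754) (tt N3389 (iv F3014)) (tt N779 (iv D1955)) (tt N3392 D4027))
theorem Q1706 : ∀ i, i < 1706 → P i := stepQ 1705 Q1705 (allL N1705 (tt N2380 (iv F1886)) (tt N801 F1170) (tt N3393 D4028) (tt N2374 (iv F1878)) (tt N780 (iv D1956)))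
theorem Q1707 : ∀ i, i < 1707 → P i := stepQ 1706 Q1706 (allL N1706 (tt N2433 (iv F1938)) (tt N3394 D4029) (tt N781 (iv D1957)) (tt N2365 (iv F1868)) (tt N3395 D4030))
theorem Q1708 : ∀ i, i < 1708 → P i := stepQ 1707 Q1707 (allL N1707 (tt N2324 (iv F1823)) (tt N782 (iv D1958)) (tt N3396 D4031) (tt N2443 F1947) (tt N3397 D4032))
theorem Q1709 : ∀ i, i < 1709 → P i := stepQ 1708 Q1708 (allL N1708 (tt N3345 (iv F2966)) (tt N3398 D4033) (tt N782 (iv D1959)) (tt N3399 D4034) (tt N3400 D4035))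
theorem Q1710 : ∀ i, i < 1710 → P i := stepQ 1709 Q1709 (allL N1709 (tt N1976 F1542) (tt N2443 (iv F1946)) (tt N3399 (iv F3023)) (tt N782 (iv D1960)) (tt N3401 D4036))
theorem Q1711 : ∀ i, i < 1711 → P i := stepQ 1710 Q1710 (allL N1710 (tt N783 F1171) (tt N3397 (iv F3017)) (tt N3402 D4037) (tt N3403 D4038) (tt N782 (iv D1961)))
theorem Q1712 : ∀ i, i < 1712 → P i := stepQ 1711 Q1711 (allL N1711 (tt N3404 D4039) (tt N3405 D4040) (tt N783 (iv D1962)) (tt N3406 D4041) (tt N3407 D4042))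
theorem Q1713 : ∀ i, i < 1713 → P i := stepQ 1712 Q1712 (allL N1712 (tt N3387 (iv F3011)) (tt N2350 (iv F1853)) (tt N3406 (iv F3031)) (tt N783 (iv D1963)) (tt N879 F2211))
theorem Q1714 : ∀ i, i < 1714 → P i := stepQ 1713 Q1713 (allL N1713 (tt N1195 (iv F1182)) (tt N784 (iv D1964)) (tt N3408 D4043) (tt N3409 D4044) (tt N1192 (iv F1185)))
theorem Q1715 : ∀ i, i < 1715 → P i := stepQ 1714 Q1714 (allL N1714 (tt N3410 D4045) (tt N3409 (iv F3038)) (tt N785 F1200) (tt N784 (iv D1965)) (tt N3411 D4046))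
theorem Q1716 : ∀ i, i < 1716 → P i := stepQ 1715 Q1715 (allL N1715 (tt N3361 (iv F2988)) (tt N1192 F1201) (tt N792 F1202) (tt N3407 F3035) (tt N784 (iv D1966)))
theorem Q1717 : ∀ i, i < 1717 → P i := stepQ 1716 Q1716 (allL N1716 (tt N785 (iv D1967)) (tt N3412 D4047) (tt N3413 D4048) (tt N3401 (iv F3025)) (tt N3414 D4049))
theorem Q1718 : ∀ i, i < 1718 → P i := stepQ 1717 Q1717 (allL N1717 (tt N3414 (iv F3043)) (tt N2366 (iv F1871)) (tt N794 F2206) (tt N879 F2207) (tt N785 (iv D1968)))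
theorem Q1719 : ∀ i, i < 1719 → P i := stepQ 1718 Q1718 (allL N1718 (tt N3347 (iv F2972)) (tt N2056 (iv F1557)) (tt N3404 (iv F3026)) (tt N3415 D4050) (tt N786 (iv D1974)))
theorem Q1720 : ∀ i, i < 1720 → P i := stepQ 1719 Q1719 (allL N1719 (tt N3416 D4051) (tt N2203 (iv F1717)) (tt N787 (iv D1976)) (tt N2019 F1543) (tt N3417 D4052))
theorem Q1721 : ∀ i, i < 1721 → P i := stepQ 1720 Q1720 (allL N1720 (tt N788 (iv D1978)) (tt N3418 D4053) (tt N3400 (iv F3024)) (tt N3419 D4054) (tt N3420 D4055))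
theorem Q1722 : ∀ i, i < 1722 → P i := stepQ 1721 Q1721 (allL N1721 (tt N3420 (iv F3045)) (tt N2673 (iv F2258)) (tt N3407 (iv F3034)) (tt N792 F2260) (tt N788 (iv D1979)))
theorem Q1723 : ∀ i, i < 1723 → P i := stepQ 1722 Q1722 (allL N1722 (tt N3421 D4056) (tt N789 (iv D1980)) (tt N3422 D4057) (tt N3423 D4058) (tt N3424 D4059))
theorem Q1724 : ∀ i, i < 1724 → P i := stepQ 1723 Q1723 (allL N1723 (tt N3378 (iv F2999)) (tt N3423 (iv F3046)) (tt N3385 (iv F3010)) (tt N789 (iv D1981)) (tt N3425 D4060))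
theorem Q1725 : ∀ i, i < 1725 → P i := stepQ 1724 Q1724 (allL N1724 (tt N792 F1208) (tt N3424 (iv F3047)) (tt N3390 (iv F3015)) (tt N3426 D4061) (tt N789 (iv D1982)))
theorem Q1726 : ∀ i, i < 1726 → P i := stepQ 1725 Q1725 (allL N1725 (tt N2627 (iv F2217)) (tt N811 F1209) (tt N790 (iv D1983)) (tt N3427 D4062) (tt N3428 D4063))
theorem Q1727 : ∀ i, i < 1727 → P i := stepQ 1726 Q1726 (allL N1726 (tt N2634 (iv F2222)) (tt N791 F1210) (tt N3427 (iv F3051)) (tt N790 (iv D1984)) (tt N2678 (iv F2273)))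
theorem Q1728 : ∀ i, i < 1728 → P i := stepQ 1727 Q1727 (allL N1727 (tt N2622 (iv F2162)) (tt N792 F1211) (tt N3429 D4064) (tt N2673 (iv F2259)) (tt N790 (iv D1985)))
theorem Q1729 : ∀ i, i < 1729 → P i := stepQ 1728 Q1728 (allL N1728 (tt N791 (iv D1986)) (tt N3430 D4065) (tt N3431 D4066) (tt N3432 D4067) (tt N3433 D4068))
theorem Q1730 : ∀ i, i < 1730 → P i := stepQ 1729 Q1729 (allL N1729 (tt N3433 (iv F3053)) (tt N2678 F2274) (tt N3411 (iv F3041)) (tt N878 F2261) (tt N791 (iv D1987)))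
theorem Q1731 : ∀ i, i < 1731 → P i := stepQ 1730 Q1730 (allL N1730 (tt N3371 (iv F2995)) (tt N3434 D4069) (tt N793 (iv D1990)) (tt N1981 (iv F1537)) (tt N3435 D4070))
theorem Q1732 : ∀ i, i < 1732 → P i := stepQ 1731 Q1731 (allL N1731 (tt N794 F1213) (tt N1993 F1534) (tt N3436 D4071) (tt N2020 (iv F1535)) (tt N793 (iv D1991)))
theorem Q1733 : ∀ i, i < 1733 → P i := stepQ 1732 Q1732 (allL N1732 (tt N1531 F1215) (tt N2519 (iv F2015)) (tt N795 (iv D1993)) (tt N3437 D4072) (tt N3438 D4073))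
theorem Q1734 : ∀ i, i < 1734 → P i := stepQ 1733 Q1733 (allL N1733 (tt N1532 F1645) (tt N797 F1216) (tt N3437 (iv F3056)) (tt N795 (iv D1994)) (tt N3439 D4074))
theorem Q1735 : ∀ i, i < 1735 → P i := stepQ 1734 Q1734 (allL N1734 (tt N1369 F1217) (tt N798 F1218) (tt N3440 D4075) (tt N3441 D4076) (tt N795 (iv D1995)))
theorem Q1736 : ∀ i, i < 1736 → P i := stepQ 1735 Q1735 (allL N1735 (tt N796 (iv D1996)) (tt N2465 F1967) (tt N3060 (iv F2649)) (tt N3442 D4077) (tt N3443 D4078))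
theorem Q1737 : ∀ i, i < 1737 → P i := stepQ 1736 Q1736 (allL N1736 (tt N2567 (iv F2121)) (tt N796 (iv D1997)) (tt N2401 (iv F1968)) (tt N3444 D4079) (tt N3445 D4080))
theorem Q1738 : ∀ i, i < 1738 → P i := stepQ 1737 Q1737 (allL N1737 (tt N3446 D4081) (tt N3444 (iv F3067)) (tt N797 F1219) (tt N796 (iv D1998)) (tt N3447 D4082))
theorem Q1739 : ∀ i, i < 1739 → P i := stepQ 1738 Q1738 (allL N1738 (tt N3443 (iv F3065)) (tt N3445 (iv F3068)) (tt N3448 D4083) (tt N3449 D4084) (tt N796 (iv D1999)))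
theorem Q1740 : ∀ i, i < 1740 → P i := stepQ 1739 Q1739 (allL N1739 (tt N797 (iv D2000)) (tt N1003 (iv F1541)) (tt N3450 D4085) (tt N3451 D4086) (tt N3452 D4087))
theorem Q1741 : ∀ i, i < 1741 → P i := stepQ 1740 Q1740 (allL N1740 (tt N3452 (iv F3074)) (tt N3439 (iv F3059)) (tt N3453 D4088) (tt N1428 F1220) (tt N797 (iv D2001)))
theorem Q1742 : ∀ i, i < 1742 → P i := stepQ 1741 Q1741 (allL N1741 (tt N3454 D4089) (tt N3455 D4090) (tt N798 (iv D2002)) (tt N3456 D4091) (tt N3457 D4092))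
theorem Q1743 : ∀ i, i < 1743 → P i := stepQ 1742 Q1742 (allL N1742 (tt N3458 D4093) (tt N3441 (iv F3063)) (tt N3456 (iv F3077)) (tt N798 (iv D2003)) (tt N3459 D4094))
theorem Q1744 : ∀ i, i < 1744 → P i := stepQ 1743 Q1743 (allL N1743 (tt N1224 F1221) (tt N799 (iv D2004)) (tt N2448 F1954) (tt N1945 (iv F1429)) (tt N3460 D4095))
theorem Q1745 : ∀ i, i < 1745 → P i := stepQ 1744 Q1744 (allL N1744 (tt N3450 (iv F3071)) (tt N1945 F1430) (tt N3061 (iv F2651)) (tt N799 (iv D2005)) (tt N3461 D4096))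
theorem Q1746 : ∀ i, i < 1746 → P i := stepQ 1745 Q1745 (allL N1745 (tt N801 F1227) (tt N3460 (iv F3080)) (tt N3462 D4097) (tt N3463 D4098) (tt N799 (iv D2006)))
theorem Q1747 : ∀ i, i < 1747 → P i := stepQ 1746 Q1746 (allL N1746 (tt N800 (iv D2007)) (tt N3464 D4099) (tt N3465 D4100) (tt N3466 D4101) (tt N3467 D4102))
theorem Q1748 : ∀ i, i < 1748 → P i := stepQ 1747 Q1747 (allL N1747 (tt N3467 (iv F3081)) (tt N2348 (iv F1851)) (tt N3468 D4103) (tt N3469 D4104) (tt N800 (iv D2008)))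
theorem Q1749 : ∀ i, i < 1749 → P i := stepQ 1748 Q1748 (allL N1748 (tt N3448 (iv F3070)) (tt N3470 D4105) (tt N801 (iv D2009)) (tt N3471 D4106) (tt N3472 D4107))
theorem Q1750 : ∀ i, i < 1750 → P i := stepQ 1749 Q1749 (allL N1749 (tt N3473 D4108) (tt N2374 F1879) (tt N3471 (iv F3090)) (tt N801 (iv D2010)) (tt N3474 D4109))
theorem Q1751 : ∀ i, i < 1751 → P i := stepQ 1750 Q1750 (allL N1750 (tt N1434 (iv F1566)) (tt N802 (iv D2011)) (tt N3475 D4110) (tt N1325 (iv F1568)) (tt N3476 D4111))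
theorem Q1752 : ∀ i, i < 1752 → P i := stepQ 1751 Q1751 (allL N1751 (tt N3442 (iv F3064)) (tt N2953 (iv F2527)) (tt N802 (iv D2012)) (tt N3477 D4112) (tt N3478 D4113))
theorem Q1753 : ∀ i, i < 1753 → P i := stepQ 1752 Q1752 (allL N1752 (tt N3451 (iv F3072)) (tt N1325 F1569) (tt N3477 (iv F3100)) (tt N802 (iv D2013)) (tt N3479 D4114))
theorem Q1754 : ∀ i, i < 1754 → P i := stepQ 1753 Q1753 (allL N1753 (tt N803 F1229) (tt N3476 (iv F3098)) (tt N3480 D4115) (tt N3481 D4116) (tt N802 (iv D2014)))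
theorem Q1755 : ∀ i, i < 1755 → P i := stepQ 1754 Q1754 (allL N1754 (tt N3482 D4117) (tt N3136 (iv F2727)) (tt N803 (iv D2015)) (tt N1429 F1230) (tt N3483 D4118))
theorem Q1756 : ∀ i, i < 1756 → P i := stepQ 1755 Q1755 (allL N1755 (tt N804 (iv D2016)) (tt N3484 D4119) (tt N3062 (iv F2653)) (tt N3485 D4120) (tt N3486 D4121))
theorem Q1757 : ∀ i, i < 1757 → P i := stepQ 1756 Q1756 (allL N1756 (tt N3124 (iv F2709)) (tt N804 (iv D2017)) (tt N3243 (iv F2855)) (tt N3487 D4122) (tt N3429 (iv F3094)))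
theorem Q1758 : ∀ i, i < 1758 → P i := stepQ 1757 Q1757 (allL N1757 (tt N3488 D4123) (tt N3487 (iv F3105)) (tt N805 F1231) (tt N804 (iv D2018)) (tt N3489 D4124))
theorem Q1759 : ∀ i, i < 1759 → P i := stepQ 1758 Q1758 (allL N1758 (tt N3486 (iv F3104)) (tt N3429 F3093) (tt N3472 (iv F3092)) (tt N3483 (iv F4994)) (tt N804 (iv D2019)))
theorem Q1760 : ∀ i, i < 1760 → P i := stepQ 1759 Q1759 (allL N1759 (tt N805 (iv D2020)) (tt N3490 D4126) (tt N3491 D4127) (tt N3479 (iv F3102)) (tt N3492 D4128))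
theorem Q1761 : ∀ i, i < 1761 → P i := stepQ 1760 Q1760 (allL N1760 (tt N3492 (iv F3108)) (tt N806 F1232) (tt N3474 (iv F5293)) (tt N883 F3385) (tt N805 (iv D2021)))
theorem Q1762 : ∀ i, i < 1762 → P i := stepQ 1761 Q1761 (allL N1761 (tt N807 (iv D2022)) (tt N3493 D4130) (tt N3494 D4131) (tt N3495 D4132) (tt N3496 D4133))
theorem Q1763 : ∀ i, i < 1763 → P i := stepQ 1762 Q1762 (allL N1762 (tt N3497 D4134) (tt N2672 (iv F2254)) (tt N807 (iv D2023)) (tt N881 F1234) (tt N3498 D4135))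
theorem Q1764 : ∀ i, i < 1764 → P i := stepQ 1763 Q1763 (allL N1763 (tt N3496 (iv F3110)) (tt N808 F1235) (tt N3499 D4136) (tt N813 F2054) (tt N807 (iv D2024)))
theorem Q1765 : ∀ i, i < 1765 → P i := stepQ 1764 Q1764 (allL N1764 (tt N809 (iv D2025)) (tt N3500 D4137) (tt N2592 (iv F2139)) (tt N3501 D4138) (tt N1844 (iv F2086)))
theorem Q1766 : ∀ i, i < 1766 → P i := stepQ 1765 Q1765 (allL N1765 (tt N3502 D4139) (tt N3503 D4140) (tt N809 (iv D2026)) (tt N1813 (iv F1262)) (tt N1834 F4868))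
theorem Q1767 : ∀ i, i < 1767 → P i := stepQ 1766 Q1766 (allL N1766 (tt N3500 (iv F3112)) (tt N810 (iv D2028)) (tt N3504 D4142) (tt N3505 D4143) (tt N3506 D4144))
theorem Q1768 : ∀ i, i < 1768 → P i := stepQ 1767 Q1767 (allL N1767 (tt N3507 D4145) (tt N3508 D4146) (tt N810 (iv D2029)) (tt N3509 D4147) (tt N3510 D4148))
theorem Q1769 : ∀ i, i < 1769 → P i := stepQ 1768 Q1768 (allL N1768 (tt N3511 D4149) (tt N3505 (iv F3116)) (tt N3509 (iv F3119)) (tt N810 (iv D2030)) (tt N3512 D4150))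
theorem Q1770 : ∀ i, i < 1770 → P i := stepQ 1769 Q1769 (allL N1769 (tt N813 F1237) (tt N3506 (iv F3117)) (tt N3513 D4151) (tt N3514 D4152) (tt N810 (iv D2031)))
theorem Q1771 : ∀ i, i < 1771 → P i := stepQ 1770 Q1770 (allL N1770 (tt N811 (iv D2032)) (tt N3515 D4153) (tt N3516 D4154) (tt N3517 D4155) (tt N3518 D4156))
theorem Q1772 : ∀ i, i < 1772 → P i := stepQ 1771 Q1771 (allL N1771 (tt N3519 D4157) (tt N3427 (iv F3050)) (tt N812 F1238) (tt N811 (iv D2033)) (tt N3520 D4158))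
theorem Q1773 : ∀ i, i < 1773 → P i := stepQ 1772 Q1772 (allL N1772 (tt N3518 (iv F3123)) (tt N3428 (iv F3052)) (tt N3521 D4159) (tt N3498 (iv F4988)) (tt N811 (iv D2034)))
theorem Q1774 : ∀ i, i < 1774 → P i := stepQ 1773 Q1773 (allL N1773 (tt N812 (iv D2035)) (tt N3522 D4161) (tt N3523 D4162) (tt N3524 D4163) (tt N3525 D4164))
theorem Q1775 : ∀ i, i < 1775 → P i := stepQ 1774 Q1774 (allL N1774 (tt N3525 (iv F3124)) (tt N814 F1239) (tt N3526 D4165) (tt N882 F2070) (tt N812 (iv D2036)))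
theorem Q1776 : ∀ i, i < 1776 → P i := stepQ 1775 Q1775 (allL N1775 (tt N3527 D4166) (tt N3395 (iv F4375)) (tt N813 (iv D2037)) (tt N3499 (iv F3111)) (tt N3394 (iv F4377)))
theorem Q1777 : ∀ i, i < 1777 → P i := stepQ 1776 Q1776 (allL N1776 (tt N821 F1243) (tt N815 (iv D2044)) (tt N3528 D4175) (tt N3529 D4176) (tt N3530 D4177))
theorem Q1778 : ∀ i, i < 1778 → P i := stepQ 1777 Q1777 (allL N1777 (tt N3370 (iv F2994)) (tt N3531 D4178) (tt N815 (iv D2045)) (tt N2176 (iv F3813)) (tt N3532 D4180))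
theorem Q1779 : ∀ i, i < 1779 → P i := stepQ 1778 Q1778 (allL N1778 (tt N3533 D4181) (tt N3529 (iv F3133)) (tt N2176 (iv F3812)) (tt N815 (iv D2046)) (tt N3534 D4182))
theorem Q1780 : ∀ i, i < 1780 → P i := stepQ 1779 Q1779 (allL N1779 (tt N818 F1244) (tt N3530 (iv F3135)) (tt N3535 D4183) (tt N3536 D4184) (tt N815 (iv D2047)))
theorem Q1781 : ∀ i, i < 1781 → P i := stepQ 1780 Q1780 (allL N1780 (tt N816 (iv D2048)) (tt N3537 D4185) (tt N3538 D4186) (tt N3539 D4187) (tt N3540 D4188))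
theorem Q1782 : ∀ i, i < 1782 → P i := stepQ 1781 Q1781 (allL N1781 (tt N3541 D4189) (tt N816 (iv D2049)) (tt N3220 (iv F2835)) (tt N3542 D4190) (tt N3543 D4191))
theorem Q1783 : ∀ i, i < 1783 → P i := stepQ 1782 Q1782 (allL N1782 (tt N3544 D4192) (tt N3542 (iv F3145)) (tt N817 F1245) (tt N816 (iv D2050)) (tt N3545 D4193))
theorem Q1784 : ∀ i, i < 1784 → P i := stepQ 1783 Q1783 (allL N1783 (tt N3540 (iv F3142)) (tt N3543 (iv F3146)) (tt N3546 D4194) (tt N3547 D4195) (tt N816 (iv D2051)))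
theorem Q1785 : ∀ i, i < 1785 → P i := stepQ 1784 Q1784 (allL N1784 (tt N817 (iv D2052)) (tt N3548 D4196) (tt N3549 D4197) (tt N3550 D4198) (tt N3551 D4199))
theorem Q1786 : ∀ i, i < 1786 → P i := stepQ 1785 Q1785 (allL N1785 (tt N3551 (iv F3148)) (tt N819 F1246) (tt N3552 D4200) (tt N872 F2073) (tt N817 (iv D2053)))
theorem Q1787 : ∀ i, i < 1787 → P i := stepQ 1786 Q1786 (allL N1786 (tt N3553 D4201) (tt N3554 D4202) (tt N818 (iv D2054)) (tt N3555 D4203) (tt N3556 D4204))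
theorem Q1788 : ∀ i, i < 1788 → P i := stepQ 1787 Q1787 (allL N1787 (tt N3557 D4205) (tt N820 F1247) (tt N3555 (iv F3150)) (tt N818 (iv D2055)) (tt N871 F2055))
theorem Q1789 : ∀ i, i < 1789 → P i := stepQ 1788 Q1788 (allL N1788 (tt N3558 D4208) (tt N2558 (iv F2109)) (tt N821 (iv D2059)) (tt N3559 D4209) (tt N1537 F1251))
theorem Q1790 : ∀ i, i < 1790 → P i := stepQ 1789 Q1789 (allL N1789 (tt N3560 D4210) (tt N823 F1252) (tt N3559 (iv F3162)) (tt N821 (iv D2060)) (tt N3561 D4211))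
theorem Q1791 : ∀ i, i < 1791 → P i := stepQ 1790 Q1790 (allL N1790 (tt N3530 (iv F3134)) (tt N824 F1253) (tt N1535 F1254) (tt N3562 D4212) (tt N821 (iv D2061)))
theorem Q1792 : ∀ i, i < 1792 → P i := stepQ 1791 Q1791 (allL N1791 (tt N822 (iv D2062)) (tt N3563 D4213) (tt N3564 D4214) (tt N3565 D4215) (tt N3566 D4216))
theorem Q1793 : ∀ i, i < 1793 → P i := stepQ 1792 Q1792 (allL N1792 (tt N3567 D4217) (tt N822 (iv D2063)) (tt N3568 D4218) (tt N3569 D4219) (tt N3570 D4220))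
theorem Q1794 : ∀ i, i < 1794 → P i := stepQ 1793 Q1793 (allL N1793 (tt N3571 D4221) (tt N3569 (iv F3178)) (tt N823 F1255) (tt N822 (iv D2064)) (tt N3572 D4222))
theorem Q1795 : ∀ i, i < 1795 → P i := stepQ 1794 Q1794 (allL N1794 (tt N3566 (iv F3176)) (tt N3570 (iv F3179)) (tt N3573 D4223) (tt N3574 D4224) (tt N822 (iv D2065)))
theorem Q1796 : ∀ i, i < 1796 → P i := stepQ 1795 Q1795 (allL N1795 (tt N823 (iv D2066)) (tt N1009 F1256) (tt N3575 D4225) (tt N3576 D4226) (tt N3577 D4227))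
theorem Q1797 : ∀ i, i < 1797 → P i := stepQ 1796 Q1796 (allL N1796 (tt N3577 (iv F3187)) (tt N3561 (iv F3164)) (tt N3578 D4228) (tt N866 F2084) (tt N823 (iv D2067)))
theorem Q1798 : ∀ i, i < 1798 → P i := stepQ 1797 Q1797 (allL N1797 (tt N3579 D4229) (tt N3580 D4230) (tt N824 (iv D2068)) (tt N3581 D4231) (tt N3582 D4232))
theorem Q1799 : ∀ i, i < 1799 → P i := stepQ 1798 Q1798 (allL N1798 (tt N3583 D4233) (tt N3562 (iv F3167)) (tt N3581 (iv F3192)) (tt N824 (iv D2069)) (tt N865 F2059))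
theorem Q1800 : ∀ i, i < 1800 → P i := stepQ 1799 Q1799 (allL N1799 (tt N3584 D4234) (tt N825 (iv D2070)) (tt N3585 D4235) (tt N3586 D4236) (tt N3587 D4237))
theorem Q1801 : ∀ i, i < 1801 → P i := stepQ 1800 Q1800 (allL N1800 (tt N3564 (iv F3172)) (tt N3516 (iv F3174)) (tt N825 (iv D2071)) (tt N3588 D4238) (tt N3589 D4239))
theorem Q1802 : ∀ i, i < 1802 → P i := stepQ 1801 Q1801 (allL N1801 (tt N3575 (iv F3183)) (tt N3586 (iv F3199)) (tt N3588 (iv F3201)) (tt N825 (iv D2072)) (tt N3590 D4240))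
theorem Q1803 : ∀ i, i < 1803 → P i := stepQ 1802 Q1802 (allL N1802 (tt N827 F1257) (tt N3587 (iv F3200)) (tt N3591 D4241) (tt N3592 D4242) (tt N825 (iv D2073)))
theorem Q1804 : ∀ i, i < 1804 → P i := stepQ 1803 Q1803 (allL N1803 (tt N826 (iv D2074)) (tt N3593 D4243) (tt N3594 D4244) (tt N3595 D4245) (tt N3596 D4246))
theorem Q1805 : ∀ i, i < 1805 → P i := stepQ 1804 Q1804 (allL N1804 (tt N3596 (iv F3203)) (tt N2630 (iv F2219)) (tt N3597 D4247) (tt N861 (iv F4842)) (tt N826 (iv D2075)))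
theorem Q1806 : ∀ i, i < 1806 → P i := stepQ 1805 Q1805 (allL N1805 (tt N3573 (iv F3181)) (tt N2491 (iv F4437)) (tt N827 (iv D2076)) (tt N862 (iv F4843)) (tt N2416 F4430))
theorem Q1807 : ∀ i, i < 1807 → P i := stepQ 1806 Q1806 (allL N1806 (tt N3598 D4254) (tt N828 (iv D2078)) (tt N3599 D4255) (tt N3600 D4256) (tt N3601 D4257))
theorem Q1808 : ∀ i, i < 1808 → P i := stepQ 1807 Q1807 (allL N1807 (tt N3565 (iv F3175)) (tt N3602 D4258) (tt N828 (iv D2079)) (tt N3603 D4259) (tt N3604 D4260))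
theorem Q1809 : ∀ i, i < 1809 → P i := stepQ 1808 Q1808 (allL N1808 (tt N3576 (iv F3184)) (tt N3600 (iv F3207)) (tt N3603 (iv F3212)) (tt N828 (iv D2080)) (tt N855 F2085))
theorem Q1810 : ∀ i, i < 1810 → P i := stepQ 1809 Q1809 (allL N1809 (tt N829 F1258) (tt N3601 (iv F3209)) (tt N3605 D4261) (tt N853 F2076) (tt N828 (iv D2081)))
theorem Q1811 : ∀ i, i < 1811 → P i := stepQ 1810 Q1810 (allL N1810 (tt N3606 D4262) (tt N2419 (iv F5731)) (tt N829 (iv D2082)) (tt N867 F2077) (tt N2417 (iv F5733)))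
theorem Q1812 : ∀ i, i < 1812 → P i := stepQ 1811 Q1811 (allL N1811 (tt N830 (iv D2084)) (tt N3607 D4265) (tt N3589 (iv F3202)) (tt N3608 D4266) (tt N2415 F4429))
theorem Q1813 : ∀ i, i < 1813 → P i := stepQ 1812 Q1812 (allL N1812 (tt N831 (iv D2090)) (tt N3598 (iv F3206)) (tt N3609 D4269) (tt N3610 D4270) (tt N3611 D4271))
theorem Q1814 : ∀ i, i < 1814 → P i := stepQ 1813 Q1813 (allL N1813 (tt N3612 D4272) (tt N3613 D4273) (tt N831 (iv D2091)) (tt N1765 F1262) (tt N3614 D4274))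
theorem Q1815 : ∀ i, i < 1815 → P i := stepQ 1814 Q1814 (allL N1814 (tt N3611 (iv F3218)) (tt N832 F1263) (tt N3615 D4275) (tt N842 F2080) (tt N831 (iv D2092)))
theorem Q1816 : ∀ i, i < 1816 → P i := stepQ 1815 Q1815 (allL N1815 (tt N845 F1278) (tt N1276 F1277) (tt N833 (iv D2108)) (tt N3616 D4296) (tt N1327 F1276))
theorem Q1817 : ∀ i, i < 1817 → P i := stepQ 1816 Q1816 (allL N1816 (tt N3617 D4297) (tt N835 F1281) (tt N3616 (iv F3235)) (tt N833 (iv D2109)) (tt N3618 D4298))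
theorem Q1818 : ∀ i, i < 1818 → P i := stepQ 1817 Q1817 (allL N1817 (tt N847 F1282) (tt N836 F1283) (tt N1324 F1284) (tt N3619 D4299) (tt N833 (iv D2110)))
theorem Q1819 : ∀ i, i < 1819 → P i := stepQ 1818 Q1818 (allL N1818 (tt N1037 F1285) (tt N834 (iv D2111)) (tt N1275 F1286) (tt N3620 D4300) (tt N2234 (iv F1739)))
theorem Q1820 : ∀ i, i < 1820 → P i := stepQ 1819 Q1819 (allL N1819 (tt N3621 D4301) (tt N3620 (iv F3239)) (tt N835 F1287) (tt N834 (iv D2112)) (tt N3622 D4302))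
theorem Q1821 : ∀ i, i < 1821 → P i := stepQ 1820 Q1820 (allL N1820 (tt N1034 F1288) (tt N2234 (iv F1741)) (tt N3623 D4303) (tt N3624 D4304) (tt N834 (iv D2113)))
theorem Q1822 : ∀ i, i < 1822 → P i := stepQ 1821 Q1821 (allL N1821 (tt N835 (iv D2114)) (tt N3625 D4305) (tt N3626 D4306) (tt N3627 D4307) (tt N3628 D4308))
theorem Q1823 : ∀ i, i < 1823 → P i := stepQ 1822 Q1822 (allL N1822 (tt N3628 (iv F3244)) (tt N3618 (iv F3236)) (tt N3629 D4309) (tt N3611 (iv F3219)) (tt N835 (iv D2115)))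
theorem Q1824 : ∀ i, i < 1824 → P i := stepQ 1823 Q1823 (allL N1823 (tt N3630 D4310) (tt N3631 D4311) (tt N836 (iv D2116)) (tt N3632 D4312) (tt N3633 D4313))
theorem Q1825 : ∀ i, i < 1825 → P i := stepQ 1824 Q1824 (allL N1824 (tt N3634 D4314) (tt N3619 (iv F3237)) (tt N3632 (iv F3247)) (tt N836 (iv D2117)) (tt N3610 (iv F3217)))
theorem Q1826 : ∀ i, i < 1826 → P i := stepQ 1825 Q1825 (allL N1825 (tt N2003 (iv F1483)) (tt N837 (iv D2118)) (tt N1279 F1289) (tt N3635 D4315) (tt N3636 D4316))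
theorem Q1827 : ∀ i, i < 1827 → P i := stepQ 1826 Q1826 (allL N1826 (tt N1032 F1290) (tt N1826 F1291) (tt N837 (iv D2119)) (tt N3637 D4317) (tt N3638 D4318))
theorem Q1828 : ∀ i, i < 1828 → P i := stepQ 1827 Q1827 (allL N1827 (tt N3626 (iv F3242)) (tt N3635 (iv F3248)) (tt N3637 (iv F3253)) (tt N837 (iv D2120)) (tt N3639 D4319))
theorem Q1829 : ∀ i, i < 1829 → P i := stepQ 1828 Q1828 (allL N1828 (tt N840 F1292) (tt N3636 (iv F3250)) (tt N2784 F2364) (tt N3640 D4320) (tt N837 (iv D2121)))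
theorem Q1830 : ∀ i, i < 1830 → P i := stepQ 1829 Q1829 (allL N1829 (tt N2685 (iv F2282)) (tt N839 F1293) (tt N2665 (iv F2245)) (tt N838 (iv D2122)) (tt N3641 D4321))
theorem Q1831 : ∀ i, i < 1831 → P i := stepQ 1830 Q1830 (allL N1830 (tt N2680 (iv F2276)) (tt N840 F1294) (tt N2675 (iv F2262)) (tt N3642 D4322) (tt N838 (iv D2123)))
theorem Q1832 : ∀ i, i < 1832 → P i := stepQ 1831 Q1831 (allL N1831 (tt N839 (iv D2124)) (tt N3643 D4323) (tt N3644 D4324) (tt N3645 D4325) (tt N3646 D4326))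
theorem Q1833 : ∀ i, i < 1833 → P i := stepQ 1832 Q1832 (allL N1832 (tt N3646 (iv F3261)) (tt N3641 (iv F3257)) (tt N3647 D4327) (tt N3614 (iv F4869)) (tt N839 (iv D2125)))
theorem Q1834 : ∀ i, i < 1834 → P i := stepQ 1833 Q1833 (allL N1833 (tt N3623 (iv F3241)) (tt N1198 F1364) (tt N840 (iv D2126)) (tt N3648 D4329) (tt N3649 D4330))
theorem Q1835 : ∀ i, i < 1835 → P i := stepQ 1834 Q1834 (allL N1834 (tt N3650 D4331) (tt N3642 (iv F3258)) (tt N3648 (iv F3263)) (tt N840 (iv D2127)) (tt N1765 (iv F4868)))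
theorem Q1836 : ∀ i, i < 1836 → P i := stepQ 1835 Q1835 (allL N1835 (tt N1918 (iv F1397)) (tt N841 (iv D2128)) (tt N3651 D4333) (tt N3652 D4334) (tt N3653 D4335))
theorem Q1837 : ∀ i, i < 1837 → P i := stepQ 1836 Q1836 (allL N1836 (tt N1033 F1295) (tt N3654 D4336) (tt N841 (iv D2129)) (tt N3655 D4337) (tt N3656 D4338))
theorem Q1838 : ∀ i, i < 1838 → P i := stepQ 1837 Q1837 (allL N1837 (tt N3627 (iv F3243)) (tt N3652 (iv F3267)) (tt N3655 (iv F3270)) (tt N841 (iv D2130)) (tt N3657 D4339))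
theorem Q1839 : ∀ i, i < 1839 → P i := stepQ 1838 Q1838 (allL N1838 (tt N842 F1296) (tt N3653 (iv F3268)) (tt N3658 D4340) (tt N3659 D4341) (tt N841 (iv D2131)))
theorem Q1840 : ∀ i, i < 1840 → P i := stepQ 1839 Q1839 (allL N1839 (tt N3660 D4342) (tt N3661 D4343) (tt N842 (iv D2132)) (tt N3615 (iv F3221)) (tt N3662 D4344))
theorem Q1841 : ∀ i, i < 1841 → P i := stepQ 1840 Q1840 (allL N1840 (tt N843 (iv D2134)) (tt N2251 F1757) (tt N3638 (iv F3256)) (tt N3663 D4345) (tt N3664 D4346))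
theorem Q1842 : ∀ i, i < 1842 → P i := stepQ 1841 Q1841 (allL N1841 (tt N2373 (iv F1876)) (tt N843 (iv D2135)) (tt N2358 (iv F1861)) (tt N3665 D4347) (tt N2334 (iv F1839)))
theorem Q1843 : ∀ i, i < 1843 → P i := stepQ 1842 Q1842 (allL N1842 (tt N3666 D4348) (tt N3665 (iv F3275)) (tt N844 F1298) (tt N843 (iv D2136)) (tt N3667 D4349))
theorem Q1844 : ∀ i, i < 1844 → P i := stepQ 1843 Q1843 (allL N1843 (tt N3664 (iv F3274)) (tt N2334 F1838) (tt N3649 (iv F3265)) (tt N3662 (iv F5113)) (tt N843 (iv D2137)))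
theorem Q1845 : ∀ i, i < 1845 → P i := stepQ 1844 Q1844 (allL N1844 (tt N844 (iv D2138)) (tt N3668 D4351) (tt N3669 D4352) (tt N3657 (iv F3272)) (tt N1764 F2086))
theorem Q1846 : ∀ i, i < 1846 → P i := stepQ 1845 Q1845 (allL N1845 (tt N3670 D4357) (tt N2009 (iv F1487)) (tt N846 F1306) (tt N845 (iv D2147)) (tt N1436 (iv F1326)))
theorem Q1847 : ∀ i, i < 1847 → P i := stepQ 1846 Q1846 (allL N1846 (tt N846 (iv D2148)) (tt N3671 D4358) (tt N3670 (iv F3283)) (tt N3672 D4359) (tt N3673 D4360))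
theorem Q1848 : ∀ i, i < 1848 → P i := stepQ 1847 Q1847 (allL N1847 (tt N3673 (iv F3284)) (tt N853 F1307) (tt N1431 F1327) (tt N3601 (iv F3210)) (tt N846 (iv D2149)))
theorem Q1849 : ∀ i, i < 1849 → P i := stepQ 1848 Q1848 (allL N1848 (tt N3674 D4361) (tt N855 F1308) (tt N1432 F1309) (tt N847 (iv D2150)) (tt N3600 F3208))
theorem Q1850 : ∀ i, i < 1850 → P i := stepQ 1849 Q1849 (allL N1849 (tt N1397 F1310) (tt N848 (iv D2151)) (tt N942 (iv F1311)) (tt N3675 D4362) (tt N3676 D4363))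
theorem Q1851 : ∀ i, i < 1851 → P i := stepQ 1850 Q1850 (allL N1850 (tt N857 F1312) (tt N1032 F1313) (tt N848 (iv D2152)) (tt N3677 D4364) (tt N3678 D4365))
theorem Q1852 : ∀ i, i < 1852 → P i := stepQ 1851 Q1851 (allL N1851 (tt N864 F1315) (tt N3675 (iv F3287)) (tt N3677 (iv F3294)) (tt N848 (iv D2153)) (tt N3679 D4366))
theorem Q1853 : ∀ i, i < 1853 → P i := stepQ 1852 Q1852 (allL N1852 (tt N851 F1316) (tt N3676 (iv F3292)) (tt N3048 (iv F2632)) (tt N3566 (iv F4850)) (tt N848 (iv D2154)))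
theorem Q1854 : ∀ i, i < 1854 → P i := stepQ 1853 Q1853 (allL N1853 (tt N849 (iv D2155)) (tt N1038 F1318) (tt N1853 F1317) (tt N3680 D4368) (tt N2955 (iv F2530)))
theorem Q1855 : ∀ i, i < 1855 → P i := stepQ 1854 Q1854 (allL N1854 (tt N1289 F1319) (tt N2008 (iv F1486)) (tt N849 (iv D2156)) (tt N3681 D4369) (tt N1455 F1320))
theorem Q1856 : ∀ i, i < 1856 → P i := stepQ 1855 Q1855 (allL N1855 (tt N3682 D4370) (tt N850 F1321) (tt N3681 (iv F3302)) (tt N849 (iv D2157)) (tt N3683 D4371))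
theorem Q1857 : ∀ i, i < 1857 → P i := stepQ 1856 Q1856 (allL N1856 (tt N2955 (iv F2529)) (tt N851 F1322) (tt N1452 F1323) (tt N3684 D4372) (tt N849 (iv D2158)))
theorem Q1858 : ∀ i, i < 1858 → P i := stepQ 1857 Q1857 (allL N1857 (tt N850 (iv D2159)) (tt N3685 D4373) (tt N3686 D4374) (tt N3687 D4375) (tt N3688 D4376))
theorem Q1859 : ∀ i, i < 1859 → P i := stepQ 1858 Q1858 (allL N1858 (tt N3688 (iv F3309)) (tt N3683 (iv F3304)) (tt N3689 D4377) (tt N3604 (iv F4853)) (tt N850 (iv D2160)))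
theorem Q1860 : ∀ i, i < 1860 → P i := stepQ 1859 Q1859 (allL N1859 (tt N862 F1324) (tt N3690 D4379) (tt N851 (iv D2161)) (tt N3691 D4380) (tt N2428 (iv F1932)))
theorem Q1861 : ∀ i, i < 1861 → P i := stepQ 1860 Q1860 (allL N1860 (tt N3692 D4381) (tt N3684 (iv F3305)) (tt N3691 (iv F3310)) (tt N851 (iv D2162)) (tt N3603 (iv F4852)))
theorem Q1862 : ∀ i, i < 1862 → P i := stepQ 1861 Q1861 (allL N1861 (tt N3693 D4383) (tt N852 (iv D2163)) (tt N1008 F1325) (tt N1052 (iv F1328)) (tt N3694 D4384))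
theorem Q1863 : ∀ i, i < 1863 → P i := stepQ 1862 Q1862 (allL N1862 (tt N858 F1329) (tt N3695 D4385) (tt N852 (iv D2164)) (tt N3696 D4386) (tt N3697 D4387))
theorem Q1864 : ∀ i, i < 1864 → P i := stepQ 1863 Q1863 (allL N1863 (tt N865 F1330) (tt N1052 F1331) (tt N3696 (iv F3317)) (tt N852 (iv D2165)) (tt N3583 (iv F3194)))
theorem Q1865 : ∀ i, i < 1865 → P i := stepQ 1864 Q1864 (allL N1864 (tt N853 F1332) (tt N3694 (iv F3311)) (tt N3698 D4388) (tt N3577 (iv F3189)) (tt N852 (iv D2166)))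
theorem Q1866 : ∀ i, i < 1866 → P i := stepQ 1865 Q1865 (allL N1865 (tt N3699 D4389) (tt N3700 D4390) (tt N853 (iv D2167)) (tt N3605 (iv F3213)) (tt N3701 D4391))
theorem Q1867 : ∀ i, i < 1867 → P i := stepQ 1866 Q1866 (allL N1866 (tt N854 (iv D2169)) (tt N3702 D4392) (tt N3678 (iv F3298)) (tt N3579 (iv F3191)) (tt N3703 D4393))
theorem Q1868 : ∀ i, i < 1868 → P i := stepQ 1867 Q1867 (allL N1867 (tt N3704 D4394) (tt N854 (iv D2170)) (tt N3705 D4395) (tt N3706 D4396) (tt N3707 D4397))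
theorem Q1869 : ∀ i, i < 1869 → P i := stepQ 1868 Q1868 (allL N1868 (tt N3708 D4398) (tt N3706 (iv F3328)) (tt N855 F1334) (tt N854 (iv D2171)) (tt N3709 D4399))
theorem Q1870 : ∀ i, i < 1870 → P i := stepQ 1869 Q1869 (allL N1869 (tt N3703 (iv F3320)) (tt N3707 (iv F3329)) (tt N2428 (iv F1933)) (tt N3701 (iv F7120)) (tt N854 (iv D2172)))
theorem Q1871 : ∀ i, i < 1871 → P i := stepQ 1870 Q1870 (allL N1870 (tt N855 (iv D2173)) (tt N3710 D4401) (tt N3711 D4402) (tt N3583 (iv F3193)) (tt N3576 F3186))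
theorem Q1872 : ∀ i, i < 1872 → P i := stepQ 1871 Q1871 (allL N1871 (tt N1280 F1337) (tt N1871 F1335) (tt N856 (iv D2175)) (tt N3712 D4403) (tt N1560 F1336))
theorem Q1873 : ∀ i, i < 1873 → P i := stepQ 1872 Q1872 (allL N1872 (tt N3713 D4404) (tt N858 F1338) (tt N3712 (iv F3335)) (tt N856 (iv D2176)) (tt N3714 D4405))
theorem Q1874 : ∀ i, i < 1874 → P i := stepQ 1873 Q1873 (allL N1873 (tt N2011 (iv F1490)) (tt N859 F1339) (tt N3037 (iv F2616)) (tt N3715 D4406) (tt N856 (iv D2177)))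
theorem Q1875 : ∀ i, i < 1875 → P i := stepQ 1874 Q1874 (allL N1874 (tt N3686 (iv F3307)) (tt N1874 F1340) (tt N858 F1341) (tt N857 (iv D2178)) (tt N3716 D4407))
theorem Q1876 : ∀ i, i < 1876 → P i := stepQ 1875 Q1875 (allL N1875 (tt N3678 (iv F3296)) (tt N1875 F1342) (tt N868 F1343) (tt N3717 D4408) (tt N857 (iv D2179)))
theorem Q1877 : ∀ i, i < 1877 → P i := stepQ 1876 Q1876 (allL N1876 (tt N3697 (iv F3318)) (tt N3714 (iv F3339)) (tt N3044 (iv F5725)) (tt N3596 (iv F4839)) (tt N858 (iv D2180)))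
theorem Q1878 : ∀ i, i < 1878 → P i := stepQ 1877 Q1877 (allL N1877 (tt N3718 D4411) (tt N3715 (iv F3340)) (tt N3049 (iv F2636)) (tt N859 (iv D2182)) (tt N3595 (iv F4856)))
theorem Q1879 : ∀ i, i < 1879 → P i := stepQ 1878 Q1878 (allL N1878 (tt N3719 D4413) (tt N860 (iv D2183)) (tt N3720 D4414) (tt N3721 D4415) (tt N3722 D4416))
theorem Q1880 : ∀ i, i < 1880 → P i := stepQ 1879 Q1879 (allL N1879 (tt N3677 (iv F3295)) (tt N3723 D4417) (tt N860 (iv D2184)) (tt N3724 D4418) (tt N3725 D4419))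
theorem Q1881 : ∀ i, i < 1881 → P i := stepQ 1880 Q1880 (allL N1880 (tt N3696 (iv F3315)) (tt N3721 (iv F3345)) (tt N3724 (iv F3348)) (tt N860 (iv D2185)) (tt N3592 (iv F4838)))
theorem Q1882 : ∀ i, i < 1882 → P i := stepQ 1881 Q1881 (allL N1881 (tt N861 F1344) (tt N3722 (iv F3346)) (tt N3726 D4421) (tt N3590 (iv F4855)) (tt N860 (iv D2186)))
theorem Q1883 : ∀ i, i < 1883 → P i := stepQ 1882 Q1882 (allL N1882 (tt N3727 D4423) (tt N2498 (iv F5732)) (tt N861 (iv D2187)) (tt N3597 (iv F4841)) (tt N2429 F5730))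
theorem Q1884 : ∀ i, i < 1884 → P i := stepQ 1883 Q1883 (allL N1883 (tt N863 (iv D2194)) (tt N869 F1347) (tt N3728 D4434) (tt N3729 D4435) (tt N3730 D4436))
theorem Q1885 : ∀ i, i < 1885 → P i := stepQ 1884 Q1884 (allL N1884 (tt N3651 (iv F3266)) (tt N2717 (iv F2305)) (tt N863 (iv D2195)) (tt N3731 D4437) (tt N1575 F3402))
theorem Q1886 : ∀ i, i < 1886 → P i := stepQ 1885 Q1885 (allL N1885 (tt N3652 (iv F3995)) (tt N865 F1348) (tt N3731 (iv F3360)) (tt N863 (iv D2196)) (tt N3562 (iv F3169)))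
theorem Q1887 : ∀ i, i < 1887 → P i := stepQ 1886 Q1886 (allL N1886 (tt N3730 (iv F3357)) (tt N866 F1349) (tt N3732 D4439) (tt N3561 F3166) (tt N863 (iv D2197)))
theorem Q1888 : ∀ i, i < 1888 → P i := stepQ 1887 Q1887 (allL N1887 (tt N3733 D4440) (tt N864 (iv D2198)) (tt N3734 D4441) (tt N3735 D4442) (tt N3736 D4443))
theorem Q1889 : ∀ i, i < 1889 → P i := stepQ 1888 Q1888 (allL N1888 (tt N3687 (iv F3308)) (tt N3735 (iv F3427)) (tt N865 F1350) (tt N864 (iv D2199)) (tt N3574 (iv F4851)))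
theorem Q1890 : ∀ i, i < 1890 → P i := stepQ 1889 Q1889 (allL N1889 (tt N3679 (iv F3299)) (tt N3736 (iv F3428)) (tt N3727 (iv F3351)) (tt N3572 (iv F4854)) (tt N864 (iv D2200)))
theorem Q1891 : ∀ i, i < 1891 → P i := stepQ 1890 Q1890 (allL N1890 (tt N3737 D4446) (tt N3738 D4447) (tt N866 (iv D2202)) (tt N3578 (iv F3190)) (tt N3739 D4448))
theorem Q1892 : ∀ i, i < 1892 → P i := stepQ 1891 Q1891 (allL N1891 (tt N867 (iv D2204)) (tt N3740 D4449) (tt N3725 (iv F3349)) (tt N3741 D4450) (tt N2430 F5728))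
theorem Q1893 : ∀ i, i < 1893 → P i := stepQ 1892 Q1892 (allL N1892 (tt N899 F1355) (tt N868 (iv D2209)) (tt N1494 (iv F1356)) (tt N3742 D4455) (tt N2425 (iv F1926)))
theorem Q1894 : ∀ i, i < 1894 → P i := stepQ 1893 Q1893 (allL N1893 (tt N3711 (iv F3333)) (tt N3742 (iv F3431)) (tt N3717 (iv F3343)) (tt N868 (iv D2210)) (tt N3743 D4456))
theorem Q1895 : ∀ i, i < 1895 → P i := stepQ 1894 Q1894 (allL N1894 (tt N3744 D4457) (tt N3745 D4458) (tt N869 (iv D2217)) (tt N2218 (iv F3806)) (tt N3746 D4460))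
theorem Q1896 : ∀ i, i < 1896 → P i := stepQ 1895 Q1895 (allL N1895 (tt N3747 D4461) (tt N3729 (iv F3356)) (tt N2218 (iv F3805)) (tt N869 (iv D2218)) (tt N3536 (iv F3141)))
theorem Q1897 : ∀ i, i < 1897 → P i := stepQ 1896 Q1896 (allL N1896 (tt N872 F1368) (tt N3730 (iv F3358)) (tt N3748 D4462) (tt N3534 (iv F3140)) (tt N869 (iv D2219)))
theorem Q1898 : ∀ i, i < 1898 → P i := stepQ 1897 Q1897 (allL N1897 (tt N870 (iv D2220)) (tt N3749 D4463) (tt N3750 D4464) (tt N3751 D4465) (tt N3752 D4466))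
theorem Q1899 : ∀ i, i < 1899 → P i := stepQ 1898 Q1898 (allL N1898 (tt N3753 D4467) (tt N870 (iv D2221)) (tt N3754 D4468) (tt N3755 D4469) (tt N3756 D4470))
theorem Q1900 : ∀ i, i < 1900 → P i := stepQ 1899 Q1899 (allL N1899 (tt N3757 D4471) (tt N3755 (iv F3445)) (tt N871 F1369) (tt N870 (iv D2222)) (tt N3547 (iv F6931)))
theorem Q1901 : ∀ i, i < 1901 → P i := stepQ 1900 Q1900 (allL N1900 (tt N3752 (iv F3438)) (tt N3756 (iv F3447)) (tt N3758 D4473) (tt N3545 (iv F6930)) (tt N870 (iv D2223)))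
theorem Q1902 : ∀ i, i < 1902 → P i := stepQ 1901 Q1901 (allL N1901 (tt N871 (iv D2224)) (tt N3672 (iv F3964)) (tt N3759 D4476) (tt N3671 (iv F3967)) (tt N3557 (iv F3151)))
theorem Q1903 : ∀ i, i < 1903 → P i := stepQ 1902 Q1902 (allL N1902 (tt N3760 D4478) (tt N3761 D4479) (tt N872 (iv D2226)) (tt N3552 (iv F3149)) (tt N3762 D4480))
theorem Q1904 : ∀ i, i < 1904 → P i := stepQ 1903 Q1903 (allL N1903 (tt N873 (iv D2228)) (tt N3763 D4481) (tt N3764 D4482) (tt N3210 (iv F2828)) (tt N3343 (iv F3416)))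
theorem Q1905 : ∀ i, i < 1905 → P i := stepQ 1904 Q1904 (allL N1904 (tt N2708 (iv F3290)) (tt N3754 (iv F3442)) (tt N873 (iv D2229)) (tt N3219 (iv F2833)) (tt N3765 D4483))
theorem Q1906 : ∀ i, i < 1906 → P i := stepQ 1905 Q1905 (allL N1905 (tt N874 (iv D2254)) (tt N3744 (iv F3433)) (tt N3766 D4484) (tt N3416 (iv F3044)) (tt N3767 D4485))
theorem Q1907 : ∀ i, i < 1907 → P i := stepQ 1906 Q1906 (allL N1906 (tt N2724 (iv F2308)) (tt N874 (iv D2255)) (tt N3768 D4486) (tt N3368 (iv F2993)) (tt N3769 D4487))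
theorem Q1908 : ∀ i, i < 1908 → P i := stepQ 1907 Q1907 (allL N1907 (tt N3767 (iv F3453)) (tt N3769 (iv F3454)) (tt N3770 D4488) (tt N3377 (iv F6585)) (tt N874 (iv D2256)))
theorem Q1909 : ∀ i, i < 1909 → P i := stepQ 1908 Q1908 (allL N1908 (tt N3771 D4490) (tt N3772 D4491) (tt N875 (iv D2257)) (tt N3363 (iv F4710)) (tt N3358 (iv F4708)))
theorem Q1910 : ∀ i, i < 1910 → P i := stepQ 1909 Q1909 (allL N1909 (tt N2657 (iv F3462)) (tt N876 (iv D2258)) (tt N3773 D4494) (tt N2644 (iv F3461)) (tt N3774 D4496))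
theorem Q1911 : ∀ i, i < 1911 → P i := stepQ 1910 Q1910 (allL N1910 (tt N3766 (iv F3451)) (tt N3775 D4497) (tt N876 (iv D2259)) (tt N3384 F3009) (tt N3776 D4498))
theorem Q1912 : ∀ i, i < 1912 → P i := stepQ 1911 Q1911 (allL N1911 (tt N3366 (iv F2992)) (tt N2644 (iv F3460)) (tt N3384 (iv F3008)) (tt N876 (iv D2260)) (tt N3426 (iv F3049)))
theorem Q1913 : ∀ i, i < 1913 → P i := stepQ 1912 Q1912 (allL N1912 (tt N878 F1394) (tt N3774 (iv F3458)) (tt N3777 D4499) (tt N3425 (iv F3048)) (tt N876 (iv D2261)))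
theorem Q1914 : ∀ i, i < 1914 → P i := stepQ 1913 Q1913 (allL N1913 (tt N2686 (iv F2283)) (tt N881 F1395) (tt N877 (iv D2262)) (tt N2672 (iv F2255)) (tt N3778 D4500))
theorem Q1915 : ∀ i, i < 1915 → P i := stepQ 1914 Q1914 (allL N1914 (tt N2624 (iv F2216)) (tt N878 F1396) (tt N3779 D4501) (tt N2678 (iv F2272)) (tt N877 (iv D2263)))
theorem Q1916 : ∀ i, i < 1916 → P i := stepQ 1915 Q1915 (allL N1915 (tt N3770 (iv F3455)) (tt N1201 F2213) (tt N878 (iv D2264)) (tt N3411 (iv F3042)) (tt N3406 F3032))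
theorem Q1917 : ∀ i, i < 1917 → P i := stepQ 1916 Q1916 (allL N1916 (tt N879 (iv D2266)) (tt N3780 D4502) (tt N3776 (iv F3464)) (tt N3392 (iv F3016)) (tt N3387 F3012))
theorem Q1918 : ∀ i, i < 1918 → P i := stepQ 1917 Q1917 (allL N1917 (tt N2411 F2209) (tt N879 (iv D2267)) (tt N3781 D4503) (tt N2366 (iv F2208)) (tt N2350 (iv F2210)))
theorem Q1919 : ∀ i, i < 1919 → P i := stepQ 1918 Q1918 (allL N1918 (tt N1835 F1397) (tt N880 (iv D2269)) (tt N3782 D4504) (tt N3783 D4505) (tt N3784 D4506))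
theorem Q1920 : ∀ i, i < 1920 → P i := stepQ 1919 Q1919 (allL N1919 (tt N3785 D4507) (tt N3786 D4508) (tt N880 (iv D2270)) (tt N3787 D4509) (tt N3788 D4510))
theorem Q1921 : ∀ i, i < 1921 → P i := stepQ 1920 Q1920 (allL N1920 (tt N3789 D4511) (tt N3783 (iv F3468)) (tt N3787 (iv F3471)) (tt N880 (iv D2271)) (tt N3514 (iv F3122)))
theorem Q1922 : ∀ i, i < 1922 → P i := stepQ 1921 Q1921 (allL N1921 (tt N882 F1398) (tt N3784 (iv F3470)) (tt N3790 D4512) (tt N3512 (iv F3121)) (tt N880 (iv D2272)))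
theorem Q1923 : ∀ i, i < 1923 → P i := stepQ 1922 Q1922 (allL N1922 (tt N881 (iv D2273)) (tt N3791 D4513) (tt N3723 (iv F3347)) (tt N3792 D4514) (tt N3793 D4515))
theorem Q1924 : ∀ i, i < 1924 → P i := stepQ 1923 Q1923 (allL N1923 (tt N3793 (iv F3479)) (tt N3778 (iv F3465)) (tt N3794 D4516) (tt N3520 (iv F4989)) (tt N881 (iv D2274)))
theorem Q1925 : ∀ i, i < 1925 → P i := stepQ 1924 Q1924 (allL N1924 (tt N3795 D4518) (tt N3796 D4519) (tt N882 (iv D2275)) (tt N3526 (iv F3125)) (tt N3797 D4520))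
theorem Q1926 : ∀ i, i < 1926 → P i := stepQ 1925 Q1925 (allL N1925 (tt N883 (iv D2280)) (tt N3798 D4521) (tt N3799 D4522) (tt N3459 F3383) (tt N1428 F3384))
theorem Q1927 : ∀ i, i < 1927 → P i := stepQ 1926 Q1926 (allL N1926 (tt N3800 D4523) (tt N3781 (iv F3466)) (tt N883 (iv D2281)) (tt N3474 (iv F5294)) (tt N3469 (iv F5299)))
theorem Q1928 : ∀ i, i < 1928 → P i := stepQ 1927 Q1927 (allL N1927 (tt N961 F1413) (tt N884 (iv D2300)) (tt N954 F1414) (tt N3801 D4525) (tt N3802 D4526))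
theorem Q1929 : ∀ i, i < 1929 → P i := stepQ 1928 Q1928 (allL N1928 (tt N2260 (iv F1768)) (tt N3801 (iv F3482)) (tt N885 F1415) (tt N884 (iv D2301)) (tt N3803 D4527))
theorem Q1930 : ∀ i, i < 1930 → P i := stepQ 1929 Q1929 (allL N1929 (tt N1348 F1416) (tt N3802 (iv F3486)) (tt N2244 (iv F1751)) (tt N3804 D4528) (tt N884 (iv D2302)))
theorem Q1931 : ∀ i, i < 1931 → P i := stepQ 1930 Q1930 (allL N1930 (tt N2274 (iv F1790)) (tt N889 F1417) (tt N3805 D4529) (tt N3806 D4530) (tt N885 (iv D2303)))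
theorem Q1932 : ∀ i, i < 1932 → P i := stepQ 1931 Q1931 (allL N1931 (tt N2251 (iv F1756)) (tt N3807 D4531) (tt N886 (iv D2304)) (tt N3808 D4532) (tt N3809 D4533))
theorem Q1933 : ∀ i, i < 1933 → P i := stepQ 1932 Q1932 (allL N1932 (tt N3810 D4534) (tt N891 F1418) (tt N3808 (iv F3489)) (tt N886 (iv D2305)) (tt N3811 D4535))
theorem Q1934 : ∀ i, i < 1934 → P i := stepQ 1933 Q1933 (allL N1933 (tt N1964 (iv F1444)) (tt N1396 F1419) (tt N1989 (iv F1472)) (tt N3812 D4536) (tt N887 (iv D2306)))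
theorem Q1935 : ∀ i, i < 1935 → P i := stepQ 1934 Q1934 (allL N1934 (tt N2015 (iv F1494)) (tt N1398 F1420) (tt N925 F1421) (tt N888 (iv D2307)) (tt N3813 D4537))
theorem Q1936 : ∀ i, i < 1936 → P i := stepQ 1935 Q1935 (allL N1935 (tt N1966 (iv F1447)) (tt N2903 (iv F2472)) (tt N889 (iv D2308)) (tt N3814 D4538) (tt N2898 F2463))
theorem Q1937 : ∀ i, i < 1937 → P i := stepQ 1936 Q1936 (allL N1936 (tt N906 F1422) (tt N3806 (iv F3488)) (tt N3814 (iv F3496)) (tt N889 (iv D2309)) (tt N3815 D4539))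
theorem Q1938 : ∀ i, i < 1938 → P i := stepQ 1937 Q1937 (allL N1937 (tt N1974 (iv F1454)) (tt N2905 (iv F2473)) (tt N891 F1423) (tt N890 (iv D2310)) (tt N3816 D4540))
theorem Q1939 : ∀ i, i < 1939 → P i := stepQ 1938 Q1938 (allL N1938 (tt N891 (iv D2311)) (tt N3817 D4541) (tt N1971 (iv F1453)) (tt N1986 (iv F1469)) (tt N2023 (iv F3423)))
theorem Q1940 : ∀ i, i < 1940 → P i := stepQ 1939 Q1939 (allL N1939 (tt N2023 F3424) (tt N3811 (iv F3490)) (tt N3813 (iv F3495)) (tt N3815 (iv F3499)) (tt N891 (iv D2312)))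
theorem Q1941 : ∀ i, i < 1941 → P i := stepQ 1940 Q1940 (allL N1940 (tt N3818 D4542) (tt N1451 F1424) (tt N893 F1425) (tt N892 (iv D2313)) (tt N3819 D4543))
theorem Q1942 : ∀ i, i < 1942 → P i := stepQ 1941 Q1941 (allL N1941 (tt N2254 (iv F1762)) (tt N1452 F1426) (tt N3820 D4544) (tt N3821 D4545) (tt N892 (iv D2314)))
theorem Q1943 : ∀ i, i < 1943 → P i := stepQ 1942 Q1942 (allL N1942 (tt N2541 (iv F2091)) (tt N1431 F1427) (tt N3822 D4546) (tt N3823 D4547) (tt N893 (iv D2315)))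
theorem Q1944 : ∀ i, i < 1944 → P i := stepQ 1943 Q1943 (allL N1943 (tt N2257 (iv F1766)) (tt N3705 (iv F3325)) (tt N894 (iv D2316)) (tt N3824 D4548) (tt N3825 D4549))
theorem Q1945 : ∀ i, i < 1945 → P i := stepQ 1944 Q1944 (allL N1944 (tt N2543 (iv F2093)) (tt N1432 F1428) (tt N3824 (iv F3509)) (tt N894 (iv D2317)) (tt N3826 D4550))
theorem Q1946 : ∀ i, i < 1946 → P i := stepQ 1945 Q1945 (allL N1945 (tt N895 (iv D2318)) (tt N1744 (iv F1430)) (tt N2255 (iv F1764)) (tt N1743 F1429) (tt N3827 D4551))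
theorem Q1947 : ∀ i, i < 1947 → P i := stepQ 1946 Q1946 (allL N1946 (tt N3827 (iv F3512)) (tt N965 F1431) (tt N3828 D4552) (tt N3829 D4553) (tt N895 (iv D2319)))
theorem Q1948 : ∀ i, i < 1948 → P i := stepQ 1947 Q1947 (allL N1947 (tt N3820 (iv F3505)) (tt N3830 D4554) (tt N896 (iv D2320)) (tt N3831 D4555) (tt N3832 D4556))
theorem Q1949 : ∀ i, i < 1949 → P i := stepQ 1948 Q1948 (allL N1948 (tt N3833 D4557) (tt N967 F1432) (tt N3831 (iv F3516)) (tt N896 (iv D2321)) (tt N3834 D4558))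
theorem Q1950 : ∀ i, i < 1950 → P i := stepQ 1949 Q1949 (allL N1949 (tt N2253 (iv F1761)) (tt N3102 (iv F2694)) (tt N897 (iv D2322)) (tt N2538 (iv F2037)) (tt N3835 D4559))
theorem Q1951 : ∀ i, i < 1951 → P i := stepQ 1950 Q1950 (allL N1950 (tt N898 F1433) (tt N3095 (iv F2685)) (tt N3836 D4560) (tt N3837 D4561) (tt N897 (iv D2323)))
theorem Q1952 : ∀ i, i < 1952 → P i := stepQ 1951 Q1951 (allL N1951 (tt N3838 D4562) (tt N3839 D4563) (tt N898 (iv D2324)) (tt N3840 D4564) (tt N3841 D4565))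
theorem Q1953 : ∀ i, i < 1953 → P i := stepQ 1952 Q1952 (allL N1952 (tt N3823 (iv F3508)) (tt N906 F1434) (tt N3840 (iv F3524)) (tt N898 (iv D2325)) (tt N3842 D4566))
theorem Q1954 : ∀ i, i < 1954 → P i := stepQ 1953 Q1953 (allL N1953 (tt N2422 (iv F1923)) (tt N899 (iv D2326)) (tt N3287 (iv F2914)) (tt N3843 D4567) (tt N1046 F1437))
theorem Q1955 : ∀ i, i < 1955 → P i := stepQ 1954 Q1954 (allL N1954 (tt N3844 D4568) (tt N3843 (iv F3527)) (tt N900 F1435) (tt N899 (iv D2327)) (tt N3845 D4569))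
theorem Q1956 : ∀ i, i < 1956 → P i := stepQ 1955 Q1955 (allL N1955 (tt N2425 (iv F1925)) (tt N1046 F1436) (tt N3832 (iv F3517)) (tt N3841 (iv F7153)) (tt N899 (iv D2328)))
theorem Q1957 : ∀ i, i < 1957 → P i := stepQ 1956 Q1956 (allL N1956 (tt N900 (iv D2329)) (tt N3096 (iv F2686)) (tt N3846 D4571) (tt N2539 (iv F2040)) (tt N3847 D4572))
theorem Q1958 : ∀ i, i < 1958 → P i := stepQ 1957 Q1957 (allL N1957 (tt N3847 (iv F3529)) (tt N909 F1439) (tt N3834 (iv F6314)) (tt N3842 (iv F3526)) (tt N900 (iv D2330)))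
theorem Q1959 : ∀ i, i < 1959 → P i := stepQ 1958 Q1958 (allL N1958 (tt N901 (iv D2331)) (tt N3090 (iv F2678)) (tt N1168 (iv F1945)) (tt N1167 F1944) (tt N3848 D4574))
theorem Q1960 : ∀ i, i < 1960 → P i := stepQ 1959 Q1959 (allL N1959 (tt N2792 (iv F2373)) (tt N3849 D4575) (tt N901 (iv D2332)) (tt N3850 D4576) (tt N3851 D4577))
theorem Q1961 : ∀ i, i < 1961 → P i := stepQ 1960 Q1960 (allL N1960 (tt N3852 D4578) (tt N903 F1440) (tt N3850 (iv F3532)) (tt N901 (iv D2333)) (tt N3853 D4579))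
theorem Q1962 : ∀ i, i < 1962 → P i := stepQ 1961 Q1961 (allL N1961 (tt N3848 (iv F3531)) (tt N904 F1441) (tt N3854 D4580) (tt N3855 D4581) (tt N901 (iv D2334)))
theorem Q1963 : ∀ i, i < 1963 → P i := stepQ 1962 Q1962 (allL N1962 (tt N3856 D4582) (tt N902 (iv D2335)) (tt N3857 D4583) (tt N1614 F1545) (tt N3858 D4584))
theorem Q1964 : ∀ i, i < 1964 → P i := stepQ 1963 Q1963 (allL N1963 (tt N1963 F1442) (tt N1614 (iv F1544)) (tt N903 F1443) (tt N902 (iv D2336)) (tt N3859 D4585))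
theorem Q1965 : ∀ i, i < 1965 → P i := stepQ 1964 Q1964 (allL N1964 (tt N1933 F1444) (tt N3858 (iv F3543)) (tt N919 F1445) (tt N3860 D4586) (tt N902 (iv D2337)))
theorem Q1966 : ∀ i, i < 1966 → P i := stepQ 1965 Q1965 (allL N1965 (tt N1986 (iv F1468)) (tt N3853 (iv F3537)) (tt N3861 D4587) (tt N908 F1446) (tt N903 (iv D2338)))
theorem Q1967 : ∀ i, i < 1967 → P i := stepQ 1966 Q1966 (allL N1966 (tt N1935 F1447) (tt N3862 D4588) (tt N904 (iv D2339)) (tt N3863 D4589) (tt N3864 D4590))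
theorem Q1968 : ∀ i, i < 1968 → P i := stepQ 1967 Q1967 (allL N1967 (tt N1987 (iv F1470)) (tt N3855 (iv F3539)) (tt N3863 (iv F3555)) (tt N904 (iv D2340)) (tt N3865 D4591))
theorem Q1969 : ∀ i, i < 1969 → P i := stepQ 1968 Q1968 (allL N1968 (tt N905 (iv D2341)) (tt N3866 D4592) (tt N915 F1448) (tt N3867 D4593) (tt N3272 (iv F2895)))
theorem Q1970 : ∀ i, i < 1970 → P i := stepQ 1969 Q1969 (allL N1969 (tt N1969 F1450) (tt N3269 (iv F2888)) (tt N906 F1449) (tt N905 (iv D2343)) (tt N3266 F2886))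
theorem Q1971 : ∀ i, i < 1971 → P i := stepQ 1970 Q1970 (allL N1970 (tt N3815 (iv F3498)) (tt N3842 (iv F3525)) (tt N923 F3362) (tt N909 F1452) (tt N906 (iv D2345)))
theorem Q1972 : ∀ i, i < 1972 → P i := stepQ 1971 Q1971 (allL N1971 (tt N907 (iv D2346)) (tt N3868 D4594) (tt N1938 F1453) (tt N3869 D4595) (tt N3870 D4596))
theorem Q1973 : ∀ i, i < 1973 → P i := stepQ 1972 Q1972 (allL N1972 (tt N3870 (iv F3563)) (tt N3268 F2884) (tt N932 F3363) (tt N3266 (iv F2885)) (tt N907 (iv D2347)))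
theorem Q1974 : ∀ i, i < 1974 → P i := stepQ 1973 Q1973 (allL N1973 (tt N3871 D4597) (tt N908 (iv D2348)) (tt N3872 D4598) (tt N3853 F3538) (tt N3873 D4599))
theorem Q1975 : ∀ i, i < 1975 → P i := stepQ 1974 Q1974 (allL N1974 (tt N1937 F1454) (tt N3874 D4600) (tt N908 (iv D2349)) (tt N3861 (iv F3552)) (tt N3875 D4601))
theorem Q1976 : ∀ i, i < 1976 → P i := stepQ 1975 Q1975 (allL N1975 (tt N909 F1455) (tt N3873 (iv F3566)) (tt N3876 D4602) (tt N3865 (iv F3558)) (tt N908 (iv D2350)))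
theorem Q1977 : ∀ i, i < 1977 → P i := stepQ 1976 Q1976 (allL N1976 (tt N1709 (iv F1542)) (tt N3877 D4603) (tt N910 (iv D2352)) (tt N1688 F1538) (tt N3878 D4604))
theorem Q1978 : ∀ i, i < 1978 → P i := stepQ 1977 Q1977 (allL N1977 (tt N912 F1457) (tt N1005 F1458) (tt N3879 D4605) (tt N1695 F1536) (tt N910 (iv D2354)))
theorem Q1979 : ∀ i, i < 1979 → P i := stepQ 1978 Q1978 (allL N1978 (tt N911 (iv D2355)) (tt N2744 (iv F2325)) (tt N2299 (iv F1802)) (tt N1684 F1539) (tt N3880 D4606))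
theorem Q1980 : ∀ i, i < 1980 → P i := stepQ 1979 Q1979 (allL N1979 (tt N970 F1459) (tt N911 (iv D2356)) (tt N3881 D4607) (tt N957 (iv F1460)) (tt N3882 D4608))
theorem Q1981 : ∀ i, i < 1981 → P i := stepQ 1980 Q1980 (allL N1980 (tt N3880 (iv F3577)) (tt N3882 (iv F3585)) (tt N3883 D4609) (tt N3884 D4610) (tt N911 (iv D2358)))
theorem Q1982 : ∀ i, i < 1982 → P i := stepQ 1981 Q1981 (allL N1981 (tt N3885 D4611) (tt N3886 D4612) (tt N912 (iv D2361)) (tt N1730 F1537) (tt N3887 D4613))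
theorem Q1983 : ∀ i, i < 1983 → P i := stepQ 1982 Q1982 (allL N1982 (tt N913 (iv D2363)) (tt N3437 (iv F3055)) (tt N3888 D4614) (tt N2519 (iv F2016)) (tt N3889 D4615))
theorem Q1984 : ∀ i, i < 1984 → P i := stepQ 1983 Q1983 (allL N1983 (tt N1510 (iv F2017)) (tt N3881 (iv F3579)) (tt N913 (iv D2364)) (tt N3890 D4616) (tt N3891 D4617))
theorem Q1985 : ∀ i, i < 1985 → P i := stepQ 1984 Q1984 (allL N1984 (tt N3892 D4618) (tt N914 F1466) (tt N3890 (iv F3597)) (tt N913 (iv D2365)) (tt N3893 D4619))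
theorem Q1986 : ∀ i, i < 1986 → P i := stepQ 1985 Q1985 (allL N1985 (tt N3889 (iv F3595)) (tt N915 F1467) (tt N3894 D4620) (tt N3895 D4621) (tt N913 (iv D2366)))
theorem Q1987 : ∀ i, i < 1987 → P i := stepQ 1986 Q1986 (allL N1986 (tt N1965 F1468) (tt N3893 (iv F3601)) (tt N3869 (iv F3562)) (tt N1938 F1469) (tt N914 (iv D2367)))
theorem Q1988 : ∀ i, i < 1988 → P i := stepQ 1987 Q1987 (allL N1987 (tt N1967 F1470) (tt N3895 (iv F3603)) (tt N3867 (iv F3560)) (tt N915 (iv D2368)) (tt N3896 D4622))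
theorem Q1989 : ∀ i, i < 1989 → P i := stepQ 1988 Q1988 (allL N1988 (tt N2016 (iv F1495)) (tt N3897 D4623) (tt N916 (iv D2369)) (tt N934 F1471) (tt N3898 D4624))
theorem Q1990 : ∀ i, i < 1990 → P i := stepQ 1989 Q1989 (allL N1989 (tt N917 (iv D2370)) (tt N3899 D4625) (tt N1933 F1472) (tt N2001 (iv F1481)) (tt N2007 F1666))
theorem Q1991 : ∀ i, i < 1991 → P i := stepQ 1990 Q1990 (allL N1990 (tt N3900 D4626) (tt N917 (iv D2371)) (tt N3901 D4627) (tt N3902 D4628) (tt N3903 D4629))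
theorem Q1992 : ∀ i, i < 1992 → P i := stepQ 1991 Q1991 (allL N1991 (tt N1995 (iv F1476)) (tt N3902 (iv F3609)) (tt N918 F1473) (tt N917 (iv D2372)) (tt N3904 D4630))
theorem Q1993 : ∀ i, i < 1993 → P i := stepQ 1992 Q1992 (allL N1992 (tt N2007 (iv F1667)) (tt N3903 (iv F3610)) (tt N3272 (iv F2896)) (tt N3898 (iv F3608)) (tt N917 (iv D2373)))
theorem Q1994 : ∀ i, i < 1994 → P i := stepQ 1993 Q1993 (allL N1993 (tt N1993 F1474) (tt N1731 (iv F1534)) (tt N3896 F3606) (tt N935 F1475) (tt N918 (iv D2374)))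
theorem Q1995 : ∀ i, i < 1995 → P i := stepQ 1994 Q1994 (allL N1994 (tt N3905 D4631) (tt N919 (iv D2375)) (tt N3906 D4632) (tt N3907 D4633) (tt N3908 D4634))
theorem Q1996 : ∀ i, i < 1996 → P i := stepQ 1995 Q1995 (allL N1995 (tt N1991 F1476) (tt N3907 (iv F3612)) (tt N3860 (iv F3551)) (tt N919 (iv D2376)) (tt N3909 D4635))
theorem Q1997 : ∀ i, i < 1997 → P i := stepQ 1996 Q1996 (allL N1996 (tt N922 F1477) (tt N3908 (iv F3613)) (tt N3864 (iv F3557)) (tt N3910 D4636) (tt N919 (iv D2377)))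
theorem Q1998 : ∀ i, i < 1998 → P i := stepQ 1997 Q1997 (allL N1997 (tt N920 (iv D2378)) (tt N3559 (iv F3161)) (tt N3911 D4637) (tt N2558 (iv F2110)) (tt N3912 D4638))
theorem Q1999 : ∀ i, i < 1999 → P i := stepQ 1998 Q1998 (allL N1998 (tt N3913 D4639) (tt N1027 F1478) (tt N920 (iv D2379)) (tt N3914 D4640) (tt N3915 D4641))
theorem Q2000 : ∀ i, i < 2000 → P i := stepQ 1999 Q1999 (allL N1999 (tt N3916 D4642) (tt N921 F1479) (tt N3914 (iv F3624)) (tt N920 (iv D2380)) (tt N3917 D4643))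
theorem Q2001 : ∀ i, i < 2001 → P i := stepQ 2000 Q2000 (allL N2000 (tt N3912 (iv F3618)) (tt N922 F1480) (tt N3130 (iv F2719)) (tt N930 F1660) (tt N920 (iv D2381)))
theorem Q2002 : ∀ i, i < 2002 → P i := stepQ 2001 Q2001 (allL N2001 (tt N921 (iv D2382)) (tt N3918 D4644) (tt N3812 (iv F3492)) (tt N1989 F1481) (tt N3919 D4645))
theorem Q2003 : ∀ i, i < 2003 → P i := stepQ 2002 Q2002 (allL N2002 (tt N3919 (iv F3630)) (tt N3917 (iv F3627)) (tt N3266 F3364) (tt N932 F1665) (tt N921 (iv D2383)))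
theorem Q2004 : ∀ i, i < 2004 → P i := stepQ 2003 Q2003 (allL N2003 (tt N1825 F1483) (tt N3920 D4646) (tt N924 (iv D2386)) (tt N3921 D4647) (tt N3922 D4648))
theorem Q2005 : ∀ i, i < 2005 → P i := stepQ 2004 Q2004 (allL N2004 (tt N2656 (iv F2241)) (tt N925 F1484) (tt N3921 (iv F3634)) (tt N924 (iv D2387)) (tt N3923 D4649))
theorem Q2006 : ∀ i, i < 2006 → P i := stepQ 2005 Q2005 (allL N2005 (tt N2643 (iv F2232)) (tt N926 F1485) (tt N2833 (iv F2417)) (tt N3924 D4650) (tt N924 (iv D2388)))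
theorem Q2007 : ∀ i, i < 2007 → P i := stepQ 2006 Q2006 (allL N2006 (tt N2022 (iv F1499)) (tt N3923 (iv F3636)) (tt N3816 (iv F3500)) (tt N3919 (iv F3631)) (tt N925 (iv D2389)))
theorem Q2008 : ∀ i, i < 2008 → P i := stepQ 2007 Q2007 (allL N2007 (tt N1992 F1667) (tt N3924 (iv F3637)) (tt N2898 (iv F2462)) (tt N926 (iv D2390)) (tt N1989 (iv F1666)))
theorem Q2009 : ∀ i, i < 2009 → P i := stepQ 2008 Q2008 (allL N2008 (tt N2305 (iv F1806)) (tt N1854 F1486) (tt N927 (iv D2391)) (tt N3925 D4651) (tt N2964 (iv F2537)))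
theorem Q2010 : ∀ i, i < 2010 → P i := stepQ 2009 Q2009 (allL N2009 (tt N2553 (iv F2106)) (tt N1845 F1487) (tt N3925 (iv F3640)) (tt N927 (iv D2392)) (tt N2932 (iv F2495)))
theorem Q2011 : ∀ i, i < 2011 → P i := stepQ 2010 Q2010 (allL N2010 (tt N3926 D4652) (tt N1042 F1488) (tt N929 F1489) (tt N928 (iv D2393)) (tt N3927 D4653))
theorem Q2012 : ∀ i, i < 2012 → P i := stepQ 2011 Q2011 (allL N2011 (tt N1873 F1490) (tt N1043 F1491) (tt N3928 D4654) (tt N3915 (iv F7102)) (tt N928 (iv D2394)))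
theorem Q2013 : ∀ i, i < 2013 → P i := stepQ 2012 Q2012 (allL N2012 (tt N929 (iv D2395)) (tt N3731 (iv F3359)) (tt N3929 D4656) (tt N2717 (iv F2304)) (tt N3930 D4657))
theorem Q2014 : ∀ i, i < 2014 → P i := stepQ 2013 Q2013 (allL N2013 (tt N3930 (iv F3647)) (tt N932 F1492) (tt N3931 D4658) (tt N3917 (iv F3628)) (tt N929 (iv D2396)))
theorem Q2015 : ∀ i, i < 2015 → P i := stepQ 2014 Q2014 (allL N2014 (tt N3932 D4659) (tt N931 (iv D2398)) (tt N3933 D4660) (tt N3934 D4661) (tt N3935 D4662))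
theorem Q2016 : ∀ i, i < 2016 → P i := stepQ 2015 Q2015 (allL N2015 (tt N1934 F1494) (tt N3936 D4663) (tt N931 (iv D2399)) (tt N3859 (iv F3548)) (tt N3876 (iv F3570)))
theorem Q2017 : ∀ i, i < 2017 → P i := stepQ 2016 Q2016 (allL N2016 (tt N1988 F1495) (tt N3934 (iv F3650)) (tt N3859 (iv F3547)) (tt N931 (iv D2400)) (tt N3910 (iv F3617)))
theorem Q2018 : ∀ i, i < 2018 → P i := stepQ 2017 Q2017 (allL N2017 (tt N932 F1496) (tt N3935 (iv F3651)) (tt N3875 (iv F3568)) (tt N3909 (iv F3615)) (tt N931 (iv D2401)))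
theorem Q2019 : ∀ i, i < 2019 → P i := stepQ 2018 Q2018 (allL N2018 (tt N933 (iv D2406)) (tt N1051 F1497) (tt N3937 D4664) (tt N1689 F1540) (tt N3938 D4665))
theorem Q2020 : ∀ i, i < 2020 → P i := stepQ 2019 Q2019 (allL N2019 (tt N3939 D4666) (tt N3940 D4667) (tt N933 (iv D2407)) (tt N1719 (iv F1543)) (tt N3941 D4668))
theorem Q2021 : ∀ i, i < 2021 → P i := stepQ 2020 Q2020 (allL N2020 (tt N3938 (iv F3655)) (tt N935 F1498) (tt N3942 D4669) (tt N1731 F1535) (tt N933 (iv D2408)))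
theorem Q2022 : ∀ i, i < 2022 → P i := stepQ 2021 Q2021 (allL N2021 (tt N3943 D4670) (tt N934 (iv D2409)) (tt N3944 D4671) (tt N3897 (iv F3607)) (tt N3945 D4672))
theorem Q2023 : ∀ i, i < 2023 → P i := stepQ 2022 Q2022 (allL N2022 (tt N2006 F1499) (tt N3945 (iv F3663)) (tt N3870 (iv F3564)) (tt N3904 (iv F3611)) (tt N934 (iv D2410)))
theorem Q2024 : ∀ i, i < 2024 → P i := stepQ 2023 Q2023 (allL N2023 (tt N1939 (iv F3424)) (tt N3946 D4673) (tt N935 (iv D2411)) (tt N3896 (iv F3605)) (tt N1938 F3423))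
theorem Q2025 : ∀ i, i < 2025 → P i := stepQ 2024 Q2024 (allL N2024 (tt N2795 (iv F2380)) (tt N2944 (iv F2510)) (tt N2819 (iv F2409)) (tt N3947 D4674) (tt N936 (iv D2415)))
theorem Q2026 : ∀ i, i < 2026 → P i := stepQ 2025 Q2025 (allL N2025 (tt N2844 (iv F2428)) (tt N2945 (iv F2513)) (tt N2766 (iv F2344)) (tt N937 (iv D2416)) (tt N3948 D4675))
theorem Q2027 : ∀ i, i < 2027 → P i := stepQ 2026 Q2026 (allL N2026 (tt N2797 (iv F2383)) (tt N3949 D4676) (tt N938 (iv D2417)) (tt N3950 D4677) (tt N3951 D4678))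
theorem Q2028 : ∀ i, i < 2028 → P i := stepQ 2027 Q2027 (allL N2027 (tt N2747 (iv F2327)) (tt N946 F1500) (tt N3950 (iv F3666)) (tt N938 (iv D2418)) (tt N3952 D4679))
theorem Q2029 : ∀ i, i < 2029 → P i := stepQ 2028 Q2028 (allL N2028 (tt N2426 (iv F1928)) (tt N939 (iv D2419)) (tt N3703 (iv F3321)) (tt N3953 D4680) (tt N3048 (iv F2633)))
theorem Q2030 : ∀ i, i < 2030 → P i := stepQ 2029 Q2029 (allL N2029 (tt N2809 (iv F2396)) (tt N3953 (iv F3669)) (tt N940 F1501) (tt N939 (iv D2420)) (tt N3954 D4681))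
theorem Q2031 : ∀ i, i < 2031 → P i := stepQ 2030 Q2030 (allL N2030 (tt N2786 (iv F2366)) (tt N3048 (iv F2634)) (tt N2767 (iv F2347)) (tt N3951 (iv F5201)) (tt N939 (iv D2421)))
theorem Q2032 : ∀ i, i < 2032 → P i := stepQ 2031 Q2031 (allL N2031 (tt N940 (iv D2422)) (tt N3955 D4683) (tt N2806 (iv F2393)) (tt N2816 (iv F2407)) (tt N2852 F3419))
theorem Q2033 : ∀ i, i < 2033 → P i := stepQ 2032 Q2032 (allL N2032 (tt N2852 (iv F3418)) (tt N951 F1502) (tt N3948 (iv F3665)) (tt N3952 (iv F3668)) (tt N940 (iv D2423)))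
theorem Q2034 : ∀ i, i < 2034 → P i := stepQ 2033 Q2033 (allL N2033 (tt N3383 (iv F3005)) (tt N943 F1503) (tt N3563 F3171) (tt N3956 D4684) (tt N941 (iv D2424)))
theorem Q2035 : ∀ i, i < 2035 → P i := stepQ 2034 Q2034 (allL N2034 (tt N3775 (iv F3459)) (tt N944 F1504) (tt N3675 (iv F3288)) (tt N942 (iv D2425)) (tt N3957 D4685))
theorem Q2036 : ∀ i, i < 2036 → P i := stepQ 2035 Q2035 (allL N2035 (tt N1092 F1506) (tt N3956 (iv F3670)) (tt N1030 F1505) (tt N943 (iv D2426)) (tt N3958 D4686))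
theorem Q2037 : ∀ i, i < 2037 → P i := stepQ 2036 Q2036 (allL N2036 (tt N1211 F2180) (tt N3957 (iv F3672)) (tt N951 (iv F2194)) (tt N3958 (iv F3674)) (tt N944 (iv D2427)))
theorem Q2038 : ∀ i, i < 2038 → P i := stepQ 2037 Q2037 (allL N2037 (tt N3959 D4687) (tt N945 (iv D2428)) (tt N3960 D4688) (tt N3961 D4689) (tt N2317 F1819))
theorem Q2039 : ∀ i, i < 2039 → P i := stepQ 2038 Q2038 (allL N2038 (tt N1095 F1510) (tt N3961 (iv F3678)) (tt N946 F1509) (tt N945 (iv D2429)) (tt N3962 D4690))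
theorem Q2040 : ∀ i, i < 2040 → P i := stepQ 2039 Q2039 (allL N2039 (tt N1187 F1511) (tt N2317 (iv F1818)) (tt N1036 F1512) (tt N949 F1513) (tt N945 (iv D2430)))
theorem Q2041 : ∀ i, i < 2041 → P i := stepQ 2040 Q2040 (allL N2040 (tt N994 F1514) (tt N3952 (iv F3667)) (tt N3958 (iv F3675)) (tt N951 F1515) (tt N946 (iv D2431)))
theorem Q2042 : ∀ i, i < 2042 → P i := stepQ 2041 Q2041 (allL N2041 (tt N3963 D4691) (tt N3703 F3322) (tt N947 (iv D2432)) (tt N3964 D4692) (tt N3702 (iv F3323)))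
theorem Q2043 : ∀ i, i < 2043 → P i := stepQ 2042 Q2042 (allL N2042 (tt N3965 D4693) (tt N948 F1516) (tt N3964 (iv F3683)) (tt N947 (iv D2433)) (tt N3966 D4694))
theorem Q2044 : ∀ i, i < 2044 → P i := stepQ 2043 Q2043 (allL N2043 (tt N1210 F1517) (tt N3966 (iv F3685)) (tt N1035 F2173) (tt N3962 (iv F3681)) (tt N948 (iv D2434)))
theorem Q2045 : ∀ i, i < 2045 → P i := stepQ 2044 Q2044 (allL N2044 (tt N3967 D4695) (tt N950 (iv D2435)) (tt N3968 D4696) (tt N1245 F1518) (tt N1322 (iv F2199)))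
theorem Q2046 : ∀ i, i < 2046 → P i := stepQ 2045 Q2045 (allL N2045 (tt N952 (iv D2438)) (tt N1599 (iv F1565)) (tt N1104 F1523) (tt N3969 D4697) (tt N3970 D4698))
theorem Q2047 : ∀ i, i < 2047 → P i := stepQ 2046 Q2046 (allL N2046 (tt N3970 (iv F3692)) (tt N958 F1546) (tt N3971 D4699) (tt N3972 D4700) (tt N952 (iv D2439)))
theorem Q2048 : ∀ i, i < 2048 → P i := stepQ 2047 Q2047 (allL N2047 (tt N2234 (iv F1740)) (tt N1040 F1547) (tt N953 (iv D2440)) (tt N3973 D4701) (tt N1037 F1548))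
theorem Q2049 : ∀ i, i < 2049 → P i := stepQ 2048 Q2048 (allL N2048 (tt N3974 D4702) (tt N960 F1549) (tt N3973 (iv F3698)) (tt N953 (iv D2441)) (tt N3975 D4703))
theorem Q2050 : ∀ i, i < 2050 → P i := stepQ 2049 Q2049 (allL N2049 (tt N969 F1551) (tt N1393 F1550) (tt N3801 (iv F3483)) (tt N954 (iv D2442)) (tt N3976 D4704))
theorem Q2051 : ∀ i, i < 2051 → P i := stepQ 2050 Q2050 (allL N2050 (tt N956 F1552) (tt N1394 F1553) (tt N3977 D4705) (tt N3978 D4706) (tt N954 (iv D2443)))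
theorem Q2052 : ∀ i, i < 2052 → P i := stepQ 2051 Q2051 (allL N2051 (tt N955 (iv D2444)) (tt N3217 (iv F2831)) (tt N3979 D4707) (tt N3980 D4708) (tt N3981 D4709))
theorem Q2053 : ∀ i, i < 2053 → P i := stepQ 2052 Q2052 (allL N2052 (tt N3981 (iv F3710)) (tt N2954 (iv F2528)) (tt N3982 D4710) (tt N3983 D4711) (tt N955 (iv D2445)))
theorem Q2054 : ∀ i, i < 2054 → P i := stepQ 2053 Q2053 (allL N2053 (tt N966 F1554) (tt N3984 D4712) (tt N956 (iv D2446)) (tt N3985 D4713) (tt N3276 (iv F2904)))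
theorem Q2055 : ∀ i, i < 2055 → P i := stepQ 2054 Q2054 (allL N2054 (tt N3986 D4714) (tt N2956 (iv F2532)) (tt N3985 (iv F3713)) (tt N956 (iv D2447)) (tt N3987 D4715))
theorem Q2056 : ∀ i, i < 2056 → P i := stepQ 2055 Q2055 (allL N2055 (tt N962 F1555) (tt N3890 (iv F3596)) (tt N957 (iv D2448)) (tt N3881 (iv F3580)) (tt N3988 D4716))
theorem Q2057 : ∀ i, i < 2057 → P i := stepQ 2056 Q2056 (allL N2056 (tt N958 F1556) (tt N1718 F1557) (tt N3989 D4717) (tt N3990 D4718) (tt N957 (iv D2449)))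
theorem Q2058 : ∀ i, i < 2058 → P i := stepQ 2057 Q2057 (allL N2057 (tt N3991 D4719) (tt N3992 D4720) (tt N958 (iv D2450)) (tt N3993 D4721) (tt N3994 D4722))
theorem Q2059 : ∀ i, i < 2059 → P i := stepQ 2058 Q2058 (allL N2058 (tt N973 F1558) (tt N3972 (iv F3696)) (tt N3993 (iv F3717)) (tt N958 (iv D2451)) (tt N3995 D4723))
theorem Q2060 : ∀ i, i < 2060 → P i := stepQ 2059 Q2059 (allL N2059 (tt N959 (iv D2452)) (tt N2901 (iv F2467)) (tt N3802 (iv F3487)) (tt N3996 D4724) (tt N2899 F2465))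
theorem Q2061 : ∀ i, i < 2061 → P i := stepQ 2060 Q2060 (allL N2060 (tt N1487 F1559) (tt N959 (iv D2453)) (tt N3997 D4725) (tt N3998 D4726) (tt N1484 (iv F1560)))
theorem Q2062 : ∀ i, i < 2062 → P i := stepQ 2061 Q2061 (allL N2061 (tt N3999 D4727) (tt N3998 (iv F3724)) (tt N960 F1561) (tt N959 (iv D2454)) (tt N4000 D4728))
theorem Q2063 : ∀ i, i < 2063 → P i := stepQ 2062 Q2062 (allL N2062 (tt N2899 (iv F2464)) (tt N1484 F1562) (tt N3276 (iv F2905)) (tt N3994 (iv F5699)) (tt N959 (iv D2455)))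
theorem Q2064 : ∀ i, i < 2064 → P i := stepQ 2063 Q2063 (allL N2063 (tt N960 (iv D2456)) (tt N3884 (iv F3588)) (tt N4001 D4730) (tt N3882 (iv F3586)) (tt N4002 D4731))
theorem Q2065 : ∀ i, i < 2065 → P i := stepQ 2064 Q2064 (allL N2064 (tt N4002 (iv F3727)) (tt N3975 (iv F3699)) (tt N3987 (iv F7850)) (tt N3995 (iv F3719)) (tt N960 (iv D2457)))
theorem Q2066 : ∀ i, i < 2066 → P i := stepQ 2065 Q2065 (allL N2065 (tt N3979 (iv F3704)) (tt N1126 F1563) (tt N962 F1564) (tt N961 (iv D2458)) (tt N4003 D4733))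
theorem Q2067 : ∀ i, i < 2067 → P i := stepQ 2066 Q2066 (allL N2066 (tt N3802 (iv F3485)) (tt N1127 F1571) (tt N974 F1572) (tt N4004 D4734) (tt N961 (iv D2459)))
theorem Q2068 : ∀ i, i < 2068 → P i := stepQ 2067 Q2067 (allL N2067 (tt N3988 (iv F3714)) (tt N1128 F1573) (tt N4005 D4735) (tt N4006 D4736) (tt N962 (iv D2460)))
theorem Q2069 : ∀ i, i < 2069 → P i := stepQ 2068 Q2068 (allL N2068 (tt N3977 (iv F3702)) (tt N2682 (iv F2280)) (tt N963 (iv D2461)) (tt N4007 D4737) (tt N2838 (iv F2420)))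
theorem Q2070 : ∀ i, i < 2070 → P i := stepQ 2069 Q2069 (allL N2069 (tt N4008 D4738) (tt N1130 F1574) (tt N4007 (iv F3735)) (tt N963 (iv D2462)) (tt N4009 D4739))
theorem Q2071 : ∀ i, i < 2071 → P i := stepQ 2070 Q2070 (allL N2070 (tt N4010 D4740) (tt N964 (iv D2463)) (tt N4011 D4741) (tt N2161 (iv F3583)) (tt N4012 D4742))
theorem Q2072 : ∀ i, i < 2072 → P i := stepQ 2071 Q2071 (allL N2071 (tt N3801 (iv F3484)) (tt N4013 D4743) (tt N964 (iv D2464)) (tt N4014 D4744) (tt N4015 D4745))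
theorem Q2073 : ∀ i, i < 2073 → P i := stepQ 2072 Q2072 (allL N2072 (tt N3881 (iv F3581)) (tt N2161 F3582) (tt N4014 (iv F3744)) (tt N964 (iv D2465)) (tt N4016 D4746))
theorem Q2074 : ∀ i, i < 2074 → P i := stepQ 2073 Q2073 (allL N2073 (tt N965 F1575) (tt N4012 (iv F3739)) (tt N4017 D4747) (tt N4018 D4748) (tt N964 (iv D2466)))
theorem Q2075 : ∀ i, i < 2075 → P i := stepQ 2074 Q2074 (allL N2074 (tt N4019 D4749) (tt N3279 (iv F3787)) (tt N965 (iv D2467)) (tt N4020 D4751) (tt N3277 (iv F3785)))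
theorem Q2076 : ∀ i, i < 2076 → P i := stepQ 2075 Q2075 (allL N2075 (tt N4006 (iv F3734)) (tt N3829 (iv F3514)) (tt N4020 (iv F3748)) (tt N965 (iv D2468)) (tt N4021 D4753))
theorem Q2077 : ∀ i, i < 2077 → P i := stepQ 2076 Q2076 (allL N2076 (tt N4022 D4754) (tt N3281 (iv F2909)) (tt N967 F1576) (tt N966 (iv D2469)) (tt N4023 D4755))
theorem Q2078 : ∀ i, i < 2078 → P i := stepQ 2077 Q2077 (allL N2077 (tt N967 (iv D2470)) (tt N4024 D4756) (tt N4025 D4757) (tt N4016 (iv F3746)) (tt N4026 D4758))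
theorem Q2079 : ∀ i, i < 2079 → P i := stepQ 2078 Q2078 (allL N2078 (tt N4026 (iv F3751)) (tt N3834 (iv F3522)) (tt N979 (iv F6315)) (tt N4021 (iv F3750)) (tt N967 (iv D2471)))
theorem Q2080 : ∀ i, i < 2080 → P i := stepQ 2079 Q2079 (allL N2079 (tt N968 (iv D2472)) (tt N980 F1577) (tt N2396 (iv F1902)) (tt N1581 F1607) (tt N4027 D4760))
theorem Q2081 : ∀ i, i < 2081 → P i := stepQ 2080 Q2080 (allL N2080 (tt N2269 (iv F1778)) (tt N970 F1578) (tt N968 (iv D2473)) (tt N968 (iv F1579)) (tt N4028 D4761))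
theorem Q2082 : ∀ i, i < 2082 → P i := stepQ 2081 Q2081 (allL N2081 (tt N4027 (iv F3752)) (tt N971 F1580) (tt N4029 D4762) (tt N4030 D4763) (tt N968 (iv D2474)))
theorem Q2083 : ∀ i, i < 2083 → P i := stepQ 2082 Q2082 (allL N2082 (tt N3444 (iv F3066)) (tt N969 (iv D2475)) (tt N3104 (iv F2697)) (tt N3104 (iv F2698)) (tt N4031 D4764))
theorem Q2084 : ∀ i, i < 2084 → P i := stepQ 2083 Q2083 (allL N2083 (tt N3980 (iv F3707)) (tt N3104 (iv F2696)) (tt N970 F1581) (tt N969 (iv D2476)) (tt N4032 D4765))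
theorem Q2085 : ∀ i, i < 2085 → P i := stepQ 2084 Q2084 (allL N2084 (tt N3976 (iv F3700)) (tt N4031 (iv F3757)) (tt N4019 (iv F3747)) (tt N4033 D4766) (tt N969 (iv D2477)))
theorem Q2086 : ∀ i, i < 2086 → P i := stepQ 2085 Q2085 (allL N2085 (tt N3882 (iv F3584)) (tt N4028 (iv F3754)) (tt N4034 D4767) (tt N978 F1582) (tt N970 (iv D2478)))
theorem Q2087 : ∀ i, i < 2087 → P i := stepQ 2086 Q2086 (allL N2086 (tt N4035 D4768) (tt N4036 D4769) (tt N971 (iv D2479)) (tt N4037 D4770) (tt N4038 D4771))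
theorem Q2088 : ∀ i, i < 2088 → P i := stepQ 2087 Q2087 (allL N2087 (tt N3990 (iv F3715)) (tt N4030 (iv F3756)) (tt N4037 (iv F3759)) (tt N971 (iv D2480)) (tt N4039 D4772))
theorem Q2089 : ∀ i, i < 2089 → P i := stepQ 2088 Q2088 (allL N2088 (tt N972 (iv D2481)) (tt N4040 D4773) (tt N4015 (iv F3745)) (tt N4041 D4774) (tt N4042 D4775))
theorem Q2090 : ∀ i, i < 2090 → P i := stepQ 2089 Q2089 (allL N2089 (tt N4043 D4776) (tt N972 (iv D2482)) (tt N4044 D4777) (tt N4045 D4778) (tt N3130 (iv F3783)))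
theorem Q2091 : ∀ i, i < 2091 → P i := stepQ 2090 Q2090 (allL N2090 (tt N4046 D4780) (tt N4045 (iv F3763)) (tt N973 F1583) (tt N972 (iv D2483)) (tt N4047 D4781))
theorem Q2092 : ∀ i, i < 2092 → P i := stepQ 2091 Q2091 (allL N2091 (tt N4042 (iv F3761)) (tt N3130 (iv F3782)) (tt N3277 (iv F3784)) (tt N977 (iv F3786)) (tt N972 (iv D2484)))
theorem Q2093 : ∀ i, i < 2093 → P i := stepQ 2092 Q2092 (allL N2092 (tt N3995 (iv F3718)) (tt N994 F1584) (tt N4021 (iv F6313)) (tt N979 F1585) (tt N973 (iv D2485)))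
theorem Q2094 : ∀ i, i < 2094 → P i := stepQ 2093 Q2093 (allL N2093 (tt N4001 (iv F3726)) (tt N2697 (iv F2297)) (tt N4004 (iv F3732)) (tt N974 (iv D2486)) (tt N4048 D4784))
theorem Q2095 : ∀ i, i < 2095 → P i := stepQ 2094 Q2094 (allL N2094 (tt N4049 D4785) (tt N996 F1586) (tt N975 (iv D2487)) (tt N4050 D4786) (tt N3928 (iv F3644)))
theorem Q2096 : ∀ i, i < 2096 → P i := stepQ 2095 Q2095 (allL N2095 (tt N4051 D4787) (tt N976 F1587) (tt N4050 (iv F3767)) (tt N975 (iv D2488)) (tt N3931 (iv F5951)))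
theorem Q2097 : ∀ i, i < 2097 → P i := stepQ 2096 Q2096 (allL N2096 (tt N976 (iv D2489)) (tt N4052 D4789) (tt N4053 D4790) (tt N4054 D4791) (tt N4055 D4792))
theorem Q2098 : ∀ i, i < 2098 → P i := stepQ 2097 Q2097 (allL N2097 (tt N4055 (iv F3769)) (tt N3931 (iv F5949)) (tt N4023 (iv F6316)) (tt N4047 (iv F3788)) (tt N976 (iv D2490)))
theorem Q2099 : ∀ i, i < 2099 → P i := stepQ 2098 Q2098 (allL N2098 (tt N4056 D4797) (tt N978 (iv D2492)) (tt N4057 D4798) (tt N4028 F3755) (tt N4058 D4799))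
theorem Q2100 : ∀ i, i < 2100 → P i := stepQ 2099 Q2099 (allL N2099 (tt N3996 (iv F3720)) (tt N4059 D4800) (tt N978 (iv D2493)) (tt N4034 (iv F3758)) (tt N4060 D4801))
theorem Q2101 : ∀ i, i < 2101 → P i := stepQ 2100 Q2100 (allL N2100 (tt N979 F1588) (tt N4058 (iv F3772)) (tt N4061 D4802) (tt N4039 (iv F3760)) (tt N978 (iv D2494)))
theorem Q2102 : ∀ i, i < 2102 → P i := stepQ 2101 Q2101 (allL N2101 (tt N983 F1589) (tt N4027 (iv F3753)) (tt N4062 D4805) (tt N4063 D4806) (tt N980 (iv D2498)))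
theorem Q2103 : ∀ i, i < 2103 → P i := stepQ 2102 Q2102 (allL N2102 (tt N981 (iv D2499)) (tt N2794 F2377) (tt N1589 F2378) (tt N1588 (iv F2379)) (tt N4064 D4807))
theorem Q2104 : ∀ i, i < 2104 → P i := stepQ 2103 Q2103 (allL N2103 (tt N1513 F1590) (tt N981 (iv D2500)) (tt N1459 F1592) (tt N1458 (iv F1591)) (tt N4065 D4808))
theorem Q2105 : ∀ i, i < 2105 → P i := stepQ 2104 Q2104 (allL N2104 (tt N4066 D4809) (tt N1458 F1593) (tt N982 F1594) (tt N981 (iv D2501)) (tt N4067 D4810))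
theorem Q2106 : ∀ i, i < 2106 → P i := stepQ 2105 Q2105 (allL N2105 (tt N4064 (iv F3773)) (tt N4065 (iv F3775)) (tt N4068 D4811) (tt N4069 D4812) (tt N981 (iv D2502)))
theorem Q2107 : ∀ i, i < 2107 → P i := stepQ 2106 Q2106 (allL N2106 (tt N982 (iv D2503)) (tt N3969 (iv F3690)) (tt N1433 F1595) (tt N1599 (iv F1596)) (tt N4070 D4813))
theorem Q2108 : ∀ i, i < 2108 → P i := stepQ 2107 Q2107 (allL N2107 (tt N4070 (iv F3790)) (tt N987 F1597) (tt N4071 D4814) (tt N1000 (iv F1598)) (tt N982 (iv D2504)))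
theorem Q2109 : ∀ i, i < 2109 → P i := stepQ 2108 Q2108 (allL N2108 (tt N4072 D4815) (tt N4073 D4816) (tt N983 (iv D2505)) (tt N4074 D4817) (tt N4075 D4818))
theorem Q2110 : ∀ i, i < 2110 → P i := stepQ 2109 Q2109 (allL N2109 (tt N4076 D4819) (tt N989 F1599) (tt N4074 (iv F3793)) (tt N983 (iv D2506)) (tt N4077 D4820))
theorem Q2111 : ∀ i, i < 2111 → P i := stepQ 2110 Q2110 (allL N2110 (tt N984 (iv D2507)) (tt N3399 (iv F3022)) (tt N4078 D4821) (tt N3398 F3019) (tt N4079 D4822))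
theorem Q2112 : ∀ i, i < 2112 → P i := stepQ 2111 Q2111 (allL N2111 (tt N3857 (iv F3542)) (tt N1459 F1600) (tt N984 (iv D2508)) (tt N1457 (iv F1601)) (tt N4080 D4823))
theorem Q2113 : ∀ i, i < 2113 → P i := stepQ 2112 Q2112 (allL N2112 (tt N1180 (iv F1604)) (tt N985 F1602) (tt N1457 F1603) (tt N984 (iv D2509)) (tt N4081 D4824))
theorem Q2114 : ∀ i, i < 2114 → P i := stepQ 2113 Q2113 (allL N2113 (tt N4079 (iv F3798)) (tt N986 F1608) (tt N4082 D4825) (tt N4083 D4826) (tt N984 (iv D2510)))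
theorem Q2115 : ∀ i, i < 2115 → P i := stepQ 2114 Q2114 (allL N2114 (tt N1182 F1609) (tt N4081 (iv F3802)) (tt N1049 F1610) (tt N1048 F1611) (tt N985 (iv D2511)))
theorem Q2116 : ∀ i, i < 2116 → P i := stepQ 2115 Q2115 (allL N2115 (tt N1183 F1612) (tt N4083 (iv F3810)) (tt N1024 F1613) (tt N986 (iv D2512)) (tt N4084 D4827))
theorem Q2117 : ∀ i, i < 2117 → P i := stepQ 2116 Q2116 (allL N2116 (tt N1184 F1615) (tt N4085 D4828) (tt N987 (iv D2513)) (tt N1001 F1614) (tt N4086 D4829))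
theorem Q2118 : ∀ i, i < 2118 → P i := stepQ 2117 Q2117 (allL N2117 (tt N4087 D4830) (tt N988 (iv D2514)) (tt N4088 D4831) (tt N4089 D4832) (tt N4090 D4833))
theorem Q2119 : ∀ i, i < 2119 → P i := stepQ 2118 Q2118 (allL N2118 (tt N1186 F1616) (tt N4089 (iv F3821)) (tt N989 F1617) (tt N988 (iv D2515)) (tt N4091 D4834))
theorem Q2120 : ∀ i, i < 2120 → P i := stepQ 2119 Q2119 (allL N2119 (tt N1096 F1618) (tt N4090 (iv F3822)) (tt N1025 F1619) (tt N4086 (iv F3820)) (tt N988 (iv D2516)))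
theorem Q2121 : ∀ i, i < 2121 → P i := stepQ 2120 Q2120 (allL N2120 (tt N1248 F1620) (tt N4077 (iv F3795)) (tt N4084 (iv F3816)) (tt N1002 F1621) (tt N989 (iv D2517)))
theorem Q2122 : ∀ i, i < 2122 → P i := stepQ 2121 Q2121 (allL N2121 (tt N4092 D4835) (tt N990 (iv D2518)) (tt N4093 D4836) (tt N4094 D4837) (tt N4095 D4838))
theorem Q2123 : ∀ i, i < 2123 → P i := stepQ 2122 Q2122 (allL N2122 (tt N1190 F1622) (tt N4094 (iv F3826)) (tt N1016 F1623) (tt N990 (iv D2519)) (tt N4096 D4839))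
theorem Q2124 : ∀ i, i < 2124 → P i := stepQ 2123 Q2123 (allL N2123 (tt N993 F1624) (tt N4095 (iv F3827)) (tt N1021 F1625) (tt N4097 D4840) (tt N990 (iv D2520)))
theorem Q2125 : ∀ i, i < 2125 → P i := stepQ 2124 Q2124 (allL N2124 (tt N991 (iv D2521)) (tt N4098 D4841) (tt N4099 D4842) (tt N4100 D4843) (tt N4101 D4844))
theorem Q2126 : ∀ i, i < 2126 → P i := stepQ 2125 Q2125 (allL N2125 (tt N4102 D4845) (tt N4044 (iv F3762)) (tt N991 (iv D2522)) (tt N4103 D4846) (tt N4104 D4847))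
theorem Q2127 : ∀ i, i < 2127 → P i := stepQ 2126 Q2126 (allL N2126 (tt N4105 D4848) (tt N992 F1626) (tt N4103 (iv F3838)) (tt N991 (iv D2523)) (tt N4105 (iv F3841)))
theorem Q2128 : ∀ i, i < 2128 → P i := stepQ 2127 Q2127 (allL N2127 (tt N4101 (iv F3836)) (tt N993 F1627) (tt N4106 D4849) (tt N995 (iv F1628)) (tt N991 (iv D2524)))
theorem Q2129 : ∀ i, i < 2129 → P i := stepQ 2128 Q2128 (allL N2128 (tt N1196 F1629) (tt N4105 (iv F3839)) (tt N1031 F2165) (tt N999 F1630) (tt N992 (iv D2525)))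
theorem Q2130 : ∀ i, i < 2130 → P i := stepQ 2129 Q2129 (allL N2129 (tt N4107 D4850) (tt N3832 F3518) (tt N995 (iv D2527)) (tt N4106 (iv F3842)) (tt N3830 (iv F3519)))
theorem Q2131 : ∀ i, i < 2131 → P i := stepQ 2130 Q2130 (allL N2130 (tt N996 (iv D2528)) (tt N4108 D4851) (tt N4109 D4852) (tt N4110 D4853) (tt N4111 D4854))
theorem Q2132 : ∀ i, i < 2132 → P i := stepQ 2131 Q2131 (allL N2131 (tt N4112 D4855) (tt N4050 (iv F3766)) (tt N997 F1633) (tt N996 (iv D2529)) (tt N4113 D4856))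
theorem Q2133 : ∀ i, i < 2133 → P i := stepQ 2132 Q2132 (allL N2132 (tt N4111 (iv F3846)) (tt N3928 F3645) (tt N4114 D4857) (tt N4104 (iv F7693)) (tt N996 (iv D2530)))
theorem Q2134 : ∀ i, i < 2134 → P i := stepQ 2133 Q2133 (allL N2133 (tt N997 (iv D2531)) (tt N4115 D4859) (tt N4116 D4860) (tt N4117 D4861) (tt N4118 D4862))
theorem Q2135 : ∀ i, i < 2135 → P i := stepQ 2134 Q2134 (allL N2134 (tt N4118 (iv F3848)) (tt N999 F1634) (tt N4119 D4863) (tt N4105 (iv F3840)) (tt N997 (iv D2532)))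
theorem Q2136 : ∀ i, i < 2136 → P i := stepQ 2135 Q2135 (allL N2135 (tt N4120 D4864) (tt N998 (iv D2533)) (tt N4121 D4865) (tt N4122 D4866) (tt N4123 D4867))
theorem Q2137 : ∀ i, i < 2137 → P i := stepQ 2136 Q2136 (allL N2136 (tt N1204 F1635) (tt N4122 (iv F3849)) (tt N1015 F1636) (tt N998 (iv D2534)) (tt N4097 (iv F3833)))
theorem Q2138 : ∀ i, i < 2138 → P i := stepQ 2137 Q2137 (allL N2137 (tt N999 F1637) (tt N4123 (iv F3850)) (tt N1055 F2168) (tt N4096 (iv F3830)) (tt N998 (iv D2535)))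
theorem Q2139 : ∀ i, i < 2139 → P i := stepQ 2138 Q2138 (allL N2138 (tt N1000 (iv D2537)) (tt N4056 (iv F3770)) (tt N4124 D4868) (tt N1582 F1638) (tt N4125 D4869))
theorem Q2140 : ∀ i, i < 2140 → P i := stepQ 2139 Q2139 (allL N2139 (tt N4126 D4870) (tt N4127 D4871) (tt N1000 (iv D2538)) (tt N4071 (iv F3791)) (tt N4128 D4872))
theorem Q2141 : ∀ i, i < 2141 → P i := stepQ 2140 Q2140 (allL N2140 (tt N4125 (iv F3852)) (tt N1002 F1639) (tt N4129 D4873) (tt N4077 (iv F3796)) (tt N1000 (iv D2539)))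
theorem Q2142 : ∀ i, i < 2142 → P i := stepQ 2141 Q2141 (allL N2141 (tt N4130 D4874) (tt N1001 (iv D2540)) (tt N4131 D4875) (tt N4085 (iv F3817)) (tt N4132 D4876))
theorem Q2143 : ∀ i, i < 2143 → P i := stepQ 2142 Q2142 (allL N2142 (tt N1102 F1640) (tt N4132 (iv F3853)) (tt N1050 F2201) (tt N4091 (iv F3825)) (tt N1001 (iv D2541)))
theorem Q2144 : ∀ i, i < 2144 → P i := stepQ 2143 Q2143 (allL N2143 (tt N1093 (iv F2187)) (tt N4133 D4877) (tt N1002 (iv D2542)) (tt N4084 (iv F3815)) (tt N1048 F2178))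
theorem Q2145 : ∀ i, i < 2145 → P i := stepQ 2144 Q2144 (allL N2144 (tt N1003 (iv D2546)) (tt N1583 F1644) (tt N4134 D4878) (tt N1468 F1643) (tt N4135 D4879))
theorem Q2146 : ∀ i, i < 2146 → P i := stepQ 2145 Q2145 (allL N2145 (tt N1335 F1649) (tt N3451 (iv F3073)) (tt N1004 F1650) (tt N1003 (iv D2547)) (tt N4136 D4880))
theorem Q2147 : ∀ i, i < 2147 → P i := stepQ 2146 Q2146 (allL N2146 (tt N4135 (iv F3858)) (tt N3452 (iv F3075)) (tt N4137 D4881) (tt N4138 D4882) (tt N1003 (iv D2548)))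
theorem Q2148 : ∀ i, i < 2148 → P i := stepQ 2147 Q2147 (allL N2147 (tt N2147 F1652) (tt N1689 F1653) (tt N4139 D4883) (tt N1051 F1654) (tt N1004 (iv D2549)))
theorem Q2149 : ∀ i, i < 2149 → P i := stepQ 2148 Q2148 (allL N2148 (tt N4140 D4884) (tt N3511 (iv F3120)) (tt N1005 (iv D2550)) (tt N4141 D4885) (tt N4142 D4886))
theorem Q2150 : ∀ i, i < 2150 → P i := stepQ 2149 Q2149 (allL N2149 (tt N2149 F1655) (tt N1695 F1656) (tt N4141 (iv F3869)) (tt N1005 (iv D2551)) (tt N4143 D4887))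
theorem Q2151 : ∀ i, i < 2151 → P i := stepQ 2150 Q2150 (allL N2150 (tt N4134 (iv F3855)) (tt N1395 F1657) (tt N1006 (iv D2552)) (tt N2753 (iv F2332)) (tt N4144 D4888))
theorem Q2152 : ∀ i, i < 2152 → P i := stepQ 2151 Q2151 (allL N2151 (tt N1007 F1658) (tt N2758 (iv F2338)) (tt N4145 D4889) (tt N2774 (iv F2351)) (tt N1006 (iv D2553)))
theorem Q2153 : ∀ i, i < 2153 → P i := stepQ 2152 Q2152 (allL N2152 (tt N4137 (iv F3862)) (tt N1647 F1659) (tt N1007 (iv D2554)) (tt N3026 (iv F2604)) (tt N4146 D4890))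
theorem Q2154 : ∀ i, i < 2154 → P i := stepQ 2153 Q2153 (allL N2153 (tt N1009 (iv D2555)) (tt N4147 D4891) (tt N4144 (iv F3874)) (tt N4148 D4892) (tt N4149 D4893))
theorem Q2155 : ∀ i, i < 2155 → P i := stepQ 2154 Q2154 (allL N2154 (tt N4150 D4894) (tt N3576 (iv F3185)) (tt N1010 F1668) (tt N1009 (iv D2556)) (tt N3710 (iv F3332)))
theorem Q2156 : ∀ i, i < 2156 → P i := stepQ 2155 Q2155 (allL N2155 (tt N4149 (iv F3880)) (tt N3577 (iv F3188)) (tt N4146 (iv F3877)) (tt N3694 F3312) (tt N1009 (iv D2557)))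
theorem Q2157 : ∀ i, i < 2157 → P i := stepQ 2156 Q2156 (allL N2156 (tt N2156 F1669) (tt N1022 F1670) (tt N3027 F3409) (tt N1053 F1671) (tt N1010 (iv D2558)))
theorem Q2158 : ∀ i, i < 2158 → P i := stepQ 2157 Q2157 (allL N2157 (tt N1074 F1672) (tt N1011 (iv D2559)) (tt N4151 D4895) (tt N4151 F3884) (tt N4152 D4896))
theorem Q2159 : ∀ i, i < 2159 → P i := stepQ 2158 Q2158 (allL N2158 (tt N4153 D4897) (tt N4154 D4898) (tt N1011 (iv D2560)) (tt N4155 D4899) (tt N4156 D4900))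
theorem Q2160 : ∀ i, i < 2160 → P i := stepQ 2159 Q2159 (allL N2159 (tt N3877 (iv F3572)) (tt N4151 (iv F3883)) (tt N4155 (iv F3887)) (tt N1011 (iv D2561)) (tt N4157 D4901))
theorem Q2161 : ∀ i, i < 2161 → P i := stepQ 2160 Q2160 (allL N2160 (tt N1014 F1673) (tt N4152 (iv F3886)) (tt N4158 D4902) (tt N4159 D4903) (tt N1011 (iv D2562)))
theorem Q2162 : ∀ i, i < 2162 → P i := stepQ 2161 Q2161 (allL N2161 (tt N1012 (iv D2563)) (tt N2072 (iv F3582)) (tt N4013 (iv F3740)) (tt N2070 F3583) (tt N4160 D4904))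
theorem Q2163 : ∀ i, i < 2163 → P i := stepQ 2162 Q2162 (allL N2162 (tt N4160 (iv F3889)) (tt N2994 (iv F2570)) (tt N4161 D4905) (tt N3051 (iv F2638)) (tt N1012 (iv D2564)))
theorem Q2164 : ∀ i, i < 2164 → P i := stepQ 2163 Q2163 (allL N2163 (tt N1013 (iv D2565)) (tt N4162 D4906) (tt N4163 D4907) (tt N4164 D4908) (tt N4165 D4909))
theorem Q2165 : ∀ i, i < 2165 → P i := stepQ 2164 Q2164 (allL N2164 (tt N4165 (iv F3898)) (tt N1015 F1674) (tt N4166 D4910) (tt N1103 (iv F1675)) (tt N1013 (iv D2566)))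
theorem Q2166 : ∀ i, i < 2166 → P i := stepQ 2165 Q2165 (allL N2165 (tt N4167 D4911) (tt N4168 D4912) (tt N1014 (iv D2567)) (tt N4169 D4913) (tt N4170 D4914))
theorem Q2167 : ∀ i, i < 2167 → P i := stepQ 2166 Q2166 (allL N2166 (tt N4171 D4915) (tt N1016 F1676) (tt N4169 (iv F3900)) (tt N1014 (iv D2568)) (tt N4172 D4916))
theorem Q2168 : ∀ i, i < 2168 → P i := stepQ 2167 Q2167 (allL N2167 (tt N1188 F1677) (tt N4172 (iv F3901)) (tt N1022 F2184) (tt N1056 (iv F2192)) (tt N1016 (iv D2569)))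
theorem Q2169 : ∀ i, i < 2169 → P i := stepQ 2168 Q2168 (allL N2168 (tt N4173 D4917) (tt N1017 (iv D2570)) (tt N3695 (iv F3313)) (tt N1054 F1679) (tt N4174 D4918))
theorem Q2170 : ∀ i, i < 2170 → P i := stepQ 2169 Q2169 (allL N2169 (tt N1262 F1680) (tt N4174 (iv F3903)) (tt N4097 (iv F3832)) (tt N1021 F1681) (tt N1017 (iv D2571)))
theorem Q2171 : ∀ i, i < 2171 → P i := stepQ 2170 Q2170 (allL N2170 (tt N4175 D4919) (tt N1018 (iv D2572)) (tt N4176 D4920) (tt N1273 F1682) (tt N1286 F1683))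
theorem Q2172 : ∀ i, i < 2172 → P i := stepQ 2171 Q2171 (allL N2171 (tt N1019 (iv D2573)) (tt N4177 D4921) (tt N4178 D4922) (tt N4179 D4923) (tt N4180 D4924))
theorem Q2173 : ∀ i, i < 2173 → P i := stepQ 2172 Q2172 (allL N2172 (tt N4181 D4925) (tt N3575 (iv F3182)) (tt N1019 (iv D2574)) (tt N4182 D4926) (tt N4183 D4927))
theorem Q2174 : ∀ i, i < 2174 → P i := stepQ 2173 Q2173 (allL N2173 (tt N4184 D4928) (tt N1020 F1684) (tt N4182 (iv F3909)) (tt N1019 (iv D2575)) (tt N4185 D4929))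
theorem Q2175 : ∀ i, i < 2175 → P i := stepQ 2174 Q2174 (allL N2174 (tt N4180 (iv F3908)) (tt N1021 F1685) (tt N4186 D4930) (tt N4174 F3904) (tt N1019 (iv D2576)))
theorem Q2176 : ∀ i, i < 2176 → P i := stepQ 2175 Q2175 (allL N2175 (tt N1261 F1686) (tt N4185 (iv F3910)) (tt N4096 (iv F3829)) (tt N1055 F1687) (tt N1020 (iv D2577)))
theorem Q2177 : ∀ i, i < 2177 → P i := stepQ 2176 Q2176 (allL N2176 (tt N1023 (iv D2579)) (tt N4187 D4931) (tt N1778 F3812) (tt N1777 F3813) (tt N4188 D4932))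
theorem Q2178 : ∀ i, i < 2178 → P i := stepQ 2177 Q2177 (allL N2177 (tt N4189 D4933) (tt N4190 D4934) (tt N1023 (iv D2580)) (tt N4191 D4935) (tt N4192 D4936))
theorem Q2179 : ∀ i, i < 2179 → P i := stepQ 2178 Q2178 (allL N2178 (tt N4193 D4937) (tt N1024 F1690) (tt N4191 (iv F3917)) (tt N1023 (iv D2581)) (tt N4194 D4938))
theorem Q2180 : ∀ i, i < 2180 → P i := stepQ 2179 Q2179 (allL N2179 (tt N4188 (iv F3914)) (tt N1025 F1691) (tt N4195 D4939) (tt N4196 D4940) (tt N1023 (iv D2582)))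
theorem Q2181 : ∀ i, i < 2181 → P i := stepQ 2180 Q2180 (allL N2180 (tt N1256 F1692) (tt N4194 (iv F3918)) (tt N4091 (iv F3824)) (tt N1050 F1693) (tt N1024 (iv D2583)))
theorem Q2182 : ∀ i, i < 2182 → P i := stepQ 2181 Q2181 (allL N2181 (tt N1250 F1694) (tt N4196 (iv F3920)) (tt N4086 (iv F3819)) (tt N1025 (iv D2584)) (tt N1049 F1695))
theorem Q2183 : ∀ i, i < 2183 → P i := stepQ 2182 Q2182 (allL N2182 (tt N4187 (iv F3912)) (tt N1026 (iv D2585)) (tt N4197 D4941) (tt N4197 F3925) (tt N4198 D4942))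
theorem Q2184 : ∀ i, i < 2184 → P i := stepQ 2183 Q2183 (allL N2183 (tt N4199 D4943) (tt N4200 D4944) (tt N1026 (iv D2586)) (tt N4201 D4945) (tt N4202 D4946))
theorem Q2185 : ∀ i, i < 2185 → P i := stepQ 2184 Q2184 (allL N2184 (tt N3886 (iv F3594)) (tt N4197 (iv F3923)) (tt N4201 (iv F3929)) (tt N1026 (iv D2587)) (tt N4203 D4947))
theorem Q2186 : ∀ i, i < 2186 → P i := stepQ 2185 Q2185 (allL N2185 (tt N1029 F1696) (tt N4198 (iv F3926)) (tt N4204 D4948) (tt N4205 D4949) (tt N1026 (iv D2588)))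
theorem Q2187 : ∀ i, i < 2187 → P i := stepQ 2186 Q2186 (allL N2186 (tt N1027 (iv D2589)) (tt N4206 D4950) (tt N4207 D4951) (tt N4208 D4952) (tt N4209 D4953))
theorem Q2188 : ∀ i, i < 2188 → P i := stepQ 2187 Q2187 (allL N2187 (tt N4210 D4954) (tt N3914 (iv F3623)) (tt N1028 F1697) (tt N1027 (iv D2590)) (tt N4211 D4955))
theorem Q2189 : ∀ i, i < 2189 → P i := stepQ 2188 Q2188 (allL N2188 (tt N4209 (iv F3934)) (tt N3915 (iv F3625)) (tt N4212 D4956) (tt N1043 (iv F7105)) (tt N1027 (iv D2591)))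
theorem Q2190 : ∀ i, i < 2190 → P i := stepQ 2189 Q2189 (allL N2189 (tt N1028 (iv D2592)) (tt N4213 D4958) (tt N4214 D4959) (tt N4215 D4960) (tt N4216 D4961))
theorem Q2191 : ∀ i, i < 2191 → P i := stepQ 2190 Q2190 (allL N2190 (tt N4216 (iv F3938)) (tt N1031 F1698) (tt N4217 D4962) (tt N1045 F1699) (tt N1028 (iv D2593)))
theorem Q2192 : ∀ i, i < 2192 → P i := stepQ 2191 Q2191 (allL N2191 (tt N4218 D4963) (tt N3841 (iv F7152)) (tt N1029 (iv D2594)) (tt N1046 F1700) (tt N3839 (iv F7154)))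
theorem Q2193 : ∀ i, i < 2193 → P i := stepQ 2192 Q2192 (allL N2192 (tt N3609 (iv F3216)) (tt N1030 (iv D2595)) (tt N4219 D4965) (tt N1251 F1701) (tt N4220 D4966))
theorem Q2194 : ∀ i, i < 2194 → P i := stepQ 2193 Q2193 (allL N2193 (tt N1031 F1702) (tt N4220 (iv F3942)) (tt N3962 (iv F3680)) (tt N1035 F1703) (tt N1030 (iv D2596)))
theorem Q2195 : ∀ i, i < 2195 → P i := stepQ 2194 Q2194 (allL N2194 (tt N3644 (iv F3260)) (tt N3677 (iv F3293)) (tt N1033 F1708) (tt N1032 (iv D2601)) (tt N4221 D4967))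
theorem Q2196 : ∀ i, i < 2196 → P i := stepQ 2195 Q2195 (allL N2195 (tt N3638 (iv F3254)) (tt N3678 (iv F3297)) (tt N3630 (iv F3245)) (tt N4222 D4968) (tt N1032 (iv D2602)))
theorem Q2197 : ∀ i, i < 2197 → P i := stepQ 2196 Q2196 (allL N2196 (tt N3656 (iv F3271)) (tt N1035 F1709) (tt N4223 D4969) (tt N4220 (iv F3943)) (tt N1033 (iv D2603)))
theorem Q2198 : ∀ i, i < 2198 → P i := stepQ 2197 Q2197 (allL N2197 (tt N2784 (iv F2363)) (tt N2950 (iv F2522)) (tt N1034 (iv D2604)) (tt N4224 D4970) (tt N2948 F2518))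
theorem Q2199 : ∀ i, i < 2199 → P i := stepQ 2198 Q2198 (allL N2198 (tt N4225 D4971) (tt N1036 F1710) (tt N4224 (iv F3944)) (tt N1034 (iv D2605)) (tt N1251 (iv F1711)))
theorem Q2200 : ∀ i, i < 2200 → P i := stepQ 2199 Q2199 (allL N2199 (tt N4226 D4972) (tt N1039 F1713) (tt N2199 F1714) (tt N1037 (iv D2607)) (tt N3971 (iv F3694)))
theorem Q2201 : ∀ i, i < 2201 → P i := stepQ 2200 Q2200 (allL N2200 (tt N1038 (iv D2608)) (tt N1397 F1715) (tt N3920 (iv F3633)) (tt N4227 D4973) (tt N4228 D4974))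
theorem Q2202 : ∀ i, i < 2202 → P i := stepQ 2201 Q2201 (allL N2201 (tt N4229 D4975) (tt N3680 (iv F3300)) (tt N1039 F1716) (tt N1038 (iv D2609)) (tt N4230 D4976))
theorem Q2203 : ∀ i, i < 2203 → P i := stepQ 2202 Q2202 (allL N2202 (tt N4228 (iv F3949)) (tt N2955 F2531) (tt N4231 D4977) (tt N4232 D4978) (tt N1038 (iv D2610)))
theorem Q2204 : ∀ i, i < 2204 → P i := stepQ 2203 Q2203 (allL N2203 (tt N1039 (iv D2611)) (tt N1719 F1717) (tt N4233 D4979) (tt N3940 (iv F3659)) (tt N4234 D4980))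
theorem Q2205 : ∀ i, i < 2205 → P i := stepQ 2204 Q2204 (allL N2204 (tt N4234 (iv F3953)) (tt N3971 F3695) (tt N4235 D4981) (tt N4216 (iv F3939)) (tt N1039 (iv D2612)))
theorem Q2206 : ∀ i, i < 2206 → P i := stepQ 2205 Q2205 (allL N2205 (tt N4236 D4982) (tt N3997 (iv F3722)) (tt N1040 (iv D2613)) (tt N4237 D4983) (tt N4238 D4984))
theorem Q2207 : ∀ i, i < 2207 → P i := stepQ 2206 Q2206 (allL N2206 (tt N4239 D4985) (tt N3973 (iv F3697)) (tt N4237 (iv F3956)) (tt N1040 (iv D2614)) (tt N4215 (iv F3937)))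
theorem Q2208 : ∀ i, i < 2208 → P i := stepQ 2207 Q2207 (allL N2207 (tt N3920 (iv F3632)) (tt N1296 F1718) (tt N1041 (iv D2615)) (tt N4240 D4986) (tt N2420 (iv F1921)))
theorem Q2209 : ∀ i, i < 2209 → P i := stepQ 2208 Q2208 (allL N2208 (tt N4233 (iv F3952)) (tt N1297 F1719) (tt N4240 (iv F3961)) (tt N1041 (iv D2616)) (tt N4241 D4987))
theorem Q2210 : ∀ i, i < 2210 → P i := stepQ 2209 Q2209 (allL N2209 (tt N1043 F1720) (tt N1298 F1721) (tt N2371 F1874) (tt N4242 D4988) (tt N1041 (iv D2617)))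
theorem Q2211 : ∀ i, i < 2211 → P i := stepQ 2210 Q2210 (allL N2210 (tt N1042 (iv D2618)) (tt N4243 D4989) (tt N4244 D4990) (tt N4245 D4991) (tt N4246 D4992))
theorem Q2212 : ∀ i, i < 2212 → P i := stepQ 2211 Q2211 (allL N2211 (tt N4246 (iv F3970)) (tt N3927 (iv F3643)) (tt N4247 D4993) (tt N4211 (iv F7106)) (tt N1042 (iv D2619)))
theorem Q2213 : ∀ i, i < 2213 → P i := stepQ 2212 Q2212 (allL N2212 (tt N4231 (iv F3951)) (tt N3289 (iv F2917)) (tt N1043 (iv D2620)) (tt N4212 (iv F7104)) (tt N3287 F2915))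
theorem Q2214 : ∀ i, i < 2214 → P i := stepQ 2213 Q2213 (allL N2213 (tt N4248 D4998) (tt N1044 (iv D2622)) (tt N4249 D4999) (tt N4249 F3976) (tt N4250 D5000))
theorem Q2215 : ∀ i, i < 2215 → P i := stepQ 2214 Q2214 (allL N2214 (tt N4227 (iv F3948)) (tt N4251 D5001) (tt N1044 (iv D2623)) (tt N4252 D5002) (tt N4253 D5003))
theorem Q2216 : ∀ i, i < 2216 → P i := stepQ 2215 Q2215 (allL N2215 (tt N3940 (iv F3660)) (tt N4249 (iv F3974)) (tt N4252 (iv F3980)) (tt N1044 (iv D2624)) (tt N4205 (iv F3933)))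
theorem Q2217 : ∀ i, i < 2217 → P i := stepQ 2216 Q2216 (allL N2216 (tt N1045 F1722) (tt N4250 (iv F3977)) (tt N4254 D5004) (tt N4203 (iv F3931)) (tt N1044 (iv D2625)))
theorem Q2218 : ∀ i, i < 2218 → P i := stepQ 2217 Q2217 (allL N2217 (tt N4255 D5005) (tt N3845 (iv F7555)) (tt N1045 (iv D2626)) (tt N4217 (iv F3940)) (tt N3843 (iv F7554)))
theorem Q2219 : ∀ i, i < 2219 → P i := stepQ 2218 Q2218 (allL N2218 (tt N1047 (iv D2627)) (tt N4248 (iv F3972)) (tt N1895 F3805) (tt N1894 F3806) (tt N4256 D5008))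
theorem Q2220 : ∀ i, i < 2220 → P i := stepQ 2219 Q2219 (allL N2219 (tt N4257 D5009) (tt N4258 D5010) (tt N1047 (iv D2628)) (tt N4259 D5011) (tt N4260 D5012))
theorem Q2221 : ∀ i, i < 2221 → P i := stepQ 2220 Q2220 (allL N2220 (tt N4261 D5013) (tt N1049 F1723) (tt N4259 (iv F3987)) (tt N1047 (iv D2629)) (tt N4196 (iv F3921)))
theorem Q2222 : ∀ i, i < 2222 → P i := stepQ 2221 Q2221 (allL N2221 (tt N4256 (iv F3981)) (tt N1050 F1724) (tt N4262 D5014) (tt N4194 F3919) (tt N1047 (iv D2630)))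
theorem Q2223 : ∀ i, i < 2223 → P i := stepQ 2222 Q2222 (allL N2222 (tt N4263 D5015) (tt N1048 (iv D2631)) (tt N4264 D5016) (tt N4081 F3803) (tt N4133 (iv F3854)))
theorem Q2224 : ∀ i, i < 2224 → P i := stepQ 2223 Q2223 (allL N2223 (tt N4265 D5017) (tt N3789 (iv F3472)) (tt N1051 (iv D2637)) (tt N4139 (iv F3864)) (tt N4266 D5018))
theorem Q2225 : ∀ i, i < 2225 → P i := stepQ 2224 Q2224 (allL N2224 (tt N1053 F1730) (tt N3938 (iv F3656)) (tt N4267 D5019) (tt N4143 (iv F3872)) (tt N1051 (iv D2638)))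
theorem Q2226 : ∀ i, i < 2226 → P i := stepQ 2225 Q2225 (allL N2225 (tt N1052 (iv D2639)) (tt N3627 F3996) (tt N4268 D5020) (tt N3625 (iv F3997)) (tt N4269 D5021))
theorem Q2227 : ∀ i, i < 2227 → P i := stepQ 2226 Q2226 (allL N2226 (tt N4269 (iv F4001)) (tt N3583 F3195) (tt N4270 D5022) (tt N3710 (iv F3331)) (tt N1052 (iv D2640)))
theorem Q2228 : ∀ i, i < 2228 → P i := stepQ 2227 Q2227 (allL N2227 (tt N4271 D5023) (tt N3001 F3406) (tt N1053 (iv D2641)) (tt N3027 (iv F3407)) (tt N2991 (iv F3408)))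
theorem Q2229 : ∀ i, i < 2229 → P i := stepQ 2228 Q2228 (allL N2228 (tt N1054 (iv D2642)) (tt N4272 D5024) (tt N4273 D5025) (tt N4274 D5026) (tt N4275 D5027))
theorem Q2230 : ∀ i, i < 2230 → P i := stepQ 2229 Q2229 (allL N2229 (tt N4276 D5028) (tt N3696 (iv F3316)) (tt N1054 (iv D2643)) (tt N3695 F3314) (tt N4277 D5029))
theorem Q2231 : ∀ i, i < 2231 → P i := stepQ 2230 Q2230 (allL N2230 (tt N4275 (iv F4004)) (tt N1055 F1731) (tt N4278 D5030) (tt N4185 (iv F3911)) (tt N1054 (iv D2644)))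
theorem Q2232 : ∀ i, i < 2232 → P i := stepQ 2231 Q2231 (allL N2231 (tt N4279 D5031) (tt N1056 (iv D2646)) (tt N4280 D5032) (tt N4172 (iv F3902)) (tt N1103 F2197))
theorem Q2233 : ∀ i, i < 2233 → P i := stepQ 2232 Q2232 (allL N2232 (tt N1057 (iv D2655)) (tt N4164 (iv F3897)) (tt N2232 F1737) (tt N4162 F3894) (tt N4281 D5033))
theorem Q2234 : ∀ i, i < 2234 → P i := stepQ 2233 Q2233 (allL N2233 (tt N4281 (iv F4006)) (tt N1062 F1738) (tt N4282 D5034) (tt N4283 D5035) (tt N1057 (iv D2656)))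
theorem Q2235 : ∀ i, i < 2235 → P i := stepQ 2234 Q2234 (allL N2234 (tt N2047 F1740) (tt N1820 F1741) (tt N1058 (iv D2657)) (tt N4284 D5036) (tt N1818 F1739))
theorem Q2236 : ∀ i, i < 2236 → P i := stepQ 2235 Q2235 (allL N2235 (tt N4285 D5037) (tt N1064 F1742) (tt N4284 (iv F4012)) (tt N1058 (iv D2658)) (tt N4286 D5038))
theorem Q2237 : ∀ i, i < 2237 → P i := stepQ 2236 Q2236 (allL N2236 (tt N1059 (iv D2659)) (tt N1221 F1743) (tt N2777 (iv F2354)) (tt N1219 F1744) (tt N4287 D5039))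
theorem Q2238 : ∀ i, i < 2238 → P i := stepQ 2237 Q2237 (allL N2237 (tt N4287 (iv F4014)) (tt N2732 (iv F2311)) (tt N4288 D5040) (tt N4289 D5041) (tt N1059 (iv D2660)))
theorem Q2239 : ∀ i, i < 2239 → P i := stepQ 2238 Q2238 (allL N2238 (tt N1072 F1745) (tt N4290 D5042) (tt N1060 (iv D2661)) (tt N4291 D5043) (tt N4292 D5044))
theorem Q2240 : ∀ i, i < 2240 → P i := stepQ 2239 Q2239 (allL N2239 (tt N4293 D5045) (tt N2733 (iv F2312)) (tt N4291 (iv F4018)) (tt N1060 (iv D2662)) (tt N4294 D5046))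
theorem Q2241 : ∀ i, i < 2241 → P i := stepQ 2240 Q2240 (allL N2240 (tt N1065 F1747) (tt N4295 D5047) (tt N1061 (iv D2663)) (tt N1697 F1746) (tt N4296 D5048))
theorem Q2242 : ∀ i, i < 2242 → P i := stepQ 2241 Q2241 (allL N2241 (tt N1062 F1748) (tt N1702 F1749) (tt N4297 D5049) (tt N4298 D5050) (tt N1061 (iv D2664)))
theorem Q2243 : ∀ i, i < 2243 → P i := stepQ 2242 Q2242 (allL N2242 (tt N4299 D5051) (tt N4300 D5052) (tt N1062 (iv D2665)) (tt N4301 D5053) (tt N4302 D5054))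
theorem Q2244 : ∀ i, i < 2244 → P i := stepQ 2243 Q2243 (allL N2243 (tt N1079 F1750) (tt N4283 (iv F4009)) (tt N4301 (iv F4028)) (tt N1062 (iv D2666)) (tt N4303 D5055))
theorem Q2245 : ∀ i, i < 2245 → P i := stepQ 2244 Q2244 (allL N2244 (tt N1063 (iv D2667)) (tt N4107 (iv F3843)) (tt N1929 F1751) (tt N4304 D5056) (tt N4305 D5057))
theorem Q2246 : ∀ i, i < 2246 → P i := stepQ 2245 Q2245 (allL N2245 (tt N4306 D5058) (tt N1063 (iv D2668)) (tt N4307 D5059) (tt N4308 D5060) (tt N4309 D5061))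
theorem Q2247 : ∀ i, i < 2247 → P i := stepQ 2246 Q2246 (allL N2246 (tt N4310 D5062) (tt N4308 (iv F4037)) (tt N1064 F1752) (tt N1063 (iv D2669)) (tt N4311 D5063))
theorem Q2248 : ∀ i, i < 2248 → P i := stepQ 2247 Q2247 (allL N2247 (tt N4305 (iv F4033)) (tt N4309 (iv F4038)) (tt N4292 (iv F4020)) (tt N4302 (iv F8545)) (tt N1063 (iv D2670)))
theorem Q2249 : ∀ i, i < 2249 → P i := stepQ 2248 Q2248 (allL N2248 (tt N1064 (iv D2671)) (tt N1704 (iv F1754)) (tt N4312 D5065) (tt N1698 F1753) (tt N4313 D5066))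
theorem Q2250 : ∀ i, i < 2250 → P i := stepQ 2249 Q2249 (allL N2249 (tt N4313 (iv F4042)) (tt N4286 (iv F4013)) (tt N4294 (iv F7130)) (tt N4303 (iv F4030)) (tt N1064 (iv D2672)))
theorem Q2251 : ∀ i, i < 2251 → P i := stepQ 2250 Q2250 (allL N2250 (tt N4296 (iv F4024)) (tt N2250 F1755) (tt N4314 D5068) (tt N4315 D5069) (tt N1065 (iv D2673)))
theorem Q2252 : ∀ i, i < 2252 → P i := stepQ 2251 Q2251 (allL N2251 (tt N1931 F1756) (tt N1840 (iv F1757)) (tt N1066 (iv D2674)) (tt N4316 D5070) (tt N4317 D5071))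
theorem Q2253 : ∀ i, i < 2253 → P i := stepQ 2252 Q2252 (allL N2252 (tt N4318 D5072) (tt N2252 F1758) (tt N4316 (iv F4048)) (tt N1066 (iv D2675)) (tt N4319 D5073))
theorem Q2254 : ∀ i, i < 2254 → P i := stepQ 2253 Q2253 (allL N2253 (tt N1949 F1761) (tt N1086 F1759) (tt N1068 F1760) (tt N1067 (iv D2676)) (tt N4320 D5074))
theorem Q2255 : ∀ i, i < 2255 → P i := stepQ 2254 Q2254 (allL N2254 (tt N1941 F1762) (tt N1087 F1763) (tt N3036 (iv F2613)) (tt N4321 D5075) (tt N1067 (iv D2677)))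
theorem Q2256 : ∀ i, i < 2256 → P i := stepQ 2255 Q2255 (allL N2255 (tt N1068 (iv D2678)) (tt N3055 (iv F2644)) (tt N1945 F1764) (tt N2448 (iv F1953)) (tt N4322 D5076))
theorem Q2257 : ∀ i, i < 2257 → P i := stepQ 2256 Q2256 (allL N2256 (tt N4322 (iv F4057)) (tt N1071 F1765) (tt N4323 D5077) (tt N4324 D5078) (tt N1068 (iv D2679)))
theorem Q2258 : ∀ i, i < 2258 → P i := stepQ 2257 Q2257 (allL N2257 (tt N1943 F1766) (tt N2917 (iv F2480)) (tt N1069 (iv D2680)) (tt N4325 D5079) (tt N4326 D5080))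
theorem Q2259 : ∀ i, i < 2259 → P i := stepQ 2258 Q2258 (allL N2258 (tt N4327 D5081) (tt N1073 F1767) (tt N4325 (iv F4061)) (tt N1069 (iv D2681)) (tt N4328 D5082))
theorem Q2260 : ∀ i, i < 2260 → P i := stepQ 2259 Q2259 (allL N2259 (tt N4329 D5083) (tt N1070 (iv D2682)) (tt N2792 (iv F2372)) (tt N1170 F1774) (tt N4330 D5084))
theorem Q2261 : ∀ i, i < 2261 → P i := stepQ 2260 Q2260 (allL N2260 (tt N1928 F1768) (tt N1589 (iv F1770)) (tt N1070 (iv D2683)) (tt N1587 F1769) (tt N4331 D5085))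
theorem Q2262 : ∀ i, i < 2262 → P i := stepQ 2261 Q2261 (allL N2261 (tt N1697 F1771) (tt N1170 F1773) (tt N1587 F1772) (tt N1070 (iv D2684)) (tt N4332 D5086))
theorem Q2263 : ∀ i, i < 2263 → P i := stepQ 2262 Q2262 (allL N2262 (tt N1071 F1775) (tt N4330 (iv F4070)) (tt N4333 D5087) (tt N4334 D5088) (tt N1070 (iv D2685)))
theorem Q2264 : ∀ i, i < 2264 → P i := stepQ 2263 Q2263 (allL N2263 (tt N4335 D5089) (tt N4336 D5090) (tt N1071 (iv D2686)) (tt N4337 D5091) (tt N4338 D5092))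
theorem Q2265 : ∀ i, i < 2265 → P i := stepQ 2264 Q2264 (allL N2264 (tt N4315 (iv F4046)) (tt N4324 (iv F4060)) (tt N4337 (iv F4079)) (tt N1071 (iv D2687)) (tt N4339 D5093))
theorem Q2266 : ∀ i, i < 2266 → P i := stepQ 2265 Q2265 (allL N2265 (tt N4340 D5094) (tt N3312 (iv F2937)) (tt N1073 F1776) (tt N1072 (iv D2688)) (tt N4341 D5095))
theorem Q2267 : ∀ i, i < 2267 → P i := stepQ 2266 Q2266 (allL N2266 (tt N4292 (iv F4019)) (tt N2388 (iv F1894)) (tt N1083 F1777) (tt N4338 (iv F6328)) (tt N1072 (iv D2689)))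
theorem Q2268 : ∀ i, i < 2268 → P i := stepQ 2267 Q2267 (allL N2267 (tt N1073 (iv D2690)) (tt N4342 D5097) (tt N4343 D5098) (tt N4332 (iv F4076)) (tt N4344 D5099))
theorem Q2269 : ∀ i, i < 2269 → P i := stepQ 2268 Q2268 (allL N2268 (tt N4344 (iv F4086)) (tt N4328 (iv F4067)) (tt N1085 (iv F4137)) (tt N4339 (iv F4081)) (tt N1073 (iv D2691)))
theorem Q2270 : ∀ i, i < 2270 → P i := stepQ 2269 Q2269 (allL N2269 (tt N2080 F1778) (tt N1371 (iv F1779)) (tt N1074 (iv D2692)) (tt N1370 F1780) (tt N4345 D5101))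
theorem Q2271 : ∀ i, i < 2271 → P i := stepQ 2270 Q2270 (allL N2270 (tt N1143 (iv F1783)) (tt N1076 F1781) (tt N1370 F1782) (tt N1074 (iv D2693)) (tt N4346 D5102))
theorem Q2272 : ∀ i, i < 2272 → P i := stepQ 2271 Q2271 (allL N2271 (tt N4152 (iv F3885)) (tt N1077 F1784) (tt N4347 D5103) (tt N4348 D5104) (tt N1074 (iv D2694)))
theorem Q2273 : ∀ i, i < 2273 → P i := stepQ 2272 Q2272 (allL N2272 (tt N3437 (iv F3054)) (tt N1075 (iv D2695)) (tt N1368 F1785) (tt N1367 (iv F1786)) (tt N4349 D5105))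
theorem Q2274 : ∀ i, i < 2274 → P i := stepQ 2273 Q2273 (allL N2273 (tt N1219 F1787) (tt N1367 F1788) (tt N1076 F1789) (tt N1075 (iv D2696)) (tt N4350 D5106))
theorem Q2275 : ∀ i, i < 2275 → P i := stepQ 2274 Q2274 (allL N2274 (tt N1930 F1790) (tt N4349 (iv F4096)) (tt N4335 (iv F4078)) (tt N4351 D5107) (tt N1075 (iv D2697)))
theorem Q2276 : ∀ i, i < 2276 → P i := stepQ 2275 Q2275 (allL N2275 (tt N1698 F1791) (tt N4346 (iv F4091)) (tt N4352 D5108) (tt N1084 F1792) (tt N1076 (iv D2698)))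
theorem Q2277 : ∀ i, i < 2277 → P i := stepQ 2276 Q2276 (allL N2276 (tt N4353 D5109) (tt N4354 D5110) (tt N1077 (iv D2699)) (tt N4355 D5111) (tt N4356 D5112))
theorem Q2278 : ∀ i, i < 2278 → P i := stepQ 2277 Q2277 (allL N2277 (tt N4298 (iv F4025)) (tt N4348 (iv F4094)) (tt N4355 (iv F4102)) (tt N1077 (iv D2700)) (tt N4357 D5113))
theorem Q2279 : ∀ i, i < 2279 → P i := stepQ 2278 Q2278 (allL N2278 (tt N1078 (iv D2701)) (tt N4358 D5114) (tt N4331 (iv F4073)) (tt N4359 D5115) (tt N4360 D5116))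
theorem Q2280 : ∀ i, i < 2280 → P i := stepQ 2279 Q2279 (allL N2279 (tt N4361 D5117) (tt N1078 (iv D2702)) (tt N4362 D5118) (tt N4363 D5119) (tt N4364 D5120))
theorem Q2281 : ∀ i, i < 2281 → P i := stepQ 2280 Q2280 (allL N2280 (tt N4365 D5121) (tt N4363 (iv F4107)) (tt N1079 F1793) (tt N1078 (iv D2703)) (tt N4366 D5122))
theorem Q2282 : ∀ i, i < 2282 → P i := stepQ 2281 Q2281 (allL N2281 (tt N4360 (iv F4105)) (tt N4364 (iv F4108)) (tt N4338 (iv F4080)) (tt N1083 (iv F6330)) (tt N1078 (iv D2704)))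
theorem Q2283 : ∀ i, i < 2283 → P i := stepQ 2282 Q2282 (allL N2282 (tt N4303 (iv F4029)) (tt N1097 F1794) (tt N4339 (iv F4138)) (tt N1085 F1795) (tt N1079 (iv D2705)))
theorem Q2284 : ∀ i, i < 2284 → P i := stepQ 2283 Q2283 (allL N2283 (tt N1285 (iv F1831)) (tt N1080 (iv D2706)) (tt N3636 (iv F3251)) (tt N4367 D5125) (tt N4368 D5126))
theorem Q2285 : ∀ i, i < 2285 → P i := stepQ 2284 Q2284 (allL N2284 (tt N4312 (iv F4041)) (tt N4367 (iv F4110)) (tt N2779 (iv F2358)) (tt N1080 (iv D2707)) (tt N4369 D5127))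
theorem Q2286 : ∀ i, i < 2286 → P i := stepQ 2285 Q2285 (allL N2285 (tt N1083 F1796) (tt N4368 (iv F4112)) (tt N4317 (iv F4051)) (tt N4370 D5128) (tt N1080 (iv D2708)))
theorem Q2287 : ∀ i, i < 2287 → P i := stepQ 2286 Q2286 (allL N2286 (tt N1081 (iv D2709)) (tt N3039 (iv F2621)) (tt N1562 (iv F2265)) (tt N4371 D5129) (tt N3037 F2618))
theorem Q2288 : ∀ i, i < 2288 → P i := stepQ 2287 Q2287 (allL N2287 (tt N4372 D5130) (tt N1099 F1797) (tt N1081 (iv D2710)) (tt N4373 D5131) (tt N2906 (iv F2474)))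
theorem Q2289 : ∀ i, i < 2289 → P i := stepQ 2288 Q2288 (allL N2288 (tt N4374 D5132) (tt N1082 F1798) (tt N4373 (iv F4119)) (tt N1081 (iv D2711)) (tt N4375 D5133))
theorem Q2290 : ∀ i, i < 2290 → P i := stepQ 2289 Q2289 (allL N2289 (tt N3037 (iv F2617)) (tt N1083 F1799) (tt N4376 D5134) (tt N4364 (iv F6329)) (tt N1081 (iv D2712)))
theorem Q2291 : ∀ i, i < 2291 → P i := stepQ 2290 Q2290 (allL N2290 (tt N1082 (iv D2713)) (tt N4377 D5136) (tt N4378 D5137) (tt N4379 D5138) (tt N4380 D5139))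
theorem Q2292 : ∀ i, i < 2292 → P i := stepQ 2291 Q2291 (allL N2291 (tt N4380 (iv F4131)) (tt N4375 (iv F4121)) (tt N4341 (iv F4139)) (tt N4366 (iv F6331)) (tt N1082 (iv D2714)))
theorem Q2293 : ∀ i, i < 2293 → P i := stepQ 2292 Q2292 (allL N2292 (tt N4381 D5144) (tt N1084 (iv D2716)) (tt N4382 D5145) (tt N4346 F4092) (tt N4383 D5146))
theorem Q2294 : ∀ i, i < 2294 → P i := stepQ 2293 Q2293 (allL N2293 (tt N4304 (iv F4032)) (tt N4384 D5147) (tt N1084 (iv D2717)) (tt N4352 (iv F4100)) (tt N4385 D5148))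
theorem Q2295 : ∀ i, i < 2295 → P i := stepQ 2294 Q2294 (allL N2294 (tt N1085 F1800) (tt N4383 (iv F4134)) (tt N4386 D5149) (tt N4357 (iv F4104)) (tt N1084 (iv D2718)))
theorem Q2296 : ∀ i, i < 2296 → P i := stepQ 2295 Q2295 (allL N2295 (tt N1086 (iv D2720)) (tt N4387 D5150) (tt N1395 F1801) (tt N4388 D5151) (tt N4389 D5152))
theorem Q2297 : ∀ i, i < 2297 → P i := stepQ 2296 Q2296 (allL N2296 (tt N4389 (iv F4143)) (tt N4320 (iv F4055)) (tt N4390 D5153) (tt N4391 D5154) (tt N1086 (iv D2721)))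
theorem Q2298 : ∀ i, i < 2298 → P i := stepQ 2297 Q2297 (allL N2297 (tt N2942 (iv F2507)) (tt N3297 (iv F2926)) (tt N1087 (iv D2722)) (tt N4392 D5155) (tt N4393 D5156))
theorem Q2299 : ∀ i, i < 2299 → P i := stepQ 2298 Q2298 (allL N2298 (tt N4394 D5157) (tt N4321 (iv F4056)) (tt N4392 (iv F4145)) (tt N1087 (iv D2723)) (tt N4395 D5158))
theorem Q2300 : ∀ i, i < 2300 → P i := stepQ 2299 Q2299 (allL N2299 (tt N3399 (iv F3021)) (tt N1088 (iv D2724)) (tt N1978 F1802) (tt N3355 (iv F2981)) (tt N4396 D5159))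
theorem Q2301 : ∀ i, i < 2301 → P i := stepQ 2300 Q2300 (allL N2300 (tt N1393 F1803) (tt N3446 (iv F3069)) (tt N1088 (iv D2725)) (tt N4397 D5160) (tt N4398 D5161))
theorem Q2302 : ∀ i, i < 2302 → P i := stepQ 2301 Q2301 (allL N2301 (tt N3382 (iv F3002)) (tt N3355 F2982) (tt N4397 (iv F4150)) (tt N1088 (iv D2726)) (tt N4399 D5162))
theorem Q2303 : ∀ i, i < 2303 → P i := stepQ 2302 Q2302 (allL N2302 (tt N1089 F1804) (tt N4396 (iv F4147)) (tt N4400 D5163) (tt N4401 D5164) (tt N1088 (iv D2727)))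
theorem Q2304 : ∀ i, i < 2304 → P i := stepQ 2303 Q2303 (allL N2303 (tt N4402 D5165) (tt N4403 D5166) (tt N1089 (iv D2728)) (tt N4404 D5167) (tt N4405 D5168))
theorem Q2305 : ∀ i, i < 2305 → P i := stepQ 2304 Q2304 (allL N2304 (tt N3956 (iv F3671)) (tt N1092 F1805) (tt N4404 (iv F4157)) (tt N1089 (iv D2729)) (tt N4406 D5169))
theorem Q2306 : ∀ i, i < 2306 → P i := stepQ 2305 Q2305 (allL N2305 (tt N2008 F1806) (tt N1090 (iv D2730)) (tt N1280 F1807) (tt N4407 D5170) (tt N4376 (iv F4122)))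
theorem Q2307 : ∀ i, i < 2307 → P i := stepQ 2306 Q2306 (allL N2306 (tt N4408 D5171) (tt N4407 (iv F4161)) (tt N1091 F1808) (tt N1090 (iv D2731)) (tt N4409 D5172))
theorem Q2308 : ∀ i, i < 2308 → P i := stepQ 2307 Q2307 (allL N2307 (tt N1409 F1809) (tt N4376 (iv F4124)) (tt N4393 (iv F4146)) (tt N4405 (iv F4824)) (tt N1090 (iv D2732)))
theorem Q2309 : ∀ i, i < 2309 → P i := stepQ 2308 Q2308 (allL N2308 (tt N1091 (iv D2733)) (tt N4410 D5174) (tt N4411 D5175) (tt N4399 (iv F4152)) (tt N4412 D5176))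
theorem Q2310 : ∀ i, i < 2310 → P i := stepQ 2309 Q2309 (allL N2309 (tt N4412 (iv F4167)) (tt N1093 F1810) (tt N4395 (iv F8631)) (tt N4406 (iv F4160)) (tt N1091 (iv D2734)))
theorem Q2311 : ∀ i, i < 2311 → P i := stepQ 2310 Q2310 (allL N2310 (tt N3958 (iv F3673)) (tt N4406 (iv F4159)) (tt N1097 F2186) (tt N1093 F1811) (tt N1092 (iv D2735)))
theorem Q2312 : ∀ i, i < 2312 → P i := stepQ 2311 Q2311 (allL N2311 (tt N1094 (iv D2736)) (tt N4413 D5178) (tt N4414 D5179) (tt N4415 D5180) (tt N4416 D5181))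
theorem Q2313 : ∀ i, i < 2313 → P i := stepQ 2312 Q2312 (allL N2312 (tt N4417 D5182) (tt N4362 (iv F4106)) (tt N1094 (iv D2737)) (tt N4418 D5183) (tt N2908 F7791))
theorem Q2314 : ∀ i, i < 2314 → P i := stepQ 2313 Q2313 (allL N2313 (tt N4419 D5185) (tt N1095 F1813) (tt N4418 (iv F4169)) (tt N1094 (iv D2738)) (tt N4420 D5186))
theorem Q2315 : ∀ i, i < 2315 → P i := stepQ 2314 Q2314 (allL N2314 (tt N4416 (iv F4168)) (tt N1096 F1814) (tt N4421 D5187) (tt N1101 (iv F1815)) (tt N1094 (iv D2739)))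
theorem Q2316 : ∀ i, i < 2316 → P i := stepQ 2315 Q2315 (allL N2315 (tt N3962 (iv F3679)) (tt N4420 (iv F4174)) (tt N1274 (iv F2202)) (tt N1102 F1816) (tt N1095 (iv D2740)))
theorem Q2317 : ∀ i, i < 2317 → P i := stepQ 2316 Q2316 (allL N2316 (tt N2901 F2468) (tt N1483 F2469) (tt N1098 (iv D2742)) (tt N4422 D5188) (tt N1481 (iv F2470)))
theorem Q2318 : ∀ i, i < 2318 → P i := stepQ 2317 Q2317 (allL N2317 (tt N3388 (iv F3013)) (tt N2039 F1818) (tt N4422 (iv F4178)) (tt N1098 (iv D2743)) (tt N2037 (iv F1819)))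
theorem Q2319 : ∀ i, i < 2319 → P i := stepQ 2318 Q2318 (allL N2318 (tt N4423 D5189) (tt N4373 (iv F4118)) (tt N1100 F1820) (tt N1099 (iv D2745)) (tt N4424 D5190))
theorem Q2320 : ∀ i, i < 2320 → P i := stepQ 2319 Q2319 (allL N2319 (tt N1100 (iv D2747)) (tt N4425 D5191) (tt N4426 D5192) (tt N4427 D5193) (tt N4428 D5194))
theorem Q2321 : ∀ i, i < 2321 → P i := stepQ 2320 Q2320 (allL N2320 (tt N4428 (iv F4180)) (tt N1102 F1821) (tt N4429 D5195) (tt N4420 (iv F4175)) (tt N1100 (iv D2748)))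
theorem Q2322 : ∀ i, i < 2322 → P i := stepQ 2321 Q2321 (allL N2321 (tt N2356 (iv F1857)) (tt N4326 (iv F4064)) (tt N1101 (iv D2749)) (tt N4421 (iv F4176)) (tt N2917 (iv F2479)))
theorem Q2323 : ∀ i, i < 2323 → P i := stepQ 2322 Q2322 (allL N2322 (tt N1103 (iv D2751)) (tt N4381 (iv F4132)) (tt N4430 D5196) (tt N4157 (iv F3888)) (tt N4279 (iv F4005)))
theorem Q2324 : ∀ i, i < 2324 → P i := stepQ 2323 Q2323 (allL N2323 (tt N4431 D5197) (tt N4432 D5198) (tt N1103 (iv D2752)) (tt N4166 (iv F3899)) (tt N4433 D5199))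
theorem Q2325 : ∀ i, i < 2325 → P i := stepQ 2324 Q2324 (allL N2324 (tt N1707 F1823) (tt N1104 (iv D2756)) (tt N3852 (iv F3534)) (tt N1174 (iv F1948)) (tt N4434 D5200))
theorem Q2326 : ∀ i, i < 2326 → P i := stepQ 2325 Q2325 (allL N2325 (tt N4162 (iv F3892)) (tt N1174 F1949) (tt N3969 (iv F3691)) (tt N1104 (iv D2757)) (tt N4435 D5201))
theorem Q2327 : ∀ i, i < 2327 → P i := stepQ 2326 Q2326 (allL N2326 (tt N1105 F1824) (tt N4434 (iv F4182)) (tt N4436 D5202) (tt N4437 D5203) (tt N1104 (iv D2758)))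
theorem Q2328 : ∀ i, i < 2328 → P i := stepQ 2327 Q2327 (allL N2327 (tt N4438 D5204) (tt N1293 (iv F1826)) (tt N1105 (iv D2759)) (tt N4439 D5205) (tt N1287 F1825))
theorem Q2329 : ∀ i, i < 2329 → P i := stepQ 2328 Q2328 (allL N2328 (tt N4283 (iv F4010)) (tt N1119 F1827) (tt N4439 (iv F4192)) (tt N1105 (iv D2760)) (tt N4440 D5206))
theorem Q2330 : ∀ i, i < 2330 → P i := stepQ 2329 Q2329 (allL N2329 (tt N1106 (iv D2761)) (tt N1278 F1828) (tt N1330 F1829) (tt N4441 D5207) (tt N1275 F1830))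
theorem Q2331 : ∀ i, i < 2331 → P i := stepQ 2330 Q2330 (allL N2330 (tt N4442 D5208) (tt N1295 F1832) (tt N1107 F1833) (tt N1106 (iv D2762)) (tt N4443 D5209))
theorem Q2332 : ∀ i, i < 2332 → P i := stepQ 2331 Q2331 (allL N2331 (tt N1107 (iv D2763)) (tt N4444 D5210) (tt N4445 D5211) (tt N4435 (iv F4185)) (tt N4446 D5212))
theorem Q2333 : ∀ i, i < 2333 → P i := stepQ 2332 Q2332 (allL N2332 (tt N4446 (iv F4206)) (tt N1125 F1834) (tt N2332 F2212) (tt N4440 (iv F4196)) (tt N1107 (iv D2764)))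
theorem Q2334 : ∀ i, i < 2334 → P i := stepQ 2333 Q2333 (allL N2333 (tt N1147 F1835) (tt N1400 F1836) (tt N4447 D5213) (tt N4448 D5214) (tt N1108 (iv D2765)))
theorem Q2335 : ∀ i, i < 2335 → P i := stepQ 2334 Q2334 (allL N2334 (tt N1129 F1837) (tt N1843 (iv F1838)) (tt N1109 (iv D2766)) (tt N4449 D5215) (tt N1841 F1839))
theorem Q2336 : ∀ i, i < 2336 → P i := stepQ 2335 Q2335 (allL N2335 (tt N4450 D5216) (tt N1402 F1840) (tt N4449 (iv F4211)) (tt N1109 (iv D2767)) (tt N4451 D5217))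
theorem Q2337 : ∀ i, i < 2337 → P i := stepQ 2336 Q2336 (allL N2336 (tt N1110 (iv D2768)) (tt N4452 D5218) (tt N2953 (iv F2526)) (tt N4453 D5219) (tt N4454 D5220))
theorem Q2338 : ∀ i, i < 2338 → P i := stepQ 2337 Q2337 (allL N2337 (tt N4454 (iv F4217)) (tt N1113 F1841) (tt N4455 D5221) (tt N4456 D5222) (tt N1110 (iv D2769)))
theorem Q2339 : ∀ i, i < 2339 → P i := stepQ 2338 Q2338 (allL N2338 (tt N1455 F1843) (tt N1291 (iv F1844)) (tt N1111 (iv D2770)) (tt N4457 D5223) (tt N1289 F1842))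
theorem Q2340 : ∀ i, i < 2340 → P i := stepQ 2339 Q2339 (allL N2339 (tt N4458 D5224) (tt N1115 F1845) (tt N4457 (iv F4222)) (tt N1111 (iv D2771)) (tt N4459 D5225))
theorem Q2341 : ∀ i, i < 2341 → P i := stepQ 2340 Q2340 (allL N2340 (tt N1113 F1846) (tt N3214 (iv F2829)) (tt N4460 D5226) (tt N4461 D5227) (tt N1112 (iv D2772)))
theorem Q2342 : ∀ i, i < 2342 → P i := stepQ 2341 Q2341 (allL N2341 (tt N4462 D5228) (tt N4463 D5229) (tt N1113 (iv D2773)) (tt N4464 D5230) (tt N4465 D5231))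
theorem Q2343 : ∀ i, i < 2343 → P i := stepQ 2342 Q2342 (allL N2342 (tt N4448 (iv F4209)) (tt N4456 (iv F4220)) (tt N4464 (iv F4227)) (tt N1113 (iv D2774)) (tt N4466 D5232))
theorem Q2344 : ∀ i, i < 2344 → P i := stepQ 2343 Q2343 (allL N2343 (tt N4467 D5233) (tt N1114 (iv D2775)) (tt N4468 D5234) (tt N4469 D5235) (tt N4470 D5236))
theorem Q2345 : ∀ i, i < 2345 → P i := stepQ 2344 Q2344 (allL N2344 (tt N4471 D5237) (tt N4469 (iv F4236)) (tt N1115 F1847) (tt N1114 (iv D2776)) (tt N4472 D5238))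
theorem Q2346 : ∀ i, i < 2346 → P i := stepQ 2345 Q2345 (allL N2345 (tt N1139 F1848) (tt N4470 (iv F4238)) (tt N1123 F1849) (tt N4465 (iv F4445)) (tt N1114 (iv D2777)))
theorem Q2347 : ∀ i, i < 2347 → P i := stepQ 2346 Q2346 (allL N2346 (tt N1115 (iv D2778)) (tt N3216 (iv F2830)) (tt N4473 D5240) (tt N3176 (iv F2771)) (tt N4474 D5241))
theorem Q2348 : ∀ i, i < 2348 → P i := stepQ 2347 Q2347 (allL N2347 (tt N4474 (iv F4244)) (tt N4459 (iv F4223)) (tt N1125 (iv F5297)) (tt N4466 (iv F4230)) (tt N1115 (iv D2779)))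
theorem Q2349 : ∀ i, i < 2349 → P i := stepQ 2348 Q2348 (allL N2348 (tt N1128 F1850) (tt N1747 F1851) (tt N4462 (iv F4226)) (tt N4475 D5243) (tt N1116 (iv D2780)))
theorem Q2350 : ∀ i, i < 2350 → P i := stepQ 2349 Q2349 (allL N2349 (tt N4476 D5244) (tt N4477 D5245) (tt N1117 (iv D2781)) (tt N4478 D5246) (tt N4479 D5247))
theorem Q2351 : ∀ i, i < 2351 → P i := stepQ 2350 Q2350 (allL N2350 (tt N1150 F1852) (tt N1712 F1853) (tt N4478 (iv F4250)) (tt N1117 (iv D2782)) (tt N1917 F2210))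
theorem Q2352 : ∀ i, i < 2352 → P i := stepQ 2351 Q2351 (allL N2351 (tt N1118 (iv D2783)) (tt N4480 D5248) (tt N3177 (iv F2774)) (tt N4481 D5249) (tt N4482 D5250))
theorem Q2353 : ∀ i, i < 2353 → P i := stepQ 2352 Q2352 (allL N2352 (tt N4483 D5251) (tt N1118 (iv D2784)) (tt N4484 D5252) (tt N4485 D5253) (tt N4486 D5254))
theorem Q2354 : ∀ i, i < 2354 → P i := stepQ 2353 Q2353 (allL N2353 (tt N4487 D5255) (tt N4485 (iv F4254)) (tt N1119 F1854) (tt N1118 (iv D2785)) (tt N4488 D5256))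
theorem Q2355 : ∀ i, i < 2355 → P i := stepQ 2354 Q2354 (allL N2354 (tt N4482 (iv F4252)) (tt N4486 (iv F4255)) (tt N4465 (iv F4229)) (tt N1123 (iv F4448)) (tt N1118 (iv D2786)))
theorem Q2356 : ∀ i, i < 2356 → P i := stepQ 2355 Q2355 (allL N2355 (tt N1155 F1855) (tt N4440 (iv F4194)) (tt N4466 (iv F5295)) (tt N1125 F1856) (tt N1119 (iv D2787)))
theorem Q2357 : ∀ i, i < 2357 → P i := stepQ 2356 Q2356 (allL N2356 (tt N2321 F1857) (tt N1120 (iv D2788)) (tt N4489 D5259) (tt N4490 D5260) (tt N1427 F1863))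
theorem Q2358 : ∀ i, i < 2358 → P i := stepQ 2357 Q2357 (allL N2357 (tt N1165 F1859) (tt N4490 (iv F4261)) (tt N1355 F1858) (tt N1120 (iv D2789)) (tt N4491 D5261))
theorem Q2359 : ∀ i, i < 2359 → P i := stepQ 2358 Q2358 (allL N2358 (tt N1123 F1860) (tt N1427 (iv F1862)) (tt N1841 F1861) (tt N4492 D5262) (tt N1120 (iv D2790)))
theorem Q2360 : ∀ i, i < 2360 → P i := stepQ 2359 Q2359 (allL N2359 (tt N1121 (iv D2791)) (tt N3825 (iv F3510)) (tt N1487 (iv F2471)) (tt N4493 D5263) (tt N3705 (iv F3326)))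
theorem Q2361 : ∀ i, i < 2361 → P i := stepQ 2360 Q2360 (allL N2360 (tt N3018 (iv F2597)) (tt N1294 F1864) (tt N1121 (iv D2792)) (tt N4494 D5264) (tt N3016 (iv F2595)))
theorem Q2362 : ∀ i, i < 2362 → P i := stepQ 2361 Q2361 (allL N2361 (tt N4495 D5265) (tt N1122 F1865) (tt N4494 (iv F4267)) (tt N1121 (iv D2793)) (tt N4496 D5266))
theorem Q2363 : ∀ i, i < 2363 → P i := stepQ 2362 Q2362 (allL N2362 (tt N3705 F3327) (tt N1123 F1866) (tt N2362 F1867) (tt N4486 (iv F4447)) (tt N1121 (iv D2794)))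
theorem Q2364 : ∀ i, i < 2364 → P i := stepQ 2363 Q2363 (allL N2363 (tt N1122 (iv D2795)) (tt N4497 D5268) (tt N3179 (iv F2779)) (tt N3178 F2776) (tt N4498 D5269))
theorem Q2365 : ∀ i, i < 2365 → P i := stepQ 2364 Q2364 (allL N2364 (tt N4498 (iv F4271)) (tt N4496 (iv F4268)) (tt N4472 (iv F5298)) (tt N4488 (iv F4449)) (tt N1122 (iv D2796)))
theorem Q2366 : ∀ i, i < 2366 → P i := stepQ 2365 Q2365 (allL N2365 (tt N1157 F1869) (tt N4499 D5274) (tt N1124 (iv D2798)) (tt N1706 F1868) (tt N4500 D5275))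
theorem Q2367 : ∀ i, i < 2367 → P i := stepQ 2366 Q2366 (allL N2366 (tt N1125 F1870) (tt N1717 F1871) (tt N4501 D5276) (tt N1917 F2208) (tt N1124 (iv D2799)))
theorem Q2368 : ∀ i, i < 2368 → P i := stepQ 2367 Q2367 (allL N2367 (tt N3177 (iv F2772)) (tt N4003 (iv F3730)) (tt N4476 (iv F4247)) (tt N4502 D5280) (tt N1126 (iv D2801)))
theorem Q2369 : ∀ i, i < 2369 → P i := stepQ 2368 Q2368 (allL N2368 (tt N3179 (iv F2777)) (tt N4004 (iv F3731)) (tt N1157 F1872) (tt N1127 (iv D2802)) (tt N4503 D5281))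
theorem Q2370 : ∀ i, i < 2370 → P i := stepQ 2369 Q2369 (allL N2369 (tt N4460 (iv F4224)) (tt N4504 D5282) (tt N1128 (iv D2803)) (tt N4505 D5283) (tt N4506 D5284))
theorem Q2371 : ∀ i, i < 2371 → P i := stepQ 2370 Q2370 (allL N2370 (tt N1136 F1873) (tt N4006 (iv F3733)) (tt N4505 (iv F4279)) (tt N1128 (iv D2804)) (tt N4507 D5285))
theorem Q2372 : ∀ i, i < 2372 → P i := stepQ 2371 Q2371 (allL N2371 (tt N4508 D5286) (tt N1129 (iv D2805)) (tt N2209 (iv F1874)) (tt N4509 D5287) (tt N4510 D5288))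
theorem Q2373 : ∀ i, i < 2373 → P i := stepQ 2372 Q2372 (allL N2372 (tt N4473 (iv F4243)) (tt N4509 (iv F4285)) (tt N1130 F1875) (tt N1129 (iv D2806)) (tt N4511 D5289))
theorem Q2374 : ∀ i, i < 2374 → P i := stepQ 2373 Q2373 (allL N2373 (tt N1841 F1876) (tt N4510 (iv F4288)) (tt N1158 F1877) (tt N4506 (iv F4461)) (tt N1129 (iv D2807)))
theorem Q2375 : ∀ i, i < 2375 → P i := stepQ 2374 Q2374 (allL N2374 (tt N1130 (iv D2808)) (tt N1749 (iv F1879)) (tt N4471 (iv F4240)) (tt N1705 F1878) (tt N4501 (iv F5291)))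
theorem Q2376 : ∀ i, i < 2376 → P i := stepQ 2375 Q2375 (allL N2375 (tt N4501 (iv F5290)) (tt N4009 (iv F3736)) (tt N4503 (iv F5301)) (tt N4507 (iv F4281)) (tt N1130 (iv D2809)))
theorem Q2377 : ∀ i, i < 2377 → P i := stepQ 2376 Q2376 (allL N2376 (tt N4512 D5293) (tt N1591 F1880) (tt N1131 (iv D2810)) (tt N2378 (iv F1883)) (tt N4513 D5294))
theorem Q2378 : ∀ i, i < 2378 → P i := stepQ 2377 Q2377 (allL N2377 (tt N3351 (iv F2976)) (tt N1134 F1881) (tt N4514 D5295) (tt N4515 D5296) (tt N1131 (iv D2811)))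
theorem Q2379 : ∀ i, i < 2379 → P i := stepQ 2378 Q2378 (allL N2378 (tt N4516 D5297) (tt N1132 (iv D2812)) (tt N1241 F1882) (tt N2376 F1883) (tt N4517 D5298))
theorem Q2380 : ∀ i, i < 2380 → P i := stepQ 2379 Q2379 (allL N2379 (tt N1354 F1884) (tt N4517 (iv F4299)) (tt N1151 F1885) (tt N4518 D5299) (tt N1132 (iv D2813)))
theorem Q2381 : ∀ i, i < 2381 → P i := stepQ 2380 Q2380 (allL N2380 (tt N1705 F1886) (tt N2573 (iv F2128)) (tt N4519 D5300) (tt N1140 F1887) (tt N1133 (iv D2814)))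
theorem Q2382 : ∀ i, i < 2382 → P i := stepQ 2381 Q2381 (allL N2381 (tt N4447 (iv F4207)) (tt N4520 D5301) (tt N1134 (iv D2815)) (tt N4521 D5302) (tt N4522 D5303))
theorem Q2383 : ∀ i, i < 2383 → P i := stepQ 2382 Q2382 (allL N2382 (tt N4475 (iv F4245)) (tt N4515 (iv F4296)) (tt N4521 (iv F4303)) (tt N1134 (iv D2816)) (tt N4523 D5304))
theorem Q2384 : ∀ i, i < 2384 → P i := stepQ 2383 Q2383 (allL N2383 (tt N1135 (iv D2817)) (tt N4524 D5305) (tt N1147 F1888) (tt N4525 D5306) (tt N4526 D5307))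
theorem Q2385 : ∀ i, i < 2385 → P i := stepQ 2384 Q2384 (allL N2384 (tt N4527 D5308) (tt N1135 (iv D2818)) (tt N4528 D5309) (tt N4529 D5310) (tt N1641 F4438))
theorem Q2386 : ∀ i, i < 2386 → P i := stepQ 2385 Q2385 (allL N2385 (tt N4464 (iv F4228)) (tt N4529 (iv F4310)) (tt N1136 F1889) (tt N1135 (iv D2819)) (tt N4530 D5312))
theorem Q2387 : ∀ i, i < 2387 → P i := stepQ 2386 Q2386 (allL N2386 (tt N4526 (iv F4307)) (tt N1641 (iv F4435)) (tt N1154 F1890) (tt N1139 (iv F4436)) (tt N1135 (iv D2820)))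
theorem Q2388 : ∀ i, i < 2388 → P i := stepQ 2387 Q2387 (allL N2387 (tt N4507 (iv F4280)) (tt N1522 F1891) (tt N1155 (iv F5289)) (tt N1141 F1892) (tt N1136 (iv D2821)))
theorem Q2389 : ∀ i, i < 2389 → P i := stepQ 2388 Q2388 (allL N2388 (tt N1137 (iv D2822)) (tt N2266 F1894) (tt N4531 D5315) (tt N4532 D5316) (tt N1663 F1893))
theorem Q2390 : ∀ i, i < 2390 → P i := stepQ 2389 Q2389 (allL N2389 (tt N4533 D5317) (tt N1524 F1895) (tt N1137 (iv D2823)) (tt N4534 D5318) (tt N1657 F1896))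
theorem Q2391 : ∀ i, i < 2391 → P i := stepQ 2390 Q2390 (allL N2390 (tt N4535 D5319) (tt N1138 F1897) (tt N4534 (iv F4321)) (tt N1137 (iv D2824)) (tt N1662 F5735))
theorem Q2392 : ∀ i, i < 2392 → P i := stepQ 2391 Q2391 (allL N2391 (tt N1138 (iv D2825)) (tt N4536 D5321) (tt N4450 (iv F4213)) (tt N4537 D5322) (tt N4538 D5323))
theorem Q2393 : ∀ i, i < 2393 → P i := stepQ 2392 Q2392 (allL N2392 (tt N4538 (iv F4325)) (tt N1662 (iv F5734)) (tt N1163 (iv F5287)) (tt N4530 (iv F4442)) (tt N1138 (iv D2826)))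
theorem Q2394 : ∀ i, i < 2394 → P i := stepQ 2393 Q2393 (allL N2393 (tt N4539 D5328) (tt N1140 (iv D2828)) (tt N4540 D5329) (tt N2573 F2129) (tt N4541 D5330))
theorem Q2395 : ∀ i, i < 2395 → P i := stepQ 2394 Q2394 (allL N2394 (tt N4449 (iv F4212)) (tt N4542 D5331) (tt N1140 (iv D2829)) (tt N4519 (iv F4302)) (tt N4543 D5332))
theorem Q2396 : ∀ i, i < 2396 → P i := stepQ 2395 Q2395 (allL N2395 (tt N1141 F1900) (tt N4541 (iv F4328)) (tt N4544 D5333) (tt N4523 (iv F4305)) (tt N1140 (iv D2830)))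
theorem Q2397 : ∀ i, i < 2397 → P i := stepQ 2396 Q2396 (allL N2396 (tt N4151 (iv F3882)) (tt N1168 F1901) (tt N2079 F1902) (tt N1142 (iv D2832)) (tt N4545 D5337))
theorem Q2398 : ∀ i, i < 2398 → P i := stepQ 2397 Q2397 (allL N2397 (tt N1144 F1903) (tt N1169 F1904) (tt N4546 D5338) (tt N4547 D5339) (tt N1142 (iv D2833)))
theorem Q2399 : ∀ i, i < 2399 → P i := stepQ 2398 Q2398 (allL N2398 (tt N4346 (iv F4090)) (tt N1148 F1905) (tt N2617 (iv F2159)) (tt N1164 (iv F1906)) (tt N1143 (iv D2834)))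
theorem Q2400 : ∀ i, i < 2400 → P i := stepQ 2399 Q2399 (allL N2399 (tt N4548 D5340) (tt N2622 (iv F2163)) (tt N1144 (iv D2835)) (tt N2691 (iv F2294)) (tt N2616 (iv F2156)))
theorem Q2401 : ∀ i, i < 2401 → P i := stepQ 2400 Q2400 (allL N2400 (tt N4348 (iv F4095)) (tt N1150 F1907) (tt N2691 (iv F2295)) (tt N1144 (iv D2836)) (tt N4549 D5341))
theorem Q2402 : ∀ i, i < 2402 → P i := stepQ 2401 Q2401 (allL N2401 (tt N1145 (iv D2837)) (tt N4550 D5342) (tt N1736 F1968) (tt N4551 D5343) (tt N4552 D5344))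
theorem Q2403 : ∀ i, i < 2403 → P i := stepQ 2402 Q2402 (allL N2402 (tt N1540 F1909) (tt N1146 F1908) (tt N1145 (iv D2838)) (tt N1145 (iv F1910)) (tt N4553 D5345))
theorem Q2404 : ∀ i, i < 2404 → P i := stepQ 2403 Q2403 (allL N2403 (tt N4552 (iv F4344)) (tt N1147 F1911) (tt N4554 D5346) (tt N4555 D5347) (tt N1145 (iv D2839)))
theorem Q2405 : ∀ i, i < 2405 → P i := stepQ 2404 Q2404 (allL N2404 (tt N3176 (iv F2769)) (tt N4553 (iv F4346)) (tt N4537 (iv F4324)) (tt N4450 (iv F4214)) (tt N1146 (iv D2840)))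
theorem Q2406 : ∀ i, i < 2406 → P i := stepQ 2405 Q2405 (allL N2405 (tt N4461 (iv F4225)) (tt N4555 (iv F4348)) (tt N4525 (iv F4306)) (tt N1147 (iv D2841)) (tt N4556 D5348))
theorem Q2407 : ∀ i, i < 2407 → P i := stepQ 2406 Q2406 (allL N2406 (tt N3178 (iv F2775)) (tt N4557 D5349) (tt N1148 (iv D2842)) (tt N1165 F1912) (tt N4558 D5350))
theorem Q2408 : ∀ i, i < 2408 → P i := stepQ 2407 Q2407 (allL N2407 (tt N1149 (iv D2843)) (tt N4559 D5351) (tt N1354 F1913) (tt N4487 (iv F4256)) (tt N4492 (iv F4444)))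
theorem Q2409 : ∀ i, i < 2409 → P i := stepQ 2408 Q2408 (allL N2408 (tt N4560 D5353) (tt N1149 (iv D2844)) (tt N4561 D5354) (tt N4562 D5355) (tt N4563 D5356))
theorem Q2410 : ∀ i, i < 2410 → P i := stepQ 2409 Q2409 (allL N2409 (tt N4481 (iv F4251)) (tt N4562 (iv F4351)) (tt N1150 F1914) (tt N1149 (iv D2845)) (tt N4564 D5357))
theorem Q2411 : ∀ i, i < 2411 → P i := stepQ 2410 Q2410 (allL N2410 (tt N4492 (iv F4443)) (tt N4563 (iv F4352)) (tt N4526 (iv F4308)) (tt N4558 (iv F4453)) (tt N1149 (iv D2846)))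
theorem Q2412 : ∀ i, i < 2412 → P i := stepQ 2411 Q2411 (allL N2411 (tt N1917 (iv F2209)) (tt N4549 (iv F4335)) (tt N4556 (iv F5311)) (tt N1166 F1915) (tt N1150 (iv D2847)))
theorem Q2413 : ∀ i, i < 2413 → P i := stepQ 2412 Q2412 (allL N2412 (tt N4565 D5360) (tt N1151 (iv D2848)) (tt N4566 D5361) (tt N4567 D5362) (tt N4568 D5363))
theorem Q2414 : ∀ i, i < 2414 → P i := stepQ 2413 Q2413 (allL N2413 (tt N4478 (iv F4249)) (tt N4567 (iv F4354)) (tt N4518 (iv F4301)) (tt N1151 (iv D2849)) (tt N4569 D5364))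
theorem Q2415 : ∀ i, i < 2415 → P i := stepQ 2414 Q2414 (allL N2414 (tt N1154 F1916) (tt N4568 (iv F4355)) (tt N4522 (iv F4304)) (tt N4570 D5365) (tt N1151 (iv D2850)))
theorem Q2416 : ∀ i, i < 2416 → P i := stepQ 2415 Q2415 (allL N2415 (tt N1152 (iv D2851)) (tt N4571 D5366) (tt N4572 D5367) (tt N4573 D5368) (tt N1811 (iv F4429)))
theorem Q2417 : ∀ i, i < 2417 → P i := stepQ 2416 Q2416 (allL N2416 (tt N4574 D5370) (tt N1193 F1917) (tt N1152 (iv D2852)) (tt N4575 D5371) (tt N1805 (iv F4430)))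
theorem Q2418 : ∀ i, i < 2418 → P i := stepQ 2417 Q2417 (allL N2417 (tt N4576 D5373) (tt N1153 F1918) (tt N4575 (iv F4360)) (tt N1152 (iv D2853)) (tt N1810 F5733))
theorem Q2419 : ∀ i, i < 2419 → P i := stepQ 2418 Q2418 (allL N2418 (tt N1153 (iv D2855)) (tt N4577 D5377) (tt N4502 (iv F4277)) (tt N4476 (iv F4248)) (tt N4578 D5378))
theorem Q2420 : ∀ i, i < 2420 → P i := stepQ 2419 Q2419 (allL N2419 (tt N4578 (iv F4364)) (tt N1810 F5731) (tt N4530 (iv F5288)) (tt N1163 (iv F4434)) (tt N1153 (iv D2856)))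
theorem Q2421 : ∀ i, i < 2421 → P i := stepQ 2420 Q2420 (allL N2420 (tt N4579 D5385) (tt N2680 (iv F2277)) (tt N1156 (iv D2859)) (tt N4580 D5386) (tt N2207 F1921))
theorem Q2422 : ∀ i, i < 2422 → P i := stepQ 2421 Q2421 (allL N2421 (tt N4581 D5387) (tt N1157 F1922) (tt N4580 (iv F4369)) (tt N1156 (iv D2860)) (tt N4582 D5388))
theorem Q2423 : ∀ i, i < 2423 → P i := stepQ 2422 Q2422 (allL N2422 (tt N1953 F1923) (tt N1158 F1924) (tt N4510 (iv F4289)) (tt N4583 D5389) (tt N1156 (iv D2861)))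
theorem Q2424 : ∀ i, i < 2424 → P i := stepQ 2423 Q2423 (allL N2423 (tt N4500 (iv F4273)) (tt N4582 (iv F4371)) (tt N4511 (iv F5302)) (tt N4578 (iv F4432)) (tt N1157 (iv D2862)))
theorem Q2425 : ∀ i, i < 2425 → P i := stepQ 2424 Q2424 (allL N2424 (tt N4479 (iv F4457)) (tt N4583 (iv F4372)) (tt N4506 (iv F4460)) (tt N1158 (iv D2863)) (tt N4476 (iv F4456)))
theorem Q2426 : ∀ i, i < 2426 → P i := stepQ 2425 Q2425 (allL N2425 (tt N1955 F1925) (tt N1159 (iv D2864)) (tt N3039 (iv F2622)) (tt N4584 D5394) (tt N1892 F1926))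
theorem Q2427 : ∀ i, i < 2427 → P i := stepQ 2426 Q2426 (allL N2426 (tt N2028 F1928) (tt N1505 (iv F1929)) (tt N1159 (iv D2865)) (tt N4585 D5395) (tt N1503 (iv F1931)))
theorem Q2428 : ∀ i, i < 2428 → P i := stepQ 2427 Q2427 (allL N2427 (tt N4586 D5396) (tt N4584 (iv F4378)) (tt N4585 (iv F4380)) (tt N1159 (iv D2866)) (tt N4587 D5397))
theorem Q2429 : ∀ i, i < 2429 → P i := stepQ 2428 Q2428 (allL N2428 (tt N1160 (iv D2867)) (tt N4588 D5398) (tt N1869 F1933) (tt N4589 D5399) (tt N1859 F1932))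
theorem Q2430 : ∀ i, i < 2430 → P i := stepQ 2429 Q2429 (allL N2429 (tt N4590 D5400) (tt N1199 F1934) (tt N1161 F1935) (tt N1160 (iv D2868)) (tt N1882 (iv F5730)))
theorem Q2431 : ∀ i, i < 2431 → P i := stepQ 2430 Q2430 (allL N2430 (tt N1161 (iv D2869)) (tt N4591 D5402) (tt N4592 D5403) (tt N4593 D5404) (tt N1891 (iv F5728)))
theorem Q2432 : ∀ i, i < 2432 → P i := stepQ 2431 Q2431 (allL N2431 (tt N4594 D5408) (tt N1162 (iv D2871)) (tt N4595 D5409) (tt N4596 D5410) (tt N4597 D5411))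
theorem Q2433 : ∀ i, i < 2433 → P i := stepQ 2432 Q2432 (allL N2432 (tt N1355 F1937) (tt N4598 D5412) (tt N1162 (iv D2872)) (tt N3175 (iv F2768)) (tt N4544 (iv F5284)))
theorem Q2434 : ∀ i, i < 2434 → P i := stepQ 2433 Q2433 (allL N2433 (tt N1706 F1938) (tt N4596 (iv F4394)) (tt N3175 (iv F2767)) (tt N1162 (iv D2873)) (tt N4570 (iv F4428)))
theorem Q2435 : ∀ i, i < 2435 → P i := stepQ 2434 Q2434 (allL N2434 (tt N1163 F1939) (tt N4597 (iv F4395)) (tt N4543 (iv F5303)) (tt N4569 (iv F4455)) (tt N1162 (iv D2874)))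
theorem Q2436 : ∀ i, i < 2436 → P i := stepQ 2435 Q2435 (allL N2435 (tt N1164 (iv D2879)) (tt N1206 F1941) (tt N4599 D5426) (tt N4545 (iv F4330)) (tt N4600 D5427))
theorem Q2437 : ∀ i, i < 2437 → P i := stepQ 2436 Q2436 (allL N2436 (tt N4601 D5428) (tt N2624 (iv F2214)) (tt N1164 (iv D2880)) (tt N2617 F2160) (tt N2690 (iv F2291)))
theorem Q2438 : ∀ i, i < 2438 → P i := stepQ 2437 Q2437 (allL N2437 (tt N4600 (iv F4410)) (tt N1166 F1942) (tt N4549 (iv F4336)) (tt N4549 (iv F4337)) (tt N1164 (iv D2881)))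
theorem Q2439 : ∀ i, i < 2439 → P i := stepQ 2438 Q2438 (allL N2438 (tt N4602 D5429) (tt N1165 (iv D2882)) (tt N4603 D5430) (tt N4557 (iv F4349)) (tt N4604 D5431))
theorem Q2440 : ∀ i, i < 2440 → P i := stepQ 2439 Q2439 (allL N2439 (tt N4491 (iv F4262)) (tt N4604 (iv F4413)) (tt N4538 (iv F5286)) (tt N4564 (iv F4454)) (tt N1165 (iv D2883)))
theorem Q2441 : ∀ i, i < 2441 → P i := stepQ 2440 Q2440 (allL N2440 (tt N4451 (iv F5307)) (tt N4605 D5434) (tt N1166 (iv D2884)) (tt N4556 (iv F5312)) (tt N4450 (iv F5310)))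
theorem Q2442 : ∀ i, i < 2442 → P i := stepQ 2441 Q2441 (allL N2441 (tt N1167 (iv D2888)) (tt N1212 F1943) (tt N2791 (iv F2370)) (tt N2544 (iv F2096)) (tt N4606 D5440))
theorem Q2443 : ∀ i, i < 2443 → P i := stepQ 2442 Q2442 (allL N2442 (tt N4606 (iv F4419)) (tt N3091 (iv F2681)) (tt N4607 D5441) (tt N3871 (iv F3565)) (tt N1167 (iv D2889)))
theorem Q2444 : ∀ i, i < 2444 → P i := stepQ 2443 Q2443 (allL N2443 (tt N1168 (iv D2890)) (tt N1709 F1946) (tt N4329 (iv F4068)) (tt N1707 (iv F1947)) (tt N4608 D5442))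
theorem Q2445 : ∀ i, i < 2445 → P i := stepQ 2444 Q2444 (allL N2444 (tt N4608 (iv F4470)) (tt N4545 (iv F4329)) (tt N4609 D5443) (tt N1206 F1950) (tt N1168 (iv D2891)))
theorem Q2446 : ∀ i, i < 2446 → P i := stepQ 2445 Q2445 (allL N2445 (tt N4610 D5444) (tt N4611 D5445) (tt N1169 (iv D2892)) (tt N4612 D5446) (tt N4613 D5447))
theorem Q2447 : ∀ i, i < 2447 → P i := stepQ 2446 Q2446 (allL N2446 (tt N4614 D5448) (tt N4547 (iv F4333)) (tt N4612 (iv F4474)) (tt N1169 (iv D2893)) (tt N4615 D5449))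
theorem Q2448 : ∀ i, i < 2448 → P i := stepQ 2447 Q2447 (allL N2447 (tt N1173 F1951) (tt N4332 (iv F4075)) (tt N4616 D5450) (tt N4342 (iv F4084)) (tt N1170 (iv D2894)))
theorem Q2449 : ∀ i, i < 2449 → P i := stepQ 2448 Q2448 (allL N2448 (tt N1171 (iv D2895)) (tt N1509 F1952) (tt N1743 (iv F1954)) (tt N2255 F1953) (tt N4617 D5451))
theorem Q2450 : ∀ i, i < 2450 → P i := stepQ 2449 Q2449 (allL N2449 (tt N2538 (iv F2035)) (tt N1179 F1955) (tt N1171 (iv D2896)) (tt N3818 (iv F3502)) (tt N4618 D5452))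
theorem Q2451 : ∀ i, i < 2451 → P i := stepQ 2450 Q2450 (allL N2450 (tt N1493 F1956) (tt N1172 F1957) (tt N3818 (iv F3501)) (tt N1171 (iv D2897)) (tt N4619 D5453))
theorem Q2452 : ∀ i, i < 2452 → P i := stepQ 2451 Q2451 (allL N2451 (tt N4617 (iv F4479)) (tt N1173 F1958) (tt N4620 D5454) (tt N4621 D5455) (tt N1171 (iv D2898)))
theorem Q2453 : ∀ i, i < 2453 → P i := stepQ 2452 Q2452 (allL N2452 (tt N1172 (iv D2899)) (tt N2452 F1959) (tt N4622 D5456) (tt N4623 D5457) (tt N4624 D5458))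
theorem Q2454 : ∀ i, i < 2454 → P i := stepQ 2453 Q2453 (allL N2453 (tt N4624 (iv F4495)) (tt N4619 (iv F4484)) (tt N4625 D5459) (tt N4626 D5460) (tt N1172 (iv D2900)))
theorem Q2455 : ∀ i, i < 2455 → P i := stepQ 2454 Q2454 (allL N2454 (tt N4607 (iv F4421)) (tt N3271 F4422) (tt N1173 (iv D2901)) (tt N4627 D5461) (tt N4628 D5462))
theorem Q2456 : ∀ i, i < 2456 → P i := stepQ 2455 Q2455 (allL N2455 (tt N4629 D5463) (tt N4621 (iv F4486)) (tt N4627 (iv F4497)) (tt N1173 (iv D2902)) (tt N4630 D5464))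
theorem Q2457 : ∀ i, i < 2457 → P i := stepQ 2456 Q2456 (allL N2456 (tt N2544 (iv F2095)) (tt N1430 F1960) (tt N1174 (iv D2903)) (tt N3852 (iv F3533)) (tt N4631 D5465))
theorem Q2458 : ∀ i, i < 2458 → P i := stepQ 2457 Q2457 (allL N2457 (tt N1175 F1961) (tt N4435 (iv F4184)) (tt N4632 D5466) (tt N4444 (iv F4204)) (tt N1174 (iv D2904)))
theorem Q2459 : ∀ i, i < 2459 → P i := stepQ 2458 Q2458 (allL N2458 (tt N4633 D5467) (tt N4634 D5468) (tt N1175 (iv D2905)) (tt N1207 F1962) (tt N4635 D5469))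
theorem Q2460 : ∀ i, i < 2460 → P i := stepQ 2459 Q2459 (allL N2459 (tt N1176 (iv D2906)) (tt N4636 D5470) (tt N2793 (iv F2375)) (tt N4637 D5471) (tt N4638 D5472))
theorem Q2461 : ∀ i, i < 2461 → P i := stepQ 2460 Q2460 (allL N2460 (tt N4639 D5473) (tt N1176 (iv D2907)) (tt N4640 D5474) (tt N4641 D5475) (tt N4642 D5476))
theorem Q2462 : ∀ i, i < 2462 → P i := stepQ 2461 Q2461 (allL N2461 (tt N4643 D5477) (tt N4641 (iv F4507)) (tt N1177 F1963) (tt N1176 (iv D2908)) (tt N4644 D5478))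
theorem Q2463 : ∀ i, i < 2463 → P i := stepQ 2462 Q2462 (allL N2462 (tt N4638 (iv F4504)) (tt N4642 (iv F4508)) (tt N4628 (iv F4499)) (tt N4635 (iv F9229)) (tt N1176 (iv D2909)))
theorem Q2464 : ∀ i, i < 2464 → P i := stepQ 2463 Q2463 (allL N2463 (tt N1177 (iv D2910)) (tt N4437 (iv F4188)) (tt N4645 D5480) (tt N4434 (iv F4183)) (tt N4646 D5481))
theorem Q2465 : ∀ i, i < 2465 → P i := stepQ 2464 Q2464 (allL N2464 (tt N4646 (iv F4509)) (tt N1188 F1964) (tt N4630 (iv F6445)) (tt N1208 F1965) (tt N1177 (iv D2911)))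
theorem Q2466 : ∀ i, i < 2466 → P i := stepQ 2465 Q2465 (allL N2465 (tt N1609 F1966) (tt N1735 (iv F1967)) (tt N1178 (iv D2912)) (tt N4647 D5483) (tt N4648 D5484))
theorem Q2467 : ∀ i, i < 2467 → P i := stepQ 2466 Q2466 (allL N2466 (tt N3398 (iv F3018)) (tt N3345 (iv F2964)) (tt N4647 (iv F4513)) (tt N1178 (iv D2913)) (tt N4649 D5485))
theorem Q2468 : ∀ i, i < 2468 → P i := stepQ 2467 Q2467 (allL N2467 (tt N1181 F1969) (tt N3346 (iv F2968)) (tt N4650 D5486) (tt N4651 D5487) (tt N1178 (iv D2914)))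
theorem Q2469 : ∀ i, i < 2469 → P i := stepQ 2468 Q2468 (allL N2468 (tt N4652 D5488) (tt N3818 (iv F3503)) (tt N1180 F1970) (tt N1179 (iv D2915)) (tt N4653 D5489))
theorem Q2470 : ∀ i, i < 2470 → P i := stepQ 2469 Q2469 (allL N2469 (tt N1613 F1971) (tt N4618 (iv F4482)) (tt N4654 D5490) (tt N4655 D5491) (tt N1179 (iv D2916)))
theorem Q2471 : ∀ i, i < 2471 → P i := stepQ 2470 Q2470 (allL N2470 (tt N4081 (iv F3801)) (tt N1182 F1972) (tt N4656 D5492) (tt N1312 (iv F1973)) (tt N1180 (iv D2917)))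
theorem Q2472 : ∀ i, i < 2472 → P i := stepQ 2471 Q2471 (allL N2471 (tt N1616 F1974) (tt N4657 D5493) (tt N1181 (iv D2918)) (tt N4658 D5494) (tt N4659 D5495))
theorem Q2473 : ∀ i, i < 2473 → P i := stepQ 2472 Q2472 (allL N2472 (tt N4083 (iv F3811)) (tt N1183 F1975) (tt N4658 (iv F4522)) (tt N1181 (iv D2919)) (tt N4660 D5496))
theorem Q2474 : ∀ i, i < 2474 → P i := stepQ 2473 Q2473 (allL N2473 (tt N4084 (iv F3814)) (tt N4660 (iv F4524)) (tt N1188 F2181) (tt N1211 F2182) (tt N1183 (iv D2920)))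
theorem Q2475 : ∀ i, i < 2475 → P i := stepQ 2474 Q2474 (allL N2474 (tt N4661 D5497) (tt N1184 (iv D2921)) (tt N4662 D5498) (tt N1209 F1978) (tt N4663 D5499))
theorem Q2476 : ∀ i, i < 2476 → P i := stepQ 2475 Q2475 (allL N2475 (tt N4086 (iv F3818)) (tt N4663 (iv F4531)) (tt N1262 F1979) (tt N1187 F1980) (tt N1184 (iv D2922)))
theorem Q2477 : ∀ i, i < 2477 → P i := stepQ 2476 Q2476 (allL N2476 (tt N1185 (iv D2923)) (tt N4664 D5500) (tt N4665 D5501) (tt N4666 D5502) (tt N4667 D5503))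
theorem Q2478 : ∀ i, i < 2478 → P i := stepQ 2477 Q2477 (allL N2477 (tt N3234 (iv F6120)) (tt N4640 (iv F4506)) (tt N1185 (iv D2924)) (tt N4668 D5505) (tt N3232 (iv F6124)))
theorem Q2479 : ∀ i, i < 2479 → P i := stepQ 2478 Q2478 (allL N2478 (tt N4669 D5507) (tt N1186 F1981) (tt N4668 (iv F4538)) (tt N1185 (iv D2925)) (tt N4670 D5508))
theorem Q2480 : ∀ i, i < 2480 → P i := stepQ 2479 Q2479 (allL N2479 (tt N4667 (iv F4536)) (tt N1187 F1982) (tt N4671 D5509) (tt N4663 F4532) (tt N1185 (iv D2926)))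
theorem Q2481 : ∀ i, i < 2481 → P i := stepQ 2480 Q2480 (allL N2480 (tt N4091 (iv F3823)) (tt N4670 (iv F4543)) (tt N1261 F2174) (tt N1210 F1983) (tt N1186 (iv D2927)))
theorem Q2482 : ∀ i, i < 2482 → P i := stepQ 2481 Q2481 (allL N2481 (tt N1189 (iv D2929)) (tt N3361 (iv F2989)) (tt N4672 D5510) (tt N4673 D5511) (tt N3359 F2986))
theorem Q2483 : ∀ i, i < 2483 → P i := stepQ 2482 Q2482 (allL N2482 (tt N4674 D5512) (tt N4675 D5513) (tt N1189 (iv D2930)) (tt N4676 D5514) (tt N4677 D5515))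
theorem Q2484 : ∀ i, i < 2484 → P i := stepQ 2483 Q2483 (allL N2483 (tt N4678 D5516) (tt N1190 F1985) (tt N4676 (iv F4546)) (tt N1189 (iv D2931)) (tt N4678 (iv F4548)))
theorem Q2485 : ∀ i, i < 2485 → P i := stepQ 2484 Q2484 (allL N2484 (tt N3359 (iv F2985)) (tt N1191 F1986) (tt N4679 D5517) (tt N4680 D5518) (tt N1189 (iv D2932)))
theorem Q2486 : ∀ i, i < 2486 → P i := stepQ 2485 Q2485 (allL N2485 (tt N4096 (iv F3828)) (tt N4678 (iv F4547)) (tt N1256 F2171) (tt N1205 F1987) (tt N1190 (iv D2933)))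
theorem Q2487 : ∀ i, i < 2487 → P i := stepQ 2486 Q2486 (allL N2486 (tt N4097 (iv F3831)) (tt N4680 (iv F4550)) (tt N1250 F1988) (tt N1191 (iv D2934)) (tt N1204 F1989))
theorem Q2488 : ∀ i, i < 2488 → P i := stepQ 2487 Q2487 (allL N2487 (tt N2800 (iv F2385)) (tt N3472 (iv F3091)) (tt N1192 (iv D2935)) (tt N4681 D5519) (tt N3470 F3088))
theorem Q2489 : ∀ i, i < 2489 → P i := stepQ 2488 Q2488 (allL N2488 (tt N3405 (iv F3027)) (tt N3407 (iv F3033)) (tt N4681 (iv F4553)) (tt N1192 (iv D2936)) (tt N3405 F3028))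
theorem Q2490 : ∀ i, i < 2490 → P i := stepQ 2489 Q2489 (allL N2489 (tt N1193 (iv D2937)) (tt N3546 (iv F4441)) (tt N4682 D5520) (tt N4683 D5521) (tt N4684 D5522))
theorem Q2491 : ∀ i, i < 2491 → P i := stepQ 2490 Q2490 (allL N2490 (tt N4685 D5523) (tt N4575 (iv F4359)) (tt N1194 F1990) (tt N1193 (iv D2938)) (tt N4686 D5524))
theorem Q2492 : ∀ i, i < 2492 → P i := stepQ 2491 Q2491 (allL N2491 (tt N4684 (iv F4554)) (tt N1805 F4437) (tt N4687 D5525) (tt N1200 (iv F4847)) (tt N1193 (iv D2939)))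
theorem Q2493 : ∀ i, i < 2493 → P i := stepQ 2492 Q2492 (allL N2492 (tt N1194 (iv D2940)) (tt N1196 (iv F1992)) (tt N4688 D5527) (tt N1202 F1991) (tt N1194 (iv F1993)))
theorem Q2494 : ∀ i, i < 2494 → P i := stepQ 2493 Q2493 (allL N2493 (tt N3186 (iv F2781)) (tt N1521 F2791) (tt N1195 (iv D2941)) (tt N1197 F1995) (tt N1519 F2792))
theorem Q2495 : ∀ i, i < 2495 → P i := stepQ 2494 Q2494 (allL N2494 (tt N2804 (iv F2389)) (tt N2911 (iv F2477)) (tt N1198 (iv D2945)) (tt N4689 D5528) (tt N2804 (iv F2390)))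
theorem Q2496 : ∀ i, i < 2496 → P i := stepQ 2495 Q2495 (allL N2495 (tt N3408 (iv F3036)) (tt N3648 (iv F3262)) (tt N4689 (iv F4559)) (tt N1198 (iv D2946)) (tt N4690 D5529))
theorem Q2497 : ∀ i, i < 2497 → P i := stepQ 2496 Q2496 (allL N2496 (tt N1200 F1999) (tt N3649 (iv F3264)) (tt N2869 F2670) (tt N4691 D5530) (tt N1198 (iv D2947)))
theorem Q2498 : ∀ i, i < 2498 → P i := stepQ 2497 Q2497 (allL N2497 (tt N1199 (iv D2948)) (tt N3758 (iv F5744)) (tt N4692 D5532) (tt N4693 D5533) (tt N4694 D5534))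
theorem Q2499 : ∀ i, i < 2499 → P i := stepQ 2498 Q2498 (allL N2498 (tt N4694 (iv F4560)) (tt N1882 F5732) (tt N4695 D5535) (tt N4686 (iv F4848)) (tt N1199 (iv D2949)))
theorem Q2500 : ∀ i, i < 2500 → P i := stepQ 2499 Q2499 (allL N2499 (tt N1524 F2002) (tt N1657 F2000) (tt N1200 (iv D2950)) (tt N4687 (iv F4846)) (tt N1524 F2001))
theorem Q2501 : ∀ i, i < 2501 → P i := stepQ 2500 Q2500 (allL N2500 (tt N2805 (iv F2392)) (tt N4696 D5540) (tt N1201 (iv D2953)) (tt N4697 D5541) (tt N4698 D5542))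
theorem Q2502 : ∀ i, i < 2502 → P i := stepQ 2501 Q2501 (allL N2501 (tt N3409 (iv F3037)) (tt N3411 (iv F3040)) (tt N4697 (iv F4567)) (tt N1201 (iv D2954)) (tt N3409 (iv F3039)))
theorem Q2503 : ∀ i, i < 2503 → P i := stepQ 2502 Q2502 (allL N2502 (tt N1202 F2004) (tt N3406 (iv F3030)) (tt N4699 D5543) (tt N3405 F3029) (tt N1201 (iv D2955)))
theorem Q2504 : ∀ i, i < 2504 → P i := stepQ 2503 Q2503 (allL N2503 (tt N4700 D5544) (tt N1527 (iv F5274)) (tt N1202 (iv D2956)) (tt N4688 (iv F4558)) (tt N1525 F5273))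
theorem Q2505 : ∀ i, i < 2505 → P i := stepQ 2504 Q2504 (allL N2504 (tt N1203 (iv D2957)) (tt N3770 (iv F3456)) (tt N4701 D5547) (tt N4702 D5548) (tt N4703 D5549))
theorem Q2506 : ∀ i, i < 2506 → P i := stepQ 2505 Q2505 (allL N2505 (tt N4704 D5550) (tt N4705 D5551) (tt N1203 (iv D2958)) (tt N4706 D5552) (tt N4707 D5553))
theorem Q2507 : ∀ i, i < 2507 → P i := stepQ 2506 Q2506 (allL N2506 (tt N4680 (iv F4552)) (tt N1204 F2005) (tt N4706 (iv F4570)) (tt N1203 (iv D2959)) (tt N4680 (iv F4551)))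
theorem Q2508 : ∀ i, i < 2508 → P i := stepQ 2507 Q2507 (allL N2507 (tt N4703 (iv F4569)) (tt N1205 F2006) (tt N4708 D5554) (tt N4678 F4549) (tt N1203 (iv D2960)))
theorem Q2509 : ∀ i, i < 2509 → P i := stepQ 2508 Q2508 (allL N2508 (tt N4709 D5555) (tt N4710 D5556) (tt N1206 (iv D2965)) (tt N4609 (iv F4473)) (tt N4711 D5557))
theorem Q2510 : ∀ i, i < 2510 → P i := stepQ 2509 Q2509 (allL N2509 (tt N1208 F2009) (tt N4600 (iv F4411)) (tt N4712 D5558) (tt N4615 (iv F4477)) (tt N1206 (iv D2966)))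
theorem Q2511 : ∀ i, i < 2511 → P i := stepQ 2510 Q2510 (allL N2510 (tt N1207 (iv D2967)) (tt N4713 D5559) (tt N2808 (iv F2395)) (tt N4714 D5560) (tt N4715 D5561))
theorem Q2512 : ∀ i, i < 2512 → P i := stepQ 2511 Q2511 (allL N2511 (tt N4716 D5562) (tt N1207 (iv D2968)) (tt N4717 D5563) (tt N4634 (iv F4502)) (tt N4718 D5564))
theorem Q2513 : ∀ i, i < 2513 → P i := stepQ 2512 Q2512 (allL N2512 (tt N4715 (iv F4571)) (tt N4718 (iv F4574)) (tt N4719 D5565) (tt N4644 (iv F9230)) (tt N1207 (iv D2969)))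
theorem Q2514 : ∀ i, i < 2514 → P i := stepQ 2513 Q2513 (allL N2513 (tt N4720 D5567) (tt N4721 D5568) (tt N1208 (iv D2970)) (tt N4630 (iv F6446)) (tt N4626 (iv F6444)))
theorem Q2515 : ∀ i, i < 2515 → P i := stepQ 2514 Q2514 (allL N2514 (tt N1209 (iv D2971)) (tt N4722 D5570) (tt N4723 D5571) (tt N4724 D5572) (tt N4725 D5573))
theorem Q2516 : ∀ i, i < 2516 → P i := stepQ 2515 Q2515 (allL N2515 (tt N3341 (iv F6496)) (tt N4717 (iv F4573)) (tt N1209 (iv D2972)) (tt N4662 (iv F4529)) (tt N3340 (iv F6497)))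
theorem Q2517 : ∀ i, i < 2517 → P i := stepQ 2516 Q2516 (allL N2516 (tt N4725 (iv F4577)) (tt N1210 F2010) (tt N4726 D5576) (tt N4670 (iv F4544)) (tt N1209 (iv D2973)))
theorem Q2518 : ∀ i, i < 2518 → P i := stepQ 2517 Q2517 (allL N2517 (tt N4727 D5577) (tt N1211 (iv D2974)) (tt N4728 D5578) (tt N4660 (iv F4525)) (tt N1312 F2205))
theorem Q2519 : ∀ i, i < 2519 → P i := stepQ 2518 Q2518 (allL N2518 (tt N1215 F2014) (tt N4606 (iv F4420)) (tt N4729 D5579) (tt N2550 (iv F2103)) (tt N1212 (iv D2983)))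
theorem Q2520 : ∀ i, i < 2520 → P i := stepQ 2519 Q2519 (allL N2519 (tt N1213 (iv D2984)) (tt N1732 F2015) (tt N4550 (iv F4339)) (tt N1982 F2016) (tt N4730 D5580))
theorem Q2521 : ∀ i, i < 2521 → P i := stepQ 2520 Q2520 (allL N2520 (tt N4731 D5581) (tt N1214 F2018) (tt N3052 (iv F2640)) (tt N1213 (iv D2985)) (tt N4732 D5582))
theorem Q2522 : ∀ i, i < 2522 → P i := stepQ 2521 Q2521 (allL N2521 (tt N4730 (iv F4583)) (tt N1215 F2019) (tt N4733 D5583) (tt N4734 D5584) (tt N1213 (iv D2986)))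
theorem Q2523 : ∀ i, i < 2523 → P i := stepQ 2522 Q2522 (allL N2522 (tt N2535 (iv F2033)) (tt N4732 (iv F4587)) (tt N4735 D5585) (tt N4736 D5586) (tt N1214 (iv D2987)))
theorem Q2524 : ∀ i, i < 2524 → P i := stepQ 2523 Q2523 (allL N2523 (tt N1229 F2020) (tt N3241 (iv F2854)) (tt N1215 (iv D2988)) (tt N4737 D5587) (tt N3238 F2852))
theorem Q2525 : ∀ i, i < 2525 → P i := stepQ 2524 Q2524 (allL N2524 (tt N2537 (iv F2034)) (tt N4734 (iv F4589)) (tt N4737 (iv F4592)) (tt N1215 (iv D2989)) (tt N4738 D5588))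
theorem Q2526 : ∀ i, i < 2526 → P i := stepQ 2525 Q2525 (allL N2525 (tt N2715 (iv F2302)) (tt N4739 D5589) (tt N1216 (iv D2990)) (tt N1313 F2021) (tt N4740 D5590))
theorem Q2527 : ∀ i, i < 2527 → P i := stepQ 2526 Q2526 (allL N2526 (tt N1217 (iv D2991)) (tt N4741 D5591) (tt N3207 (iv F2826)) (tt N2562 (iv F2114)) (tt N4742 D5592))
theorem Q2528 : ∀ i, i < 2528 → P i := stepQ 2527 Q2527 (allL N2527 (tt N4743 D5593) (tt N1217 (iv D2992)) (tt N3584 F3197) (tt N4744 D5594) (tt N4745 D5595))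
theorem Q2529 : ∀ i, i < 2529 → P i := stepQ 2528 Q2528 (allL N2528 (tt N2556 (iv F2107)) (tt N4744 (iv F4602)) (tt N1218 F2022) (tt N1217 (iv D2993)) (tt N4746 D5596))
theorem Q2530 : ∀ i, i < 2530 → P i := stepQ 2529 Q2529 (allL N2529 (tt N4742 (iv F4597)) (tt N4745 (iv F4603)) (tt N3238 (iv F2851)) (tt N4740 (iv F4655)) (tt N1217 (iv D2994)))
theorem Q2531 : ∀ i, i < 2531 → P i := stepQ 2530 Q2530 (allL N2530 (tt N2530 F2023) (tt N1696 F2024) (tt N4738 (iv F4621)) (tt N1314 F2025) (tt N1218 (iv D2995)))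
theorem Q2532 : ∀ i, i < 2532 → P i := stepQ 2531 Q2531 (allL N2531 (tt N1587 F2026) (tt N4512 (iv F4293)) (tt N1219 (iv D2996)) (tt N2777 (iv F2355)) (tt N4747 D5599))
theorem Q2533 : ∀ i, i < 2533 → P i := stepQ 2532 Q2532 (allL N2532 (tt N4350 (iv F4097)) (tt N1222 F2027) (tt N4748 D5600) (tt N4293 (iv F4021)) (tt N1219 (iv D2997)))
theorem Q2534 : ∀ i, i < 2534 → P i := stepQ 2533 Q2533 (allL N2533 (tt N2533 F2030) (tt N1404 F2028) (tt N1221 F2029) (tt N1220 (iv D2998)) (tt N4749 D5601))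
theorem Q2535 : ∀ i, i < 2535 → P i := stepQ 2534 Q2534 (allL N2534 (tt N3207 (iv F2824)) (tt N1405 F2031) (tt N1232 F2032) (tt N4750 D5602) (tt N1220 (iv D2999)))
theorem Q2536 : ∀ i, i < 2536 → P i := stepQ 2535 Q2535 (allL N2535 (tt N2522 F2033) (tt N4287 (iv F4015)) (tt N4751 D5603) (tt N4752 D5604) (tt N1221 (iv D3000)))
theorem Q2537 : ∀ i, i < 2537 → P i := stepQ 2536 Q2536 (allL N2536 (tt N4729 (iv F4580)) (tt N2891 (iv F2452)) (tt N1222 (iv D3001)) (tt N4753 D5605) (tt N2888 F2450))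
theorem Q2538 : ∀ i, i < 2538 → P i := stepQ 2537 Q2537 (allL N2537 (tt N2524 F2034) (tt N4293 F4022) (tt N4753 (iv F4617)) (tt N1222 (iv D3002)) (tt N4754 D5606))
theorem Q2539 : ∀ i, i < 2539 → P i := stepQ 2538 Q2538 (allL N2538 (tt N2449 F2035) (tt N1540 F2036) (tt N1223 (iv D3003)) (tt N1949 F2037) (tt N4755 D5607))
theorem Q2540 : ∀ i, i < 2540 → P i := stepQ 2539 Q2539 (allL N2539 (tt N1226 F2038) (tt N1535 F2039) (tt N4756 D5608) (tt N1956 F2040) (tt N1223 (iv D3004)))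
theorem Q2541 : ∀ i, i < 2541 → P i := stepQ 2540 Q2540 (allL N2540 (tt N3460 (iv F3079)) (tt N1243 F2090) (tt N4757 D5609) (tt N3040 (iv F2623)) (tt N1224 (iv D3005)))
theorem Q2542 : ∀ i, i < 2542 → P i := stepQ 2541 Q2541 (allL N2541 (tt N1942 F2091) (tt N1228 F2092) (tt N4758 D5610) (tt N4759 D5611) (tt N1225 (iv D3006)))
theorem Q2543 : ∀ i, i < 2543 → P i := stepQ 2542 Q2542 (allL N2542 (tt N4760 D5612) (tt N4761 D5613) (tt N1226 (iv D3007)) (tt N4762 D5614) (tt N4763 D5615))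
theorem Q2544 : ∀ i, i < 2544 → P i := stepQ 2543 Q2543 (allL N2543 (tt N1944 F2093) (tt N1230 F2094) (tt N4762 (iv F4635)) (tt N1226 (iv D3008)) (tt N4764 D5616))
theorem Q2545 : ∀ i, i < 2545 → P i := stepQ 2544 Q2544 (allL N2544 (tt N2456 F2095) (tt N1227 (iv D3009)) (tt N4765 D5617) (tt N2441 F2096) (tt N4766 D5618))
theorem Q2546 : ∀ i, i < 2546 → P i := stepQ 2545 Q2545 (allL N2545 (tt N2545 F2097) (tt N1610 (iv F2099)) (tt N1227 (iv D3010)) (tt N1608 F2098) (tt N4767 D5619))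
theorem Q2547 : ∀ i, i < 2547 → P i := stepQ 2546 Q2546 (allL N2546 (tt N1228 F2100) (tt N4766 (iv F4642)) (tt N4768 D5620) (tt N4769 D5621) (tt N1227 (iv D3011)))
theorem Q2548 : ∀ i, i < 2548 → P i := stepQ 2547 Q2547 (allL N2547 (tt N2547 F2101) (tt N3256 (iv F2876)) (tt N1228 (iv D3012)) (tt N3306 (iv F2934)) (tt N3250 (iv F2875)))
theorem Q2549 : ∀ i, i < 2549 → P i := stepQ 2548 Q2548 (allL N2548 (tt N4752 (iv F4615)) (tt N4759 (iv F4629)) (tt N3306 F2935) (tt N1228 (iv D3013)) (tt N1318 F3398))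
theorem Q2550 : ∀ i, i < 2550 → P i := stepQ 2549 Q2549 (allL N2549 (tt N2549 F2104) (tt N3258 (iv F2878)) (tt N1230 F2102) (tt N1229 (iv D3014)) (tt N3305 F2932))
theorem Q2551 : ∀ i, i < 2551 → P i := stepQ 2550 Q2550 (allL N2550 (tt N1230 (iv D3015)) (tt N4770 D5622) (tt N4771 D5623) (tt N2518 F2103) (tt N4772 D5624))
theorem Q2552 : ∀ i, i < 2552 → P i := stepQ 2551 Q2551 (allL N2551 (tt N4772 (iv F4652)) (tt N4764 (iv F4637)) (tt N1236 F3411) (tt N1318 F3412) (tt N1230 (iv D3016)))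
theorem Q2553 : ∀ i, i < 2553 → P i := stepQ 2552 Q2552 (allL N2552 (tt N1231 (iv D3017)) (tt N4773 D5625) (tt N4767 (iv F4645)) (tt N2709 (iv F2300)) (tt N4774 D5626))
theorem Q2554 : ∀ i, i < 2554 → P i := stepQ 2553 Q2553 (allL N2553 (tt N2009 F2106) (tt N1231 (iv D3018)) (tt N3713 (iv F3336)) (tt N1316 F2105) (tt N4775 D5627))
theorem Q2555 : ∀ i, i < 2555 → P i := stepQ 2554 Q2554 (allL N2554 (tt N4774 (iv F4653)) (tt N4775 (iv F4658)) (tt N3250 F2872) (tt N1235 F2873) (tt N1231 (iv D3019)))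
theorem Q2556 : ∀ i, i < 2556 → P i := stepQ 2555 Q2555 (allL N2555 (tt N4776 D5628) (tt N1232 (iv D3020)) (tt N4777 D5629) (tt N4778 D5630) (tt N4779 D5631))
theorem Q2557 : ∀ i, i < 2557 → P i := stepQ 2556 Q2556 (allL N2556 (tt N2528 F2107) (tt N4778 (iv F4663)) (tt N4750 (iv F4612)) (tt N1232 (iv D3021)) (tt N4780 D5632))
theorem Q2558 : ∀ i, i < 2558 → P i := stepQ 2557 Q2557 (allL N2557 (tt N1235 F2108) (tt N4779 (iv F4664)) (tt N2888 (iv F2449)) (tt N4781 D5633) (tt N1232 (iv D3022)))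
theorem Q2559 : ∀ i, i < 2559 → P i := stepQ 2558 Q2558 (allL N2558 (tt N1233 (iv D3023)) (tt N1788 F2109) (tt N4782 D5634) (tt N1997 F2110) (tt N3098 (iv F2688)))
theorem Q2560 : ∀ i, i < 2560 → P i := stepQ 2559 Q2559 (allL N2559 (tt N3515 (iv F3157)) (tt N1253 F2111) (tt N1233 (iv D3024)) (tt N4783 D5635) (tt N4784 D5636))
theorem Q2561 : ∀ i, i < 2561 → P i := stepQ 2560 Q2560 (allL N2560 (tt N4785 D5637) (tt N1234 F2112) (tt N4783 (iv F4673)) (tt N1233 (iv D3025)) (tt N4786 D5638))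
theorem Q2562 : ∀ i, i < 2562 → P i := stepQ 2561 Q2561 (allL N2561 (tt N3098 (iv F2689)) (tt N1235 F2113) (tt N4787 D5639) (tt N4775 (iv F4659)) (tt N1233 (iv D3026)))
theorem Q2563 : ∀ i, i < 2563 → P i := stepQ 2562 Q2562 (allL N2562 (tt N1234 (iv D3027)) (tt N4788 D5640) (tt N4789 D5641) (tt N2526 F2114) (tt N4790 D5642))
theorem Q2564 : ∀ i, i < 2564 → P i := stepQ 2563 Q2563 (allL N2563 (tt N4790 (iv F4689)) (tt N4786 (iv F4679)) (tt N3305 F3397) (tt N1317 F2874) (tt N1234 (iv D3028)))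
theorem Q2565 : ∀ i, i < 2565 → P i := stepQ 2564 Q2564 (allL N2564 (tt N1581 F2116) (tt N1239 F2117) (tt N1237 (iv D3031)) (tt N1237 (iv F2118)) (tt N4791 D5643))
theorem Q2566 : ∀ i, i < 2566 → P i := stepQ 2565 Q2565 (allL N2565 (tt N2815 (iv F2405)) (tt N1240 F2119) (tt N4792 D5644) (tt N4793 D5645) (tt N1237 (iv D3032)))
theorem Q2567 : ∀ i, i < 2567 → P i := stepQ 2566 Q2566 (allL N2566 (tt N1238 (iv D3033)) (tt N1609 F2120) (tt N4516 (iv F4298)) (tt N4794 D5646) (tt N4795 D5647))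
theorem Q2568 : ∀ i, i < 2568 → P i := stepQ 2567 Q2567 (allL N2567 (tt N1736 F2121) (tt N1238 (iv D3034)) (tt N1539 F2122) (tt N1539 (iv F2123)) (tt N4796 D5648))
theorem Q2569 : ∀ i, i < 2569 → P i := stepQ 2568 Q2568 (allL N2568 (tt N2874 (iv F2442)) (tt N1539 F2124) (tt N1239 F2125) (tt N1238 (iv D3035)) (tt N4797 D5649))
theorem Q2570 : ∀ i, i < 2570 → P i := stepQ 2569 Q2569 (allL N2569 (tt N4795 (iv F4696)) (tt N4796 (iv F4699)) (tt N4798 D5650) (tt N4799 D5651) (tt N1238 (iv D3036)))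
theorem Q2571 : ∀ i, i < 2571 → P i := stepQ 2570 Q2570 (allL N2570 (tt N1683 F2126) (tt N4791 (iv F4691)) (tt N4800 D5652) (tt N3967 (iv F3687)) (tt N1239 (iv D3037)))
theorem Q2572 : ∀ i, i < 2572 → P i := stepQ 2571 Q2571 (allL N2571 (tt N4801 D5653) (tt N4802 D5654) (tt N1240 (iv D3038)) (tt N4803 D5655) (tt N4804 D5656))
theorem Q2573 : ∀ i, i < 2573 → P i := stepQ 2572 Q2572 (allL N2572 (tt N4805 D5657) (tt N4793 (iv F4693)) (tt N4803 (iv F4702)) (tt N1240 (iv D3039)) (tt N4806 D5658))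
theorem Q2574 : ∀ i, i < 2574 → P i := stepQ 2573 Q2573 (allL N2573 (tt N1243 F2127) (tt N2380 F2128) (tt N4807 D5659) (tt N2393 (iv F2129)) (tt N1241 (iv D3040)))
theorem Q2575 : ∀ i, i < 2575 → P i := stepQ 2574 Q2574 (allL N2574 (tt N1242 (iv D3041)) (tt N2992 (iv F2567)) (tt N4808 D5660) (tt N4809 D5661) (tt N4810 D5662))
theorem Q2576 : ∀ i, i < 2576 → P i := stepQ 2575 Q2575 (allL N2575 (tt N4810 (iv F4713)) (tt N3033 (iv F2611)) (tt N4811 D5663) (tt N4812 D5664) (tt N1242 (iv D3042)))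
theorem Q2577 : ∀ i, i < 2577 → P i := stepQ 2576 Q2576 (allL N2576 (tt N4798 (iv F4701)) (tt N3254 (iv F2870)) (tt N1243 (iv D3043)) (tt N4813 D5665) (tt N3252 F2868))
theorem Q2578 : ∀ i, i < 2578 → P i := stepQ 2577 Q2577 (allL N2577 (tt N4814 D5666) (tt N3040 F2624) (tt N4813 (iv F4715)) (tt N1243 (iv D3044)) (tt N4815 D5667))
theorem Q2579 : ∀ i, i < 2579 → P i := stepQ 2578 Q2578 (allL N2578 (tt N3969 (iv F3689)) (tt N1244 (iv D3045)) (tt N2578 F2130) (tt N2740 (iv F2320)) (tt N4816 D5668))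
theorem Q2580 : ∀ i, i < 2580 → P i := stepQ 2579 Q2579 (allL N2579 (tt N4794 (iv F4695)) (tt N1453 F2131) (tt N1244 (iv D3046)) (tt N4817 D5669) (tt N4818 D5670))
theorem Q2581 : ∀ i, i < 2581 → P i := stepQ 2580 Q2580 (allL N2580 (tt N1682 F2132) (tt N2740 (iv F2318)) (tt N4817 (iv F4718)) (tt N1244 (iv D3047)) (tt N4819 D5671))
theorem Q2582 : ∀ i, i < 2582 → P i := stepQ 2581 Q2581 (allL N2581 (tt N1245 F2133) (tt N4816 (iv F4716)) (tt N4820 D5672) (tt N4821 D5673) (tt N1244 (iv D3048)))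
theorem Q2583 : ∀ i, i < 2583 → P i := stepQ 2582 Q2582 (allL N2582 (tt N4822 D5674) (tt N4823 D5675) (tt N1245 (iv D3049)) (tt N3968 (iv F3688)) (tt N4824 D5676))
theorem Q2584 : ∀ i, i < 2584 → P i := stepQ 2583 Q2583 (allL N2583 (tt N1246 (iv D3050)) (tt N4825 D5677) (tt N4517 (iv F4300)) (tt N4826 D5678) (tt N4827 D5679))
theorem Q2585 : ∀ i, i < 2585 → P i := stepQ 2584 Q2584 (allL N2584 (tt N4828 D5680) (tt N1246 (iv D3051)) (tt N4675 (iv F4545)) (tt N4829 D5681) (tt N4787 (iv F4684)))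
theorem Q2586 : ∀ i, i < 2586 → P i := stepQ 2585 Q2585 (allL N2585 (tt N4830 D5682) (tt N4829 (iv F4748)) (tt N1247 F2134) (tt N1246 (iv D3052)) (tt N4831 D5683))
theorem Q2587 : ∀ i, i < 2587 → P i := stepQ 2586 Q2586 (allL N2586 (tt N4827 (iv F4742)) (tt N4787 (iv F4682)) (tt N3252 (iv F2867)) (tt N4824 (iv F6430)) (tt N1246 (iv D3053)))
theorem Q2588 : ∀ i, i < 2588 → P i := stepQ 2587 Q2587 (allL N2587 (tt N1247 (iv D3054)) (tt N4832 D5685) (tt N4833 D5686) (tt N4819 (iv F4721)) (tt N4834 D5687))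
theorem Q2589 : ∀ i, i < 2589 → P i := stepQ 2588 Q2588 (allL N2588 (tt N4834 (iv F4749)) (tt N1248 F2135) (tt N4815 (iv F5783)) (tt N1322 F2196) (tt N1247 (iv D3055)))
theorem Q2590 : ∀ i, i < 2590 → P i := stepQ 2589 Q2589 (allL N2589 (tt N1249 (iv D3056)) (tt N4835 D5689) (tt N4836 D5690) (tt N4837 D5691) (tt N4838 D5692))
theorem Q2591 : ∀ i, i < 2591 → P i := stepQ 2590 Q2590 (allL N2590 (tt N4839 D5693) (tt N3713 (iv F3338)) (tt N1249 (iv D3057)) (tt N1320 F2136) (tt N4840 D5694))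
theorem Q2592 : ∀ i, i < 2592 → P i := stepQ 2591 Q2591 (allL N2591 (tt N4838 (iv F4754)) (tt N1250 F2137) (tt N4841 D5695) (tt N1255 (iv F2138)) (tt N1249 (iv D3058)))
theorem Q2593 : ∀ i, i < 2593 → P i := stepQ 2592 Q2592 (allL N2592 (tt N1251 (iv D3059)) (tt N4842 D5696) (tt N1764 F2139) (tt N4843 D5697) (tt N4225 (iv F3945)))
theorem Q2594 : ∀ i, i < 2594 → P i := stepQ 2593 Q2593 (allL N2593 (tt N4844 D5698) (tt N3564 (iv F3173)) (tt N1251 (iv D3060)) (tt N4219 (iv F3941)) (tt N4222 (iv F7014)))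
theorem Q2595 : ∀ i, i < 2595 → P i := stepQ 2594 Q2594 (allL N2594 (tt N4842 (iv F4756)) (tt N1252 (iv D3061)) (tt N4845 D5700) (tt N4845 F4763) (tt N4846 D5701))
theorem Q2596 : ∀ i, i < 2596 → P i := stepQ 2595 Q2595 (allL N2595 (tt N4847 D5702) (tt N4848 D5703) (tt N1252 (iv D3062)) (tt N4849 D5704) (tt N4850 D5705))
theorem Q2597 : ∀ i, i < 2597 → P i := stepQ 2596 Q2596 (allL N2596 (tt N1692 F2140) (tt N4845 (iv F4760)) (tt N4849 (iv F4771)) (tt N1252 (iv D3063)) (tt N4851 D5706))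
theorem Q2598 : ∀ i, i < 2598 → P i := stepQ 2597 Q2597 (allL N2597 (tt N1255 F2141) (tt N4846 (iv F4764)) (tt N4852 D5707) (tt N4853 D5708) (tt N1252 (iv D3064)))
theorem Q2599 : ∀ i, i < 2599 → P i := stepQ 2598 Q2598 (allL N2598 (tt N1253 (iv D3065)) (tt N2627 F3158) (tt N4854 D5709) (tt N2625 (iv F3159)) (tt N4855 D5710))
theorem Q2600 : ∀ i, i < 2600 → P i := stepQ 2599 Q2599 (allL N2599 (tt N4856 D5711) (tt N4783 (iv F4672)) (tt N1254 F2142) (tt N1253 (iv D3066)) (tt N4857 D5712))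
theorem Q2601 : ∀ i, i < 2601 → P i := stepQ 2600 Q2600 (allL N2600 (tt N4855 (iv F4780)) (tt N4784 (iv F4674)) (tt N4858 D5713) (tt N4840 (iv F5015)) (tt N1253 (iv D3067)))
theorem Q2602 : ∀ i, i < 2602 → P i := stepQ 2601 Q2601 (allL N2601 (tt N1254 (iv D3068)) (tt N4859 D5715) (tt N4860 D5716) (tt N4861 D5717) (tt N4862 D5718))
theorem Q2603 : ∀ i, i < 2603 → P i := stepQ 2602 Q2602 (allL N2602 (tt N4862 (iv F4784)) (tt N1256 F2143) (tt N4863 D5719) (tt N1321 F2144) (tt N1254 (iv D3069)))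
theorem Q2604 : ∀ i, i < 2604 → P i := stepQ 2603 Q2603 (allL N2603 (tt N4596 (iv F5757)) (tt N4763 (iv F5759)) (tt N1255 (iv D3070)) (tt N4841 (iv F4755)) (tt N4761 (iv F5758)))
theorem Q2605 : ∀ i, i < 2605 → P i := stepQ 2604 Q2604 (allL N2604 (tt N1263 F2147) (tt N1257 (iv D3074)) (tt N3531 (iv F3137)) (tt N4864 D5723) (tt N4865 D5724))
theorem Q2606 : ∀ i, i < 2606 → P i := stepQ 2605 Q2605 (allL N2605 (tt N4741 (iv F4594)) (tt N3528 (iv F3138)) (tt N1257 (iv D3075)) (tt N3905 F4595) (tt N4866 D5725))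
theorem Q2607 : ∀ i, i < 2607 → P i := stepQ 2606 Q2606 (allL N2606 (tt N4867 D5726) (tt N4864 (iv F4786)) (tt N3905 (iv F4596)) (tt N1257 (iv D3076)) (tt N4868 D5727))
theorem Q2608 : ∀ i, i < 2608 → P i := stepQ 2607 Q2607 (allL N2607 (tt N1260 F2148) (tt N4865 (iv F4789)) (tt N4869 D5728) (tt N4870 D5729) (tt N1257 (iv D3077)))
theorem Q2609 : ∀ i, i < 2609 → P i := stepQ 2608 Q2608 (allL N2608 (tt N1258 (iv D3078)) (tt N4871 D5730) (tt N4872 D5731) (tt N4873 D5732) (tt N4874 D5733))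
theorem Q2610 : ∀ i, i < 2610 → P i := stepQ 2609 Q2609 (allL N2609 (tt N4875 D5734) (tt N1258 (iv D3079)) (tt N4657 (iv F4521)) (tt N4876 D5735) (tt N4877 D5736))
theorem Q2611 : ∀ i, i < 2611 → P i := stepQ 2610 Q2610 (allL N2610 (tt N4878 D5737) (tt N4876 (iv F4803)) (tt N1259 F2149) (tt N1258 (iv D3080)) (tt N4879 D5738))
theorem Q2612 : ∀ i, i < 2612 → P i := stepQ 2611 Q2611 (allL N2611 (tt N4874 (iv F4799)) (tt N4877 (iv F4804)) (tt N3259 (iv F2880)) (tt N4880 D5739) (tt N1258 (iv D3081)))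
theorem Q2613 : ∀ i, i < 2613 → P i := stepQ 2612 Q2612 (allL N2612 (tt N1259 (iv D3082)) (tt N4881 D5740) (tt N4882 D5741) (tt N4883 D5742) (tt N4884 D5743))
theorem Q2614 : ∀ i, i < 2614 → P i := stepQ 2613 Q2613 (allL N2613 (tt N4884 (iv F4807)) (tt N1261 F2150) (tt N4885 D5744) (tt N1311 (iv F2151)) (tt N1259 (iv D3083)))
theorem Q2615 : ∀ i, i < 2615 → P i := stepQ 2614 Q2614 (allL N2614 (tt N4886 D5745) (tt N4887 D5746) (tt N1260 (iv D3084)) (tt N4888 D5747) (tt N4889 D5748))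
theorem Q2616 : ∀ i, i < 2616 → P i := stepQ 2615 Q2615 (allL N2615 (tt N4890 D5749) (tt N1262 F2152) (tt N4888 (iv F4811)) (tt N1260 (iv D3085)) (tt N1310 F2153))
theorem Q2617 : ∀ i, i < 2617 → P i := stepQ 2616 Q2616 (allL N2616 (tt N4891 D5750) (tt N1265 F2155) (tt N1263 (iv D3087)) (tt N1263 (iv F2157)) (tt N2399 F2156))
theorem Q2618 : ∀ i, i < 2618 → P i := stepQ 2617 Q2617 (allL N2617 (tt N4865 (iv F4788)) (tt N1266 F2158) (tt N2398 F2159) (tt N2436 (iv F2160)) (tt N1263 (iv D3088)))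
theorem Q2619 : ∀ i, i < 2619 → P i := stepQ 2618 Q2618 (allL N2618 (tt N1264 (iv D3089)) (tt N1406 F2971) (tt N3503 (iv F3113)) (tt N4892 D5751) (tt N4893 D5752))
theorem Q2620 : ∀ i, i < 2620 → P i := stepQ 2619 Q2619 (allL N2619 (tt N4894 D5753) (tt N1264 (iv D3090)) (tt N4895 D5754) (tt N4895 F4829) (tt N4896 D5755))
theorem Q2621 : ∀ i, i < 2621 → P i := stepQ 2620 Q2620 (allL N2620 (tt N3220 (iv F2970)) (tt N4895 (iv F4825)) (tt N1265 F2161) (tt N1264 (iv D3091)) (tt N4897 D5756))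
theorem Q2622 : ∀ i, i < 2622 → P i := stepQ 2621 Q2621 (allL N2621 (tt N4893 (iv F4819)) (tt N4896 (iv F4830)) (tt N4898 D5757) (tt N4899 D5758) (tt N1264 (iv D3092)))
theorem Q2623 : ∀ i, i < 2623 → P i := stepQ 2622 Q2622 (allL N2622 (tt N1727 F2162) (tt N2399 F2163) (tt N4900 D5759) (tt N1305 F2164) (tt N1265 (iv D3093)))
theorem Q2624 : ∀ i, i < 2624 → P i := stepQ 2623 Q2623 (allL N2623 (tt N4901 D5760) (tt N4902 D5761) (tt N1266 (iv D3094)) (tt N4903 D5762) (tt N4904 D5763))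
theorem Q2625 : ∀ i, i < 2625 → P i := stepQ 2624 Q2624 (allL N2624 (tt N1914 F2216) (tt N2436 F2214) (tt N4903 (iv F4875)) (tt N1266 (iv D3095)) (tt N1304 F2215))
theorem Q2626 : ∀ i, i < 2626 → P i := stepQ 2625 Q2625 (allL N2625 (tt N3373 (iv F3160)) (tt N1267 (iv D3096)) (tt N4905 D5764) (tt N2598 F3159) (tt N4906 D5765))
theorem Q2627 : ∀ i, i < 2627 → P i := stepQ 2626 Q2626 (allL N2626 (tt N3503 F3114) (tt N4854 (iv F4779)) (tt N1267 (iv D3097)) (tt N3541 (iv F3144)) (tt N4907 D5766))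
theorem Q2628 : ∀ i, i < 2628 → P i := stepQ 2627 Q2627 (allL N2627 (tt N1725 F2217) (tt N2598 (iv F3158)) (tt N3541 (iv F3143)) (tt N1267 (iv D3098)) (tt N4908 D5767))
theorem Q2629 : ∀ i, i < 2629 → P i := stepQ 2628 Q2628 (allL N2628 (tt N1269 F2218) (tt N4906 (iv F4881)) (tt N4909 D5768) (tt N4910 D5769) (tt N1267 (iv D3099)))
theorem Q2630 : ∀ i, i < 2630 → P i := stepQ 2629 Q2629 (allL N2629 (tt N1268 (iv D3100)) (tt N4210 (iv F7008)) (tt N4911 D5771) (tt N4912 D5772) (tt N4913 D5773))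
theorem Q2631 : ∀ i, i < 2631 → P i := stepQ 2630 Q2630 (allL N2630 (tt N4913 (iv F4895)) (tt N1804 F2219) (tt N4914 D5774) (tt N1300 F4840) (tt N1268 (iv D3101)))
theorem Q2632 : ∀ i, i < 2632 → P i := stepQ 2631 Q2631 (allL N2631 (tt N4898 F4834) (tt N1638 F2809) (tt N1269 (iv D3102)) (tt N1301 F4835) (tt N1555 F2810))
theorem Q2633 : ∀ i, i < 2633 → P i := stepQ 2632 Q2632 (allL N2632 (tt N4915 D5775) (tt N1270 (iv D3104)) (tt N2632 F2221) (tt N4443 (iv F4202)) (tt N4439 F4193))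
theorem Q2634 : ∀ i, i < 2634 → P i := stepQ 2633 Q2633 (allL N2633 (tt N4892 (iv F4818)) (tt N4916 D5776) (tt N1270 (iv D3105)) (tt N4917 D5777) (tt N4918 D5778))
theorem Q2635 : ∀ i, i < 2635 → P i := stepQ 2634 Q2634 (allL N2634 (tt N1726 F2222) (tt N4443 (iv F4200)) (tt N4917 (iv F4902)) (tt N1270 (iv D3106)) (tt N1295 F2223))
theorem Q2636 : ∀ i, i < 2636 → P i := stepQ 2635 Q2635 (allL N2635 (tt N1271 F2224) (tt N4439 (iv F4191)) (tt N4919 D5779) (tt N1293 F2225) (tt N1270 (iv D3107)))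
theorem Q2637 : ∀ i, i < 2637 → P i := stepQ 2636 Q2636 (allL N2636 (tt N4920 D5780) (tt N1558 F4730) (tt N1271 (iv D3108)) (tt N1306 F2226) (tt N1556 F4731))
theorem Q2638 : ∀ i, i < 2638 → P i := stepQ 2637 Q2637 (allL N2637 (tt N1272 (iv D3109)) (tt N4921 D5781) (tt N4907 (iv F4883)) (tt N4922 D5782) (tt N1554 F2786))
theorem Q2639 : ∀ i, i < 2639 → P i := stepQ 2638 Q2638 (allL N2638 (tt N1273 (iv D3111)) (tt N4915 (iv F4900)) (tt N4923 D5783) (tt N4924 D5784) (tt N4925 D5785))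
theorem Q2640 : ∀ i, i < 2640 → P i := stepQ 2639 Q2639 (allL N2639 (tt N4926 D5786) (tt N4927 D5787) (tt N1273 (iv D3112)) (tt N4176 (iv F3907)) (tt N4928 D5788))
theorem Q2641 : ∀ i, i < 2641 → P i := stepQ 2640 Q2640 (allL N2640 (tt N4925 (iv F4916)) (tt N1274 F2228) (tt N4929 D5789) (tt N1284 F2229) (tt N1273 (iv D3113)))
theorem Q2642 : ∀ i, i < 2642 → P i := stepQ 2641 Q2641 (allL N2641 (tt N4930 D5790) (tt N1277 F2230) (tt N3620 (iv F3240)) (tt N1275 (iv D3114)) (tt N4931 D5791))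
theorem Q2643 : ∀ i, i < 2643 → P i := stepQ 2642 Q2642 (allL N2642 (tt N4932 D5792) (tt N3616 (iv F3234)) (tt N1277 F2231) (tt N1276 (iv D3115)) (tt N4933 D5793))
theorem Q2644 : ∀ i, i < 2644 → P i := stepQ 2643 Q2643 (allL N2643 (tt N2005 F2232) (tt N1327 F2233) (tt N3291 (iv F2919)) (tt N4934 D5794) (tt N1276 (iv D3116)))
theorem Q2645 : ∀ i, i < 2645 → P i := stepQ 2644 Q2644 (allL N2644 (tt N1277 (iv D3117)) (tt N1911 F3460) (tt N4935 D5795) (tt N1909 F3461) (tt N4936 D5796))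
theorem Q2646 : ∀ i, i < 2646 → P i := stepQ 2645 Q2645 (allL N2645 (tt N4936 (iv F4931)) (tt N4931 (iv F4921)) (tt N4937 D5797) (tt N4925 (iv F4917)) (tt N1277 (iv D3118)))
theorem Q2647 : ∀ i, i < 2647 → P i := stepQ 2646 Q2646 (allL N2646 (tt N4108 (iv F3844)) (tt N4938 D5798) (tt N1278 (iv D3119)) (tt N4939 D5799) (tt N4940 D5800))
theorem Q2648 : ∀ i, i < 2648 → P i := stepQ 2647 Q2647 (allL N2647 (tt N4941 D5801) (tt N4441 (iv F4197)) (tt N4939 (iv F4935)) (tt N1278 (iv D3120)) (tt N4924 (iv F4915)))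
theorem Q2649 : ∀ i, i < 2649 → P i := stepQ 2648 Q2648 (allL N2648 (tt N4935 (iv F4930)) (tt N2648 F2234) (tt N3635 (iv F3249)) (tt N1279 (iv D3121)) (tt N4942 D5802))
theorem Q2650 : ∀ i, i < 2650 → P i := stepQ 2649 Q2649 (allL N2649 (tt N1282 F2235) (tt N2649 F2236) (tt N1381 F2237) (tt N4943 D5803) (tt N1279 (iv D3122)))
theorem Q2651 : ∀ i, i < 2651 → P i := stepQ 2650 Q2650 (allL N2650 (tt N4944 D5804) (tt N1281 F2238) (tt N4407 (iv F4162)) (tt N1280 (iv D3123)) (tt N4945 D5805))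
theorem Q2652 : ∀ i, i < 2652 → P i := stepQ 2651 Q2651 (allL N2651 (tt N1560 F2239) (tt N1282 F2240) (tt N2906 (iv F2475)) (tt N4946 D5806) (tt N1280 (iv D3124)))
theorem Q2653 : ∀ i, i < 2653 → P i := stepQ 2652 Q2652 (allL N2652 (tt N1281 (iv D3125)) (tt N4947 D5807) (tt N4948 D5808) (tt N4949 D5809) (tt N4950 D5810))
theorem Q2654 : ∀ i, i < 2654 → P i := stepQ 2653 Q2653 (allL N2653 (tt N4950 (iv F4952)) (tt N4945 (iv F4943)) (tt N4951 D5811) (tt N4928 (iv F6370)) (tt N1281 (iv D3126)))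
theorem Q2655 : ∀ i, i < 2655 → P i := stepQ 2654 Q2654 (allL N2654 (tt N4952 D5813) (tt N4946 (iv F4944)) (tt N3292 (iv F2921)) (tt N1282 (iv D3127)) (tt N4176 (iv F6369)))
theorem Q2656 : ∀ i, i < 2656 → P i := stepQ 2655 Q2655 (allL N2655 (tt N4272 (iv F4003)) (tt N1283 (iv D3128)) (tt N4953 D5815) (tt N4954 D5816) (tt N4955 D5817))
theorem Q2657 : ∀ i, i < 2657 → P i := stepQ 2656 Q2656 (allL N2656 (tt N2004 F2241) (tt N4956 D5818) (tt N1283 (iv D3129)) (tt N4957 D5819) (tt N4958 D5820))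
theorem Q2658 : ∀ i, i < 2658 → P i := stepQ 2657 Q2657 (allL N2657 (tt N1909 F3462) (tt N4954 (iv F4957)) (tt N4957 (iv F4967)) (tt N1283 (iv D3130)) (tt N4959 D5821))
theorem Q2659 : ∀ i, i < 2659 → P i := stepQ 2658 Q2658 (allL N2658 (tt N1284 F2242) (tt N4955 (iv F4961)) (tt N4960 D5822) (tt N4961 D5823) (tt N1283 (iv D3131)))
theorem Q2660 : ∀ i, i < 2660 → P i := stepQ 2659 Q2659 (allL N2659 (tt N4962 D5824) (tt N4963 D5825) (tt N1284 (iv D3132)) (tt N4929 (iv F4919)) (tt N4964 D5826))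
theorem Q2661 : ∀ i, i < 2661 → P i := stepQ 2660 Q2660 (allL N2660 (tt N3039 (iv F2620)) (tt N1285 (iv D3133)) (tt N4326 (iv F4065)) (tt N4965 D5827) (tt N3036 (iv F2615)))
theorem Q2662 : ∀ i, i < 2662 → P i := stepQ 2661 Q2661 (allL N2661 (tt N4966 D5828) (tt N4965 (iv F4975)) (tt N1286 F2243) (tt N1285 (iv D3134)) (tt N4967 D5829))
theorem Q2663 : ∀ i, i < 2663 → P i := stepQ 2662 Q2662 (allL N2662 (tt N4368 (iv F4111)) (tt N3036 F2614) (tt N3293 (iv F2923)) (tt N4964 (iv F6401)) (tt N1285 (iv D3135)))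
theorem Q2664 : ∀ i, i < 2664 → P i := stepQ 2663 Q2663 (allL N2663 (tt N1286 (iv D3136)) (tt N4968 D5831) (tt N4969 D5832) (tt N4959 (iv F4971)) (tt N4175 (iv F3905)))
theorem Q2665 : ∀ i, i < 2665 → P i := stepQ 2664 Q2664 (allL N2664 (tt N1287 (iv D3137)) (tt N4970 D5833) (tt N4226 (iv F3946)) (tt N4971 D5834) (tt N4438 (iv F4190)))
theorem Q2666 : ∀ i, i < 2666 → P i := stepQ 2665 Q2665 (allL N2665 (tt N1303 F2246) (tt N1408 F2244) (tt N1829 F2245) (tt N1288 (iv D3138)) (tt N4972 D5835))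
theorem Q2667 : ∀ i, i < 2667 → P i := stepQ 2666 Q2666 (allL N2666 (tt N1291 F2247) (tt N1409 F2248) (tt N1387 F2249) (tt N4893 F4822) (tt N1288 (iv D3139)))
theorem Q2668 : ∀ i, i < 2668 → P i := stepQ 2667 Q2667 (allL N2667 (tt N4973 D5836) (tt N1290 F2250) (tt N2667 F2251) (tt N1289 (iv D3140)) (tt N4455 (iv F4218)))
theorem Q2669 : ∀ i, i < 2669 → P i := stepQ 2668 Q2668 (allL N2668 (tt N1290 (iv D3141)) (tt N3219 (iv F2834)) (tt N3755 (iv F3446)) (tt N3754 F3443) (tt N4974 D5837))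
theorem Q2670 : ∀ i, i < 2670 → P i := stepQ 2669 Q2669 (allL N2669 (tt N4974 (iv F4983)) (tt N4455 F4219) (tt N4975 D5838) (tt N4918 (iv F4904)) (tt N1290 (iv D3142)))
theorem Q2671 : ∀ i, i < 2671 → P i := stepQ 2670 Q2670 (allL N2670 (tt N1301 F2252) (tt N4468 (iv F4234)) (tt N1291 (iv D3143)) (tt N4976 D5839) (tt N1567 (iv F2253)))
theorem Q2672 : ∀ i, i < 2672 → P i := stepQ 2671 Q2671 (allL N2671 (tt N4977 D5840) (tt N4457 (iv F4221)) (tt N4976 (iv F4984)) (tt N1291 (iv D3144)) (tt N4917 (iv F4903)))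
theorem Q2673 : ∀ i, i < 2673 → P i := stepQ 2672 Q2672 (allL N2672 (tt N1297 F2256) (tt N1762 F2254) (tt N1292 (iv D3145)) (tt N1913 F2255) (tt N4978 D5841))
theorem Q2674 : ∀ i, i < 2674 → P i := stepQ 2673 Q2673 (allL N2673 (tt N1293 F2257) (tt N1721 F2258) (tt N4979 D5842) (tt N1727 F2259) (tt N1292 (iv D3146)))
theorem Q2675 : ∀ i, i < 2675 → P i := stepQ 2674 Q2674 (allL N2674 (tt N4980 D5843) (tt N4484 (iv F4253)) (tt N1293 (iv D3147)) (tt N4919 (iv F4905)) (tt N4981 D5844))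
theorem Q2676 : ∀ i, i < 2676 → P i := stepQ 2675 Q2675 (allL N2675 (tt N1294 (iv D3148)) (tt N1424 (iv F2267)) (tt N1830 F2262) (tt N4901 (iv F4862)) (tt N1385 F2264))
theorem Q2677 : ∀ i, i < 2677 → P i := stepQ 2676 Q2676 (allL N2676 (tt N4982 D5845) (tt N4494 (iv F4266)) (tt N1295 F2269) (tt N1294 (iv D3149)) (tt N4983 D5846))
theorem Q2678 : ∀ i, i < 2678 → P i := stepQ 2677 Q2677 (allL N2677 (tt N1385 F2270) (tt N3016 (iv F2593)) (tt N1567 F2271) (tt N4981 (iv F5973)) (tt N1294 (iv D3150)))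
theorem Q2679 : ∀ i, i < 2679 → P i := stepQ 2678 Q2678 (allL N2678 (tt N1295 (iv D3151)) (tt N1729 (iv F2274)) (tt N4984 D5848) (tt N1914 F2272) (tt N1726 F2273))
theorem Q2680 : ∀ i, i < 2680 → P i := stepQ 2679 Q2679 (allL N2679 (tt N3755 (iv F3444)) (tt N4240 (iv F3960)) (tt N1297 F2275) (tt N1296 (iv D3152)) (tt N4985 D5849))
theorem Q2681 : ∀ i, i < 2681 → P i := stepQ 2680 Q2680 (allL N2680 (tt N1830 F2276) (tt N2420 F2277) (tt N1307 F2278) (tt N4986 D5850) (tt N1296 (iv D3153)))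
theorem Q2682 : ∀ i, i < 2682 → P i := stepQ 2681 Q2681 (allL N2681 (tt N4978 (iv F4985)) (tt N4241 (iv F3968)) (tt N4987 D5851) (tt N4913 (iv F4896)) (tt N1297 (iv D3154)))
theorem Q2683 : ∀ i, i < 2683 → P i := stepQ 2682 Q2682 (allL N2682 (tt N1387 F2279) (tt N2068 F2280) (tt N1298 (iv D3155)) (tt N4988 D5852) (tt N1384 F2281))
theorem Q2684 : ∀ i, i < 2684 → P i := stepQ 2683 Q2683 (allL N2683 (tt N4989 D5853) (tt N4242 (iv F3969)) (tt N4988 (iv F5008)) (tt N1298 (iv D3156)) (tt N4912 (iv F4894)))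
theorem Q2685 : ∀ i, i < 2685 → P i := stepQ 2684 Q2684 (allL N2684 (tt N3768 F3476) (tt N1299 (iv D3157)) (tt N4990 D5854) (tt N2726 (iv F3475)) (tt N4991 D5855))
theorem Q2686 : ∀ i, i < 2686 → P i := stepQ 2685 Q2685 (allL N2685 (tt N1829 F2282) (tt N4992 D5856) (tt N1299 (iv D3158)) (tt N3753 (iv F3439)) (tt N4993 D5857))
theorem Q2687 : ∀ i, i < 2687 → P i := stepQ 2686 Q2686 (allL N2686 (tt N1913 F2283) (tt N2726 F3474) (tt N3753 F3440) (tt N1299 (iv D3159)) (tt N4910 (iv F4890)))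
theorem Q2688 : ∀ i, i < 2688 → P i := stepQ 2687 Q2687 (allL N2687 (tt N1300 F2284) (tt N4991 (iv F5013)) (tt N4994 D5858) (tt N4908 (iv F4886)) (tt N1299 (iv D3160)))
theorem Q2689 : ∀ i, i < 2689 → P i := stepQ 2688 Q2688 (allL N2688 (tt N4995 D5859) (tt N1656 F4736) (tt N1300 (iv D3161)) (tt N4914 (iv F4897)) (tt N1568 F4737))
theorem Q2690 : ∀ i, i < 2690 → P i := stepQ 2689 Q2689 (allL N2689 (tt N1302 (iv D3166)) (tt N1308 F2289) (tt N3745 F3434) (tt N4996 D5860) (tt N4997 D5861))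
theorem Q2691 : ∀ i, i < 2691 → P i := stepQ 2690 Q2690 (allL N2690 (tt N4954 F4959) (tt N1304 F2290) (tt N1302 (iv D3167)) (tt N1302 (iv F2292)) (tt N2436 F2291))
theorem Q2692 : ∀ i, i < 2692 → P i := stepQ 2691 Q2691 (allL N2691 (tt N4997 (iv F5028)) (tt N1305 F2293) (tt N2400 F2295) (tt N2399 F2294) (tt N1302 (iv D3168)))
theorem Q2693 : ∀ i, i < 2693 → P i := stepQ 2692 Q2692 (allL N2692 (tt N4998 D5862) (tt N1303 (iv D3169)) (tt N4999 D5863) (tt N4999 F5032) (tt N5000 D5864))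
theorem Q2694 : ∀ i, i < 2694 → P i := stepQ 2693 Q2693 (allL N2693 (tt N3754 (iv F3441)) (tt N4999 (iv F5030)) (tt N1304 F2296) (tt N1303 (iv D3170)) (tt N4899 (iv F4858)))
theorem Q2695 : ∀ i, i < 2695 → P i := stepQ 2694 Q2694 (allL N2694 (tt N4972 (iv F4981)) (tt N5000 (iv F5033)) (tt N4995 (iv F5024)) (tt N4897 (iv F4859)) (tt N1303 (iv D3171)))
theorem Q2696 : ∀ i, i < 2696 → P i := stepQ 2695 Q2695 (allL N2695 (tt N5001 D5865) (tt N5002 D5866) (tt N1305 (iv D3172)) (tt N4900 (iv F4861)) (tt N5003 D5867))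
theorem Q2697 : ∀ i, i < 2697 → P i := stepQ 2696 Q2696 (allL N2696 (tt N1306 (iv D3173)) (tt N4826 (iv F4740)) (tt N4993 (iv F5020)) (tt N4825 F4727) (tt N1569 F4728))
theorem Q2698 : ∀ i, i < 2698 → P i := stepQ 2697 Q2697 (allL N2697 (tt N4984 (iv F4998)) (tt N2093 F2297) (tt N4986 (iv F5003)) (tt N1307 (iv D3176)) (tt N5004 D5868))
theorem Q2699 : ∀ i, i < 2699 → P i := stepQ 2698 Q2698 (allL N2698 (tt N5005 D5869) (tt N3728 (iv F3435)) (tt N1308 (iv D3177)) (tt N3932 (iv F5047)) (tt N5006 D5870))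
theorem Q2700 : ∀ i, i < 2700 → P i := stepQ 2699 Q2699 (allL N2699 (tt N5007 D5871) (tt N4996 (iv F5026)) (tt N3932 F5048) (tt N1308 (iv D3178)) (tt N4870 (iv F4795)))
theorem Q2701 : ∀ i, i < 2701 → P i := stepQ 2700 Q2700 (allL N2700 (tt N1311 F2298) (tt N4997 (iv F5029)) (tt N5008 D5872) (tt N4868 (iv F4794)) (tt N1308 (iv D3179)))
theorem Q2702 : ∀ i, i < 2702 → P i := stepQ 2701 Q2701 (allL N2701 (tt N1309 (iv D3180)) (tt N4949 (iv F4950)) (tt N3643 (iv F3259)) (tt N4947 (iv F4951)) (tt N5009 D5873))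
theorem Q2703 : ∀ i, i < 2703 → P i := stepQ 2702 Q2702 (allL N2702 (tt N5010 D5874) (tt N1309 (iv D3181)) (tt N5011 D5875) (tt N5012 D5876) (tt N5013 D5877))
theorem Q2704 : ∀ i, i < 2704 → P i := stepQ 2703 Q2703 (allL N2703 (tt N5014 D5878) (tt N5012 (iv F5062)) (tt N1310 F2299) (tt N1309 (iv D3182)) (tt N4880 (iv F6293)))
theorem Q2705 : ∀ i, i < 2705 → P i := stepQ 2704 Q2704 (allL N2704 (tt N5009 (iv F5055)) (tt N5013 (iv F5063)) (tt N3299 F4738) (tt N4879 (iv F6295)) (tt N1309 (iv D3183)))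
theorem Q2706 : ∀ i, i < 2706 → P i := stepQ 2705 Q2705 (allL N2705 (tt N1310 (iv D3184)) (tt N4971 (iv F5054)) (tt N5015 D5881) (tt N4970 F5053) (tt N4890 (iv F4812)))
theorem Q2707 : ∀ i, i < 2707 → P i := stepQ 2706 Q2706 (allL N2706 (tt N5016 D5882) (tt N5017 D5883) (tt N1311 (iv D3185)) (tt N4885 (iv F4808)) (tt N5018 D5884))
theorem Q2708 : ∀ i, i < 2708 → P i := stepQ 2707 Q2707 (allL N2707 (tt N1312 (iv D3186)) (tt N3766 (iv F3452)) (tt N5019 D5885) (tt N4649 (iv F4516)) (tt N4727 (iv F4578)))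
theorem Q2709 : ∀ i, i < 2709 → P i := stepQ 2708 Q2708 (allL N2708 (tt N1904 F3290) (tt N5011 (iv F5060)) (tt N1312 (iv D3187)) (tt N4656 (iv F4520)) (tt N5020 D5886))
theorem Q2710 : ∀ i, i < 2710 → P i := stepQ 2709 Q2709 (allL N2709 (tt N1313 (iv D3188)) (tt N5005 (iv F5046)) (tt N3763 (iv F3450)) (tt N2552 F2300) (tt N5021 D5887))
theorem Q2711 : ∀ i, i < 2711 → P i := stepQ 2710 Q2710 (allL N2710 (tt N5022 D5888) (tt N1313 (iv D3189)) (tt N3719 (iv F3478)) (tt N4739 (iv F4593)) (tt N5023 D5889))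
theorem Q2712 : ∀ i, i < 2712 → P i := stepQ 2711 Q2711 (allL N2711 (tt N5021 (iv F5071)) (tt N5023 (iv F5077)) (tt N3304 F3395) (tt N4746 (iv F4656)) (tt N1313 (iv D3190)))
theorem Q2713 : ∀ i, i < 2713 → P i := stepQ 2712 Q2712 (allL N2712 (tt N5024 D5890) (tt N5025 D5891) (tt N1314 (iv D3191)) (tt N4738 (iv F4622)) (tt N4736 (iv F4623)))
theorem Q2714 : ∀ i, i < 2714 → P i := stepQ 2713 Q2713 (allL N2713 (tt N4957 (iv F4965)) (tt N1315 (iv D3192)) (tt N5026 D5892) (tt N4932 (iv F4924)) (tt N5027 D5893))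
theorem Q2715 : ∀ i, i < 2715 → P i := stepQ 2714 Q2714 (allL N2714 (tt N3763 (iv F3449)) (tt N1410 F2301) (tt N1315 (iv D3193)) (tt N4749 F4610) (tt N5028 D5894))
theorem Q2716 : ∀ i, i < 2716 → P i := stepQ 2715 Q2715 (allL N2715 (tt N2525 F2302) (tt N4932 (iv F4923)) (tt N4749 (iv F4609)) (tt N1315 (iv D3194)) (tt N4781 (iv F4668)))
theorem Q2717 : ∀ i, i < 2717 → P i := stepQ 2716 Q2716 (allL N2716 (tt N1317 F2303) (tt N5027 (iv F5082)) (tt N2912 F3400) (tt N4780 (iv F4666)) (tt N1315 (iv D3195)))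
theorem Q2718 : ∀ i, i < 2718 → P i := stepQ 2717 Q2717 (allL N2717 (tt N1316 (iv D3196)) (tt N1884 F2305) (tt N5029 D5895) (tt N2012 F2304) (tt N3150 (iv F3401)))
theorem Q2719 : ∀ i, i < 2719 → P i := stepQ 2718 Q2718 (allL N2718 (tt N3791 (iv F3473)) (tt N1320 F2306) (tt N1316 (iv D3197)) (tt N3713 (iv F3337)) (tt N5030 D5896))
theorem Q2720 : ∀ i, i < 2720 → P i := stepQ 2719 Q2719 (allL N2719 (tt N3150 F3399) (tt N1317 F2307) (tt N5031 D5897) (tt N4786 (iv F4680)) (tt N1316 (iv D3198)))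
theorem Q2721 : ∀ i, i < 2721 → P i := stepQ 2720 Q2720 (allL N2720 (tt N1318 (iv D3201)) (tt N5032 D5898) (tt N5028 (iv F5084)) (tt N4754 (iv F4620)) (tt N4752 F4616))
theorem Q2722 : ∀ i, i < 2722 → P i := stepQ 2721 Q2721 (allL N2721 (tt N5033 D5899) (tt N1318 (iv D3202)) (tt N5034 D5900) (tt N4764 (iv F4638)) (tt N4759 F4630))
theorem Q2723 : ∀ i, i < 2723 → P i := stepQ 2722 Q2722 (allL N2722 (tt N3654 (iv F3269)) (tt N1319 (iv D3204)) (tt N5035 D5901) (tt N5035 F5096) (tt N5036 D5902))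
theorem Q2724 : ∀ i, i < 2724 → P i := stepQ 2723 Q2723 (allL N2723 (tt N5037 D5903) (tt N5038 D5904) (tt N1319 (iv D3205)) (tt N5039 D5905) (tt N5040 D5906))
theorem Q2725 : ∀ i, i < 2725 → P i := stepQ 2724 Q2724 (allL N2724 (tt N1906 F2308) (tt N5035 (iv F5095)) (tt N5039 (iv F5105)) (tt N1319 (iv D3206)) (tt N4853 (iv F4777)))
theorem Q2726 : ∀ i, i < 2726 → P i := stepQ 2725 Q2725 (allL N2725 (tt N1321 F2309) (tt N5036 (iv F5097)) (tt N5041 D5907) (tt N4851 (iv F4774)) (tt N1319 (iv D3207)))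
theorem Q2727 : ∀ i, i < 2727 → P i := stepQ 2726 Q2726 (allL N2726 (tt N1320 (iv D3208)) (tt N2686 (iv F3474)) (tt N4992 (iv F5017)) (tt N2684 F3475) (tt N5042 D5908))
theorem Q2728 : ∀ i, i < 2728 → P i := stepQ 2727 Q2727 (allL N2727 (tt N5042 (iv F5106)) (tt N5030 (iv F5088)) (tt N5043 D5909) (tt N4857 (iv F5016)) (tt N1320 (iv D3209)))
theorem Q2729 : ∀ i, i < 2729 → P i := stepQ 2728 Q2728 (allL N2728 (tt N4567 F4776) (tt N5044 D5910) (tt N1321 (iv D3210)) (tt N4863 (iv F4785)) (tt N5045 D5911))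
theorem Q2730 : ∀ i, i < 2730 → P i := stepQ 2729 Q2729 (allL N2729 (tt N1322 (iv D3211)) (tt N5046 D5912) (tt N5047 D5913) (tt N4806 (iv F4705)) (tt N3967 (iv F3686)))
theorem Q2731 : ∀ i, i < 2731 → P i := stepQ 2730 Q2730 (allL N2730 (tt N5048 D5914) (tt N5034 (iv F5093)) (tt N1322 (iv D3212)) (tt N4815 (iv F5784)) (tt N4812 (iv F5787)))
theorem Q2732 : ∀ i, i < 2732 → P i := stepQ 2731 Q2731 (allL N2731 (tt N1323 (iv D3213)) (tt N4731 (iv F4585)) (tt N1325 F2310) (tt N3475 (iv F3095)) (tt N5049 D5916))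
theorem Q2733 : ∀ i, i < 2733 → P i := stepQ 2732 Q2732 (allL N2732 (tt N5049 (iv F5114)) (tt N2237 F2311) (tt N3618 F4925) (tt N5050 D5917) (tt N1323 (iv D3214)))
theorem Q2734 : ∀ i, i < 2734 → P i := stepQ 2733 Q2733 (allL N2733 (tt N5051 D5918) (tt N2239 F2312) (tt N3619 (iv F3238)) (tt N1324 (iv D3215)) (tt N5052 D5919))
theorem Q2735 : ∀ i, i < 2735 → P i := stepQ 2734 Q2734 (allL N2734 (tt N1326 F2313) (tt N3479 (iv F3101)) (tt N5053 D5920) (tt N3490 (iv F3107)) (tt N1325 (iv D3216)))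
theorem Q2736 : ∀ i, i < 2736 → P i := stepQ 2735 Q2735 (allL N2735 (tt N5053 (iv F5118)) (tt N4933 (iv F4927)) (tt N1326 (iv D3217)) (tt N5054 D5921) (tt N3616 (iv F4926)))
theorem Q2737 : ∀ i, i < 2737 → P i := stepQ 2736 Q2736 (allL N2736 (tt N1437 F2315) (tt N1340 F2314) (tt N5054 (iv F5119)) (tt N1326 (iv D3218)) (tt N5055 D5922))
theorem Q2738 : ∀ i, i < 2738 → P i := stepQ 2737 Q2737 (allL N2737 (tt N5056 D5923) (tt N4934 (iv F4928)) (tt N1328 F2316) (tt N1327 (iv D3219)) (tt N5057 D5924))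
theorem Q2739 : ∀ i, i < 2739 → P i := stepQ 2738 Q2738 (allL N2738 (tt N1328 (iv D3220)) (tt N3481 (iv F3103)) (tt N5056 (iv F5124)) (tt N3476 (iv F3099)) (tt N5058 D5925))
theorem Q2740 : ∀ i, i < 2740 → P i := stepQ 2739 Q2739 (allL N2739 (tt N5058 (iv F5125)) (tt N1346 F2317) (tt N5052 (iv F7129)) (tt N5055 (iv F5123)) (tt N1328 (iv D3221)))
theorem Q2741 : ∀ i, i < 2741 → P i := stepQ 2740 Q2740 (allL N2740 (tt N1329 (iv D3222)) (tt N2580 F2318) (tt N2740 F2319) (tt N2578 F2320) (tt N5059 D5927))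
theorem Q2742 : ∀ i, i < 2742 → P i := stepQ 2741 Q2741 (allL N2741 (tt N5059 (iv F5126)) (tt N1332 F2321) (tt N4931 (iv F4922)) (tt N5060 D5928) (tt N1329 (iv D3223)))
theorem Q2743 : ∀ i, i < 2743 → P i := stepQ 2742 Q2742 (allL N2742 (tt N5061 D5929) (tt N1334 F2322) (tt N4441 (iv F4198)) (tt N1330 (iv D3224)) (tt N5062 D5930))
theorem Q2744 : ∀ i, i < 2744 → P i := stepQ 2743 Q2743 (allL N2743 (tt N1349 F2323) (tt N5063 D5931) (tt N1331 (iv D3225)) (tt N5064 D5932) (tt N5065 D5933))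
theorem Q2745 : ∀ i, i < 2745 → P i := stepQ 2744 Q2744 (allL N2744 (tt N1371 F2324) (tt N1978 F2325) (tt N5064 (iv F5136)) (tt N1331 (iv D3226)) (tt N5066 D5934))
theorem Q2746 : ∀ i, i < 2746 → P i := stepQ 2745 Q2745 (allL N2745 (tt N1332 F2326) (tt N3356 (iv F2984)) (tt N5067 D5935) (tt N5068 D5936) (tt N1331 (iv D3227)))
theorem Q2747 : ∀ i, i < 2747 → P i := stepQ 2746 Q2746 (allL N2746 (tt N5069 D5937) (tt N5070 D5938) (tt N1332 (iv D3228)) (tt N5071 D5939) (tt N5072 D5940))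
theorem Q2748 : ∀ i, i < 2748 → P i := stepQ 2747 Q2747 (allL N2747 (tt N2027 F2327) (tt N5060 (iv F5129)) (tt N5071 (iv F5145)) (tt N1332 (iv D3229)) (tt N5073 D5941))
theorem Q2749 : ∀ i, i < 2749 → P i := stepQ 2748 Q2748 (allL N2748 (tt N2982 (iv F2557)) (tt N1333 (iv D3230)) (tt N4938 (iv F4934)) (tt N5074 D5942) (tt N2979 (iv F2555)))
theorem Q2750 : ∀ i, i < 2750 → P i := stepQ 2749 Q2749 (allL N2749 (tt N5075 D5943) (tt N5074 (iv F5154)) (tt N1334 F2328) (tt N1333 (iv D3231)) (tt N5076 D5944))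
theorem Q2751 : ∀ i, i < 2751 → P i := stepQ 2750 Q2750 (allL N2750 (tt N1364 F2329) (tt N2979 (iv F2554)) (tt N1344 F2330) (tt N5072 (iv F5148)) (tt N1333 (iv D3232)))
theorem Q2752 : ∀ i, i < 2752 → P i := stepQ 2751 Q2751 (allL N2751 (tt N1334 (iv D3233)) (tt N3362 F5133) (tt N5077 D5945) (tt N5066 (iv F5141)) (tt N5078 D5946))
theorem Q2753 : ∀ i, i < 2753 → P i := stepQ 2752 Q2752 (allL N2752 (tt N5078 (iv F5158)) (tt N5062 (iv F5134)) (tt N1346 F5153) (tt N5073 (iv F5151)) (tt N1334 (iv D3234)))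
theorem Q2754 : ∀ i, i < 2754 → P i := stepQ 2753 Q2753 (allL N2753 (tt N2753 F2331) (tt N2856 (iv F2435)) (tt N1335 (iv D3235)) (tt N2150 F2332) (tt N5079 D5947))
theorem Q2755 : ∀ i, i < 2755 → P i := stepQ 2754 Q2754 (allL N2754 (tt N4136 (iv F3861)) (tt N1338 F2333) (tt N5080 D5948) (tt N5081 D5949) (tt N1335 (iv D3236)))
theorem Q2756 : ∀ i, i < 2756 → P i := stepQ 2755 Q2755 (allL N2755 (tt N5082 D5950) (tt N1336 (iv D3237)) (tt N5083 D5951) (tt N5084 D5952) (tt N5085 D5953))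
theorem Q2757 : ∀ i, i < 2757 → P i := stepQ 2756 Q2756 (allL N2756 (tt N1358 F2334) (tt N5084 (iv F5168)) (tt N1337 F2335) (tt N1336 (iv D3238)) (tt N5086 D5954))
theorem Q2758 : ∀ i, i < 2758 → P i := stepQ 2757 Q2757 (allL N2757 (tt N1351 F2336) (tt N5085 (iv F5171)) (tt N5069 (iv F5144)) (tt N5087 D5955) (tt N1336 (iv D3239)))
theorem Q2759 : ∀ i, i < 2759 → P i := stepQ 2758 Q2758 (allL N2758 (tt N1373 F2337) (tt N2151 F2338) (tt N5088 D5956) (tt N1345 F2339) (tt N1337 (iv D3240)))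
theorem Q2760 : ∀ i, i < 2760 → P i := stepQ 2759 Q2759 (allL N2759 (tt N5089 D5957) (tt N5090 D5958) (tt N1338 (iv D3241)) (tt N5091 D5959) (tt N5092 D5960))
theorem Q2761 : ∀ i, i < 2761 → P i := stepQ 2760 Q2760 (allL N2760 (tt N1375 F2340) (tt N5081 (iv F5163)) (tt N5091 (iv F5181)) (tt N1338 (iv D3242)) (tt N5093 D5961))
theorem Q2762 : ∀ i, i < 2762 → P i := stepQ 2761 Q2761 (allL N2761 (tt N1339 (iv D3243)) (tt N5094 D5962) (tt N5065 (iv F5138)) (tt N5095 D5963) (tt N5096 D5964))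
theorem Q2763 : ∀ i, i < 2763 → P i := stepQ 2762 Q2762 (allL N2762 (tt N5097 D5965) (tt N1339 (iv D3244)) (tt N5098 D5966) (tt N5099 D5967) (tt N5100 D5968))
theorem Q2764 : ∀ i, i < 2764 → P i := stepQ 2763 Q2763 (allL N2763 (tt N5101 D5969) (tt N5099 (iv F5189)) (tt N1340 F2341) (tt N1339 (iv D3245)) (tt N5102 D5970))
theorem Q2765 : ∀ i, i < 2765 → P i := stepQ 2764 Q2764 (allL N2764 (tt N5096 (iv F5187)) (tt N5100 (iv F5190)) (tt N5072 (iv F5147)) (tt N1344 F5149) (tt N1339 (iv D3246)))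
theorem Q2766 : ∀ i, i < 2766 → P i := stepQ 2765 Q2765 (allL N2765 (tt N1380 F2342) (tt N5055 (iv F5122)) (tt N5073 (iv F5152)) (tt N1346 F2343) (tt N1340 (iv D3247)))
theorem Q2767 : ∀ i, i < 2767 → P i := stepQ 2766 Q2766 (allL N2766 (tt N1391 F2345) (tt N3274 (iv F2899)) (tt N2025 F2344) (tt N1341 (iv D3248)) (tt N5103 D5971))
theorem Q2768 : ∀ i, i < 2768 → P i := stepQ 2767 Q2767 (allL N2767 (tt N1344 F2346) (tt N3275 (iv F2902)) (tt N2030 F2347) (tt N5104 D5972) (tt N1341 (iv D3249)))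
theorem Q2769 : ∀ i, i < 2769 → P i := stepQ 2768 Q2768 (allL N2768 (tt N1342 (iv D3250)) (tt N3276 (iv F2903)) (tt N2768 F2348) (tt N5105 D5973) (tt N3984 (iv F3712)))
theorem Q2770 : ∀ i, i < 2770 → P i := stepQ 2769 Q2769 (allL N2769 (tt N3138 (iv F2729)) (tt N3291 (iv F2918)) (tt N1342 (iv D3251)) (tt N5106 D5974) (tt N5107 D5975))
theorem Q2771 : ∀ i, i < 2771 → P i := stepQ 2770 Q2770 (allL N2770 (tt N5108 D5976) (tt N1343 F2349) (tt N5106 (iv F5203)) (tt N1342 (iv D3252)) (tt N5109 D5977))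
theorem Q2772 : ∀ i, i < 2772 → P i := stepQ 2771 Q2771 (allL N2771 (tt N3984 (iv F3711)) (tt N1344 F2350) (tt N4467 (iv F4232)) (tt N5100 F5191) (tt N1342 (iv D3253)))
theorem Q2773 : ∀ i, i < 2773 → P i := stepQ 2772 Q2772 (allL N2772 (tt N1343 (iv D3254)) (tt N5110 D5978) (tt N5111 D5979) (tt N5112 D5980) (tt N5113 D5981))
theorem Q2774 : ∀ i, i < 2774 → P i := stepQ 2773 Q2773 (allL N2773 (tt N5113 (iv F5209)) (tt N5109 (iv F5206)) (tt N5076 (iv F5156)) (tt N5102 (iv F5194)) (tt N1343 (iv D3255)))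
theorem Q2775 : ∀ i, i < 2775 → P i := stepQ 2774 Q2774 (allL N2774 (tt N4138 (iv F3863)) (tt N1345 (iv D3257)) (tt N5114 D5982) (tt N2151 F2351) (tt N5115 D5983))
theorem Q2776 : ∀ i, i < 2776 → P i := stepQ 2775 Q2775 (allL N2775 (tt N1382 F2352) (tt N5116 D5984) (tt N1345 (iv D3258)) (tt N5088 (iv F5175)) (tt N5117 D5985))
theorem Q2777 : ∀ i, i < 2777 → P i := stepQ 2776 Q2776 (allL N2776 (tt N1346 F2353) (tt N5115 (iv F5212)) (tt N5118 D5986) (tt N5093 (iv F5185)) (tt N1345 (iv D3259)))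
theorem Q2778 : ∀ i, i < 2778 → P i := stepQ 2777 Q2777 (allL N2777 (tt N1347 (iv D3261)) (tt N5119 D5987) (tt N2236 F2354) (tt N2531 F2355) (tt N5120 D5988))
theorem Q2779 : ∀ i, i < 2779 → P i := stepQ 2778 Q2778 (allL N2778 (tt N5120 (iv F5218)) (tt N1351 F2356) (tt N5121 D5989) (tt N5122 D5990) (tt N1347 (iv D3262)))
theorem Q2780 : ∀ i, i < 2780 → P i := stepQ 2779 Q2779 (allL N2779 (tt N5123 D5991) (tt N1353 F2357) (tt N2284 F2358) (tt N1348 (iv D3263)) (tt N5124 D5992))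
theorem Q2781 : ∀ i, i < 2781 → P i := stepQ 2780 Q2780 (allL N2780 (tt N5065 (iv F5137)) (tt N2780 F2359) (tt N5089 (iv F5177)) (tt N5125 D5993) (tt N1349 (iv D3264)))
theorem Q2782 : ∀ i, i < 2782 → P i := stepQ 2781 Q2781 (allL N2781 (tt N5111 (iv F5207)) (tt N2781 F2360) (tt N1382 F2361) (tt N1350 (iv D3265)) (tt N5126 D5994))
theorem Q2783 : ∀ i, i < 2783 → P i := stepQ 2782 Q2782 (allL N2782 (tt N5067 (iv F5142)) (tt N5127 D5995) (tt N1351 (iv D3266)) (tt N5128 D5996) (tt N5129 D5997))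
theorem Q2784 : ∀ i, i < 2784 → P i := stepQ 2783 Q2783 (allL N2783 (tt N1361 F2362) (tt N5122 (iv F5222)) (tt N5128 (iv F5232)) (tt N1351 (iv D3267)) (tt N5130 D5998))
theorem Q2785 : ∀ i, i < 2785 → P i := stepQ 2784 Q2784 (allL N2784 (tt N2197 F2363) (tt N1352 (iv D3268)) (tt N1828 (iv F2364)) (tt N5131 D5999) (tt N5132 D6000))
theorem Q2786 : ∀ i, i < 2786 → P i := stepQ 2785 Q2785 (allL N2785 (tt N5077 (iv F5157)) (tt N5131 (iv F5238)) (tt N1353 F2365) (tt N1352 (iv D3269)) (tt N5133 D6001))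
theorem Q2787 : ∀ i, i < 2787 → P i := stepQ 2786 Q2786 (allL N2786 (tt N2030 F2366) (tt N5132 (iv F5241)) (tt N1383 F2367) (tt N5129 (iv F5235)) (tt N1352 (iv D3270)))
theorem Q2788 : ∀ i, i < 2788 → P i := stepQ 2787 Q2787 (allL N2787 (tt N1353 (iv D3271)) (tt N5134 D6002) (tt N5075 (iv F5155)) (tt N5086 (iv F5173)) (tt N5118 (iv F5215)))
theorem Q2789 : ∀ i, i < 2789 → P i := stepQ 2788 Q2788 (allL N2788 (tt N5118 F5216) (tt N5124 (iv F5226)) (tt N5126 (iv F5231)) (tt N5130 (iv F5237)) (tt N1353 (iv D3272)))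
theorem Q2790 : ∀ i, i < 2790 → P i := stepQ 2789 Q2789 (allL N2789 (tt N4502 (iv F4278)) (tt N1361 F2368) (tt N4487 F4257) (tt N1354 (iv D3273)) (tt N5135 D6003))
theorem Q2791 : ∀ i, i < 2791 → P i := stepQ 2790 Q2790 (allL N2790 (tt N4544 (iv F5283)) (tt N1366 F2369) (tt N4451 (iv F5308)) (tt N5135 (iv F5245)) (tt N1355 (iv D3274)))
theorem Q2792 : ∀ i, i < 2792 → P i := stepQ 2791 Q2791 (allL N2791 (tt N1356 (iv D3275)) (tt N4516 (iv F4297)) (tt N2441 F2370) (tt N4765 (iv F4640)) (tt N5136 D6004))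
theorem Q2793 : ∀ i, i < 2793 → P i := stepQ 2792 Q2792 (allL N2792 (tt N1959 F2373) (tt N1358 F2371) (tt N2259 F2372) (tt N1356 (iv D3276)) (tt N5137 D6005))
theorem Q2794 : ∀ i, i < 2794 → P i := stepQ 2793 Q2793 (allL N2793 (tt N5136 (iv F5246)) (tt N1359 F2374) (tt N2459 F2375) (tt N5138 D6006) (tt N1356 (iv D3277)))
theorem Q2795 : ∀ i, i < 2795 → P i := stepQ 2794 Q2794 (allL N2794 (tt N5064 (iv F5135)) (tt N2102 (iv F2377)) (tt N1358 F2376) (tt N1357 (iv D3278)) (tt N5139 D6007))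
theorem Q2796 : ∀ i, i < 2796 → P i := stepQ 2795 Q2795 (allL N2795 (tt N2024 F2380) (tt N3171 (iv F2764)) (tt N1376 F2381) (tt N5140 D6008) (tt N1357 (iv D3279)))
theorem Q2797 : ∀ i, i < 2797 → P i := stepQ 2796 Q2796 (allL N2796 (tt N5086 (iv F5172)) (tt N5137 (iv F5249)) (tt N5141 D6009) (tt N1365 F2382) (tt N1358 (iv D3280)))
theorem Q2798 : ∀ i, i < 2798 → P i := stepQ 2797 Q2797 (allL N2797 (tt N2026 F2383) (tt N5142 D6010) (tt N1359 (iv D3281)) (tt N5143 D6011) (tt N5144 D6012))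
theorem Q2799 : ∀ i, i < 2799 → P i := stepQ 2798 Q2798 (allL N2798 (tt N5087 (iv F5174)) (tt N5138 (iv F5252)) (tt N5143 (iv F5262)) (tt N1359 (iv D3282)) (tt N5145 D6013))
theorem Q2800 : ∀ i, i < 2800 → P i := stepQ 2799 Q2799 (allL N2799 (tt N1360 (iv D3283)) (tt N5146 D6014) (tt N1372 F2384) (tt N5147 D6015) (tt N5148 D6016))
theorem Q2801 : ∀ i, i < 2801 → P i := stepQ 2800 Q2800 (allL N2800 (tt N2487 F2385) (tt N1360 (iv D3284)) (tt N5149 D6017) (tt N5150 D6018) (tt N3078 (iv F3087)))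
theorem Q2802 : ∀ i, i < 2802 → P i := stepQ 2801 Q2801 (allL N2801 (tt N5071 (iv F5146)) (tt N5150 (iv F5271)) (tt N1361 F2386) (tt N1360 (iv D3285)) (tt N5151 D6019))
theorem Q2803 : ∀ i, i < 2803 → P i := stepQ 2802 Q2802 (allL N2802 (tt N5148 (iv F5267)) (tt N3078 F3084) (tt N1379 F2387) (tt N1364 F3085) (tt N1360 (iv D3286)))
theorem Q2804 : ∀ i, i < 2804 → P i := stepQ 2803 Q2803 (allL N2803 (tt N5130 (iv F5236)) (tt N5135 (iv F5244)) (tt N1380 F3421) (tt N1366 F2388) (tt N1361 (iv D3287)))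
theorem Q2805 : ∀ i, i < 2805 → P i := stepQ 2804 Q2804 (allL N2804 (tt N2494 F2389) (tt N4489 (iv F4259)) (tt N1362 (iv D3288)) (tt N5152 D6020) (tt N2494 F2390))
theorem Q2806 : ∀ i, i < 2806 → P i := stepQ 2805 Q2805 (allL N2805 (tt N2500 F2392) (tt N1363 F2391) (tt N5152 (iv F5332)) (tt N1362 (iv D3289)) (tt N5153 D6021))
theorem Q2807 : ∀ i, i < 2807 → P i := stepQ 2806 Q2806 (allL N2806 (tt N1363 (iv D3290)) (tt N5154 D6022) (tt N2031 F2393) (tt N5155 D6023) (tt N5156 D6024))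
theorem Q2808 : ∀ i, i < 2808 → P i := stepQ 2807 Q2807 (allL N2807 (tt N5156 (iv F5337)) (tt N5153 (iv F5335)) (tt N1389 F3422) (tt N5151 (iv F5331)) (tt N1363 (iv D3291)))
theorem Q2809 : ∀ i, i < 2809 → P i := stepQ 2808 Q2808 (allL N2808 (tt N5157 D6025) (tt N1365 (iv D3293)) (tt N2510 F2395) (tt N5137 F5250) (tt N5158 D6026))
theorem Q2810 : ∀ i, i < 2810 → P i := stepQ 2809 Q2809 (allL N2809 (tt N2029 F2396) (tt N5159 D6027) (tt N1365 (iv D3294)) (tt N5141 (iv F5260)) (tt N5160 D6028))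
theorem Q2811 : ∀ i, i < 2811 → P i := stepQ 2810 Q2810 (allL N2810 (tt N1366 F2397) (tt N5158 (iv F5340)) (tt N5161 D6029) (tt N5145 (iv F5265)) (tt N1365 (iv D3295)))
theorem Q2812 : ∀ i, i < 2812 → P i := stepQ 2811 Q2811 (allL N2811 (tt N1535 F2398) (tt N4350 (iv F4098)) (tt N3668 (iv F3278)) (tt N5162 D6030) (tt N1367 (iv D3297)))
theorem Q2813 : ∀ i, i < 2813 → P i := stepQ 2812 Q2812 (allL N2812 (tt N1536 F2399) (tt N1373 F2400) (tt N5163 D6031) (tt N1390 (iv F2401)) (tt N1368 (iv D3298)))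
theorem Q2814 : ∀ i, i < 2814 → P i := stepQ 2813 Q2813 (allL N2813 (tt N1537 F2402) (tt N5164 D6032) (tt N1369 (iv D3299)) (tt N5165 D6033) (tt N3558 (iv F3156)))
theorem Q2815 : ∀ i, i < 2815 → P i := stepQ 2814 Q2814 (allL N2814 (tt N1538 F2404) (tt N1375 F2403) (tt N5165 (iv F5350)) (tt N1369 (iv D3300)) (tt N5166 D6034))
theorem Q2816 : ∀ i, i < 2816 → P i := stepQ 2815 Q2815 (allL N2815 (tt N2565 F2405) (tt N1372 F2406) (tt N4548 (iv F4334)) (tt N5167 D6035) (tt N1370 (iv D3301)))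
theorem Q2817 : ∀ i, i < 2817 → P i := stepQ 2816 Q2816 (allL N2816 (tt N5066 (iv F5139)) (tt N4345 (iv F4088)) (tt N5155 (iv F5336)) (tt N2031 F2407) (tt N1371 (iv D3302)))
theorem Q2818 : ∀ i, i < 2818 → P i := stepQ 2817 Q2817 (allL N2817 (tt N5068 (iv F5143)) (tt N5167 (iv F5357)) (tt N5147 (iv F5266)) (tt N1372 (iv D3303)) (tt N5168 D6036))
theorem Q2819 : ∀ i, i < 2819 → P i := stepQ 2818 Q2818 (allL N2818 (tt N5112 (iv F5208)) (tt N5169 D6037) (tt N1373 (iv D3304)) (tt N1391 F2408) (tt N5170 D6038))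
theorem Q2820 : ∀ i, i < 2820 → P i := stepQ 2819 Q2819 (allL N2819 (tt N1374 (iv D3305)) (tt N3251 (iv F2866)) (tt N2024 F2409) (tt N5101 (iv F5192)) (tt N5104 (iv F5198)))
theorem Q2821 : ∀ i, i < 2821 → P i := stepQ 2820 Q2820 (allL N2820 (tt N5171 D6039) (tt N1374 (iv D3306)) (tt N5172 D6040) (tt N5173 D6041) (tt N5174 D6042))
theorem Q2822 : ∀ i, i < 2822 → P i := stepQ 2821 Q2821 (allL N2821 (tt N5095 (iv F5186)) (tt N5173 (iv F5364)) (tt N1375 F2410) (tt N1374 (iv D3307)) (tt N5175 D6043))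
theorem Q2823 : ∀ i, i < 2823 → P i := stepQ 2822 Q2822 (allL N2822 (tt N5104 F5199) (tt N5174 (iv F5365)) (tt N5148 (iv F5268)) (tt N5170 (iv F5363)) (tt N1374 (iv D3308)))
theorem Q2824 : ∀ i, i < 2824 → P i := stepQ 2823 Q2823 (allL N2823 (tt N5093 (iv F5183)) (tt N5166 (iv F5355)) (tt N5168 F5361) (tt N1392 F2411) (tt N1375 (iv D3309)))
theorem Q2825 : ∀ i, i < 2825 → P i := stepQ 2824 Q2824 (allL N2824 (tt N5176 D6044) (tt N1376 (iv D3310)) (tt N4874 (iv F4800)) (tt N5177 D6045) (tt N5178 D6046))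
theorem Q2826 : ∀ i, i < 2826 → P i := stepQ 2825 Q2825 (allL N2825 (tt N5091 (iv F5180)) (tt N5177 (iv F5367)) (tt N5140 (iv F5259)) (tt N1376 (iv D3311)) (tt N5179 D6047))
theorem Q2827 : ∀ i, i < 2827 → P i := stepQ 2826 Q2826 (allL N2826 (tt N1379 F2412) (tt N5178 (iv F5368)) (tt N5144 (iv F5264)) (tt N5180 D6048) (tt N1376 (iv D3312)))
theorem Q2828 : ∀ i, i < 2828 → P i := stepQ 2827 Q2827 (allL N2827 (tt N1377 (iv D3313)) (tt N5181 D6049) (tt N1554 F2512) (tt N3199 (iv F2817)) (tt N4909 (iv F4888)))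
theorem Q2829 : ∀ i, i < 2829 → P i := stepQ 2828 Q2828 (allL N2828 (tt N4904 (iv F4876)) (tt N1414 F2413) (tt N1377 (iv D3314)) (tt N5182 D6050) (tt N4901 F4866))
theorem Q2830 : ∀ i, i < 2830 → P i := stepQ 2829 Q2829 (allL N2829 (tt N5183 D6051) (tt N1378 F2414) (tt N5182 (iv F5374)) (tt N1377 (iv D3315)) (tt N5184 D6052))
theorem Q2831 : ∀ i, i < 2831 → P i := stepQ 2830 Q2830 (allL N2830 (tt N4909 (iv F4887)) (tt N1379 F2415) (tt N4893 (iv F4821)) (tt N1387 F3083) (tt N1377 (iv D3316)))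
theorem Q2832 : ∀ i, i < 2832 → P i := stepQ 2831 Q2831 (allL N2831 (tt N1378 (iv D3317)) (tt N5185 D6053) (tt N5125 (iv F5228)) (tt N5089 (iv F5178)) (tt N5186 D6054))
theorem Q2833 : ∀ i, i < 2833 → P i := stepQ 2832 Q2832 (allL N2832 (tt N5186 (iv F5378)) (tt N5184 (iv F5376)) (tt N5151 (iv F5330)) (tt N1389 F3089) (tt N1378 (iv D3318)))
theorem Q2834 : ∀ i, i < 2834 → P i := stepQ 2833 Q2833 (allL N2833 (tt N1381 (iv D3321)) (tt N5187 D6055) (tt N2005 F2417) (tt N5188 D6056) (tt N5189 D6057))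
theorem Q2835 : ∀ i, i < 2835 → P i := stepQ 2834 Q2834 (allL N2834 (tt N5190 D6058) (tt N1382 F2418) (tt N4943 (iv F4941)) (tt N1381 (iv D3322)) (tt N5191 D6059))
theorem Q2836 : ∀ i, i < 2836 → P i := stepQ 2835 Q2835 (allL N2835 (tt N5189 (iv F5384)) (tt N1383 F2419) (tt N4368 (iv F4113)) (tt N5192 D6060) (tt N1381 (iv D3323)))
theorem Q2837 : ∀ i, i < 2837 → P i := stepQ 2836 Q2836 (allL N2836 (tt N5117 (iv F5214)) (tt N5191 (iv F5386)) (tt N5133 (iv F5243)) (tt N5186 (iv F5379)) (tt N1382 (iv D3324)))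
theorem Q2838 : ∀ i, i < 2838 → P i := stepQ 2837 Q2837 (allL N2837 (tt N5092 (iv F5182)) (tt N5192 (iv F5387)) (tt N5129 (iv F5234)) (tt N1383 (iv D3325)) (tt N5089 F5179))
theorem Q2839 : ∀ i, i < 2839 → P i := stepQ 2838 Q2838 (allL N2838 (tt N5187 (iv F5380)) (tt N1384 (iv D3326)) (tt N1565 F2421) (tt N5193 D6061) (tt N2068 F2420))
theorem Q2840 : ∀ i, i < 2840 → P i := stepQ 2839 Q2839 (allL N2839 (tt N3194 (iv F2815)) (tt N5193 (iv F5388)) (tt N1566 F2422) (tt N1384 (iv D3327)) (tt N4987 (iv F5004)))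
theorem Q2841 : ∀ i, i < 2841 → P i := stepQ 2840 Q2840 (allL N2840 (tt N5003 (iv F5041)) (tt N1423 F2423) (tt N1386 F2424) (tt N1385 (iv D3328)) (tt N5001 F5037))
theorem Q2842 : ∀ i, i < 2842 → P i := stepQ 2841 Q2841 (allL N2841 (tt N1386 (iv D3329)) (tt N5194 D6062) (tt N1569 F2425) (tt N3330 (iv F2949)) (tt N4994 (iv F5021)))
theorem Q2843 : ∀ i, i < 2843 → P i := stepQ 2842 Q2842 (allL N2842 (tt N4994 F5022) (tt N1389 F2426) (tt N4972 (iv F5023)) (tt N5184 (iv F5377)) (tt N1386 (iv D3330)))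
theorem Q2844 : ∀ i, i < 2844 → P i := stepQ 2843 Q2843 (allL N2843 (tt N5195 D6063) (tt N1388 (iv D3332)) (tt N5009 (iv F5056)) (tt N5196 D6064) (tt N5197 D6065))
theorem Q2845 : ∀ i, i < 2845 → P i := stepQ 2844 Q2844 (allL N2844 (tt N2025 F2428) (tt N3327 (iv F2947)) (tt N1388 (iv D3333)) (tt N5139 (iv F5256)) (tt N5161 (iv F5345)))
theorem Q2846 : ∀ i, i < 2846 → P i := stepQ 2845 Q2845 (allL N2845 (tt N5088 (iv F5176)) (tt N5196 (iv F5391)) (tt N5139 (iv F5255)) (tt N1388 (iv D3334)) (tt N5180 (iv F5370)))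
theorem Q2847 : ∀ i, i < 2847 → P i := stepQ 2846 Q2846 (allL N2846 (tt N1389 F2429) (tt N5197 (iv F5392)) (tt N5160 (iv F5343)) (tt N5179 (iv F5369)) (tt N1388 (iv D3335)))
theorem Q2848 : ∀ i, i < 2848 → P i := stepQ 2847 Q2847 (allL N2847 (tt N1390 (iv D3340)) (tt N1428 F2430) (tt N5198 D6066) (tt N3439 (iv F3060)) (tt N3798 (iv F3481)))
theorem Q2849 : ∀ i, i < 2849 → P i := stepQ 2848 Q2848 (allL N2848 (tt N1575 F2431) (tt N5199 D6067) (tt N1390 (iv D3341)) (tt N5163 (iv F5347)) (tt N3651 F3403))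
theorem Q2850 : ∀ i, i < 2850 → P i := stepQ 2849 Q2849 (allL N2849 (tt N3798 (iv F3480)) (tt N1392 F2432) (tt N5200 D6068) (tt N5166 (iv F5356)) (tt N1390 (iv D3342)))
theorem Q2851 : ∀ i, i < 2851 → P i := stepQ 2850 Q2850 (allL N2850 (tt N5201 D6069) (tt N1391 (iv D3343)) (tt N5202 D6070) (tt N5169 (iv F5362)) (tt N5203 D6071))
theorem Q2852 : ∀ i, i < 2852 → P i := stepQ 2851 Q2851 (allL N2851 (tt N5103 (iv F5195)) (tt N5203 (iv F5398)) (tt N5156 (iv F5338)) (tt N5175 (iv F5366)) (tt N1391 (iv D3344)))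
theorem Q2853 : ∀ i, i < 2853 → P i := stepQ 2852 Q2852 (allL N2852 (tt N2032 F3418) (tt N5204 D6072) (tt N1392 (iv D3345)) (tt N5168 (iv F5360)) (tt N2031 (iv F3419)))
theorem Q2854 : ∀ i, i < 2854 → P i := stepQ 2853 Q2853 (allL N2853 (tt N4398 (iv F4151)) (tt N3976 (iv F3701)) (tt N5205 D6073) (tt N5206 D6074) (tt N1393 (iv D3349)))
theorem Q2855 : ∀ i, i < 2855 → P i := stepQ 2854 Q2854 (allL N2854 (tt N1401 F2433) (tt N5207 D6075) (tt N1394 (iv D3350)) (tt N5208 D6076) (tt N5209 D6077))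
theorem Q2856 : ∀ i, i < 2856 → P i := stepQ 2855 Q2855 (allL N2855 (tt N5210 D6078) (tt N3978 (iv F3703)) (tt N5208 (iv F5402)) (tt N1394 (iv D3351)) (tt N5211 D6079))
theorem Q2857 : ∀ i, i < 2857 → P i := stepQ 2856 Q2856 (allL N2856 (tt N1404 F2434) (tt N2753 F2435) (tt N4388 (iv F4142)) (tt N1395 (iv D3352)) (tt N5212 D6080))
theorem Q2858 : ∀ i, i < 2858 → P i := stepQ 2857 Q2857 (allL N2857 (tt N1396 F2436) (tt N4144 (iv F3873)) (tt N4402 (iv F4155)) (tt N5213 D6081) (tt N1395 (iv D3353)))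
theorem Q2859 : ∀ i, i < 2859 → P i := stepQ 2858 Q2858 (allL N2858 (tt N4400 (iv F4153)) (tt N4199 F4154) (tt N1396 (iv D3354)) (tt N5214 D6082) (tt N5215 D6083))
theorem Q2860 : ∀ i, i < 2860 → P i := stepQ 2859 Q2859 (allL N2859 (tt N1407 F2437) (tt N3812 (iv F3491)) (tt N5214 (iv F5409)) (tt N1396 (iv D3355)) (tt N5216 D6084))
theorem Q2861 : ∀ i, i < 2861 → P i := stepQ 2860 Q2860 (allL N2860 (tt N4411 (iv F4166)) (tt N4227 (iv F3947)) (tt N1398 F2438) (tt N1397 (iv D3356)) (tt N5217 D6085))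
theorem Q2862 : ∀ i, i < 2862 → P i := stepQ 2861 Q2861 (allL N2861 (tt N3676 (iv F3291)) (tt N4228 (iv F3950)) (tt N5209 (iv F5404)) (tt N5215 (iv F7002)) (tt N1397 (iv D3357)))
theorem Q2863 : ∀ i, i < 2863 → P i := stepQ 2862 Q2862 (allL N2862 (tt N1398 (iv D3358)) (tt N4268 (iv F4000)) (tt N4408 (iv F4164)) (tt N5212 (iv F5407)) (tt N5218 D6087))
theorem Q2864 : ∀ i, i < 2864 → P i := stepQ 2863 Q2863 (allL N2863 (tt N5218 (iv F5412)) (tt N3813 (iv F3494)) (tt N5211 (iv F8787)) (tt N5216 (iv F5411)) (tt N1398 (iv D3359)))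
theorem Q2865 : ∀ i, i < 2865 → P i := stepQ 2864 Q2864 (allL N2864 (tt N4550 (iv F4338)) (tt N1399 (iv D3360)) (tt N3054 (iv F2643)) (tt N5219 D6089) (tt N5220 D6090))
theorem Q2866 : ∀ i, i < 2866 → P i := stepQ 2865 Q2865 (allL N2865 (tt N4388 (iv F4141)) (tt N5219 (iv F5413)) (tt N3382 (iv F3004)) (tt N1399 (iv D3361)) (tt N5221 D6091))
theorem Q2867 : ∀ i, i < 2867 → P i := stepQ 2866 Q2866 (allL N2866 (tt N1400 F2439) (tt N5220 (iv F5415)) (tt N5222 D6092) (tt N5223 D6093) (tt N1399 (iv D3362)))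
theorem Q2868 : ∀ i, i < 2868 → P i := stepQ 2867 Q2867 (allL N2867 (tt N5224 D6094) (tt N5225 D6095) (tt N1400 (iv D3363)) (tt N5226 D6096) (tt N5227 D6097))
theorem Q2869 : ∀ i, i < 2869 → P i := stepQ 2868 Q2868 (allL N2868 (tt N4391 (iv F4144)) (tt N4448 (iv F4208)) (tt N5226 (iv F5418)) (tt N1400 (iv D3364)) (tt N5228 D6098))
theorem Q2870 : ∀ i, i < 2870 → P i := stepQ 2869 Q2869 (allL N2869 (tt N3077 (iv F2669)) (tt N1401 (iv D3365)) (tt N2496 (iv F2670)) (tt N5229 D6099) (tt N3077 F2671))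
theorem Q2871 : ∀ i, i < 2871 → P i := stepQ 2870 Q2870 (allL N2870 (tt N5230 D6100) (tt N5229 (iv F5423)) (tt N1402 F2440) (tt N1401 (iv D3366)) (tt N5231 D6101))
theorem Q2872 : ∀ i, i < 2872 → P i := stepQ 2871 Q2871 (allL N2871 (tt N5209 (iv F5403)) (tt N3077 (iv F2668)) (tt N1409 F2441) (tt N5227 F5420) (tt N1401 (iv D3367)))
theorem Q2873 : ∀ i, i < 2873 → P i := stepQ 2872 Q2872 (allL N2872 (tt N1402 (iv D3368)) (tt N5232 D6102) (tt N5233 D6103) (tt N5221 (iv F5416)) (tt N5234 D6104))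
theorem Q2874 : ∀ i, i < 2874 → P i := stepQ 2873 Q2873 (allL N2873 (tt N5234 (iv F5426)) (tt N4451 (iv F4215)) (tt N1411 F5309) (tt N5228 (iv F5421)) (tt N1402 (iv D3369)))
theorem Q2875 : ∀ i, i < 2875 → P i := stepQ 2874 Q2874 (allL N2874 (tt N2568 F2442) (tt N1403 (iv D3370)) (tt N4512 (iv F4294)) (tt N5235 D6105) (tt N5236 D6106))
theorem Q2876 : ∀ i, i < 2876 → P i := stepQ 2875 Q2875 (allL N2875 (tt N4397 (iv F4149)) (tt N5235 (iv F5428)) (tt N1404 F2443) (tt N1403 (iv D3371)) (tt N5237 D6107))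
theorem Q2877 : ∀ i, i < 2877 → P i := stepQ 2876 Q2876 (allL N2876 (tt N2941 (iv F2505)) (tt N5236 (iv F5431)) (tt N5224 (iv F5417)) (tt N5238 D6108) (tt N1403 (iv D3372)))
theorem Q2878 : ∀ i, i < 2878 → P i := stepQ 2877 Q2877 (allL N2877 (tt N5212 (iv F5405)) (tt N4749 (iv F4608)) (tt N5239 D6109) (tt N1410 F2444) (tt N1404 (iv D3373)))
theorem Q2879 : ∀ i, i < 2879 → P i := stepQ 2878 Q2878 (allL N2878 (tt N3563 (iv F3170)) (tt N5240 D6110) (tt N1405 (iv D3374)) (tt N5241 D6111) (tt N5242 D6112))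
theorem Q2880 : ∀ i, i < 2880 → P i := stepQ 2879 Q2879 (allL N2879 (tt N5213 (iv F5408)) (tt N4750 (iv F4611)) (tt N5241 (iv F5434)) (tt N1405 (iv D3375)) (tt N5243 D6113))
theorem Q2881 : ∀ i, i < 2881 → P i := stepQ 2880 Q2880 (allL N2880 (tt N1406 (iv D3376)) (tt N5244 D6114) (tt N3383 (iv F3007)) (tt N5245 D6115) (tt N5246 D6116))
theorem Q2882 : ∀ i, i < 2882 → P i := stepQ 2881 Q2881 (allL N2881 (tt N4404 (iv F4158)) (tt N4892 (iv F4816)) (tt N1407 F2445) (tt N1406 (iv D3378)) (tt N5247 D6117))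
theorem Q2883 : ∀ i, i < 2883 → P i := stepQ 2882 Q2882 (allL N2882 (tt N5246 (iv F5436)) (tt N4893 (iv F4820)) (tt N5227 (iv F5419)) (tt N1409 F4823) (tt N1406 (iv D3379)))
theorem Q2884 : ∀ i, i < 2884 → P i := stepQ 2883 Q2883 (allL N2883 (tt N5216 (iv F5410)) (tt N1412 F2446) (tt N5228 F5422) (tt N1411 F2447) (tt N1407 (iv D3380)))
theorem Q2885 : ∀ i, i < 2885 → P i := stepQ 2884 Q2884 (allL N2884 (tt N1408 (iv D3381)) (tt N5248 D6118) (tt N3775 F3463) (tt N5249 D6119) (tt N5250 D6120))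
theorem Q2886 : ∀ i, i < 2886 → P i := stepQ 2885 Q2885 (allL N2885 (tt N5250 (iv F5438)) (tt N4972 (iv F4982)) (tt N5231 (iv F5425)) (tt N5247 (iv F5437)) (tt N1408 (iv D3382)))
theorem Q2887 : ∀ i, i < 2887 → P i := stepQ 2886 Q2886 (allL N2886 (tt N3675 (iv F3289)) (tt N5251 D6121) (tt N1410 (iv D3384)) (tt N5239 (iv F5432)) (tt N5252 D6122))
theorem Q2888 : ∀ i, i < 2888 → P i := stepQ 2887 Q2887 (allL N2887 (tt N1411 F2448) (tt N5028 (iv F5083)) (tt N5253 D6123) (tt N5243 (iv F5435)) (tt N1410 (iv D3385)))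
theorem Q2889 : ∀ i, i < 2889 → P i := stepQ 2888 Q2888 (allL N2888 (tt N3228 (iv F2842)) (tt N1413 (iv D3387)) (tt N2557 F2449) (tt N5254 D6124) (tt N2536 (iv F2450)))
theorem Q2890 : ∀ i, i < 2890 → P i := stepQ 2889 Q2889 (allL N2889 (tt N3111 (iv F2702)) (tt N5255 D6125) (tt N1413 (iv D3388)) (tt N5256 D6126) (tt N5257 D6127))
theorem Q2891 : ∀ i, i < 2891 → P i := stepQ 2890 Q2890 (allL N2890 (tt N5258 D6128) (tt N5254 (iv F5440)) (tt N5256 (iv F5444)) (tt N1413 (iv D3389)) (tt N5259 D6129))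
theorem Q2892 : ∀ i, i < 2892 → P i := stepQ 2891 Q2891 (allL N2891 (tt N1416 F2451) (tt N2536 F2452) (tt N5260 D6130) (tt N5261 D6131) (tt N1413 (iv D3390)))
theorem Q2893 : ∀ i, i < 2893 → P i := stepQ 2892 Q2892 (allL N2892 (tt N1414 (iv D3391)) (tt N5262 D6132) (tt N5263 D6133) (tt N5264 D6134) (tt N5265 D6135))
theorem Q2894 : ∀ i, i < 2894 → P i := stepQ 2893 Q2893 (allL N2893 (tt N5266 D6136) (tt N5182 (iv F5373)) (tt N1415 F2453) (tt N1414 (iv D3392)) (tt N5267 D6137))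
theorem Q2895 : ∀ i, i < 2895 → P i := stepQ 2894 Q2894 (allL N2894 (tt N5265 (iv F5451)) (tt N4901 F4870) (tt N5268 D6138) (tt N1424 F4871) (tt N1414 (iv D3393)))
theorem Q2896 : ∀ i, i < 2896 → P i := stepQ 2895 Q2895 (allL N2895 (tt N1415 (iv D3394)) (tt N5269 D6139) (tt N5270 D6140) (tt N5271 D6141) (tt N5272 D6142))
theorem Q2897 : ∀ i, i < 2897 → P i := stepQ 2896 Q2896 (allL N2896 (tt N5272 (iv F5463)) (tt N1417 F2454) (tt N5273 D6143) (tt N1426 F2455) (tt N1415 (iv D3395)))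
theorem Q2898 : ∀ i, i < 2898 → P i := stepQ 2897 Q2897 (allL N2897 (tt N5274 D6144) (tt N4492 (iv F4263)) (tt N1416 (iv D3396)) (tt N1427 F2456) (tt N4559 (iv F4450)))
theorem Q2899 : ∀ i, i < 2899 → P i := stepQ 2898 Q2898 (allL N2898 (tt N3864 (iv F3556)) (tt N1420 F2461) (tt N2007 F2462) (tt N1418 (iv D3400)) (tt N1935 (iv F2463)))
theorem Q2900 : ∀ i, i < 2900 → P i := stepQ 2899 Q2899 (allL N2899 (tt N2062 F2464) (tt N1419 (iv D3401)) (tt N5187 (iv F5381)) (tt N5275 D6145) (tt N2059 (iv F2465)))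
theorem Q2901 : ∀ i, i < 2901 → P i := stepQ 2900 Q2900 (allL N2900 (tt N5276 D6146) (tt N5275 (iv F5467)) (tt N1420 F2466) (tt N1419 (iv D3402)) (tt N5277 D6147))
theorem Q2902 : ∀ i, i < 2902 → P i := stepQ 2901 Q2901 (allL N2901 (tt N2316 (iv F2468)) (tt N2059 F2467) (tt N5278 D6148) (tt N5279 D6149) (tt N1419 (iv D3403)))
theorem Q2903 : ∀ i, i < 2903 → P i := stepQ 2902 Q2902 (allL N2902 (tt N1420 (iv D3404)) (tt N4145 (iv F3875)) (tt N5280 D6150) (tt N5281 D6151) (tt N5282 D6152))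
theorem Q2904 : ∀ i, i < 2904 → P i := stepQ 2903 Q2903 (allL N2903 (tt N5282 (iv F5474)) (tt N1935 F2472) (tt N5283 D6153) (tt N5272 (iv F5465)) (tt N1420 (iv D3405)))
theorem Q2905 : ∀ i, i < 2905 → P i := stepQ 2904 Q2904 (allL N2904 (tt N3702 (iv F3319)) (tt N5284 D6154) (tt N1421 (iv D3406)) (tt N5285 D6155) (tt N3963 (iv F3682)))
theorem Q2906 : ∀ i, i < 2906 → P i := stepQ 2905 Q2905 (allL N2905 (tt N5286 D6156) (tt N1937 F2473) (tt N5285 (iv F5478)) (tt N1421 (iv D3407)) (tt N5271 (iv F5462)))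
theorem Q2907 : ∀ i, i < 2907 → P i := stepQ 2906 Q2906 (allL N2906 (tt N2935 (iv F2499)) (tt N1422 (iv D3408)) (tt N2651 F2475) (tt N5287 D6157) (tt N2287 F2474))
theorem Q2908 : ∀ i, i < 2908 → P i := stepQ 2907 Q2907 (allL N2907 (tt N3011 (iv F2588)) (tt N1652 F2476) (tt N1422 (iv D3409)) (tt N5288 D6158) (tt N5289 D6159))
theorem Q2909 : ∀ i, i < 2909 → P i := stepQ 2908 Q2908 (allL N2908 (tt N5280 (iv F5471)) (tt N5287 (iv F5479)) (tt N5288 (iv F5482)) (tt N1422 (iv D3410)) (tt N2312 (iv F7791)))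
theorem Q2910 : ∀ i, i < 2910 → P i := stepQ 2909 Q2909 (allL N2909 (tt N1423 (iv D3411)) (tt N5290 D6161) (tt N5291 D6162) (tt N5292 D6163) (tt N5293 D6164))
theorem Q2911 : ∀ i, i < 2911 → P i := stepQ 2910 Q2910 (allL N2910 (tt N5293 (iv F5485)) (tt N5001 (iv F5038)) (tt N5294 D6165) (tt N5267 (iv F5454)) (tt N1423 (iv D3412)))
theorem Q2912 : ∀ i, i < 2912 → P i := stepQ 2911 Q2911 (allL N2911 (tt N5278 (iv F5468)) (tt N2494 F2477) (tt N1424 (iv D3413)) (tt N5268 (iv F5456)) (tt N4489 (iv F4260)))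
theorem Q2913 : ∀ i, i < 2913 → P i := stepQ 2912 Q2912 (allL N2912 (tt N3336 (iv F2953)) (tt N1425 (iv D3415)) (tt N2716 (iv F3400)) (tt N5295 D6166) (tt N5296 D6167))
theorem Q2914 : ∀ i, i < 2914 → P i := stepQ 2913 Q2913 (allL N2913 (tt N3012 (iv F2590)) (tt N5297 D6168) (tt N1425 (iv D3416)) (tt N5298 D6169) (tt N5299 D6170))
theorem Q2915 : ∀ i, i < 2915 → P i := stepQ 2914 Q2914 (allL N2914 (tt N5281 (iv F5472)) (tt N5295 (iv F5486)) (tt N5298 (iv F5493)) (tt N1425 (iv D3417)) (tt N5261 (iv F5450)))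
theorem Q2916 : ∀ i, i < 2916 → P i := stepQ 2915 Q2915 (allL N2915 (tt N1426 F2478) (tt N5296 (iv F5490)) (tt N5300 D6171) (tt N5259 (iv F5448)) (tt N1425 (iv D3418)))
theorem Q2917 : ∀ i, i < 2917 → P i := stepQ 2916 Q2916 (allL N2916 (tt N5301 D6172) (tt N4491 (iv F5306)) (tt N1426 (iv D3419)) (tt N5273 (iv F5466)) (tt N4490 F5313))
theorem Q2918 : ∀ i, i < 2918 → P i := stepQ 2917 Q2917 (allL N2917 (tt N1427 (iv D3420)) (tt N2257 F2480) (tt N5289 (iv F5484)) (tt N5302 D6173) (tt N2321 F2479))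
theorem Q2919 : ∀ i, i < 2919 → P i := stepQ 2918 Q2918 (allL N2918 (tt N5303 D6174) (tt N5304 D6175) (tt N1428 (iv D3423)) (tt N3453 (iv F3076)) (tt N5305 D6176))
theorem Q2920 : ∀ i, i < 2920 → P i := stepQ 2919 Q2919 (allL N2919 (tt N1429 (iv D3425)) (tt N5306 D6177) (tt N3147 (iv F2736)) (tt N5307 D6178) (tt N5308 D6179))
theorem Q2921 : ∀ i, i < 2921 → P i := stepQ 2920 Q2920 (allL N2920 (tt N3142 (iv F2731)) (tt N1429 (iv D3426)) (tt N3317 (iv F2939)) (tt N3136 (iv F2726)) (tt N3779 F4566))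
theorem Q2922 : ∀ i, i < 2922 → P i := stepQ 2921 Q2921 (allL N2921 (tt N5308 (iv F5496)) (tt N3779 (iv F4565)) (tt N4696 (iv F4564)) (tt N3489 (iv F4995)) (tt N1429 (iv D3427)))
theorem Q2923 : ∀ i, i < 2923 → P i := stepQ 2922 Q2922 (allL N2922 (tt N3475 (iv F3096)) (tt N3852 (iv F3535)) (tt N1434 F2485) (tt N1430 (iv D3433)) (tt N5309 D6180))
theorem Q2924 : ∀ i, i < 2924 → P i := stepQ 2923 Q2923 (allL N2923 (tt N1431 F2486) (tt N4631 (iv F4501)) (tt N3673 (iv F3285)) (tt N5310 D6181) (tt N1430 (iv D3434)))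
theorem Q2925 : ∀ i, i < 2925 → P i := stepQ 2924 Q2924 (allL N2924 (tt N5050 (iv F5116)) (tt N3823 (iv F3507)) (tt N3601 F3211) (tt N1431 (iv D3435)) (tt N5311 D6182))
theorem Q2926 : ∀ i, i < 2926 → P i := stepQ 2925 Q2925 (allL N2925 (tt N1432 (iv D3436)) (tt N5312 D6183) (tt N3674 (iv F3286)) (tt N5309 (iv F5497)) (tt N5313 D6184))
theorem Q2927 : ∀ i, i < 2927 → P i := stepQ 2926 Q2926 (allL N2926 (tt N5313 (iv F5501)) (tt N3826 (iv F3511)) (tt N1441 F3410) (tt N5311 (iv F5499)) (tt N1432 (iv D3437)))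
theorem Q2928 : ∀ i, i < 2928 → P i := stepQ 2927 Q2927 (allL N2927 (tt N1433 (iv D3438)) (tt N1468 F2487) (tt N5314 D6185) (tt N1583 F2488) (tt N5315 D6186))
theorem Q2929 : ∀ i, i < 2929 → P i := stepQ 2928 Q2928 (allL N2928 (tt N5315 (iv F5505)) (tt N1435 F2489) (tt N5316 D6187) (tt N1606 F2490) (tt N1433 (iv D3439)))
theorem Q2930 : ∀ i, i < 2930 → P i := stepQ 2929 Q2929 (allL N2929 (tt N3476 (iv F3097)) (tt N1600 F2491) (tt N5317 D6188) (tt N1440 F2492) (tt N1434 (iv D3440)))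
theorem Q2931 : ∀ i, i < 2931 → P i := stepQ 2930 Q2930 (allL N2930 (tt N1436 F2493) (tt N5318 D6189) (tt N1435 (iv D3441)) (tt N5319 D6190) (tt N3670 (iv F3282)))
theorem Q2932 : ∀ i, i < 2932 → P i := stepQ 2931 Q2931 (allL N2931 (tt N3490 (iv F3106)) (tt N1606 F2494) (tt N5319 (iv F5511)) (tt N1435 (iv D3442)) (tt N5320 D6191))
theorem Q2933 : ∀ i, i < 2933 → P i := stepQ 2932 Q2932 (allL N2932 (tt N4775 (iv F4657)) (tt N1436 (iv D3443)) (tt N5321 D6192) (tt N5322 D6193) (tt N2009 F2495))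
theorem Q2934 : ∀ i, i < 2934 → P i := stepQ 2933 Q2933 (allL N2933 (tt N5054 (iv F5120)) (tt N5322 (iv F5516)) (tt N1437 F2496) (tt N1436 (iv D3444)) (tt N3599 F3415))
theorem Q2935 : ∀ i, i < 2935 → P i := stepQ 2934 Q2934 (allL N2934 (tt N5055 (iv F5121)) (tt N1480 F2497) (tt N5311 (iv F5498)) (tt N1441 F2498) (tt N1437 (iv D3445)))
theorem Q2936 : ∀ i, i < 2936 → P i := stepQ 2935 Q2935 (allL N2935 (tt N2906 F2499) (tt N1485 F2500) (tt N1438 (iv D3446)) (tt N5323 D6194) (tt N4372 (iv F4117)))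
theorem Q2937 : ∀ i, i < 2937 → P i := stepQ 2936 Q2936 (allL N2936 (tt N4786 (iv F4678)) (tt N1439 F2501) (tt N5323 (iv F5519)) (tt N1438 (iv D3447)) (tt N4785 (iv F4677)))
theorem Q2938 : ∀ i, i < 2938 → P i := stepQ 2937 Q2937 (allL N2937 (tt N1439 (iv D3448)) (tt N5324 D6195) (tt N1440 F2502) (tt N5317 (iv F5509)) (tt N5325 D6196))
theorem Q2939 : ∀ i, i < 2939 → P i := stepQ 2938 Q2938 (allL N2938 (tt N5325 (iv F5520)) (tt N4785 (iv F4676)) (tt N3600 F3413) (tt N3599 (iv F3414)) (tt N1439 (iv D3449)))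
theorem Q2940 : ∀ i, i < 2940 → P i := stepQ 2939 Q2939 (allL N2939 (tt N5326 D6197) (tt N1440 (iv D3450)) (tt N5327 D6198) (tt N1600 F2503) (tt N5328 D6199))
theorem Q2941 : ∀ i, i < 2941 → P i := stepQ 2940 Q2940 (allL N2940 (tt N1441 F2504) (tt N5328 (iv F5526)) (tt N5313 (iv F5502)) (tt N5320 (iv F5513)) (tt N1440 (iv D3451)))
theorem Q2942 : ∀ i, i < 2942 → P i := stepQ 2941 Q2941 (allL N2941 (tt N2876 F2505) (tt N1446 F2506) (tt N5329 D6200) (tt N5330 D6201) (tt N1442 (iv D3453)))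
theorem Q2943 : ∀ i, i < 2943 → P i := stepQ 2942 Q2942 (allL N2942 (tt N2297 F2507) (tt N5331 D6202) (tt N1443 (iv D3454)) (tt N5332 D6203) (tt N5333 D6204))
theorem Q2944 : ∀ i, i < 2944 → P i := stepQ 2943 Q2943 (allL N2943 (tt N5334 D6205) (tt N1448 F2508) (tt N5332 (iv F5532)) (tt N1443 (iv D3455)) (tt N5335 D6206))
theorem Q2945 : ∀ i, i < 2945 → P i := stepQ 2944 Q2944 (allL N2944 (tt N1514 F2509) (tt N2024 F2510) (tt N1546 F2511) (tt N5336 D6207) (tt N1444 (iv D3456)))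
theorem Q2946 : ∀ i, i < 2946 → P i := stepQ 2945 Q2945 (allL N2945 (tt N1571 F2515) (tt N2025 F2513) (tt N1482 F2514) (tt N1445 (iv D3457)) (tt N5337 D6208))
theorem Q2947 : ∀ i, i < 2947 → P i := stepQ 2946 Q2946 (allL N2946 (tt N1516 F2516) (tt N5338 D6209) (tt N1446 (iv D3458)) (tt N5339 D6210) (tt N5340 D6211))
theorem Q2948 : ∀ i, i < 2948 → P i := stepQ 2947 Q2947 (allL N2947 (tt N1462 F2517) (tt N5330 (iv F5529)) (tt N5339 (iv F5548)) (tt N1446 (iv D3459)) (tt N5341 D6212))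
theorem Q2949 : ∀ i, i < 2949 → P i := stepQ 2948 Q2948 (allL N2948 (tt N5132 (iv F5240)) (tt N1447 (iv D3460)) (tt N5342 D6213) (tt N5343 D6214) (tt N2197 (iv F2518)))
theorem Q2950 : ∀ i, i < 2950 → P i := stepQ 2949 Q2949 (allL N2949 (tt N1529 F2520) (tt N5343 (iv F5560)) (tt N1448 F2519) (tt N1447 (iv D3461)) (tt N5344 D6215))
theorem Q2951 : ∀ i, i < 2951 → P i := stepQ 2950 Q2950 (allL N2950 (tt N1505 F2521) (tt N2197 F2522) (tt N1483 F2523) (tt N5340 (iv F5552)) (tt N1447 (iv D3462)))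
theorem Q2952 : ∀ i, i < 2952 → P i := stepQ 2951 Q2951 (allL N2951 (tt N1448 (iv D3463)) (tt N5345 D6216) (tt N1526 F2524) (tt N1543 F2525) (tt N1579 F5323))
theorem Q2953 : ∀ i, i < 2953 → P i := stepQ 2952 Q2952 (allL N2952 (tt N1579 F5326) (tt N5335 (iv F5540)) (tt N5337 (iv F5547)) (tt N5341 (iv F5557)) (tt N1448 (iv D3464)))
theorem Q2954 : ∀ i, i < 2954 → P i := stepQ 2953 Q2953 (allL N2953 (tt N1449 (iv D3465)) (tt N1751 F2527) (tt N2336 F2526) (tt N5346 D6217) (tt N5347 D6218))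
theorem Q2955 : ∀ i, i < 2955 → P i := stepQ 2954 Q2954 (allL N2954 (tt N5347 (iv F5568)) (tt N2052 F2528) (tt N5348 D6219) (tt N5349 D6220) (tt N1449 (iv D3466)))
theorem Q2956 : ∀ i, i < 2956 → P i := stepQ 2955 Q2955 (allL N2955 (tt N1856 F2529) (tt N2202 (iv F2531)) (tt N1450 (iv D3467)) (tt N5350 D6221) (tt N1853 F2530))
theorem Q2957 : ∀ i, i < 2957 → P i := stepQ 2956 Q2956 (allL N2956 (tt N5351 D6222) (tt N2054 F2532) (tt N5350 (iv F5573)) (tt N1450 (iv D3468)) (tt N5352 D6223))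
theorem Q2958 : ∀ i, i < 2958 → P i := stepQ 2957 Q2957 (allL N2957 (tt N1451 (iv D3469)) (tt N4163 (iv F3895)) (tt N2957 F2533) (tt N5353 D6224) (tt N5354 D6225))
theorem Q2959 : ∀ i, i < 2959 → P i := stepQ 2958 Q2958 (allL N2958 (tt N5354 (iv F5577)) (tt N3819 (iv F3504)) (tt N3683 F3807) (tt N5355 D6226) (tt N1451 (iv D3470)))
theorem Q2960 : ∀ i, i < 2960 → P i := stepQ 2959 Q2959 (allL N2959 (tt N5356 D6227) (tt N3821 (iv F3506)) (tt N3684 (iv F3306)) (tt N1452 (iv D3471)) (tt N5357 D6228))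
theorem Q2961 : ∀ i, i < 2961 → P i := stepQ 2960 Q2960 (allL N2960 (tt N5346 (iv F5565)) (tt N4817 (iv F4717)) (tt N2960 F2534) (tt N1453 (iv D3472)) (tt N5358 D6229))
theorem Q2962 : ∀ i, i < 2962 → P i := stepQ 2961 Q2961 (allL N2961 (tt N1454 F2535) (tt N4818 (iv F4719)) (tt N5359 D6230) (tt N5360 D6231) (tt N1453 (iv D3473)))
theorem Q2963 : ∀ i, i < 2963 → P i := stepQ 2962 Q2962 (allL N2962 (tt N5361 D6232) (tt N5362 D6233) (tt N1454 (iv D3474)) (tt N5363 D6234) (tt N3681 F3808))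
theorem Q2964 : ∀ i, i < 2964 → P i := stepQ 2963 Q2963 (allL N2963 (tt N5349 (iv F5571)) (tt N1462 F2536) (tt N5363 (iv F5584)) (tt N1454 (iv D3475)) (tt N5364 D6235))
theorem Q2965 : ∀ i, i < 2965 → P i := stepQ 2964 Q2964 (allL N2964 (tt N4376 (iv F4123)) (tt N1455 (iv D3476)) (tt N5365 D6236) (tt N5366 D6237) (tt N2008 F2537))
theorem Q2966 : ∀ i, i < 2966 → P i := stepQ 2965 Q2965 (allL N2965 (tt N5367 D6238) (tt N5366 (iv F5590)) (tt N1456 F2538) (tt N1455 (iv D3477)) (tt N5368 D6239))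
theorem Q2967 : ∀ i, i < 2967 → P i := stepQ 2966 Q2966 (allL N2966 (tt N1456 (iv D3478)) (tt N5369 D6240) (tt N5370 D6241) (tt N5358 (iv F5579)) (tt N5371 D6242))
theorem Q2968 : ∀ i, i < 2968 → P i := stepQ 2967 Q2967 (allL N2967 (tt N5371 (iv F5593)) (tt N1467 F2539) (tt N5357 (iv F5636)) (tt N5364 (iv F5586)) (tt N1456 (iv D3479)))
theorem Q2969 : ∀ i, i < 2969 → P i := stepQ 2968 Q2968 (allL N2968 (tt N1457 (iv D3480)) (tt N4794 (iv F4694)) (tt N1610 (iv F2541)) (tt N1609 F2540) (tt N5372 D6244))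
theorem Q2970 : ∀ i, i < 2970 → P i := stepQ 2969 Q2969 (allL N2969 (tt N5372 (iv F5594)) (tt N1460 F2542) (tt N5373 D6245) (tt N5374 D6246) (tt N1457 (iv D3481)))
theorem Q2971 : ∀ i, i < 2971 → P i := stepQ 2970 Q2970 (allL N2970 (tt N1499 F2543) (tt N4067 (iv F3779)) (tt N1476 F2544) (tt N5375 D6247) (tt N1458 (iv D3482)))
theorem Q2972 : ∀ i, i < 2972 → P i := stepQ 2971 Q2971 (allL N2971 (tt N1543 F2545) (tt N4080 (iv F3799)) (tt N5376 D6248) (tt N1466 F2546) (tt N1459 (iv D3483)))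
theorem Q2973 : ∀ i, i < 2973 → P i := stepQ 2972 Q2972 (allL N2972 (tt N1501 F2547) (tt N5377 D6249) (tt N1460 (iv D3484)) (tt N5378 D6250) (tt N5379 D6251))
theorem Q2974 : ∀ i, i < 2974 → P i := stepQ 2973 Q2973 (allL N2973 (tt N1544 F2548) (tt N5374 (iv F5595)) (tt N5378 (iv F5601)) (tt N1460 (iv D3485)) (tt N5380 D6252))
theorem Q2975 : ∀ i, i < 2975 → P i := stepQ 2974 Q2974 (allL N2974 (tt N1461 (iv D3486)) (tt N5381 D6253) (tt N1472 F2549) (tt N5382 D6254) (tt N5383 D6255))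
theorem Q2976 : ∀ i, i < 2976 → P i := stepQ 2975 Q2975 (allL N2975 (tt N5384 D6256) (tt N1461 (iv D3487)) (tt N5385 D6257) (tt N5386 D6258) (tt N5387 D6259))
theorem Q2977 : ∀ i, i < 2977 → P i := stepQ 2976 Q2976 (allL N2976 (tt N1520 F2551) (tt N5386 (iv F5610)) (tt N1462 F2550) (tt N1461 (iv D3488)) (tt N5388 D6260))
theorem Q2978 : ∀ i, i < 2978 → P i := stepQ 2977 Q2977 (allL N2977 (tt N5383 (iv F5608)) (tt N5387 (iv F5611)) (tt N1479 F2552) (tt N1465 F2798) (tt N1461 (iv D3489)))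
theorem Q2979 : ∀ i, i < 2979 → P i := stepQ 2978 Q2978 (allL N2978 (tt N5341 (iv F5556)) (tt N5364 (iv F5585)) (tt N1480 F5316) (tt N1467 F2553) (tt N1462 (iv D3490)))
theorem Q2980 : ∀ i, i < 2980 → P i := stepQ 2979 Q2979 (allL N2979 (tt N1463 (iv D3491)) (tt N2750 F2554) (tt N4309 (iv F4039)) (tt N5389 D6261) (tt N2748 F2555))
theorem Q2981 : ∀ i, i < 2981 → P i := stepQ 2980 Q2980 (allL N2980 (tt N5390 D6262) (tt N5365 (iv F5588)) (tt N1463 (iv D3492)) (tt N5391 D6263) (tt N5392 D6264))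
theorem Q2982 : ∀ i, i < 2982 → P i := stepQ 2981 Q2981 (allL N2981 (tt N5393 D6265) (tt N1464 F2556) (tt N5391 (iv F5620)) (tt N1463 (iv D3493)) (tt N5394 D6266))
theorem Q2983 : ∀ i, i < 2983 → P i := stepQ 2982 Q2982 (allL N2982 (tt N2748 F2557) (tt N1465 F2558) (tt N4306 (iv F4035)) (tt N5387 F5612) (tt N1463 (iv D3494)))
theorem Q2984 : ∀ i, i < 2984 → P i := stepQ 2983 Q2983 (allL N2983 (tt N1464 (iv D3495)) (tt N5395 D6267) (tt N1506 F2559) (tt N5396 D6268) (tt N5397 D6269))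
theorem Q2985 : ∀ i, i < 2985 → P i := stepQ 2984 Q2984 (allL N2984 (tt N5397 (iv F5627)) (tt N5394 (iv F5624)) (tt N1489 F5319) (tt N5388 (iv F5615)) (tt N1464 (iv D3496)))
theorem Q2986 : ∀ i, i < 2986 → P i := stepQ 2985 Q2985 (allL N2985 (tt N5398 D6270) (tt N1466 (iv D3498)) (tt N5399 D6271) (tt N4080 F3800) (tt N5400 D6272))
theorem Q2987 : ∀ i, i < 2987 → P i := stepQ 2986 Q2986 (allL N2986 (tt N1504 F2561) (tt N5401 D6273) (tt N1466 (iv D3499)) (tt N5376 (iv F5598)) (tt N5402 D6274))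
theorem Q2988 : ∀ i, i < 2988 → P i := stepQ 2987 Q2987 (allL N2987 (tt N1467 F2562) (tt N5400 (iv F5630)) (tt N5403 D6275) (tt N5380 (iv F5605)) (tt N1466 (iv D3500)))
theorem Q2989 : ∀ i, i < 2989 → P i := stepQ 2988 Q2988 (allL N2988 (tt N2988 F2563) (tt N3209 (iv F2827)) (tt N1468 (iv D3502)) (tt N4134 (iv F3856)) (tt N5404 D6276))
theorem Q2990 : ∀ i, i < 2990 → P i := stepQ 2989 Q2989 (allL N2989 (tt N1469 F2564) (tt N5315 (iv F5506)) (tt N5405 D6277) (tt N5406 D6278) (tt N1468 (iv D3503)))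
theorem Q2991 : ∀ i, i < 2991 → P i := stepQ 2990 Q2990 (allL N2990 (tt N2990 F2565) (tt N3255 (iv F2871)) (tt N1469 (iv D3504)) (tt N5407 D6279) (tt N5408 D6280))
theorem Q2992 : ∀ i, i < 2992 → P i := stepQ 2991 Q2991 (allL N2991 (tt N5081 (iv F5164)) (tt N1475 F2566) (tt N5407 (iv F5641)) (tt N1469 (iv D3505)) (tt N2227 F3408))
theorem Q2993 : ∀ i, i < 2993 → P i := stepQ 2992 Q2992 (allL N2992 (tt N1470 (iv D3506)) (tt N2574 F2567) (tt N5409 D6281) (tt N5410 D6282) (tt N5411 D6283))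
theorem Q2994 : ∀ i, i < 2994 → P i := stepQ 2993 Q2993 (allL N2993 (tt N5411 (iv F5647)) (tt N1472 F2568) (tt N5412 D6284) (tt N5413 D6285) (tt N1470 (iv D3507)))
theorem Q2995 : ∀ i, i < 2995 → P i := stepQ 2994 Q2994 (allL N2994 (tt N1515 F2569) (tt N2162 F2570) (tt N5396 (iv F5626)) (tt N1506 F2571) (tt N1471 (iv D3508)))
theorem Q2996 : ∀ i, i < 2996 → P i := stepQ 2995 Q2995 (allL N2995 (tt N1517 F2572) (tt N5413 (iv F5649)) (tt N5382 (iv F5607)) (tt N1472 (iv D3509)) (tt N5414 D6286))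
theorem Q2997 : ∀ i, i < 2997 → P i := stepQ 2996 Q2996 (allL N2996 (tt N1572 F2574) (tt N5415 D6287) (tt N1473 (iv D3510)) (tt N1491 F2573) (tt N5416 D6288))
theorem Q2998 : ∀ i, i < 2998 → P i := stepQ 2997 Q2997 (allL N2997 (tt N1474 (iv D3511)) (tt N5417 D6289) (tt N1499 F2575) (tt N1557 F2576) (tt N1564 F2805))
theorem Q2999 : ∀ i, i < 2999 → P i := stepQ 2998 Q2998 (allL N2998 (tt N5418 D6290) (tt N1474 (iv D3512)) (tt N5419 D6291) (tt N5420 D6292) (tt N5421 D6293))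
theorem Q3000 : ∀ i, i < 3000 → P i := stepQ 2999 Q2999 (allL N2999 (tt N1552 F2577) (tt N5420 (iv F5662)) (tt N1475 F2578) (tt N1474 (iv D3513)) (tt N5422 D6294))
theorem Q3001 : ∀ i, i < 3001 → P i := stepQ 3000 Q3000 (allL N3000 (tt N1564 F2806) (tt N5421 (iv F5663)) (tt N5383 (iv F5609)) (tt N5416 (iv F5657)) (tt N1474 (iv D3514)))
theorem Q3002 : ∀ i, i < 3002 → P i := stepQ 3001 Q3001 (allL N3001 (tt N1550 F2579) (tt N2227 (iv F3406)) (tt N5414 (iv F5652)) (tt N1492 F2580) (tt N1475 (iv D3515)))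
theorem Q3003 : ∀ i, i < 3003 → P i := stepQ 3002 Q3002 (allL N3002 (tt N5423 D6295) (tt N1476 (iv D3516)) (tt N5424 D6296) (tt N5425 D6297) (tt N5426 D6298))
theorem Q3004 : ∀ i, i < 3004 → P i := stepQ 3003 Q3003 (allL N3003 (tt N1548 F2581) (tt N5425 (iv F5670)) (tt N5375 (iv F5597)) (tt N1476 (iv D3517)) (tt N5427 D6299))
theorem Q3005 : ∀ i, i < 3005 → P i := stepQ 3004 Q3004 (allL N3004 (tt N1479 F2582) (tt N5426 (iv F5671)) (tt N5379 (iv F5603)) (tt N5428 D6300) (tt N1476 (iv D3518)))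
theorem Q3006 : ∀ i, i < 3006 → P i := stepQ 3005 Q3005 (allL N3005 (tt N1477 (iv D3519)) (tt N5429 D6301) (tt N3005 F2583) (tt N5430 D6302) (tt N5431 D6303))
theorem Q3007 : ∀ i, i < 3007 → P i := stepQ 3006 Q3006 (allL N3006 (tt N5432 D6304) (tt N5321 (iv F5514)) (tt N1477 (iv D3520)) (tt N5433 D6305) (tt N5434 D6306))
theorem Q3008 : ∀ i, i < 3008 → P i := stepQ 3007 Q3007 (allL N3007 (tt N5435 D6307) (tt N1478 F2584) (tt N5433 (iv F5682)) (tt N1477 (iv D3521)) (tt N5436 D6308))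
theorem Q3009 : ∀ i, i < 3009 → P i := stepQ 3008 Q3008 (allL N3008 (tt N5431 (iv F5678)) (tt N1479 F2585) (tt N4493 (iv F4265)) (tt N1487 F2799) (tt N1477 (iv D3522)))
theorem Q3010 : ∀ i, i < 3010 → P i := stepQ 3009 Q3009 (allL N3009 (tt N1478 (iv D3523)) (tt N5437 D6309) (tt N5336 (iv F5543)) (tt N1546 F2586) (tt N5438 D6310))
theorem Q3011 : ∀ i, i < 3011 → P i := stepQ 3010 Q3010 (allL N3010 (tt N5438 (iv F5688)) (tt N5436 (iv F5684)) (tt N5388 (iv F5614)) (tt N1489 F2801) (tt N1478 (iv D3524)))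
theorem Q3012 : ∀ i, i < 3012 → P i := stepQ 3011 Q3011 (allL N3011 (tt N2907 F2588) (tt N3273 (iv F2898)) (tt N1481 (iv D3527)) (tt N5439 D6311) (tt N5440 D6312))
theorem Q3013 : ∀ i, i < 3013 → P i := stepQ 3012 Q3012 (allL N3012 (tt N2913 F2590) (tt N1482 F2589) (tt N5439 (iv F5690)) (tt N1481 (iv D3528)) (tt N5441 D6313))
theorem Q3014 : ∀ i, i < 3014 → P i := stepQ 3013 Q3013 (allL N3013 (tt N1578 F2591) (tt N5441 (iv F5695)) (tt N5344 (iv F5562)) (tt N5438 (iv F5689)) (tt N1482 (iv D3529)))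
theorem Q3015 : ∀ i, i < 3015 → P i := stepQ 3014 Q3014 (allL N3014 (tt N1549 F2796) (tt N4422 (iv F4177)) (tt N5340 (iv F5551)) (tt N1483 (iv D3530)) (tt N1546 F2797))
theorem Q3016 : ∀ i, i < 3016 → P i := stepQ 3015 Q3015 (allL N3015 (tt N5442 D6314) (tt N3994 (iv F5698)) (tt N3015 F2592) (tt N1484 (iv D3531)) (tt N3992 F5697))
theorem Q3017 : ∀ i, i < 3017 → P i := stepQ 3016 Q3016 (allL N3016 (tt N1485 (iv D3532)) (tt N2677 F2593) (tt N3016 F2594) (tt N5443 D6315) (tt N2360 F2595))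
theorem Q3018 : ∀ i, i < 3018 → P i := stepQ 3017 Q3017 (allL N3017 (tt N5444 D6316) (tt N5323 (iv F5518)) (tt N1486 F2596) (tt N1485 (iv D3533)) (tt N5445 D6317))
theorem Q3019 : ∀ i, i < 3019 → P i := stepQ 3018 Q3018 (allL N3018 (tt N2360 F2597) (tt N4372 (iv F4115)) (tt N3707 (iv F3330)) (tt N5434 (iv F8082)) (tt N1485 (iv D3534)))
theorem Q3020 : ∀ i, i < 3020 → P i := stepQ 3019 Q3019 (allL N3019 (tt N1486 (iv D3535)) (tt N5446 D6319) (tt N3019 F2598) (tt N5447 D6320) (tt N5448 D6321))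
theorem Q3021 : ∀ i, i < 3021 → P i := stepQ 3020 Q3020 (allL N3020 (tt N5448 (iv F5704)) (tt N1489 F2599) (tt N5449 D6322) (tt N5436 (iv F5685)) (tt N1486 (iv D3536)))
theorem Q3022 : ∀ i, i < 3022 → P i := stepQ 3021 Q3021 (allL N3021 (tt N5450 D6323) (tt N1488 (iv D3538)) (tt N5451 D6324) (tt N5452 D6325) (tt N5453 D6326))
theorem Q3023 : ∀ i, i < 3023 → P i := stepQ 3022 Q3022 (allL N3022 (tt N1500 F2601) (tt N4069 (iv F3789)) (tt N1488 (iv D3539)) (tt N4065 (iv F3777)) (tt N5403 (iv F5634)))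
theorem Q3024 : ∀ i, i < 3024 → P i := stepQ 3023 Q3023 (allL N3023 (tt N1545 F2602) (tt N5452 (iv F5705)) (tt N4065 (iv F3776)) (tt N1488 (iv D3540)) (tt N5428 (iv F5676)))
theorem Q3025 : ∀ i, i < 3025 → P i := stepQ 3024 Q3024 (allL N3024 (tt N1489 F2603) (tt N5453 (iv F5706)) (tt N5402 (iv F5632)) (tt N5427 (iv F5674)) (tt N1488 (iv D3541)))
theorem Q3026 : ∀ i, i < 3026 → P i := stepQ 3025 Q3025 (allL N3025 (tt N1490 (iv D3546)) (tt N5326 (iv F5523)) (tt N5454 D6327) (tt N4135 (iv F3860)) (tt N5455 D6328))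
theorem Q3027 : ∀ i, i < 3027 → P i := stepQ 3026 Q3026 (allL N3026 (tt N3026 F2605) (tt N3283 (iv F2912)) (tt N1490 (iv D3547)) (tt N2152 F2604) (tt N5456 D6329))
theorem Q3028 : ∀ i, i < 3028 → P i := stepQ 3027 Q3027 (allL N3027 (tt N5455 (iv F5708)) (tt N1492 F2606) (tt N2156 (iv F3409)) (tt N2227 F3407) (tt N1490 (iv D3548)))
theorem Q3029 : ∀ i, i < 3029 → P i := stepQ 3028 Q3028 (allL N3028 (tt N5457 D6330) (tt N1491 (iv D3549)) (tt N5458 D6331) (tt N5415 (iv F5655)) (tt N5459 D6332))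
theorem Q3030 : ∀ i, i < 3030 → P i := stepQ 3029 Q3029 (allL N3029 (tt N1563 F2607) (tt N5459 (iv F5712)) (tt N5397 (iv F5628)) (tt N5422 (iv F5667)) (tt N1491 (iv D3550)))
theorem Q3031 : ∀ i, i < 3031 → P i := stepQ 3030 Q3030 (allL N3030 (tt N1507 F5314) (tt N5460 D6333) (tt N1492 (iv D3551)) (tt N5414 (iv F5651)) (tt N1506 F5315))
theorem Q3032 : ∀ i, i < 3032 → P i := stepQ 3031 Q3031 (allL N3031 (tt N4619 (iv F4483)) (tt N3031 F2608) (tt N5461 D6334) (tt N5462 D6335) (tt N1493 (iv D3555)))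
theorem Q3033 : ∀ i, i < 3033 → P i := stepQ 3032 Q3032 (allL N3032 (tt N4621 (iv F4485)) (tt N3032 F2609) (tt N3742 (iv F3432)) (tt N1494 (iv D3556)) (tt N5463 D6336))
theorem Q3034 : ∀ i, i < 3034 → P i := stepQ 3033 Q3033 (allL N3033 (tt N1496 F2610) (tt N2575 F2611) (tt N5464 D6337) (tt N5465 D6338) (tt N1495 (iv D3557)))
theorem Q3035 : ∀ i, i < 3035 → P i := stepQ 3034 Q3034 (allL N3034 (tt N5466 D6339) (tt N5467 D6340) (tt N1496 (iv D3558)) (tt N5468 D6341) (tt N5469 D6342))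
theorem Q3036 : ∀ i, i < 3036 → P i := stepQ 3035 Q3035 (allL N3035 (tt N3829 (iv F3515)) (tt N1502 F2612) (tt N5468 (iv F5768)) (tt N1496 (iv D3559)) (tt N5470 D6343))
theorem Q3037 : ∀ i, i < 3037 → P i := stepQ 3036 Q3036 (allL N3036 (tt N1497 (iv D3560)) (tt N2662 (iv F2614)) (tt N2254 F2613) (tt N5471 D6344) (tt N2660 F2615))
theorem Q3038 : ∀ i, i < 3038 → P i := stepQ 3037 Q3037 (allL N3037 (tt N2289 F2617) (tt N1497 (iv D3561)) (tt N1873 F2616) (tt N5472 D6345) (tt N2286 (iv F2618)))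
theorem Q3039 : ∀ i, i < 3039 → P i := stepQ 3038 Q3038 (allL N3038 (tt N5473 D6346) (tt N5472 (iv F5776)) (tt N1498 F2619) (tt N1497 (iv D3562)) (tt N5474 D6347))
theorem Q3040 : ∀ i, i < 3040 → P i := stepQ 3039 Q3039 (allL N3039 (tt N2660 F2620) (tt N2286 F2621) (tt N2425 F2622) (tt N5469 F5771) (tt N1497 (iv D3563)))
theorem Q3041 : ∀ i, i < 3041 → P i := stepQ 3040 Q3040 (allL N3040 (tt N1498 (iv D3564)) (tt N2577 (iv F2624)) (tt N5475 D6348) (tt N2540 F2623) (tt N5476 D6349))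
theorem Q3042 : ∀ i, i < 3042 → P i := stepQ 3041 Q3041 (allL N3041 (tt N5476 (iv F5779)) (tt N1507 F2625) (tt N5463 (iv F5782)) (tt N5470 (iv F5773)) (tt N1498 (iv D3565)))
theorem Q3043 : ∀ i, i < 3043 → P i := stepQ 3042 Q3042 (allL N3042 (tt N5336 (iv F5544)) (tt N3042 F2626) (tt N1557 F2627) (tt N1499 (iv D3566)) (tt N5477 D6350))
theorem Q3044 : ∀ i, i < 3044 → P i := stepQ 3043 Q3043 (allL N3043 (tt N5403 (iv F5633)) (tt N3043 F2628) (tt N1507 F5320) (tt N5477 (iv F5797)) (tt N1500 (iv D3567)))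
theorem Q3045 : ∀ i, i < 3045 → P i := stepQ 3044 Q3044 (allL N3044 (tt N5478 D6351) (tt N1501 (iv D3568)) (tt N1876 F5725) (tt N5479 D6352) (tt N4585 F4381))
theorem Q3046 : ∀ i, i < 3046 → P i := stepQ 3045 Q3045 (allL N3045 (tt N5339 (iv F5549)) (tt N5479 (iv F5800)) (tt N1502 F2629) (tt N1501 (iv D3569)) (tt N5480 D6353))
theorem Q3047 : ∀ i, i < 3047 → P i := stepQ 3046 Q3046 (allL N3046 (tt N5379 (iv F5602)) (tt N4585 (iv F4379)) (tt N1564 F2807) (tt N1505 F2808) (tt N1501 (iv D3570)))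
theorem Q3048 : ∀ i, i < 3048 → P i := stepQ 3047 Q3047 (allL N3047 (tt N1522 F2630) (tt N5470 (iv F5772)) (tt N5477 (iv F5798)) (tt N1507 F2631) (tt N1502 (iv D3571)))
theorem Q3049 : ∀ i, i < 3049 → P i := stepQ 3048 Q3048 (allL N3048 (tt N1503 (iv D3572)) (tt N2030 F2634) (tt N1852 F2632) (tt N5481 D6354) (tt N2028 F2633))
theorem Q3050 : ∀ i, i < 3050 → P i := stepQ 3049 Q3049 (allL N3049 (tt N5482 D6355) (tt N1504 F2635) (tt N1877 F2636) (tt N1503 (iv D3573)) (tt N5483 D6356))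
theorem Q3051 : ∀ i, i < 3051 → P i := stepQ 3050 Q3050 (allL N3050 (tt N5402 (iv F5631)) (tt N5483 (iv F5809)) (tt N1563 F5321) (tt N5480 (iv F5803)) (tt N1504 (iv D3574)))
theorem Q3052 : ∀ i, i < 3052 → P i := stepQ 3051 Q3051 (allL N3051 (tt N5484 D6357) (tt N1506 (iv D3576)) (tt N5485 D6358) (tt N2162 F2638) (tt N5460 (iv F5717)))
theorem Q3053 : ∀ i, i < 3053 → P i := stepQ 3052 Q3052 (allL N3052 (tt N5486 D6359) (tt N3350 (iv F2974)) (tt N2520 F2640) (tt N1508 (iv D3579)) (tt N5487 D6360))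
theorem Q3054 : ∀ i, i < 3054 → P i := stepQ 3053 Q3053 (allL N3053 (tt N1511 F2641) (tt N3351 (iv F2977)) (tt N5488 D6361) (tt N5489 D6362) (tt N1508 (iv D3580)))
theorem Q3055 : ∀ i, i < 3055 → P i := stepQ 3054 Q3054 (allL N3054 (tt N1509 (iv D3581)) (tt N1697 F2642) (tt N2864 F2643) (tt N4295 (iv F4023)) (tt N5490 D6363))
theorem Q3056 : ∀ i, i < 3056 → P i := stepQ 3055 Q3055 (allL N3055 (tt N5491 D6364) (tt N2255 F2644) (tt N1510 F2645) (tt N1509 (iv D3582)) (tt N5492 D6365))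
theorem Q3057 : ∀ i, i < 3057 → P i := stepQ 3056 Q3056 (allL N3056 (tt N5490 (iv F5815)) (tt N4617 (iv F4480)) (tt N3607 (iv F4468)) (tt N5493 D6366) (tt N1509 (iv D3583)))
theorem Q3058 : ∀ i, i < 3058 → P i := stepQ 3057 Q3057 (allL N3057 (tt N3891 (iv F3599)) (tt N1515 F2646) (tt N5494 D6367) (tt N1528 (iv F2647)) (tt N1510 (iv D3584)))
theorem Q3059 : ∀ i, i < 3059 → P i := stepQ 3058 Q3058 (allL N3058 (tt N5495 D6368) (tt N5496 D6369) (tt N1511 (iv D3585)) (tt N5497 D6370) (tt N5498 D6371))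
theorem Q3060 : ∀ i, i < 3060 → P i := stepQ 3059 Q3059 (allL N3059 (tt N5499 D6372) (tt N1517 F2648) (tt N5497 (iv F5824)) (tt N1511 (iv D3586)) (tt N5500 D6373))
theorem Q3061 : ∀ i, i < 3061 → P i := stepQ 3060 Q3060 (allL N3060 (tt N1512 (iv D3587)) (tt N3156 (iv F2751)) (tt N1735 F2649) (tt N5501 D6374) (tt N5502 D6375))
theorem Q3062 : ∀ i, i < 3062 → P i := stepQ 3061 Q3061 (allL N3061 (tt N5503 D6376) (tt N1513 F2650) (tt N1744 F2651) (tt N1512 (iv D3588)) (tt N5504 D6377))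
theorem Q3063 : ∀ i, i < 3063 → P i := stepQ 3062 Q3062 (allL N3062 (tt N5502 (iv F5832)) (tt N1514 F2652) (tt N1755 F2653) (tt N5505 D6378) (tt N1512 (iv D3589)))
theorem Q3064 : ∀ i, i < 3064 → P i := stepQ 3063 Q3063 (allL N3063 (tt N4065 (iv F3774)) (tt N5504 (iv F5837)) (tt N1572 F2654) (tt N1571 F2655) (tt N1513 (iv D3590)))
theorem Q3065 : ∀ i, i < 3065 → P i := stepQ 3064 Q3064 (allL N3064 (tt N5375 (iv F5596)) (tt N5505 (iv F5840)) (tt N1552 F2656) (tt N1514 (iv D3591)) (tt N5506 D6379))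
theorem Q3066 : ∀ i, i < 3066 → P i := stepQ 3065 Q3065 (allL N3065 (tt N5376 (iv F5599)) (tt N5507 D6380) (tt N1515 (iv D3592)) (tt N1529 F2657) (tt N5508 D6381))
theorem Q3067 : ∀ i, i < 3067 → P i := stepQ 3066 Q3066 (allL N3066 (tt N5509 D6382) (tt N1516 (iv D3593)) (tt N3518 F5555) (tt N5510 D6383) (tt N5511 D6384))
theorem Q3068 : ∀ i, i < 3068 → P i := stepQ 3067 Q3067 (allL N3067 (tt N5378 (iv F5600)) (tt N5510 (iv F5847)) (tt N1517 F2658) (tt N1516 (iv D3594)) (tt N5512 D6385))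
theorem Q3069 : ∀ i, i < 3069 → P i := stepQ 3068 Q3068 (allL N3068 (tt N5340 (iv F5550)) (tt N5511 (iv F5848)) (tt N1553 F2659) (tt N5508 (iv F5846)) (tt N1516 (iv D3595)))
theorem Q3070 : ∀ i, i < 3070 → P i := stepQ 3069 Q3069 (allL N3069 (tt N5414 (iv F5650)) (tt N5500 (iv F5827)) (tt N5506 (iv F5843)) (tt N1530 F2660) (tt N1517 (iv D3596)))
theorem Q3071 : ∀ i, i < 3071 → P i := stepQ 3070 Q3070 (allL N3070 (tt N5513 D6386) (tt N1518 (iv D3597)) (tt N5514 D6387) (tt N5515 D6388) (tt N5516 D6389))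
theorem Q3072 : ∀ i, i < 3072 → P i := stepQ 3071 Q3071 (allL N3071 (tt N5382 (iv F5606)) (tt N5515 (iv F5851)) (tt N1544 F2661) (tt N1518 (iv D3598)) (tt N5517 D6390))
theorem Q3073 : ∀ i, i < 3073 → P i := stepQ 3072 Q3072 (allL N3072 (tt N1521 F2662) (tt N5516 (iv F5852)) (tt N1549 F2663) (tt N5518 D6391) (tt N1518 (iv D3599)))
theorem Q3074 : ∀ i, i < 3074 → P i := stepQ 3073 Q3073 (allL N3073 (tt N1519 (iv D3600)) (tt N3188 (iv F2812)) (tt N5519 D6392) (tt N5520 D6393) (tt N3186 F2794))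
theorem Q3075 : ∀ i, i < 3075 → P i := stepQ 3074 Q3074 (allL N3074 (tt N5521 D6394) (tt N4528 (iv F4309)) (tt N1519 (iv D3601)) (tt N5522 D6395) (tt N4687 (iv F4556)))
theorem Q3076 : ∀ i, i < 3076 → P i := stepQ 3075 Q3075 (allL N3075 (tt N5523 D6396) (tt N1520 F2664) (tt N5522 (iv F5858)) (tt N1519 (iv D3602)) (tt N4688 (iv F5318)))
theorem Q3077 : ∀ i, i < 3077 → P i := stepQ 3076 Q3076 (allL N3076 (tt N5388 (iv F5613)) (tt N4688 F5277) (tt N1558 F5278) (tt N1527 F2795) (tt N1520 (iv D3604)))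
theorem Q3078 : ∀ i, i < 3078 → P i := stepQ 3077 Q3077 (allL N3077 (tt N2869 F2669) (tt N2871 F2668) (tt N1523 (iv D3607)) (tt N5524 D6397) (tt N2869 (iv F2671)))
theorem Q3079 : ∀ i, i < 3079 → P i := stepQ 3078 Q3078 (allL N3078 (tt N3470 (iv F3082)) (tt N2802 (iv F3084)) (tt N5524 (iv F5863)) (tt N1523 (iv D3608)) (tt N2800 F3087))
theorem Q3080 : ∀ i, i < 3080 → P i := stepQ 3079 Q3079 (allL N3079 (tt N5525 D6398) (tt N4534 (iv F4320)) (tt N1525 F2673) (tt N1524 (iv D3609)) (tt N4695 F5329))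
theorem Q3081 : ∀ i, i < 3081 → P i := stepQ 3080 Q3080 (allL N3080 (tt N1525 (iv D3610)) (tt N3333 F5324) (tt N5526 D6399) (tt N5527 D6400) (tt N4700 (iv F5325)))
theorem Q3082 : ∀ i, i < 3082 → P i := stepQ 3081 Q3081 (allL N3081 (tt N5528 D6401) (tt N1526 (iv D3612)) (tt N5529 D6402) (tt N5530 D6403) (tt N5531 D6404))
theorem Q3083 : ∀ i, i < 3083 → P i := stepQ 3082 Q3082 (allL N3082 (tt N5396 (iv F5625)) (tt N5530 (iv F5867)) (tt N1543 F2675) (tt N1526 (iv D3613)) (tt N5518 (iv F5856)))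
theorem Q3084 : ∀ i, i < 3084 → P i := stepQ 3083 Q3083 (allL N3083 (tt N1527 F2676) (tt N5531 (iv F5868)) (tt N1578 F5275) (tt N5517 (iv F5854)) (tt N1526 (iv D3614)))
theorem Q3085 : ∀ i, i < 3085 → P i := stepQ 3084 Q3084 (allL N3084 (tt N1528 (iv D3619)) (tt N4539 (iv F4327)) (tt N5532 D6405) (tt N5487 (iv F5814)) (tt N5533 D6406))
theorem Q3086 : ∀ i, i < 3086 → P i := stepQ 3085 Q3085 (allL N3085 (tt N5534 D6407) (tt N5535 D6408) (tt N1528 (iv D3620)) (tt N5494 (iv F5820)) (tt N5536 D6409))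
theorem Q3087 : ∀ i, i < 3087 → P i := stepQ 3086 Q3086 (allL N3086 (tt N5533 (iv F5869)) (tt N1530 F2677) (tt N5537 D6410) (tt N5500 (iv F5828)) (tt N1528 (iv D3621)))
theorem Q3088 : ∀ i, i < 3088 → P i := stepQ 3087 Q3087 (allL N3087 (tt N5538 D6411) (tt N1529 (iv D3622)) (tt N3793 (iv F6503)) (tt N5507 (iv F5844)) (tt N5539 D6413))
theorem Q3089 : ∀ i, i < 3089 → P i := stepQ 3088 Q3088 (allL N3088 (tt N5344 (iv F5561)) (tt N5539 (iv F5875)) (tt N1573 F5322) (tt N5512 (iv F5850)) (tt N1529 (iv D3623)))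
theorem Q3090 : ∀ i, i < 3090 → P i := stepQ 3089 Q3089 (allL N3089 (tt N5337 (iv F5545)) (tt N5540 D6414) (tt N1530 (iv D3624)) (tt N5506 (iv F5842)) (tt N1571 F5280))
theorem Q3091 : ∀ i, i < 3091 → P i := stepQ 3090 Q3090 (allL N3090 (tt N1534 F2680) (tt N1958 F2678) (tt N1532 F2679) (tt N1531 (iv D3628)) (tt N5541 D6415))
theorem Q3092 : ∀ i, i < 3092 → P i := stepQ 3091 Q3091 (allL N3091 (tt N3438 (iv F3057)) (tt N2442 F2681) (tt N3530 (iv F3136)) (tt N5542 D6416) (tt N1531 (iv D3629)))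
theorem Q3093 : ∀ i, i < 3093 → P i := stepQ 3092 Q3092 (allL N3092 (tt N3439 (iv F3058)) (tt N1584 F2682) (tt N5543 D6417) (tt N1574 F2683) (tt N1532 (iv D3630)))
theorem Q3094 : ∀ i, i < 3094 → P i := stepQ 3093 Q3093 (allL N3093 (tt N3440 (iv F3061)) (tt N4866 (iv F4791)) (tt N1533 (iv D3631)) (tt N5544 D6418) (tt N3528 (iv F3131)))
theorem Q3095 : ∀ i, i < 3095 → P i := stepQ 3094 Q3094 (allL N3094 (tt N3441 (iv F3062)) (tt N1586 F2684) (tt N5544 (iv F5884)) (tt N1533 (iv D3632)) (tt N5545 D6419))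
theorem Q3096 : ∀ i, i < 3096 → P i := stepQ 3095 Q3095 (allL N3095 (tt N5541 (iv F5878)) (tt N1950 F2685) (tt N3561 (iv F3165)) (tt N3732 (iv F3425)) (tt N1534 (iv D3633)))
theorem Q3097 : ∀ i, i < 3097 → P i := stepQ 3096 Q3096 (allL N3096 (tt N5542 (iv F5881)) (tt N1956 F2686) (tt N3562 (iv F3168)) (tt N1535 (iv D3634)) (tt N5546 D6420))
theorem Q3098 : ∀ i, i < 3098 → P i := stepQ 3097 Q3097 (allL N3097 (tt N5543 (iv F5883)) (tt N3912 (iv F3619)) (tt N1536 (iv D3635)) (tt N1575 F2687) (tt N3559 F3163))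
theorem Q3099 : ∀ i, i < 3099 → P i := stepQ 3098 Q3098 (allL N3098 (tt N2561 F2689) (tt N1537 (iv D3636)) (tt N5547 D6421) (tt N3930 (iv F3649)) (tt N2558 F2688))
theorem Q3100 : ∀ i, i < 3100 → P i := stepQ 3099 Q3099 (allL N3099 (tt N5544 (iv F5885)) (tt N3930 (iv F3648)) (tt N1538 F2690) (tt N1537 (iv D3637)) (tt N3731 F3404))
theorem Q3101 : ∀ i, i < 3101 → P i := stepQ 3100 Q3100 (allL N3100 (tt N5166 (iv F5354)) (tt N1550 F2691) (tt N5546 (iv F5889)) (tt N1576 F2692) (tt N1538 (iv D3638)))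
theorem Q3102 : ∀ i, i < 3102 → P i := stepQ 3101 Q3101 (allL N3101 (tt N1542 F2693) (tt N4797 (iv F4700)) (tt N5548 D6422) (tt N5549 D6423) (tt N1539 (iv D3639)))
theorem Q3103 : ∀ i, i < 3103 → P i := stepQ 3102 Q3102 (allL N3102 (tt N5550 D6424) (tt N1949 F2694) (tt N1541 F2695) (tt N1540 (iv D3640)) (tt N5551 D6425))
theorem Q3104 : ∀ i, i < 3104 → P i := stepQ 3103 Q3103 (allL N3103 (tt N4553 (iv F4345)) (tt N4755 (iv F4625)) (tt N3570 (iv F3180)) (tt N5552 D6426) (tt N1540 (iv D3641)))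
theorem Q3105 : ∀ i, i < 3105 → P i := stepQ 3104 Q3104 (allL N3104 (tt N1541 (iv D3642)) (tt N2083 F2696) (tt N2082 F2697) (tt N2082 F2698) (tt N5553 D6427))
theorem Q3106 : ∀ i, i < 3106 → P i := stepQ 3105 Q3105 (allL N3105 (tt N5553 (iv F5898)) (tt N1543 F2699) (tt N5554 D6428) (tt N5345 (iv F5563)) (tt N1541 (iv D3643)))
theorem Q3107 : ∀ i, i < 3107 → P i := stepQ 3106 Q3106 (allL N3106 (tt N4554 (iv F4347)) (tt N5555 D6429) (tt N1542 (iv D3644)) (tt N5556 D6430) (tt N3568 (iv F3177)))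
theorem Q3108 : ∀ i, i < 3108 → P i := stepQ 3107 Q3107 (allL N3107 (tt N5557 D6431) (tt N1544 F2700) (tt N5556 (iv F5901)) (tt N1542 (iv D3645)) (tt N5558 D6432))
theorem Q3109 : ∀ i, i < 3109 → P i := stepQ 3108 Q3108 (allL N3108 (tt N5380 (iv F5604)) (tt N5558 (iv F5904)) (tt N1550 F5327) (tt N1579 F5328) (tt N1544 (iv D3646)))
theorem Q3110 : ∀ i, i < 3110 → P i := stepQ 3109 Q3109 (allL N3109 (tt N5559 D6433) (tt N1545 (iv D3647)) (tt N5560 D6434) (tt N1577 F2701) (tt N5561 D6435))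
theorem Q3111 : ∀ i, i < 3111 → P i := stepQ 3110 Q3110 (allL N3110 (tt N5428 (iv F5675)) (tt N5561 (iv F5907)) (tt N5518 (iv F5855)) (tt N1549 F2802) (tt N1545 (iv D3648)))
theorem Q3112 : ∀ i, i < 3112 → P i := stepQ 3111 Q3111 (allL N3111 (tt N2889 F2702) (tt N1546 (iv D3649)) (tt N5562 D6436) (tt N5437 (iv F5686)) (tt N4422 F4179))
theorem Q3113 : ∀ i, i < 3113 → P i := stepQ 3112 Q3112 (allL N3112 (tt N1547 (iv D3651)) (tt N5563 D6437) (tt N5564 D6438) (tt N5564 F5912) (tt N5565 D6439))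
theorem Q3114 : ∀ i, i < 3114 → P i := stepQ 3113 Q3113 (allL N3113 (tt N5566 D6440) (tt N5547 (iv F5891)) (tt N1547 (iv D3652)) (tt N5567 D6441) (tt N5568 D6442))
theorem Q3115 : ∀ i, i < 3115 → P i := stepQ 3114 Q3114 (allL N3114 (tt N5569 D6443) (tt N1548 F2704) (tt N5567 (iv F5920)) (tt N1547 (iv D3653)) (tt N5570 D6444))
theorem Q3116 : ∀ i, i < 3116 → P i := stepQ 3115 Q3115 (allL N3115 (tt N5565 (iv F5916)) (tt N1549 F2705) (tt N5571 D6445) (tt N5561 F5908) (tt N1547 (iv D3654)))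
theorem Q3117 : ∀ i, i < 3117 → P i := stepQ 3116 Q3116 (allL N3116 (tt N5427 (iv F5673)) (tt N5570 (iv F5922)) (tt N5517 (iv F5853)) (tt N1578 F2803) (tt N1548 (iv D3655)))
theorem Q3118 : ∀ i, i < 3118 → P i := stepQ 3117 Q3117 (allL N3117 (tt N1551 (iv D3658)) (tt N5572 D6446) (tt N4745 (iv F4604)) (tt N5573 D6447) (tt N5574 D6448))
theorem Q3119 : ∀ i, i < 3119 → P i := stepQ 3118 Q3118 (allL N3118 (tt N5575 D6449) (tt N5576 D6450) (tt N1551 (iv D3659)) (tt N5577 D6451) (tt N3585 (iv F3198)))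
theorem Q3120 : ∀ i, i < 3120 → P i := stepQ 3119 Q3119 (allL N3119 (tt N5578 D6452) (tt N1552 F2707) (tt N5577 (iv F5933)) (tt N1551 (iv D3660)) (tt N5579 D6453))
theorem Q3121 : ∀ i, i < 3121 → P i := stepQ 3120 Q3120 (allL N3120 (tt N5574 (iv F5927)) (tt N1553 F2708) (tt N5580 D6454) (tt N5581 D6455) (tt N1551 (iv D3661)))
theorem Q3122 : ∀ i, i < 3122 → P i := stepQ 3121 Q3121 (allL N3121 (tt N5422 (iv F5666)) (tt N5579 (iv F5934)) (tt N5512 (iv F5849)) (tt N1573 F2804) (tt N1552 (iv D3662)))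
theorem Q3123 : ∀ i, i < 3123 → P i := stepQ 3122 Q3122 (allL N3122 (tt N5416 (iv F5656)) (tt N5581 (iv F5936)) (tt N5508 (iv F5845)) (tt N1553 (iv D3663)) (tt N1572 F2785))
theorem Q3124 : ∀ i, i < 3124 → P i := stepQ 3123 Q3123 (allL N3123 (tt N5572 (iv F5925)) (tt N1554 (iv D3664)) (tt N5582 D6456) (tt N4827 F4744) (tt N4921 (iv F4908)))
theorem Q3125 : ∀ i, i < 3125 → P i := stepQ 3124 Q3124 (allL N3124 (tt N1756 F2709) (tt N4827 (iv F4743)) (tt N3199 F2818) (tt N1554 (iv D3665)) (tt N4825 F4725))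
theorem Q3126 : ∀ i, i < 3126 → P i := stepQ 3125 Q3125 (allL N3125 (tt N1555 (iv D3667)) (tt N5583 D6457) (tt N4904 (iv F4877)) (tt N5584 D6458) (tt N4898 (iv F4857)))
theorem Q3127 : ∀ i, i < 3127 → P i := stepQ 3126 Q3126 (allL N3126 (tt N5585 D6459) (tt N1637 F2711) (tt N1556 F2712) (tt N1555 (iv D3668)) (tt N4914 (iv F4898)))
theorem Q3128 : ∀ i, i < 3128 → P i := stepQ 3127 Q3127 (allL N3127 (tt N1556 (iv D3670)) (tt N5586 D6460) (tt N5183 (iv F5375)) (tt N5004 (iv F5045)) (tt N4920 (iv F4906)))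
theorem Q3129 : ∀ i, i < 3129 → P i := stepQ 3128 Q3128 (allL N3128 (tt N5587 D6461) (tt N1557 (iv D3674)) (tt N5588 D6462) (tt N5417 (iv F5660)) (tt N5589 D6463))
theorem Q3130 : ∀ i, i < 3130 → P i := stepQ 3129 Q3129 (allL N3129 (tt N1558 F2716) (tt N5589 (iv F5955)) (tt N5480 (iv F5802)) (tt N1563 F2787) (tt N1557 (iv D3675)))
theorem Q3131 : ∀ i, i < 3131 → P i := stepQ 3130 Q3130 (allL N3130 (tt N5590 D6464) (tt N2091 F3782) (tt N2000 F2719) (tt N1559 (iv D3683)) (tt N2089 F3783))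
theorem Q3132 : ∀ i, i < 3132 → P i := stepQ 3131 Q3131 (allL N3131 (tt N5591 D6465) (tt N3131 F2720) (tt N1561 F2721) (tt N1560 (iv D3684)) (tt N5592 D6466))
theorem Q3133 : ∀ i, i < 3133 → P i := stepQ 3132 Q3132 (allL N3132 (tt N1561 (iv D3685)) (tt N4831 (iv F5793)) (tt N4786 F4681) (tt N5031 (iv F5089)) (tt N4829 F5792))
theorem Q3134 : ∀ i, i < 3134 → P i := stepQ 3133 Q3133 (allL N3133 (tt N4829 (iv F5791)) (tt N1563 F2722) (tt N5593 D6467) (tt N5589 (iv F5956)) (tt N1561 (iv D3686)))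
theorem Q3135 : ∀ i, i < 3135 → P i := stepQ 3134 Q3134 (allL N3134 (tt N4823 (iv F4723)) (tt N1564 F2723) (tt N4371 (iv F4114)) (tt N1562 (iv D3687)) (tt N5417 (iv F5661)))
theorem Q3136 : ∀ i, i < 3136 → P i := stepQ 3135 Q3135 (allL N3135 (tt N5594 D6468) (tt N1566 F2725) (tt N5193 (iv F5389)) (tt N1565 (iv D3692)) (tt N5595 D6469))
theorem Q3137 : ∀ i, i < 3137 → P i := stepQ 3136 Q3136 (allL N3136 (tt N1566 (iv D3693)) (tt N1754 F2727) (tt N5596 D6470) (tt N2920 F2726) (tt N4979 F4992))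
theorem Q3138 : ∀ i, i < 3138 → P i := stepQ 3137 Q3137 (allL N3137 (tt N4979 (iv F4991)) (tt N5595 (iv F5963)) (tt N4985 (iv F5001)) (tt N4920 (iv F4907)) (tt N1566 (iv D3694)))
theorem Q3139 : ∀ i, i < 3139 → P i := stepQ 3138 Q3138 (allL N3138 (tt N2769 F2729) (tt N1567 (iv D3695)) (tt N3138 F2728) (tt N5597 D6471) (tt N4468 (iv F4235)))
theorem Q3140 : ∀ i, i < 3140 → P i := stepQ 3139 Q3139 (allL N3139 (tt N5596 (iv F5970)) (tt N5597 (iv F5976)) (tt N4981 (iv F5972)) (tt N1567 (iv D3696)) (tt N4975 F5974))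
theorem Q3141 : ∀ i, i < 3141 → P i := stepQ 3140 Q3140 (allL N3140 (tt N1568 (iv D3697)) (tt N5598 D6472) (tt N5003 (iv F5042)) (tt N5599 D6473) (tt N4995 (iv F5025)))
theorem Q3142 : ∀ i, i < 3142 → P i := stepQ 3141 Q3141 (allL N3141 (tt N5600 D6474) (tt N1569 (iv D3699)) (tt N5601 D6475) (tt N5602 D6476) (tt N4826 F4741))
theorem Q3143 : ∀ i, i < 3143 → P i := stepQ 3142 Q3142 (allL N3142 (tt N2920 F2731) (tt N5602 (iv F5983)) (tt N3330 (iv F2950)) (tt N1569 (iv D3700)) (tt N4922 (iv F4911)))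
theorem Q3144 : ∀ i, i < 3144 → P i := stepQ 3143 Q3143 (allL N3143 (tt N1570 (iv D3704)) (tt N5600 (iv F5979)) (tt N5023 (iv F5078)) (tt N5603 D6477) (tt N5604 D6478))
theorem Q3145 : ∀ i, i < 3145 → P i := stepQ 3144 Q3144 (allL N3144 (tt N5605 D6479) (tt N5606 D6480) (tt N1570 (iv D3705)) (tt N5607 D6481) (tt N3720 F4739))
theorem Q3146 : ∀ i, i < 3146 → P i := stepQ 3145 Q3145 (allL N3145 (tt N5608 D6482) (tt N1572 F2734) (tt N5607 (iv F5990)) (tt N1570 (iv D3706)) (tt N5581 (iv F5937)))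
theorem Q3147 : ∀ i, i < 3147 → P i := stepQ 3146 Q3146 (allL N3146 (tt N5604 (iv F5985)) (tt N1573 F2735) (tt N5609 D6483) (tt N5579 F5935) (tt N1570 (iv D3707)))
theorem Q3148 : ∀ i, i < 3148 → P i := stepQ 3147 Q3147 (allL N3147 (tt N5610 D6484) (tt N1571 (iv D3708)) (tt N2919 F2736) (tt N5504 F5838) (tt N5540 (iv F5876)))
theorem Q3149 : ∀ i, i < 3149 → P i := stepQ 3148 Q3148 (allL N3148 (tt N5198 (iv F5393)) (tt N5006 (iv F5050)) (tt N1574 (iv D3722)) (tt N5543 (iv F5882)) (tt N3728 F3405))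
theorem Q3150 : ∀ i, i < 3150 → P i := stepQ 3149 Q3149 (allL N3149 (tt N1576 F2744) (tt N1669 F2745) (tt N5611 D6485) (tt N5545 (iv F5887)) (tt N1574 (iv D3723)))
theorem Q3151 : ∀ i, i < 3151 → P i := stepQ 3150 Q3150 (allL N3150 (tt N2719 (iv F3399)) (tt N1575 (iv D3724)) (tt N5612 D6486) (tt N3912 F3620) (tt N2717 F3401))
theorem Q3152 : ∀ i, i < 3152 → P i := stepQ 3151 Q3151 (allL N3151 (tt N5200 (iv F5397)) (tt N5033 (iv F5092)) (tt N1576 (iv D3726)) (tt N5546 (iv F5890)) (tt N3732 (iv F3426)))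
theorem Q3153 : ∀ i, i < 3153 → P i := stepQ 3152 Q3152 (allL N3152 (tt N1577 (iv D3727)) (tt N5613 D6487) (tt N5614 D6488) (tt N5614 F5995) (tt N5615 D6489))
theorem Q3154 : ∀ i, i < 3154 → P i := stepQ 3153 Q3153 (allL N3153 (tt N5616 D6490) (tt N5612 (iv F5992)) (tt N1577 (iv D3728)) (tt N5560 (iv F5906)) (tt N5617 D6491))
theorem Q3155 : ∀ i, i < 3155 → P i := stepQ 3154 Q3154 (allL N3154 (tt N5615 (iv F5996)) (tt N1578 F2746) (tt N5618 D6492) (tt N5570 (iv F5923)) (tt N1577 (iv D3729)))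
theorem Q3156 : ∀ i, i < 3156 → P i := stepQ 3155 Q3155 (allL N3155 (tt N5619 D6493) (tt N1579 (iv D3732)) (tt N5620 D6494) (tt N5558 (iv F5905)) (tt N5345 (iv F5564)))
theorem Q3157 : ∀ i, i < 3157 → P i := stepQ 3156 Q3156 (allL N3156 (tt N1588 F2750) (tt N3060 F2751) (tt N1580 (iv D3741)) (tt N5621 D6495) (tt N5622 D6496))
theorem Q3158 : ∀ i, i < 3158 → P i := stepQ 3157 Q3157 (allL N3157 (tt N1599 F2752) (tt N1679 F2753) (tt N5621 (iv F6004)) (tt N1580 (iv D3742)) (tt N5623 D6497))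
theorem Q3159 : ∀ i, i < 3159 → P i := stepQ 3158 Q3158 (allL N3158 (tt N1582 F2754) (tt N1680 F2755) (tt N5624 D6498) (tt N5625 D6499) (tt N1580 (iv D3743)))
theorem Q3160 : ∀ i, i < 3160 → P i := stepQ 3159 Q3159 (allL N3159 (tt N4791 (iv F4690)) (tt N1582 F2756) (tt N4865 (iv F4790)) (tt N4056 (iv F3771)) (tt N1581 (iv D3744)))
theorem Q3161 : ∀ i, i < 3161 → P i := stepQ 3160 Q3160 (allL N3160 (tt N1597 F2757) (tt N5626 D6500) (tt N1582 (iv D3745)) (tt N4124 (iv F3851)) (tt N5627 D6501))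
theorem Q3162 : ∀ i, i < 3162 → P i := stepQ 3161 Q3161 (allL N3161 (tt N1589 F2758) (tt N5628 D6502) (tt N1583 (iv D3746)) (tt N5314 (iv F5504)) (tt N5629 D6503))
theorem Q3163 : ∀ i, i < 3163 → P i := stepQ 3162 Q3162 (allL N3162 (tt N1584 F2759) (tt N4135 (iv F3859)) (tt N5630 D6504) (tt N5326 (iv F5524)) (tt N1583 (iv D3747)))
theorem Q3164 : ∀ i, i < 3164 → P i := stepQ 3163 Q3163 (allL N3163 (tt N4068 (iv F3780)) (tt N5631 D6505) (tt N1584 (iv D3748)) (tt N1668 F2760) (tt N5632 D6506))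
theorem Q3165 : ∀ i, i < 3165 → P i := stepQ 3164 Q3164 (allL N3164 (tt N1585 (iv D3749)) (tt N5633 D6507) (tt N5622 (iv F6007)) (tt N5634 D6508) (tt N5635 D6509))
theorem Q3166 : ∀ i, i < 3166 → P i := stepQ 3165 Q3165 (allL N3165 (tt N5636 D6510) (tt N1585 (iv D3750)) (tt N5637 D6511) (tt N5638 D6512) (tt N5639 D6513))
theorem Q3167 : ∀ i, i < 3167 → P i := stepQ 3166 Q3166 (allL N3166 (tt N5640 D6514) (tt N5638 (iv F6029)) (tt N1586 F2761) (tt N1585 (iv D3751)) (tt N5641 D6515))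
theorem Q3168 : ∀ i, i < 3168 → P i := stepQ 3167 Q3167 (allL N3167 (tt N5635 (iv F6026)) (tt N5639 (iv F6030)) (tt N5627 (iv F6018)) (tt N5632 (iv F8002)) (tt N1585 (iv D3752)))
theorem Q3169 : ∀ i, i < 3169 → P i := stepQ 3168 Q3168 (allL N3168 (tt N1586 (iv D3753)) (tt N5406 (iv F5640)) (tt N5642 D6517) (tt N5315 (iv F5507)) (tt N5643 D6518))
theorem Q3170 : ∀ i, i < 3170 → P i := stepQ 3169 Q3169 (allL N3169 (tt N5643 (iv F6032)) (tt N5545 (iv F5886)) (tt N4125 (iv F7940)) (tt N1669 F2762) (tt N1586 (iv D3754)))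
theorem Q3171 : ∀ i, i < 3171 → P i := stepQ 3170 Q3170 (allL N3170 (tt N4747 (iv F4606)) (tt N1590 F2763) (tt N4379 (iv F4130)) (tt N4378 F4127) (tt N1587 (iv D3755)))
theorem Q3172 : ∀ i, i < 3172 → P i := stepQ 3171 Q3171 (allL N3171 (tt N5622 (iv F6005)) (tt N2795 F2764) (tt N1602 F2765) (tt N5644 D6520) (tt N1588 (iv D3756)))
theorem Q3173 : ∀ i, i < 3173 → P i := stepQ 3172 Q3172 (allL N3172 (tt N5629 (iv F6021)) (tt N4331 (iv F4072)) (tt N4072 (iv F3792)) (tt N5645 D6521) (tt N1589 (iv D3757)))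
theorem Q3174 : ∀ i, i < 3174 → P i := stepQ 3173 Q3173 (allL N3173 (tt N5624 (iv F6010)) (tt N5646 D6522) (tt N1590 (iv D3758)) (tt N4126 F6011) (tt N5647 D6523))
theorem Q3175 : ∀ i, i < 3175 → P i := stepQ 3174 Q3174 (allL N3174 (tt N5648 D6524) (tt N4378 (iv F4128)) (tt N4126 (iv F6012)) (tt N1590 (iv D3759)) (tt N5649 D6525))
theorem Q3176 : ∀ i, i < 3176 → P i := stepQ 3175 Q3175 (allL N3175 (tt N1594 F2766) (tt N4513 (iv F4295)) (tt N2433 F2767) (tt N2432 F2768) (tt N1591 (iv D3760)))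
theorem Q3177 : ∀ i, i < 3177 → P i := stepQ 3176 Q3176 (allL N3176 (tt N2404 F2769) (tt N1613 F2770) (tt N5650 D6526) (tt N2346 F2771) (tt N1592 (iv D3761)))
theorem Q3178 : ∀ i, i < 3178 → P i := stepQ 3177 Q3177 (allL N3177 (tt N2367 F2772) (tt N1596 F2773) (tt N2351 F2774) (tt N5651 D6527) (tt N1593 (iv D3762)))
theorem Q3179 : ∀ i, i < 3179 → P i := stepQ 3178 Q3178 (allL N3178 (tt N2406 F2775) (tt N5652 D6528) (tt N1594 (iv D3763)) (tt N2363 (iv F2776)) (tt N5653 D6529))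
theorem Q3180 : ∀ i, i < 3180 → P i := stepQ 3179 Q3179 (allL N3179 (tt N2368 F2777) (tt N1598 F2778) (tt N2363 F2779) (tt N1594 (iv D3764)) (tt N5654 D6530))
theorem Q3181 : ∀ i, i < 3181 → P i := stepQ 3180 Q3180 (allL N3180 (tt N3850 F3536) (tt N1595 (iv D3765)) (tt N4623 (iv F4494)) (tt N4622 (iv F4488)) (tt N5655 D6531))
theorem Q3182 : ∀ i, i < 3182 → P i := stepQ 3181 Q3181 (allL N3181 (tt N5621 (iv F6002)) (tt N3181 F4491) (tt N1595 (iv D3766)) (tt N4066 (iv F4490)) (tt N5656 D6532))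
theorem Q3183 : ∀ i, i < 3183 → P i := stepQ 3182 Q3182 (allL N3182 (tt N5314 (iv F5503)) (tt N4622 F4487) (tt N4066 F4489) (tt N1595 (iv D3767)) (tt N5657 D6533))
theorem Q3184 : ∀ i, i < 3184 → P i := stepQ 3183 Q3183 (allL N3183 (tt N1596 F2780) (tt N5655 (iv F6057)) (tt N5658 D6534) (tt N5659 D6535) (tt N1595 (iv D3768)))
theorem Q3185 : ∀ i, i < 3185 → P i := stepQ 3184 Q3184 (allL N3184 (tt N5660 D6536) (tt N5661 D6537) (tt N1596 (iv D3769)) (tt N5662 D6538) (tt N5663 D6539))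
theorem Q3186 : ∀ i, i < 3186 → P i := stepQ 3185 Q3185 (allL N3185 (tt N5645 (iv F6036)) (tt N5651 (iv F6043)) (tt N5662 (iv F6066)) (tt N1596 (iv D3770)) (tt N1673 F6067))
theorem Q3187 : ∀ i, i < 3187 → P i := stepQ 3186 Q3186 (allL N3186 (tt N2493 F2781) (tt N1597 (iv D3771)) (tt N5664 D6540) (tt N5665 D6541) (tt N3073 (iv F2794)))
theorem Q3188 : ∀ i, i < 3188 → P i := stepQ 3187 Q3187 (allL N3187 (tt N5666 D6542) (tt N5665 (iv F6083)) (tt N1598 F2811) (tt N1597 (iv D3772)) (tt N5667 D6543))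
theorem Q3189 : ∀ i, i < 3189 → P i := stepQ 3188 Q3188 (allL N3188 (tt N5627 (iv F6016)) (tt N3073 F2812) (tt N1605 F2813) (tt N5663 F6077) (tt N1597 (iv D3773)))
theorem Q3190 : ∀ i, i < 3190 → P i := stepQ 3189 Q3189 (allL N3189 (tt N1598 (iv D3774)) (tt N5668 D6544) (tt N5669 D6545) (tt N5657 (iv F6060)) (tt N5670 D6546))
theorem Q3191 : ∀ i, i < 3191 → P i := stepQ 3190 Q3190 (allL N3190 (tt N5670 (iv F6088)) (tt N5654 (iv F6055)) (tt N1607 F6071) (tt N1673 F6072) (tt N1598 (iv D3775)))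
theorem Q3192 : ∀ i, i < 3192 → P i := stepQ 3191 Q3191 (allL N3191 (tt N5623 (iv F6008)) (tt N3970 (iv F3693)) (tt N5660 (iv F6061)) (tt N4076 (iv F3794)) (tt N1599 (iv D3776)))
theorem Q3193 : ∀ i, i < 3193 → P i := stepQ 3192 Q3192 (allL N3192 (tt N5671 D6547) (tt N5672 D6548) (tt N1600 (iv D3777)) (tt N5327 (iv F5525)) (tt N5673 D6549))
theorem Q3194 : ∀ i, i < 3194 → P i := stepQ 3193 Q3193 (allL N3193 (tt N1601 (iv D3778)) (tt N5674 D6550) (tt N5656 (iv F6059)) (tt N5675 D6551) (tt N5676 D6552))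
theorem Q3195 : ∀ i, i < 3195 → P i := stepQ 3194 Q3194 (allL N3194 (tt N2839 F2815) (tt N1601 (iv D3779)) (tt N5677 D6553) (tt N1671 F2814) (tt N5678 D6554))
theorem Q3196 : ∀ i, i < 3196 → P i := stepQ 3195 Q3195 (allL N3195 (tt N5676 (iv F6091)) (tt N5678 (iv F6097)) (tt N5663 (iv F6076)) (tt N1605 F6078) (tt N1601 (iv D3780)))
theorem Q3197 : ∀ i, i < 3197 → P i := stepQ 3196 Q3196 (allL N3196 (tt N5679 D6555) (tt N1602 (iv D3781)) (tt N5680 D6556) (tt N5681 D6557) (tt N5682 D6558))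
theorem Q3198 : ∀ i, i < 3198 → P i := stepQ 3197 Q3197 (allL N3197 (tt N5642 (iv F6031)) (tt N5681 (iv F6103)) (tt N5644 (iv F6035)) (tt N1602 (iv D3782)) (tt N5683 D6559))
theorem Q3199 : ∀ i, i < 3199 → P i := stepQ 3198 Q3198 (allL N3198 (tt N1605 F2816) (tt N5682 (iv F6104)) (tt N5647 (iv F6039)) (tt N5684 D6560) (tt N1602 (iv D3783)))
theorem Q3200 : ∀ i, i < 3200 → P i := stepQ 3199 Q3199 (allL N3199 (tt N1603 (iv D3784)) (tt N5582 (iv F5938)) (tt N3124 (iv F2818)) (tt N2827 F2817) (tt N5685 D6561))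
theorem Q3201 : ∀ i, i < 3201 → P i := stepQ 3200 Q3200 (allL N3200 (tt N5686 D6562) (tt N1622 F2819) (tt N1603 (iv D3785)) (tt N5687 D6563) (tt N5688 D6564))
theorem Q3202 : ∀ i, i < 3202 → P i := stepQ 3201 Q3201 (allL N3201 (tt N5689 D6565) (tt N1604 F2820) (tt N5687 (iv F6116)) (tt N1603 (iv D3786)) (tt N5690 D6566))
theorem Q3203 : ∀ i, i < 3203 → P i := stepQ 3202 Q3202 (allL N3202 (tt N5685 (iv F6107)) (tt N1605 F2821) (tt N5691 D6567) (tt N5678 F6099) (tt N1603 (iv D3787)))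
theorem Q3204 : ∀ i, i < 3204 → P i := stepQ 3203 Q3203 (allL N3203 (tt N1604 (iv D3788)) (tt N5692 D6568) (tt N5693 D6569) (tt N5694 D6570) (tt N5695 D6571))
theorem Q3205 : ∀ i, i < 3205 → P i := stepQ 3204 Q3204 (allL N3204 (tt N5695 (iv F6137)) (tt N5690 (iv F6130)) (tt N5667 (iv F6086)) (tt N1672 F6079) (tt N1604 (iv D3789)))
theorem Q3206 : ∀ i, i < 3206 → P i := stepQ 3205 Q3205 (allL N3205 (tt N5634 (iv F6025)) (tt N5696 D6572) (tt N1606 (iv D3791)) (tt N5316 (iv F5508)) (tt N5697 D6573))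
theorem Q3207 : ∀ i, i < 3207 → P i := stepQ 3206 Q3206 (allL N3206 (tt N1607 F2822) (tt N5320 (iv F5512)) (tt N5698 D6574) (tt N5328 (iv F5527)) (tt N1606 (iv D3792)))
theorem Q3208 : ∀ i, i < 3208 → P i := stepQ 3207 Q3207 (allL N3207 (tt N2534 F2824) (tt N1611 F2825) (tt N2526 F2826) (tt N4789 (iv F4687)) (tt N1608 (iv D3794)))
theorem Q3209 : ∀ i, i < 3209 → P i := stepQ 3208 Q3208 (allL N3208 (tt N4648 (iv F4514)) (tt N4795 (iv F4697)) (tt N5699 D6575) (tt N5398 (iv F5629)) (tt N1609 (iv D3795)))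
theorem Q3210 : ∀ i, i < 3210 → P i := stepQ 3209 Q3209 (allL N3209 (tt N1610 (iv D3796)) (tt N2988 F2827) (tt N4652 (iv F4519)) (tt N3856 (iv F3540)) (tt N5700 D6576))
theorem Q3211 : ∀ i, i < 3211 → P i := stepQ 3210 Q3210 (allL N3210 (tt N5700 (iv F6139)) (tt N4767 (iv F4644)) (tt N5701 D6577) (tt N1903 F2828) (tt N1610 (iv D3797)))
theorem Q3212 : ∀ i, i < 3212 → P i := stepQ 3211 Q3211 (allL N3211 (tt N4650 (iv F4517)) (tt N4847 (iv F4766)) (tt N1611 (iv D3798)) (tt N5702 D6578) (tt N5703 D6579))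
theorem Q3213 : ∀ i, i < 3213 → P i := stepQ 3212 Q3212 (allL N3212 (tt N5704 D6580) (tt N4789 F4688) (tt N5702 (iv F6143)) (tt N1611 (iv D3799)) (tt N5705 D6581))
theorem Q3214 : ∀ i, i < 3214 → P i := stepQ 3213 Q3213 (allL N3213 (tt N1612 (iv D3800)) (tt N5706 D6582) (tt N3398 F3020) (tt N4078 (iv F3797)) (tt N5707 D6583))
theorem Q3215 : ∀ i, i < 3215 → P i := stepQ 3214 Q3214 (allL N3214 (tt N5707 (iv F6146)) (tt N2340 F2829) (tt N5708 D6584) (tt N5709 D6585) (tt N1612 (iv D3801)))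
theorem Q3216 : ∀ i, i < 3216 → P i := stepQ 3215 Q3215 (allL N3215 (tt N5699 (iv F6138)) (tt N5710 D6586) (tt N1613 (iv D3802)) (tt N5711 D6587) (tt N5712 D6588))
theorem Q3217 : ∀ i, i < 3217 → P i := stepQ 3216 Q3216 (allL N3216 (tt N5713 D6589) (tt N2346 F2830) (tt N5711 (iv F6151)) (tt N1613 (iv D3803)) (tt N5714 D6590))
theorem Q3218 : ∀ i, i < 3218 → P i := stepQ 3217 Q3217 (allL N3217 (tt N4647 (iv F4511)) (tt N2051 F2831) (tt N1614 (iv D3804)) (tt N3857 (iv F3541)) (tt N5715 D6591))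
theorem Q3219 : ∀ i, i < 3219 → P i := stepQ 3218 Q3218 (allL N3218 (tt N1615 F2832) (tt N3859 (iv F3546)) (tt N5716 D6592) (tt N3936 (iv F3652)) (tt N1614 (iv D3805)))
theorem Q3220 : ∀ i, i < 3220 → P i := stepQ 3219 Q3219 (allL N3219 (tt N5717 D6593) (tt N2668 F2834) (tt N1615 (iv D3806)) (tt N1904 F2833) (tt N5718 D6594))
theorem Q3221 : ∀ i, i < 3221 → P i := stepQ 3220 Q3220 (allL N3220 (tt N2620 F2970) (tt N1616 (iv D3807)) (tt N1781 F2835) (tt N5719 D6595) (tt N5691 (iv F6134)))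
theorem Q3222 : ∀ i, i < 3222 → P i := stepQ 3221 Q3221 (allL N3221 (tt N5720 D6596) (tt N5719 (iv F6165)) (tt N1617 F2836) (tt N1616 (iv D3808)) (tt N5721 D6597))
theorem Q3223 : ∀ i, i < 3223 → P i := stepQ 3222 Q3222 (allL N3222 (tt N4659 (iv F4523)) (tt N5691 F6136) (tt N5712 (iv F6153)) (tt N5718 F6163) (tt N1616 (iv D3809)))
theorem Q3224 : ∀ i, i < 3224 → P i := stepQ 3223 Q3223 (allL N3223 (tt N1617 (iv D3810)) (tt N3860 (iv F3550)) (tt N5722 D6598) (tt N3858 (iv F3544)) (tt N5723 D6599))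
theorem Q3225 : ∀ i, i < 3225 → P i := stepQ 3224 Q3224 (allL N3224 (tt N5723 (iv F6170)) (tt N1618 F2837) (tt N5714 F6155) (tt N1677 F3388) (tt N1617 (iv D3811)))
theorem Q3226 : ∀ i, i < 3226 → P i := stepQ 3225 Q3225 (allL N3225 (tt N1619 (iv D3812)) (tt N5724 D6600) (tt N5725 D6601) (tt N5726 D6602) (tt N5727 D6603))
theorem Q3227 : ∀ i, i < 3227 → P i := stepQ 3226 Q3226 (allL N3226 (tt N5728 D6604) (tt N5677 (iv F6093)) (tt N1619 (iv D3813)) (tt N1675 F2839) (tt N5729 D6605))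
theorem Q3228 : ∀ i, i < 3228 → P i := stepQ 3227 Q3227 (allL N3227 (tt N5727 (iv F6177)) (tt N1620 F2840) (tt N5730 D6606) (tt N1624 (iv F2841)) (tt N1619 (iv D3814)))
theorem Q3229 : ∀ i, i < 3229 → P i := stepQ 3228 Q3228 (allL N3228 (tt N2888 F2842) (tt N1621 (iv D3815)) (tt N4742 (iv F4598)) (tt N5731 D6607) (tt N4729 F4582))
theorem Q3230 : ∀ i, i < 3230 → P i := stepQ 3229 Q3229 (allL N3229 (tt N5732 D6608) (tt N5733 D6609) (tt N1621 (iv D3816)) (tt N5423 (iv F6198)) (tt N5734 D6611))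
theorem Q3231 : ∀ i, i < 3231 → P i := stepQ 3230 Q3230 (allL N3230 (tt N5735 D6612) (tt N5731 (iv F6186)) (tt N5423 (iv F6197)) (tt N1621 (iv D3817)) (tt N5736 D6613))
theorem Q3232 : ∀ i, i < 3232 → P i := stepQ 3231 Q3231 (allL N3231 (tt N1624 F2843) (tt N4729 (iv F4581)) (tt N5737 D6614) (tt N5738 D6615) (tt N1621 (iv D3818)))
theorem Q3233 : ∀ i, i < 3233 → P i := stepQ 3232 Q3232 (allL N3232 (tt N1622 (iv D3819)) (tt N5739 D6616) (tt N5740 D6617) (tt N5741 D6618) (tt N2477 F6124))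
theorem Q3234 : ∀ i, i < 3234 → P i := stepQ 3233 Q3233 (allL N3233 (tt N5742 D6619) (tt N5687 (iv F6115)) (tt N1623 F2844) (tt N1622 (iv D3820)) (tt N5743 D6620))
theorem Q3235 : ∀ i, i < 3235 → P i := stepQ 3234 Q3234 (allL N3234 (tt N2477 F6120) (tt N5688 (iv F6118)) (tt N5744 D6621) (tt N5729 F6181) (tt N1622 (iv D3821)))
theorem Q3236 : ∀ i, i < 3236 → P i := stepQ 3235 Q3235 (allL N3235 (tt N1623 (iv D3822)) (tt N5745 D6622) (tt N5746 D6623) (tt N5747 D6624) (tt N5748 D6625))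
theorem Q3237 : ∀ i, i < 3237 → P i := stepQ 3236 Q3236 (allL N3236 (tt N5748 (iv F6215)) (tt N1625 F2845) (tt N5749 D6626) (tt N1676 F2846) (tt N1623 (iv D3823)))
theorem Q3238 : ∀ i, i < 3238 → P i := stepQ 3237 Q3237 (allL N3237 (tt N5750 D6627) (tt N5653 (iv F6049)) (tt N1624 (iv D3824)) (tt N5730 (iv F6182)) (tt N5652 F6051))
theorem Q3239 : ∀ i, i < 3239 → P i := stepQ 3238 Q3238 (allL N3238 (tt N1632 F2850) (tt N1626 (iv D3828)) (tt N2529 F2851) (tt N5751 D6628) (tt N2523 (iv F2852)))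
theorem Q3240 : ∀ i, i < 3240 → P i := stepQ 3239 Q3239 (allL N3239 (tt N5633 (iv F6024)) (tt N5752 D6629) (tt N1626 (iv D3829)) (tt N5753 D6630) (tt N5754 D6631))
theorem Q3241 : ∀ i, i < 3241 → P i := stepQ 3240 Q3240 (allL N3240 (tt N5755 D6632) (tt N5751 (iv F6222)) (tt N5753 (iv F6226)) (tt N1626 (iv D3830)) (tt N5756 D6633))
theorem Q3242 : ∀ i, i < 3242 → P i := stepQ 3241 Q3241 (allL N3241 (tt N1629 F2853) (tt N2523 F2854) (tt N5757 D6634) (tt N5758 D6635) (tt N1626 (iv D3831)))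
theorem Q3243 : ∀ i, i < 3243 → P i := stepQ 3242 Q3242 (allL N3242 (tt N1627 (iv D3832)) (tt N5759 D6636) (tt N5760 D6637) (tt N5761 D6638) (tt N5762 D6639))
theorem Q3244 : ∀ i, i < 3244 → P i := stepQ 3243 Q3243 (allL N3243 (tt N5584 (iv F5941)) (tt N1627 (iv D3833)) (tt N1756 F2855) (tt N5763 D6640) (tt N5764 D6641))
theorem Q3245 : ∀ i, i < 3245 → P i := stepQ 3244 Q3244 (allL N3244 (tt N5765 D6642) (tt N5763 (iv F6232)) (tt N1628 F2856) (tt N1627 (iv D3834)) (tt N5766 D6643))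
theorem Q3246 : ∀ i, i < 3246 → P i := stepQ 3245 Q3245 (allL N3245 (tt N5762 (iv F6231)) (tt N5764 (iv F6234)) (tt N5767 D6644) (tt N5768 D6645) (tt N1627 (iv D3835)))
theorem Q3247 : ∀ i, i < 3247 → P i := stepQ 3246 Q3246 (allL N3246 (tt N1628 (iv D3836)) (tt N5769 D6646) (tt N5770 D6647) (tt N5771 D6648) (tt N5772 D6649))
theorem Q3248 : ∀ i, i < 3248 → P i := stepQ 3247 Q3247 (allL N3247 (tt N5772 (iv F6243)) (tt N1630 F2857) (tt N5773 D6650) (tt N1667 (iv F2858)) (tt N1628 (iv D3837)))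
theorem Q3249 : ∀ i, i < 3249 → P i := stepQ 3248 Q3248 (allL N3248 (tt N5774 D6651) (tt N5775 D6652) (tt N1629 (iv D3838)) (tt N5776 D6653) (tt N5777 D6654))
theorem Q3250 : ∀ i, i < 3250 → P i := stepQ 3249 Q3249 (allL N3249 (tt N5778 D6655) (tt N1631 F2859) (tt N5776 (iv F6249)) (tt N1629 (iv D3839)) (tt N1666 F2860))
theorem Q3251 : ∀ i, i < 3251 → P i := stepQ 3250 Q3250 (allL N3250 (tt N3250 F2865) (tt N1634 F2863) (tt N2554 (iv F2872)) (tt N1632 (iv D3841)) (tt N2547 F2875))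
theorem Q3252 : ∀ i, i < 3252 → P i := stepQ 3251 Q3251 (allL N3251 (tt N1633 (iv D3842)) (tt N2819 F2866) (tt N5779 D6656) (tt N5780 D6657) (tt N5781 D6658))
theorem Q3253 : ∀ i, i < 3253 → P i := stepQ 3252 Q3252 (allL N3252 (tt N5782 D6659) (tt N1633 (iv D3843)) (tt N2586 F2867) (tt N5783 D6660) (tt N2576 (iv F2868)))
theorem Q3254 : ∀ i, i < 3254 → P i := stepQ 3253 Q3253 (allL N3253 (tt N5784 D6661) (tt N5783 (iv F6266)) (tt N1634 F2869) (tt N1633 (iv D3844)) (tt N5785 D6662))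
theorem Q3255 : ∀ i, i < 3255 → P i := stepQ 3254 Q3254 (allL N3254 (tt N5781 (iv F6259)) (tt N2576 F2870) (tt N5786 D6663) (tt N5787 D6664) (tt N1633 (iv D3845)))
theorem Q3256 : ∀ i, i < 3256 → P i := stepQ 3255 Q3255 (allL N3255 (tt N1634 (iv D3846)) (tt N2990 F2871) (tt N5788 D6665) (tt N5789 D6666) (tt N5790 D6667))
theorem Q3257 : ∀ i, i < 3257 → P i := stepQ 3256 Q3256 (allL N3256 (tt N5790 (iv F6277)) (tt N2547 F2876) (tt N5791 D6668) (tt N1661 F2877) (tt N1634 (iv D3847)))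
theorem Q3258 : ∀ i, i < 3258 → P i := stepQ 3257 Q3257 (allL N3257 (tt N5792 D6669) (tt N5793 D6670) (tt N1635 (iv D3848)) (tt N5794 D6671) (tt N5795 D6672))
theorem Q3259 : ∀ i, i < 3259 → P i := stepQ 3258 Q3258 (allL N3258 (tt N5796 D6673) (tt N2549 F2878) (tt N5794 (iv F6284)) (tt N1635 (iv D3849)) (tt N1660 F2879))
theorem Q3260 : ∀ i, i < 3260 → P i := stepQ 3259 Q3259 (allL N3259 (tt N5797 D6674) (tt N1636 (iv D3850)) (tt N2611 F2880) (tt N5798 D6675) (tt N5799 D6676))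
theorem Q3261 : ∀ i, i < 3261 → P i := stepQ 3260 Q3260 (allL N3260 (tt N5779 (iv F6254)) (tt N5740 (iv F6206)) (tt N1636 (iv D3851)) (tt N5800 D6677) (tt N5801 D6678))
theorem Q3262 : ∀ i, i < 3262 → P i := stepQ 3261 Q3261 (allL N3261 (tt N5788 (iv F6273)) (tt N5798 (iv F6291)) (tt N5800 (iv F6301)) (tt N1636 (iv D3852)) (tt N5802 D6679))
theorem Q3263 : ∀ i, i < 3263 → P i := stepQ 3262 Q3262 (allL N3262 (tt N1638 F2881) (tt N5799 (iv F6299)) (tt N5803 D6680) (tt N5804 D6681) (tt N1636 (iv D3853)))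
theorem Q3264 : ∀ i, i < 3264 → P i := stepQ 3263 Q3263 (allL N3263 (tt N1637 (iv D3854)) (tt N5805 D6682) (tt N5806 D6683) (tt N5807 D6684) (tt N5808 D6685))
theorem Q3265 : ∀ i, i < 3265 → P i := stepQ 3264 Q3264 (allL N3264 (tt N5808 (iv F6307)) (tt N4914 F4899) (tt N5809 D6686) (tt N1656 F4849) (tt N1637 (iv D3855)))
theorem Q3266 : ∀ i, i < 3266 → P i := stepQ 3265 Q3265 (allL N3265 (tt N5786 (iv F6268)) (tt N4687 (iv F4555)) (tt N1638 (iv D3856)) (tt N1657 F4844) (tt N4528 F4440))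
theorem Q3267 : ∀ i, i < 3267 → P i := stepQ 3266 Q3266 (allL N3266 (tt N3266 F2882) (tt N1639 (iv D3858)) (tt N2002 (iv F3364)) (tt N1972 F2885) (tt N1969 (iv F2886)))
theorem Q3268 : ∀ i, i < 3268 → P i := stepQ 3267 Q3267 (allL N3267 (tt N5780 (iv F6258)) (tt N5810 D6687) (tt N1639 (iv D3859)) (tt N5811 D6688) (tt N5812 D6689))
theorem Q3269 : ∀ i, i < 3269 → P i := stepQ 3268 Q3268 (allL N3268 (tt N5789 (iv F6274)) (tt N1972 (iv F2884)) (tt N5811 (iv F6319)) (tt N1639 (iv D3860)) (tt N1650 F2883))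
theorem Q3270 : ∀ i, i < 3270 → P i := stepQ 3269 Q3269 (allL N3269 (tt N1640 F2887) (tt N1969 F2888) (tt N5813 D6690) (tt N1648 F2889) (tt N1639 (iv D3861)))
theorem Q3271 : ∀ i, i < 3271 → P i := stepQ 3270 Q3270 (allL N3270 (tt N5814 D6691) (tt N4530 (iv F5739)) (tt N1640 (iv D3862)) (tt N1662 F2890) (tt N4529 F5738))
theorem Q3272 : ∀ i, i < 3272 → P i := stepQ 3271 Q3271 (allL N3271 (tt N1641 (iv D3863)) (tt N2454 (iv F4422)) (tt N5801 (iv F6302)) (tt N5815 D6692) (tt N4527 (iv F4439)))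
theorem Q3273 : ∀ i, i < 3273 → P i := stepQ 3272 Q3272 (allL N3272 (tt N1642 (iv D3871)) (tt N5816 D6693) (tt N1992 F2896) (tt N5817 D6694) (tt N1968 F2895))
theorem Q3274 : ∀ i, i < 3274 → P i := stepQ 3273 Q3273 (allL N3273 (tt N1652 F2897) (tt N3011 F2898) (tt N1643 (iv D3872)) (tt N5818 D6695) (tt N5819 D6696))
theorem Q3275 : ∀ i, i < 3275 → P i := stepQ 3274 Q3274 (allL N3274 (tt N1659 F2900) (tt N2766 F2899) (tt N5818 (iv F6341)) (tt N1643 (iv D3873)) (tt N5820 D6697))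
theorem Q3276 : ∀ i, i < 3276 → P i := stepQ 3275 Q3275 (allL N3275 (tt N1646 F2901) (tt N2767 F2902) (tt N5821 D6698) (tt N5781 F6261) (tt N1643 (iv D3874)))
theorem Q3277 : ∀ i, i < 3277 → P i := stepQ 3276 Q3276 (allL N3276 (tt N1644 (iv D3875)) (tt N2768 F2903) (tt N2062 F2905) (tt N5822 D6699) (tt N2053 F2904))
theorem Q3278 : ∀ i, i < 3278 → P i := stepQ 3277 Q3277 (allL N3277 (tt N5823 D6700) (tt N1645 F2906) (tt N2091 F3784) (tt N1644 (iv D3876)) (tt N2074 F3785))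
theorem Q3279 : ∀ i, i < 3279 → P i := stepQ 3278 Q3278 (allL N3278 (tt N1645 (iv D3877)) (tt N4068 (iv F3781)) (tt N5824 D6701) (tt N5825 D6702) (tt N5826 D6703))
theorem Q3280 : ∀ i, i < 3280 → P i := stepQ 3279 Q3279 (allL N3279 (tt N5826 (iv F6363)) (tt N2074 F3787) (tt N5827 D6704) (tt N5812 (iv F6322)) (tt N1645 (iv D3878)))
theorem Q3281 : ∀ i, i < 3281 → P i := stepQ 3280 Q3280 (allL N3280 (tt N1657 F2908) (tt N5828 D6705) (tt N1646 (iv D3879)) (tt N5829 D6706) (tt N4533 (iv F4317)))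
theorem Q3282 : ∀ i, i < 3282 → P i := stepQ 3281 Q3281 (allL N3281 (tt N5830 D6707) (tt N2076 F2909) (tt N5829 (iv F6367)) (tt N1646 (iv D3880)) (tt N5811 (iv F6320)))
theorem Q3283 : ∀ i, i < 3283 → P i := stepQ 3282 Q3282 (allL N3282 (tt N1653 F2910) (tt N5831 D6708) (tt N1647 (iv D3881)) (tt N5832 D6709) (tt N5833 D6710))
theorem Q3284 : ∀ i, i < 3284 → P i := stepQ 3283 Q3283 (allL N3283 (tt N1660 F2911) (tt N3026 F2912) (tt N5832 (iv F6376)) (tt N1647 (iv D3882)) (tt N5796 (iv F6287)))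
theorem Q3285 : ∀ i, i < 3285 → P i := stepQ 3284 Q3284 (allL N3284 (tt N1648 F2913) (tt N4146 (iv F3876)) (tt N5834 D6711) (tt N5790 (iv F6279)) (tt N1647 (iv D3883)))
theorem Q3286 : ∀ i, i < 3286 → P i := stepQ 3285 Q3285 (allL N3285 (tt N5835 D6712) (tt N5836 D6713) (tt N1648 (iv D3884)) (tt N5813 (iv F6323)) (tt N5837 D6714))
theorem Q3287 : ∀ i, i < 3287 → P i := stepQ 3286 Q3286 (allL N3286 (tt N1649 (iv D3885)) (tt N3630 (iv F3246)) (tt N5819 (iv F6345)) (tt N5792 (iv F6281)) (tt N5838 D6715))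
theorem Q3288 : ∀ i, i < 3288 → P i := stepQ 3287 Q3287 (allL N3287 (tt N5839 D6716) (tt N1649 (iv D3886)) (tt N1953 F2914) (tt N5840 D6717) (tt N2212 (iv F2915)))
theorem Q3289 : ∀ i, i < 3289 → P i := stepQ 3288 Q3288 (allL N3288 (tt N5841 D6718) (tt N5840 (iv F6385)) (tt N1650 F2916) (tt N1649 (iv D3887)) (tt N5842 D6719))
theorem Q3290 : ∀ i, i < 3290 → P i := stepQ 3289 Q3289 (allL N3289 (tt N5838 (iv F6380)) (tt N2212 F2917) (tt N4533 (iv F4318)) (tt N5837 (iv F7157)) (tt N1649 (iv D3888)))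
theorem Q3291 : ∀ i, i < 3291 → P i := stepQ 3290 Q3290 (allL N3290 (tt N1650 (iv D3889)) (tt N4270 (iv F4002)) (tt N5843 D6721) (tt N5796 (iv F6286)) (tt N5789 F6276))
theorem Q3292 : ∀ i, i < 3292 → P i := stepQ 3291 Q3291 (allL N3291 (tt N1651 (iv D3890)) (tt N2769 F2918) (tt N2643 F2919) (tt N5844 D6722) (tt N5845 D6723))
theorem Q3293 : ∀ i, i < 3293 → P i := stepQ 3292 Q3292 (allL N3292 (tt N5846 D6724) (tt N1653 F2920) (tt N2654 F2921) (tt N1651 (iv D3891)) (tt N5847 D6725))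
theorem Q3294 : ∀ i, i < 3294 → P i := stepQ 3293 Q3293 (allL N3293 (tt N5845 (iv F6391)) (tt N1654 F2922) (tt N2662 F2923) (tt N5848 D6726) (tt N1651 (iv D3892)))
theorem Q3295 : ∀ i, i < 3295 → P i := stepQ 3294 Q3294 (allL N3294 (tt N5824 (iv F6361)) (tt N5288 (iv F5481)) (tt N1653 F2924) (tt N1652 (iv D3893)) (tt N5849 D6727))
theorem Q3296 : ∀ i, i < 3296 → P i := stepQ 3295 Q3295 (allL N3295 (tt N5819 (iv F6343)) (tt N5289 (iv F5483)) (tt N1663 F2925) (tt N5850 D6728) (tt N1652 (iv D3894)))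
theorem Q3297 : ∀ i, i < 3297 → P i := stepQ 3296 Q3296 (allL N3296 (tt N5833 (iv F6377)) (tt N5847 (iv F6394)) (tt N5851 D6729) (tt N5808 (iv F6308)) (tt N1653 (iv D3895)))
theorem Q3298 : ∀ i, i < 3298 → P i := stepQ 3297 Q3297 (allL N3297 (tt N5821 (iv F6348)) (tt N2297 F2926) (tt N1654 (iv D3896)) (tt N5852 D6730) (tt N4531 (iv F4315)))
theorem Q3299 : ∀ i, i < 3299 → P i := stepQ 3298 Q3298 (allL N3298 (tt N5853 D6731) (tt N5848 (iv F6396)) (tt N5852 (iv F6406)) (tt N1654 (iv D3897)) (tt N5807 (iv F6306)))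
theorem Q3300 : ∀ i, i < 3300 → P i := stepQ 3299 Q3299 (allL N3299 (tt N5854 D6732) (tt N1655 (iv D3898)) (tt N2704 (iv F4738)) (tt N5855 D6733) (tt N5856 D6734))
theorem Q3301 : ∀ i, i < 3301 → P i := stepQ 3300 Q3300 (allL N3300 (tt N5818 (iv F6342)) (tt N5857 D6735) (tt N1655 (iv D3899)) (tt N5858 D6736) (tt N5859 D6737))
theorem Q3302 : ∀ i, i < 3302 → P i := stepQ 3301 Q3301 (allL N3301 (tt N5832 (iv F6374)) (tt N5855 (iv F6408)) (tt N5858 (iv F6413)) (tt N1655 (iv D3900)) (tt N5804 (iv F6304)))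
theorem Q3303 : ∀ i, i < 3303 → P i := stepQ 3302 Q3302 (allL N3302 (tt N1656 F2927) (tt N5856 (iv F6410)) (tt N5860 D6738) (tt N5802 (iv F6303)) (tt N1655 (iv D3901)))
theorem Q3304 : ∀ i, i < 3304 → P i := stepQ 3303 Q3303 (allL N3303 (tt N5861 D6739) (tt N4695 (iv F5740)) (tt N1656 (iv D3902)) (tt N5809 (iv F6309)) (tt N4534 F5737))
theorem Q3305 : ∀ i, i < 3305 → P i := stepQ 3304 Q3304 (allL N3304 (tt N1658 (iv D3907)) (tt N1664 F2929) (tt N2711 (iv F3395)) (tt N5862 D6740) (tt N5863 D6741))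
theorem Q3306 : ∀ i, i < 3306 → P i := stepQ 3305 Q3305 (allL N3305 (tt N3305 F2931) (tt N1660 F2930) (tt N2563 (iv F3397)) (tt N1658 (iv D3909)) (tt N2549 (iv F2932)))
theorem Q3307 : ∀ i, i < 3307 → P i := stepQ 3306 Q3306 (allL N3306 (tt N5863 (iv F6420)) (tt N1661 F2933) (tt N2548 (iv F2935)) (tt N2547 F2934) (tt N1658 (iv D3910)))
theorem Q3308 : ∀ i, i < 3308 → P i := stepQ 3307 Q3307 (allL N3307 (tt N5864 D6742) (tt N1659 (iv D3911)) (tt N5865 D6743) (tt N5866 D6744) (tt N5867 D6745))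
theorem Q3309 : ∀ i, i < 3309 → P i := stepQ 3308 Q3308 (allL N3308 (tt N5825 (iv F6362)) (tt N5866 (iv F6433)) (tt N1660 F2936) (tt N1659 (iv D3912)) (tt N5787 (iv F6270)))
theorem Q3310 : ∀ i, i < 3310 → P i := stepQ 3309 Q3309 (allL N3309 (tt N5820 (iv F6346)) (tt N5867 (iv F6436)) (tt N5861 (iv F6415)) (tt N5785 (iv F6271)) (tt N1659 (iv D3913)))
theorem Q3311 : ∀ i, i < 3311 → P i := stepQ 3310 Q3310 (allL N3310 (tt N5868 D6746) (tt N5869 D6747) (tt N1661 (iv D3914)) (tt N5791 (iv F6280)) (tt N5870 D6748))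
theorem Q3312 : ∀ i, i < 3312 → P i := stepQ 3311 Q3311 (allL N3311 (tt N1662 (iv D3915)) (tt N5871 D6749) (tt N5859 (iv F6414)) (tt N5872 D6750) (tt N4535 F5736))
theorem Q3313 : ∀ i, i < 3313 → P i := stepQ 3312 Q3312 (allL N3312 (tt N5843 (iv F6388)) (tt N2265 F2937) (tt N5850 (iv F6404)) (tt N1663 (iv D3918)) (tt N5873 D6751))
theorem Q3314 : ∀ i, i < 3314 → P i := stepQ 3313 Q3313 (allL N3313 (tt N5874 D6752) (tt N5875 D6753) (tt N1664 (iv D3919)) (tt N5876 D6754) (tt N5877 D6755))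
theorem Q3315 : ∀ i, i < 3315 → P i := stepQ 3314 Q3314 (allL N3314 (tt N5878 D6756) (tt N5862 (iv F6417)) (tt N5876 (iv F6450)) (tt N1664 (iv D3920)) (tt N5758 (iv F6230)))
theorem Q3316 : ∀ i, i < 3316 → P i := stepQ 3315 Q3315 (allL N3315 (tt N1667 F2938) (tt N5863 (iv F6421)) (tt N5879 D6757) (tt N5756 (iv F6228)) (tt N1664 (iv D3921)))
theorem Q3317 : ∀ i, i < 3317 → P i := stepQ 3316 Q3316 (allL N3316 (tt N1665 (iv D3922)) (tt N5880 D6758) (tt N5881 D6759) (tt N5882 D6760) (tt N5883 D6761))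
theorem Q3318 : ∀ i, i < 3318 → P i := stepQ 3317 Q3317 (allL N3317 (tt N5599 (iv F5978)) (tt N1665 (iv D3923)) (tt N2920 F2939) (tt N5596 (iv F5969)) (tt N5884 D6762))
theorem Q3319 : ∀ i, i < 3319 → P i := stepQ 3318 Q3318 (allL N3318 (tt N5885 D6763) (tt N5596 (iv F5968)) (tt N1666 F2940) (tt N1665 (iv D3924)) (tt N5768 (iv F9818)))
theorem Q3320 : ∀ i, i < 3320 → P i := stepQ 3319 Q3319 (allL N3319 (tt N5883 (iv F6452)) (tt N5884 (iv F6453)) (tt N5886 D6765) (tt N5766 (iv F9819)) (tt N1665 (iv D3925)))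
theorem Q3321 : ∀ i, i < 3321 → P i := stepQ 3320 Q3320 (allL N3320 (tt N1666 (iv D3926)) (tt N5817 (iv F6337)) (tt N5887 D6767) (tt N5816 F6335) (tt N5778 (iv F6251)))
theorem Q3322 : ∀ i, i < 3322 → P i := stepQ 3321 Q3321 (allL N3321 (tt N5888 D6768) (tt N5889 D6769) (tt N1667 (iv D3927)) (tt N5773 (iv F6246)) (tt N5890 D6770))
theorem Q3323 : ∀ i, i < 3323 → P i := stepQ 3322 Q3322 (allL N3322 (tt N1668 (iv D3936)) (tt N5874 (iv F6448)) (tt N5891 D6771) (tt N5671 (iv F6089)) (tt N5892 D6772))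
theorem Q3324 : ∀ i, i < 3324 → P i := stepQ 3323 Q3323 (allL N3323 (tt N5893 D6773) (tt N1668 (iv D3937)) (tt N5894 D6774) (tt N5631 (iv F6023)) (tt N5895 D6775))
theorem Q3325 : ∀ i, i < 3325 → P i := stepQ 3324 Q3324 (allL N3324 (tt N5892 (iv F6459)) (tt N5895 (iv F6464)) (tt N5896 D6776) (tt N5641 (iv F8003)) (tt N1668 (iv D3938)))
theorem Q3326 : ∀ i, i < 3326 → P i := stepQ 3325 Q3325 (allL N3325 (tt N5897 D6778) (tt N5898 D6779) (tt N1669 (iv D3939)) (tt N4125 (iv F7941)) (tt N4063 (iv F7939)))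
theorem Q3327 : ∀ i, i < 3327 → P i := stepQ 3326 Q3326 (allL N3326 (tt N5899 D6781) (tt N1670 (iv D3940)) (tt N5900 D6782) (tt N5901 D6783) (tt N5902 D6784))
theorem Q3328 : ∀ i, i < 3328 → P i := stepQ 3327 Q3327 (allL N3327 (tt N5891 (iv F6457)) (tt N2844 F2947) (tt N1670 (iv D3941)) (tt N4064 F5257) (tt N5903 D6785))
theorem Q3329 : ∀ i, i < 3329 → P i := stepQ 3328 Q3328 (allL N3328 (tt N5630 (iv F6022)) (tt N5901 (iv F6476)) (tt N4064 (iv F5258)) (tt N1670 (iv D3942)) (tt N5684 (iv F6106)))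
theorem Q3330 : ∀ i, i < 3330 → P i := stepQ 3329 Q3329 (allL N3329 (tt N1672 F2948) (tt N5902 (iv F6478)) (tt N5904 D6786) (tt N5683 (iv F6105)) (tt N1670 (iv D3943)))
theorem Q3331 : ∀ i, i < 3331 → P i := stepQ 3330 Q3330 (allL N3330 (tt N1671 (iv D3944)) (tt N5601 (iv F5980)) (tt N3142 F2950) (tt N2841 F2949) (tt N5905 D6787))
theorem Q3332 : ∀ i, i < 3332 → P i := stepQ 3331 Q3331 (allL N3331 (tt N5906 D6788) (tt N1675 F2951) (tt N1671 (iv D3945)) (tt N5677 (iv F6094)) (tt N5907 D6789))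
theorem Q3333 : ∀ i, i < 3333 → P i := stepQ 3332 Q3332 (allL N3332 (tt N5905 (iv F6481)) (tt N1672 F2952) (tt N5908 D6790) (tt N5690 (iv F6131)) (tt N1671 (iv D3946)))
theorem Q3334 : ∀ i, i < 3334 → P i := stepQ 3333 Q3333 (allL N3333 (tt N5896 (iv F6465)) (tt N3080 (iv F5324)) (tt N1672 (iv D3947)) (tt N5667 (iv F6087)) (tt N5662 (iv F6068)))
theorem Q3335 : ∀ i, i < 3335 → P i := stepQ 3334 Q3334 (allL N3334 (tt N1673 (iv D3949)) (tt N5909 D6791) (tt N5903 (iv F6480)) (tt N5649 F6074) (tt N5645 F6069))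
theorem Q3336 : ∀ i, i < 3336 → P i := stepQ 3335 Q3335 (allL N3335 (tt N5910 D6792) (tt N1673 (iv D3950)) (tt N5911 D6793) (tt N5654 F6073) (tt N5651 F6070))
theorem Q3337 : ∀ i, i < 3337 → P i := stepQ 3336 Q3336 (allL N3336 (tt N2912 F2953) (tt N1674 (iv D3952)) (tt N5021 (iv F5073)) (tt N5912 D6794) (tt N5913 D6795))
theorem Q3338 : ∀ i, i < 3338 → P i := stepQ 3337 Q3337 (allL N3337 (tt N5914 D6796) (tt N5915 D6797) (tt N1674 (iv D3953)) (tt N5450 (iv F6524)) (tt N5916 D6798))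
theorem Q3339 : ∀ i, i < 3339 → P i := stepQ 3338 Q3338 (allL N3338 (tt N5917 D6799) (tt N5912 (iv F6516)) (tt N5450 F6525) (tt N1674 (iv D3954)) (tt N5738 (iv F6202)))
theorem Q3340 : ∀ i, i < 3340 → P i := stepQ 3339 Q3339 (allL N3339 (tt N1676 F2954) (tt N5913 (iv F6520)) (tt N5918 D6800) (tt N5736 (iv F6200)) (tt N1674 (iv D3955)))
theorem Q3341 : ∀ i, i < 3341 → P i := stepQ 3340 Q3340 (allL N3340 (tt N1675 (iv D3956)) (tt N5919 D6801) (tt N5857 (iv F6412)) (tt N5920 D6802) (tt N2515 F6497))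
theorem Q3342 : ∀ i, i < 3342 → P i := stepQ 3341 Q3341 (allL N3341 (tt N2515 F6496) (tt N5907 (iv F6490)) (tt N5921 D6803) (tt N5743 (iv F6207)) (tt N1675 (iv D3957)))
theorem Q3343 : ∀ i, i < 3343 → P i := stepQ 3342 Q3342 (allL N3342 (tt N5922 D6804) (tt N5923 D6805) (tt N1676 (iv D3958)) (tt N5749 (iv F6218)) (tt N5924 D6806))
theorem Q3344 : ∀ i, i < 3344 → P i := stepQ 3343 Q3343 (allL N3343 (tt N1677 (iv D3959)) (tt N5925 D6807) (tt N5926 D6808) (tt N5705 (iv F6144)) (tt N1903 F3416))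
theorem Q3345 : ∀ i, i < 3345 → P i := stepQ 3344 Q3344 (allL N3344 (tt N4728 (iv F4579)) (tt N5911 (iv F6512)) (tt N1677 (iv D3960)) (tt N5714 (iv F6156)) (tt N5709 F6157))
theorem Q3346 : ∀ i, i < 3346 → P i := stepQ 3345 Q3345 (allL N3345 (tt N1708 F2966) (tt N2466 F2964) (tt N1679 F2965) (tt N1678 (iv D3978)) (tt N5927 D6809))
theorem Q3347 : ∀ i, i < 3347 → P i := stepQ 3346 Q3346 (allL N3346 (tt N1701 F2967) (tt N2467 F2968) (tt N1691 F2969) (tt N5928 D6810) (tt N1678 (iv D3979)))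
theorem Q3348 : ∀ i, i < 3348 → P i := stepQ 3347 Q3347 (allL N3347 (tt N1718 F2972) (tt N5623 (iv F6009)) (tt N5929 D6811) (tt N5930 D6812) (tt N1679 (iv D3980)))
theorem Q3349 : ∀ i, i < 3349 → P i := stepQ 3348 Q3348 (allL N3348 (tt N1703 F2973) (tt N4667 (iv F4537)) (tt N1680 (iv D3981)) (tt N5931 D6813) (tt N4664 F4535))
theorem Q3350 : ∀ i, i < 3350 → P i := stepQ 3349 Q3349 (allL N3349 (tt N3884 (iv F3587)) (tt N5625 (iv F6013)) (tt N5931 (iv F6554)) (tt N1680 (iv D3982)) (tt N5932 D6814))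
theorem Q3351 : ∀ i, i < 3351 → P i := stepQ 3350 Q3350 (allL N3350 (tt N4809 (iv F4712)) (tt N3052 F2974) (tt N1682 F2975) (tt N1681 (iv D3983)) (tt N5933 D6815))
theorem Q3352 : ∀ i, i < 3352 → P i := stepQ 3351 Q3351 (allL N3351 (tt N2377 F2976) (tt N3053 F2977) (tt N5934 D6816) (tt N5935 D6817) (tt N1681 (iv D3984)))
theorem Q3353 : ∀ i, i < 3353 → P i := stepQ 3352 Q3352 (allL N3352 (tt N4819 (iv F4720)) (tt N1685 F2978) (tt N5936 D6818) (tt N4805 (iv F4703)) (tt N1682 (iv D3985)))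
theorem Q3354 : ∀ i, i < 3354 → P i := stepQ 3353 Q3353 (allL N3353 (tt N4921 (iv F4909)) (tt N5574 (iv F5928)) (tt N1683 (iv D3986)) (tt N5937 D6819) (tt N5572 F5926))
theorem Q3355 : ∀ i, i < 3355 → P i := stepQ 3354 Q3354 (allL N3354 (tt N4821 (iv F4722)) (tt N1687 F2979) (tt N5937 (iv F6563)) (tt N1683 (iv D3987)) (tt N5938 D6820))
theorem Q3356 : ∀ i, i < 3356 → P i := stepQ 3355 Q3355 (allL N3355 (tt N1700 F2980) (tt N2301 (iv F2982)) (tt N1684 (iv D3988)) (tt N2299 F2981) (tt N5939 D6821))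
theorem Q3357 : ∀ i, i < 3357 → P i := stepQ 3356 Q3356 (allL N3356 (tt N1685 F2983) (tt N2745 F2984) (tt N5940 D6822) (tt N5941 D6823) (tt N1684 (iv D3989)))
theorem Q3358 : ∀ i, i < 3358 → P i := stepQ 3357 Q3357 (allL N3357 (tt N5942 D6824) (tt N5943 D6825) (tt N1685 (iv D3990)) (tt N5944 D6826) (tt N5945 D6827))
theorem Q3359 : ∀ i, i < 3359 → P i := stepQ 3358 Q3358 (allL N3358 (tt N5930 (iv F6552)) (tt N4805 F4704) (tt N5944 (iv F6578)) (tt N1685 (iv D3991)) (tt N1908 F4708))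
theorem Q3360 : ∀ i, i < 3360 → P i := stepQ 3359 Q3359 (allL N3359 (tt N2484 F2985) (tt N1686 (iv D3992)) (tt N5946 D6828) (tt N5947 D6829) (tt N2481 (iv F2986)))
theorem Q3361 : ∀ i, i < 3361 → P i := stepQ 3360 Q3360 (allL N3360 (tt N5948 D6830) (tt N5947 (iv F6587)) (tt N1687 F2987) (tt N1686 (iv D3993)) (tt N5949 D6831))
theorem Q3362 : ∀ i, i < 3362 → P i := stepQ 3361 Q3361 (allL N3361 (tt N1715 F2988) (tt N2481 F2989) (tt N1694 F2990) (tt N5945 (iv F6583)) (tt N1686 (iv D3994)))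
theorem Q3363 : ∀ i, i < 3363 → P i := stepQ 3362 Q3362 (allL N3362 (tt N1687 (iv D3995)) (tt N2751 (iv F5133)) (tt N5950 D6832) (tt N3880 (iv F3578)) (tt N5951 D6833))
theorem Q3364 : ∀ i, i < 3364 → P i := stepQ 3363 Q3363 (allL N3363 (tt N5951 (iv F6594)) (tt N5938 (iv F6564)) (tt N1696 F4709) (tt N1908 F4710) (tt N1687 (iv D3996)))
theorem Q3365 : ∀ i, i < 3365 → P i := stepQ 3364 Q3364 (allL N3364 (tt N4164 (iv F3896)) (tt N1688 (iv D3997)) (tt N5952 D6834) (tt N3877 (iv F3571)) (tt N5953 D6835))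
theorem Q3366 : ∀ i, i < 3366 → P i := stepQ 3365 Q3365 (allL N3365 (tt N1702 F2991) (tt N5953 (iv F6601)) (tt N5942 (iv F6573)) (tt N5954 D6836) (tt N1688 (iv D3998)))
theorem Q3367 : ∀ i, i < 3367 → P i := stepQ 3366 Q3366 (allL N3366 (tt N1911 F2992) (tt N5955 D6837) (tt N1689 (iv D3999)) (tt N3937 (iv F3653)) (tt N5956 D6838))
theorem Q3368 : ∀ i, i < 3368 → P i := stepQ 3367 Q3367 (allL N3367 (tt N1690 (iv D4000)) (tt N3621 (iv F3999)) (tt N5939 (iv F6568)) (tt N3939 (iv F3658)) (tt N5957 D6839))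
theorem Q3369 : ∀ i, i < 3369 → P i := stepQ 3368 Q3368 (allL N3368 (tt N4837 (iv F4753)) (tt N1690 (iv D4001)) (tt N5958 D6840) (tt N1906 F2993) (tt N5959 D6841))
theorem Q3370 : ∀ i, i < 3370 → P i := stepQ 3369 Q3369 (allL N3369 (tt N5957 (iv F6604)) (tt N5959 (iv F6606)) (tt N5945 (iv F6582)) (tt N1694 F6584) (tt N1690 (iv D4002)))
theorem Q3371 : ∀ i, i < 3371 → P i := stepQ 3370 Q3370 (allL N3370 (tt N1777 F2994) (tt N1691 (iv D4003)) (tt N5960 D6842) (tt N5961 D6843) (tt N5962 D6844))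
theorem Q3372 : ∀ i, i < 3372 → P i := stepQ 3371 Q3371 (allL N3371 (tt N1730 F2995) (tt N5961 (iv F6611)) (tt N5928 (iv F6549)) (tt N1691 (iv D4004)) (tt N5963 D6845))
theorem Q3373 : ∀ i, i < 3373 → P i := stepQ 3372 Q3372 (allL N3372 (tt N1694 F2996) (tt N5962 (iv F6616)) (tt N4664 (iv F4534)) (tt N5964 D6846) (tt N1691 (iv D4005)))
theorem Q3374 : ∀ i, i < 3374 → P i := stepQ 3373 Q3373 (allL N3373 (tt N2625 F3160) (tt N3584 (iv F3196)) (tt N1692 (iv D4006)) (tt N5965 D6847) (tt N5966 D6848))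
theorem Q3375 : ∀ i, i < 3375 → P i := stepQ 3374 Q3374 (allL N3374 (tt N4861 (iv F4783)) (tt N1693 F2997) (tt N5965 (iv F6623)) (tt N1692 (iv D4007)) (tt N5967 D6849))
theorem Q3376 : ∀ i, i < 3376 → P i := stepQ 3375 Q3375 (allL N3375 (tt N4851 (iv F4772)) (tt N1694 F2998) (tt N4565 (iv F4775)) (tt N5959 (iv F6607)) (tt N1692 (iv D4008)))
theorem Q3377 : ∀ i, i < 3377 → P i := stepQ 3376 Q3376 (allL N3376 (tt N1693 (iv D4009)) (tt N5968 D6850) (tt N5969 D6851) (tt N3885 (iv F3592)) (tt N5970 D6852))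
theorem Q3378 : ∀ i, i < 3378 → P i := stepQ 3377 Q3377 (allL N3377 (tt N5970 (iv F6630)) (tt N5967 (iv F6625)) (tt N5949 (iv F6591)) (tt N1907 F6585) (tt N1693 (iv D4010)))
theorem Q3379 : ∀ i, i < 3379 → P i := stepQ 3378 Q3378 (allL N3378 (tt N1723 F2999) (tt N5971 D6853) (tt N1695 (iv D4012)) (tt N3879 (iv F3575)) (tt N5972 D6854))
theorem Q3380 : ∀ i, i < 3380 → P i := stepQ 3379 Q3379 (allL N3379 (tt N1696 F3000) (tt N4143 (iv F3871)) (tt N5973 D6855) (tt N3938 (iv F3657)) (tt N1695 (iv D4013)))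
theorem Q3381 : ∀ i, i < 3381 → P i := stepQ 3380 Q3380 (allL N3380 (tt N4332 (iv F4074)) (tt N5490 (iv F5816)) (tt N5974 D6856) (tt N4318 (iv F4052)) (tt N1697 (iv D4015)))
theorem Q3382 : ∀ i, i < 3382 → P i := stepQ 3381 Q3381 (allL N3381 (tt N4379 (iv F4129)) (tt N5975 D6857) (tt N1698 (iv D4016)) (tt N4312 (iv F4040)) (tt N5976 D6858))
theorem Q3383 : ∀ i, i < 3383 → P i := stepQ 3382 Q3382 (allL N3382 (tt N2301 F3002) (tt N1700 F3003) (tt N2865 F3004) (tt N1699 (iv D4017)) (tt N5977 D6859))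
theorem Q3384 : ∀ i, i < 3384 → P i := stepQ 3383 Q3383 (allL N3383 (tt N2033 F3005) (tt N1701 F3006) (tt N2880 F3007) (tt N5978 D6860) (tt N1699 (iv D4018)))
theorem Q3385 : ∀ i, i < 3385 → P i := stepQ 3384 Q3384 (allL N3384 (tt N5939 (iv F6566)) (tt N5977 (iv F6636)) (tt N1911 F3008) (tt N1910 (iv F3009)) (tt N1700 (iv D4019)))
theorem Q3386 : ∀ i, i < 3386 → P i := stepQ 3385 Q3385 (allL N3385 (tt N5969 (iv F6627)) (tt N5978 (iv F6640)) (tt N1723 F3010) (tt N1701 (iv D4020)) (tt N5979 D6861))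
theorem Q3387 : ∀ i, i < 3387 → P i := stepQ 3386 Q3386 (allL N3386 (tt N5940 (iv F6570)) (tt N5980 D6862) (tt N1702 (iv D4021)) (tt N5981 D6863) (tt N5982 D6864))
theorem Q3388 : ∀ i, i < 3388 → P i := stepQ 3387 Q3387 (allL N3387 (tt N1712 F3011) (tt N4298 (iv F4026)) (tt N5981 (iv F6647)) (tt N1702 (iv D4022)) (tt N1916 (iv F3012)))
theorem Q3389 : ∀ i, i < 3389 → P i := stepQ 3388 Q3388 (allL N3388 (tt N2317 F3013) (tt N1703 (iv D4023)) (tt N5265 F5452) (tt N5983 D6865) (tt N3959 (iv F3676)))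
theorem Q3390 : ∀ i, i < 3390 → P i := stepQ 3389 Q3389 (allL N3389 (tt N5950 (iv F6593)) (tt N5983 (iv F6652)) (tt N1704 F3014) (tt N1703 (iv D4024)) (tt N5984 D6866))
theorem Q3391 : ∀ i, i < 3391 → P i := stepQ 3390 Q3390 (allL N3390 (tt N4664 (iv F4533)) (tt N3959 (iv F3677)) (tt N1724 F3015) (tt N5982 F6650) (tt N1703 (iv D4025)))
theorem Q3392 : ∀ i, i < 3392 → P i := stepQ 3391 Q3391 (allL N3391 (tt N1704 (iv D4026)) (tt N5985 D6867) (tt N5948 (iv F6589)) (tt N3878 (iv F3574)) (tt N5973 (iv F6633)))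
theorem Q3393 : ∀ i, i < 3393 → P i := stepQ 3392 Q3392 (allL N3392 (tt N5973 (iv F6632)) (tt N4313 (iv F4043)) (tt N5979 (iv F6643)) (tt N1916 F3016) (tt N1704 (iv D4027)))
theorem Q3394 : ∀ i, i < 3394 → P i := stepQ 3393 Q3393 (allL N3393 (tt N4537 (iv F4323)) (tt N5777 (iv F6250)) (tt N1705 (iv D4028)) (tt N4471 F4241) (tt N5775 F6248))
theorem Q3395 : ∀ i, i < 3395 → P i := stepQ 3394 Q3394 (allL N3394 (tt N5986 D6868) (tt N1706 (iv D4029)) (tt N5987 D6869) (tt N4499 (iv F4272)) (tt N1775 F4377))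
theorem Q3396 : ∀ i, i < 3396 → P i := stepQ 3395 Q3395 (allL N3395 (tt N4570 (iv F4427)) (tt N1775 F4375) (tt N5775 (iv F6247)) (tt N4479 (iv F4459)) (tt N1706 (iv D4030)))
theorem Q3397 : ∀ i, i < 3397 → P i := stepQ 3396 Q3396 (allL N3396 (tt N4623 (iv F4492)) (tt N5988 D6870) (tt N1707 (iv D4031)) (tt N4329 F4069) (tt N5989 D6871))
theorem Q3398 : ∀ i, i < 3398 → P i := stepQ 3397 Q3397 (allL N3397 (tt N4434 (iv F4181)) (tt N1710 F3017) (tt N5990 D6872) (tt N4614 (iv F4475)) (tt N1707 (iv D4032)))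
theorem Q3399 : ∀ i, i < 3399 → P i := stepQ 3398 Q3398 (allL N3398 (tt N2466 F3018) (tt N1708 (iv D4033)) (tt N3213 (iv F3020)) (tt N2110 (iv F3019)) (tt N5991 D6873))
theorem Q3400 : ∀ i, i < 3400 → P i := stepQ 3399 Q3399 (allL N3399 (tt N2299 F3021) (tt N2110 F3022) (tt N1709 F3023) (tt N1708 (iv D4034)) (tt N5992 D6874))
theorem Q3401 : ∀ i, i < 3401 → P i := stepQ 3400 Q3400 (allL N3400 (tt N5927 (iv F6544)) (tt N5991 (iv F6662)) (tt N1720 F3024) (tt N5993 D6875) (tt N1708 (iv D4035)))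
theorem Q3402 : ∀ i, i < 3402 → P i := stepQ 3401 Q3401 (allL N3401 (tt N3878 (iv F3573)) (tt N4608 (iv F4471)) (tt N5994 D6876) (tt N1716 F3025) (tt N1709 (iv D4036)))
theorem Q3403 : ∀ i, i < 3403 → P i := stepQ 3402 Q3402 (allL N3402 (tt N5929 (iv F6551)) (tt N5995 D6877) (tt N1710 (iv D4037)) (tt N5996 D6878) (tt N5997 D6879))
theorem Q3404 : ∀ i, i < 3404 → P i := stepQ 3403 Q3403 (allL N3403 (tt N5954 (iv F6602)) (tt N4614 F4476) (tt N5996 (iv F6674)) (tt N1710 (iv D4038)) (tt N5998 D6880))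
theorem Q3405 : ∀ i, i < 3405 → P i := stepQ 3404 Q3404 (allL N3404 (tt N1711 (iv D4039)) (tt N5999 D6881) (tt N1718 F3026) (tt N6000 D6882) (tt N6001 D6883))
theorem Q3406 : ∀ i, i < 3406 → P i := stepQ 3405 Q3405 (allL N3405 (tt N2488 F3027) (tt N1711 (iv D4040)) (tt N6002 D6884) (tt N2502 (iv F3029)) (tt N2488 (iv F3028)))
theorem Q3407 : ∀ i, i < 3407 → P i := stepQ 3406 Q3406 (allL N3406 (tt N5944 (iv F6579)) (tt N2502 F3030) (tt N1712 F3031) (tt N1711 (iv D4041)) (tt N1915 (iv F3032)))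
theorem Q3408 : ∀ i, i < 3408 → P i := stepQ 3407 Q3407 (allL N3407 (tt N6001 (iv F6683)) (tt N2488 F3033) (tt N1721 F3034) (tt N1715 (iv F3035)) (tt N1711 (iv D4042)))
theorem Q3409 : ∀ i, i < 3409 → P i := stepQ 3408 Q3408 (allL N3408 (tt N2495 F3036) (tt N5987 (iv F6656)) (tt N1713 (iv D4043)) (tt N6003 D6885) (tt N6004 D6886))
theorem Q3410 : ∀ i, i < 3410 → P i := stepQ 3409 Q3409 (allL N3409 (tt N2501 F3037) (tt N1714 F3038) (tt N6003 (iv F6690)) (tt N1713 (iv D4044)) (tt N2501 F3039))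
theorem Q3411 : ∀ i, i < 3411 → P i := stepQ 3410 Q3410 (allL N3410 (tt N1714 (iv D4045)) (tt N6005 D6887) (tt N3884 F3589) (tt N3883 (iv F3590)) (tt N6006 D6888))
theorem Q3412 : ∀ i, i < 3412 → P i := stepQ 3411 Q3411 (allL N3411 (tt N6006 (iv F6697)) (tt N2501 F3040) (tt N1729 F3041) (tt N1915 F3042) (tt N1714 (iv D4046)))
theorem Q3413 : ∀ i, i < 3413 → P i := stepQ 3412 Q3412 (allL N3412 (tt N4444 (iv F4203)) (tt N1716 (iv D4047)) (tt N6007 D6889) (tt N4608 (iv F4472)) (tt N6008 D6890))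
theorem Q3414 : ∀ i, i < 3414 → P i := stepQ 3413 Q3413 (allL N3413 (tt N5931 (iv F6555)) (tt N6009 D6891) (tt N1716 (iv D4048)) (tt N5994 (iv F6672)) (tt N6010 D6892))
theorem Q3415 : ∀ i, i < 3415 → P i := stepQ 3414 Q3414 (allL N3414 (tt N1717 F3043) (tt N6008 (iv F6701)) (tt N6011 D6893) (tt N5998 (iv F6676)) (tt N1716 (iv D4049)))
theorem Q3416 : ∀ i, i < 3416 → P i := stepQ 3415 Q3415 (allL N3415 (tt N5941 (iv F6571)) (tt N3990 (iv F3716)) (tt N6000 (iv F6681)) (tt N1718 (iv D4050)) (tt N3942 F3662))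
theorem Q3417 : ∀ i, i < 3417 → P i := stepQ 3416 Q3416 (allL N3416 (tt N1719 (iv D4051)) (tt N6012 D6894) (tt N5927 (iv F6546)) (tt N1905 F3044) (tt N5964 (iv F6621)))
theorem Q3418 : ∀ i, i < 3418 → P i := stepQ 3417 Q3417 (allL N3417 (tt N5964 (iv F6622)) (tt N4234 (iv F3954)) (tt N6001 (iv F6685)) (tt N3887 (iv F6620)) (tt N1719 (iv D4052)))
theorem Q3419 : ∀ i, i < 3419 → P i := stepQ 3418 Q3418 (allL N3418 (tt N4970 (iv F4980)) (tt N1720 (iv D4053)) (tt N6013 D6895) (tt N5007 F5052) (tt N6014 D6896))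
theorem Q3420 : ∀ i, i < 3420 → P i := stepQ 3419 Q3419 (allL N3419 (tt N3937 (iv F3654)) (tt N5007 (iv F5051)) (tt N5993 (iv F6671)) (tt N1720 (iv D4054)) (tt N6015 D6897))
theorem Q3421 : ∀ i, i < 3421 → P i := stepQ 3420 Q3420 (allL N3420 (tt N1721 F3045) (tt N6014 (iv F6707)) (tt N5997 (iv F6675)) (tt N6016 D6898) (tt N1720 (iv D4055)))
theorem Q3422 : ∀ i, i < 3422 → P i := stepQ 3421 Q3421 (allL N3421 (tt N1722 (iv D4056)) (tt N4891 (iv F4813)) (tt N4776 (iv F4661)) (tt N4175 (iv F3906)) (tt N4961 (iv F4974)))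
theorem Q3423 : ∀ i, i < 3423 → P i := stepQ 3422 Q3422 (allL N3422 (tt N4871 (iv F4797)) (tt N6017 D6899) (tt N1722 (iv D4057)) (tt N6018 D6900) (tt N6019 D6901))
theorem Q3424 : ∀ i, i < 3424 → P i := stepQ 3423 Q3423 (allL N3423 (tt N4924 (iv F4914)) (tt N1723 F3046) (tt N6018 (iv F6713)) (tt N1722 (iv D4058)) (tt N4941 (iv F4936)))
theorem Q3425 : ∀ i, i < 3425 → P i := stepQ 3424 Q3424 (allL N3424 (tt N4961 (iv F4972)) (tt N1724 F3047) (tt N6020 D6902) (tt N4936 F4933) (tt N1722 (iv D4059)))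
theorem Q3426 : ∀ i, i < 3426 → P i := stepQ 3425 Q3425 (allL N3425 (tt N5972 (iv F6631)) (tt N4941 F4938) (tt N5984 (iv F6653)) (tt N1912 F3048) (tt N1723 (iv D4060)))
theorem Q3427 : ∀ i, i < 3427 → P i := stepQ 3426 Q3426 (allL N3426 (tt N5956 (iv F6603)) (tt N4936 (iv F4932)) (tt N5982 (iv F6649)) (tt N1724 (iv D4061)) (tt N1911 F3049))
theorem Q3428 : ∀ i, i < 3428 → P i := stepQ 3427 Q3427 (allL N3427 (tt N4912 (iv F4893)) (tt N1771 F3050) (tt N1726 F3051) (tt N1725 (iv D4062)) (tt N4989 (iv F5010)))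
theorem Q3429 : ∀ i, i < 3429 → P i := stepQ 3428 Q3428 (allL N3428 (tt N4908 (iv F4884)) (tt N1772 F3052) (tt N5764 (iv F6235)) (tt N4978 (iv F4987)) (tt N1725 (iv D4063)))
theorem Q3430 : ∀ i, i < 3430 → P i := stepQ 3429 Q3429 (allL N3429 (tt N4825 (iv F4724)) (tt N1758 (iv F3093)) (tt N1727 (iv D4064)) (tt N4979 (iv F4990)) (tt N1756 F3094))
theorem Q3431 : ∀ i, i < 3431 → P i := stepQ 3430 Q3430 (allL N3430 (tt N4883 (iv F4806)) (tt N1728 (iv D4065)) (tt N6021 D6903) (tt N4867 F4793) (tt N6022 D6904))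
theorem Q3432 : ∀ i, i < 3432 → P i := stepQ 3431 Q3431 (allL N3431 (tt N5928 (iv F6550)) (tt N6023 D6905) (tt N1728 (iv D4066)) (tt N5992 (iv F6668)) (tt N6011 (iv F6704)))
theorem Q3433 : ∀ i, i < 3433 → P i := stepQ 3432 Q3432 (allL N3432 (tt N3879 (iv F3576)) (tt N4867 (iv F4792)) (tt N5992 (iv F6667)) (tt N1728 (iv D4067)) (tt N6016 (iv F6709)))
theorem Q3434 : ∀ i, i < 3434 → P i := stepQ 3433 Q3433 (allL N3433 (tt N1729 F3053) (tt N6022 (iv F6720)) (tt N6010 (iv F6703)) (tt N6015 (iv F6708)) (tt N1728 (iv D4068)))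
theorem Q3435 : ∀ i, i < 3435 → P i := stepQ 3434 Q3434 (allL N3434 (tt N4215 (iv F3936)) (tt N1730 (iv D4069)) (tt N6024 D6906) (tt N3886 (iv F3593)) (tt N4239 (iv F3958)))
theorem Q3436 : ∀ i, i < 3436 → P i := stepQ 3435 Q3435 (allL N3435 (tt N5963 (iv F6617)) (tt N4239 F3959) (tt N6006 (iv F6699)) (tt N3941 (iv F6619)) (tt N1730 (iv D4070)))
theorem Q3437 : ∀ i, i < 3437 → P i := stepQ 3436 Q3436 (allL N3436 (tt N5932 (iv F6556)) (tt N4002 (iv F3728)) (tt N1731 (iv D4071)) (tt N3942 (iv F3661)) (tt N3884 (iv F3591)))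
theorem Q3438 : ∀ i, i < 3438 → P i := stepQ 3437 Q3437 (allL N3437 (tt N2272 F3054) (tt N1982 F3055) (tt N1733 F3056) (tt N1732 (iv D4072)) (tt N6025 D6907))
theorem Q3439 : ∀ i, i < 3439 → P i := stepQ 3438 Q3438 (allL N3438 (tt N3091 F3057) (tt N4730 (iv F4584)) (tt N3506 (iv F3118)) (tt N6026 D6908) (tt N1732 (iv D4073)))
theorem Q3440 : ∀ i, i < 3440 → P i := stepQ 3439 Q3439 (allL N3439 (tt N3092 F3058) (tt N1740 F3059) (tt N6027 D6909) (tt N2847 F3060) (tt N1733 (iv D4074)))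
theorem Q3441 : ∀ i, i < 3441 → P i := stepQ 3440 Q3440 (allL N3440 (tt N3093 F3061) (tt N6028 D6910) (tt N1734 (iv D4075)) (tt N6029 D6911) (tt N3504 (iv F3115)))
theorem Q3442 : ∀ i, i < 3442 → P i := stepQ 3441 Q3441 (allL N3441 (tt N3094 F3062) (tt N1742 F3063) (tt N6029 (iv F6732)) (tt N1734 (iv D4076)) (tt N6030 D6912))
theorem Q3443 : ∀ i, i < 3443 → P i := stepQ 3442 Q3442 (allL N3442 (tt N1751 F3064) (tt N4647 (iv F4512)) (tt N5501 (iv F5829)) (tt N1735 (iv D4077)) (tt N6031 D6913))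
theorem Q3444 : ∀ i, i < 3444 → P i := stepQ 3443 Q3443 (allL N3443 (tt N1738 F3065) (tt N4648 (iv F4515)) (tt N6032 D6914) (tt N6033 D6915) (tt N1735 (iv D4078)))
theorem Q3445 : ∀ i, i < 3445 → P i := stepQ 3444 Q3444 (allL N3444 (tt N2082 F3066) (tt N1737 F3067) (tt N4551 (iv F4342)) (tt N1736 (iv D4079)) (tt N6034 D6916))
theorem Q3446 : ∀ i, i < 3446 → P i := stepQ 3445 Q3445 (allL N3445 (tt N4796 (iv F4698)) (tt N1738 F3068) (tt N6035 D6917) (tt N6036 D6918) (tt N1736 (iv D4080)))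
theorem Q3447 : ∀ i, i < 3447 → P i := stepQ 3446 Q3446 (allL N3446 (tt N1737 (iv D4081)) (tt N2300 F3069) (tt N5503 (iv F5835)) (tt N6037 D6919) (tt N6038 D6920))
theorem Q3448 : ∀ i, i < 3448 → P i := stepQ 3447 Q3447 (allL N3447 (tt N6038 (iv F6746)) (tt N6034 (iv F6739)) (tt N6039 D6921) (tt N6040 D6922) (tt N1737 (iv D4082)))
theorem Q3449 : ∀ i, i < 3449 → P i := stepQ 3448 Q3448 (allL N3448 (tt N1748 F3070) (tt N6041 D6923) (tt N1738 (iv D4083)) (tt N6042 D6924) (tt N6043 D6925))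
theorem Q3450 : ∀ i, i < 3450 → P i := stepQ 3449 Q3449 (allL N3449 (tt N6044 D6926) (tt N6036 (iv F6742)) (tt N6042 (iv F6748)) (tt N1738 (iv D4084)) (tt N6045 D6927))
theorem Q3451 : ∀ i, i < 3451 → P i := stepQ 3450 Q3450 (allL N3450 (tt N1744 F3071) (tt N4010 (iv F3737)) (tt N1739 (iv D4085)) (tt N6046 D6928) (tt N6047 D6929))
theorem Q3452 : ∀ i, i < 3452 → P i := stepQ 3451 Q3451 (allL N3451 (tt N1752 F3072) (tt N2145 F3073) (tt N6046 (iv F6753)) (tt N1739 (iv D4086)) (tt N6048 D6930))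
theorem Q3453 : ∀ i, i < 3453 → P i := stepQ 3452 Q3452 (allL N3452 (tt N1740 F3074) (tt N2146 F3075) (tt N6049 D6931) (tt N6050 D6932) (tt N1739 (iv D4087)))
theorem Q3454 : ∀ i, i < 3454 → P i := stepQ 3453 Q3453 (allL N3453 (tt N6051 D6933) (tt N6052 D6934) (tt N1740 (iv D4088)) (tt N2918 F3076) (tt N6053 D6935))
theorem Q3455 : ∀ i, i < 3455 → P i := stepQ 3454 Q3454 (allL N3454 (tt N1741 (iv D4089)) (tt N5732 (iv F6189)) (tt N5502 (iv F5833)) (tt N6054 D6936) (tt N6055 D6937))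
theorem Q3456 : ∀ i, i < 3456 → P i := stepQ 3455 Q3455 (allL N3455 (tt N5564 (iv F5911)) (tt N1741 (iv D4090)) (tt N6056 D6938) (tt N6057 D6939) (tt N6058 D6940))
theorem Q3457 : ∀ i, i < 3457 → P i := stepQ 3456 Q3456 (allL N3456 (tt N6059 D6941) (tt N6057 (iv F6765)) (tt N1742 F3077) (tt N1741 (iv D4091)) (tt N6060 D6942))
theorem Q3458 : ∀ i, i < 3458 → P i := stepQ 3457 Q3457 (allL N3457 (tt N6055 (iv F6763)) (tt N6058 (iv F6767)) (tt N6043 (iv F6750)) (tt N6053 (iv F7957)) (tt N1741 (iv D4092)))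
theorem Q3459 : ∀ i, i < 3459 → P i := stepQ 3458 Q3458 (allL N3458 (tt N1742 (iv D4093)) (tt N6061 D6944) (tt N6062 D6945) (tt N6048 (iv F6757)) (tt N6063 D6946))
theorem Q3460 : ∀ i, i < 3460 → P i := stepQ 3459 Q3459 (allL N3459 (tt N6063 (iv F6773)) (tt N6030 (iv F6734)) (tt N6045 (iv F10809)) (tt N1925 (iv F3383)) (tt N1742 (iv D4094)))
theorem Q3461 : ∀ i, i < 3461 → P i := stepQ 3460 Q3460 (allL N3460 (tt N2540 F3079) (tt N1745 F3080) (tt N6064 D6948) (tt N3833 (iv F3520)) (tt N1743 (iv D4095)))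
theorem Q3462 : ∀ i, i < 3462 → P i := stepQ 3461 Q3461 (allL N3461 (tt N6047 (iv F6754)) (tt N3827 (iv F3513)) (tt N6065 D6949) (tt N6066 D6950) (tt N1744 (iv D4096)))
theorem Q3463 : ∀ i, i < 3463 → P i := stepQ 3462 Q3462 (allL N3462 (tt N6032 (iv F6737)) (tt N3591 (iv F4465)) (tt N1745 (iv D4097)) (tt N6067 D6951) (tt N6068 D6952))
theorem Q3464 : ∀ i, i < 3464 → P i := stepQ 3463 Q3463 (allL N3463 (tt N6069 D6953) (tt N3833 F3521) (tt N6067 (iv F6779)) (tt N1745 (iv D4098)) (tt N6070 D6954))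
theorem Q3465 : ∀ i, i < 3465 → P i := stepQ 3464 Q3464 (allL N3464 (tt N3890 F3598) (tt N1746 (iv D4099)) (tt N6071 D6955) (tt N5486 (iv F5812)) (tt N6072 D6956))
theorem Q3466 : ∀ i, i < 3466 → P i := stepQ 3465 Q3465 (allL N3465 (tt N5501 (iv F5830)) (tt N3465 F5831) (tt N1746 (iv D4100)) (tt N6073 D6957) (tt N6074 D6958))
theorem Q3467 : ∀ i, i < 3467 → P i := stepQ 3466 Q3466 (allL N3466 (tt N6046 (iv F6751)) (tt N5486 F5813) (tt N6073 (iv F6788)) (tt N1746 (iv D4101)) (tt N6075 D6959))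
theorem Q3468 : ∀ i, i < 3468 → P i := stepQ 3467 Q3467 (allL N3467 (tt N1747 F3081) (tt N6072 (iv F6785)) (tt N6076 D6960) (tt N6077 D6961) (tt N1746 (iv D4102)))
theorem Q3469 : ∀ i, i < 3469 → P i := stepQ 3468 Q3468 (allL N3468 (tt N6078 D6962) (tt N6079 D6963) (tt N1747 (iv D4103)) (tt N6080 D6964) (tt N6081 D6965))
theorem Q3470 : ∀ i, i < 3470 → P i := stepQ 3469 Q3469 (allL N3469 (tt N6066 (iv F6777)) (tt N4475 (iv F4246)) (tt N6080 (iv F6797)) (tt N1747 (iv D4104)) (tt N1926 F5299))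
theorem Q3471 : ∀ i, i < 3471 → P i := stepQ 3470 Q3470 (allL N3470 (tt N3078 F3082) (tt N1748 (iv D4105)) (tt N6082 D6966) (tt N6083 D6967) (tt N2487 (iv F3088)))
theorem Q3472 : ∀ i, i < 3472 → P i := stepQ 3471 Q3471 (allL N3471 (tt N6084 D6968) (tt N6083 (iv F6805)) (tt N1749 F3090) (tt N1748 (iv D4106)) (tt N6085 D6969))
theorem Q3473 : ∀ i, i < 3473 → P i := stepQ 3472 Q3472 (allL N3472 (tt N6043 (iv F6749)) (tt N2487 F3091) (tt N1758 F3092) (tt N6081 F6801) (tt N1748 (iv D4107)))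
theorem Q3474 : ∀ i, i < 3474 → P i := stepQ 3473 Q3473 (allL N3473 (tt N1749 (iv D4108)) (tt N6086 D6970) (tt N6087 D6971) (tt N6075 (iv F6791)) (tt N6088 D6972))
theorem Q3475 : ∀ i, i < 3475 → P i := stepQ 3474 Q3474 (allL N3474 (tt N6088 (iv F6810)) (tt N4501 F5292) (tt N1760 F5293) (tt N1926 F5294) (tt N1749 (iv D4109)))
theorem Q3476 : ∀ i, i < 3476 → P i := stepQ 3475 Q3475 (allL N3475 (tt N2922 F3096) (tt N3892 (iv F3600)) (tt N1750 (iv D4110)) (tt N2731 F3095) (tt N6089 D6973))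
theorem Q3477 : ∀ i, i < 3477 → P i := stepQ 3476 Q3476 (allL N3476 (tt N2929 F3097) (tt N1753 F3098) (tt N6090 D6974) (tt N2738 F3099) (tt N1750 (iv D4111)))
theorem Q3478 : ∀ i, i < 3478 → P i := stepQ 3477 Q3477 (allL N3477 (tt N6037 (iv F6743)) (tt N5346 (iv F5566)) (tt N1752 F3100) (tt N1751 (iv D4112)) (tt N6091 D6975))
theorem Q3479 : ∀ i, i < 3479 → P i := stepQ 3478 Q3478 (allL N3478 (tt N6031 (iv F6736)) (tt N5347 (iv F5569)) (tt N6078 (iv F6792)) (tt N6092 D6976) (tt N1751 (iv D4113)))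
theorem Q3480 : ∀ i, i < 3480 → P i := stepQ 3479 Q3479 (allL N3479 (tt N6048 (iv F6755)) (tt N2734 F3101) (tt N6093 D6977) (tt N1759 F3102) (tt N1752 (iv D4114)))
theorem Q3481 : ∀ i, i < 3481 → P i := stepQ 3480 Q3480 (allL N3480 (tt N6094 D6978) (tt N5442 (iv F5696)) (tt N1753 (iv D4115)) (tt N6095 D6979) (tt N6096 D6980))
theorem Q3482 : ∀ i, i < 3482 → P i := stepQ 3481 Q3481 (allL N3481 (tt N6050 (iv F6759)) (tt N2738 F3103) (tt N6095 (iv F6817)) (tt N1753 (iv D4116)) (tt N6097 D6981))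
theorem Q3483 : ∀ i, i < 3483 → P i := stepQ 3482 Q3482 (allL N3482 (tt N1754 (iv D4117)) (tt N6098 D6982) (tt N6074 (iv F6790)) (tt N6099 D6983) (tt N6100 D6984))
theorem Q3484 : ∀ i, i < 3484 → P i := stepQ 3483 Q3483 (allL N3483 (tt N6100 (iv F6820)) (tt N4979 (iv F4993)) (tt N6081 (iv F6800)) (tt N1758 F4994) (tt N1754 (iv D4118)))
theorem Q3485 : ∀ i, i < 3485 → P i := stepQ 3484 Q3484 (allL N3484 (tt N4787 (iv F4683)) (tt N1755 (iv D4119)) (tt N5576 (iv F5930)) (tt N6101 D6985) (tt N4828 (iv F4746)))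
theorem Q3486 : ∀ i, i < 3486 → P i := stepQ 3485 Q3485 (allL N3485 (tt N6062 (iv F6772)) (tt N6101 (iv F6821)) (tt N5505 (iv F5841)) (tt N1755 (iv D4120)) (tt N6102 D6986))
theorem Q3487 : ∀ i, i < 3487 → P i := stepQ 3486 Q3486 (allL N3486 (tt N1758 F3104) (tt N4828 (iv F4745)) (tt N6068 (iv F6781)) (tt N6103 D6987) (tt N1755 (iv D4121)))
theorem Q3488 : ∀ i, i < 3488 → P i := stepQ 3487 Q3487 (allL N3487 (tt N5004 (iv F5043)) (tt N1757 F3105) (tt N5763 (iv F6233)) (tt N1756 (iv D4122)) (tt N4984 F5000))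
theorem Q3489 : ∀ i, i < 3489 → P i := stepQ 3488 Q3488 (allL N3488 (tt N1757 (iv D4123)) (tt N6104 D6988) (tt N6105 D6989) (tt N6106 D6990) (tt N6107 D6991))
theorem Q3490 : ∀ i, i < 3490 → P i := stepQ 3489 Q3489 (allL N3489 (tt N6107 (iv F6828)) (tt N4984 F4999) (tt N6085 (iv F6808)) (tt N2921 F4995) (tt N1757 (iv D4124)))
theorem Q3491 : ∀ i, i < 3491 → P i := stepQ 3490 Q3490 (allL N3490 (tt N2931 F3106) (tt N1759 (iv D4126)) (tt N6108 D6992) (tt N2734 F3107) (tt N6109 D6993))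
theorem Q3492 : ∀ i, i < 3492 → P i := stepQ 3491 Q3491 (allL N3491 (tt N6054 (iv F6762)) (tt N6110 D6994) (tt N1759 (iv D4127)) (tt N6093 (iv F6815)) (tt N6111 D6995))
theorem Q3493 : ∀ i, i < 3493 → P i := stepQ 3492 Q3492 (allL N3492 (tt N1760 F3108) (tt N6109 (iv F6832)) (tt N6112 D6996) (tt N6097 (iv F6819)) (tt N1759 (iv D4128)))
theorem Q3494 : ∀ i, i < 3494 → P i := stepQ 3493 Q3493 (allL N3493 (tt N3672 (iv F3963)) (tt N1761 (iv D4130)) (tt N6113 D6997) (tt N3617 (iv F3965)) (tt N6114 D6998))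
theorem Q3495 : ∀ i, i < 3495 → P i := stepQ 3494 Q3494 (allL N3494 (tt N6115 D6999) (tt N6116 D7000) (tt N1761 (iv D4131)) (tt N6117 D7001) (tt N6118 D7002))
theorem Q3496 : ∀ i, i < 3496 → P i := stepQ 3495 Q3495 (allL N3495 (tt N6119 D7003) (tt N3617 F3966) (tt N6117 (iv F6840)) (tt N1761 (iv D4132)) (tt N6120 D7004))
theorem Q3497 : ∀ i, i < 3497 → P i := stepQ 3496 Q3496 (allL N3496 (tt N1763 F3110) (tt N6114 (iv F6835)) (tt N6121 D7005) (tt N6122 D7006) (tt N1761 (iv D4133)))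
theorem Q3498 : ∀ i, i < 3498 → P i := stepQ 3497 Q3497 (allL N3497 (tt N1762 (iv D4134)) (tt N6123 D7007) (tt N6124 D7008) (tt N6125 D7009) (tt N6126 D7010))
theorem Q3499 : ∀ i, i < 3499 → P i := stepQ 3498 Q3498 (allL N3498 (tt N6126 (iv F6845)) (tt N4978 (iv F4986)) (tt N6127 D7011) (tt N1772 F4988) (tt N1762 (iv D4135)))
theorem Q3500 : ∀ i, i < 3500 → P i := stepQ 3499 Q3499 (allL N3499 (tt N6128 D7012) (tt N4479 (iv F4458)) (tt N1763 (iv D4136)) (tt N1775 F3111) (tt N4477 F4462))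
theorem Q3501 : ∀ i, i < 3501 → P i := stepQ 3500 Q3500 (allL N3500 (tt N1766 F3112) (tt N1764 (iv D4137)) (tt N3558 (iv F3155)) (tt N3560 (iv F3867)) (tt N3668 (iv F3277)))
theorem Q3502 : ∀ i, i < 3502 → P i := stepQ 3501 Q3501 (allL N3501 (tt N4147 (iv F3878)) (tt N3560 F3868) (tt N4843 (iv F4757)) (tt N1764 (iv D4138)) (tt N3659 (iv F3273)))
theorem Q3503 : ∀ i, i < 3503 → P i := stepQ 3502 Q3502 (allL N3502 (tt N1765 (iv D4139)) (tt N4872 (iv F4798)) (tt N4844 (iv F4758)) (tt N6129 D7013) (tt N3650 (iv F4867)))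
theorem Q3504 : ∀ i, i < 3504 → P i := stepQ 3503 Q3503 (allL N3503 (tt N2626 (iv F3114)) (tt N1765 (iv D4140)) (tt N2618 F3113) (tt N3613 (iv F3220)) (tt N3642 F4865))
theorem Q3505 : ∀ i, i < 3505 → P i := stepQ 3504 Q3504 (allL N3504 (tt N3528 (iv F3132)) (tt N4743 (iv F4599)) (tt N1766 (iv D4142)) (tt N6130 D7014) (tt N3440 F3115))
theorem Q3506 : ∀ i, i < 3506 → P i := stepQ 3505 Q3505 (allL N3505 (tt N3529 F3866) (tt N1768 F3116) (tt N6130 (iv F6848)) (tt N1766 (iv D4143)) (tt N6131 D7015))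
theorem Q3507 : ∀ i, i < 3507 → P i := stepQ 3506 Q3506 (allL N3506 (tt N3668 (iv F3276)) (tt N1769 F3117) (tt N3438 F3118) (tt N6132 D7016) (tt N1766 (iv D4144)))
theorem Q3508 : ∀ i, i < 3508 → P i := stepQ 3507 Q3507 (allL N3507 (tt N1767 (iv D4145)) (tt N4650 F4518) (tt N6133 D7017) (tt N6134 D7018) (tt N6135 D7019))
theorem Q3509 : ∀ i, i < 3509 → P i := stepQ 3508 Q3508 (allL N3508 (tt N4848 (iv F4767)) (tt N1767 (iv D4146)) (tt N4894 F4826) (tt N6136 D7020) (tt N6137 D7021))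
theorem Q3510 : ∀ i, i < 3510 → P i := stepQ 3509 Q3509 (allL N3509 (tt N6138 D7022) (tt N6136 (iv F6861)) (tt N1768 F3119) (tt N1767 (iv D4147)) (tt N6139 D7023))
theorem Q3511 : ∀ i, i < 3511 → P i := stepQ 3510 Q3510 (allL N3510 (tt N6135 (iv F6859)) (tt N6137 (iv F6864)) (tt N6140 D7024) (tt N6141 D7025) (tt N1767 (iv D4148)))
theorem Q3512 : ∀ i, i < 3512 → P i := stepQ 3511 Q3511 (allL N3511 (tt N1768 (iv D4149)) (tt N2148 F3120) (tt N6142 D7026) (tt N6143 D7027) (tt N6144 D7028))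
theorem Q3513 : ∀ i, i < 3513 → P i := stepQ 3512 Q3512 (allL N3512 (tt N6144 (iv F6871)) (tt N6131 (iv F6850)) (tt N6145 D7029) (tt N1921 F3121) (tt N1768 (iv D4150)))
theorem Q3514 : ∀ i, i < 3514 → P i := stepQ 3513 Q3513 (allL N3513 (tt N6146 D7030) (tt N6147 D7031) (tt N1769 (iv D4151)) (tt N6148 D7032) (tt N6149 D7033))
theorem Q3515 : ∀ i, i < 3515 → P i := stepQ 3514 Q3514 (allL N3514 (tt N6150 D7034) (tt N6132 (iv F6853)) (tt N6148 (iv F6874)) (tt N1769 (iv D4152)) (tt N1920 F3122))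
theorem Q3516 : ∀ i, i < 3516 → P i := stepQ 3515 Q3515 (allL N3515 (tt N2559 F3157) (tt N1770 (iv D4153)) (tt N4875 (iv F4801)) (tt N3913 (iv F3621)) (tt N6151 D7035))
theorem Q3517 : ∀ i, i < 3517 → P i := stepQ 3516 Q3516 (allL N3516 (tt N6133 (iv F6856)) (tt N1800 F3174) (tt N1770 (iv D4154)) (tt N6152 D7036) (tt N6153 D7037))
theorem Q3518 : ∀ i, i < 3518 → P i := stepQ 3517 Q3517 (allL N3517 (tt N6142 (iv F6868)) (tt N3913 F3622) (tt N6152 (iv F6881)) (tt N1770 (iv D4155)) (tt N6154 D7038))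
theorem Q3519 : ∀ i, i < 3519 → P i := stepQ 3518 Q3518 (allL N3518 (tt N1772 F3123) (tt N6151 (iv F6878)) (tt N3066 (iv F5555)) (tt N6155 D7039) (tt N1770 (iv D4156)))
theorem Q3520 : ∀ i, i < 3520 → P i := stepQ 3519 Q3519 (allL N3519 (tt N1771 (iv D4157)) (tt N6156 D7040) (tt N6157 D7041) (tt N6158 D7042) (tt N6159 D7043))
theorem Q3521 : ∀ i, i < 3521 → P i := stepQ 3520 Q3520 (allL N3520 (tt N6159 (iv F6888)) (tt N4989 F5011) (tt N6160 D7044) (tt N1923 F4989) (tt N1771 (iv D4158)))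
theorem Q3522 : ∀ i, i < 3522 → P i := stepQ 3521 Q3521 (allL N3521 (tt N6140 (iv F6867)) (tt N6004 (iv F6692)) (tt N1772 (iv D4159)) (tt N6127 (iv F6846)) (tt N5987 (iv F6657)))
theorem Q3523 : ∀ i, i < 3523 → P i := stepQ 3522 Q3522 (allL N3522 (tt N3548 (iv F3147)) (tt N1773 (iv D4161)) (tt N6161 D7045) (tt N6162 D7046) (tt N6163 D7047))
theorem Q3524 : ∀ i, i < 3524 → P i := stepQ 3523 Q3523 (allL N3523 (tt N6134 (iv F6858)) (tt N6164 D7048) (tt N1773 (iv D4162)) (tt N6165 D7049) (tt N6166 D7050))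
theorem Q3525 : ∀ i, i < 3525 → P i := stepQ 3524 Q3524 (allL N3524 (tt N6143 (iv F6869)) (tt N6162 (iv F6891)) (tt N6165 (iv F6893)) (tt N1773 (iv D4163)) (tt N6122 (iv F6844)))
theorem Q3526 : ∀ i, i < 3526 → P i := stepQ 3525 Q3525 (allL N3525 (tt N1774 F3124) (tt N6163 (iv F6892)) (tt N6167 D7051) (tt N6120 (iv F6843)) (tt N1773 (iv D4164)))
theorem Q3527 : ∀ i, i < 3527 → P i := stepQ 3526 Q3526 (allL N3526 (tt N6168 D7052) (tt N4500 F5747) (tt N1774 (iv D4165)) (tt N1924 F3125) (tt N4499 (iv F5752)))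
theorem Q3528 : ∀ i, i < 3528 → P i := stepQ 3527 Q3527 (allL N3527 (tt N1775 (iv D4166)) (tt N4760 (iv F4633)) (tt N6153 (iv F6883)) (tt N6169 D7053) (tt N5986 (iv F6655)))
theorem Q3529 : ∀ i, i < 3529 → P i := stepQ 3528 Q3528 (allL N3528 (tt N3504 F3132) (tt N2605 F3138) (tt N1776 (iv D4175)) (tt N6170 D7054) (tt N3093 F3131))
theorem Q3530 : ∀ i, i < 3530 → P i := stepQ 3529 Q3529 (allL N3529 (tt N3505 (iv F3866)) (tt N1778 F3133) (tt N6170 (iv F6896)) (tt N1776 (iv D4176)) (tt N6171 D7055))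
theorem Q3531 : ∀ i, i < 3531 → P i := stepQ 3530 Q3530 (allL N3530 (tt N1790 F3134) (tt N1779 F3135) (tt N3091 F3136) (tt N6172 D7056) (tt N1776 (iv D4177)))
theorem Q3532 : ∀ i, i < 3532 → P i := stepQ 3531 Q3531 (allL N3531 (tt N4845 (iv F4761)) (tt N1777 (iv D4178)) (tt N2604 F3137) (tt N4187 (iv F3913)) (tt N4546 (iv F4331)))
theorem Q3533 : ∀ i, i < 3533 → P i := stepQ 3532 Q3532 (allL N3532 (tt N5962 (iv F6615)) (tt N4546 F4332) (tt N6173 D7057) (tt N4256 (iv F3982)) (tt N1777 (iv D4180)))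
theorem Q3534 : ∀ i, i < 3534 → P i := stepQ 3533 Q3533 (allL N3533 (tt N1778 (iv D4181)) (tt N4140 (iv F3865)) (tt N6174 D7058) (tt N6175 D7059) (tt N6176 D7060))
theorem Q3535 : ∀ i, i < 3535 → P i := stepQ 3534 Q3534 (allL N3534 (tt N6176 (iv F6911)) (tt N6171 (iv F6900)) (tt N6177 D7061) (tt N1896 F3140) (tt N1778 (iv D4182)))
theorem Q3536 : ∀ i, i < 3536 → P i := stepQ 3535 Q3535 (allL N3535 (tt N6178 D7062) (tt N6179 D7063) (tt N1779 (iv D4183)) (tt N6180 D7064) (tt N6181 D7065))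
theorem Q3537 : ∀ i, i < 3537 → P i := stepQ 3536 Q3536 (allL N3536 (tt N6182 D7066) (tt N6172 (iv F6903)) (tt N6180 (iv F6913)) (tt N1779 (iv D4184)) (tt N1895 F3141))
theorem Q3538 : ∀ i, i < 3538 → P i := stepQ 3537 Q3537 (allL N3537 (tt N4777 (iv F4662)) (tt N1780 (iv D4185)) (tt N4871 (iv F4796)) (tt N6183 D7067) (tt N6184 D7068))
theorem Q3539 : ∀ i, i < 3539 → P i := stepQ 3538 Q3538 (allL N3538 (tt N5960 (iv F6608)) (tt N4844 (iv F4759)) (tt N1780 (iv D4186)) (tt N4189 F6609) (tt N6185 D7069))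
theorem Q3540 : ∀ i, i < 3540 → P i := stepQ 3539 Q3539 (allL N3539 (tt N6174 (iv F6908)) (tt N6183 (iv F6915)) (tt N4189 (iv F6610)) (tt N1780 (iv D4187)) (tt N6186 D7070))
theorem Q3541 : ∀ i, i < 3541 → P i := stepQ 3540 Q3540 (allL N3540 (tt N1783 F3142) (tt N6184 (iv F6916)) (tt N5142 F5261) (tt N6187 D7071) (tt N1780 (iv D4188)))
theorem Q3542 : ∀ i, i < 3542 → P i := stepQ 3541 Q3541 (allL N3541 (tt N1781 (iv D4189)) (tt N4905 (iv F4878)) (tt N2627 F3143) (tt N2626 F3144) (tt N6188 D7072))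
theorem Q3543 : ∀ i, i < 3543 → P i := stepQ 3542 Q3542 (allL N3542 (tt N6189 D7073) (tt N1782 F3145) (tt N5719 (iv F6166)) (tt N1781 (iv D4190)) (tt N6190 D7074))
theorem Q3544 : ∀ i, i < 3544 → P i := stepQ 3543 Q3543 (allL N3543 (tt N6188 (iv F6919)) (tt N1783 F3146) (tt N5688 (iv F6119)) (tt N6191 D7075) (tt N1781 (iv D4191)))
theorem Q3545 : ∀ i, i < 3545 → P i := stepQ 3544 Q3544 (allL N3544 (tt N1782 (iv D4192)) (tt N6192 D7076) (tt N6193 D7077) (tt N6194 D7078) (tt N6195 D7079))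
theorem Q3546 : ∀ i, i < 3546 → P i := stepQ 3545 Q3545 (allL N3545 (tt N6195 (iv F6938)) (tt N6190 (iv F6927)) (tt N6196 D7080) (tt N1900 F6930) (tt N1782 (iv D4193)))
theorem Q3547 : ∀ i, i < 3547 → P i := stepQ 3546 Q3546 (allL N3546 (tt N6173 (iv F6907)) (tt N2489 F4441) (tt N1783 (iv D4194)) (tt N6197 D7081) (tt N6198 D7082))
theorem Q3548 : ∀ i, i < 3548 → P i := stepQ 3547 Q3547 (allL N3547 (tt N6199 D7083) (tt N6191 (iv F6934)) (tt N6197 (iv F6942)) (tt N1783 (iv D4195)) (tt N1899 F6931))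
theorem Q3549 : ∀ i, i < 3549 → P i := stepQ 3548 Q3548 (allL N3548 (tt N3522 F3147) (tt N1784 (iv D4196)) (tt N6200 D7084) (tt N6201 D7085) (tt N6202 D7086))
theorem Q3550 : ∀ i, i < 3550 → P i := stepQ 3549 Q3549 (allL N3549 (tt N5961 (iv F6612)) (tt N6203 D7087) (tt N1784 (iv D4197)) (tt N4193 (iv F6613)) (tt N6204 D7088))
theorem Q3551 : ∀ i, i < 3551 → P i := stepQ 3550 Q3550 (allL N3550 (tt N6175 (iv F6909)) (tt N6201 (iv F6949)) (tt N4193 F6614) (tt N1784 (iv D4198)) (tt N6205 D7089))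
theorem Q3552 : ∀ i, i < 3552 → P i := stepQ 3551 Q3551 (allL N3551 (tt N1785 F3148) (tt N6202 (iv F6954)) (tt N6206 D7090) (tt N6207 D7091) (tt N1784 (iv D4199)))
theorem Q3553 : ∀ i, i < 3553 → P i := stepQ 3552 Q3552 (allL N3552 (tt N6208 D7092) (tt N6209 D7093) (tt N1785 (iv D4200)) (tt N1902 F3149) (tt N6210 D7094))
theorem Q3554 : ∀ i, i < 3554 → P i := stepQ 3553 Q3553 (allL N3553 (tt N1786 (iv D4201)) (tt N6211 D7095) (tt N6185 (iv F6918)) (tt N6212 D7096) (tt N6213 D7097))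
theorem Q3555 : ∀ i, i < 3555 → P i := stepQ 3554 Q3554 (allL N3554 (tt N6214 D7098) (tt N1786 (iv D4202)) (tt N5653 F6050) (tt N6215 D7099) (tt N5650 (iv F6052)))
theorem Q3556 : ∀ i, i < 3556 → P i := stepQ 3555 Q3555 (allL N3555 (tt N6216 D7100) (tt N6215 (iv F6976)) (tt N1787 F3150) (tt N1786 (iv D4203)) (tt N6217 D7101))
theorem Q3557 : ∀ i, i < 3557 → P i := stepQ 3556 Q3556 (allL N3556 (tt N6213 (iv F6971)) (tt N5650 F6053) (tt N6198 (iv F6944)) (tt N6210 F6966) (tt N1786 (iv D4204)))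
theorem Q3558 : ∀ i, i < 3558 → P i := stepQ 3557 Q3557 (allL N3557 (tt N1787 (iv D4205)) (tt N6218 D7102) (tt N6219 D7103) (tt N6205 (iv F6958)) (tt N1901 F3151))
theorem Q3559 : ∀ i, i < 3559 → P i := stepQ 3558 Q3558 (allL N3558 (tt N1788 (iv D4208)) (tt N4776 (iv F4660)) (tt N3500 F3155) (tt N6220 D7104) (tt N2813 F3156))
theorem Q3560 : ∀ i, i < 3560 → P i := stepQ 3559 Q3559 (allL N3559 (tt N6170 (iv F6897)) (tt N1997 F3161) (tt N1789 F3162) (tt N1788 (iv D4209)) (tt N3097 (iv F3163)))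
theorem Q3561 : ∀ i, i < 3561 → P i := stepQ 3560 Q3560 (allL N3560 (tt N1789 (iv D4210)) (tt N3501 (iv F3868)) (tt N6220 (iv F6986)) (tt N3500 F3867) (tt N6221 D7105))
theorem Q3562 : ∀ i, i < 3562 → P i := stepQ 3561 Q3561 (allL N3561 (tt N6221 (iv F6988)) (tt N1796 F3164) (tt N3095 F3165) (tt N1886 (iv F3166)) (tt N1789 (iv D4211)))
theorem Q3563 : ∀ i, i < 3563 → P i := stepQ 3562 Q3562 (allL N3562 (tt N6222 D7106) (tt N1798 F3167) (tt N3096 F3168) (tt N1790 (iv D4212)) (tt N1885 F3169))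
theorem Q3564 : ∀ i, i < 3564 → P i := stepQ 3563 Q3563 (allL N3563 (tt N2878 F3170) (tt N1791 (iv D4213)) (tt N2033 (iv F3171)) (tt N6223 D7107) (tt N6224 D7108))
theorem Q3565 : ∀ i, i < 3565 → P i := stepQ 3564 Q3564 (allL N3564 (tt N1800 F3172) (tt N2593 F3173) (tt N1791 (iv D4214)) (tt N6225 D7109) (tt N6226 D7110))
theorem Q3566 : ∀ i, i < 3566 → P i := stepQ 3565 Q3565 (allL N3565 (tt N1807 F3175) (tt N6223 (iv F6996)) (tt N6225 (iv F7004)) (tt N1791 (iv D4215)) (tt N6227 D7111))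
theorem Q3567 : ∀ i, i < 3567 → P i := stepQ 3566 Q3566 (allL N3566 (tt N1794 F3176) (tt N6224 (iv F7000)) (tt N5481 (iv F5805)) (tt N1852 F4850) (tt N1791 (iv D4216)))
theorem Q3568 : ∀ i, i < 3568 → P i := stepQ 3567 Q3567 (allL N3567 (tt N1792 (iv D4217)) (tt N4849 (iv F4770)) (tt N4848 (iv F4768)) (tt N4848 F4769) (tt N6228 D7112))
theorem Q3569 : ∀ i, i < 3569 → P i := stepQ 3568 Q3568 (allL N3568 (tt N4895 (iv F4827)) (tt N4782 (iv F4669)) (tt N1792 (iv D4218)) (tt N6229 D7113) (tt N3106 F3177))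
theorem Q3570 : ∀ i, i < 3570 → P i := stepQ 3569 Q3569 (allL N3569 (tt N6230 D7114) (tt N1793 F3178) (tt N6229 (iv F7020)) (tt N1792 (iv D4219)) (tt N6231 D7115))
theorem Q3571 : ∀ i, i < 3571 → P i := stepQ 3570 Q3570 (allL N3570 (tt N6228 (iv F7017)) (tt N1794 F3179) (tt N3103 F3180) (tt N6232 D7116) (tt N1792 (iv D4220)))
theorem Q3572 : ∀ i, i < 3572 → P i := stepQ 3571 Q3571 (allL N3571 (tt N1793 (iv D4221)) (tt N4082 (iv F3809)) (tt N4190 (iv F3915)) (tt N6233 D7117) (tt N6234 D7118))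
theorem Q3573 : ∀ i, i < 3573 → P i := stepQ 3572 Q3572 (allL N3572 (tt N6234 (iv F7033)) (tt N6231 (iv F7025)) (tt N6235 D7119) (tt N1889 F4854) (tt N1793 (iv D4222)))
theorem Q3574 : ∀ i, i < 3574 → P i := stepQ 3573 Q3573 (allL N3573 (tt N1805 F3181) (tt N6236 D7120) (tt N1794 (iv D4223)) (tt N6237 D7121) (tt N4574 (iv F4463)))
theorem Q3575 : ∀ i, i < 3575 → P i := stepQ 3574 Q3574 (allL N3574 (tt N6238 D7122) (tt N6232 (iv F7028)) (tt N6237 (iv F7036)) (tt N1794 (iv D4224)) (tt N1888 F4851))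
theorem Q3576 : ∀ i, i < 3576 → P i := stepQ 3575 Q3575 (allL N3575 (tt N1801 F3183) (tt N2172 F3182) (tt N1795 (iv D4225)) (tt N6239 D7123) (tt N6240 D7124))
theorem Q3577 : ∀ i, i < 3577 → P i := stepQ 3576 Q3576 (allL N3576 (tt N1808 F3184) (tt N2154 F3185) (tt N6239 (iv F7041)) (tt N1795 (iv D4226)) (tt N1870 (iv F3186)))
theorem Q3578 : ∀ i, i < 3578 → P i := stepQ 3577 Q3577 (allL N3577 (tt N1796 F3187) (tt N2155 F3188) (tt N6241 D7125) (tt N1864 F3189) (tt N1795 (iv D4227)))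
theorem Q3579 : ∀ i, i < 3579 → P i := stepQ 3578 Q3578 (allL N3578 (tt N6242 D7126) (tt N6243 D7127) (tt N1796 (iv D4228)) (tt N1890 F3190) (tt N6244 D7128))
theorem Q3580 : ∀ i, i < 3580 → P i := stepQ 3579 Q3579 (allL N3579 (tt N1797 (iv D4229)) (tt N6245 D7129) (tt N6226 (iv F7011)) (tt N1866 F3191) (tt N6246 D7130))
theorem Q3581 : ∀ i, i < 3581 → P i := stepQ 3580 Q3580 (allL N3580 (tt N6247 D7131) (tt N1797 (iv D4230)) (tt N6248 D7132) (tt N6249 D7133) (tt N6250 D7134))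
theorem Q3582 : ∀ i, i < 3582 → P i := stepQ 3581 Q3581 (allL N3581 (tt N6251 D7135) (tt N6249 (iv F7062)) (tt N1798 F3192) (tt N1797 (iv D4231)) (tt N6252 D7136))
theorem Q3583 : ∀ i, i < 3583 → P i := stepQ 3582 Q3582 (allL N3582 (tt N6246 (iv F7056)) (tt N6250 (iv F7063)) (tt N4574 F4466) (tt N6244 (iv F7334)) (tt N1797 (iv D4232)))
theorem Q3584 : ∀ i, i < 3584 → P i := stepQ 3583 Q3583 (allL N3583 (tt N1798 (iv D4233)) (tt N2226 (iv F3195)) (tt N6253 D7138) (tt N1870 F3193) (tt N1863 F3194))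
theorem Q3585 : ∀ i, i < 3585 → P i := stepQ 3584 Q3584 (allL N3584 (tt N1799 (iv D4234)) (tt N3373 F3196) (tt N2527 (iv F3197)) (tt N6254 D7139) (tt N6255 D7140))
theorem Q3586 : ∀ i, i < 3586 → P i := stepQ 3585 Q3585 (allL N3585 (tt N6017 (iv F6710)) (tt N4875 (iv F4802)) (tt N1799 (iv D4235)) (tt N6256 D7141) (tt N3118 F3198))
theorem Q3587 : ∀ i, i < 3587 → P i := stepQ 3586 Q3586 (allL N3586 (tt N3901 F4601) (tt N1801 F3199) (tt N6256 (iv F7074)) (tt N1799 (iv D4236)) (tt N6257 D7142))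
theorem Q3588 : ∀ i, i < 3588 → P i := stepQ 3587 Q3587 (allL N3587 (tt N6255 (iv F7072)) (tt N1802 F3200) (tt N6258 D7143) (tt N6259 D7144) (tt N1799 (iv D4237)))
theorem Q3589 : ∀ i, i < 3589 → P i := stepQ 3588 Q3588 (allL N3588 (tt N4190 (iv F3916)) (tt N6152 (iv F6880)) (tt N1801 F3201) (tt N1800 (iv D4238)) (tt N6260 D7145))
theorem Q3590 : ∀ i, i < 3590 → P i := stepQ 3589 Q3589 (allL N3589 (tt N6226 (iv F7009)) (tt N6153 (iv F6882)) (tt N1811 F3202) (tt N6261 D7146) (tt N1800 (iv D4239)))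
theorem Q3591 : ∀ i, i < 3591 → P i := stepQ 3590 Q3590 (allL N3590 (tt N6240 (iv F7045)) (tt N6257 (iv F7077)) (tt N6262 D7147) (tt N1881 F4855) (tt N1801 (iv D4240)))
theorem Q3592 : ∀ i, i < 3592 → P i := stepQ 3591 Q3591 (allL N3591 (tt N5481 (iv F5806)) (tt N3462 F4465) (tt N1802 (iv D4241)) (tt N6263 D7148) (tt N4572 (iv F4464)))
theorem Q3593 : ∀ i, i < 3593 → P i := stepQ 3592 Q3592 (allL N3592 (tt N6264 D7149) (tt N6259 (iv F7082)) (tt N6263 (iv F7090)) (tt N1802 (iv D4242)) (tt N1880 F4838))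
theorem Q3594 : ∀ i, i < 3594 → P i := stepQ 3593 Q3593 (allL N3593 (tt N3914 F7007) (tt N1803 (iv D4243)) (tt N6265 D7150) (tt N6266 D7151) (tt N6267 D7152))
theorem Q3595 : ∀ i, i < 3595 → P i := stepQ 3594 Q3594 (allL N3594 (tt N6225 (iv F7005)) (tt N3594 F7006) (tt N1803 (iv D4244)) (tt N6268 D7153) (tt N6269 D7154))
theorem Q3596 : ∀ i, i < 3596 → P i := stepQ 3595 Q3595 (allL N3595 (tt N6239 (iv F7039)) (tt N6266 (iv F7099)) (tt N6268 (iv F7110)) (tt N1803 (iv D4245)) (tt N1877 F4856))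
theorem Q3597 : ∀ i, i < 3597 → P i := stepQ 3596 Q3596 (allL N3596 (tt N1804 F3203) (tt N6267 (iv F7107)) (tt N5479 (iv F5801)) (tt N1876 F4839) (tt N1803 (iv D4246)))
theorem Q3598 : ∀ i, i < 3598 → P i := stepQ 3597 Q3597 (allL N3597 (tt N6270 D7155) (tt N4686 (iv F5743)) (tt N1804 (iv D4247)) (tt N1882 F4841) (tt N4575 F5741))
theorem Q3599 : ∀ i, i < 3599 → P i := stepQ 3598 Q3598 (allL N3598 (tt N1806 (iv D4254)) (tt N1812 F3206) (tt N6271 D7156) (tt N6272 D7157) (tt N6273 D7158))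
theorem Q3600 : ∀ i, i < 3600 → P i := stepQ 3599 Q3599 (allL N3599 (tt N6271 (iv F7121)) (tt N3916 (iv F3626)) (tt N1806 (iv D4255)) (tt N2938 F3414) (tt N2933 (iv F3415)))
theorem Q3601 : ∀ i, i < 3601 → P i := stepQ 3600 Q3600 (allL N3600 (tt N6201 (iv F6951)) (tt N1808 F3207) (tt N2938 (iv F3413)) (tt N1806 (iv D4256)) (tt N1848 (iv F3208)))
theorem Q3602 : ∀ i, i < 3602 → P i := stepQ 3601 Q3601 (allL N3601 (tt N6273 (iv F7131)) (tt N1809 F3209) (tt N2924 (iv F3211)) (tt N1847 F3210) (tt N1806 (iv D4257)))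
theorem Q3603 : ∀ i, i < 3603 → P i := stepQ 3602 Q3602 (allL N3602 (tt N6274 D7159) (tt N1807 (iv D4258)) (tt N6275 D7160) (tt N6276 D7161) (tt N6277 D7162))
theorem Q3604 : ∀ i, i < 3604 → P i := stepQ 3603 Q3603 (allL N3603 (tt N6233 (iv F7031)) (tt N6276 (iv F7138)) (tt N1808 F3212) (tt N1807 (iv D4259)) (tt N1860 F4852))
theorem Q3605 : ∀ i, i < 3605 → P i := stepQ 3604 Q3604 (allL N3604 (tt N6227 (iv F7015)) (tt N6277 (iv F7143)) (tt N6270 (iv F7116)) (tt N1858 F4853) (tt N1807 (iv D4260)))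
theorem Q3606 : ∀ i, i < 3606 → P i := stepQ 3605 Q3605 (allL N3605 (tt N6278 D7163) (tt N6279 D7164) (tt N1809 (iv D4261)) (tt N1865 F3213) (tt N6280 D7165))
theorem Q3607 : ∀ i, i < 3607 → P i := stepQ 3606 Q3606 (allL N3606 (tt N1810 (iv D4262)) (tt N6281 D7166) (tt N6269 (iv F7115)) (tt N4587 (iv F5723)) (tt N4576 F5726))
theorem Q3608 : ∀ i, i < 3608 → P i := stepQ 3607 Q3607 (allL N3607 (tt N4733 (iv F4588)) (tt N1811 (iv D4265)) (tt N3056 F4468) (tt N6282 D7167) (tt N4571 (iv F4467)))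
theorem Q3609 : ∀ i, i < 3609 → P i := stepQ 3608 Q3608 (allL N3608 (tt N6253 (iv F7067)) (tt N6282 (iv F7158)) (tt N6261 (iv F7086)) (tt N1811 (iv D4266)) (tt N4593 (iv F4390)))
theorem Q3610 : ∀ i, i < 3610 → P i := stepQ 3609 Q3609 (allL N3609 (tt N2192 F3216) (tt N6283 D7168) (tt N1812 (iv D4269)) (tt N6284 D7169) (tt N6285 D7170))
theorem Q3611 : ∀ i, i < 3611 → P i := stepQ 3610 Q3610 (allL N3610 (tt N6286 D7171) (tt N6272 (iv F7126)) (tt N6284 (iv F7162)) (tt N1812 (iv D4270)) (tt N1824 F3217))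
theorem Q3612 : ∀ i, i < 3612 → P i := stepQ 3611 Q3611 (allL N3611 (tt N1814 F3218) (tt N6273 (iv F7132)) (tt N6287 D7172) (tt N1822 F3219) (tt N1812 (iv D4271)))
theorem Q3613 : ∀ i, i < 3613 → P i := stepQ 3612 Q3612 (allL N3612 (tt N1813 (iv D4272)) (tt N6288 D7173) (tt N6289 D7174) (tt N6290 D7175) (tt N6291 D7176))
theorem Q3614 : ∀ i, i < 3614 → P i := stepQ 3613 Q3613 (allL N3613 (tt N4911 (iv F4892)) (tt N1813 (iv D4273)) (tt N4892 (iv F4817)) (tt N3503 F3220) (tt N6292 D7177))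
theorem Q3615 : ∀ i, i < 3615 → P i := stepQ 3614 Q3614 (allL N3614 (tt N6291 (iv F7175)) (tt N6292 (iv F7177)) (tt N6293 D7178) (tt N1832 F4869) (tt N1813 (iv D4274)))
theorem Q3616 : ∀ i, i < 3616 → P i := stepQ 3615 Q3615 (allL N3615 (tt N6294 D7179) (tt N6295 D7180) (tt N1814 (iv D4275)) (tt N1839 F3221) (tt N6296 D7181))
theorem Q3617 : ∀ i, i < 3617 → P i := stepQ 3616 Q3616 (allL N3616 (tt N6297 D7182) (tt N2642 F3234) (tt N1816 F3235) (tt N1815 (iv D4296)) (tt N2735 F4926))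
theorem Q3618 : ∀ i, i < 3618 → P i := stepQ 3617 Q3617 (allL N3617 (tt N1816 (iv D4297)) (tt N3495 (iv F3966)) (tt N6297 (iv F7184)) (tt N3493 F3965) (tt N6298 D7183))
theorem Q3619 : ∀ i, i < 3619 → P i := stepQ 3618 Q3618 (allL N3618 (tt N6298 (iv F7186)) (tt N1822 F3236) (tt N2732 (iv F4925)) (tt N6273 (iv F7133)) (tt N1816 (iv D4298)))
theorem Q3620 : ∀ i, i < 3620 → P i := stepQ 3619 Q3619 (allL N3619 (tt N6299 D7184) (tt N1824 F3237) (tt N2733 F3238) (tt N1817 (iv D4299)) (tt N6272 (iv F7128)))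
theorem Q3621 : ∀ i, i < 3621 → P i := stepQ 3620 Q3620 (allL N3620 (tt N6300 D7185) (tt N1819 F3239) (tt N2641 F3240) (tt N1818 (iv D4300)) (tt N4282 (iv F4007)))
theorem Q3622 : ∀ i, i < 3622 → P i := stepQ 3621 Q3621 (allL N3621 (tt N1819 (iv D4301)) (tt N3367 F3999) (tt N6301 D7186) (tt N6302 D7187) (tt N6303 D7188))
theorem Q3623 : ∀ i, i < 3623 → P i := stepQ 3622 Q3622 (allL N3622 (tt N6303 (iv F7200)) (tt N4282 F4008) (tt N6304 D7189) (tt N6285 (iv F7166)) (tt N1819 (iv D4302)))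
theorem Q3624 : ∀ i, i < 3624 → P i := stepQ 3623 Q3623 (allL N3623 (tt N1833 F3241) (tt N4307 (iv F4036)) (tt N1820 (iv D4303)) (tt N6305 D7190) (tt N6306 D7191))
theorem Q3625 : ∀ i, i < 3625 → P i := stepQ 3624 Q3624 (allL N3624 (tt N6307 D7192) (tt N4284 (iv F4011)) (tt N6305 (iv F7202)) (tt N1820 (iv D4304)) (tt N6284 (iv F7163)))
theorem Q3626 : ∀ i, i < 3626 → P i := stepQ 3625 Q3625 (allL N3625 (tt N4139 (iv F3998)) (tt N1821 (iv D4305)) (tt N5079 (iv F5160)) (tt N2225 F3997) (tt N6308 D7193))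
theorem Q3627 : ∀ i, i < 3627 → P i := stepQ 3626 Q3626 (allL N3626 (tt N1827 F3242) (tt N6309 D7194) (tt N1821 (iv D4306)) (tt N6310 D7195) (tt N6311 D7196))
theorem Q3628 : ∀ i, i < 3628 → P i := stepQ 3627 Q3627 (allL N3627 (tt N1837 F3243) (tt N2225 (iv F3996)) (tt N6310 (iv F7210)) (tt N1821 (iv D4307)) (tt N6312 D7197))
theorem Q3629 : ∀ i, i < 3629 → P i := stepQ 3628 Q3628 (allL N3628 (tt N1822 F3244) (tt N6308 (iv F7207)) (tt N6313 D7198) (tt N6314 D7199) (tt N1821 (iv D4308)))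
theorem Q3630 : ∀ i, i < 3630 → P i := stepQ 3629 Q3629 (allL N3629 (tt N6315 D7200) (tt N6316 D7201) (tt N1822 (iv D4309)) (tt N6287 (iv F7170)) (tt N6317 D7202))
theorem Q3631 : ∀ i, i < 3631 → P i := stepQ 3630 Q3630 (allL N3630 (tt N1823 (iv D4310)) (tt N3286 F3246) (tt N2195 F3245) (tt N6318 D7203) (tt N5342 (iv F5558)))
theorem Q3632 : ∀ i, i < 3632 → P i := stepQ 3631 Q3631 (allL N3631 (tt N6319 D7204) (tt N1823 (iv D4311)) (tt N4290 (iv F4017)) (tt N6320 D7205) (tt N6321 D7206))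
theorem Q3633 : ∀ i, i < 3633 → P i := stepQ 3632 Q3632 (allL N3632 (tt N6322 D7207) (tt N6320 (iv F7223)) (tt N1824 F3247) (tt N1823 (iv D4312)) (tt N6323 D7208))
theorem Q3634 : ∀ i, i < 3634 → P i := stepQ 3633 Q3633 (allL N3633 (tt N5342 F5559) (tt N6321 (iv F7224)) (tt N6306 (iv F7204)) (tt N6317 (iv F11954)) (tt N1823 (iv D4313)))
theorem Q3635 : ∀ i, i < 3635 → P i := stepQ 3634 Q3634 (allL N3634 (tt N1824 (iv D4314)) (tt N6324 D7210) (tt N6325 D7211) (tt N6312 (iv F7214)) (tt N6286 (iv F7169)))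
theorem Q3636 : ∀ i, i < 3636 → P i := stepQ 3635 Q3635 (allL N3635 (tt N6326 D7212) (tt N1827 F3248) (tt N2648 F3249) (tt N1825 (iv D4315)) (tt N6327 D7213))
theorem Q3637 : ∀ i, i < 3637 → P i := stepQ 3636 Q3636 (allL N3636 (tt N3922 (iv F3635)) (tt N1828 F3250) (tt N2283 F3251) (tt N6328 D7214) (tt N1825 (iv D4316)))
theorem Q3638 : ∀ i, i < 3638 → P i := stepQ 3637 Q3637 (allL N3637 (tt N6301 (iv F7197)) (tt N3637 F3252) (tt N1827 F3253) (tt N1826 (iv D4317)) (tt N6329 D7215))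
theorem Q3639 : ∀ i, i < 3639 → P i := stepQ 3638 Q3638 (allL N3638 (tt N2195 F3254) (tt N3638 F3255) (tt N1840 F3256) (tt N6330 D7216) (tt N1826 (iv D4318)))
theorem Q3640 : ∀ i, i < 3640 → P i := stepQ 3639 Q3639 (allL N3639 (tt N6311 (iv F7211)) (tt N6327 (iv F7231)) (tt N5127 (iv F10026)) (tt N6291 (iv F7176)) (tt N1827 (iv D4319)))
theorem Q3641 : ∀ i, i < 3641 → P i := stepQ 3640 Q3640 (allL N3640 (tt N6331 D7218) (tt N6328 (iv F7232)) (tt N5131 (iv F5239)) (tt N1828 (iv D4320)) (tt N6290 (iv F7174)))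
theorem Q3642 : ∀ i, i < 3642 → P i := stepQ 3641 Q3641 (allL N3641 (tt N4993 (iv F5019)) (tt N1832 F3257) (tt N5001 (iv F5036)) (tt N6292 (iv F7178)) (tt N1829 (iv D4321)))
theorem Q3643 : ∀ i, i < 3643 → P i := stepQ 3642 Q3642 (allL N3642 (tt N4907 (iv F4882)) (tt N1834 F3258) (tt N4901 F4864) (tt N1830 (iv D4322)) (tt N3503 (iv F4865)))
theorem Q3644 : ∀ i, i < 3644 → P i := stepQ 3643 Q3643 (allL N3643 (tt N6332 D7219) (tt N1831 (iv D4323)) (tt N2701 F3259) (tt N6333 D7220) (tt N6334 D7221))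
theorem Q3645 : ∀ i, i < 3645 → P i := stepQ 3644 Q3644 (allL N3644 (tt N2194 F3260) (tt N3750 (iv F3437)) (tt N1831 (iv D4324)) (tt N6335 D7222) (tt N6336 D7223))
theorem Q3646 : ∀ i, i < 3646 → P i := stepQ 3645 Q3645 (allL N3645 (tt N6310 (iv F7209)) (tt N6333 (iv F7238)) (tt N6335 (iv F7243)) (tt N1831 (iv D4325)) (tt N6337 D7224))
theorem Q3647 : ∀ i, i < 3647 → P i := stepQ 3646 Q3646 (allL N3646 (tt N1832 F3261) (tt N6334 (iv F7241)) (tt N6338 D7225) (tt N6339 D7226) (tt N1831 (iv D4326)))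
theorem Q3648 : ∀ i, i < 3648 → P i := stepQ 3647 Q3647 (allL N3647 (tt N6340 D7227) (tt N6341 D7228) (tt N1832 (iv D4327)) (tt N6293 (iv F7179)) (tt N6342 D7229))
theorem Q3649 : ∀ i, i < 3649 → P i := stepQ 3648 Q3648 (allL N3648 (tt N6343 D7230) (tt N2495 F3262) (tt N1834 F3263) (tt N1833 (iv D4329)) (tt N6344 D7231))
theorem Q3650 : ∀ i, i < 3650 → P i := stepQ 3649 Q3649 (allL N3649 (tt N6306 (iv F7203)) (tt N2496 F3264) (tt N1843 F3265) (tt N6342 F7258) (tt N1833 (iv D4330)))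
theorem Q3651 : ∀ i, i < 3651 → P i := stepQ 3650 Q3650 (allL N3650 (tt N1834 (iv D4331)) (tt N6345 D7232) (tt N5646 F6038) (tt N6337 (iv F7249)) (tt N3502 F4867))
theorem Q3652 : ∀ i, i < 3652 → P i := stepQ 3651 Q3651 (allL N3651 (tt N1884 F3266) (tt N4957 (iv F4966)) (tt N1835 (iv D4333)) (tt N4956 F4964) (tt N2848 (iv F3403)))
theorem Q3653 : ∀ i, i < 3653 → P i := stepQ 3652 Q3652 (allL N3652 (tt N1885 F3995) (tt N1837 F3267) (tt N4956 (iv F4963)) (tt N1835 (iv D4334)) (tt N6222 (iv F6994)))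
theorem Q3654 : ∀ i, i < 3654 → P i := stepQ 3653 Q3653 (allL N3653 (tt N3784 (iv F3469)) (tt N1838 F3268) (tt N6346 D7233) (tt N6221 (iv F6991)) (tt N1835 (iv D4335)))
theorem Q3655 : ∀ i, i < 3655 → P i := stepQ 3654 Q3654 (allL N3654 (tt N2722 F3269) (tt N1836 (iv D4336)) (tt N4954 (iv F4958)) (tt N4953 (iv F4956)) (tt N6347 D7234))
theorem Q3656 : ∀ i, i < 3656 → P i := stepQ 3655 Q3655 (allL N3655 (tt N6302 (iv F7198)) (tt N4953 F4955) (tt N1837 F3270) (tt N1836 (iv D4337)) (tt N6348 D7235))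
theorem Q3657 : ∀ i, i < 3657 → P i := stepQ 3656 Q3656 (allL N3656 (tt N2196 F3271) (tt N6347 (iv F7269)) (tt N6340 (iv F7252)) (tt N6349 D7236) (tt N1836 (iv D4338)))
theorem Q3658 : ∀ i, i < 3658 → P i := stepQ 3657 Q3657 (allL N3657 (tt N6312 (iv F7212)) (tt N6222 F6995) (tt N6350 D7237) (tt N1844 F3272) (tt N1837 (iv D4339)))
theorem Q3659 : ∀ i, i < 3659 → P i := stepQ 3658 Q3658 (allL N3658 (tt N6351 D7238) (tt N6352 D7239) (tt N1838 (iv D4340)) (tt N6353 D7240) (tt N6354 D7241))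
theorem Q3660 : ∀ i, i < 3660 → P i := stepQ 3659 Q3659 (allL N3659 (tt N6314 (iv F7215)) (tt N6221 (iv F6989)) (tt N6353 (iv F7282)) (tt N1838 (iv D4341)) (tt N3501 F3273))
theorem Q3661 : ∀ i, i < 3661 → P i := stepQ 3660 Q3660 (allL N3660 (tt N1839 (iv D4342)) (tt N6355 D7242) (tt N6336 (iv F7248)) (tt N6356 D7243) (tt N6357 D7244))
theorem Q3662 : ∀ i, i < 3662 → P i := stepQ 3661 Q3661 (allL N3661 (tt N4543 F5110) (tt N1839 (iv D4343)) (tt N4491 F5304) (tt N6295 (iv F7181)) (tt N4449 (iv F5111)))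
theorem Q3663 : ∀ i, i < 3663 → P i := stepQ 3662 Q3662 (allL N3662 (tt N6357 (iv F7283)) (tt N4449 F5112) (tt N6342 (iv F7257)) (tt N1843 F5113) (tt N1839 (iv D4344)))
theorem Q3664 : ∀ i, i < 3664 → P i := stepQ 3663 Q3663 (allL N3663 (tt N6325 (iv F7228)) (tt N4316 (iv F4047)) (tt N6330 (iv F7236)) (tt N1840 (iv D4345)) (tt N6358 D7245))
theorem Q3665 : ∀ i, i < 3665 → P i := stepQ 3664 Q3664 (allL N3664 (tt N1843 F3274) (tt N4317 (iv F4050)) (tt N5132 (iv F5242)) (tt N6359 D7246) (tt N1840 (iv D4346)))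
theorem Q3666 : ∀ i, i < 3666 → P i := stepQ 3665 Q3665 (allL N3665 (tt N4522 (iv F4426)) (tt N1842 F3275) (tt N4492 (iv F4264)) (tt N1841 (iv D4347)) (tt N4447 (iv F4451)))
theorem Q3667 : ∀ i, i < 3667 → P i := stepQ 3666 Q3666 (allL N3666 (tt N1842 (iv D4348)) (tt N4616 (iv F4478)) (tt N6360 D7247) (tt N6361 D7248) (tt N6362 D7249))
theorem Q3668 : ∀ i, i < 3668 → P i := stepQ 3667 Q3667 (allL N3667 (tt N6362 (iv F7287)) (tt N4447 F4452) (tt N6344 (iv F7261)) (tt N6296 (iv F7182)) (tt N1842 (iv D4349)))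
theorem Q3669 : ∀ i, i < 3669 → P i := stepQ 3668 Q3668 (allL N3668 (tt N3506 F3276) (tt N1844 (iv D4351)) (tt N2811 F3278) (tt N6222 (iv F6993)) (tt N3500 F3277))
theorem Q3670 : ∀ i, i < 3670 → P i := stepQ 3669 Q3669 (allL N3669 (tt N6318 (iv F7220)) (tt N6363 D7250) (tt N1844 (iv D4352)) (tt N6350 (iv F7276)) (tt N6364 D7251))
theorem Q3671 : ∀ i, i < 3671 → P i := stepQ 3670 Q3670 (allL N3670 (tt N1845 (iv D4357)) (tt N5015 (iv F5066)) (tt N1846 F3283) (tt N6365 D7252) (tt N2930 F3282))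
theorem Q3672 : ∀ i, i < 3672 → P i := stepQ 3671 Q3671 (allL N3671 (tt N6366 D7253) (tt N1846 (iv D4358)) (tt N4261 (iv F3988)) (tt N1901 F3967) (tt N6207 (iv F6960)))
theorem Q3673 : ∀ i, i < 3673 → P i := stepQ 3672 Q3672 (allL N3672 (tt N3493 F3963) (tt N1901 F3964) (tt N6365 (iv F7289)) (tt N1846 (iv D4359)) (tt N6218 (iv F6983)))
theorem Q3674 : ∀ i, i < 3674 → P i := stepQ 3673 Q3673 (allL N3673 (tt N1847 F3284) (tt N6207 (iv F6959)) (tt N2923 F3285) (tt N6202 (iv F6955)) (tt N1846 (iv D4360)))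
theorem Q3675 : ∀ i, i < 3675 → P i := stepQ 3674 Q3674 (allL N3674 (tt N1848 (iv D4361)) (tt N6205 (iv F6957)) (tt N2925 F3286) (tt N6218 (iv F6982)) (tt N6201 F6952))
theorem Q3676 : ∀ i, i < 3676 → P i := stepQ 3675 Q3675 (allL N3675 (tt N2886 F3289) (tt N1851 F3287) (tt N2034 F3288) (tt N1849 (iv D4362)) (tt N6367 D7254))
theorem Q3677 : ∀ i, i < 3677 → P i := stepQ 3676 Q3676 (allL N3676 (tt N2861 F3291) (tt N1852 F3292) (tt N5333 (iv F5535)) (tt N6224 F7001) (tt N1849 (iv D4363)))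
theorem Q3678 : ∀ i, i < 3678 → P i := stepQ 3677 Q3677 (allL N3677 (tt N1879 F3295) (tt N2194 F3293) (tt N1851 F3294) (tt N1850 (iv D4364)) (tt N6368 D7255))
theorem Q3679 : ∀ i, i < 3679 → P i := stepQ 3678 Q3678 (allL N3678 (tt N1875 F3296) (tt N2195 F3297) (tt N1866 F3298) (tt N6226 F7012) (tt N1850 (iv D4365)))
theorem Q3680 : ∀ i, i < 3680 → P i := stepQ 3679 Q3679 (allL N3679 (tt N1889 F3299) (tt N6367 (iv F7294)) (tt N6369 D7256) (tt N6227 (iv F7016)) (tt N1851 (iv D4366)))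
theorem Q3681 : ∀ i, i < 3681 → P i := stepQ 3680 Q3680 (allL N3680 (tt N6116 (iv F6838)) (tt N2201 F3300) (tt N3680 F3301) (tt N1853 (iv D4368)) (tt N5348 F6160))
theorem Q3682 : ∀ i, i < 3682 → P i := stepQ 3681 Q3681 (allL N3681 (tt N6370 D7257) (tt N3925 (iv F3639)) (tt N1855 F3302) (tt N1854 (iv D4369)) (tt N2962 (iv F3808)))
theorem Q3683 : ∀ i, i < 3683 → P i := stepQ 3682 Q3682 (allL N3682 (tt N1855 (iv D4370)) (tt N4836 (iv F4752)) (tt N3682 F3303) (tt N6371 D7258) (tt N5359 (iv F5580)))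
theorem Q3684 : ∀ i, i < 3684 → P i := stepQ 3683 Q3683 (allL N3683 (tt N5359 (iv F5581)) (tt N1858 F3304) (tt N2958 (iv F3807)) (tt N6277 (iv F7144)) (tt N1855 (iv D4371)))
theorem Q3685 : ∀ i, i < 3685 → P i := stepQ 3684 Q3684 (allL N3684 (tt N5370 (iv F5592)) (tt N1860 F3305) (tt N2959 F3306) (tt N1856 (iv D4372)) (tt N6276 F7139))
theorem Q3686 : ∀ i, i < 3686 → P i := stepQ 3685 Q3685 (allL N3685 (tt N5701 (iv F6142)) (tt N1857 (iv D4373)) (tt N4081 F3804) (tt N4264 (iv F3991)) (tt N6372 D7259))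
theorem Q3687 : ∀ i, i < 3687 → P i := stepQ 3686 Q3686 (allL N3686 (tt N1874 F3307) (tt N4259 (iv F3986)) (tt N1857 (iv D4374)) (tt N4258 F3984) (tt N6373 D7260))
theorem Q3688 : ∀ i, i < 3688 → P i := stepQ 3687 Q3687 (allL N3687 (tt N1888 F3308) (tt N4264 (iv F3990)) (tt N4258 (iv F3985)) (tt N1857 (iv D4375)) (tt N6238 (iv F7038)))
theorem Q3689 : ∀ i, i < 3689 → P i := stepQ 3688 Q3688 (allL N3688 (tt N1858 F3309) (tt N6372 (iv F7304)) (tt N5478 (iv F5799)) (tt N6234 (iv F7034)) (tt N1857 (iv D4376)))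
theorem Q3690 : ∀ i, i < 3690 → P i := stepQ 3689 Q3689 (allL N3689 (tt N6374 D7261) (tt N6375 D7262) (tt N1858 (iv D4377)) (tt N6270 F7117) (tt N4589 (iv F7118)))
theorem Q3691 : ∀ i, i < 3691 → P i := stepQ 3690 Q3690 (allL N3690 (tt N6376 D7263) (tt N1859 (iv D4379)) (tt N6377 D7264) (tt N6378 D7265) (tt N4588 (iv F4385)))
theorem Q3692 : ∀ i, i < 3692 → P i := stepQ 3691 Q3691 (allL N3691 (tt N6379 D7266) (tt N6378 (iv F7314)) (tt N1860 F3310) (tt N1859 (iv D4380)) (tt N6380 D7267))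
theorem Q3693 : ∀ i, i < 3693 → P i := stepQ 3692 Q3692 (allL N3692 (tt N1860 (iv D4381)) (tt N6381 D7268) (tt N5482 (iv F5808)) (tt N6238 (iv F7037)) (tt N6233 F7032))
theorem Q3694 : ∀ i, i < 3694 → P i := stepQ 3693 Q3693 (allL N3693 (tt N1861 (iv D4383)) (tt N6366 (iv F7291)) (tt N5404 (iv F5638)) (tt N4265 (iv F3992)) (tt N6382 D7269))
theorem Q3695 : ∀ i, i < 3695 → P i := stepQ 3694 Q3694 (allL N3694 (tt N6382 (iv F7317)) (tt N1864 F3311) (tt N5408 (iv F5644)) (tt N2155 (iv F3312)) (tt N1861 (iv D4384)))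
theorem Q3696 : ∀ i, i < 3696 → P i := stepQ 3695 Q3695 (allL N3695 (tt N6383 D7270) (tt N1862 (iv D4385)) (tt N2168 F3313) (tt N2229 (iv F3314)) (tt N6384 D7271))
theorem Q3697 : ∀ i, i < 3697 → P i := stepQ 3696 Q3696 (allL N3696 (tt N1880 F3315) (tt N2229 F3316) (tt N1863 F3317) (tt N1862 (iv D4386)) (tt N6264 (iv F7092)))
theorem Q3698 : ∀ i, i < 3698 → P i := stepQ 3697 Q3697 (allL N3697 (tt N1876 F3318) (tt N6384 (iv F7319)) (tt N6374 (iv F7307)) (tt N6240 (iv F7047)) (tt N1862 (iv D4387)))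
theorem Q3699 : ∀ i, i < 3699 → P i := stepQ 3698 Q3698 (allL N3698 (tt N4587 F5721) (tt N6385 D7272) (tt N1864 (iv D4388)) (tt N6241 (iv F7048)) (tt N4586 F5722))
theorem Q3700 : ∀ i, i < 3700 → P i := stepQ 3699 Q3699 (allL N3699 (tt N1865 (iv D4389)) (tt N6386 D7273) (tt N6373 (iv F7306)) (tt N6242 (iv F7052)) (tt N6387 D7274))
theorem Q3701 : ∀ i, i < 3701 → P i := stepQ 3700 Q3700 (allL N3700 (tt N6388 D7275) (tt N1865 (iv D4390)) (tt N6389 D7276) (tt N6279 (iv F7147)) (tt N6390 D7277))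
theorem Q3702 : ∀ i, i < 3702 → P i := stepQ 3701 Q3701 (allL N3701 (tt N6387 (iv F7323)) (tt N6390 (iv F7326)) (tt N4589 F7119) (tt N1869 F7120) (tt N1865 (iv D4391)))
theorem Q3703 : ∀ i, i < 3703 → P i := stepQ 3702 Q3702 (allL N3702 (tt N2904 F3319) (tt N1866 (iv D4392)) (tt N5440 (iv F5693)) (tt N6245 (iv F7054)) (tt N2041 F3323))
theorem Q3704 : ∀ i, i < 3704 → P i := stepQ 3703 Q3703 (allL N3703 (tt N1869 F3320) (tt N2041 (iv F3322)) (tt N2028 F3321) (tt N6391 D7278) (tt N1866 (iv D4393)))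
theorem Q3705 : ∀ i, i < 3705 → P i := stepQ 3704 Q3704 (allL N3704 (tt N1867 (iv D4394)) (tt N4238 (iv F3957)) (tt N3704 F3324) (tt N6392 D7279) (tt N3997 (iv F3723)))
theorem Q3706 : ∀ i, i < 3706 → P i := stepQ 3705 Q3705 (allL N3705 (tt N2362 (iv F3327)) (tt N1943 F3325) (tt N1867 (iv D4395)) (tt N6393 D7280) (tt N2359 F3326))
theorem Q3707 : ∀ i, i < 3707 → P i := stepQ 3706 Q3706 (allL N3706 (tt N6394 D7281) (tt N1868 F3328) (tt N6393 (iv F7337)) (tt N1867 (iv D4396)) (tt N6395 D7282))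
theorem Q3708 : ∀ i, i < 3708 → P i := stepQ 3707 Q3707 (allL N3707 (tt N3997 (iv F3721)) (tt N1869 F3329) (tt N3018 F3330) (tt N6390 F7327) (tt N1867 (iv D4397)))
theorem Q3709 : ∀ i, i < 3709 → P i := stepQ 3708 Q3708 (allL N3708 (tt N1868 (iv D4398)) (tt N6396 D7283) (tt N6397 D7284) (tt N6251 (iv F7065)) (tt N6398 D7285))
theorem Q3710 : ∀ i, i < 3710 → P i := stepQ 3709 Q3709 (allL N3709 (tt N6398 (iv F7341)) (tt N6395 (iv F7339)) (tt N6380 (iv F7316)) (tt N6280 (iv F7148)) (tt N1868 (iv D4399)))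
theorem Q3711 : ∀ i, i < 3711 → P i := stepQ 3710 Q3710 (allL N3710 (tt N6399 D7286) (tt N1870 (iv D4401)) (tt N5456 (iv F5710)) (tt N2226 F3331) (tt N2154 F3332))
theorem Q3712 : ∀ i, i < 3712 → P i := stepQ 3711 Q3711 (allL N3711 (tt N1893 F3333) (tt N6400 D7287) (tt N1870 (iv D4402)) (tt N6253 (iv F7066)) (tt N6401 D7288))
theorem Q3713 : ∀ i, i < 3713 → P i := stepQ 3712 Q3712 (allL N3712 (tt N5012 (iv F5061)) (tt N3712 F3334) (tt N1872 F3335) (tt N1871 (iv D4403)) (tt N6402 D7289))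
theorem Q3714 : ∀ i, i < 3714 → P i := stepQ 3713 Q3713 (allL N3713 (tt N1872 (iv D4404)) (tt N2590 F3338) (tt N2553 F3336) (tt N2718 F3337) (tt N6403 D7290))
theorem Q3715 : ∀ i, i < 3715 → P i := stepQ 3714 Q3714 (allL N3714 (tt N6403 (iv F7351)) (tt N1876 F3339) (tt N5467 (iv F5766)) (tt N6267 (iv F7108)) (tt N1872 (iv D4405)))
theorem Q3716 : ∀ i, i < 3716 → P i := stepQ 3715 Q3715 (allL N3715 (tt N6404 D7291) (tt N1877 F3340) (tt N5472 (iv F5777)) (tt N1873 (iv D4406)) (tt N6266 F7101))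
theorem Q3717 : ∀ i, i < 3717 → P i := stepQ 3716 Q3716 (allL N3716 (tt N6373 (iv F7305)) (tt N3716 F3341) (tt N4587 (iv F5724)) (tt N6269 (iv F7114)) (tt N1874 (iv D4407)))
theorem Q3718 : ∀ i, i < 3718 → P i := stepQ 3717 Q3717 (allL N3717 (tt N6397 (iv F7340)) (tt N3717 F3342) (tt N1893 F3343) (tt N1875 (iv D4408)) (tt N6268 (iv F7111)))
theorem Q3719 : ∀ i, i < 3719 → P i := stepQ 3718 Q3718 (allL N3718 (tt N1877 (iv D4411)) (tt N6405 D7292) (tt N6379 (iv F7315)) (tt N6264 (iv F7091)) (tt N6239 F7044))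
theorem Q3720 : ∀ i, i < 3720 → P i := stepQ 3719 Q3719 (allL N3719 (tt N1878 (iv D4413)) (tt N3768 (iv F3477)) (tt N2710 F3478) (tt N6406 D7293) (tt N6407 D7294))
theorem Q3721 : ∀ i, i < 3721 → P i := stepQ 3720 Q3720 (allL N3720 (tt N6408 D7295) (tt N5010 (iv F5057)) (tt N1878 (iv D4414)) (tt N6409 D7296) (tt N3144 (iv F4739)))
theorem Q3722 : ∀ i, i < 3722 → P i := stepQ 3721 Q3721 (allL N3721 (tt N3944 F5076) (tt N1880 F3345) (tt N6409 (iv F7366)) (tt N1878 (iv D4415)) (tt N6259 (iv F7083)))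
theorem Q3723 : ∀ i, i < 3723 → P i := stepQ 3722 Q3722 (allL N3722 (tt N6407 (iv F7361)) (tt N1881 F3346) (tt N6410 D7297) (tt N6257 F7078) (tt N1878 (iv D4416)))
theorem Q3724 : ∀ i, i < 3724 → P i := stepQ 3723 Q3723 (allL N3723 (tt N6411 D7298) (tt N1879 (iv D4417)) (tt N1922 F3347) (tt N6412 D7299) (tt N6413 D7300))
theorem Q3725 : ∀ i, i < 3725 → P i := stepQ 3724 Q3724 (allL N3724 (tt N4258 (iv F3983)) (tt N6412 (iv F7371)) (tt N1880 F3348) (tt N1879 (iv D4418)) (tt N6261 (iv F7087)))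
theorem Q3726 : ∀ i, i < 3726 → P i := stepQ 3725 Q3725 (allL N3725 (tt N6368 (iv F7295)) (tt N6413 (iv F7373)) (tt N1891 F3349) (tt N6260 F7085) (tt N1879 (iv D4419)))
theorem Q3727 : ∀ i, i < 3727 → P i := stepQ 3726 Q3726 (allL N3726 (tt N6369 (iv F7298)) (tt N6414 D7301) (tt N1881 (iv D4421)) (tt N6262 (iv F7088)) (tt N4592 (iv F5754)))
theorem Q3728 : ∀ i, i < 3728 → P i := stepQ 3727 Q3727 (allL N3727 (tt N1882 (iv D4423)) (tt N6415 D7302) (tt N1889 F3351) (tt N6235 (iv F7035)) (tt N4590 (iv F5753)))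
theorem Q3729 : ∀ i, i < 3729 → P i := stepQ 3728 Q3728 (allL N3728 (tt N3782 (iv F3467)) (tt N2698 F3435) (tt N1883 (iv D4434)) (tt N6416 D7303) (tt N3148 (iv F3405)))
theorem Q3730 : ∀ i, i < 3730 → P i := stepQ 3729 Q3729 (allL N3729 (tt N3783 (iv F3994)) (tt N1895 F3356) (tt N6416 (iv F7379)) (tt N1883 (iv D4435)) (tt N6172 (iv F6905)))
theorem Q3731 : ∀ i, i < 3731 → P i := stepQ 3730 Q3730 (allL N3730 (tt N1886 F3357) (tt N1896 F3358) (tt N6417 D7304) (tt N6171 (iv F6902)) (tt N1883 (iv D4436)))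
theorem Q3732 : ∀ i, i < 3732 → P i := stepQ 3731 Q3731 (allL N3731 (tt N6416 (iv F7381)) (tt N2012 F3359) (tt N1885 F3360) (tt N1884 (iv D4437)) (tt N3099 (iv F3404)))
theorem Q3733 : ∀ i, i < 3733 → P i := stepQ 3732 Q3732 (allL N3732 (tt N6346 (iv F7266)) (tt N3837 (iv F3523)) (tt N1886 (iv D4439)) (tt N3095 F3425) (tt N3151 F3426))
theorem Q3734 : ∀ i, i < 3734 → P i := stepQ 3733 Q3733 (allL N3733 (tt N1887 (iv D4440)) (tt N5039 (iv F5104)) (tt N5038 (iv F5102)) (tt N5038 F5103) (tt N6418 D7305))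
theorem Q3735 : ∀ i, i < 3735 → P i := stepQ 3734 Q3734 (allL N3734 (tt N4999 (iv F5031)) (tt N5029 (iv F5086)) (tt N1887 (iv D4441)) (tt N6419 D7306) (tt N6420 D7307))
theorem Q3736 : ∀ i, i < 3736 → P i := stepQ 3735 Q3735 (allL N3735 (tt N6421 D7308) (tt N1888 F3427) (tt N6419 (iv F7388)) (tt N1887 (iv D4442)) (tt N6232 (iv F7030)))
theorem Q3737 : ∀ i, i < 3737 → P i := stepQ 3736 Q3736 (allL N3736 (tt N6418 (iv F7384)) (tt N1889 F3428) (tt N6422 D7309) (tt N6231 F7027) (tt N1887 (iv D4443)))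
theorem Q3738 : ∀ i, i < 3738 → P i := stepQ 3737 Q3737 (allL N3737 (tt N1890 (iv D4446)) (tt N6423 D7310) (tt N6368 (iv F7297)) (tt N6278 (iv F7146)) (tt N6391 (iv F7332)))
theorem Q3739 : ∀ i, i < 3739 → P i := stepQ 3738 Q3738 (allL N3738 (tt N6424 D7311) (tt N1890 (iv D4447)) (tt N6425 D7312) (tt N6243 (iv F7053)) (tt N6426 D7313))
theorem Q3740 : ∀ i, i < 3740 → P i := stepQ 3739 Q3739 (allL N3739 (tt N6391 (iv F7331)) (tt N6426 (iv F7401)) (tt N4590 F5760) (tt N6252 F7333) (tt N1890 (iv D4448)))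
theorem Q3741 : ∀ i, i < 3741 → P i := stepQ 3740 Q3740 (allL N3740 (tt N6427 D7314) (tt N1891 (iv D4449)) (tt N6428 D7315) (tt N6429 D7316) (tt N4591 (iv F5761)))
theorem Q3742 : ∀ i, i < 3742 → P i := stepQ 3741 Q3741 (allL N3741 (tt N6241 (iv F7049)) (tt N6429 (iv F7404)) (tt N6260 (iv F7084)) (tt N1891 (iv D4450)) (tt N4573 F5742))
theorem Q3743 : ∀ i, i < 3743 → P i := stepQ 3742 Q3742 (allL N3742 (tt N4762 (iv F4634)) (tt N1893 F3431) (tt N3032 F3432) (tt N1892 (iv D4455)) (tt N6430 D7317))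
theorem Q3744 : ∀ i, i < 3744 → P i := stepQ 3743 Q3743 (allL N3743 (tt N6401 (iv F7345)) (tt N6430 (iv F7408)) (tt N5483 F7112) (tt N4576 (iv F4469)) (tt N1893 (iv D4456)))
theorem Q3745 : ∀ i, i < 3745 → P i := stepQ 3744 Q3744 (allL N3744 (tt N1894 (iv D4457)) (tt N1905 F3433) (tt N6431 D7318) (tt N6012 (iv F6706)) (tt N6432 D7319))
theorem Q3746 : ∀ i, i < 3746 → P i := stepQ 3745 Q3745 (allL N3745 (tt N5035 (iv F5094)) (tt N1894 (iv D4458)) (tt N2689 (iv F3434)) (tt N4248 F3973) (tt N4599 (iv F4408)))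
theorem Q3747 : ∀ i, i < 3747 → P i := stepQ 3746 Q3746 (allL N3746 (tt N6432 (iv F7412)) (tt N4599 F4409) (tt N6433 D7320) (tt N4188 F3922) (tt N1894 (iv D4460)))
theorem Q3748 : ∀ i, i < 3748 → P i := stepQ 3747 Q3747 (allL N3747 (tt N1895 (iv D4461)) (tt N4265 (iv F3993)) (tt N6434 D7321) (tt N6366 (iv F7292)) (tt N6182 (iv F6914)))
theorem Q3749 : ∀ i, i < 3749 → P i := stepQ 3748 Q3748 (allL N3748 (tt N6435 D7322) (tt N6436 D7323) (tt N1896 (iv D4462)) (tt N6177 (iv F6912)) (tt N6437 D7324))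
theorem Q3750 : ∀ i, i < 3750 → P i := stepQ 3749 Q3749 (allL N3749 (tt N5026 (iv F5081)) (tt N1897 (iv D4463)) (tt N4949 (iv F4949)) (tt N4948 (iv F4946)) (tt N6438 D7325))
theorem Q3751 : ∀ i, i < 3751 → P i := stepQ 3750 Q3750 (allL N3750 (tt N6431 (iv F7410)) (tt N3644 F3437) (tt N1897 (iv D4464)) (tt N4257 F7246) (tt N6439 D7326))
theorem Q3752 : ∀ i, i < 3752 → P i := stepQ 3751 Q3751 (allL N3751 (tt N6434 (iv F7415)) (tt N4948 F4947) (tt N4257 (iv F7245)) (tt N1897 (iv D4465)) (tt N6187 (iv F6933)))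
theorem Q3753 : ∀ i, i < 3753 → P i := stepQ 3752 Q3752 (allL N3752 (tt N1900 F3438) (tt N6438 (iv F7416)) (tt N5159 F5745) (tt N6186 F6932) (tt N1897 (iv D4466)))
theorem Q3754 : ∀ i, i < 3754 → P i := stepQ 3753 Q3753 (allL N3753 (tt N1898 (iv D4467)) (tt N4990 (iv F5012)) (tt N2686 (iv F3440)) (tt N2685 F3439) (tt N6440 D7327))
theorem Q3755 : ∀ i, i < 3755 → P i := stepQ 3754 Q3754 (allL N3754 (tt N2693 F3441) (tt N1904 F3442) (tt N1898 (iv D4468)) (tt N2668 (iv F3443)) (tt N5908 (iv F6505)))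
theorem Q3756 : ∀ i, i < 3756 → P i := stepQ 3755 Q3755 (allL N3755 (tt N2679 F3444) (tt N1899 F3445) (tt N2668 F3446) (tt N1898 (iv D4469)) (tt N6191 (iv F6936)))
theorem Q3757 : ∀ i, i < 3757 → P i := stepQ 3756 Q3756 (allL N3756 (tt N6440 (iv F7420)) (tt N1900 F3447) (tt N5907 (iv F6492)) (tt N6190 F6929) (tt N1898 (iv D4470)))
theorem Q3758 : ∀ i, i < 3758 → P i := stepQ 3757 Q3757 (allL N3757 (tt N1899 (iv D4471)) (tt N6441 D7328) (tt N6442 D7329) (tt N6443 D7330) (tt N6199 (iv F6945)))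
theorem Q3759 : ∀ i, i < 3759 → P i := stepQ 3758 Q3758 (allL N3758 (tt N6433 (iv F7414)) (tt N2497 F5744) (tt N1900 (iv D4473)) (tt N6196 (iv F6939)) (tt N6444 D7331))
theorem Q3760 : ∀ i, i < 3760 → P i := stepQ 3759 Q3759 (allL N3759 (tt N6012 (iv F6705)) (tt N4226 F3962) (tt N1901 (iv D4476)) (tt N4261 F3989) (tt N6445 D7332))
theorem Q3761 : ∀ i, i < 3761 → P i := stepQ 3760 Q3760 (allL N3760 (tt N1902 (iv D4478)) (tt N6446 D7333) (tt N6439 (iv F7419)) (tt N6447 D7334) (tt N6448 D7335))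
theorem Q3762 : ∀ i, i < 3762 → P i := stepQ 3761 Q3761 (allL N3761 (tt N6449 D7336) (tt N1902 (iv D4479)) (tt N5923 (iv F6532)) (tt N6209 (iv F6962)) (tt N6450 D7337))
theorem Q3763 : ∀ i, i < 3763 → P i := stepQ 3762 Q3762 (allL N3762 (tt N6448 (iv F7427)) (tt N6450 (iv F7432)) (tt N6444 (iv F7425)) (tt N6217 (iv F6980)) (tt N1902 (iv D4480)))
theorem Q3764 : ∀ i, i < 3764 → P i := stepQ 3763 Q3763 (allL N3763 (tt N2714 F3449) (tt N1903 (iv D4481)) (tt N2709 F3450) (tt N4767 (iv F4646)) (tt N5925 (iv F6542)))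
theorem Q3765 : ∀ i, i < 3765 → P i := stepQ 3764 Q3764 (allL N3764 (tt N5019 (iv F5067)) (tt N5037 (iv F5100)) (tt N1903 (iv D4482)) (tt N5701 (iv F6141)) (tt N6451 D7338))
theorem Q3766 : ∀ i, i < 3766 → P i := stepQ 3765 Q3765 (allL N3765 (tt N5020 (iv F5070)) (tt N5908 F6507) (tt N6452 D7339) (tt N5721 (iv F6169)) (tt N1904 (iv D4483)))
theorem Q3767 : ∀ i, i < 3767 → P i := stepQ 3766 Q3766 (allL N3766 (tt N1910 F3451) (tt N2707 F3452) (tt N1905 (iv D4484)) (tt N5927 (iv F6547)) (tt N6453 D7340))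
theorem Q3768 : ∀ i, i < 3768 → P i := stepQ 3767 Q3767 (allL N3767 (tt N1907 F3453) (tt N6432 (iv F7413)) (tt N4722 (iv F4576)) (tt N5963 (iv F6618)) (tt N1905 (iv D4485)))
theorem Q3769 : ∀ i, i < 3769 → P i := stepQ 3768 Q3768 (allL N3768 (tt N2684 (iv F3476)) (tt N3719 F3477) (tt N1906 (iv D4486)) (tt N5958 (iv F6605)) (tt N6454 D7341))
theorem Q3770 : ∀ i, i < 3770 → P i := stepQ 3769 Q3769 (allL N3769 (tt N4853 (iv F4778)) (tt N1907 F3454) (tt N4594 F5756) (tt N5967 (iv F6626)) (tt N1906 (iv D4487)))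
theorem Q3771 : ∀ i, i < 3771 → P i := stepQ 3770 Q3770 (allL N3770 (tt N1915 F3455) (tt N2504 F3456) (tt N1907 (iv D4488)) (tt N5949 (iv F6592)) (tt N5944 F6580))
theorem Q3772 : ∀ i, i < 3772 → P i := stepQ 3771 Q3771 (allL N3771 (tt N1908 (iv D4490)) (tt N5897 (iv F6467)) (tt N6453 (iv F7438)) (tt N5932 (iv F6557)) (tt N5930 F6553))
theorem Q3773 : ∀ i, i < 3773 → P i := stepQ 3772 Q3772 (allL N3772 (tt N4806 F4706) (tt N1908 (iv D4491)) (tt N6455 D7342) (tt N5938 (iv F6565)) (tt N4805 (iv F4707)))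
theorem Q3774 : ∀ i, i < 3774 → P i := stepQ 3773 Q3773 (allL N3773 (tt N4949 (iv F4948)) (tt N6408 (iv F7362)) (tt N1909 (iv D4494)) (tt N4935 (iv F4929)) (tt N6456 D7343))
theorem Q3775 : ∀ i, i < 3775 → P i := stepQ 3774 Q3774 (allL N3774 (tt N4959 (iv F4969)) (tt N1912 F3458) (tt N6457 D7344) (tt N4941 (iv F4937)) (tt N1909 (iv D4496)))
theorem Q3776 : ∀ i, i < 3776 → P i := stepQ 3775 Q3775 (allL N3775 (tt N2034 F3459) (tt N1910 (iv D4497)) (tt N2884 (iv F3463)) (tt N5977 (iv F6637)) (tt N6458 D7345))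
theorem Q3777 : ∀ i, i < 3777 → P i := stepQ 3776 Q3776 (allL N3776 (tt N6453 (iv F7436)) (tt N6458 (iv F7450)) (tt N1916 F3464) (tt N5979 (iv F6642)) (tt N1910 (iv D4498)))
theorem Q3778 : ∀ i, i < 3778 → P i := stepQ 3777 Q3777 (allL N3777 (tt N4722 (iv F4575)) (tt N3965 (iv F3684)) (tt N1912 (iv D4499)) (tt N5984 (iv F6654)) (tt N5981 F6648))
theorem Q3779 : ∀ i, i < 3779 → P i := stepQ 3778 Q3778 (allL N3778 (tt N4910 F4891) (tt N1923 F3465) (tt N5884 (iv F6454)) (tt N4989 (iv F5009)) (tt N1913 (iv D4500)))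
theorem Q3780 : ∀ i, i < 3780 → P i := stepQ 3779 Q3779 (allL N3779 (tt N4922 (iv F4912)) (tt N2921 F4565) (tt N1914 (iv D4501)) (tt N4984 (iv F4997)) (tt N2920 (iv F4566)))
theorem Q3781 : ∀ i, i < 3781 → P i := stepQ 3780 Q3780 (allL N3780 (tt N4357 (iv F4103)) (tt N1916 (iv D4502)) (tt N6459 D7346) (tt N4313 (iv F4044)) (tt N4298 F4027))
theorem Q3782 : ∀ i, i < 3782 → P i := stepQ 3781 Q3781 (allL N3781 (tt N4523 (iv F5285)) (tt N1926 F3466) (tt N1917 (iv D4503)) (tt N4501 (iv F4275)) (tt N4475 F5300))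
theorem Q3783 : ∀ i, i < 3783 → P i := stepQ 3782 Q3782 (allL N3782 (tt N3728 F3467) (tt N5022 (iv F5074)) (tt N1918 (iv D4504)) (tt N6460 D7347) (tt N5198 (iv F5394)))
theorem Q3784 : ∀ i, i < 3784 → P i := stepQ 3783 Q3783 (allL N3783 (tt N3729 F3994) (tt N1920 F3468) (tt N6460 (iv F7454)) (tt N1918 (iv D4505)) (tt N6132 (iv F6855)))
theorem Q3785 : ∀ i, i < 3785 → P i := stepQ 3784 Q3784 (allL N3784 (tt N3653 F3469) (tt N1921 F3470) (tt N6461 D7348) (tt N6131 F6852) (tt N1918 (iv D4506)))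
theorem Q3786 : ∀ i, i < 3786 → P i := stepQ 3785 Q3785 (allL N3785 (tt N1919 (iv D4507)) (tt N5019 F5068) (tt N6411 (iv F7370)) (tt N6115 (iv F6837)) (tt N6462 D7349))
theorem Q3787 : ∀ i, i < 3787 → P i := stepQ 3786 Q3786 (allL N3786 (tt N5038 (iv F5101)) (tt N1919 (iv D4508)) (tt N4998 (iv F5069)) (tt N6463 D7350) (tt N6464 D7351))
theorem Q3788 : ∀ i, i < 3788 → P i := stepQ 3787 Q3787 (allL N3787 (tt N6465 D7352) (tt N6463 (iv F7461)) (tt N1920 F3471) (tt N1919 (iv D4509)) (tt N6141 (iv F11698)))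
theorem Q3789 : ∀ i, i < 3789 → P i := stepQ 3788 Q3788 (allL N3788 (tt N6462 (iv F7458)) (tt N6464 (iv F7462)) (tt N6466 D7354) (tt N6139 (iv F11699)) (tt N1919 (iv D4510)))
theorem Q3790 : ∀ i, i < 3790 → P i := stepQ 3789 Q3789 (allL N3789 (tt N1920 (iv D4511)) (tt N2223 F3472) (tt N6467 D7356) (tt N6119 (iv F6842)) (tt N6150 (iv F6875)))
theorem Q3791 : ∀ i, i < 3791 → P i := stepQ 3790 Q3790 (allL N3790 (tt N6468 D7357) (tt N6469 D7358) (tt N1921 (iv D4512)) (tt N6145 (iv F6873)) (tt N6470 D7359))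
theorem Q3792 : ∀ i, i < 3792 → P i := stepQ 3791 Q3791 (allL N3791 (tt N2718 F3473) (tt N1922 (iv D4513)) (tt N5010 F5059) (tt N3926 (iv F3641)) (tt N6471 D7360))
theorem Q3793 : ∀ i, i < 3793 → P i := stepQ 3792 Q3792 (allL N3792 (tt N6467 (iv F7465)) (tt N3926 F3642) (tt N6412 (iv F7372)) (tt N1922 (iv D4514)) (tt N6155 (iv F6887)))
theorem Q3794 : ∀ i, i < 3794 → P i := stepQ 3793 Q3793 (allL N3793 (tt N1923 F3479) (tt N6471 (iv F7467)) (tt N3087 F6503) (tt N6154 (iv F6884)) (tt N1922 (iv D4515)))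
theorem Q3795 : ∀ i, i < 3795 → P i := stepQ 3794 Q3794 (allL N3794 (tt N6466 (iv F7464)) (tt N6472 D7361) (tt N1923 (iv D4516)) (tt N6160 (iv F6889)) (tt N6473 D7362))
theorem Q3796 : ∀ i, i < 3796 → P i := stepQ 3795 Q3795 (allL N3795 (tt N1924 (iv D4518)) (tt N6474 D7363) (tt N6413 (iv F7374)) (tt N6475 D7364) (tt N6476 D7365))
theorem Q3797 : ∀ i, i < 3797 → P i := stepQ 3796 Q3796 (allL N3796 (tt N4569 F5746) (tt N1924 (iv D4519)) (tt N5889 (iv F6456)) (tt N4500 (iv F5748)) (tt N4478 F5749))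
theorem Q3798 : ∀ i, i < 3798 → P i := stepQ 3797 Q3797 (allL N3797 (tt N6476 (iv F7474)) (tt N4478 (iv F5750)) (tt N6473 (iv F7473)) (tt N4477 F5751) (tt N1924 (iv D4520)))
theorem Q3799 : ∀ i, i < 3799 → P i := stepQ 3798 Q3798 (allL N3798 (tt N2849 F3480) (tt N1925 (iv D4521)) (tt N6477 D7366) (tt N6030 (iv F6735)) (tt N2847 F3481))
theorem Q3800 : ∀ i, i < 3800 → P i := stepQ 3799 Q3799 (allL N3799 (tt N6478 D7367) (tt N6479 D7368) (tt N1925 (iv D4522)) (tt N6045 (iv F10810)) (tt N6040 (iv F10808)))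
theorem Q3801 : ∀ i, i < 3801 → P i := stepQ 3800 Q3800 (allL N3800 (tt N1926 (iv D4523)) (tt N6480 D7370) (tt N5540 (iv F5877)) (tt N6070 (iv F6782)) (tt N6066 F6778))
theorem Q3802 : ∀ i, i < 3802 → P i := stepQ 3801 Q3801 (allL N3801 (tt N2071 F3484) (tt N1928 F3482) (tt N2049 F3483) (tt N1927 (iv D4525)) (tt N6481 D7371))
theorem Q3803 : ∀ i, i < 3803 → P i := stepQ 3802 Q3802 (allL N3802 (tt N2066 F3485) (tt N1929 F3486) (tt N2059 F3487) (tt N6482 D7372) (tt N1927 (iv D4526)))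
theorem Q3804 : ∀ i, i < 3804 → P i := stepQ 3803 Q3803 (allL N3803 (tt N4331 (iv F4071)) (tt N6481 (iv F7480)) (tt N4353 (iv F4101)) (tt N6483 D7373) (tt N1928 (iv D4527)))
theorem Q3805 : ∀ i, i < 3805 → P i := stepQ 3804 Q3804 (allL N3804 (tt N4378 (iv F4126)) (tt N6482 (iv F7482)) (tt N4304 (iv F4031)) (tt N1929 (iv D4528)) (tt N6484 D7374))
theorem Q3806 : ∀ i, i < 3806 → P i := stepQ 3805 Q3805 (allL N3805 (tt N4333 (iv F4077)) (tt N6485 D7375) (tt N1930 (iv D4529)) (tt N6486 D7376) (tt N6487 D7377))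
theorem Q3807 : ∀ i, i < 3807 → P i := stepQ 3806 Q3806 (allL N3806 (tt N4289 (iv F4016)) (tt N1936 F3488) (tt N6486 (iv F7487)) (tt N1930 (iv D4530)) (tt N6488 D7378))
theorem Q3808 : ∀ i, i < 3808 → P i := stepQ 3807 Q3807 (allL N3807 (tt N4510 (iv F4287)) (tt N1931 (iv D4531)) (tt N5284 (iv F5476)) (tt N6489 D7379) (tt N4508 (iv F4284)))
theorem Q3809 : ∀ i, i < 3809 → P i := stepQ 3808 Q3808 (allL N3808 (tt N4343 (iv F4085)) (tt N6489 (iv F7490)) (tt N1932 F3489) (tt N1931 (iv D4532)) (tt N6490 D7380))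
theorem Q3810 : ∀ i, i < 3810 → P i := stepQ 3809 Q3809 (allL N3809 (tt N4317 (iv F4049)) (tt N4508 (iv F4282)) (tt N4305 (iv F4034)) (tt N6487 (iv F8586)) (tt N1931 (iv D4533)))
theorem Q3811 : ∀ i, i < 3811 → P i := stepQ 3810 Q3810 (allL N3810 (tt N1932 (iv D4534)) (tt N5162 (iv F5346)) (tt N4340 (iv F4082)) (tt N4350 (iv F4099)) (tt N4386 F4136))
theorem Q3812 : ∀ i, i < 3812 → P i := stepQ 3811 Q3811 (allL N3811 (tt N4386 (iv F4135)) (tt N1939 F3490) (tt N6484 (iv F7486)) (tt N6488 (iv F7489)) (tt N1932 (iv D4535)))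
theorem Q3813 : ∀ i, i < 3813 → P i := stepQ 3812 Q3812 (allL N3812 (tt N3812 F3493) (tt N2859 F3491) (tt N2001 F3492) (tt N1933 (iv D4536)) (tt N6491 D7382))
theorem Q3814 : ∀ i, i < 3814 → P i := stepQ 3813 Q3813 (allL N3813 (tt N3876 (iv F3569)) (tt N2863 F3494) (tt N1939 F3495) (tt N6491 (iv F7494)) (tt N1934 (iv D4537)))
theorem Q3815 : ∀ i, i < 3815 → P i := stepQ 3814 Q3814 (allL N3814 (tt N3814 F3497) (tt N5272 (iv F5464)) (tt N1936 F3496) (tt N1935 (iv D4538)) (tt N5269 F5460))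
theorem Q3816 : ∀ i, i < 3816 → P i := stepQ 3815 Q3815 (allL N3815 (tt N1970 F3498) (tt N6488 (iv F7488)) (tt N6491 (iv F7493)) (tt N1939 F3499) (tt N1936 (iv D4539)))
theorem Q3817 : ∀ i, i < 3817 → P i := stepQ 3816 Q3816 (allL N3816 (tt N3875 (iv F3567)) (tt N5271 (iv F5461)) (tt N2006 F3500) (tt N5269 F5459) (tt N1937 (iv D4540)))
theorem Q3818 : ∀ i, i < 3818 → P i := stepQ 3817 Q3817 (allL N3817 (tt N6492 D7383) (tt N1938 (iv D4541)) (tt N6493 D7384) (tt N3893 F3602) (tt N3946 (iv F3664)))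
theorem Q3819 : ∀ i, i < 3819 → P i := stepQ 3818 Q3818 (allL N3818 (tt N1940 (iv D4542)) (tt N2468 F3503) (tt N2450 F3501) (tt N2449 F3502) (tt N6494 D7385))
theorem Q3820 : ∀ i, i < 3820 → P i := stepQ 3819 Q3819 (allL N3819 (tt N6494 (iv F7498)) (tt N2958 F3504) (tt N6495 D7386) (tt N6496 D7387) (tt N1940 (iv D4543)))
theorem Q3821 : ∀ i, i < 3821 → P i := stepQ 3820 Q3820 (allL N3820 (tt N1947 F3505) (tt N6377 (iv F7312)) (tt N1941 (iv D4544)) (tt N6497 D7388) (tt N6498 D7389))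
theorem Q3822 : ∀ i, i < 3822 → P i := stepQ 3821 Q3821 (allL N3821 (tt N6499 D7390) (tt N2959 F3506) (tt N6497 (iv F7503)) (tt N1941 (iv D4545)) (tt N6500 D7391))
theorem Q3823 : ∀ i, i < 3823 → P i := stepQ 3822 Q3822 (allL N3822 (tt N6501 D7392) (tt N6389 (iv F7325)) (tt N1942 (iv D4546)) (tt N6502 D7393) (tt N6503 D7394))
theorem Q3824 : ∀ i, i < 3824 → P i := stepQ 3823 Q3823 (allL N3823 (tt N1952 F3508) (tt N2924 F3507) (tt N6502 (iv F7514)) (tt N1942 (iv D4547)) (tt N6504 D7395))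
theorem Q3825 : ∀ i, i < 3825 → P i := stepQ 3824 Q3824 (allL N3824 (tt N6505 D7396) (tt N6393 (iv F7336)) (tt N1944 F3509) (tt N1943 (iv D4548)) (tt N6506 D7397))
theorem Q3826 : ∀ i, i < 3826 → P i := stepQ 3825 Q3825 (allL N3825 (tt N4326 (iv F4063)) (tt N2359 F3510) (tt N6498 (iv F7507)) (tt N6503 (iv F8085)) (tt N1943 (iv D4549)))
theorem Q3827 : ∀ i, i < 3827 → P i := stepQ 3826 Q3826 (allL N3826 (tt N4764 (iv F4636)) (tt N2926 F3511) (tt N6500 (iv F7512)) (tt N6504 (iv F7517)) (tt N1944 (iv D4550)))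
theorem Q3828 : ∀ i, i < 3828 → P i := stepQ 3827 Q3827 (allL N3827 (tt N1946 F3512) (tt N3461 F3513) (tt N6507 D7399) (tt N6508 D7400) (tt N1945 (iv D4551)))
theorem Q3829 : ∀ i, i < 3829 → P i := stepQ 3828 Q3828 (allL N3828 (tt N6509 D7401) (tt N6510 D7402) (tt N1946 (iv D4552)) (tt N6511 D7403) (tt N6512 D7404))
theorem Q3830 : ∀ i, i < 3830 → P i := stepQ 3829 Q3829 (allL N3829 (tt N3035 F3515) (tt N2075 F3514) (tt N6511 (iv F7525)) (tt N1946 (iv D4553)) (tt N6513 D7405))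
theorem Q3831 : ∀ i, i < 3831 → P i := stepQ 3830 Q3830 (allL N3830 (tt N6514 D7406) (tt N1947 (iv D4554)) (tt N5828 (iv F6365)) (tt N6515 D7407) (tt N2129 F3519))
theorem Q3832 : ∀ i, i < 3832 → P i := stepQ 3831 Q3831 (allL N3831 (tt N6516 D7408) (tt N6515 (iv F7536)) (tt N1948 F3516) (tt N1947 (iv D4555)) (tt N6517 D7409))
theorem Q3833 : ∀ i, i < 3833 → P i := stepQ 3832 Q3832 (allL N3832 (tt N6498 (iv F7505)) (tt N2129 (iv F3518)) (tt N1955 F3517) (tt N6512 F7528) (tt N1947 (iv D4556)))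
theorem Q3834 : ∀ i, i < 3834 → P i := stepQ 3833 Q3833 (allL N3833 (tt N1948 (iv D4557)) (tt N3463 (iv F3521)) (tt N6518 D7410) (tt N3460 F3520) (tt N6519 D7411))
theorem Q3835 : ∀ i, i < 3835 → P i := stepQ 3834 Q3834 (allL N3834 (tt N6519 (iv F7540)) (tt N2078 F3522) (tt N1957 F6314) (tt N6513 (iv F7532)) (tt N1948 (iv D4558)))
theorem Q3836 : ∀ i, i < 3836 → P i := stepQ 3835 Q3835 (allL N3835 (tt N4320 (iv F4054)) (tt N5551 (iv F5897)) (tt N6509 (iv F7524)) (tt N6520 D7412) (tt N1949 (iv D4559)))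
theorem Q3837 : ∀ i, i < 3837 → P i := stepQ 3836 Q3836 (allL N3836 (tt N4323 (iv F4059)) (tt N6521 D7413) (tt N1950 (iv D4560)) (tt N6522 D7414) (tt N6523 D7415))
theorem Q3838 : ∀ i, i < 3838 → P i := stepQ 3837 Q3837 (allL N3837 (tt N4759 (iv F4628)) (tt N3732 F3523) (tt N6522 (iv F7547)) (tt N1950 (iv D4561)) (tt N5033 (iv F5090)))
theorem Q3839 : ∀ i, i < 3839 → P i := stepQ 3838 Q3838 (allL N3838 (tt N1951 (iv D4562)) (tt N6475 (iv F8637)) (tt N4322 (iv F4058)) (tt N6474 (iv F8636)) (tt N6524 D7418))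
theorem Q3840 : ∀ i, i < 3840 → P i := stepQ 3839 Q3839 (allL N3839 (tt N6525 D7419) (tt N1951 (iv D4563)) (tt N5836 (iv F6379)) (tt N6526 D7420) (tt N2191 F7154))
theorem Q3841 : ∀ i, i < 3841 → P i := stepQ 3840 Q3840 (allL N3840 (tt N6281 (iv F7150)) (tt N6526 (iv F7550)) (tt N1952 F3524) (tt N1951 (iv D4564)) (tt N6527 D7421))
theorem Q3842 : ∀ i, i < 3842 → P i := stepQ 3841 Q3841 (allL N3841 (tt N6524 (iv F7548)) (tt N2191 F7152) (tt N6512 (iv F7526)) (tt N1955 F7153) (tt N1951 (iv D4565)))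
theorem Q3843 : ∀ i, i < 3843 → P i := stepQ 3842 Q3842 (allL N3842 (tt N6504 (iv F7515)) (tt N1970 F3525) (tt N6513 F7533) (tt N1957 F3526) (tt N1952 (iv D4566)))
theorem Q3844 : ∀ i, i < 3844 → P i := stepQ 3843 Q3843 (allL N3843 (tt N6528 D7422) (tt N1954 F3527) (tt N5840 (iv F6386)) (tt N1953 (iv D4567)) (tt N2217 F7554))
theorem Q3845 : ∀ i, i < 3845 → P i := stepQ 3844 Q3844 (allL N3844 (tt N1954 (iv D4568)) (tt N6169 (iv F6894)) (tt N4327 (iv F4066)) (tt N4760 (iv F4632)) (tt N6529 D7423))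
theorem Q3846 : ∀ i, i < 3846 → P i := stepQ 3845 Q3845 (allL N3845 (tt N6529 (iv F7561)) (tt N2217 F7555) (tt N6517 (iv F7537)) (tt N6527 (iv F7551)) (tt N1954 (iv D4569)))
theorem Q3847 : ∀ i, i < 3847 → P i := stepQ 3846 Q3846 (allL N3846 (tt N4325 (iv F4062)) (tt N6530 D7424) (tt N1956 (iv D4571)) (tt N4756 (iv F4626)) (tt N6531 D7425))
theorem Q3848 : ∀ i, i < 3848 → P i := stepQ 3847 Q3847 (allL N3847 (tt N1957 F3529) (tt N5546 (iv F5888)) (tt N6532 D7426) (tt N5033 (iv F5091)) (tt N1956 (iv D4572)))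
theorem Q3849 : ∀ i, i < 3849 → P i := stepQ 3848 Q3848 (allL N3848 (tt N1961 F3531) (tt N5541 (iv F5879)) (tt N6533 D7427) (tt N6534 D7428) (tt N1958 (iv D4574)))
theorem Q3850 : ∀ i, i < 3850 → P i := stepQ 3849 Q3849 (allL N3849 (tt N4014 (iv F3742)) (tt N1959 (iv D4575)) (tt N3980 (iv F3709)) (tt N3979 F3706) (tt N6535 D7429))
theorem Q3851 : ∀ i, i < 3851 → P i := stepQ 3850 Q3850 (allL N3850 (tt N3180 (iv F3536)) (tt N3979 (iv F3705)) (tt N1960 F3532) (tt N1959 (iv D4576)) (tt N6536 D7430))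
theorem Q3852 : ∀ i, i < 3852 → P i := stepQ 3851 Q3851 (allL N3851 (tt N5137 (iv F5248)) (tt N6535 (iv F7566)) (tt N6537 D7431) (tt N6538 D7432) (tt N1959 (iv D4577)))
theorem Q3853 : ∀ i, i < 3853 → P i := stepQ 3852 Q3852 (allL N3852 (tt N1960 (iv D4578)) (tt N2922 F3535) (tt N2324 F3534) (tt N2456 F3533) (tt N6539 D7433))
theorem Q3854 : ∀ i, i < 3854 → P i := stepQ 3853 Q3853 (allL N3853 (tt N6539 (iv F7569)) (tt N1965 F3537) (tt N6540 D7434) (tt N1973 (iv F3538)) (tt N1960 (iv D4579)))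
theorem Q3855 : ∀ i, i < 3855 → P i := stepQ 3854 Q3854 (allL N3854 (tt N6541 D7435) (tt N6542 D7436) (tt N1961 (iv D4580)) (tt N6543 D7437) (tt N6544 D7438))
theorem Q3856 : ∀ i, i < 3856 → P i := stepQ 3855 Q3855 (allL N3855 (tt N6545 D7439) (tt N1967 F3539) (tt N6543 (iv F7574)) (tt N1961 (iv D4581)) (tt N6546 D7440))
theorem Q3857 : ∀ i, i < 3857 → P i := stepQ 3856 Q3856 (allL N3856 (tt N1962 (iv D4582)) (tt N4134 (iv F3857)) (tt N6547 D7441) (tt N3209 F3540) (tt N6548 D7442))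
theorem Q3858 : ∀ i, i < 3858 → P i := stepQ 3857 Q3857 (allL N3857 (tt N2111 F3542) (tt N3980 (iv F3708)) (tt N1962 (iv D4583)) (tt N3217 F3541) (tt N6549 D7443))
theorem Q3859 : ∀ i, i < 3859 → P i := stepQ 3858 Q3858 (allL N3858 (tt N6548 (iv F7582)) (tt N1964 F3543) (tt N6550 D7444) (tt N3223 F3544) (tt N1962 (iv D4584)))
theorem Q3860 : ∀ i, i < 3860 → P i := stepQ 3859 Q3859 (allL N3859 (tt N3859 F3545) (tt N3218 F3546) (tt N2016 F3547) (tt N2015 F3548) (tt N1963 (iv D4585)))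
theorem Q3861 : ∀ i, i < 3861 → P i := stepQ 3860 Q3860 (allL N3860 (tt N3860 F3549) (tt N3223 F3550) (tt N1995 F3551) (tt N1964 (iv D4586)) (tt N6551 D7445))
theorem Q3862 : ∀ i, i < 3862 → P i := stepQ 3861 Q3861 (allL N3861 (tt N3861 F3553) (tt N5727 (iv F6178)) (tt N1965 (iv D4587)) (tt N1974 F3552) (tt N5724 F6174))
theorem Q3863 : ∀ i, i < 3863 → P i := stepQ 3862 Q3862 (allL N3862 (tt N6552 D7446) (tt N1966 (iv D4588)) (tt N6553 D7447) (tt N5748 (iv F6217)) (tt N5726 F6176))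
theorem Q3864 : ∀ i, i < 3864 → P i := stepQ 3863 Q3863 (allL N3863 (tt N3863 F3554) (tt N5748 (iv F6216)) (tt N1967 F3555) (tt N1966 (iv D4589)) (tt N5745 (iv F6212)))
theorem Q3865 : ∀ i, i < 3865 → P i := stepQ 3864 Q3864 (allL N3864 (tt N2898 F3556) (tt N5726 (iv F6175)) (tt N1996 F3557) (tt N5724 F6173) (tt N1966 (iv D4590)))
theorem Q3866 : ∀ i, i < 3866 → P i := stepQ 3865 Q3865 (allL N3865 (tt N3896 (iv F3604)) (tt N6546 (iv F7577)) (tt N6551 (iv F7589)) (tt N1975 F3558) (tt N1967 (iv D4591)))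
theorem Q3867 : ∀ i, i < 3867 → P i := stepQ 3866 Q3866 (allL N3866 (tt N6554 D7448) (tt N1968 (iv D4592)) (tt N6555 D7449) (tt N5772 F6245) (tt N5816 (iv F6334)))
theorem Q3868 : ∀ i, i < 3868 → P i := stepQ 3867 Q3867 (allL N3867 (tt N3867 F3559) (tt N5772 (iv F6244)) (tt N1987 F3560) (tt N1968 (iv D4593)) (tt N5769 F6240))
theorem Q3869 : ∀ i, i < 3869 → P i := stepQ 3868 Q3868 (allL N3868 (tt N6556 D7450) (tt N1971 (iv D4594)) (tt N6557 D7451) (tt N5778 (iv F6252)) (tt N5771 F6242))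
theorem Q3870 : ∀ i, i < 3870 → P i := stepQ 3869 Q3869 (allL N3869 (tt N3869 F3561) (tt N5778 (iv F6253)) (tt N1986 F3562) (tt N1971 (iv D4595)) (tt N5817 (iv F6339)))
theorem Q3871 : ∀ i, i < 3871 → P i := stepQ 3870 Q3870 (allL N3870 (tt N1972 F3563) (tt N5771 (iv F6241)) (tt N2022 F3564) (tt N5769 F6239) (tt N1971 (iv D4596)))
theorem Q3872 : ∀ i, i < 3872 → P i := stepQ 3871 Q3871 (allL N3871 (tt N1973 (iv D4597)) (tt N5542 (iv F5880)) (tt N6558 D7452) (tt N2442 F3565) (tt N6559 D7453))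
theorem Q3873 : ∀ i, i < 3873 → P i := stepQ 3872 Q3872 (allL N3872 (tt N6560 D7454) (tt N6561 D7455) (tt N1973 (iv D4598)) (tt N6540 (iv F7572)) (tt N6562 D7456))
theorem Q3874 : ∀ i, i < 3874 → P i := stepQ 3873 Q3873 (allL N3873 (tt N6559 (iv F7592)) (tt N1975 F3566) (tt N6563 D7457) (tt N6546 (iv F7578)) (tt N1973 (iv D4599)))
theorem Q3875 : ∀ i, i < 3875 → P i := stepQ 3874 Q3874 (allL N3874 (tt N6564 D7458) (tt N1974 (iv D4600)) (tt N6565 D7459) (tt N5727 F6179) (tt N5747 (iv F6214)))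
theorem Q3876 : ∀ i, i < 3876 → P i := stepQ 3875 Q3875 (allL N3875 (tt N3816 F3567) (tt N5747 (iv F6213)) (tt N2017 F3568) (tt N5745 F6211) (tt N1974 (iv D4601)))
theorem Q3877 : ∀ i, i < 3877 → P i := stepQ 3876 Q3876 (allL N3876 (tt N3813 F3569) (tt N6566 D7460) (tt N1975 (iv D4602)) (tt N6551 (iv F7590)) (tt N2015 F3570))
theorem Q3878 : ∀ i, i < 3878 → P i := stepQ 3877 Q3877 (allL N3877 (tt N2159 F3572) (tt N1976 (iv D4603)) (tt N4010 (iv F3738)) (tt N3364 F3571) (tt N6567 D7461))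
theorem Q3879 : ∀ i, i < 3879 → P i := stepQ 3878 Q3878 (allL N3878 (tt N3401 F3573) (tt N6567 (iv F7601)) (tt N6568 D7462) (tt N3391 F3574) (tt N1976 (iv D4604)))
theorem Q3880 : ∀ i, i < 3880 → P i := stepQ 3879 Q3879 (allL N3879 (tt N3432 F3576) (tt N6569 D7463) (tt N1977 (iv D4605)) (tt N3378 F3575) (tt N6570 D7464))
theorem Q3881 : ∀ i, i < 3881 → P i := stepQ 3880 Q3880 (allL N3880 (tt N1980 F3577) (tt N5066 (iv F5140)) (tt N6571 D7465) (tt N3362 F3578) (tt N1978 (iv D4606)))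
theorem Q3882 : ∀ i, i < 3882 → P i := stepQ 3881 Q3881 (allL N3881 (tt N2072 F3581) (tt N1983 F3579) (tt N1979 (iv D4607)) (tt N2055 F3580) (tt N6572 D7466))
theorem Q3883 : ∀ i, i < 3883 → P i := stepQ 3882 Q3882 (allL N3882 (tt N2085 F3584) (tt N1980 F3585) (tt N6573 D7467) (tt N2063 F3586) (tt N1979 (iv D4608)))
theorem Q3884 : ∀ i, i < 3884 → P i := stepQ 3883 Q3883 (allL N3883 (tt N6568 (iv F7604)) (tt N4101 (iv F3837)) (tt N1980 (iv D4609)) (tt N3410 F3590) (tt N4098 F3835))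
theorem Q3885 : ∀ i, i < 3885 → P i := stepQ 3884 Q3884 (allL N3884 (tt N3349 F3587) (tt N2063 F3588) (tt N3410 (iv F3589)) (tt N1980 (iv D4610)) (tt N3436 F3591))
theorem Q3886 : ∀ i, i < 3886 → P i := stepQ 3885 Q3885 (allL N3885 (tt N1981 (iv D4611)) (tt N6574 D7468) (tt N4396 (iv F4148)) (tt N3376 F3592) (tt N6575 D7469))
theorem Q3887 : ∀ i, i < 3887 → P i := stepQ 3886 Q3886 (allL N3886 (tt N2184 F3594) (tt N1981 (iv D4612)) (tt N6576 D7470) (tt N3434 F3593) (tt N6577 D7471))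
theorem Q3888 : ∀ i, i < 3888 → P i := stepQ 3887 Q3887 (allL N3887 (tt N6575 (iv F7620)) (tt N6577 (iv F7629)) (tt N4098 (iv F3834)) (tt N3417 F6620) (tt N1981 (iv D4613)))
theorem Q3889 : ∀ i, i < 3889 → P i := stepQ 3888 Q3888 (allL N3888 (tt N6578 D7472) (tt N4551 (iv F4341)) (tt N1982 (iv D4614)) (tt N4550 F4340) (tt N6579 D7473))
theorem Q3890 : ∀ i, i < 3890 → P i := stepQ 3889 Q3889 (allL N3889 (tt N1985 F3595) (tt N6025 (iv F6725)) (tt N6580 D7474) (tt N6581 D7475) (tt N1982 (iv D4615)))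
theorem Q3891 : ∀ i, i < 3891 → P i := stepQ 3890 Q3890 (allL N3890 (tt N3464 (iv F3598)) (tt N2055 F3596) (tt N1984 F3597) (tt N1983 (iv D4616)) (tt N6582 D7476))
theorem Q3892 : ∀ i, i < 3892 → P i := stepQ 3891 Q3891 (allL N3891 (tt N3057 F3599) (tt N6572 (iv F7614)) (tt N6583 D7477) (tt N6584 D7478) (tt N1983 (iv D4617)))
theorem Q3893 : ∀ i, i < 3893 → P i := stepQ 3892 Q3892 (allL N3892 (tt N1984 (iv D4618)) (tt N3475 F3600) (tt N4452 (iv F4216)) (tt N4731 (iv F4586)) (tt N6585 D7479))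
theorem Q3894 : ∀ i, i < 3894 → P i := stepQ 3893 Q3893 (allL N3893 (tt N6585 (iv F7640)) (tt N1986 F3601) (tt N6586 D7480) (tt N3817 (iv F3602)) (tt N1984 (iv D4619)))
theorem Q3895 : ∀ i, i < 3895 → P i := stepQ 3894 Q3894 (allL N3894 (tt N6429 F7405) (tt N6587 D7481) (tt N1985 (iv D4620)) (tt N6588 D7482) (tt N6589 D7483))
theorem Q3896 : ∀ i, i < 3896 → P i := stepQ 3895 Q3895 (allL N3895 (tt N6590 D7484) (tt N1987 F3603) (tt N6588 (iv F7643)) (tt N1985 (iv D4621)) (tt N6591 D7485))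
theorem Q3897 : ∀ i, i < 3897 → P i := stepQ 3896 Q3896 (allL N3896 (tt N3865 F3604) (tt N6591 (iv F7644)) (tt N1993 (iv F3606)) (tt N2023 F3605) (tt N1987 (iv D4622)))
theorem Q3898 : ∀ i, i < 3898 → P i := stepQ 3897 Q3897 (allL N3897 (tt N6592 D7486) (tt N1988 (iv D4623)) (tt N6593 D7487) (tt N2021 F3607) (tt N6594 D7488))
theorem Q3899 : ∀ i, i < 3899 → P i := stepQ 3898 Q3898 (allL N3898 (tt N3910 (iv F3616)) (tt N6594 (iv F7650)) (tt N5817 (iv F6338)) (tt N1992 F3608) (tt N1988 (iv D4624)))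
theorem Q3900 : ∀ i, i < 3900 → P i := stepQ 3899 Q3899 (allL N3899 (tt N6595 D7489) (tt N1989 (iv D4625)) (tt N6596 D7490) (tt N3918 (iv F3629)) (tt N3924 F3638))
theorem Q3901 : ∀ i, i < 3901 → P i := stepQ 3900 Q3900 (allL N3900 (tt N1990 (iv D4626)) (tt N6130 (iv F6847)) (tt N6597 D7491) (tt N4743 (iv F4600)) (tt N6598 D7492))
theorem Q3902 : ∀ i, i < 3902 → P i := stepQ 3901 Q3901 (allL N3901 (tt N3586 (iv F4601)) (tt N6576 (iv F7623)) (tt N1990 (iv D4627)) (tt N6599 D7493) (tt N6600 D7494))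
theorem Q3903 : ∀ i, i < 3903 → P i := stepQ 3902 Q3902 (allL N3902 (tt N6601 D7495) (tt N1991 F3609) (tt N6599 (iv F7659)) (tt N1990 (iv D4628)) (tt N6602 D7496))
theorem Q3904 : ∀ i, i < 3904 → P i := stepQ 3903 Q3903 (allL N3903 (tt N6598 (iv F7656)) (tt N1992 F3610) (tt N5608 (iv F7076)) (tt N6594 F7651) (tt N1990 (iv D4629)))
theorem Q3905 : ∀ i, i < 3905 → P i := stepQ 3904 Q3904 (allL N3904 (tt N3909 (iv F3614)) (tt N6602 (iv F7663)) (tt N5769 (iv F6238)) (tt N2022 F3611) (tt N1991 (iv D4630)))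
theorem Q3906 : ∀ i, i < 3906 → P i := stepQ 3905 Q3905 (allL N3905 (tt N1994 (iv D4631)) (tt N6170 (iv F6895)) (tt N2606 F4596) (tt N2605 (iv F4595)) (tt N6603 D7497))
theorem Q3907 : ∀ i, i < 3907 → P i := stepQ 3906 Q3906 (allL N3906 (tt N6604 D7498) (tt N6605 D7499) (tt N1994 (iv D4632)) (tt N6606 D7500) (tt N6607 D7501))
theorem Q3908 : ∀ i, i < 3908 → P i := stepQ 3907 Q3907 (allL N3907 (tt N6608 D7502) (tt N1995 F3612) (tt N6606 (iv F7668)) (tt N1994 (iv D4633)) (tt N6609 D7503))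
theorem Q3909 : ∀ i, i < 3909 → P i := stepQ 3908 Q3908 (allL N3908 (tt N6603 (iv F7665)) (tt N1996 F3613) (tt N6610 D7504) (tt N6611 D7505) (tt N1994 (iv D4634)))
theorem Q3910 : ∀ i, i < 3910 → P i := stepQ 3909 Q3909 (allL N3909 (tt N3904 F3614) (tt N6609 (iv F7673)) (tt N5745 (iv F6210)) (tt N2017 F3615) (tt N1995 (iv D4635)))
theorem Q3911 : ∀ i, i < 3911 → P i := stepQ 3910 Q3910 (allL N3910 (tt N3898 F3616) (tt N6611 (iv F7676)) (tt N5724 (iv F6172)) (tt N1996 (iv D4636)) (tt N2016 F3617))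
theorem Q3912 : ∀ i, i < 3912 → P i := stepQ 3911 Q3911 (allL N3911 (tt N4403 (iv F4156)) (tt N6229 (iv F7019)) (tt N1997 (iv D4637)) (tt N4782 (iv F4670)) (tt N6612 D7506))
theorem Q3913 : ∀ i, i < 3913 → P i := stepQ 3912 Q3912 (allL N3912 (tt N2000 F3618) (tt N3097 F3619) (tt N6613 D7507) (tt N3150 (iv F3620)) (tt N1997 (iv D4638)))
theorem Q3914 : ∀ i, i < 3914 → P i := stepQ 3913 Q3913 (allL N3913 (tt N1998 (iv D4639)) (tt N3517 (iv F3622)) (tt N6614 D7508) (tt N3515 F3621) (tt N6615 D7509))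
theorem Q3915 : ∀ i, i < 3915 → P i := stepQ 3914 Q3914 (allL N3914 (tt N3593 (iv F7007)) (tt N2187 F3623) (tt N1999 F3624) (tt N1998 (iv D4640)) (tt N6616 D7510))
theorem Q3916 : ∀ i, i < 3916 → P i := stepQ 3915 Q3915 (allL N3915 (tt N6615 (iv F7684)) (tt N2188 F3625) (tt N6617 D7511) (tt N2011 F7102) (tt N1998 (iv D4641)))
theorem Q3917 : ∀ i, i < 3917 → P i := stepQ 3916 Q3916 (allL N3916 (tt N1999 (iv D4642)) (tt N3599 F3626) (tt N6618 D7512) (tt N4785 (iv F4675)) (tt N5322 (iv F5517)))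
theorem Q3918 : ∀ i, i < 3918 → P i := stepQ 3917 Q3917 (allL N3917 (tt N5322 (iv F5515)) (tt N2002 F3627) (tt N5587 (iv F5948)) (tt N2013 F3628) (tt N1999 (iv D4643)))
theorem Q3919 : ∀ i, i < 3919 → P i := stepQ 3918 Q3918 (allL N3918 (tt N4923 (iv F4913)) (tt N2001 (iv D4644)) (tt N6619 D7513) (tt N3899 F3629) (tt N6620 D7514))
theorem Q3920 : ∀ i, i < 3920 → P i := stepQ 3919 Q3919 (allL N3919 (tt N2002 F3630) (tt N6620 (iv F7697)) (tt N5269 (iv F5458)) (tt N2006 F3631) (tt N2001 (iv D4645)))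
theorem Q3921 : ∀ i, i < 3921 → P i := stepQ 3920 Q3920 (allL N3920 (tt N2207 F3632) (tt N2003 (iv D4646)) (tt N2200 F3633) (tt N6621 D7515) (tt N4579 (iv F4368)))
theorem Q3922 : ∀ i, i < 3922 → P i := stepQ 3921 Q3921 (allL N3921 (tt N4948 (iv F4945)) (tt N6621 (iv F7699)) (tt N2004 F3634) (tt N2003 (iv D4647)) (tt N6622 D7516))
theorem Q3923 : ∀ i, i < 3923 → P i := stepQ 3922 Q3922 (allL N3922 (tt N3636 F3635) (tt N4579 (iv F4366)) (tt N4108 (iv F3845)) (tt N6623 D7517) (tt N2003 (iv D4648)))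
theorem Q3924 : ∀ i, i < 3924 → P i := stepQ 3923 Q3923 (allL N3923 (tt N4958 (iv F4968)) (tt N2006 F3636) (tt N6624 D7518) (tt N6620 (iv F7698)) (tt N2004 (iv D4649)))
theorem Q3925 : ∀ i, i < 3925 → P i := stepQ 3924 Q3924 (allL N3924 (tt N6625 D7519) (tt N2007 F3637) (tt N5188 (iv F5383)) (tt N2005 (iv D4650)) (tt N3899 (iv F3638)))
theorem Q3926 : ∀ i, i < 3926 → P i := stepQ 3925 Q3925 (allL N3925 (tt N6626 D7520) (tt N3681 F3639) (tt N2009 F3640) (tt N2008 (iv D4651)) (tt N5362 (iv F5583)))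
theorem Q3927 : ∀ i, i < 3927 → P i := stepQ 3926 Q3926 (allL N3926 (tt N2010 (iv D4652)) (tt N3792 (iv F3642)) (tt N4944 (iv F4942)) (tt N3791 F3641) (tt N6627 D7521))
theorem Q3928 : ∀ i, i < 3928 → P i := stepQ 3927 Q3927 (allL N3927 (tt N6627 (iv F7712)) (tt N2211 F3643) (tt N6628 D7522) (tt N6616 (iv F7689)) (tt N2010 (iv D4653)))
theorem Q3929 : ∀ i, i < 3929 → P i := stepQ 3928 Q3928 (allL N3928 (tt N5365 (iv F5587)) (tt N2132 (iv F3645)) (tt N2011 (iv D4654)) (tt N6617 (iv F7690)) (tt N2094 F3644))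
theorem Q3930 : ∀ i, i < 3930 → P i := stepQ 3929 Q3929 (allL N3929 (tt N4407 (iv F4163)) (tt N6419 (iv F7387)) (tt N2012 (iv D4656)) (tt N5029 (iv F5087)) (tt N6629 D7523))
theorem Q3931 : ∀ i, i < 3931 → P i := stepQ 3930 Q3930 (allL N3930 (tt N2013 F3647) (tt N3099 F3648) (tt N6630 D7524) (tt N3098 F3649) (tt N2012 (iv D4657)))
theorem Q3932 : ∀ i, i < 3932 → P i := stepQ 3931 Q3931 (allL N3931 (tt N6101 (iv F6822)) (tt N2097 F5949) (tt N2013 (iv D4658)) (tt N5587 F5950) (tt N2095 F5951))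
theorem Q3933 : ∀ i, i < 3933 → P i := stepQ 3932 Q3932 (allL N3932 (tt N2014 (iv D4659)) (tt N6416 (iv F7378)) (tt N2699 (iv F5048)) (tt N2698 F5047) (tt N6631 D7525))
theorem Q3934 : ∀ i, i < 3934 → P i := stepQ 3933 Q3933 (allL N3933 (tt N6333 (iv F7240)) (tt N6632 D7526) (tt N2014 (iv D4660)) (tt N6633 D7527) (tt N6634 D7528))
theorem Q3935 : ∀ i, i < 3935 → P i := stepQ 3934 Q3934 (allL N3934 (tt N6635 D7529) (tt N2016 F3650) (tt N6633 (iv F7724)) (tt N2014 (iv D4661)) (tt N6611 (iv F7677)))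
theorem Q3936 : ∀ i, i < 3936 → P i := stepQ 3935 Q3935 (allL N3935 (tt N6631 (iv F7721)) (tt N2017 F3651) (tt N6636 D7530) (tt N6609 F7674) (tt N2014 (iv D4662)))
theorem Q3937 : ∀ i, i < 3937 → P i := stepQ 3936 Q3936 (allL N3936 (tt N6637 D7531) (tt N2015 (iv D4663)) (tt N6638 D7532) (tt N3218 F3652) (tt N6566 (iv F7599)))
theorem Q3938 : ∀ i, i < 3938 → P i := stepQ 3937 Q3937 (allL N3937 (tt N3419 F3654) (tt N6639 D7533) (tt N2018 (iv D4664)) (tt N3366 F3653) (tt N6640 D7534))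
theorem Q3939 : ∀ i, i < 3939 → P i := stepQ 3938 Q3938 (allL N3938 (tt N2020 F3655) (tt N2224 F3656) (tt N6641 D7535) (tt N3379 F3657) (tt N2018 (iv D4665)))
theorem Q3940 : ∀ i, i < 3940 → P i := stepQ 3939 Q3939 (allL N3939 (tt N2019 (iv D4666)) (tt N6302 (iv F7199)) (tt N4410 (iv F4165)) (tt N3367 F3658) (tt N6642 D7536))
theorem Q3941 : ∀ i, i < 3941 → P i := stepQ 3940 Q3940 (allL N3940 (tt N2215 F3660) (tt N2019 (iv D4667)) (tt N6643 D7537) (tt N2203 F3659) (tt N6644 D7538))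
theorem Q3942 : ∀ i, i < 3942 → P i := stepQ 3941 Q3941 (allL N3941 (tt N6642 (iv F7740)) (tt N6644 (iv F7749)) (tt N4115 (iv F3847)) (tt N3435 F6619) (tt N2019 (iv D4668)))
theorem Q3943 : ∀ i, i < 3943 → P i := stepQ 3942 Q3942 (allL N3942 (tt N6645 D7539) (tt N6646 D7540) (tt N2020 (iv D4669)) (tt N3436 F3661) (tt N3415 (iv F3662)))
theorem Q3944 : ∀ i, i < 3944 → P i := stepQ 3943 Q3943 (allL N3943 (tt N2021 (iv D4670)) (tt N6460 (iv F7453)) (tt N6647 D7541) (tt N5022 (iv F5075)) (tt N6648 D7542))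
theorem Q3945 : ∀ i, i < 3945 → P i := stepQ 3944 Q3944 (allL N3944 (tt N3721 (iv F5076)) (tt N6643 (iv F7743)) (tt N2021 (iv D4671)) (tt N6593 (iv F7648)) (tt N6649 D7543))
theorem Q3946 : ∀ i, i < 3946 → P i := stepQ 3945 Q3945 (allL N3945 (tt N6648 (iv F7756)) (tt N2022 F3663) (tt N5578 (iv F7368)) (tt N6602 (iv F7664)) (tt N2021 (iv D4672)))
theorem Q3947 : ∀ i, i < 3947 → P i := stepQ 3946 Q3946 (allL N3946 (tt N6650 D7544) (tt N2023 (iv D4673)) (tt N6651 D7545) (tt N6591 (iv F7645)) (tt N3817 F3664))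
theorem Q3948 : ∀ i, i < 3948 → P i := stepQ 3947 Q3947 (allL N3947 (tt N5125 (iv F5229)) (tt N5336 (iv F5542)) (tt N5101 F5193) (tt N2024 (iv D4674)) (tt N6652 D7546))
theorem Q3949 : ∀ i, i < 3949 → P i := stepQ 3948 Q3948 (allL N3948 (tt N5161 (iv F5344)) (tt N5337 (iv F5546)) (tt N2032 F3665) (tt N6652 (iv F7761)) (tt N2025 (iv D4675)))
theorem Q3950 : ∀ i, i < 3950 → P i := stepQ 3949 Q3949 (allL N3949 (tt N4572 (iv F4356)) (tt N2026 (iv D4676)) (tt N6246 (iv F7057)) (tt N6653 D7547) (tt N5481 F5807))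
theorem Q3951 : ∀ i, i < 3951 → P i := stepQ 3950 Q3950 (allL N3950 (tt N5128 (iv F5233)) (tt N6653 (iv F7763)) (tt N2027 F3666) (tt N2026 (iv D4677)) (tt N6654 D7548))
theorem Q3952 : ∀ i, i < 3952 → P i := stepQ 3951 Q3951 (allL N3951 (tt N5144 (iv F5263)) (tt N5481 (iv F5804)) (tt N5104 F5200) (tt N2030 F5201) (tt N2026 (iv D4678)))
theorem Q3953 : ∀ i, i < 3953 → P i := stepQ 3952 Q3952 (allL N3952 (tt N5073 (iv F5150)) (tt N2040 F3667) (tt N6652 (iv F7762)) (tt N2032 F3668) (tt N2027 (iv D4679)))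
theorem Q3954 : ∀ i, i < 3954 → P i := stepQ 3953 Q3953 (allL N3953 (tt N4592 (iv F4388)) (tt N2029 F3669) (tt N6391 (iv F7330)) (tt N2028 (iv D4680)) (tt N6369 F7300))
theorem Q3955 : ∀ i, i < 3955 → P i := stepQ 3954 Q3954 (allL N3954 (tt N5160 (iv F5342)) (tt N6369 (iv F7299)) (tt N5103 (iv F5196)) (tt N6654 (iv F7764)) (tt N2029 (iv D4681)))
theorem Q3956 : ∀ i, i < 3956 → P i := stepQ 3955 Q3955 (allL N3955 (tt N6655 D7549) (tt N2031 (iv D4683)) (tt N4601 (iv F4412)) (tt N4345 F4089) (tt N5204 (iv F5400)))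
theorem Q3957 : ∀ i, i < 3957 → P i := stepQ 3956 Q3956 (allL N3956 (tt N2304 F3671) (tt N2035 F3670) (tt N6223 (iv F6997)) (tt N2033 (iv D4684)) (tt N6656 D7550))
theorem Q3958 : ∀ i, i < 3958 → P i := stepQ 3957 Q3957 (allL N3957 (tt N6458 (iv F7449)) (tt N2036 F3672) (tt N5335 F5541) (tt N6656 (iv F7770)) (tt N2034 (iv D4685)))
theorem Q3959 : ∀ i, i < 3959 → P i := stepQ 3958 Q3958 (allL N3958 (tt N2310 F3673) (tt N6656 (iv F7769)) (tt N2040 F3675) (tt N2036 F3674) (tt N2035 (iv D4686)))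
theorem Q3960 : ∀ i, i < 3960 → P i := stepQ 3959 Q3959 (allL N3959 (tt N2037 (iv D4687)) (tt N3390 F3677) (tt N6657 D7551) (tt N6658 D7552) (tt N3388 F3676))
theorem Q3961 : ∀ i, i < 3961 → P i := stepQ 3960 Q3960 (allL N3960 (tt N6659 D7553) (tt N6246 F7058) (tt N2037 (iv D4688)) (tt N6660 D7554) (tt N6245 (iv F7059)))
theorem Q3962 : ∀ i, i < 3962 → P i := stepQ 3961 Q3961 (allL N3961 (tt N4420 (iv F4173)) (tt N2038 F3678) (tt N6660 (iv F7776)) (tt N2037 (iv D4689)) (tt N4419 F4172))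
theorem Q3963 : ∀ i, i < 3963 → P i := stepQ 3962 Q3962 (allL N3962 (tt N2315 F3679) (tt N4419 (iv F4171)) (tt N2193 F3680) (tt N2043 F3681) (tt N2038 (iv D4690)))
theorem Q3964 : ∀ i, i < 3964 → P i := stepQ 3963 Q3963 (allL N3963 (tt N2041 (iv D4691)) (tt N4236 (iv F3955)) (tt N6661 D7555) (tt N6662 D7556) (tt N2904 F3682))
theorem Q3965 : ∀ i, i < 3965 → P i := stepQ 3964 Q3964 (allL N3964 (tt N6663 D7557) (tt N6391 (iv F7329)) (tt N2042 F3683) (tt N2041 (iv D4692)) (tt N6423 (iv F7398)))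
theorem Q3966 : ∀ i, i < 3966 → P i := stepQ 3965 Q3965 (allL N3965 (tt N2042 (iv D4693)) (tt N3777 F3684) (tt N6664 D7558) (tt N6665 D7559) (tt N6666 D7560))
theorem Q3967 : ∀ i, i < 3967 → P i := stepQ 3966 Q3966 (allL N3966 (tt N6666 (iv F7785)) (tt N2043 F3685) (tt N5441 F6499) (tt N4419 (iv F4170)) (tt N2042 (iv D4694)))
theorem Q3968 : ∀ i, i < 3968 → P i := stepQ 3967 Q3967 (allL N3967 (tt N2044 (iv D4695)) (tt N6655 (iv F7765)) (tt N6667 D7561) (tt N2570 F3687) (tt N2729 F3686))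
theorem Q3969 : ∀ i, i < 3969 → P i := stepQ 3968 Q3968 (allL N3968 (tt N6668 D7562) (tt N6669 D7563) (tt N2044 (iv D4696)) (tt N2582 F3688) (tt N5865 (iv F6427)))
theorem Q3970 : ∀ i, i < 3970 → P i := stepQ 3969 Q3969 (allL N3969 (tt N2578 F3689) (tt N2106 F3690) (tt N2325 F3691) (tt N2045 (iv D4697)) (tt N6670 D7564))
theorem Q3971 : ∀ i, i < 3971 → P i := stepQ 3970 Q3970 (allL N3970 (tt N2046 F3692) (tt N3191 F3693) (tt N4438 (iv F4189)) (tt N6671 D7565) (tt N2045 (iv D4698)))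
theorem Q3972 : ∀ i, i < 3972 → P i := stepQ 3971 Q3971 (allL N3971 (tt N4436 (iv F4187)) (tt N2204 (iv F3695)) (tt N2046 (iv D4699)) (tt N6672 D7566) (tt N2199 F3694))
theorem Q3973 : ∀ i, i < 3973 → P i := stepQ 3972 Q3972 (allL N3972 (tt N5060 (iv F5130)) (tt N2058 F3696) (tt N6672 (iv F7808)) (tt N2046 (iv D4700)) (tt N6673 D7567))
theorem Q3974 : ∀ i, i < 3974 → P i := stepQ 3973 Q3973 (allL N3973 (tt N4445 (iv F4205)) (tt N2206 F3697) (tt N2048 F3698) (tt N2047 (iv D4701)) (tt N6674 D7568))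
theorem Q3975 : ∀ i, i < 3975 → P i := stepQ 3974 Q3974 (allL N3974 (tt N2048 (iv D4702)) (tt N6675 D7569) (tt N4442 (iv F4199)) (tt N6670 (iv F7804)) (tt N6676 D7570))
theorem Q3976 : ∀ i, i < 3976 → P i := stepQ 3975 Q3975 (allL N3975 (tt N6676 (iv F7823)) (tt N2064 F3699) (tt N3975 F3729) (tt N6673 (iv F7812)) (tt N2048 (iv D4703)))
theorem Q3977 : ∀ i, i < 3977 → P i := stepQ 3976 Q3976 (allL N3976 (tt N2084 F3700) (tt N2853 F3701) (tt N6677 D7571) (tt N6678 D7572) (tt N2049 (iv D4704)))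
theorem Q3978 : ∀ i, i < 3978 → P i := stepQ 3977 Q3977 (allL N3977 (tt N2068 F3702) (tt N5189 (iv F5385)) (tt N2050 (iv D4705)) (tt N6679 D7573) (tt N5187 F5382))
theorem Q3979 : ∀ i, i < 3979 → P i := stepQ 3978 Q3978 (allL N3978 (tt N6680 D7574) (tt N2855 F3703) (tt N6679 (iv F7829)) (tt N2050 (iv D4706)) (tt N6681 D7575))
theorem Q3980 : ∀ i, i < 3980 → P i := stepQ 3979 Q3979 (allL N3979 (tt N2065 F3704) (tt N3850 F3705) (tt N2051 (iv D4707)) (tt N3849 (iv F3706)) (tt N6682 D7576))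
theorem Q3981 : ∀ i, i < 3981 → P i := stepQ 3980 Q3980 (allL N3980 (tt N2083 F3707) (tt N3857 F3708) (tt N3849 F3709) (tt N2051 (iv D4708)) (tt N6683 D7577))
theorem Q3982 : ∀ i, i < 3982 → P i := stepQ 3981 Q3981 (allL N3981 (tt N2052 F3710) (tt N5715 (iv F6158)) (tt N6684 D7578) (tt N6685 D7579) (tt N2051 (iv D4709)))
theorem Q3983 : ∀ i, i < 3983 → P i := stepQ 3982 Q3982 (allL N3982 (tt N6686 D7580) (tt N6687 D7581) (tt N2052 (iv D4710)) (tt N6688 D7582) (tt N5822 F6353))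
theorem Q3984 : ∀ i, i < 3984 → P i := stepQ 3983 Q3983 (allL N3983 (tt N6678 (iv F7828)) (tt N5349 (iv F5570)) (tt N6688 (iv F7846)) (tt N2052 (iv D4711)) (tt N6689 D7583))
theorem Q3985 : ∀ i, i < 3985 → P i := stepQ 3984 Q3984 (allL N3984 (tt N2771 F3711) (tt N2053 (iv D4712)) (tt N6690 D7584) (tt N6691 D7585) (tt N2768 F3712))
theorem Q3986 : ∀ i, i < 3986 → P i := stepQ 3985 Q3985 (allL N3985 (tt N6692 D7586) (tt N6691 (iv F7855)) (tt N2054 F3713) (tt N2053 (iv D4713)) (tt N6693 D7587))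
theorem Q3987 : ∀ i, i < 3987 → P i := stepQ 3986 Q3986 (allL N3986 (tt N2054 (iv D4714)) (tt N6694 D7588) (tt N6695 D7589) (tt N6683 (iv F7841)) (tt N6696 D7590))
theorem Q3988 : ∀ i, i < 3988 → P i := stepQ 3987 Q3987 (allL N3987 (tt N6696 (iv F7860)) (tt N5352 (iv F5574)) (tt N2064 F7850) (tt N6689 (iv F7848)) (tt N2054 (iv D4715)))
theorem Q3989 : ∀ i, i < 3989 → P i := stepQ 3988 Q3988 (allL N3988 (tt N2067 F3714) (tt N6582 (iv F7636)) (tt N6686 (iv F7844)) (tt N6697 D7591) (tt N2055 (iv D4716)))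
theorem Q3990 : ∀ i, i < 3990 → P i := stepQ 3989 Q3989 (allL N3989 (tt N5595 F5966) (tt N6698 D7592) (tt N2056 (iv D4717)) (tt N6699 D7593) (tt N5594 (iv F5967)))
theorem Q3991 : ∀ i, i < 3991 → P i := stepQ 3990 Q3990 (allL N3990 (tt N2087 F3715) (tt N3415 F3716) (tt N6699 (iv F7864)) (tt N2056 (iv D4718)) (tt N6646 (iv F7754)))
theorem Q3992 : ∀ i, i < 3992 → P i := stepQ 3991 Q3991 (allL N3991 (tt N2057 (iv D4719)) (tt N6700 D7594) (tt N6682 (iv F7838)) (tt N6701 D7595) (tt N6702 D7596))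
theorem Q3993 : ∀ i, i < 3993 → P i := stepQ 3992 Q3992 (allL N3992 (tt N6703 D7597) (tt N2057 (iv D4720)) (tt N6704 D7598) (tt N6705 D7599) (tt N3015 (iv F5697)))
theorem Q3994 : ∀ i, i < 3994 → P i := stepQ 3993 Q3993 (allL N3993 (tt N6706 D7600) (tt N6705 (iv F7873)) (tt N2058 F3717) (tt N2057 (iv D4721)) (tt N6707 D7601))
theorem Q3995 : ∀ i, i < 3995 → P i := stepQ 3994 Q3994 (allL N3994 (tt N6702 (iv F7866)) (tt N3015 F5698) (tt N5822 (iv F6352)) (tt N2062 F5699) (tt N2057 (iv D4722)))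
theorem Q3996 : ∀ i, i < 3996 → P i := stepQ 3995 Q3995 (allL N3995 (tt N2092 F3718) (tt N6673 (iv F7810)) (tt N6689 (iv F7849)) (tt N2064 F3719) (tt N2058 (iv D4723)))
theorem Q3997 : ∀ i, i < 3997 → P i := stepQ 3996 Q3996 (allL N3996 (tt N2099 F3720) (tt N5279 (iv F5469)) (tt N6482 (iv F7483)) (tt N2059 (iv D4724)) (tt N6708 D7602))
theorem Q3998 : ∀ i, i < 3998 → P i := stepQ 3997 Q3997 (allL N3997 (tt N3707 F3721) (tt N2205 F3722) (tt N2060 (iv D4725)) (tt N6709 D7603) (tt N3704 F3723))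
theorem Q3999 : ∀ i, i < 3999 → P i := stepQ 3998 Q3998 (allL N3998 (tt N6710 D7604) (tt N2061 F3724) (tt N6709 (iv F7881)) (tt N2060 (iv D4726)) (tt N6711 D7605))
theorem Q4000 : ∀ i, i < 4000 → P i := stepQ 3999 Q3999 (allL N3999 (tt N2061 (iv D4727)) (tt N6712 D7606) (tt N6713 D7607) (tt N6714 D7608) (tt N6715 D7609))
theorem Q4001 : ∀ i, i < 4001 → P i := stepQ 4000 Q4000 (allL N4000 (tt N6715 (iv F7895)) (tt N6711 (iv F7883)) (tt N6693 (iv F7857)) (tt N6707 (iv F7878)) (tt N2061 (iv D4728)))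
theorem Q4002 : ∀ i, i < 4002 → P i := stepQ 4001 Q4001 (allL N4001 (tt N2093 F3726) (tt N6716 D7610) (tt N2063 (iv D4730)) (tt N6573 (iv F7616)) (tt N6717 D7611))
theorem Q4003 : ∀ i, i < 4003 → P i := stepQ 4002 Q4002 (allL N4002 (tt N2064 F3727) (tt N3436 F3728) (tt N6718 D7612) (tt N6646 (iv F7753)) (tt N2063 (iv D4731)))
theorem Q4004 : ∀ i, i < 4004 → P i := stepQ 4003 Q4003 (allL N4003 (tt N6682 (iv F7836)) (tt N2367 F3730) (tt N5595 (iv F5964)) (tt N6719 D7613) (tt N2065 (iv D4733)))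
theorem Q4005 : ∀ i, i < 4005 → P i := stepQ 4004 Q4004 (allL N4004 (tt N6713 (iv F7889)) (tt N2368 F3731) (tt N2093 F3732) (tt N2066 (iv D4734)) (tt N6720 D7614))
theorem Q4006 : ∀ i, i < 4006 → P i := stepQ 4005 Q4005 (allL N4005 (tt N6684 (iv F7842)) (tt N4987 (iv F5005)) (tt N2067 (iv D4735)) (tt N6721 D7615) (tt N5193 F5390))
theorem Q4007 : ∀ i, i < 4007 → P i := stepQ 4006 Q4006 (allL N4006 (tt N2075 F3734) (tt N2370 F3733) (tt N6721 (iv F7903)) (tt N2067 (iv D4736)) (tt N6722 D7616))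
theorem Q4008 : ∀ i, i < 4008 → P i := stepQ 4007 Q4007 (allL N4007 (tt N6695 (iv F7859)) (tt N4988 (iv F5007)) (tt N2069 F3735) (tt N2068 (iv D4737)) (tt N6723 D7617))
theorem Q4009 : ∀ i, i < 4009 → P i := stepQ 4008 Q4008 (allL N4008 (tt N2069 (iv D4738)) (tt N6584 (iv F7638)) (tt N6692 (iv F7856)) (tt N6572 (iv F7615)) (tt N6718 (iv F7897)))
theorem Q4010 : ∀ i, i < 4010 → P i := stepQ 4009 Q4009 (allL N4009 (tt N6718 (iv F7898)) (tt N2375 F3736) (tt N6720 (iv F7902)) (tt N6722 (iv F7906)) (tt N2069 (iv D4739)))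
theorem Q4011 : ∀ i, i < 4011 → P i := stepQ 4010 Q4010 (allL N4010 (tt N2070 (iv D4740)) (tt N3450 F3737) (tt N3877 F3738) (tt N5952 (iv F6596)) (tt N6724 D7618))
theorem Q4012 : ∀ i, i < 4012 → P i := stepQ 4011 Q4011 (allL N4011 (tt N5084 F5170) (tt N4014 (iv F3743)) (tt N2070 (iv D4741)) (tt N4013 F3741) (tt N6725 D7619))
theorem Q4013 : ∀ i, i < 4013 → P i := stepQ 4012 Q4012 (allL N4012 (tt N6724 (iv F7909)) (tt N2073 F3739) (tt N6726 D7620) (tt N6727 D7621) (tt N2070 (iv D4742)))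
theorem Q4014 : ∀ i, i < 4014 → P i := stepQ 4013 Q4013 (allL N4013 (tt N5628 (iv F6019)) (tt N2071 (iv D4743)) (tt N2161 F3740) (tt N4011 (iv F3741)) (tt N6728 D7622))
theorem Q4015 : ∀ i, i < 4015 → P i := stepQ 4014 Q4014 (allL N4014 (tt N3849 F3742) (tt N4011 F3743) (tt N2072 F3744) (tt N2071 (iv D4744)) (tt N6729 D7623))
theorem Q4016 : ∀ i, i < 4016 → P i := stepQ 4015 Q4015 (allL N4015 (tt N6481 (iv F7479)) (tt N6728 (iv F7913)) (tt N2088 F3745) (tt N6730 D7624) (tt N2071 (iv D4745)))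
theorem Q4017 : ∀ i, i < 4017 → P i := stepQ 4016 Q4016 (allL N4016 (tt N6572 (iv F7613)) (tt N4160 (iv F3890)) (tt N6731 D7625) (tt N2077 F3746) (tt N2072 (iv D4746)))
theorem Q4018 : ∀ i, i < 4018 → P i := stepQ 4017 Q4017 (allL N4017 (tt N6677 (iv F7826)) (tt N6732 D7626) (tt N2073 (iv D4747)) (tt N6733 D7627) (tt N6734 D7628))
theorem Q4019 : ∀ i, i < 4019 → P i := stepQ 4018 Q4018 (allL N4018 (tt N6697 (iv F7861)) (tt N6727 (iv F7911)) (tt N6733 (iv F7921)) (tt N2073 (iv D4748)) (tt N6735 D7629))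
theorem Q4020 : ∀ i, i < 4020 → P i := stepQ 4019 Q4019 (allL N4019 (tt N2074 (iv D4749)) (tt N6736 D7630) (tt N2084 F3747) (tt N6737 D7631) (tt N5823 (iv F6354)))
theorem Q4021 : ∀ i, i < 4021 → P i := stepQ 4020 Q4020 (allL N4020 (tt N6688 (iv F7847)) (tt N5812 (iv F6321)) (tt N2075 F3748) (tt N2074 (iv D4751)) (tt N5810 F6312))
theorem Q4022 : ∀ i, i < 4022 → P i := stepQ 4021 Q4021 (allL N4021 (tt N6722 (iv F7904)) (tt N6513 (iv F7531)) (tt N2092 F6313) (tt N2078 F3750) (tt N2075 (iv D4753)))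
theorem Q4023 : ∀ i, i < 4023 → P i := stepQ 4022 Q4022 (allL N4022 (tt N2076 (iv D4754)) (tt N6738 D7632) (tt N6680 (iv F7831)) (tt N6739 D7633) (tt N6740 D7634))
theorem Q4024 : ∀ i, i < 4024 → P i := stepQ 4023 Q4023 (allL N4023 (tt N6740 (iv F7926)) (tt N5811 (iv F6318)) (tt N2097 F6316) (tt N5810 F6317) (tt N2076 (iv D4755)))
theorem Q4025 : ∀ i, i < 4025 → P i := stepQ 4024 Q4024 (allL N4024 (tt N6741 D7635) (tt N2077 (iv D4756)) (tt N6742 D7636) (tt N4160 F3891) (tt N6743 D7637))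
theorem Q4026 : ∀ i, i < 4026 → P i := stepQ 4025 Q4025 (allL N4025 (tt N6679 (iv F7830)) (tt N6744 D7638) (tt N2077 (iv D4757)) (tt N6731 (iv F7920)) (tt N6745 D7639))
theorem Q4027 : ∀ i, i < 4027 → P i := stepQ 4026 Q4026 (allL N4026 (tt N2078 F3751) (tt N6743 (iv F7929)) (tt N6746 D7640) (tt N6735 (iv F7923)) (tt N2077 (iv D4758)))
theorem Q4028 : ∀ i, i < 4028 → P i := stepQ 4027 Q4027 (allL N4027 (tt N2081 F3752) (tt N2101 F3753) (tt N6747 D7641) (tt N6748 D7642) (tt N2079 (iv D4760)))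
theorem Q4029 : ∀ i, i < 4029 → P i := stepQ 4028 Q4028 (allL N4028 (tt N4345 (iv F4087)) (tt N2085 F3754) (tt N4198 (iv F3927)) (tt N2098 (iv F3755)) (tt N2080 (iv D4761)))
theorem Q4030 : ∀ i, i < 4030 → P i := stepQ 4029 Q4029 (allL N4029 (tt N4347 (iv F4093)) (tt N4203 (iv F3930)) (tt N2081 (iv D4762)) (tt N4250 (iv F3978)) (tt N4197 (iv F3924)))
theorem Q4031 : ∀ i, i < 4031 → P i := stepQ 4030 Q4030 (allL N4030 (tt N5167 (iv F5359)) (tt N2087 F3756) (tt N4250 F3979) (tt N2081 (iv D4763)) (tt N6749 D7643))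
theorem Q4032 : ∀ i, i < 4032 → P i := stepQ 4031 Q4031 (allL N4031 (tt N6034 (iv F6738)) (tt N2084 F3757) (tt N6750 D7644) (tt N5557 (iv F5902)) (tt N2082 (iv D4764)))
theorem Q4033 : ∀ i, i < 4033 → P i := stepQ 4032 Q4032 (allL N4032 (tt N6683 (iv F7839)) (tt N5553 (iv F5899)) (tt N6739 (iv F7925)) (tt N6680 (iv F7832)) (tt N2083 (iv D4765)))
theorem Q4034 : ∀ i, i < 4034 → P i := stepQ 4033 Q4033 (allL N4033 (tt N6685 (iv F7843)) (tt N5557 F5903) (tt N6737 (iv F7924)) (tt N2084 (iv D4766)) (tt N6751 D7645))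
theorem Q4035 : ∀ i, i < 4035 → P i := stepQ 4034 Q4034 (allL N4034 (tt N6714 (iv F7893)) (tt N6752 D7646) (tt N2085 (iv D4767)) (tt N2099 F3758) (tt N6753 D7647))
theorem Q4036 : ∀ i, i < 4036 → P i := stepQ 4035 Q4035 (allL N4035 (tt N2086 (iv D4768)) (tt N5277 (iv F6358)) (tt N6481 (iv F7481)) (tt N6706 (iv F7876)) (tt N5275 F6357))
theorem Q4037 : ∀ i, i < 4037 → P i := stepQ 4036 Q4036 (allL N4036 (tt N6754 D7648) (tt N2086 (iv D4769)) (tt N6755 D7649) (tt N6756 D7650) (tt N6757 D7651))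
theorem Q4038 : ∀ i, i < 4038 → P i := stepQ 4037 Q4037 (allL N4037 (tt N6701 (iv F7865)) (tt N6756 (iv F7960)) (tt N2087 F3759) (tt N2086 (iv D4770)) (tt N6758 D7652))
theorem Q4039 : ∀ i, i < 4039 → P i := stepQ 4038 Q4038 (allL N4038 (tt N5275 (iv F6356)) (tt N6757 (iv F7963)) (tt N5823 (iv F6355)) (tt N6753 (iv F7953)) (tt N2086 (iv D4771)))
theorem Q4040 : ∀ i, i < 4040 → P i := stepQ 4039 Q4039 (allL N4039 (tt N6646 (iv F7755)) (tt N6749 (iv F7942)) (tt N6751 F7948) (tt N2100 F3760) (tt N2087 (iv D4772)))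
theorem Q4041 : ∀ i, i < 4041 → P i := stepQ 4040 Q4040 (allL N4040 (tt N6759 D7653) (tt N2088 (iv D4773)) (tt N6760 D7654) (tt N6761 D7655) (tt N6762 D7656))
theorem Q4042 : ∀ i, i < 4042 → P i := stepQ 4041 Q4041 (allL N4041 (tt N6699 (iv F7863)) (tt N6761 (iv F7969)) (tt N6730 (iv F7919)) (tt N2088 (iv D4774)) (tt N6763 D7657))
theorem Q4043 : ∀ i, i < 4043 → P i := stepQ 4042 Q4042 (allL N4042 (tt N2091 F3761) (tt N6762 (iv F7970)) (tt N6734 (iv F7922)) (tt N6764 D7658) (tt N2088 (iv D4775)))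
theorem Q4044 : ∀ i, i < 4044 → P i := stepQ 4043 Q4043 (allL N4043 (tt N2089 (iv D4776)) (tt N6103 (iv F6826)) (tt N4361 (iv F6122)) (tt N4828 (iv F4747)) (tt N5590 (iv F5958)))
theorem Q4045 : ∀ i, i < 4045 → P i := stepQ 4044 Q4044 (allL N4044 (tt N6765 D7659) (tt N2125 F3762) (tt N2089 (iv D4777)) (tt N6766 D7660) (tt N6617 (iv F7691)))
theorem Q4046 : ∀ i, i < 4046 → P i := stepQ 4045 Q4045 (allL N4045 (tt N5589 (iv F5954)) (tt N2090 F3763) (tt N6766 (iv F7974)) (tt N2089 (iv D4778)) (tt N5587 F5952))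
theorem Q4047 : ∀ i, i < 4047 → P i := stepQ 4046 Q4046 (allL N4046 (tt N2090 (iv D4780)) (tt N4920 F5945) (tt N6719 (iv F7900)) (tt N5595 (iv F5965)) (tt N5586 (iv F5944)))
theorem Q4048 : ∀ i, i < 4048 → P i := stepQ 4047 Q4047 (allL N4047 (tt N5586 F5943) (tt N5587 (iv F5946)) (tt N5810 (iv F6310)) (tt N2097 F3788) (tt N2090 (iv D4781)))
theorem Q4049 : ∀ i, i < 4049 → P i := stepQ 4048 Q4048 (allL N4048 (tt N6717 (iv F7896)) (tt N5004 (iv F5044)) (tt N6723 (iv F7908)) (tt N5586 (iv F5942)) (tt N2093 (iv D4784)))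
theorem Q4050 : ∀ i, i < 4050 → P i := stepQ 4049 Q4049 (allL N4049 (tt N2094 (iv D4785)) (tt N5392 (iv F5622)) (tt N4372 (iv F4116)) (tt N6767 D7661) (tt N5365 (iv F5589)))
theorem Q4051 : ∀ i, i < 4051 → P i := stepQ 4050 Q4050 (allL N4050 (tt N6768 D7662) (tt N2131 F3766) (tt N2095 F3767) (tt N2094 (iv D4786)) (tt N6628 (iv F7715)))
theorem Q4052 : ∀ i, i < 4052 → P i := stepQ 4051 Q4051 (allL N4051 (tt N2095 (iv D4787)) (tt N6102 (iv F6824)) (tt N4374 (iv F4120)) (tt N6769 D7663) (tt N6101 F6823))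
theorem Q4053 : ∀ i, i < 4053 → P i := stepQ 4052 Q4052 (allL N4052 (tt N6770 D7664) (tt N2096 (iv D4789)) (tt N6771 D7665) (tt N6772 D7666) (tt N6773 D7667))
theorem Q4054 : ∀ i, i < 4054 → P i := stepQ 4053 Q4053 (allL N4053 (tt N6482 (iv F7484)) (tt N6774 D7668) (tt N2096 (iv D4790)) (tt N6729 (iv F7918)) (tt N6746 (iv F7931)))
theorem Q4055 : ∀ i, i < 4055 → P i := stepQ 4054 Q4054 (allL N4054 (tt N6573 (iv F7617)) (tt N6772 (iv F7979)) (tt N6729 (iv F7917)) (tt N2096 (iv D4791)) (tt N6764 (iv F7972)))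
theorem Q4056 : ∀ i, i < 4056 → P i := stepQ 4055 Q4055 (allL N4055 (tt N2097 F3769) (tt N6773 (iv F7981)) (tt N6745 (iv F7930)) (tt N6763 (iv F7971)) (tt N2096 (iv D4792)))
theorem Q4057 : ∀ i, i < 4057 → P i := stepQ 4056 Q4056 (allL N4056 (tt N2098 (iv D4797)) (tt N2138 F3770) (tt N6775 D7669) (tt N3159 F3771) (tt N6776 D7670))
theorem Q4058 : ∀ i, i < 4058 → P i := stepQ 4057 Q4057 (allL N4057 (tt N4382 (iv F4133)) (tt N4205 (iv F3932)) (tt N2098 (iv D4798)) (tt N4198 F3928) (tt N4249 (iv F3975)))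
theorem Q4059 : ∀ i, i < 4059 → P i := stepQ 4058 Q4058 (allL N4058 (tt N6776 (iv F7987)) (tt N2100 F3772) (tt N6749 (iv F7943)) (tt N6749 (iv F7944)) (tt N2098 (iv D4799)))
theorem Q4060 : ∀ i, i < 4060 → P i := stepQ 4059 Q4059 (allL N4059 (tt N6777 D7671) (tt N2099 (iv D4800)) (tt N6778 D7672) (tt N6752 (iv F7949)) (tt N6779 D7673))
theorem Q4061 : ∀ i, i < 4061 → P i := stepQ 4060 Q4060 (allL N4060 (tt N6708 (iv F7879)) (tt N6779 (iv F7990)) (tt N6740 (iv F7927)) (tt N6758 (iv F7968)) (tt N2099 (iv D4801)))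
theorem Q4062 : ∀ i, i < 4062 → P i := stepQ 4061 Q4061 (allL N4061 (tt N6681 (iv F7834)) (tt N6780 D7674) (tt N2100 (iv D4802)) (tt N6751 (iv F7947)) (tt N6680 F7833))
theorem Q4063 : ∀ i, i < 4063 → P i := stepQ 4062 Q4062 (allL N4062 (tt N6781 D7675) (tt N6782 D7676) (tt N2101 (iv D4805)) (tt N6783 D7677) (tt N6784 D7678))
theorem Q4064 : ∀ i, i < 4064 → P i := stepQ 4063 Q4063 (allL N4063 (tt N6785 D7679) (tt N6748 (iv F7936)) (tt N6783 (iv F7997)) (tt N2101 (iv D4806)) (tt N3325 F7939))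
theorem Q4065 : ∀ i, i < 4065 → P i := stepQ 4064 Q4064 (allL N4064 (tt N2105 F3773) (tt N5139 (iv F5254)) (tt N3328 F5258) (tt N3327 (iv F5257)) (tt N2102 (iv D4807)))
theorem Q4066 : ∀ i, i < 4066 → P i := stepQ 4065 Q4065 (allL N4065 (tt N3063 F3774) (tt N2105 F3775) (tt N3023 F3776) (tt N3022 F3777) (tt N2103 (iv D4808)))
theorem Q4067 : ∀ i, i < 4067 → P i := stepQ 4066 Q4066 (allL N4066 (tt N2104 (iv D4809)) (tt N4066 F3778) (tt N3182 (iv F4489)) (tt N3181 F4490) (tt N6786 D7680))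
theorem Q4068 : ∀ i, i < 4068 → P i := stepQ 4067 Q4067 (allL N4067 (tt N6786 (iv F8007)) (tt N2970 F3779) (tt N6787 D7681) (tt N6788 D7682) (tt N2104 (iv D4810)))
theorem Q4069 : ∀ i, i < 4069 → P i := stepQ 4068 Q4068 (allL N4068 (tt N3163 F3780) (tt N3278 F3781) (tt N2105 (iv D4811)) (tt N6789 D7683) (tt N6790 D7684))
theorem Q4070 : ∀ i, i < 4070 → P i := stepQ 4069 Q4069 (allL N4069 (tt N6791 D7685) (tt N3022 F3789) (tt N6789 (iv F8018)) (tt N2105 (iv D4812)) (tt N6792 D7686))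
theorem Q4071 : ∀ i, i < 4071 → P i := stepQ 4070 Q4070 (allL N4070 (tt N2107 F3790) (tt N6670 (iv F7803)) (tt N6793 D7687) (tt N6675 (iv F7820)) (tt N2106 (iv D4813)))
theorem Q4072 : ∀ i, i < 4072 → P i := stepQ 4071 Q4071 (allL N4071 (tt N6794 D7688) (tt N6795 D7689) (tt N2107 (iv D4814)) (tt N2139 F3791) (tt N6796 D7690))
theorem Q4073 : ∀ i, i < 4073 → P i := stepQ 4072 Q4072 (allL N4072 (tt N2108 (iv D4815)) (tt N6797 D7691) (tt N3172 F3792) (tt N6798 D7692) (tt N6799 D7693))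
theorem Q4074 : ∀ i, i < 4074 → P i := stepQ 4073 Q4073 (allL N4073 (tt N6800 D7694) (tt N2108 (iv D4816)) (tt N6801 D7695) (tt N6802 D7696) (tt N6803 D7697))
theorem Q4075 : ∀ i, i < 4075 → P i := stepQ 4074 Q4074 (allL N4074 (tt N6804 D7698) (tt N6802 (iv F8052)) (tt N2109 F3793) (tt N2108 (iv D4817)) (tt N6805 D7699))
theorem Q4076 : ∀ i, i < 4076 → P i := stepQ 4075 Q4075 (allL N4075 (tt N6799 (iv F8041)) (tt N6803 (iv F8057)) (tt N6790 (iv F8021)) (tt N6796 F8044) (tt N2108 (iv D4818)))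
theorem Q4077 : ∀ i, i < 4077 → P i := stepQ 4076 Q4076 (allL N4076 (tt N2109 (iv D4819)) (tt N6671 (iv F7806)) (tt N6806 D7700) (tt N3191 F3794) (tt N6807 D7701))
theorem Q4078 : ∀ i, i < 4078 → P i := stepQ 4077 Q4077 (allL N4077 (tt N6807 (iv F8063)) (tt N2120 F3795) (tt N6792 (iv F8027)) (tt N2140 F3796) (tt N2109 (iv D4820)))
theorem Q4079 : ∀ i, i < 4079 → P i := stepQ 4078 Q4078 (allL N4078 (tt N6547 (iv F7579)) (tt N6578 (iv F7631)) (tt N2110 (iv D4821)) (tt N3213 F3797) (tt N6808 D7702))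
theorem Q4080 : ∀ i, i < 4080 → P i := stepQ 4079 Q4079 (allL N4079 (tt N2113 F3798) (tt N5992 (iv F6666)) (tt N6809 D7703) (tt N6023 (iv F6721)) (tt N2110 (iv D4822)))
theorem Q4081 : ∀ i, i < 4081 → P i := stepQ 4080 Q4080 (allL N4080 (tt N6549 (iv F7584)) (tt N2971 F3799) (tt N6810 D7704) (tt N2985 (iv F3800)) (tt N2111 (iv D4823)))
theorem Q4082 : ∀ i, i < 4082 → P i := stepQ 4081 Q4081 (allL N4081 (tt N2470 F3801) (tt N2114 F3802) (tt N3685 (iv F3804)) (tt N2222 (iv F3803)) (tt N2112 (iv D4824)))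
theorem Q4083 : ∀ i, i < 4083 → P i := stepQ 4082 Q4082 (allL N4082 (tt N6550 (iv F7586)) (tt N3571 F3809) (tt N2113 (iv D4825)) (tt N6811 D7705) (tt N6812 D7706))
theorem Q4084 : ∀ i, i < 4084 → P i := stepQ 4083 Q4083 (allL N4083 (tt N2472 F3811) (tt N2115 F3810) (tt N6811 (iv F8070)) (tt N2113 (iv D4826)) (tt N6813 D7707))
theorem Q4085 : ∀ i, i < 4085 → P i := stepQ 4084 Q4084 (allL N4084 (tt N2473 F3814) (tt N6813 (iv F8076)) (tt N2120 F3816) (tt N2143 F3815) (tt N2115 (iv D4827)))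
theorem Q4086 : ∀ i, i < 4086 → P i := stepQ 4085 Q4085 (allL N4085 (tt N4663 (iv F4530)) (tt N2116 (iv D4828)) (tt N6814 D7708) (tt N2141 F3817) (tt N4661 (iv F4527)))
theorem Q4087 : ∀ i, i < 4087 → P i := stepQ 4086 Q4086 (allL N4086 (tt N2475 F3818) (tt N4661 (iv F4526)) (tt N2181 F3819) (tt N2119 F3820) (tt N2116 (iv D4829)))
theorem Q4088 : ∀ i, i < 4088 → P i := stepQ 4087 Q4087 (allL N4087 (tt N2117 (iv D4830)) (tt N6815 D7709) (tt N6816 D7710) (tt N6817 D7711) (tt N6818 D7712))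
theorem Q4089 : ∀ i, i < 4089 → P i := stepQ 4088 Q4088 (allL N4088 (tt N6819 D7713) (tt N6801 (iv F8048)) (tt N2117 (iv D4831)) (tt N6820 D7714) (tt N6821 D7715))
theorem Q4090 : ∀ i, i < 4090 → P i := stepQ 4089 Q4089 (allL N4089 (tt N4670 (iv F4542)) (tt N2118 F3821) (tt N6820 (iv F8097)) (tt N2117 (iv D4832)) (tt N4669 F4541))
theorem Q4091 : ∀ i, i < 4091 → P i := stepQ 4090 Q4090 (allL N4090 (tt N6818 (iv F8093)) (tt N2119 F3822) (tt N6822 D7716) (tt N4661 F4528) (tt N2117 (iv D4833)))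
theorem Q4092 : ∀ i, i < 4092 → P i := stepQ 4091 Q4091 (allL N4091 (tt N2480 F3823) (tt N4669 (iv F4540)) (tt N2180 F3824) (tt N2142 F3825) (tt N2118 (iv D4834)))
theorem Q4093 : ∀ i, i < 4093 → P i := stepQ 4092 Q4092 (allL N4092 (tt N2121 (iv D4835)) (tt N6823 D7717) (tt N6824 D7718) (tt N6825 D7719) (tt N6826 D7720))
theorem Q4094 : ∀ i, i < 4094 → P i := stepQ 4093 Q4093 (allL N4093 (tt N6827 D7721) (tt N6828 D7722) (tt N2121 (iv D4836)) (tt N6829 D7723) (tt N6830 D7724))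
theorem Q4095 : ∀ i, i < 4095 → P i := stepQ 4094 Q4094 (allL N4094 (tt N6831 D7725) (tt N2122 F3826) (tt N6829 (iv F8113)) (tt N2121 (iv D4837)) (tt N6831 (iv F8115)))
theorem Q4096 : ∀ i, i < 4096 → P i := stepQ 4095 Q4095 (allL N4095 (tt N6826 (iv F8110)) (tt N2123 F3827) (tt N6832 D7726) (tt N6833 D7727) (tt N2121 (iv D4838)))
theorem Q4097 : ∀ i, i < 4097 → P i := stepQ 4096 Q4096 (allL N4096 (tt N2485 F3828) (tt N6831 (iv F8114)) (tt N2175 F3829) (tt N2137 F3830) (tt N2122 (iv D4839)))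
theorem Q4098 : ∀ i, i < 4098 → P i := stepQ 4097 Q4097 (allL N4097 (tt N2486 F3831) (tt N6833 (iv F8117)) (tt N2169 F3832) (tt N2123 (iv D4840)) (tt N2136 F3833))
theorem Q4099 : ∀ i, i < 4099 → P i := stepQ 4098 Q4098 (allL N4098 (tt N6823 (iv F8107)) (tt N2124 (iv D4841)) (tt N3887 F3834) (tt N6001 F6686) (tt N3883 (iv F3835)))
theorem Q4100 : ∀ i, i < 4100 → P i := stepQ 4099 Q4099 (allL N4099 (tt N6834 D7728) (tt N6835 D7729) (tt N2124 (iv D4842)) (tt N6836 D7730) (tt N6837 D7731))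
theorem Q4101 : ∀ i, i < 4101 → P i := stepQ 4100 Q4100 (allL N4100 (tt N5999 (iv F6677)) (tt N6001 (iv F6684)) (tt N6836 (iv F8123)) (tt N2124 (iv D4843)) (tt N5999 F6678))
theorem Q4102 : ∀ i, i < 4102 → P i := stepQ 4101 Q4101 (allL N4101 (tt N2127 F3836) (tt N3883 F3837) (tt N6838 D7732) (tt N6005 (iv F6694)) (tt N2124 (iv D4844)))
theorem Q4103 : ∀ i, i < 4103 → P i := stepQ 4102 Q4102 (allL N4102 (tt N2125 (iv D4845)) (tt N6839 D7733) (tt N6840 D7734) (tt N6841 D7735) (tt N6842 D7736))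
theorem Q4104 : ∀ i, i < 4104 → P i := stepQ 4103 Q4103 (allL N4103 (tt N6843 D7737) (tt N6766 (iv F7973)) (tt N2126 F3838) (tt N2125 (iv D4846)) (tt N6844 D7738))
theorem Q4105 : ∀ i, i < 4105 → P i := stepQ 4104 Q4104 (allL N4104 (tt N6842 (iv F8127)) (tt N6617 F7692) (tt N6845 D7739) (tt N2132 F7693) (tt N2125 (iv D4847)))
theorem Q4106 : ∀ i, i < 4106 → P i := stepQ 4105 Q4105 (allL N4105 (tt N2126 (iv D4848)) (tt N2128 F3839) (tt N6846 D7740) (tt N2134 F3840) (tt N2126 F3841))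
theorem Q4107 : ∀ i, i < 4107 → P i := stepQ 4106 Q4106 (allL N4106 (tt N6847 D7741) (tt N6512 F7527) (tt N2127 (iv D4849)) (tt N2129 F3842) (tt N6510 (iv F7529)))
theorem Q4108 : ∀ i, i < 4108 → P i := stepQ 4107 Q4107 (allL N4107 (tt N2129 (iv D4850)) (tt N2244 F3843) (tt N6848 D7742) (tt N6849 D7743) (tt N6514 (iv F7535)))
theorem Q4109 : ∀ i, i < 4109 → P i := stepQ 4108 Q4108 (allL N4108 (tt N2646 F3844) (tt N2130 (iv D4851)) (tt N3922 F3845) (tt N6850 D7744) (tt N6851 D7745))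
theorem Q4110 : ∀ i, i < 4110 → P i := stepQ 4109 Q4109 (allL N4109 (tt N6848 (iv F8132)) (tt N6661 (iv F7778)) (tt N2130 (iv D4852)) (tt N6852 D7746) (tt N6848 (iv F8134)))
theorem Q4111 : ∀ i, i < 4111 → P i := stepQ 4110 Q4110 (allL N4110 (tt N6838 (iv F8125)) (tt N6850 (iv F8137)) (tt N6852 (iv F8144)) (tt N2130 (iv D4853)) (tt N6853 D7747))
theorem Q4112 : ∀ i, i < 4112 → P i := stepQ 4111 Q4111 (allL N4111 (tt N2132 F3846) (tt N6851 (iv F8142)) (tt N5207 (iv F5401)) (tt N6854 D7748) (tt N2130 (iv D4854)))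
theorem Q4113 : ∀ i, i < 4113 → P i := stepQ 4112 Q4112 (allL N4112 (tt N2131 (iv D4855)) (tt N6855 D7749) (tt N6856 D7750) (tt N6857 D7751) (tt N6858 D7752))
theorem Q4114 : ∀ i, i < 4114 → P i := stepQ 4113 Q4113 (allL N4113 (tt N6858 (iv F8146)) (tt N6628 F7716) (tt N6859 D7753) (tt N6844 (iv F8128)) (tt N2131 (iv D4856)))
theorem Q4115 : ∀ i, i < 4115 → P i := stepQ 4114 Q4114 (allL N4114 (tt N5828 (iv F6364)) (tt N4533 (iv F4319)) (tt N2132 (iv D4857)) (tt N6845 (iv F8129)) (tt N5828 (iv F6366)))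
theorem Q4116 : ∀ i, i < 4116 → P i := stepQ 4115 Q4115 (allL N4115 (tt N6860 D7754) (tt N2133 (iv D4859)) (tt N3941 F3847) (tt N6006 (iv F6700)) (tt N6000 F6682))
theorem Q4117 : ∀ i, i < 4117 → P i := stepQ 4116 Q4116 (allL N4116 (tt N6849 (iv F8136)) (tt N6861 D7755) (tt N2133 (iv D4860)) (tt N6862 D7756) (tt N6863 D7757))
theorem Q4118 : ∀ i, i < 4118 → P i := stepQ 4117 Q4117 (allL N4117 (tt N6005 (iv F6695)) (tt N6006 (iv F6698)) (tt N6862 (iv F8149)) (tt N2133 (iv D4861)) (tt N6005 F6696))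
theorem Q4119 : ∀ i, i < 4119 → P i := stepQ 4118 Q4118 (allL N4118 (tt N2134 F3848) (tt N6000 (iv F6680)) (tt N6864 D7758) (tt N5999 F6679) (tt N2133 (iv D4862)))
theorem Q4120 : ∀ i, i < 4120 → P i := stepQ 4119 Q4119 (allL N4119 (tt N6865 D7759) (tt N6517 F7558) (tt N2134 (iv D4863)) (tt N6846 (iv F8130)) (tt N6515 (iv F7559)))
theorem Q4121 : ∀ i, i < 4121 → P i := stepQ 4120 Q4120 (allL N4120 (tt N2135 (iv D4864)) (tt N6860 (iv F8147)) (tt N6866 D7760) (tt N6867 D7761) (tt N6868 D7762))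
theorem Q4122 : ∀ i, i < 4122 → P i := stepQ 4121 Q4121 (allL N4121 (tt N6869 D7763) (tt N6870 D7764) (tt N2135 (iv D4865)) (tt N6871 D7765) (tt N6872 D7766))
theorem Q4123 : ∀ i, i < 4123 → P i := stepQ 4122 Q4122 (allL N4122 (tt N6833 (iv F8119)) (tt N2136 F3849) (tt N6871 (iv F8152)) (tt N2135 (iv D4866)) (tt N6833 (iv F8118)))
theorem Q4124 : ∀ i, i < 4124 → P i := stepQ 4123 Q4123 (allL N4123 (tt N6868 (iv F8150)) (tt N2137 F3850) (tt N6873 D7767) (tt N6831 F8116) (tt N2135 (iv D4867)))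
theorem Q4125 : ∀ i, i < 4125 → P i := stepQ 4124 Q4124 (allL N4124 (tt N6874 D7768) (tt N6875 D7769) (tt N2138 (iv D4868)) (tt N3160 F3851) (tt N6876 D7770))
theorem Q4126 : ∀ i, i < 4126 → P i := stepQ 4125 Q4125 (allL N4125 (tt N2140 F3852) (tt N6776 (iv F7988)) (tt N3169 F7940) (tt N3325 F7941) (tt N2138 (iv D4869)))
theorem Q4127 : ∀ i, i < 4127 → P i := stepQ 4126 Q4126 (allL N4126 (tt N2139 (iv D4870)) (tt N6877 D7771) (tt N3174 F6012) (tt N3173 (iv F6011)) (tt N6878 D7772))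
theorem Q4128 : ∀ i, i < 4128 → P i := stepQ 4127 Q4127 (allL N4127 (tt N6879 D7773) (tt N2139 (iv D4871)) (tt N6880 D7774) (tt N6795 (iv F8031)) (tt N6881 D7775))
theorem Q4129 : ∀ i, i < 4129 → P i := stepQ 4128 Q4128 (allL N4128 (tt N6878 (iv F8159)) (tt N6881 (iv F8170)) (tt N6882 D7776) (tt N6805 (iv F8061)) (tt N2139 (iv D4872)))
theorem Q4130 : ∀ i, i < 4130 → P i := stepQ 4129 Q4129 (allL N4129 (tt N6883 D7777) (tt N6884 D7778) (tt N2140 (iv D4873)) (tt N6792 (iv F8026)) (tt N6788 F8015))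
theorem Q4131 : ∀ i, i < 4131 → P i := stepQ 4130 Q4130 (allL N4130 (tt N2141 (iv D4874)) (tt N6885 D7779) (tt N6886 D7780) (tt N6887 D7781) (tt N6888 D7782))
theorem Q4132 : ∀ i, i < 4132 → P i := stepQ 4131 Q4131 (allL N4131 (tt N6889 D7783) (tt N6880 (iv F8165)) (tt N2141 (iv D4875)) (tt N6814 (iv F8080)) (tt N6890 D7784))
theorem Q4133 : ∀ i, i < 4133 → P i := stepQ 4132 Q4132 (allL N4132 (tt N6888 (iv F8189)) (tt N2142 F3853) (tt N6891 D7785) (tt N4669 (iv F4539)) (tt N2141 (iv D4876)))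
theorem Q4134 : ∀ i, i < 4134 → P i := stepQ 4133 Q4133 (allL N4133 (tt N6892 D7786) (tt N2143 (iv D4877)) (tt N6893 D7787) (tt N6813 (iv F8077)) (tt N2222 F3854))
theorem Q4135 : ∀ i, i < 4135 → P i := stepQ 4134 Q4134 (allL N4134 (tt N2150 F3855) (tt N3856 F3857) (tt N2144 (iv D4878)) (tt N2988 F3856) (tt N6894 D7788))
theorem Q4136 : ∀ i, i < 4136 → P i := stepQ 4135 Q4135 (allL N4135 (tt N2146 F3858) (tt N3162 F3859) (tt N6895 D7789) (tt N3025 F3860) (tt N2144 (iv D4879)))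
theorem Q4137 : ∀ i, i < 4137 → P i := stepQ 4136 Q4136 (allL N4136 (tt N2754 F3861) (tt N6048 (iv F6756)) (tt N6896 D7790) (tt N6061 (iv F6771)) (tt N2145 (iv D4880)))
theorem Q4138 : ∀ i, i < 4138 → P i := stepQ 4137 Q4137 (allL N4137 (tt N2152 F3862) (tt N6897 D7791) (tt N2146 (iv D4881)) (tt N6898 D7792) (tt N6899 D7793))
theorem Q4139 : ∀ i, i < 4139 → P i := stepQ 4138 Q4138 (allL N4138 (tt N2774 F3863) (tt N6050 (iv F6760)) (tt N6898 (iv F8214)) (tt N2146 (iv D4882)) (tt N6900 D7794))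
theorem Q4140 : ∀ i, i < 4140 → P i := stepQ 4139 Q4139 (allL N4139 (tt N3625 F3998) (tt N6119 (iv F6841)) (tt N2147 (iv D4883)) (tt N2223 F3864) (tt N6901 D7795))
theorem Q4141 : ∀ i, i < 4141 → P i := stepQ 4140 Q4140 (allL N4140 (tt N2148 (iv D4884)) (tt N3533 F3865) (tt N6894 (iv F8203)) (tt N4150 (iv F3881)) (tt N6902 D7796))
theorem Q4142 : ∀ i, i < 4142 → P i := stepQ 4141 Q4141 (allL N4141 (tt N4148 (iv F3879)) (tt N6143 (iv F6870)) (tt N2149 F3869) (tt N2148 (iv D4885)) (tt N6903 D7797))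
theorem Q4143 : ∀ i, i < 4143 → P i := stepQ 4142 Q4142 (allL N4142 (tt N6902 (iv F8224)) (tt N6144 (iv F6872)) (tt N6899 (iv F8218)) (tt N6901 F8223) (tt N2148 (iv D4886)))
theorem Q4144 : ∀ i, i < 4144 → P i := stepQ 4143 Q4143 (allL N4143 (tt N4143 F3870) (tt N3379 F3871) (tt N6900 (iv F8221)) (tt N2224 F3872) (tt N2149 (iv D4887)))
theorem Q4145 : ∀ i, i < 4145 → P i := stepQ 4144 Q4144 (allL N4144 (tt N6894 (iv F8201)) (tt N2857 F3873) (tt N2153 F3874) (tt N6904 D7798) (tt N2150 (iv D4888)))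
theorem Q4146 : ∀ i, i < 4146 → P i := stepQ 4145 Q4145 (allL N4145 (tt N6895 (iv F8204)) (tt N2902 F3875) (tt N2151 (iv D4889)) (tt N5114 (iv F5210)) (tt N6905 D7799))
theorem Q4147 : ∀ i, i < 4147 → P i := stepQ 4146 Q4146 (allL N4146 (tt N6899 (iv F8216)) (tt N3284 F3876) (tt N2155 F3877) (tt N5408 F5645) (tt N2152 (iv D4890)))
theorem Q4148 : ∀ i, i < 4148 → P i := stepQ 4147 Q4147 (allL N4147 (tt N3501 F3878) (tt N2153 (iv D4891)) (tt N6906 D7800) (tt N6286 (iv F7168)) (tt N6314 (iv F7217)))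
theorem Q4149 : ∀ i, i < 4149 → P i := stepQ 4148 Q4148 (allL N4148 (tt N4141 F3879) (tt N6286 (iv F7167)) (tt N6904 (iv F8230)) (tt N2153 (iv D4892)) (tt N6324 (iv F7227)))
theorem Q4150 : ∀ i, i < 4150 → P i := stepQ 4149 Q4149 (allL N4149 (tt N2155 F3880) (tt N6314 (iv F7216)) (tt N6905 (iv F8233)) (tt N6308 (iv F7208)) (tt N2153 (iv D4893)))
theorem Q4151 : ∀ i, i < 4151 → P i := stepQ 4150 Q4150 (allL N4150 (tt N2154 (iv D4894)) (tt N6175 (iv F6910)) (tt N6907 D7801) (tt N4140 F3881) (tt N6399 (iv F7342)))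
theorem Q4152 : ∀ i, i < 4152 → P i := stepQ 4151 Q4151 (allL N4151 (tt N2396 F3882) (tt N2159 F3883) (tt N2157 (iv D4895)) (tt N2157 (iv F3884)) (tt N6908 D7802))
theorem Q4153 : ∀ i, i < 4153 → P i := stepQ 4152 Q4152 (allL N4152 (tt N2271 F3885) (tt N2160 F3886) (tt N6909 D7803) (tt N6910 D7804) (tt N2157 (iv D4896)))
theorem Q4154 : ∀ i, i < 4154 → P i := stepQ 4153 Q4153 (allL N4153 (tt N2158 (iv D4897)) (tt N6547 (iv F7580)) (tt N5628 (iv F6020)) (tt N6911 D7805) (tt N6912 D7806))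
theorem Q4155 : ∀ i, i < 4155 → P i := stepQ 4154 Q4154 (allL N4154 (tt N4551 (iv F4343)) (tt N2158 (iv D4898)) (tt N5550 (iv F5895)) (tt N5550 (iv F5896)) (tt N6913 D7807))
theorem Q4156 : ∀ i, i < 4156 → P i := stepQ 4155 Q4155 (allL N4155 (tt N4387 (iv F4140)) (tt N5550 (iv F5894)) (tt N2159 F3887) (tt N2158 (iv D4899)) (tt N6914 D7808))
theorem Q4157 : ∀ i, i < 4157 → P i := stepQ 4156 Q4156 (allL N4156 (tt N6912 (iv F8249)) (tt N6913 (iv F8250)) (tt N6915 D7809) (tt N6916 D7810) (tt N2158 (iv D4900)))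
theorem Q4158 : ∀ i, i < 4158 → P i := stepQ 4157 Q4157 (allL N4157 (tt N6567 (iv F7600)) (tt N6908 (iv F8242)) (tt N6917 D7811) (tt N2322 F3888) (tt N2159 (iv D4901)))
theorem Q4159 : ∀ i, i < 4159 → P i := stepQ 4158 Q4158 (allL N4158 (tt N6918 D7812) (tt N6919 D7813) (tt N2160 (iv D4902)) (tt N6920 D7814) (tt N6921 D7815))
theorem Q4160 : ∀ i, i < 4160 → P i := stepQ 4159 Q4159 (allL N4159 (tt N6922 D7816) (tt N6910 (iv F8246)) (tt N6920 (iv F8253)) (tt N2160 (iv D4903)) (tt N6923 D7817))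
theorem Q4161 : ∀ i, i < 4161 → P i := stepQ 4160 Q4160 (allL N4160 (tt N2162 F3889) (tt N4016 F3890) (tt N6924 D7818) (tt N4024 (iv F3891)) (tt N2161 (iv D4904)))
theorem Q4162 : ∀ i, i < 4162 → P i := stepQ 4161 Q4161 (allL N4161 (tt N6915 (iv F8251)) (tt N6925 D7819) (tt N2162 (iv D4905)) (tt N5485 (iv F5811)) (tt N6926 D7820))
theorem Q4163 : ∀ i, i < 4163 → P i := stepQ 4162 Q4162 (allL N4162 (tt N2325 F3892) (tt N2163 (iv D4906)) (tt N4162 F3893) (tt N2232 (iv F3894)) (tt N6927 D7821))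
theorem Q4164 : ∀ i, i < 4164 → P i := stepQ 4163 Q4163 (allL N4163 (tt N6911 (iv F8248)) (tt N2957 F3895) (tt N2163 (iv D4907)) (tt N6928 D7822) (tt N6929 D7823))
theorem Q4165 : ∀ i, i < 4165 → P i := stepQ 4164 Q4164 (allL N4164 (tt N3364 F3896) (tt N2232 F3897) (tt N6928 (iv F8267)) (tt N2163 (iv D4908)) (tt N6930 D7824))
theorem Q4166 : ∀ i, i < 4166 → P i := stepQ 4165 Q4165 (allL N4165 (tt N2164 F3898) (tt N6927 (iv F8263)) (tt N6931 D7825) (tt N6932 D7826) (tt N2163 (iv D4909)))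
theorem Q4167 : ∀ i, i < 4167 → P i := stepQ 4166 Q4166 (allL N4166 (tt N6933 D7827) (tt N4586 (iv F4383)) (tt N2164 (iv D4910)) (tt N2323 F3899) (tt N6385 (iv F7322)))
theorem Q4168 : ∀ i, i < 4168 → P i := stepQ 4167 Q4167 (allL N4167 (tt N2165 (iv D4911)) (tt N6934 D7828) (tt N6728 (iv F7914)) (tt N6935 D7829) (tt N6936 D7830))
theorem Q4169 : ∀ i, i < 4169 → P i := stepQ 4168 Q4168 (allL N4168 (tt N4573 (iv F4357)) (tt N2165 (iv D4912)) (tt N6828 (iv F8112)) (tt N6401 (iv F7347)) (tt N6241 F7050))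
theorem Q4170 : ∀ i, i < 4170 → P i := stepQ 4169 Q4169 (allL N4169 (tt N6937 D7831) (tt N6401 (iv F7346)) (tt N2166 F3900) (tt N2165 (iv D4913)) (tt N6400 F7344))
theorem Q4171 : ∀ i, i < 4171 → P i := stepQ 4170 Q4170 (allL N4170 (tt N6936 (iv F8274)) (tt N6241 (iv F7051)) (tt N6926 (iv F8261)) (tt N6385 (iv F7321)) (tt N2165 (iv D4914)))
theorem Q4172 : ∀ i, i < 4172 → P i := stepQ 4171 Q4171 (allL N4171 (tt N2166 (iv D4915)) (tt N6938 D7832) (tt N6939 D7833) (tt N6930 (iv F8271)) (tt N6940 D7834))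
theorem Q4173 : ∀ i, i < 4173 → P i := stepQ 4172 Q4172 (allL N4172 (tt N6940 (iv F8277)) (tt N2167 F3901) (tt N5460 (iv F5715)) (tt N2231 F3902) (tt N2166 (iv D4916)))
theorem Q4174 : ∀ i, i < 4174 → P i := stepQ 4173 Q4173 (allL N4173 (tt N2168 (iv D4917)) (tt N6941 D7835) (tt N6942 D7836) (tt N6943 D7837) (tt N6944 D7838))
theorem Q4175 : ∀ i, i < 4175 → P i := stepQ 4174 Q4174 (allL N4174 (tt N6944 (iv F8284)) (tt N2169 F3903) (tt N5421 F5665) (tt N2174 (iv F3904)) (tt N2168 (iv D4918)))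
theorem Q4176 : ∀ i, i < 4176 → P i := stepQ 4175 Q4175 (allL N4175 (tt N2170 (iv D4919)) (tt N6945 D7839) (tt N6595 (iv F7653)) (tt N3421 F3906) (tt N2663 F3905))
theorem Q4177 : ∀ i, i < 4177 → P i := stepQ 4176 Q4176 (allL N4176 (tt N6946 D7840) (tt N6947 D7841) (tt N2170 (iv D4920)) (tt N2639 F3907) (tt N2654 F6369))
theorem Q4178 : ∀ i, i < 4178 → P i := stepQ 4177 Q4177 (allL N4177 (tt N6945 (iv F8285)) (tt N2171 (iv D4921)) (tt N6948 D7842) (tt N6948 F8299) (tt N6949 D7843))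
theorem Q4179 : ∀ i, i < 4179 → P i := stepQ 4178 Q4178 (allL N4178 (tt N6950 D7844) (tt N6951 D7845) (tt N2171 (iv D4922)) (tt N6952 D7846) (tt N6953 D7847))
theorem Q4180 : ∀ i, i < 4180 → P i := stepQ 4179 Q4179 (allL N4179 (tt N6569 (iv F7606)) (tt N6948 (iv F8297)) (tt N6952 (iv F8303)) (tt N2171 (iv D4923)) (tt N6954 D7848))
theorem Q4181 : ∀ i, i < 4181 → P i := stepQ 4180 Q4180 (allL N4180 (tt N2174 F3908) (tt N6949 (iv F8301)) (tt N6955 D7849) (tt N6956 D7850) (tt N2171 (iv D4924)))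
theorem Q4182 : ∀ i, i < 4182 → P i := stepQ 4181 Q4181 (allL N4181 (tt N2172 (iv D4925)) (tt N4208 F7626) (tt N6957 D7851) (tt N4206 (iv F7627)) (tt N6958 D7852))
theorem Q4183 : ∀ i, i < 4183 → P i := stepQ 4182 Q4182 (allL N4182 (tt N6959 D7853) (tt N6239 (iv F7040)) (tt N2173 F3909) (tt N2172 (iv D4926)) (tt N6405 (iv F7358)))
theorem Q4184 : ∀ i, i < 4184 → P i := stepQ 4183 Q4183 (allL N4183 (tt N6958 (iv F8307)) (tt N6240 (iv F7046)) (tt N6960 D7854) (tt N6384 F7320) (tt N2172 (iv D4927)))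
theorem Q4185 : ∀ i, i < 4185 → P i := stepQ 4184 Q4184 (allL N4184 (tt N2173 (iv D4928)) (tt N6961 D7855) (tt N6962 D7856) (tt N6963 D7857) (tt N6964 D7858))
theorem Q4186 : ∀ i, i < 4186 → P i := stepQ 4185 Q4185 (allL N4185 (tt N6964 (iv F8314)) (tt N2175 F3910) (tt N5459 F5714) (tt N2230 F3911) (tt N2173 (iv D4929)))
theorem Q4187 : ∀ i, i < 4187 → P i := stepQ 4186 Q4186 (allL N4186 (tt N6772 (iv F7980)) (tt N5416 (iv F5658)) (tt N2174 (iv D4930)) (tt N5421 F5664) (tt N5415 F5659))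
theorem Q4188 : ∀ i, i < 4188 → P i := stepQ 4187 Q4187 (allL N4187 (tt N2182 F3912) (tt N2176 (iv D4931)) (tt N4864 (iv F4787)) (tt N3531 F3913) (tt N6965 D7859))
theorem Q4189 : ∀ i, i < 4189 → P i := stepQ 4188 Q4188 (allL N4188 (tt N2179 F3914) (tt N6965 (iv F8316)) (tt N6966 D7860) (tt N3746 (iv F3922)) (tt N2176 (iv D4932)))
theorem Q4190 : ∀ i, i < 4190 → P i := stepQ 4189 Q4189 (allL N4189 (tt N2177 (iv D4933)) (tt N6967 D7861) (tt N3539 F6610) (tt N3538 (iv F6609)) (tt N6968 D7862))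
theorem Q4191 : ∀ i, i < 4191 → P i := stepQ 4190 Q4190 (allL N4190 (tt N3588 F3916) (tt N2177 (iv D4934)) (tt N3571 F3915) (tt N6969 D7863) (tt N6970 D7864))
theorem Q4192 : ∀ i, i < 4192 → P i := stepQ 4191 Q4191 (allL N4191 (tt N6971 D7865) (tt N6969 (iv F8324)) (tt N2178 F3917) (tt N2177 (iv D4935)) (tt N6972 D7866))
theorem Q4193 : ∀ i, i < 4193 → P i := stepQ 4192 Q4192 (allL N4192 (tt N6968 (iv F8322)) (tt N6970 (iv F8328)) (tt N6973 D7867) (tt N6974 D7868) (tt N2177 (iv D4936)))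
theorem Q4194 : ∀ i, i < 4194 → P i := stepQ 4193 Q4193 (allL N4193 (tt N2178 (iv D4937)) (tt N6975 D7869) (tt N3550 (iv F6614)) (tt N3549 F6613) (tt N6976 D7870))
theorem Q4195 : ∀ i, i < 4195 → P i := stepQ 4194 Q4194 (allL N4194 (tt N6976 (iv F8343)) (tt N2180 F3918) (tt N6977 D7871) (tt N2221 (iv F3919)) (tt N2178 (iv D4938)))
theorem Q4196 : ∀ i, i < 4196 → P i := stepQ 4195 Q4195 (allL N4195 (tt N6978 D7872) (tt N6979 D7873) (tt N2179 (iv D4939)) (tt N6980 D7874) (tt N6981 D7875))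
theorem Q4197 : ∀ i, i < 4197 → P i := stepQ 4196 Q4196 (allL N4196 (tt N6982 D7876) (tt N2181 F3920) (tt N6980 (iv F8356)) (tt N2179 (iv D4940)) (tt N2220 F3921))
theorem Q4198 : ∀ i, i < 4198 → P i := stepQ 4197 Q4197 (allL N4197 (tt N6983 D7877) (tt N2184 F3923) (tt N2182 (iv D4941)) (tt N2182 (iv F3925)) (tt N4029 F3924))
theorem Q4199 : ∀ i, i < 4199 → P i := stepQ 4198 Q4198 (allL N4198 (tt N6965 (iv F8315)) (tt N2185 F3926) (tt N4028 F3927) (tt N4057 (iv F3928)) (tt N2182 (iv D4942)))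
theorem Q4200 : ∀ i, i < 4200 → P i := stepQ 4199 Q4199 (allL N4199 (tt N2183 (iv D4943)) (tt N2858 (iv F4154)) (tt N6984 D7878) (tt N6985 D7879) (tt N6986 D7880))
theorem Q4201 : ∀ i, i < 4201 → P i := stepQ 4200 Q4200 (allL N4200 (tt N6136 (iv F6862)) (tt N2183 (iv D4944)) (tt N6230 (iv F7023)) (tt N6230 (iv F7022)) (tt N6987 D7881))
theorem Q4202 : ∀ i, i < 4202 → P i := stepQ 4201 Q4201 (allL N4201 (tt N6988 D7882) (tt N6230 F7024) (tt N2184 F3929) (tt N2183 (iv D4945)) (tt N6989 D7883))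
theorem Q4203 : ∀ i, i < 4203 → P i := stepQ 4202 Q4202 (allL N4202 (tt N6986 (iv F8371)) (tt N6987 (iv F8374)) (tt N6990 D7884) (tt N6991 D7885) (tt N2183 (iv D4946)))
theorem Q4204 : ∀ i, i < 4204 → P i := stepQ 4203 Q4203 (allL N4203 (tt N6577 (iv F7628)) (tt N4029 F3930) (tt N6992 D7886) (tt N2216 F3931) (tt N2184 (iv D4947)))
theorem Q4205 : ∀ i, i < 4205 → P i := stepQ 4204 Q4204 (allL N4204 (tt N6993 D7887) (tt N6994 D7888) (tt N2185 (iv D4948)) (tt N6995 D7889) (tt N6996 D7890))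
theorem Q4206 : ∀ i, i < 4206 → P i := stepQ 4205 Q4205 (allL N4205 (tt N6644 (iv F7748)) (tt N4057 F3932) (tt N6995 (iv F8389)) (tt N2185 (iv D4949)) (tt N2215 F3933))
theorem Q4207 : ∀ i, i < 4207 → P i := stepQ 4206 Q4206 (allL N4206 (tt N6997 D7891) (tt N2186 (iv D4950)) (tt N6998 D7892) (tt N4181 F7627) (tt N6999 D7893))
theorem Q4208 : ∀ i, i < 4208 → P i := stepQ 4207 Q4207 (allL N4207 (tt N6984 (iv F8366)) (tt N6957 (iv F8368)) (tt N2186 (iv D4951)) (tt N7000 D7894) (tt N7001 D7895))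
theorem Q4209 : ∀ i, i < 4209 → P i := stepQ 4208 Q4208 (allL N4208 (tt N6576 (iv F7625)) (tt N4181 (iv F7626)) (tt N7000 (iv F8396)) (tt N2186 (iv D4952)) (tt N7002 D7896))
theorem Q4210 : ∀ i, i < 4210 → P i := stepQ 4209 Q4209 (allL N4209 (tt N2188 F3934) (tt N6999 (iv F8394)) (tt N7003 D7897) (tt N7004 D7898) (tt N2186 (iv D4953)))
theorem Q4211 : ∀ i, i < 4211 → P i := stepQ 4210 Q4210 (allL N4210 (tt N2187 (iv D4954)) (tt N2629 F7008) (tt N7005 D7899) (tt N7006 D7900) (tt N7007 D7901))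
theorem Q4212 : ∀ i, i < 4212 → P i := stepQ 4211 Q4211 (allL N4211 (tt N7007 (iv F8406)) (tt N6616 (iv F7688)) (tt N7008 D7902) (tt N2211 F7106) (tt N2187 (iv D4955)))
theorem Q4213 : ∀ i, i < 4213 → P i := stepQ 4212 Q4212 (allL N4212 (tt N6990 (iv F8379)) (tt N5837 (iv F7156)) (tt N2188 (iv D4956)) (tt N2212 F7104) (tt N5836 F7155))
theorem Q4214 : ∀ i, i < 4214 → P i := stepQ 4213 Q4213 (allL N4213 (tt N6283 (iv F7160)) (tt N2189 (iv D4958)) (tt N4213 F3935) (tt N6674 (iv F7815)) (tt N6672 F7809))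
theorem Q4215 : ∀ i, i < 4215 → P i := stepQ 4214 Q4214 (allL N4214 (tt N6985 (iv F8370)) (tt N6274 (iv F7136)) (tt N2189 (iv D4959)) (tt N7009 D7903) (tt N7010 D7904))
theorem Q4216 : ∀ i, i < 4216 → P i := stepQ 4215 Q4215 (allL N4215 (tt N3434 F3936) (tt N6674 (iv F7813)) (tt N7009 (iv F8410)) (tt N2189 (iv D4960)) (tt N2206 F3937))
theorem Q4217 : ∀ i, i < 4217 → P i := stepQ 4216 Q4216 (allL N4216 (tt N2190 F3938) (tt N6672 (iv F7807)) (tt N7011 D7905) (tt N2204 F3939) (tt N2189 (iv D4961)))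
theorem Q4218 : ∀ i, i < 4218 → P i := stepQ 4217 Q4217 (allL N4217 (tt N4577 (iv F8525)) (tt N6527 (iv F7552)) (tt N2190 (iv D4962)) (tt N2217 F3940) (tt N6526 (iv F7553)))
theorem Q4219 : ∀ i, i < 4219 → P i := stepQ 4218 Q4218 (allL N4218 (tt N2191 (iv D4963)) (tt N7012 D7907) (tt N7001 (iv F8398)) (tt N7013 D7908) (tt N6525 (iv F7549)))
theorem Q4220 : ∀ i, i < 4220 → P i := stepQ 4219 Q4219 (allL N4219 (tt N6289 (iv F7172)) (tt N6225 (iv F7003)) (tt N2192 (iv D4965)) (tt N2593 F3941) (tt N7014 D7909))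
theorem Q4221 : ∀ i, i < 4221 → P i := stepQ 4220 Q4220 (allL N4220 (tt N6285 (iv F7165)) (tt N2193 F3942) (tt N7015 D7910) (tt N2196 F3943) (tt N2192 (iv D4966)))
theorem Q4222 : ∀ i, i < 4222 → P i := stepQ 4221 Q4221 (allL N4221 (tt N6336 (iv F7247)) (tt N6368 (iv F7296)) (tt N6351 (iv F7277)) (tt N7014 (iv F8417)) (tt N2194 (iv D4967)))
theorem Q4223 : ∀ i, i < 4223 → P i := stepQ 4222 Q4222 (allL N4222 (tt N6360 (iv F7284)) (tt N6226 F7013) (tt N6318 (iv F7219)) (tt N2195 (iv D4968)) (tt N2593 F7014))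
theorem Q4224 : ∀ i, i < 4224 → P i := stepQ 4223 Q4223 (allL N4223 (tt N6338 (iv F7250)) (tt N5344 (iv F6500)) (tt N2196 (iv D4969)) (tt N7015 (iv F8418)) (tt N5343 F6502))
theorem Q4225 : ∀ i, i < 4225 → P i := stepQ 4224 Q4224 (allL N4224 (tt N5646 (iv F6037)) (tt N5340 F5553) (tt N2198 F3944) (tt N2197 (iv D4970)) (tt N5338 (iv F5554)))
theorem Q4226 : ∀ i, i < 4226 → P i := stepQ 4225 Q4225 (allL N4225 (tt N2198 (iv D4971)) (tt N7016 D7911) (tt N6343 (iv F7259)) (tt N6348 (iv F7273)) (tt N2592 F3945))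
theorem Q4227 : ∀ i, i < 4227 → P i := stepQ 4226 Q4226 (allL N4226 (tt N2199 (iv D4972)) (tt N3759 (iv F3962)) (tt N2664 F3946) (tt N7017 D7912) (tt N4436 (iv F4186)))
theorem Q4228 : ∀ i, i < 4228 → P i := stepQ 4227 Q4227 (allL N4227 (tt N2214 F3948) (tt N2860 F3947) (tt N6621 (iv F7700)) (tt N2200 (iv D4973)) (tt N7018 D7913))
theorem Q4229 : ∀ i, i < 4229 → P i := stepQ 4228 Q4228 (allL N4228 (tt N2202 F3949) (tt N2861 F3950) (tt N4508 (iv F4283)) (tt N6986 F8373) (tt N2200 (iv D4974)))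
theorem Q4230 : ∀ i, i < 4230 → P i := stepQ 4229 Q4229 (allL N4229 (tt N2201 (iv D4975)) (tt N5716 (iv F6159)) (tt N7019 D7914) (tt N7020 D7915) (tt N7021 D7916))
theorem Q4231 : ∀ i, i < 4231 → P i := stepQ 4230 Q4230 (allL N4230 (tt N7021 (iv F8434)) (tt N5348 F6161) (tt N7022 D7917) (tt N7010 (iv F8412)) (tt N2201 (iv D4976)))
theorem Q4232 : ∀ i, i < 4232 → P i := stepQ 4231 Q4231 (allL N4231 (tt N2212 F3951) (tt N6690 (iv F7853)) (tt N2202 (iv D4977)) (tt N7023 D7918) (tt N5839 (iv F6384)))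
theorem Q4233 : ∀ i, i < 4233 → P i := stepQ 4232 Q4232 (allL N4232 (tt N7024 D7919) (tt N5350 (iv F5572)) (tt N7023 (iv F8435)) (tt N2202 (iv D4978)) (tt N7009 (iv F8411)))
theorem Q4234 : ∀ i, i < 4234 → P i := stepQ 4233 Q4233 (allL N4233 (tt N2208 F3952) (tt N6593 (iv F7647)) (tt N2203 (iv D4979)) (tt N6643 (iv F7744)) (tt N7025 D7920))
theorem Q4235 : ∀ i, i < 4235 → P i := stepQ 4234 Q4234 (allL N4234 (tt N2204 F3953) (tt N3417 F3954) (tt N7026 D7921) (tt N6577 (iv F7630)) (tt N2203 (iv D4980)))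
theorem Q4236 : ∀ i, i < 4236 → P i := stepQ 4235 Q4235 (allL N4235 (tt N7027 D7922) (tt N6704 (iv F7872)) (tt N2204 (iv D4981)) (tt N7011 (iv F8413)) (tt N7028 D7923))
theorem Q4237 : ∀ i, i < 4237 → P i := stepQ 4236 Q4236 (allL N4236 (tt N2205 (iv D4982)) (tt N3963 F3955) (tt N4579 (iv F4367)) (tt N6993 (iv F8384)) (tt N5284 (iv F5477)))
theorem Q4238 : ∀ i, i < 4238 → P i := stepQ 4237 Q4237 (allL N4237 (tt N7029 D7924) (tt N6709 (iv F7880)) (tt N2206 F3956) (tt N2205 (iv D4983)) (tt N7030 D7925))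
theorem Q4239 : ∀ i, i < 4239 → P i := stepQ 4238 Q4238 (allL N4238 (tt N5284 (iv F5475)) (tt N3704 F3957) (tt N5839 (iv F6383)) (tt N7028 (iv F11721)) (tt N2205 (iv D4984)))
theorem Q4240 : ∀ i, i < 4240 → P i := stepQ 4239 Q4239 (allL N4239 (tt N2206 (iv D4985)) (tt N3435 (iv F3959)) (tt N4581 (iv F4370)) (tt N6644 (iv F7750)) (tt N3434 F3958))
theorem Q4241 : ∀ i, i < 4241 → P i := stepQ 4240 Q4240 (allL N4240 (tt N7019 (iv F8428)) (tt N2679 F3960) (tt N2208 F3961) (tt N2207 (iv D4986)) (tt N7031 D7927))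
theorem Q4242 : ∀ i, i < 4242 → P i := stepQ 4241 Q4241 (allL N4241 (tt N7025 (iv F8436)) (tt N2681 F3968) (tt N4504 (iv F5006)) (tt N7007 (iv F8408)) (tt N2208 (iv D4987)))
theorem Q4243 : ∀ i, i < 4243 → P i := stepQ 4242 Q4242 (allL N4242 (tt N7032 D7928) (tt N2683 F3969) (tt N4509 (iv F4286)) (tt N2209 (iv D4988)) (tt N7006 (iv F8405)))
theorem Q4244 : ∀ i, i < 4244 → P i := stepQ 4243 Q4243 (allL N4243 (tt N7033 D7929) (tt N2210 (iv D4989)) (tt N7034 D7930) (tt N4276 (iv F7747)) (tt N7035 D7931))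
theorem Q4245 : ∀ i, i < 4245 → P i := stepQ 4244 Q4244 (allL N4244 (tt N6621 (iv F7701)) (tt N7036 D7932) (tt N2210 (iv D4990)) (tt N7037 D7933) (tt N7038 D7934))
theorem Q4246 : ∀ i, i < 4246 → P i := stepQ 4245 Q4245 (allL N4245 (tt N6643 (iv F7745)) (tt N4276 F7746) (tt N7037 (iv F8449)) (tt N2210 (iv D4991)) (tt N7004 (iv F8401)))
theorem Q4247 : ∀ i, i < 4247 → P i := stepQ 4246 Q4246 (allL N4246 (tt N2211 F3970) (tt N7035 (iv F8443)) (tt N7039 D7935) (tt N7002 (iv F8400)) (tt N2210 (iv D4992)))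
theorem Q4248 : ∀ i, i < 4248 → P i := stepQ 4247 Q4247 (allL N4247 (tt N7040 D7936) (tt N5842 (iv F7557)) (tt N2211 (iv D4993)) (tt N7008 (iv F8409)) (tt N5840 F7556))
theorem Q4249 : ∀ i, i < 4249 → P i := stepQ 4248 Q4248 (allL N4248 (tt N2213 (iv D4998)) (tt N2218 F3972) (tt N4996 (iv F5027)) (tt N3745 (iv F3973)) (tt N7041 D7937))
theorem Q4250 : ∀ i, i < 4250 → P i := stepQ 4249 Q4249 (allL N4249 (tt N4953 (iv F4953)) (tt N2215 F3974) (tt N2213 (iv D4999)) (tt N2213 (iv F3976)) (tt N4057 F3975))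
theorem Q4251 : ∀ i, i < 4251 → P i := stepQ 4250 Q4250 (allL N4250 (tt N7041 (iv F8452)) (tt N2216 F3977) (tt N4030 (iv F3979)) (tt N4029 F3978) (tt N2213 (iv D5000)))
theorem Q4252 : ∀ i, i < 4252 → P i := stepQ 4251 Q4251 (allL N4251 (tt N6463 (iv F7460)) (tt N2214 (iv D5001)) (tt N6421 (iv F7393)) (tt N6421 (iv F7394)) (tt N7042 D7938))
theorem Q4253 : ∀ i, i < 4253 → P i := stepQ 4252 Q4252 (allL N4252 (tt N7020 (iv F8431)) (tt N6421 (iv F7392)) (tt N2215 F3980) (tt N2214 (iv D5002)) (tt N6991 (iv F8380)))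
theorem Q4254 : ∀ i, i < 4254 → P i := stepQ 4253 Q4253 (allL N4253 (tt N7018 (iv F8426)) (tt N7042 (iv F8456)) (tt N7040 (iv F8451)) (tt N6989 (iv F8381)) (tt N2214 (iv D5003)))
theorem Q4255 : ∀ i, i < 4255 → P i := stepQ 4254 Q4254 (allL N4254 (tt N7043 D7939) (tt N7044 D7940) (tt N2216 (iv D5004)) (tt N6992 (iv F8383)) (tt N7045 D7941))
theorem Q4256 : ∀ i, i < 4256 → P i := stepQ 4255 Q4255 (allL N4255 (tt N2217 (iv D5005)) (tt N6935 (iv F12220)) (tt N7038 (iv F8450)) (tt N6934 (iv F12219)) (tt N6528 (iv F7560)))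
theorem Q4257 : ∀ i, i < 4257 → P i := stepQ 4256 Q4256 (allL N4256 (tt N2221 F3981) (tt N7041 (iv F8453)) (tt N7046 D7944) (tt N3532 F3982) (tt N2218 (iv D5008)))
theorem Q4258 : ∀ i, i < 4258 → P i := stepQ 4257 Q4257 (allL N4257 (tt N2219 (iv D5009)) (tt N6335 F7244) (tt N3751 F7245) (tt N3750 (iv F7246)) (tt N7047 D7945))
theorem Q4259 : ∀ i, i < 4259 → P i := stepQ 4258 Q4258 (allL N4258 (tt N3724 F3983) (tt N2219 (iv D5010)) (tt N3687 F3985) (tt N3686 (iv F3984)) (tt N7048 D7946))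
theorem Q4260 : ∀ i, i < 4260 → P i := stepQ 4259 Q4259 (allL N4259 (tt N7049 D7947) (tt N3686 F3986) (tt N2220 F3987) (tt N2219 (iv D5011)) (tt N6974 F8336))
theorem Q4261 : ∀ i, i < 4261 → P i := stepQ 4260 Q4260 (allL N4260 (tt N7047 (iv F8462)) (tt N7048 (iv F8466)) (tt N7050 D7948) (tt N6972 (iv F8337)) (tt N2219 (iv D5012)))
theorem Q4262 : ∀ i, i < 4262 → P i := stepQ 4261 Q4261 (allL N4261 (tt N2220 (iv D5013)) (tt N7017 (iv F8424)) (tt N3671 F3988) (tt N3759 (iv F3989)) (tt N6982 (iv F8360)))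
theorem Q4263 : ∀ i, i < 4263 → P i := stepQ 4262 Q4262 (allL N4262 (tt N7051 D7949) (tt N7052 D7950) (tt N2221 (iv D5014)) (tt N6977 (iv F8346)) (tt N7053 D7951))
theorem Q4264 : ∀ i, i < 4264 → P i := stepQ 4263 Q4263 (allL N4263 (tt N2222 (iv D5015)) (tt N5993 (iv F6670)) (tt N7054 D7952) (tt N5991 (iv F6664)) (tt N6892 (iv F8197)))
theorem Q4265 : ∀ i, i < 4265 → P i := stepQ 4264 Q4264 (allL N4264 (tt N6638 (iv F7732)) (tt N3687 F3990) (tt N2222 (iv D5016)) (tt N3685 F3991) (tt N7055 D7953))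
theorem Q4266 : ∀ i, i < 4266 → P i := stepQ 4265 Q4265 (allL N4265 (tt N2223 (iv D5017)) (tt N3747 F3993) (tt N7056 D7954) (tt N3693 F3992) (tt N7057 D7955))
theorem Q4267 : ∀ i, i < 4267 → P i := stepQ 4266 Q4266 (allL N4266 (tt N7057 (iv F8487)) (tt N6150 F6876) (tt N7058 D7956) (tt N6903 (iv F8228)) (tt N2223 (iv D5018)))
theorem Q4268 : ∀ i, i < 4268 → P i := stepQ 4267 Q4267 (allL N4267 (tt N7059 D7957) (tt N6063 F6774) (tt N2224 (iv D5019)) (tt N6900 (iv F8220)) (tt N6061 (iv F6775)))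
theorem Q4269 : ∀ i, i < 4269 → P i := stepQ 4268 Q4268 (allL N4268 (tt N7056 (iv F8484)) (tt N2862 F4000) (tt N2225 (iv D5020)) (tt N5079 F5161) (tt N7060 D7958))
theorem Q4270 : ∀ i, i < 4270 → P i := stepQ 4269 Q4269 (allL N4269 (tt N2226 F4001) (tt N6312 (iv F7213)) (tt N7061 D7959) (tt N6324 (iv F7226)) (tt N2225 (iv D5021)))
theorem Q4271 : ∀ i, i < 4271 → P i := stepQ 4270 Q4270 (allL N4270 (tt N7058 (iv F8490)) (tt N3290 F4002) (tt N2226 (iv D5022)) (tt N5456 (iv F5711)) (tt N5407 F5642))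
theorem Q4272 : ∀ i, i < 4272 → P i := stepQ 4271 Q4271 (allL N4271 (tt N2227 (iv D5023)) (tt N5093 (iv F5184)) (tt N7060 (iv F8496)) (tt N5115 (iv F5213)) (tt N5081 F5165))
theorem Q4273 : ∀ i, i < 4273 → P i := stepQ 4272 Q4272 (allL N4272 (tt N2655 F4003) (tt N2228 (iv D5024)) (tt N7062 D7960) (tt N7062 F8500) (tt N7063 D7961))
theorem Q4274 : ∀ i, i < 4274 → P i := stepQ 4273 Q4273 (allL N4273 (tt N7064 D7962) (tt N7065 D7963) (tt N2228 (iv D5025)) (tt N7066 D7964) (tt N7067 D7965))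
theorem Q4275 : ∀ i, i < 4275 → P i := stepQ 4274 Q4274 (allL N4274 (tt N6639 (iv F7734)) (tt N7062 (iv F8499)) (tt N7066 (iv F8506)) (tt N2228 (iv D5026)) (tt N6956 (iv F8306)))
theorem Q4276 : ∀ i, i < 4276 → P i := stepQ 4275 Q4275 (allL N4275 (tt N2230 F4004) (tt N7063 (iv F8502)) (tt N7068 D7966) (tt N6954 (iv F8305)) (tt N2228 (iv D5027)))
theorem Q4277 : ∀ i, i < 4277 → P i := stepQ 4276 Q4276 (allL N4276 (tt N2229 (iv D5028)) (tt N4245 (iv F7746)) (tt N7036 (iv F8445)) (tt N4243 F7747) (tt N7069 D7967))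
theorem Q4278 : ∀ i, i < 4278 → P i := stepQ 4277 Q4277 (allL N4277 (tt N7069 (iv F8507)) (tt N6264 F7093) (tt N7070 D7968) (tt N6405 (iv F7357)) (tt N2229 (iv D5029)))
theorem Q4279 : ∀ i, i < 4279 → P i := stepQ 4278 Q4278 (allL N4278 (tt N6761 F8505) (tt N5422 (iv F5668)) (tt N2230 (iv D5030)) (tt N5459 (iv F5713)) (tt N5420 F5669))
theorem Q4280 : ∀ i, i < 4280 → P i := stepQ 4279 Q4279 (allL N4279 (tt N2231 (iv D5031)) (tt N7071 D7969) (tt N7072 D7970) (tt N6923 (iv F8256)) (tt N2322 F4005))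
theorem Q4281 : ∀ i, i < 4281 → P i := stepQ 4280 Q4280 (allL N4280 (tt N7073 D7971) (tt N5414 F5653) (tt N2231 (iv D5032)) (tt N5460 (iv F5716)) (tt N5413 (iv F5654)))
theorem Q4282 : ∀ i, i < 4282 → P i := stepQ 4281 Q4281 (allL N4281 (tt N2233 F4006) (tt N6930 (iv F8270)) (tt N7074 D7972) (tt N6938 (iv F8276)) (tt N2232 (iv D5033)))
theorem Q4283 : ∀ i, i < 4283 → P i := stepQ 4282 Q4282 (allL N4282 (tt N7075 D7973) (tt N3622 (iv F4008)) (tt N2233 (iv D5034)) (tt N7076 D7974) (tt N3620 F4007))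
theorem Q4284 : ∀ i, i < 4284 → P i := stepQ 4283 Q4283 (allL N4283 (tt N2328 F4010) (tt N2243 F4009) (tt N7076 (iv F8522)) (tt N2233 (iv D5035)) (tt N7077 D7975))
theorem Q4285 : ∀ i, i < 4285 → P i := stepQ 4284 Q4284 (allL N4284 (tt N7078 D7976) (tt N3624 F4011) (tt N2235 F4012) (tt N2234 (iv D5036)) (tt N7079 D7977))
theorem Q4286 : ∀ i, i < 4286 → P i := stepQ 4285 Q4285 (allL N4285 (tt N2235 (iv D5037)) (tt N6932 (iv F8273)) (tt N7080 D7978) (tt N6927 (iv F8264)) (tt N7081 D7979))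
theorem Q4287 : ∀ i, i < 4287 → P i := stepQ 4286 Q4286 (allL N4286 (tt N7081 (iv F8533)) (tt N2249 F4013) (tt N5062 F6644) (tt N7077 (iv F8528)) (tt N2235 (iv D5038)))
theorem Q4288 : ∀ i, i < 4288 → P i := stepQ 4287 Q4287 (allL N4287 (tt N2237 F4014) (tt N2535 F4015) (tt N7082 D7980) (tt N7083 D7981) (tt N2236 (iv D5039)))
theorem Q4289 : ∀ i, i < 4289 → P i := stepQ 4288 Q4288 (allL N4288 (tt N7084 D7982) (tt N7085 D7983) (tt N2237 (iv D5040)) (tt N7086 D7984) (tt N7087 D7985))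
theorem Q4290 : ∀ i, i < 4290 → P i := stepQ 4289 Q4289 (allL N4289 (tt N3806 F4016) (tt N5050 (iv F5115)) (tt N7086 (iv F8541)) (tt N2237 (iv D5041)) (tt N7088 D7986))
theorem Q4291 : ∀ i, i < 4291 → P i := stepQ 4290 Q4290 (allL N4290 (tt N4470 (iv F4237)) (tt N2238 (iv D5042)) (tt N3631 F4017) (tt N7089 D7987) (tt N4467 (iv F4233)))
theorem Q4292 : ∀ i, i < 4292 → P i := stepQ 4291 Q4291 (allL N4291 (tt N7090 D7988) (tt N7089 (iv F8549)) (tt N2239 F4018) (tt N2238 (iv D5043)) (tt N7091 D7989))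
theorem Q4293 : ∀ i, i < 4293 → P i := stepQ 4292 Q4292 (allL N4292 (tt N2266 F4019) (tt N4467 (iv F4231)) (tt N2247 F4020) (tt N7087 (iv F8544)) (tt N2238 (iv D5044)))
theorem Q4294 : ∀ i, i < 4294 → P i := stepQ 4293 Q4293 (allL N4293 (tt N2239 (iv D5045)) (tt N2537 (iv F4022)) (tt N7092 D7990) (tt N2532 F4021) (tt N7093 D7991))
theorem Q4295 : ∀ i, i < 4295 → P i := stepQ 4294 Q4294 (allL N4294 (tt N7093 (iv F8556)) (tt N5052 (iv F5117)) (tt N2249 F7130) (tt N7088 (iv F8547)) (tt N2239 (iv D5046)))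
theorem Q4296 : ∀ i, i < 4296 → P i := stepQ 4295 Q4295 (allL N4295 (tt N7094 D7992) (tt N2240 (iv D5047)) (tt N5219 (iv F5414)) (tt N3054 F4023) (tt N7095 D7993))
theorem Q4297 : ∀ i, i < 4297 → P i := stepQ 4296 Q4296 (allL N4296 (tt N2250 F4024) (tt N7095 (iv F8562)) (tt N7084 (iv F8539)) (tt N7096 D7994) (tt N2240 (iv D5048)))
theorem Q4298 : ∀ i, i < 4298 → P i := stepQ 4297 Q4297 (allL N4297 (tt N5121 (iv F5220)) (tt N7097 D7995) (tt N2241 (iv D5049)) (tt N7098 D7996) (tt N7099 D7997))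
theorem Q4299 : ∀ i, i < 4299 → P i := stepQ 4298 Q4298 (allL N4298 (tt N2277 F4025) (tt N3387 F4026) (tt N7098 (iv F8565)) (tt N2241 (iv D5050)) (tt N3780 (iv F4027)))
theorem Q4300 : ∀ i, i < 4300 → P i := stepQ 4299 Q4299 (allL N4299 (tt N2242 (iv D5051)) (tt N7100 D7998) (tt N5120 (iv F5219)) (tt N7101 D7999) (tt N7102 D8000))
theorem Q4301 : ∀ i, i < 4301 → P i := stepQ 4300 Q4300 (allL N4300 (tt N7103 D8001) (tt N2242 (iv D5052)) (tt N7104 D8002) (tt N7105 D8003) (tt N7106 D8004))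
theorem Q4302 : ∀ i, i < 4302 → P i := stepQ 4301 Q4301 (allL N4301 (tt N7107 D8005) (tt N7105 (iv F8573)) (tt N2243 F4028) (tt N2242 (iv D5053)) (tt N7108 D8006))
theorem Q4303 : ∀ i, i < 4303 → P i := stepQ 4302 Q4302 (allL N4302 (tt N7102 (iv F8571)) (tt N7106 (iv F8574)) (tt N7087 (iv F8543)) (tt N2247 F8545) (tt N2242 (iv D5054)))
theorem Q4304 : ∀ i, i < 4304 → P i := stepQ 4303 Q4303 (allL N4303 (tt N2282 F4029) (tt N7077 (iv F8527)) (tt N7088 (iv F8548)) (tt N2249 F4030) (tt N2243 (iv D5055)))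
theorem Q4305 : ∀ i, i < 4305 → P i := stepQ 4304 Q4304 (allL N4304 (tt N2293 F4032) (tt N6849 (iv F8135)) (tt N3804 F4031) (tt N2244 (iv D5056)) (tt N7109 D8007))
theorem Q4306 : ∀ i, i < 4306 → P i := stepQ 4305 Q4305 (allL N4305 (tt N2247 F4033) (tt N6514 (iv F7534)) (tt N3809 F4034) (tt N7110 D8008) (tt N2244 (iv D5057)))
theorem Q4307 : ∀ i, i < 4307 → P i := stepQ 4306 Q4306 (allL N4306 (tt N2245 (iv D5058)) (tt N6498 (iv F7506)) (tt N2982 F4035) (tt N7111 D8009) (tt N6377 (iv F7313)))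
theorem Q4308 : ∀ i, i < 4308 → P i := stepQ 4307 Q4307 (allL N4307 (tt N4588 (iv F4384)) (tt N3623 F4036) (tt N2245 (iv D5059)) (tt N7112 D8010) (tt N6376 (iv F7309)))
theorem Q4309 : ∀ i, i < 4309 → P i := stepQ 4308 Q4308 (allL N4308 (tt N7113 D8011) (tt N2246 F4037) (tt N7112 (iv F8589)) (tt N2245 (iv D5060)) (tt N7114 D8012))
theorem Q4310 : ∀ i, i < 4310 → P i := stepQ 4309 Q4309 (allL N4309 (tt N6377 (iv F7311)) (tt N2247 F4038) (tt N2979 F4039) (tt N7106 F8575) (tt N2245 (iv D5061)))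
theorem Q4311 : ∀ i, i < 4311 → P i := stepQ 4310 Q4310 (allL N4310 (tt N2246 (iv D5062)) (tt N7115 D8013) (tt N5123 (iv F5224)) (tt N7116 D8014) (tt N7117 D8015))
theorem Q4312 : ∀ i, i < 4312 → P i := stepQ 4311 Q4311 (allL N4311 (tt N7117 (iv F8593)) (tt N7114 (iv F8590)) (tt N7091 (iv F8553)) (tt N7108 (iv F8579)) (tt N2246 (iv D5063)))
theorem Q4313 : ∀ i, i < 4313 → P i := stepQ 4312 Q4312 (allL N4312 (tt N2284 F4041) (tt N7118 D8016) (tt N2248 (iv D5065)) (tt N3381 F4040) (tt N7119 D8017))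
theorem Q4314 : ∀ i, i < 4314 → P i := stepQ 4313 Q4313 (allL N4313 (tt N2249 F4042) (tt N3392 F4043) (tt N7120 D8018) (tt N3780 F4044) (tt N2248 (iv D5066)))
theorem Q4315 : ∀ i, i < 4315 → P i := stepQ 4314 Q4314 (allL N4314 (tt N7082 (iv F8535)) (tt N7121 D8019) (tt N2250 (iv D5068)) (tt N7122 D8020) (tt N7123 D8021))
theorem Q4316 : ∀ i, i < 4316 → P i := stepQ 4315 Q4315 (allL N4315 (tt N2264 F4046) (tt N4315 F4045) (tt N7122 (iv F8606)) (tt N2250 (iv D5069)) (tt N7124 D8022))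
theorem Q4317 : ∀ i, i < 4317 → P i := stepQ 4316 Q4316 (allL N4316 (tt N7092 (iv F8554)) (tt N3663 F4047) (tt N2252 F4048) (tt N2251 (iv D5070)) (tt N7125 D8023))
theorem Q4318 : ∀ i, i < 4318 → P i := stepQ 4317 Q4317 (allL N4317 (tt N3809 F4049) (tt N3664 F4050) (tt N2285 F4051) (tt N7123 (iv F8612)) (tt N2251 (iv D5071)))
theorem Q4319 : ∀ i, i < 4319 → P i := stepQ 4318 Q4318 (allL N4318 (tt N2252 (iv D5072)) (tt N7126 D8024) (tt N7090 (iv F8551)) (tt N3380 F4052) (tt N7120 (iv F8597)))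
theorem Q4320 : ∀ i, i < 4320 → P i := stepQ 4319 Q4319 (allL N4319 (tt N7120 F8598) (tt N4319 F4053) (tt N5124 (iv F8600)) (tt N7124 (iv F8615)) (tt N2252 (iv D5073)))
theorem Q4321 : ∀ i, i < 4321 → P i := stepQ 4320 Q4320 (allL N4320 (tt N3835 F4054) (tt N2296 F4055) (tt N7127 D8025) (tt N7128 D8026) (tt N2253 (iv D5074)))
theorem Q4322 : ∀ i, i < 4322 → P i := stepQ 4321 Q4321 (allL N4321 (tt N7129 D8027) (tt N2298 F4056) (tt N5471 (iv F5775)) (tt N2254 (iv D5075)) (tt N7130 D8028))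
theorem Q4323 : ∀ i, i < 4323 → P i := stepQ 4322 Q4322 (allL N4322 (tt N2256 F4057) (tt N5492 (iv F5818)) (tt N3838 F4058) (tt N7131 D8029) (tt N2255 (iv D5076)))
theorem Q4324 : ∀ i, i < 4324 → P i := stepQ 4323 Q4323 (allL N4323 (tt N3836 F4059) (tt N7132 D8030) (tt N2256 (iv D5077)) (tt N7133 D8031) (tt N7134 D8032))
theorem Q4325 : ∀ i, i < 4325 → P i := stepQ 4324 Q4324 (allL N4324 (tt N5462 (iv F5763)) (tt N2264 F4060) (tt N7133 (iv F8638)) (tt N2256 (iv D5078)) (tt N7135 D8033))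
theorem Q4326 : ∀ i, i < 4326 → P i := stepQ 4325 Q4325 (allL N4325 (tt N3846 F4062) (tt N5302 (iv F5494)) (tt N2258 F4061) (tt N2257 (iv D5079)) (tt N7136 D8034))
theorem Q4327 : ∀ i, i < 4327 → P i := stepQ 4326 Q4326 (allL N4326 (tt N3825 F4063) (tt N2321 F4064) (tt N2660 F4065) (tt N7134 (iv F8642)) (tt N2257 (iv D5080)))
theorem Q4328 : ∀ i, i < 4328 → P i := stepQ 4327 Q4327 (allL N4327 (tt N2258 (iv D5081)) (tt N5493 (iv F5819)) (tt N3844 F4066) (tt N4617 (iv F4481)) (tt N7137 D8035))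
theorem Q4329 : ∀ i, i < 4329 → P i := stepQ 4328 Q4328 (allL N4328 (tt N7137 (iv F8651)) (tt N2268 F4067) (tt N7130 F8632) (tt N7135 (iv F8646)) (tt N2258 (iv D5082)))
theorem Q4330 : ∀ i, i < 4330 → P i := stepQ 4329 Q4329 (allL N4329 (tt N2259 (iv D5083)) (tt N5491 (iv F5817)) (tt N2443 F4068) (tt N3396 (iv F4069)) (tt N7138 D8036))
theorem Q4331 : ∀ i, i < 4331 → P i := stepQ 4330 Q4330 (allL N4330 (tt N7138 (iv F8653)) (tt N2262 F4070) (tt N6541 (iv F7573)) (tt N7139 D8037) (tt N2259 (iv D5084)))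
theorem Q4332 : ∀ i, i < 4332 → P i := stepQ 4331 Q4331 (allL N4331 (tt N3803 F4071) (tt N3172 F4072) (tt N2278 F4073) (tt N7140 D8038) (tt N2260 (iv D5085)))
theorem Q4333 : ∀ i, i < 4333 → P i := stepQ 4332 Q4332 (allL N4332 (tt N3380 F4074) (tt N2447 F4075) (tt N6211 (iv F6968)) (tt N2267 F4076) (tt N2261 (iv D5086)))
theorem Q4334 : ∀ i, i < 4334 → P i := stepQ 4333 Q4333 (allL N4333 (tt N3805 F4077) (tt N6447 (iv F8660)) (tt N2262 (iv D5087)) (tt N6446 F8659) (tt N7141 D8039))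
theorem Q4335 : ∀ i, i < 4335 → P i := stepQ 4334 Q4334 (allL N4334 (tt N7096 (iv F8563)) (tt N7139 (iv F8654)) (tt N6446 (iv F8658)) (tt N2262 (iv D5088)) (tt N7142 D8040))
theorem Q4336 : ∀ i, i < 4336 → P i := stepQ 4335 Q4335 (allL N4335 (tt N2263 (iv D5089)) (tt N7143 D8041) (tt N2274 F4078) (tt N7144 D8042) (tt N7145 D8043))
theorem Q4337 : ∀ i, i < 4337 → P i := stepQ 4336 Q4336 (allL N4336 (tt N5834 (iv F6378)) (tt N2263 (iv D5090)) (tt N5849 (iv F6403)) (tt N5814 F6325) (tt N4532 (iv F6326)))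
theorem Q4338 : ∀ i, i < 4338 → P i := stepQ 4337 Q4337 (allL N4337 (tt N7086 (iv F8542)) (tt N5814 (iv F6324)) (tt N2264 F4079) (tt N2263 (iv D5091)) (tt N7146 D8044))
theorem Q4339 : ∀ i, i < 4339 → P i := stepQ 4338 Q4338 (allL N4338 (tt N7145 (iv F8671)) (tt N4532 F6327) (tt N2281 F4080) (tt N2266 F6328) (tt N2263 (iv D5092)))
theorem Q4340 : ∀ i, i < 4340 → P i := stepQ 4339 Q4339 (allL N4339 (tt N7124 (iv F8613)) (tt N7135 (iv F8645)) (tt N2282 F4138) (tt N2268 F4081) (tt N2264 (iv D5093)))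
theorem Q4341 : ∀ i, i < 4341 → P i := stepQ 4340 Q4340 (allL N4340 (tt N2265 (iv D5094)) (tt N7147 D8045) (tt N3810 F4082) (tt N7148 D8046) (tt N7149 D8047))
theorem Q4342 : ∀ i, i < 4342 → P i := stepQ 4341 Q4341 (allL N4341 (tt N7149 (iv F8677)) (tt N5873 (iv F6447)) (tt N2291 F4139) (tt N7146 (iv F8674)) (tt N2265 (iv D5095)))
theorem Q4343 : ∀ i, i < 4343 → P i := stepQ 4342 Q4342 (allL N4342 (tt N7150 D8048) (tt N2267 (iv D5097)) (tt N6560 (iv F7595)) (tt N2447 F4084) (tt N7151 D8049))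
theorem Q4344 : ∀ i, i < 4344 → P i := stepQ 4343 Q4343 (allL N4343 (tt N3808 F4085) (tt N6212 (iv F6970)) (tt N2267 (iv D5098)) (tt N6211 F6969) (tt N7152 D8050))
theorem Q4345 : ∀ i, i < 4345 → P i := stepQ 4344 Q4344 (allL N4344 (tt N2268 F4086) (tt N7151 (iv F8680)) (tt N7153 D8051) (tt N7142 (iv F8668)) (tt N2267 (iv D5099)))
theorem Q4346 : ∀ i, i < 4346 → P i := stepQ 4345 Q4345 (allL N4345 (tt N4028 F4087) (tt N2816 F4088) (tt N4968 (iv F4979)) (tt N3955 (iv F4089)) (tt N2269 (iv D5101)))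
theorem Q4347 : ∀ i, i < 4347 → P i := stepQ 4346 Q4346 (allL N4346 (tt N2398 F4090) (tt N2275 F4091) (tt N7016 (iv F8422)) (tt N2292 (iv F4092)) (tt N2270 (iv D5102)))
theorem Q4348 : ∀ i, i < 4348 → P i := stepQ 4347 Q4347 (allL N4347 (tt N4029 F4093) (tt N6349 (iv F7274)) (tt N2271 (iv D5103)) (tt N6347 (iv F7271)) (tt N6983 (iv F8365)))
theorem Q4349 : ∀ i, i < 4349 → P i := stepQ 4348 Q4348 (allL N4348 (tt N2400 F4095) (tt N2277 F4094) (tt N6347 (iv F7270)) (tt N2271 (iv D5104)) (tt N7154 D8052))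
theorem Q4350 : ∀ i, i < 4350 → P i := stepQ 4349 Q4349 (allL N4349 (tt N6025 (iv F6724)) (tt N2274 F4096) (tt N6221 (iv F6990)) (tt N6346 (iv F7264)) (tt N2272 (iv D5105)))
theorem Q4351 : ∀ i, i < 4351 → P i := stepQ 4350 Q4350 (allL N4350 (tt N2532 F4097) (tt N2811 F4098) (tt N7148 (iv F8676)) (tt N3810 F4099) (tt N2273 (iv D5106)))
theorem Q4352 : ∀ i, i < 4352 → P i := stepQ 4351 Q4351 (allL N4351 (tt N7083 (iv F8536)) (tt N6346 F7267) (tt N7144 (iv F8670)) (tt N2274 (iv D5107)) (tt N7155 D8053))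
theorem Q4353 : ∀ i, i < 4353 → P i := stepQ 4352 Q4352 (allL N4352 (tt N7116 (iv F8591)) (tt N7156 D8054) (tt N2275 (iv D5108)) (tt N2293 F4100) (tt N7157 D8055))
theorem Q4354 : ∀ i, i < 4354 → P i := stepQ 4353 Q4353 (allL N4353 (tt N2276 (iv D5109)) (tt N6834 (iv F8120)) (tt N3803 F4101) (tt N7107 (iv F8578)) (tt N7110 (iv F8583)))
theorem Q4355 : ∀ i, i < 4355 → P i := stepQ 4354 Q4354 (allL N4354 (tt N7158 D8056) (tt N2276 (iv D5110)) (tt N7159 D8057) (tt N7160 D8058) (tt N7161 D8059))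
theorem Q4356 : ∀ i, i < 4356 → P i := stepQ 4355 Q4355 (allL N4355 (tt N7101 (iv F8570)) (tt N7160 (iv F8698)) (tt N2277 F4102) (tt N2276 (iv D5111)) (tt N7162 D8060))
theorem Q4357 : ∀ i, i < 4357 → P i := stepQ 4356 Q4356 (allL N4356 (tt N7110 F8584) (tt N7161 (iv F8699)) (tt N7145 (iv F8672)) (tt N7157 (iv F8697)) (tt N2276 (iv D5112)))
theorem Q4358 : ∀ i, i < 4358 → P i := stepQ 4357 Q4357 (allL N4357 (tt N3780 F4103) (tt N7154 (iv F8689)) (tt N7155 F8695) (tt N2294 F4104) (tt N2277 (iv D5113)))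
theorem Q4359 : ∀ i, i < 4359 → P i := stepQ 4358 Q4358 (allL N4358 (tt N7163 D8061) (tt N2278 (iv D5114)) (tt N7164 D8062) (tt N5016 F8567) (tt N7165 D8063))
theorem Q4360 : ∀ i, i < 4360 → P i := stepQ 4359 Q4359 (allL N4359 (tt N7098 (iv F8564)) (tt N5016 (iv F8566)) (tt N7140 (iv F8662)) (tt N2278 (iv D5115)) (tt N7166 D8064))
theorem Q4361 : ∀ i, i < 4361 → P i := stepQ 4360 Q4360 (allL N4360 (tt N2281 F4105) (tt N7165 (iv F8705)) (tt N7141 (iv F8665)) (tt N7167 D8065) (tt N2278 (iv D5116)))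
theorem Q4362 : ∀ i, i < 4362 → P i := stepQ 4361 Q4361 (allL N4361 (tt N2279 (iv D5117)) (tt N7168 D8066) (tt N4043 F6122) (tt N4639 (iv F4505)) (tt N7169 D8067))
theorem Q4363 : ∀ i, i < 4363 → P i := stepQ 4362 Q4362 (allL N4362 (tt N7170 D8068) (tt N2312 F4106) (tt N2279 (iv D5118)) (tt N7171 D8069) (tt N5287 (iv F7793)))
theorem Q4364 : ∀ i, i < 4364 → P i := stepQ 4363 Q4363 (allL N4363 (tt N7172 D8070) (tt N2280 F4107) (tt N7171 (iv F8718)) (tt N2279 (iv D5119)) (tt N7173 D8071))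
theorem Q4365 : ∀ i, i < 4365 → P i := stepQ 4364 Q4364 (allL N4364 (tt N7169 (iv F8710)) (tt N2281 F4108) (tt N7174 D8072) (tt N2289 F6329) (tt N2279 (iv D5120)))
theorem Q4366 : ∀ i, i < 4366 → P i := stepQ 4365 Q4365 (allL N4365 (tt N2280 (iv D5121)) (tt N7175 D8073) (tt N5122 (iv F5223)) (tt N5121 F5221) (tt N7176 D8074))
theorem Q4367 : ∀ i, i < 4367 → P i := stepQ 4366 Q4366 (allL N4366 (tt N7176 (iv F8728)) (tt N7173 (iv F8721)) (tt N7146 (iv F8673)) (tt N2291 F6331) (tt N2280 (iv D5122)))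
theorem Q4368 : ∀ i, i < 4368 → P i := stepQ 4367 Q4367 (allL N4367 (tt N7177 D8075) (tt N2284 F4110) (tt N6328 (iv F7233)) (tt N2283 (iv D5125)) (tt N7178 D8076))
theorem Q4369 : ∀ i, i < 4369 → P i := stepQ 4368 Q4368 (allL N4368 (tt N2662 F4111) (tt N2285 F4112) (tt N2835 F4113) (tt N7179 D8077) (tt N2283 (iv D5126)))
theorem Q4370 : ∀ i, i < 4370 → P i := stepQ 4369 Q4369 (allL N4369 (tt N7119 (iv F8595)) (tt N7178 (iv F8732)) (tt N7125 (iv F8617)) (tt N7176 (iv F8729)) (tt N2284 (iv D5127)))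
theorem Q4371 : ∀ i, i < 4371 → P i := stepQ 4370 Q4370 (allL N4370 (tt N7099 (iv F8568)) (tt N7179 (iv F8733)) (tt N7123 (iv F8611)) (tt N2285 (iv D5128)) (tt N5121 (iv F6332)))
theorem Q4372 : ∀ i, i < 4372 → P i := stepQ 4371 Q4371 (allL N4371 (tt N4634 (iv F4503)) (tt N5469 (iv F5769)) (tt N3134 F4114) (tt N2286 (iv D5129)) (tt N5467 F5767))
theorem Q4373 : ∀ i, i < 4373 → P i := stepQ 4372 Q4372 (allL N4372 (tt N2287 (iv D5130)) (tt N3018 F4115) (tt N4049 F4116) (tt N7180 D8078) (tt N2935 F4117))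
theorem Q4374 : ∀ i, i < 4374 → P i := stepQ 4373 Q4373 (allL N4373 (tt N7181 D8079) (tt N2318 F4118) (tt N2288 F4119) (tt N2287 (iv D5131)) (tt N7182 D8080))
theorem Q4375 : ∀ i, i < 4375 → P i := stepQ 4374 Q4374 (allL N4374 (tt N2288 (iv D5132)) (tt N7183 D8081) (tt N4051 F4120) (tt N4716 (iv F4572)) (tt N7184 D8082))
theorem Q4376 : ∀ i, i < 4376 → P i := stepQ 4375 Q4375 (allL N4375 (tt N7184 (iv F8745)) (tt N2291 F4121) (tt N7185 D8083) (tt N7173 (iv F8722)) (tt N2288 (iv D5133)))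
theorem Q4377 : ∀ i, i < 4377 → P i := stepQ 4376 Q4376 (allL N4376 (tt N2964 F4123) (tt N2307 F4124) (tt N2289 (iv D5134)) (tt N7174 (iv F8723)) (tt N2305 F4122))
theorem Q4378 : ∀ i, i < 4378 → P i := stepQ 4377 Q4377 (allL N4377 (tt N7186 D8084) (tt N2290 (iv D5136)) (tt N7187 D8085) (tt N4886 F4810) (tt N7188 D8086))
theorem Q4379 : ∀ i, i < 4379 → P i := stepQ 4378 Q4378 (allL N4378 (tt N3804 F4126) (tt N3174 F4128) (tt N2290 (iv D5137)) (tt N3170 (iv F4127)) (tt N7153 (iv F8686)))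
theorem Q4380 : ∀ i, i < 4380 → P i := stepQ 4379 Q4379 (allL N4379 (tt N3381 F4129) (tt N4886 (iv F4809)) (tt N3170 F4130) (tt N2290 (iv D5138)) (tt N7167 (iv F8708)))
theorem Q4381 : ∀ i, i < 4381 → P i := stepQ 4380 Q4380 (allL N4380 (tt N2291 F4131) (tt N7188 (iv F8756)) (tt N7152 (iv F8683)) (tt N7166 (iv F8706)) (tt N2290 (iv D5139)))
theorem Q4382 : ∀ i, i < 4382 → P i := stepQ 4381 Q4381 (allL N4381 (tt N2292 (iv D5144)) (tt N2322 F4132) (tt N7189 D8087) (tt N6908 (iv F8243)) (tt N7071 (iv F8513)))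
theorem Q4383 : ∀ i, i < 4383 → P i := stepQ 4382 Q4382 (allL N4382 (tt N4057 F4133) (tt N6348 (iv F7272)) (tt N2292 (iv D5145)) (tt N7016 (iv F8420)) (tt N4953 (iv F4954)))
theorem Q4384 : ∀ i, i < 4384 → P i := stepQ 4383 Q4383 (allL N4383 (tt N7071 (iv F8512)) (tt N2294 F4134) (tt N7190 D8088) (tt N7154 (iv F8691)) (tt N2292 (iv D5146)))
theorem Q4385 : ∀ i, i < 4385 → P i := stepQ 4384 Q4384 (allL N4384 (tt N7191 D8089) (tt N2293 (iv D5147)) (tt N7192 D8090) (tt N7156 (iv F8696)) (tt N7193 D8091))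
theorem Q4386 : ∀ i, i < 4386 → P i := stepQ 4385 Q4385 (allL N4385 (tt N7109 (iv F8580)) (tt N7193 (iv F8765)) (tt N7149 (iv F8678)) (tt N7162 (iv F8700)) (tt N2293 (iv D5148)))
theorem Q4387 : ∀ i, i < 4387 → P i := stepQ 4386 Q4386 (allL N4386 (tt N3811 F4135) (tt N7194 D8092) (tt N2294 (iv D5149)) (tt N7155 (iv F8694)) (tt N3810 (iv F4136)))
theorem Q4388 : ∀ i, i < 4388 → P i := stepQ 4387 Q4387 (allL N4387 (tt N4155 F4140) (tt N2295 (iv D5150)) (tt N5084 (iv F5169)) (tt N5083 F5167) (tt N7195 D8093))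
theorem Q4389 : ∀ i, i < 4389 → P i := stepQ 4388 Q4388 (allL N4388 (tt N2865 F4141) (tt N5083 (iv F5166)) (tt N2856 F4142) (tt N2295 (iv D5151)) (tt N7196 D8094))
theorem Q4390 : ∀ i, i < 4390 → P i := stepQ 4389 Q4389 (allL N4389 (tt N2296 F4143) (tt N7195 (iv F8770)) (tt N7197 D8095) (tt N7198 D8096) (tt N2295 (iv D5152)))
theorem Q4391 : ∀ i, i < 4391 → P i := stepQ 4390 Q4390 (allL N4390 (tt N7199 D8097) (tt N5851 F8621) (tt N2296 (iv D5153)) (tt N7200 D8098) (tt N7201 D8099))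
theorem Q4392 : ∀ i, i < 4392 → P i := stepQ 4391 Q4391 (allL N4391 (tt N2868 F4144) (tt N7128 (iv F8623)) (tt N7200 (iv F8776)) (tt N2296 (iv D5154)) (tt N7202 D8100))
theorem Q4393 : ∀ i, i < 4393 → P i := stepQ 4392 Q4392 (allL N4392 (tt N7203 D8101) (tt N5852 (iv F6405)) (tt N2298 F4145) (tt N2297 (iv D5155)) (tt N7204 D8102))
theorem Q4394 : ∀ i, i < 4394 → P i := stepQ 4393 Q4393 (allL N4393 (tt N5333 (iv F5534)) (tt N4531 (iv F4314)) (tt N2307 F4146) (tt N7201 F8778) (tt N2297 (iv D5156)))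
theorem Q4395 : ∀ i, i < 4395 → P i := stepQ 4394 Q4394 (allL N4394 (tt N2298 (iv D5157)) (tt N7205 D8103) (tt N7206 D8104) (tt N7196 (iv F8772)) (tt N7207 D8105))
theorem Q4396 : ∀ i, i < 4396 → P i := stepQ 4395 Q4395 (allL N4395 (tt N7207 (iv F8785)) (tt N7130 (iv F8630)) (tt N2309 F8631) (tt N7202 (iv F8780)) (tt N2298 (iv D5158)))
theorem Q4397 : ∀ i, i < 4397 → P i := stepQ 4396 Q4396 (allL N4396 (tt N5992 (iv F6665)) (tt N2302 F4147) (tt N3885 F4148) (tt N5969 (iv F6628)) (tt N2299 (iv D5159)))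
theorem Q4398 : ∀ i, i < 4398 → P i := stepQ 4397 Q4397 (allL N4397 (tt N2875 F4149) (tt N6037 (iv F6744)) (tt N2301 F4150) (tt N2300 (iv D5160)) (tt N7208 D8106))
theorem Q4399 : ∀ i, i < 4399 → P i := stepQ 4398 Q4398 (allL N4398 (tt N2853 F4151) (tt N6038 (iv F6747)) (tt N7199 (iv F8775)) (tt N7209 D8107) (tt N2300 (iv D5161)))
theorem Q4400 : ∀ i, i < 4400 → P i := stepQ 4399 Q4399 (allL N4399 (tt N5977 (iv F6635)) (tt N5939 (iv F6567)) (tt N7210 D8108) (tt N2308 F4152) (tt N2301 (iv D5162)))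
theorem Q4401 : ∀ i, i < 4401 → P i := stepQ 4400 Q4400 (allL N4400 (tt N2858 F4153) (tt N6138 (iv F6866)) (tt N2302 (iv D5163)) (tt N7211 D8109) (tt N7212 D8110))
theorem Q4402 : ∀ i, i < 4402 → P i := stepQ 4401 Q4401 (allL N4401 (tt N5978 (iv F6639)) (tt N5969 F6629) (tt N7211 (iv F8794)) (tt N2302 (iv D5164)) (tt N7213 D8111))
theorem Q4403 : ∀ i, i < 4403 → P i := stepQ 4402 Q4402 (allL N4402 (tt N2303 (iv D5165)) (tt N7214 D8112) (tt N2857 F4155) (tt N7215 D8113) (tt N7216 D8114))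
theorem Q4404 : ∀ i, i < 4404 → P i := stepQ 4403 Q4403 (allL N4403 (tt N3911 F4156) (tt N2303 (iv D5166)) (tt N6947 (iv F8292)) (tt N7217 D8115) (tt N7174 (iv F8724)))
theorem Q4405 : ∀ i, i < 4405 → P i := stepQ 4404 Q4404 (allL N4404 (tt N2881 F4158) (tt N7217 (iv F8801)) (tt N2304 F4157) (tt N2303 (iv D5167)) (tt N7218 D8116))
theorem Q4406 : ∀ i, i < 4406 → P i := stepQ 4405 Q4405 (allL N4405 (tt N7216 (iv F8800)) (tt N7174 F8726) (tt N7201 (iv F8777)) (tt N2307 F4824) (tt N2303 (iv D5168)))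
theorem Q4407 : ∀ i, i < 4407 → P i := stepQ 4406 Q4406 (allL N4406 (tt N6656 (iv F7768)) (tt N2310 F4159) (tt N7202 F8781) (tt N2309 F4160) (tt N2304 (iv D5169)))
theorem Q4408 : ∀ i, i < 4408 → P i := stepQ 4407 Q4407 (allL N4407 (tt N3929 F4163) (tt N2306 F4161) (tt N2650 F4162) (tt N2305 (iv D5170)) (tt N7185 (iv F8749)))
theorem Q4409 : ∀ i, i < 4409 → P i := stepQ 4408 Q4408 (allL N4408 (tt N2306 (iv D5171)) (tt N7219 D8117) (tt N2862 F4164) (tt N7220 D8118) (tt N7221 D8119))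
theorem Q4410 : ∀ i, i < 4410 → P i := stepQ 4409 Q4409 (allL N4409 (tt N7221 (iv F8809)) (tt N7185 F8751) (tt N7204 (iv F8783)) (tt N7218 (iv F8805)) (tt N2306 (iv D5172)))
theorem Q4411 : ∀ i, i < 4411 → P i := stepQ 4410 Q4410 (allL N4410 (tt N5993 (iv F6669)) (tt N2308 (iv D5174)) (tt N3939 F4165) (tt N5939 F6569) (tt N7222 D8120))
theorem Q4412 : ∀ i, i < 4412 → P i := stepQ 4411 Q4411 (allL N4411 (tt N2860 F4166) (tt N6465 (iv F7463)) (tt N2308 (iv D5175)) (tt N7210 (iv F8791)) (tt N7223 D8121))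
theorem Q4413 : ∀ i, i < 4413 → P i := stepQ 4412 Q4412 (allL N4412 (tt N2309 F4167) (tt N7222 (iv F8810)) (tt N7224 D8122) (tt N7213 (iv F8796)) (tt N2308 (iv D5176)))
theorem Q4414 : ∀ i, i < 4414 → P i := stepQ 4413 Q4413 (allL N4413 (tt N6815 (iv F8087)) (tt N2311 (iv D5178)) (tt N6575 (iv F7621)) (tt N7225 D8123) (tt N6571 F7612))
theorem Q4415 : ∀ i, i < 4415 → P i := stepQ 4414 Q4414 (allL N4414 (tt N5277 F6359) (tt N7226 D8124) (tt N2311 (iv D5179)) (tt N7227 D8125) (tt N5276 (iv F6360)))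
theorem Q4416 : ∀ i, i < 4416 → P i := stepQ 4415 Q4415 (allL N4415 (tt N5980 (iv F6646)) (tt N7225 (iv F8815)) (tt N7227 (iv F8821)) (tt N2311 (iv D5180)) (tt N7228 D8126))
theorem Q4417 : ∀ i, i < 4417 → P i := stepQ 4416 Q4416 (allL N4416 (tt N2314 F4168) (tt N6571 (iv F7611)) (tt N7229 D8127) (tt N7230 D8128) (tt N2311 (iv D5181)))
theorem Q4418 : ∀ i, i < 4418 → P i := stepQ 4417 Q4417 (allL N4417 (tt N2312 (iv D5182)) (tt N7231 D8129) (tt N7232 D8130) (tt N7233 D8131) (tt N5280 (iv F7792)))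
theorem Q4419 : ∀ i, i < 4419 → P i := stepQ 4418 Q4418 (allL N4418 (tt N5267 (iv F7789)) (tt N7171 (iv F8717)) (tt N2313 F4169) (tt N2312 (iv D5183)) (tt N5266 F7790))
theorem Q4420 : ∀ i, i < 4420 → P i := stepQ 4419 Q4419 (allL N4419 (tt N2313 (iv D5185)) (tt N3962 F4171) (tt N7234 D8132) (tt N3966 F4170) (tt N3961 (iv F4172)))
theorem Q4421 : ∀ i, i < 4421 → P i := stepQ 4420 Q4420 (allL N4420 (tt N3961 F4173) (tt N2315 F4174) (tt N7235 D8133) (tt N2320 F4175) (tt N2313 (iv D5186)))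
theorem Q4422 : ∀ i, i < 4422 → P i := stepQ 4421 Q4421 (allL N4421 (tt N7236 D8134) (tt N7134 F8643) (tt N2314 (iv D5187)) (tt N2321 F4176) (tt N7132 (iv F8644)))
theorem Q4423 : ∀ i, i < 4423 → P i := stepQ 4422 Q4422 (allL N4422 (tt N5257 (iv F5445)) (tt N3014 F4177) (tt N2317 F4178) (tt N2316 (iv D5188)) (tt N3111 (iv F4179)))
theorem Q4424 : ∀ i, i < 4424 → P i := stepQ 4423 Q4423 (allL N4423 (tt N2318 (iv D5189)) (tt N7237 D8135) (tt N7238 D8136) (tt N7239 D8137) (tt N7240 D8138))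
theorem Q4425 : ∀ i, i < 4425 → P i := stepQ 4424 Q4424 (allL N4424 (tt N7240 (iv F8833)) (tt N7182 (iv F8741)) (tt N7241 D8139) (tt N5266 (iv F5453)) (tt N2318 (iv D5190)))
theorem Q4426 : ∀ i, i < 4426 → P i := stepQ 4425 Q4425 (allL N4425 (tt N6885 (iv F8183)) (tt N2319 (iv D5191)) (tt N6642 (iv F7742)) (tt N7242 D8140) (tt N7243 D8141))
theorem Q4427 : ∀ i, i < 4427 → P i := stepQ 4426 Q4426 (allL N4426 (tt N5279 (iv F5470)) (tt N7244 D8142) (tt N2319 (iv D5192)) (tt N7245 D8143) (tt N7246 D8144))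
theorem Q4428 : ∀ i, i < 4428 → P i := stepQ 4427 Q4427 (allL N4427 (tt N5983 (iv F6651)) (tt N7242 (iv F8834)) (tt N7245 (iv F8844)) (tt N2319 (iv D5193)) (tt N7230 (iv F8828)))
theorem Q4429 : ∀ i, i < 4429 → P i := stepQ 4428 Q4428 (allL N4428 (tt N2320 F4180) (tt N7243 (iv F8839)) (tt N7247 D8145) (tt N7228 (iv F8824)) (tt N2319 (iv D5194)))
theorem Q4430 : ∀ i, i < 4430 → P i := stepQ 4429 Q4429 (allL N4429 (tt N7248 D8146) (tt N7136 F8649) (tt N2320 (iv D5195)) (tt N7235 (iv F8832)) (tt N5302 (iv F8650)))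
theorem Q4431 : ∀ i, i < 4431 → P i := stepQ 4430 Q4430 (allL N4430 (tt N7249 D8147) (tt N7250 D8148) (tt N2322 (iv D5196)) (tt N6917 (iv F8252)) (tt N7251 D8149))
theorem Q4432 : ∀ i, i < 4432 → P i := stepQ 4431 Q4431 (allL N4431 (tt N2323 (iv D5197)) (tt N7013 (iv F8416)) (tt N6774 (iv F7983)) (tt N7012 F8415) (tt N7252 D8150))
theorem Q4433 : ∀ i, i < 4433 → P i := stepQ 4432 Q4432 (allL N4432 (tt N4593 (iv F4389)) (tt N2323 (iv D5198)) (tt N6870 (iv F8151)) (tt N4586 (iv F4382)) (tt N6253 F7068))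
theorem Q4434 : ∀ i, i < 4434 → P i := stepQ 4433 Q4433 (allL N4433 (tt N7252 (iv F8846)) (tt N6253 (iv F7069)) (tt N7253 D8151) (tt N6400 (iv F7343)) (tt N2323 (iv D5199)))
theorem Q4435 : ∀ i, i < 4435 → P i := stepQ 4434 Q4434 (allL N4434 (tt N3397 F4181) (tt N2326 F4182) (tt N7254 D8152) (tt N2463 F4183) (tt N2324 (iv D5200)))
theorem Q4436 : ∀ i, i < 4436 → P i := stepQ 4435 Q4435 (allL N4435 (tt N6927 (iv F8262)) (tt N2457 F4184) (tt N7255 D8153) (tt N2331 F4185) (tt N2325 (iv D5201)))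
theorem Q4437 : ∀ i, i < 4437 → P i := stepQ 4436 Q4436 (allL N4436 (tt N3971 F4187) (tt N6445 (iv F7426)) (tt N2326 (iv D5202)) (tt N7256 D8154) (tt N4226 F4186))
theorem Q4438 : ∀ i, i < 4438 → P i := stepQ 4437 Q4437 (allL N4437 (tt N6938 (iv F8275)) (tt N2463 F4188) (tt N7256 (iv F8853)) (tt N2326 (iv D5203)) (tt N7257 D8155))
theorem Q4439 : ∀ i, i < 4439 → P i := stepQ 4438 Q4438 (allL N4438 (tt N2327 (iv D5204)) (tt N7258 D8156) (tt N3970 F4189) (tt N7259 D8157) (tt N2664 F4190))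
theorem Q4440 : ∀ i, i < 4440 → P i := stepQ 4439 Q4439 (allL N4439 (tt N7260 D8158) (tt N2635 F4191) (tt N2328 F4192) (tt N2327 (iv D5205)) (tt N2632 (iv F4193)))
theorem Q4441 : ∀ i, i < 4441 → P i := stepQ 4440 Q4440 (allL N4440 (tt N7077 (iv F8526)) (tt N2355 F4194) (tt N4440 F4195) (tt N2332 F4196) (tt N2328 (iv D5206)))
theorem Q4442 : ∀ i, i < 4442 → P i := stepQ 4441 Q4441 (allL N4441 (tt N7080 (iv F8532)) (tt N2647 F4197) (tt N2742 F4198) (tt N2329 (iv D5207)) (tt N7261 D8159))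
theorem Q4443 : ∀ i, i < 4443 → P i := stepQ 4442 Q4442 (allL N4442 (tt N2330 (iv D5208)) (tt N7262 D8160) (tt N3974 F4199) (tt N7263 D8161) (tt N7264 D8162))
theorem Q4444 : ∀ i, i < 4444 → P i := stepQ 4443 Q4443 (allL N4443 (tt N7264 (iv F8876)) (tt N2634 F4200) (tt N4443 F4201) (tt N2632 F4202) (tt N2330 (iv D5209)))
theorem Q4445 : ∀ i, i < 4445 → P i := stepQ 4444 Q4444 (allL N4444 (tt N3412 F4203) (tt N2331 (iv D5210)) (tt N7265 D8163) (tt N2457 F4204) (tt N7266 D8164))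
theorem Q4446 : ∀ i, i < 4446 → P i := stepQ 4445 Q4445 (allL N4445 (tt N3973 F4205) (tt N6204 (iv F7818)) (tt N2331 (iv D5211)) (tt N7255 (iv F8849)) (tt N6203 F7817))
theorem Q4447 : ∀ i, i < 4447 → P i := stepQ 4446 Q4446 (allL N4446 (tt N2332 F4206) (tt N7266 (iv F8882)) (tt N6676 (iv F7825)) (tt N7257 (iv F8856)) (tt N2331 (iv D5212)))
theorem Q4448 : ∀ i, i < 4448 → P i := stepQ 4447 Q4447 (allL N4447 (tt N2381 F4207) (tt N3667 (iv F4452)) (tt N2333 (iv D5213)) (tt N7267 D8165) (tt N3665 F4451))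
theorem Q4449 : ∀ i, i < 4449 → P i := stepQ 4448 Q4448 (allL N4448 (tt N2342 F4209) (tt N2868 F4208) (tt N7267 (iv F8886)) (tt N2333 (iv D5214)) (tt N7268 D8166))
theorem Q4450 : ∀ i, i < 4450 → P i := stepQ 4449 Q4449 (allL N4449 (tt N2394 F4212) (tt N3662 (iv F5112)) (tt N2335 F4211) (tt N2334 (iv D5215)) (tt N3661 F5111))
theorem Q4451 : ∀ i, i < 4451 → P i := stepQ 4450 Q4450 (allL N4450 (tt N2335 (iv D5216)) (tt N7269 D8167) (tt N2391 F4213) (tt N2404 F4214) (tt N2440 F5310))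
theorem Q4452 : ∀ i, i < 4452 → P i := stepQ 4451 Q4451 (allL N4451 (tt N2440 F5307) (tt N2873 F4215) (tt N2790 F5308) (tt N7268 (iv F8890)) (tt N2335 (iv D5217)))
theorem Q4453 : ∀ i, i < 4453 → P i := stepQ 4452 Q4452 (allL N4452 (tt N5706 (iv F6145)) (tt N2336 (iv D5218)) (tt N3892 F4216) (tt N7270 D8168) (tt N7271 D8169))
theorem Q4454 : ∀ i, i < 4454 → P i := stepQ 4453 Q4453 (allL N4453 (tt N5353 (iv F5575)) (tt N7270 (iv F8895)) (tt N5346 (iv F5567)) (tt N2336 (iv D5219)) (tt N7272 D8170))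
theorem Q4455 : ∀ i, i < 4455 → P i := stepQ 4454 Q4454 (allL N4454 (tt N2337 F4217) (tt N7271 (iv F8897)) (tt N7273 D8171) (tt N7274 D8172) (tt N2336 (iv D5220)))
theorem Q4456 : ∀ i, i < 4456 → P i := stepQ 4455 Q4455 (allL N4455 (tt N7275 D8173) (tt N2669 (iv F4219)) (tt N2337 (iv D5221)) (tt N7276 D8174) (tt N2667 F4218))
theorem Q4457 : ∀ i, i < 4457 → P i := stepQ 4456 Q4456 (allL N4456 (tt N5355 (iv F5578)) (tt N2342 F4220) (tt N7276 (iv F8905)) (tt N2337 (iv D5222)) (tt N7277 D8175))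
theorem Q4458 : ∀ i, i < 4458 → P i := stepQ 4457 Q4457 (allL N4457 (tt N7278 D8176) (tt N2671 F4221) (tt N2339 F4222) (tt N2338 (iv D5223)) (tt N7279 D8177))
theorem Q4459 : ∀ i, i < 4459 → P i := stepQ 4458 Q4458 (allL N4458 (tt N2339 (iv D5224)) (tt N7280 D8178) (tt N7281 D8179) (tt N7272 (iv F8898)) (tt N7282 D8180))
theorem Q4460 : ∀ i, i < 4460 → P i := stepQ 4459 Q4459 (allL N4459 (tt N7282 (iv F8916)) (tt N2347 F4223) (tt N4459 F5296) (tt N7277 (iv F8910)) (tt N2339 (iv D5225)))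
theorem Q4461 : ∀ i, i < 4461 → P i := stepQ 4460 Q4460 (allL N4460 (tt N2369 F4224) (tt N6217 (iv F6979)) (tt N2340 (iv D5226)) (tt N6450 (iv F7434)) (tt N6215 F6978))
theorem Q4462 : ∀ i, i < 4462 → P i := stepQ 4461 Q4461 (allL N4461 (tt N2405 F4225) (tt N5709 (iv F6147)) (tt N6450 (iv F7433)) (tt N2340 (iv D5227)) (tt N5911 F6514))
theorem Q4463 : ∀ i, i < 4463 → P i := stepQ 4462 Q4462 (allL N4462 (tt N2341 (iv D5228)) (tt N7283 D8181) (tt N2348 F4226) (tt N7284 D8182) (tt N7285 D8183))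
theorem Q4464 : ∀ i, i < 4464 → P i := stepQ 4463 Q4463 (allL N4463 (tt N7286 D8184) (tt N2341 (iv D5229)) (tt N7287 D8185) (tt N7288 D8186) (tt N7289 D8187))
theorem Q4465 : ∀ i, i < 4465 → P i := stepQ 4464 Q4464 (allL N4464 (tt N2385 F4228) (tt N7288 (iv F8929)) (tt N2342 F4227) (tt N2341 (iv D5230)) (tt N7290 D8188))
theorem Q4466 : ∀ i, i < 4466 → P i := stepQ 4465 Q4465 (allL N4465 (tt N7285 (iv F8922)) (tt N7289 (iv F8930)) (tt N2354 F4229) (tt N2345 F4445) (tt N2341 (iv D5231)))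
theorem Q4467 : ∀ i, i < 4467 → P i := stepQ 4466 Q4466 (allL N4466 (tt N7268 (iv F8888)) (tt N7277 (iv F8908)) (tt N2355 F5295) (tt N2347 F4230) (tt N2342 (iv D5232)))
theorem Q4468 : ∀ i, i < 4468 → P i := stepQ 4467 Q4467 (allL N4467 (tt N2343 (iv D5233)) (tt N4292 F4231) (tt N2771 F4232) (tt N7291 D8189) (tt N4290 F4233))
theorem Q4469 : ∀ i, i < 4469 → P i := stepQ 4468 Q4468 (allL N4468 (tt N5107 (iv F5204)) (tt N2670 F4234) (tt N2343 (iv D5234)) (tt N7292 D8190) (tt N3138 F4235))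
theorem Q4470 : ∀ i, i < 4470 → P i := stepQ 4469 Q4469 (allL N4469 (tt N7293 D8191) (tt N2344 F4236) (tt N7292 (iv F8940)) (tt N2343 (iv D5235)) (tt N7294 D8192))
theorem Q4471 : ∀ i, i < 4471 → P i := stepQ 4470 Q4470 (allL N4470 (tt N4290 F4237) (tt N2345 F4238) (tt N4470 F4239) (tt N7289 F8932) (tt N2343 (iv D5236)))
theorem Q4472 : ∀ i, i < 4472 → P i := stepQ 4471 Q4471 (allL N4471 (tt N2344 (iv D5237)) (tt N7295 D8193) (tt N2374 F4240) (tt N3393 (iv F4241)) (tt N7296 D8194))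
theorem Q4473 : ∀ i, i < 4473 → P i := stepQ 4472 Q4472 (allL N4472 (tt N7296 (iv F8945)) (tt N7294 (iv F8941)) (tt N2364 F5298) (tt N7290 (iv F8935)) (tt N2344 (iv D5238)))
theorem Q4474 : ∀ i, i < 4474 → P i := stepQ 4473 Q4473 (allL N4473 (tt N2372 F4243) (tt N6210 (iv F6965)) (tt N2346 (iv D5240)) (tt N5650 (iv F6041)) (tt N6209 F6963))
theorem Q4475 : ∀ i, i < 4475 → P i := stepQ 4474 Q4474 (allL N4474 (tt N2347 F4244) (tt N5714 (iv F6154)) (tt N5654 (iv F6056)) (tt N5911 (iv F6513)) (tt N2346 (iv D5241)))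
theorem Q4476 : ∀ i, i < 4476 → P i := stepQ 4475 Q4475 (allL N4475 (tt N2382 F4245) (tt N3469 F4246) (tt N7284 (iv F8918)) (tt N2348 (iv D5243)) (tt N3781 (iv F5300)))
theorem Q4477 : ∀ i, i < 4477 → P i := stepQ 4476 Q4476 (allL N4476 (tt N2349 (iv D5244)) (tt N7297 D8195) (tt N2367 F4247) (tt N2418 F4248) (tt N2424 F4456))
theorem Q4478 : ∀ i, i < 4478 → P i := stepQ 4477 Q4477 (allL N4477 (tt N7298 D8196) (tt N2349 (iv D5245)) (tt N7299 D8197) (tt N3797 (iv F5751)) (tt N3499 (iv F4462)))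
theorem Q4479 : ∀ i, i < 4479 → P i := stepQ 4478 Q4478 (allL N4478 (tt N2413 F4249) (tt N3797 F5750) (tt N2350 F4250) (tt N2349 (iv D5246)) (tt N3796 (iv F5749)))
theorem Q4480 : ∀ i, i < 4480 → P i := stepQ 4479 Q4479 (allL N4479 (tt N2424 F4457) (tt N3499 F4458) (tt N7285 (iv F8923)) (tt N3395 F4459) (tt N2349 (iv D5247)))
theorem Q4481 : ∀ i, i < 4481 → P i := stepQ 4480 Q4480 (allL N4480 (tt N7300 D8198) (tt N2351 (iv D5248)) (tt N7301 D8199) (tt N5924 (iv F6540)) (tt N5730 F6184))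
theorem Q4482 : ∀ i, i < 4482 → P i := stepQ 4481 Q4481 (allL N4481 (tt N2409 F4251) (tt N5924 (iv F6539)) (tt N5651 (iv F6044)) (tt N2351 (iv D5249)) (tt N5923 F6534))
theorem Q4483 : ∀ i, i < 4483 → P i := stepQ 4482 Q4482 (allL N4482 (tt N2354 F4252) (tt N5730 (iv F6183)) (tt N6215 (iv F6977)) (tt N5653 (iv F6048)) (tt N2351 (iv D5250)))
theorem Q4484 : ∀ i, i < 4484 → P i := stepQ 4483 Q4483 (allL N4483 (tt N2352 (iv D5251)) (tt N7302 D8200) (tt N6703 (iv F7870)) (tt N7303 D8201) (tt N7304 D8202))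
theorem Q4485 : ∀ i, i < 4485 → P i := stepQ 4484 Q4484 (allL N4484 (tt N7305 D8203) (tt N2674 F4253) (tt N2352 (iv D5252)) (tt N7306 D8204) (tt N5443 (iv F5975)))
theorem Q4486 : ∀ i, i < 4486 → P i := stepQ 4485 Q4485 (allL N4485 (tt N7307 D8205) (tt N2353 F4254) (tt N7306 (iv F8959)) (tt N2352 (iv D5253)) (tt N7308 D8206))
theorem Q4487 : ∀ i, i < 4487 → P i := stepQ 4486 Q4486 (allL N4486 (tt N7304 (iv F8957)) (tt N2354 F4255) (tt N4486 F4446) (tt N2362 F4447) (tt N2352 (iv D5254)))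
theorem Q4488 : ∀ i, i < 4488 → P i := stepQ 4487 Q4487 (allL N4487 (tt N2353 (iv D5255)) (tt N7309 D8207) (tt N2789 (iv F4257)) (tt N2407 F4256) (tt N7310 D8208))
theorem Q4489 : ∀ i, i < 4489 → P i := stepQ 4488 Q4488 (allL N4488 (tt N7310 (iv F8968)) (tt N7308 (iv F8962)) (tt N7290 (iv F8934)) (tt N2364 F4449) (tt N2353 (iv D5256)))
theorem Q4490 : ∀ i, i < 4490 → P i := stepQ 4489 Q4489 (allL N4489 (tt N6661 (iv F7777)) (tt N2804 F4259) (tt N2356 (iv D5259)) (tt N7311 D8209) (tt N2911 F4260))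
theorem Q4491 : ∀ i, i < 4491 → P i := stepQ 4490 Q4490 (allL N4490 (tt N6664 (iv F7781)) (tt N2357 F4261) (tt N7311 (iv F8973)) (tt N2356 (iv D5260)) (tt N2916 (iv F5313)))
theorem Q4492 : ∀ i, i < 4492 → P i := stepQ 4491 Q4491 (allL N4491 (tt N2439 F4262) (tt N2916 F5306) (tt N3661 (iv F5304)) (tt N7310 (iv F8971)) (tt N2357 (iv D5261)))
theorem Q4493 : ∀ i, i < 4493 → P i := stepQ 4492 Q4492 (allL N4492 (tt N2410 F4443) (tt N2897 F4263) (tt N3665 F4264) (tt N2358 (iv D5262)) (tt N2407 F4444))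
theorem Q4494 : ∀ i, i < 4494 → P i := stepQ 4493 Q4493 (allL N4493 (tt N7312 D8210) (tt N6503 (iv F8084)) (tt N3008 F4265) (tt N2359 (iv D5263)) (tt N6389 (iv F8083)))
theorem Q4495 : ∀ i, i < 4495 → P i := stepQ 4494 Q4494 (allL N4494 (tt N7313 D8211) (tt N2676 F4266) (tt N2361 F4267) (tt N2360 (iv D5264)) (tt N7314 D8212))
theorem Q4496 : ∀ i, i < 4496 → P i := stepQ 4495 Q4495 (allL N4495 (tt N2361 (iv D5265)) (tt N7315 D8213) (tt N6710 (iv F7882)) (tt N7316 D8214) (tt N7317 D8215))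
theorem Q4497 : ∀ i, i < 4497 → P i := stepQ 4496 Q4496 (allL N4496 (tt N7317 (iv F8978)) (tt N2364 F4268) (tt N4496 F6538) (tt N7308 (iv F8963)) (tt N2361 (iv D5266)))
theorem Q4498 : ∀ i, i < 4498 → P i := stepQ 4497 Q4497 (allL N4497 (tt N7318 D8216) (tt N2363 (iv D5268)) (tt N7319 D8217) (tt N5652 (iv F6045)) (tt N5749 (iv F6537)))
theorem Q4499 : ∀ i, i < 4499 → P i := stepQ 4498 Q4498 (allL N4498 (tt N2364 F4271) (tt N5749 F6536) (tt N6209 (iv F6961)) (tt N5923 F6535) (tt N2363 (iv D5269)))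
theorem Q4500 : ∀ i, i < 4500 → P i := stepQ 4499 Q4499 (allL N4499 (tt N7320 D8218) (tt N2365 (iv D5274)) (tt N7321 D8219) (tt N3394 F4272) (tt N3526 F5752))
theorem Q4501 : ∀ i, i < 4501 → P i := stepQ 4500 Q4500 (allL N4500 (tt N2423 F4273) (tt N3526 (iv F5747)) (tt N7296 (iv F8947)) (tt N3796 F5748) (tt N2365 (iv D5275)))
theorem Q4502 : ∀ i, i < 4502 → P i := stepQ 4501 Q4501 (allL N4501 (tt N2375 F5290) (tt N3474 (iv F5292)) (tt N2366 (iv D5276)) (tt N3781 F4275) (tt N2374 F5291))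
theorem Q4503 : ∀ i, i < 4503 → P i := stepQ 4502 Q4502 (allL N4502 (tt N2789 F4278) (tt N6719 (iv F7899)) (tt N2418 F4277) (tt N2367 (iv D5280)) (tt N7322 D8220))
theorem Q4504 : ∀ i, i < 4504 → P i := stepQ 4503 Q4503 (allL N4503 (tt N5654 (iv F6054)) (tt N6720 (iv F7901)) (tt N2375 F5301) (tt N7322 (iv F8984)) (tt N2368 (iv D5281)))
theorem Q4505 : ∀ i, i < 4505 → P i := stepQ 4504 Q4504 (allL N4504 (tt N7323 D8221) (tt N2369 (iv D5282)) (tt N4241 F5006) (tt N7324 D8222) (tt N7325 D8223))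
theorem Q4506 : ∀ i, i < 4506 → P i := stepQ 4505 Q4505 (allL N4505 (tt N7267 (iv F8884)) (tt N7324 (iv F8987)) (tt N2370 F4279) (tt N2369 (iv D5283)) (tt N7326 D8224))
theorem Q4507 : ∀ i, i < 4507 → P i := stepQ 4506 Q4506 (allL N4506 (tt N6215 (iv F6975)) (tt N7325 (iv F8989)) (tt N2424 F4460) (tt N2373 F4461) (tt N2369 (iv D5284)))
theorem Q4508 : ∀ i, i < 4508 → P i := stepQ 4507 Q4507 (allL N4507 (tt N2387 F4280) (tt N6722 (iv F7905)) (tt N7322 (iv F8985)) (tt N2375 F4281) (tt N2370 (iv D5285)))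
theorem Q4509 : ∀ i, i < 4509 → P i := stepQ 4508 Q4508 (allL N4508 (tt N2371 (iv D5286)) (tt N3809 F4282) (tt N4228 F4283) (tt N7327 D8225) (tt N3807 F4284))
theorem Q4510 : ∀ i, i < 4510 → P i := stepQ 4509 Q4509 (allL N4509 (tt N7328 D8226) (tt N2372 F4285) (tt N4242 F4286) (tt N2371 (iv D5287)) (tt N7329 D8227))
theorem Q4511 : ∀ i, i < 4511 → P i := stepQ 4510 Q4510 (allL N4510 (tt N3807 F4287) (tt N2373 F4288) (tt N2422 F4289) (tt N7325 F8991) (tt N2371 (iv D5288)))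
theorem Q4512 : ∀ i, i < 4512 → P i := stepQ 4511 Q4511 (allL N4511 (tt N6209 F6964) (tt N7329 (iv F9001)) (tt N2423 F5302) (tt N7326 (iv F8994)) (tt N2372 (iv D5289)))
theorem Q4513 : ∀ i, i < 4513 → P i := stepQ 4512 Q4512 (allL N4512 (tt N2376 (iv D5293)) (tt N2531 F4293) (tt N2874 F4294) (tt N5119 (iv F5217)) (tt N7330 D8228))
theorem Q4514 : ∀ i, i < 4514 → P i := stepQ 4513 Q4513 (allL N4513 (tt N7330 (iv F9003)) (tt N3175 F4295) (tt N4921 (iv F4910)) (tt N4598 (iv F4396)) (tt N2376 (iv D5294)))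
theorem Q4515 : ∀ i, i < 4515 → P i := stepQ 4514 Q4514 (allL N4514 (tt N7331 D8229) (tt N5685 (iv F6108)) (tt N2377 (iv D5295)) (tt N7332 D8230) (tt N5582 (iv F5940)))
theorem Q4516 : ∀ i, i < 4516 → P i := stepQ 4515 Q4515 (allL N4515 (tt N4812 (iv F4714)) (tt N2382 F4296) (tt N7332 (iv F9007)) (tt N2377 (iv D5296)) (tt N5048 (iv F5788)))
theorem Q4517 : ∀ i, i < 4517 → P i := stepQ 4516 Q4516 (allL N4516 (tt N2378 (iv D5297)) (tt N2791 F4297) (tt N2566 F4298) (tt N7333 D8231) (tt N7334 D8232))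
theorem Q4518 : ∀ i, i < 4518 → P i := stepQ 4517 Q4517 (allL N4517 (tt N7334 (iv F9012)) (tt N2379 F4299) (tt N2583 F4300) (tt N7335 D8233) (tt N2378 (iv D5298)))
theorem Q4519 : ∀ i, i < 4519 → P i := stepQ 4518 Q4518 (allL N4518 (tt N5651 (iv F6042)) (tt N7335 (iv F9015)) (tt N2413 F4301) (tt N2379 (iv D5299)) (tt N5910 (iv F6508)))
theorem Q4520 : ∀ i, i < 4520 → P i := stepQ 4519 Q4519 (allL N4519 (tt N5650 (iv F6040)) (tt N7336 D8234) (tt N2380 (iv D5300)) (tt N2394 F4302) (tt N6214 (iv F6972)))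
theorem Q4521 : ∀ i, i < 4521 → P i := stepQ 4520 Q4520 (allL N4520 (tt N7337 D8235) (tt N2381 (iv D5301)) (tt N4855 (iv F4781)) (tt N7338 D8236) (tt N7339 D8237))
theorem Q4522 : ∀ i, i < 4522 → P i := stepQ 4521 Q4521 (allL N4521 (tt N6450 (iv F7431)) (tt N7338 (iv F9019)) (tt N2382 F4303) (tt N2381 (iv D5302)) (tt N6449 F7430))
theorem Q4523 : ∀ i, i < 4523 → P i := stepQ 4522 Q4522 (allL N4522 (tt N3665 F4426) (tt N7339 (iv F9021)) (tt N2414 F4304) (tt N6214 (iv F6973)) (tt N2381 (iv D5303)))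
theorem Q4524 : ∀ i, i < 4524 → P i := stepQ 4523 Q4523 (allL N4523 (tt N3781 F5285) (tt N5048 F5789) (tt N5910 (iv F6509)) (tt N2395 F4305) (tt N2382 (iv D5304)))
theorem Q4525 : ∀ i, i < 4525 → P i := stepQ 4524 Q4524 (allL N4524 (tt N7340 D8238) (tt N2383 (iv D5305)) (tt N7341 D8239) (tt N7342 D8240) (tt N7343 D8241))
theorem Q4526 : ∀ i, i < 4526 → P i := stepQ 4525 Q4525 (allL N4525 (tt N7284 (iv F8917)) (tt N7342 (iv F9022)) (tt N2405 F4306) (tt N2383 (iv D5306)) (tt N7344 D8242))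
theorem Q4527 : ∀ i, i < 4527 → P i := stepQ 4526 Q4526 (allL N4526 (tt N2386 F4307) (tt N7343 (iv F9023)) (tt N2410 F4308) (tt N7345 D8243) (tt N2383 (iv D5307)))
theorem Q4528 : ∀ i, i < 4528 → P i := stepQ 4527 Q4527 (allL N4527 (tt N2384 (iv D5308)) (tt N4628 (iv F4498)) (tt N7346 D8244) (tt N7347 D8245) (tt N3271 F4439))
theorem Q4529 : ∀ i, i < 4529 → P i := stepQ 4528 Q4528 (allL N4528 (tt N7348 D8246) (tt N3074 F4309) (tt N2384 (iv D5309)) (tt N7349 D8247) (tt N3265 (iv F4440)))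
theorem Q4530 : ∀ i, i < 4530 → P i := stepQ 4529 Q4529 (allL N4529 (tt N7350 D8248) (tt N2385 F4310) (tt N7349 (iv F9035)) (tt N2384 (iv D5310)) (tt N3270 (iv F5738)))
theorem Q4531 : ∀ i, i < 4531 → P i := stepQ 4530 Q4530 (allL N4530 (tt N7290 (iv F8933)) (tt N3270 F5739) (tt N2419 F5288) (tt N2392 F4442) (tt N2385 (iv D5312)))
theorem Q4532 : ∀ i, i < 4532 → P i := stepQ 4531 Q4531 (allL N4531 (tt N5331 (iv F5531)) (tt N4393 F4314) (tt N2388 (iv D5315)) (tt N7351 D8249) (tt N3297 F4315))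
theorem Q4533 : ∀ i, i < 4533 → P i := stepQ 4532 Q4532 (allL N4532 (tt N6925 (iv F8258)) (tt N4338 (iv F6327)) (tt N7351 (iv F9041)) (tt N2388 (iv D5316)) (tt N4336 F6326))
theorem Q4534 : ∀ i, i < 4534 → P i := stepQ 4533 Q4533 (allL N4533 (tt N2389 (iv D5317)) (tt N4114 F4319) (tt N3289 F4318) (tt N7352 D8250) (tt N3280 F4317))
theorem Q4535 : ∀ i, i < 4535 → P i := stepQ 4534 Q4534 (allL N4534 (tt N7353 D8251) (tt N3079 F4320) (tt N2390 F4321) (tt N2389 (iv D5318)) (tt N3303 (iv F5737)))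
theorem Q4536 : ∀ i, i < 4536 → P i := stepQ 4535 Q4535 (allL N4535 (tt N2390 (iv D5319)) (tt N4719 (iv F5305)) (tt N7354 D8252) (tt N7355 D8253) (tt N3311 (iv F5736)))
theorem Q4537 : ∀ i, i < 4537 → P i := stepQ 4536 Q4536 (allL N4536 (tt N7356 D8254) (tt N2391 (iv D5321)) (tt N7357 D8255) (tt N7358 D8256) (tt N7359 D8257))
theorem Q4538 : ∀ i, i < 4538 → P i := stepQ 4537 Q4537 (allL N4537 (tt N3393 F4323) (tt N7358 (iv F9050)) (tt N2404 F4324) (tt N2391 (iv D5322)) (tt N7345 (iv F9029)))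
theorem Q4539 : ∀ i, i < 4539 → P i := stepQ 4538 Q4538 (allL N4538 (tt N2392 F4325) (tt N7359 (iv F9051)) (tt N2439 F5286) (tt N7344 (iv F9026)) (tt N2391 (iv D5323)))
theorem Q4540 : ∀ i, i < 4540 → P i := stepQ 4539 Q4539 (allL N4539 (tt N2393 (iv D5328)) (tt N3084 F4327) (tt N7360 D8258) (tt N5933 (iv F6559)) (tt N6455 F7443))
theorem Q4541 : ∀ i, i < 4541 → P i := stepQ 4540 Q4540 (allL N4540 (tt N7361 D8259) (tt N5905 (iv F6482)) (tt N2393 (iv D5329)) (tt N4807 (iv F4711)) (tt N5601 (iv F5981)))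
theorem Q4542 : ∀ i, i < 4542 → P i := stepQ 4541 Q4541 (allL N4541 (tt N6455 (iv F7441)) (tt N2395 F4328) (tt N7362 D8260) (tt N5048 F5790) (tt N2393 (iv D5330)))
theorem Q4543 : ∀ i, i < 4543 → P i := stepQ 4542 Q4542 (allL N4542 (tt N7363 D8261) (tt N2394 (iv D5331)) (tt N5042 F5109) (tt N7336 (iv F9018)) (tt N7364 D8262))
theorem Q4544 : ∀ i, i < 4544 → P i := stepQ 4543 Q4543 (allL N4543 (tt N3661 (iv F5110)) (tt N7364 (iv F9056)) (tt N2434 F5303) (tt N6449 (iv F7429)) (tt N2394 (iv D5332)))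
theorem Q4545 : ∀ i, i < 4545 → P i := stepQ 4544 Q4544 (allL N4544 (tt N2790 F5283) (tt N7365 D8263) (tt N2395 (iv D5333)) (tt N5910 (iv F6510)) (tt N2432 F5284))
theorem Q4546 : ∀ i, i < 4546 → P i := stepQ 4545 Q4545 (allL N4545 (tt N6908 (iv F8241)) (tt N2444 F4329) (tt N6965 (iv F8317)) (tt N2435 F4330) (tt N2396 (iv D5337)))
theorem Q4547 : ∀ i, i < 4547 → P i := stepQ 4546 Q4546 (allL N4546 (tt N4792 (iv F4692)) (tt N3532 (iv F4332)) (tt N2397 (iv D5338)) (tt N7041 (iv F8454)) (tt N3531 F4331))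
theorem Q4548 : ∀ i, i < 4548 → P i := stepQ 4547 Q4547 (allL N4547 (tt N6910 (iv F8245)) (tt N2446 F4333) (tt N7041 F8455) (tt N2397 (iv D5339)) (tt N7366 D8264))
theorem Q4549 : ∀ i, i < 4549 → P i := stepQ 4548 Q4548 (allL N4548 (tt N2399 (iv D5340)) (tt N4961 (iv F4973)) (tt N2815 F4334) (tt N4955 (iv F4962)) (tt N4891 (iv F4815)))
theorem Q4550 : ∀ i, i < 4550 → P i := stepQ 4549 Q4549 (allL N4549 (tt N7154 (iv F8688)) (tt N2411 F4335) (tt N2437 F4336) (tt N2437 F4337) (tt N2400 (iv D5341)))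
theorem Q4551 : ∀ i, i < 4551 → P i := stepQ 4550 Q4550 (allL N4550 (tt N2864 F4338) (tt N2401 (iv D5342)) (tt N2519 F4339) (tt N3888 (iv F4340)) (tt N7367 D8265))
theorem Q4552 : ∀ i, i < 4552 → P i := stepQ 4551 Q4551 (allL N4551 (tt N4154 F4343) (tt N3888 F4341) (tt N3444 F4342) (tt N2401 (iv D5343)) (tt N7368 D8266))
theorem Q4553 : ∀ i, i < 4553 → P i := stepQ 4552 Q4552 (allL N4552 (tt N2403 F4344) (tt N7367 (iv F9064)) (tt N6137 (iv F6865)) (tt N7369 D8267) (tt N2401 (iv D5344)))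
theorem Q4554 : ∀ i, i < 4554 → P i := stepQ 4553 Q4553 (allL N4553 (tt N3103 F4345) (tt N2404 F4346) (tt N4896 (iv F4831)) (tt N7269 (iv F8892)) (tt N2402 (iv D5345)))
theorem Q4555 : ∀ i, i < 4555 → P i := stepQ 4554 Q4554 (allL N4554 (tt N3106 F4347) (tt N4897 (iv F4832)) (tt N2403 (iv D5346)) (tt N5000 F5034) (tt N4895 (iv F4828)))
theorem Q4556 : ∀ i, i < 4556 → P i := stepQ 4555 Q4555 (allL N4555 (tt N6422 (iv F7397)) (tt N2405 F4348) (tt N5000 (iv F5035)) (tt N2403 (iv D5347)) (tt N7370 D8268))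
theorem Q4557 : ∀ i, i < 4557 → P i := stepQ 4556 Q4556 (allL N4556 (tt N5911 (iv F6511)) (tt N7370 (iv F9068)) (tt N2411 F5311) (tt N2440 F5312) (tt N2405 (iv D5348)))
theorem Q4558 : ∀ i, i < 4558 → P i := stepQ 4557 Q4557 (allL N4557 (tt N5571 (iv F5924)) (tt N2406 (iv D5349)) (tt N4902 (iv F4872)) (tt N2438 F4349) (tt N7371 D8269))
theorem Q4559 : ∀ i, i < 4559 → P i := stepQ 4558 Q4558 (allL N4558 (tt N5653 (iv F6047)) (tt N7371 (iv F9072)) (tt N7345 (iv F9028)) (tt N2410 F4453) (tt N2406 (iv D5350)))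
theorem Q4560 : ∀ i, i < 4560 → P i := stepQ 4559 Q4559 (allL N4559 (tt N6657 (iv F7771)) (tt N2407 (iv D5351)) (tt N7372 D8270) (tt N7309 (iv F8965)) (tt N2897 F4450))
theorem Q4561 : ∀ i, i < 4561 → P i := stepQ 4560 Q4560 (allL N4560 (tt N2408 (iv D5353)) (tt N7373 D8271) (tt N6058 (iv F6768)) (tt N7374 D8272) (tt N7375 D8273))
theorem Q4562 : ∀ i, i < 4562 → P i := stepQ 4561 Q4561 (allL N4561 (tt N5568 (iv F5921)) (tt N4900 (iv F4860)) (tt N2408 (iv D5354)) (tt N5002 (iv F5040)) (tt N5566 (iv F5919)))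
theorem Q4563 : ∀ i, i < 4563 → P i := stepQ 4562 Q4562 (allL N4562 (tt N5618 F6769) (tt N2409 F4351) (tt N5002 (iv F5039)) (tt N2408 (iv D5355)) (tt N7376 D8274))
theorem Q4564 : ∀ i, i < 4564 → P i := stepQ 4563 Q4563 (allL N4563 (tt N7375 (iv F9079)) (tt N2410 F4352) (tt N7371 (iv F9073)) (tt N7371 F9074) (tt N2408 (iv D5356)))
theorem Q4565 : ∀ i, i < 4565 → P i := stepQ 4564 Q4564 (allL N4564 (tt N5923 (iv F6533)) (tt N7376 (iv F9081)) (tt N7344 (iv F9025)) (tt N2439 F4454) (tt N2409 (iv D5357)))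
theorem Q4566 : ∀ i, i < 4566 → P i := stepQ 4565 Q4565 (allL N4565 (tt N2412 (iv D5360)) (tt N7377 D8275) (tt N3375 F4775) (tt N7378 D8276) (tt N7379 D8277))
theorem Q4567 : ∀ i, i < 4567 → P i := stepQ 4566 Q4566 (allL N4566 (tt N7380 D8278) (tt N6188 (iv F6920)) (tt N2412 (iv D5361)) (tt N7381 D8279) (tt N4905 (iv F4880)))
theorem Q4568 : ∀ i, i < 4568 → P i := stepQ 4567 Q4567 (allL N4567 (tt N2728 (iv F4776)) (tt N2413 F4354) (tt N7381 (iv F9090)) (tt N2412 (iv D5362)) (tt N7382 D8280))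
theorem Q4569 : ∀ i, i < 4569 → P i := stepQ 4568 Q4568 (allL N4568 (tt N7379 (iv F9087)) (tt N2414 F4355) (tt N7383 D8281) (tt N7384 D8282) (tt N2412 (iv D5363)))
theorem Q4570 : ∀ i, i < 4570 → P i := stepQ 4569 Q4569 (allL N4569 (tt N3796 (iv F5746)) (tt N7382 (iv F9093)) (tt N6449 (iv F7428)) (tt N2434 F4455) (tt N2413 (iv D5364)))
theorem Q4571 : ∀ i, i < 4571 → P i := stepQ 4570 Q4570 (allL N4570 (tt N3395 F4427) (tt N7384 (iv F9099)) (tt N6214 (iv F6974)) (tt N2414 (iv D5365)) (tt N2433 F4428))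
theorem Q4572 : ∀ i, i < 4572 → P i := stepQ 4571 Q4571 (allL N4571 (tt N7377 (iv F9084)) (tt N2415 (iv D5366)) (tt N5498 (iv F5826)) (tt N7385 D8283) (tt N3607 F4467))
theorem Q4573 : ∀ i, i < 4573 → P i := stepQ 4572 Q4572 (allL N4572 (tt N3949 F4356) (tt N6068 (iv F6780)) (tt N2415 (iv D5367)) (tt N6800 (iv F8045)) (tt N3591 F4464))
theorem Q4574 : ∀ i, i < 4574 → P i := stepQ 4573 Q4573 (allL N4573 (tt N4168 F4357) (tt N7385 (iv F9103)) (tt N6800 F8047) (tt N2415 (iv D5368)) (tt N3741 (iv F5742)))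
theorem Q4575 : ∀ i, i < 4575 → P i := stepQ 4574 Q4574 (allL N4574 (tt N2416 (iv D5370)) (tt N7386 D8284) (tt N3582 (iv F4466)) (tt N7387 D8285) (tt N3573 F4463))
theorem Q4576 : ∀ i, i < 4576 → P i := stepQ 4575 Q4575 (allL N4575 (tt N7388 D8286) (tt N2490 F4359) (tt N2417 F4360) (tt N2416 (iv D5371)) (tt N3597 (iv F5741)))
theorem Q4577 : ∀ i, i < 4577 → P i := stepQ 4576 Q4576 (allL N4576 (tt N2417 (iv D5373)) (tt N7389 D8287) (tt N7390 D8288) (tt N3743 F4469) (tt N3606 (iv F5726)))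
theorem Q4578 : ∀ i, i < 4578 → P i := stepQ 4577 Q4577 (allL N4577 (tt N4217 F8525) (tt N2418 (iv D5377)) (tt N7391 D8289) (tt N7297 (iv F8950)) (tt N7392 D8290))
theorem Q4579 : ∀ i, i < 4579 → P i := stepQ 4578 Q4578 (allL N4578 (tt N2419 F4364) (tt N7392 (iv F9124)) (tt N7326 (iv F8993)) (tt N2423 F4432) (tt N2418 (iv D5378)))
theorem Q4580 : ∀ i, i < 4580 → P i := stepQ 4579 Q4579 (allL N4579 (tt N2420 (iv D5385)) (tt N3922 F4366) (tt N4236 F4367) (tt N7393 D8291) (tt N3920 F4368))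
theorem Q4581 : ∀ i, i < 4581 → P i := stepQ 4580 Q4580 (allL N4580 (tt N7394 D8292) (tt N4986 (iv F5002)) (tt N2421 F4369) (tt N2420 (iv D5386)) (tt N7395 D8293))
theorem Q4582 : ∀ i, i < 4582 → P i := stepQ 4581 Q4581 (allL N4581 (tt N2421 (iv D5387)) (tt N7396 D8294) (tt N4239 F4370) (tt N7397 D8295) (tt N7398 D8296))
theorem Q4583 : ∀ i, i < 4583 → P i := stepQ 4582 Q4582 (allL N4582 (tt N7398 (iv F9136)) (tt N2423 F4371) (tt N7329 (iv F9002)) (tt N7392 (iv F9125)) (tt N2421 (iv D5388)))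
theorem Q4584 : ∀ i, i < 4584 → P i := stepQ 4583 Q4583 (allL N4583 (tt N7399 D8297) (tt N2424 F4372) (tt N7325 (iv F8990)) (tt N2422 (iv D5389)) (tt N7297 (iv F8951)))
theorem Q4585 : ∀ i, i < 4585 → P i := stepQ 4584 Q4584 (allL N4584 (tt N7400 D8298) (tt N2427 F4378) (tt N5469 (iv F5770)) (tt N2425 (iv D5394)) (tt N5461 (iv F5720)))
theorem Q4586 : ∀ i, i < 4586 → P i := stepQ 4585 Q4585 (allL N4585 (tt N6795 (iv F8032)) (tt N3046 F4379) (tt N2427 F4380) (tt N2426 (iv D5395)) (tt N3044 (iv F4381)))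
theorem Q4587 : ∀ i, i < 4587 → P i := stepQ 4586 Q4586 (allL N4586 (tt N2427 (iv D5396)) (tt N4166 F4383) (tt N7401 D8299) (tt N4432 F4382) (tt N3698 (iv F5722)))
theorem Q4588 : ∀ i, i < 4588 → P i := stepQ 4587 Q4587 (allL N4587 (tt N3698 (iv F5721)) (tt N5461 F5719) (tt N3716 F5724) (tt N3606 F5723) (tt N2427 (iv D5397)))
theorem Q4589 : ∀ i, i < 4589 → P i := stepQ 4588 Q4588 (allL N4588 (tt N4307 F4384) (tt N2428 (iv D5398)) (tt N5392 (iv F5623)) (tt N7402 D8300) (tt N3690 F4385))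
theorem Q4590 : ∀ i, i < 4590 → P i := stepQ 4589 Q4589 (allL N4589 (tt N7401 (iv F9145)) (tt N7402 (iv F9149)) (tt N3701 (iv F7119)) (tt N2428 (iv D5399)) (tt N3689 F7118))
theorem Q4591 : ∀ i, i < 4591 → P i := stepQ 4590 Q4590 (allL N4590 (tt N2429 (iv D5400)) (tt N7403 D8301) (tt N3739 (iv F5760)) (tt N7404 D8302) (tt N3727 F5753))
theorem Q4592 : ∀ i, i < 4592 → P i := stepQ 4591 Q4591 (allL N4591 (tt N7405 D8303) (tt N2430 (iv D5402)) (tt N5536 (iv F5874)) (tt N7406 D8304) (tt N3740 F5761))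
theorem Q4593 : ∀ i, i < 4593 → P i := stepQ 4592 Q4592 (allL N4592 (tt N3953 F4388) (tt N7407 D8305) (tt N2430 (iv D5403)) (tt N6879 (iv F8162)) (tt N3726 F5754))
theorem Q4594 : ∀ i, i < 4594 → P i := stepQ 4593 Q4593 (allL N4593 (tt N4432 F4389) (tt N7406 (iv F9157)) (tt N6879 (iv F8163)) (tt N2430 (iv D5404)) (tt N3608 F4390))
theorem Q4595 : ∀ i, i < 4595 → P i := stepQ 4594 Q4594 (allL N4594 (tt N2431 (iv D5408)) (tt N7405 (iv F9155)) (tt N3769 (iv F5756)) (tt N7408 D8306) (tt N7409 D8307))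
theorem Q4596 : ∀ i, i < 4596 → P i := stepQ 4595 Q4595 (allL N4595 (tt N7410 D8308) (tt N6440 (iv F7421)) (tt N2431 (iv D5409)) (tt N7411 D8309) (tt N4990 F5755))
theorem Q4597 : ∀ i, i < 4597 → P i := stepQ 4596 Q4596 (allL N4596 (tt N2603 F5757) (tt N2433 F4394) (tt N7411 (iv F9166)) (tt N2431 (iv D5410)) (tt N7384 (iv F9101)))
theorem Q4598 : ∀ i, i < 4598 → P i := stepQ 4597 Q4597 (allL N4597 (tt N7409 (iv F9163)) (tt N2434 F4395) (tt N7412 D8310) (tt N7382 F9095) (tt N2431 (iv D5411)))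
theorem Q4599 : ∀ i, i < 4599 → P i := stepQ 4598 Q4598 (allL N4598 (tt N7413 D8311) (tt N2432 (iv D5412)) (tt N6668 (iv F7798)) (tt N4513 F4396) (tt N7365 (iv F9059)))
theorem Q4600 : ∀ i, i < 4600 → P i := stepQ 4599 Q4599 (allL N4599 (tt N7414 D8312) (tt N3746 (iv F4409)) (tt N2435 (iv D5426)) (tt N6965 F8318) (tt N3745 F4408))
theorem Q4601 : ∀ i, i < 4601 → P i := stepQ 4600 Q4600 (allL N4600 (tt N2437 F4410) (tt N2509 F4411) (tt N5898 F6468) (tt N7366 (iv F9062)) (tt N2435 (iv D5427)))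
theorem Q4602 : ∀ i, i < 4602 → P i := stepQ 4601 Q4601 (allL N4601 (tt N2436 (iv D5428)) (tt N4959 (iv F4970)) (tt N3955 F4412) (tt N4968 (iv F4978)) (tt N4954 F4960))
theorem Q4603 : ∀ i, i < 4603 → P i := stepQ 4602 Q4602 (allL N4602 (tt N2438 (iv D5429)) (tt N7415 D8313) (tt N7416 D8314) (tt N7417 D8315) (tt N7418 D8316))
theorem Q4604 : ∀ i, i < 4604 → P i := stepQ 4603 Q4603 (allL N4603 (tt N5617 (iv F6001)) (tt N4903 (iv F4874)) (tt N2438 (iv D5430)) (tt N4902 F4873) (tt N5616 (iv F6000)))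
theorem Q4605 : ∀ i, i < 4605 → P i := stepQ 4604 Q4604 (allL N4604 (tt N7418 (iv F9177)) (tt N2439 F4413) (tt N7376 (iv F9083)) (tt N7376 (iv F9082)) (tt N2438 (iv D5431)))
theorem Q4606 : ∀ i, i < 4606 → P i := stepQ 4605 Q4605 (allL N4605 (tt N7419 D8317) (tt N2440 (iv D5434)) (tt N7370 (iv F9070)) (tt N7370 (iv F9069)) (tt N7269 (iv F8893)))
theorem Q4607 : ∀ i, i < 4607 → P i := stepQ 4606 Q4606 (allL N4606 (tt N2442 F4419) (tt N2518 F4420) (tt N7420 D8318) (tt N4770 (iv F4649)) (tt N2441 (iv D5440)))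
theorem Q4608 : ∀ i, i < 4608 → P i := stepQ 4607 Q4607 (allL N4607 (tt N2454 F4421) (tt N7421 D8319) (tt N2442 (iv D5441)) (tt N6558 (iv F7591)) (tt N7422 D8320))
theorem Q4609 : ∀ i, i < 4609 → P i := stepQ 4608 Q4608 (allL N4608 (tt N2444 F4470) (tt N3401 F4471) (tt N7423 D8321) (tt N3412 F4472) (tt N2443 (iv D5442)))
theorem Q4610 : ∀ i, i < 4610 → P i := stepQ 4609 Q4609 (allL N4609 (tt N6537 (iv F7568)) (tt N7424 D8322) (tt N2444 (iv D5443)) (tt N2508 F4473) (tt N7425 D8323))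
theorem Q4611 : ∀ i, i < 4611 → P i := stepQ 4610 Q4610 (allL N4610 (tt N2445 (iv D5444)) (tt N7426 D8324) (tt N5136 (iv F5247)) (tt N7427 D8325) (tt N7428 D8326))
theorem Q4612 : ∀ i, i < 4612 → P i := stepQ 4611 Q4611 (allL N4611 (tt N7429 D8327) (tt N2445 (iv D5445)) (tt N7430 D8328) (tt N7431 D8329) (tt N7432 D8330))
theorem Q4613 : ∀ i, i < 4613 → P i := stepQ 4612 Q4612 (allL N4612 (tt N7433 D8331) (tt N7431 (iv F9195)) (tt N2446 F4474) (tt N2445 (iv D5446)) (tt N7434 D8332))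
theorem Q4614 : ∀ i, i < 4614 → P i := stepQ 4613 Q4613 (allL N4613 (tt N7428 (iv F9191)) (tt N7432 (iv F9196)) (tt N7422 (iv F9184)) (tt N7425 (iv F12309)) (tt N2445 (iv D5447)))
theorem Q4615 : ∀ i, i < 4615 → P i := stepQ 4614 Q4614 (allL N4614 (tt N2446 (iv D5448)) (tt N3403 (iv F4476)) (tt N7435 D8334) (tt N3397 F4475) (tt N7436 D8335))
theorem Q4616 : ∀ i, i < 4616 → P i := stepQ 4615 Q4615 (allL N4615 (tt N7436 (iv F9200)) (tt N7366 (iv F9060)) (tt N6559 F7594) (tt N2509 F4477) (tt N2446 (iv D5449)))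
theorem Q4617 : ∀ i, i < 4617 → P i := stepQ 4616 Q4616 (allL N4616 (tt N7420 (iv F9178)) (tt N3666 F4478) (tt N2447 (iv D5450)) (tt N6560 F7596) (tt N7437 D8336))
theorem Q4618 : ∀ i, i < 4618 → P i := stepQ 4617 Q4617 (allL N4617 (tt N2451 F4479) (tt N3056 F4480) (tt N4760 (iv F4631)) (tt N4327 F4481) (tt N2448 (iv D5451)))
theorem Q4619 : ∀ i, i < 4619 → P i := stepQ 4618 Q4618 (allL N4618 (tt N4755 (iv F4624)) (tt N2469 F4482) (tt N7438 D8337) (tt N6499 (iv F7509)) (tt N2449 (iv D5452)))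
theorem Q4620 : ∀ i, i < 4620 → P i := stepQ 4619 Q4619 (allL N4619 (tt N3031 F4483) (tt N2453 F4484) (tt N6501 (iv F7513)) (tt N7439 D8338) (tt N2450 (iv D5453)))
theorem Q4621 : ∀ i, i < 4621 → P i := stepQ 4620 Q4620 (allL N4620 (tt N4756 (iv F4627)) (tt N5750 (iv F6220)) (tt N2451 (iv D5454)) (tt N6505 (iv F7519)) (tt N7440 D8339))
theorem Q4622 : ∀ i, i < 4622 → P i := stepQ 4621 Q4621 (allL N4621 (tt N3032 F4485) (tt N2455 F4486) (tt N6505 (iv F7518)) (tt N2451 (iv D5455)) (tt N7441 D8340))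
theorem Q4623 : ∀ i, i < 4623 → P i := stepQ 4622 Q4622 (allL N4622 (tt N4765 (iv F4639)) (tt N3182 (iv F4487)) (tt N2452 (iv D5456)) (tt N3180 F4488) (tt N7442 D8341))
theorem Q4624 : ∀ i, i < 4624 → P i := stepQ 4623 Q4623 (allL N4623 (tt N3396 F4492) (tt N4623 F4493) (tt N3180 F4494) (tt N2452 (iv D5457)) (tt N7443 D8342))
theorem Q4625 : ∀ i, i < 4625 → P i := stepQ 4624 Q4624 (allL N4624 (tt N2453 F4495) (tt N4624 F4496) (tt N7444 D8343) (tt N7445 D8344) (tt N2452 (iv D5458)))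
theorem Q4626 : ∀ i, i < 4626 → P i := stepQ 4625 Q4625 (allL N4625 (tt N7446 D8345) (tt N5872 (iv F6441)) (tt N2453 (iv D5459)) (tt N5871 (iv F6442)) (tt N7447 D8346))
theorem Q4627 : ∀ i, i < 4627 → P i := stepQ 4626 Q4626 (allL N4626 (tt N7139 (iv F8656)) (tt N7439 (iv F9211)) (tt N5871 F6443) (tt N2453 (iv D5460)) (tt N2513 F6444))
theorem Q4628 : ∀ i, i < 4628 → P i := stepQ 4627 Q4627 (allL N4627 (tt N7448 D8347) (tt N5815 (iv F6333)) (tt N2455 F4497) (tt N2454 (iv D5461)) (tt N7449 D8348))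
theorem Q4629 : ∀ i, i < 4629 → P i := stepQ 4628 Q4628 (allL N4628 (tt N7422 (iv F9182)) (tt N4527 F4498) (tt N2462 F4499) (tt N7447 F9228) (tt N2454 (iv D5462)))
theorem Q4630 : ∀ i, i < 4630 → P i := stepQ 4629 Q4629 (allL N4629 (tt N2455 (iv D5463)) (tt N4629 F4500) (tt N7450 D8349) (tt N7443 (iv F9223)) (tt N7451 D8350))
theorem Q4631 : ∀ i, i < 4631 → P i := stepQ 4630 Q4630 (allL N4630 (tt N7451 (iv F9235)) (tt N7441 (iv F9216)) (tt N2464 F6445) (tt N2513 F6446) (tt N2455 (iv D5464)))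
theorem Q4632 : ∀ i, i < 4632 → P i := stepQ 4631 Q4631 (allL N4631 (tt N4766 (iv F4641)) (tt N2923 F4501) (tt N7446 (iv F9225)) (tt N6545 (iv F7575)) (tt N2456 (iv D5465)))
theorem Q4633 : ∀ i, i < 4633 → P i := stepQ 4632 Q4632 (allL N4632 (tt N7452 D8351) (tt N7453 D8352) (tt N2457 (iv D5466)) (tt N7265 (iv F8880)) (tt N7454 D8353))
theorem Q4634 : ∀ i, i < 4634 → P i := stepQ 4633 Q4633 (allL N4633 (tt N2458 (iv D5467)) (tt N7455 D8354) (tt N7442 (iv F9219)) (tt N7456 D8355) (tt N7457 D8356))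
theorem Q4635 : ∀ i, i < 4635 → P i := stepQ 4634 Q4634 (allL N4634 (tt N4371 F4503) (tt N2458 (iv D5468)) (tt N7458 D8357) (tt N2511 F4502) (tt N7459 D8358))
theorem Q4636 : ∀ i, i < 4636 → P i := stepQ 4635 Q4635 (allL N4635 (tt N7457 (iv F9242)) (tt N7459 (iv F9247)) (tt N7447 (iv F9227)) (tt N2462 F9229) (tt N2458 (iv D5469)))
theorem Q4637 : ∀ i, i < 4637 → P i := stepQ 4636 Q4636 (allL N4636 (tt N6020 (iv F6717)) (tt N2459 (iv D5470)) (tt N6184 (iv F6917)) (tt N4962 (iv F6718)) (tt N7460 D8359))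
theorem Q4638 : ∀ i, i < 4638 → P i := stepQ 4637 Q4637 (allL N4637 (tt N7435 (iv F9199)) (tt N4962 F6719) (tt N5138 (iv F5253)) (tt N2459 (iv D5471)) (tt N7461 D8360))
theorem Q4639 : ∀ i, i < 4639 → P i := stepQ 4638 Q4638 (allL N4638 (tt N2462 F4504) (tt N7460 (iv F9249)) (tt N7437 (iv F9204)) (tt N7462 D8361) (tt N2459 (iv D5472)))
theorem Q4640 : ∀ i, i < 4640 → P i := stepQ 4639 Q4639 (allL N4639 (tt N2460 (iv D5473)) (tt N5498 (iv F5825)) (tt N4828 (iv F6121)) (tt N4361 F4505) (tt N5496 F5823))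
theorem Q4641 : ∀ i, i < 4641 → P i := stepQ 4640 Q4640 (allL N4640 (tt N7463 D8362) (tt N2477 F4506) (tt N2460 (iv D5474)) (tt N7464 D8363) (tt N5739 (iv F6204)))
theorem Q4642 : ∀ i, i < 4642 → P i := stepQ 4641 Q4641 (allL N4641 (tt N5593 F6123) (tt N2461 F4507) (tt N7464 (iv F9257)) (tt N2460 (iv D5475)) (tt N7465 D8364))
theorem Q4643 : ∀ i, i < 4643 → P i := stepQ 4642 Q4642 (allL N4642 (tt N5496 (iv F5822)) (tt N2462 F4508) (tt N7466 D8365) (tt N7459 (iv F9248)) (tt N2460 (iv D5476)))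
theorem Q4644 : ∀ i, i < 4644 → P i := stepQ 4643 Q4643 (allL N4643 (tt N2461 (iv D5477)) (tt N7467 D8366) (tt N7468 D8367) (tt N7469 D8368) (tt N7470 D8369))
theorem Q4645 : ∀ i, i < 4645 → P i := stepQ 4644 Q4644 (allL N4644 (tt N7470 (iv F9269)) (tt N7465 (iv F9259)) (tt N7449 (iv F9233)) (tt N2512 F9230) (tt N2461 (iv D5478)))
theorem Q4646 : ∀ i, i < 4646 → P i := stepQ 4645 Q4645 (allL N4645 (tt N7427 (iv F9190)) (tt N7471 D8370) (tt N2463 (iv D5480)) (tt N7254 (iv F8848)) (tt N7472 D8371))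
theorem Q4647 : ∀ i, i < 4647 → P i := stepQ 4646 Q4646 (allL N4646 (tt N2464 F4509) (tt N7257 (iv F8855)) (tt N7473 D8372) (tt N7266 (iv F8883)) (tt N2463 (iv D5481)))
theorem Q4648 : ∀ i, i < 4648 → P i := stepQ 4647 Q4647 (allL N4647 (tt N3217 F4511) (tt N3442 F4512) (tt N2466 F4513) (tt N2465 (iv D5483)) (tt N7474 D8373))
theorem Q4649 : ∀ i, i < 4649 → P i := stepQ 4648 Q4648 (allL N4648 (tt N3208 F4514) (tt N3443 F4515) (tt N7475 D8374) (tt N7476 D8375) (tt N2465 (iv D5484)))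
theorem Q4650 : ∀ i, i < 4650 → P i := stepQ 4649 Q4649 (allL N4649 (tt N5991 (iv F6661)) (tt N5927 (iv F6545)) (tt N7477 D8376) (tt N2707 F4516) (tt N2466 (iv D5485)))
theorem Q4651 : ∀ i, i < 4651 → P i := stepQ 4650 Q4650 (allL N4650 (tt N3211 F4517) (tt N3507 (iv F4518)) (tt N2467 (iv D5486)) (tt N7478 D8377) (tt N7479 D8378))
theorem Q4652 : ∀ i, i < 4652 → P i := stepQ 4651 Q4651 (allL N4651 (tt N6023 (iv F6722)) (tt N5928 (iv F6548)) (tt N7478 (iv F9282)) (tt N2467 (iv D5487)) (tt N7480 D8379))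
theorem Q4653 : ∀ i, i < 4653 → P i := stepQ 4652 Q4652 (allL N4652 (tt N2468 (iv D5488)) (tt N6911 (iv F8247)) (tt N3209 F4519) (tt N6547 (iv F7581)) (tt N7481 D8380))
theorem Q4654 : ∀ i, i < 4654 → P i := stepQ 4653 Q4653 (allL N4653 (tt N7481 (iv F9286)) (tt N6494 (iv F7499)) (tt N7482 D8381) (tt N7483 D8382) (tt N2468 (iv D5489)))
theorem Q4655 : ∀ i, i < 4655 → P i := stepQ 4654 Q4654 (allL N4654 (tt N7475 (iv F9274)) (tt N5803 F9208) (tt N2469 (iv D5490)) (tt N7484 D8383) (tt N7485 D8384))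
theorem Q4656 : ∀ i, i < 4656 → P i := stepQ 4655 Q4655 (allL N4655 (tt N7486 D8385) (tt N6499 F7510) (tt N7484 (iv F9290)) (tt N2469 (iv D5491)) (tt N7487 D8386))
theorem Q4657 : ∀ i, i < 4657 → P i := stepQ 4656 Q4656 (allL N4656 (tt N7488 D8387) (tt N6626 (iv F7711)) (tt N2470 (iv D5492)) (tt N2708 F4520) (tt N7489 D8388))
theorem Q4658 : ∀ i, i < 4658 → P i := stepQ 4657 Q4657 (allL N4657 (tt N4782 (iv F4671)) (tt N2471 (iv D5493)) (tt N2609 F4521) (tt N7490 D8389) (tt N7466 (iv F9261)))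
theorem Q4659 : ∀ i, i < 4659 → P i := stepQ 4658 Q4658 (allL N4658 (tt N7491 D8390) (tt N7490 (iv F9298)) (tt N2472 F4522) (tt N2471 (iv D5494)) (tt N7492 D8391))
theorem Q4660 : ∀ i, i < 4660 → P i := stepQ 4659 Q4659 (allL N4659 (tt N3222 F4523) (tt N7466 (iv F9263)) (tt N7485 (iv F9293)) (tt N7489 (iv F9297)) (tt N2471 (iv D5495)))
theorem Q4661 : ∀ i, i < 4661 → P i := stepQ 4660 Q4660 (allL N4660 (tt N6813 (iv F8075)) (tt N2473 F4524) (tt N7487 (iv F9295)) (tt N2517 F4525) (tt N2472 (iv D5496)))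
theorem Q4662 : ∀ i, i < 4662 → P i := stepQ 4661 Q4661 (allL N4661 (tt N2474 (iv D5497)) (tt N4086 F4526) (tt N5426 F5672) (tt N4090 (iv F4528)) (tt N4085 F4527))
theorem Q4663 : ∀ i, i < 4663 → P i := stepQ 4662 Q4662 (allL N4662 (tt N7493 D8392) (tt N7458 (iv F9243)) (tt N2474 (iv D5498)) (tt N2515 F4529) (tt N5741 F6498))
theorem Q4664 : ∀ i, i < 4664 → P i := stepQ 4663 Q4663 (allL N4663 (tt N4085 F4530) (tt N2475 F4531) (tt N7494 D8393) (tt N2479 (iv F4532)) (tt N2474 (iv D5499)))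
theorem Q4665 : ∀ i, i < 4665 → P i := stepQ 4664 Q4664 (allL N4664 (tt N3390 F4533) (tt N2476 (iv D5500)) (tt N3372 F4534) (tt N7495 D8394) (tt N3348 (iv F4535)))
theorem Q4666 : ∀ i, i < 4666 → P i := stepQ 4665 Q4665 (allL N4665 (tt N5734 F6194) (tt N6055 (iv F6764)) (tt N2476 (iv D5501)) (tt N7496 D8395) (tt N5732 (iv F6195)))
theorem Q4667 : ∀ i, i < 4667 → P i := stepQ 4666 Q4666 (allL N4666 (tt N5995 (iv F6673)) (tt N7495 (iv F9304)) (tt N7496 (iv F9307)) (tt N2476 (iv D5502)) (tt N7497 D8396))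
theorem Q4668 : ∀ i, i < 4668 → P i := stepQ 4667 Q4667 (allL N4667 (tt N2479 F4536) (tt N3348 F4537) (tt N7498 D8397) (tt N7499 D8398) (tt N2476 (iv D5503)))
theorem Q4669 : ∀ i, i < 4669 → P i := stepQ 4668 Q4668 (allL N4668 (tt N7500 D8399) (tt N7464 (iv F9256)) (tt N2478 F4538) (tt N2477 (iv D5505)) (tt N5920 (iv F6530)))
theorem Q4670 : ∀ i, i < 4670 → P i := stepQ 4669 Q4669 (allL N4669 (tt N2478 (iv D5507)) (tt N4091 F4540) (tt N5453 (iv F6501)) (tt N4132 F4539) (tt N4089 (iv F4541)))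
theorem Q4671 : ∀ i, i < 4671 → P i := stepQ 4670 Q4670 (allL N4670 (tt N4089 F4542) (tt N2480 F4543) (tt N7501 D8400) (tt N2516 F4544) (tt N2478 (iv D5508)))
theorem Q4672 : ∀ i, i < 4672 → P i := stepQ 4671 Q4671 (allL N4671 (tt N5652 (iv F6046)) (tt N7440 (iv F9213)) (tt N2479 (iv D5509)) (tt N7494 (iv F9302)) (tt N5750 (iv F6219)))
theorem Q4673 : ∀ i, i < 4673 → P i := stepQ 4672 Q4672 (allL N4672 (tt N7426 (iv F9189)) (tt N7502 D8401) (tt N2481 (iv D5510)) (tt N7503 D8402) (tt N7504 D8403))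
theorem Q4674 : ∀ i, i < 4674 → P i := stepQ 4673 Q4673 (allL N4673 (tt N5943 (iv F6574)) (tt N5945 (iv F6581)) (tt N7503 (iv F9324)) (tt N2481 (iv D5511)) (tt N5943 F6575))
theorem Q4675 : ∀ i, i < 4675 → P i := stepQ 4674 Q4674 (allL N4674 (tt N2482 (iv D5512)) (tt N7505 D8404) (tt N7506 D8405) (tt N7507 D8406) (tt N7508 D8407))
theorem Q4676 : ∀ i, i < 4676 → P i := stepQ 4675 Q4675 (allL N4675 (tt N7509 D8408) (tt N2482 (iv D5513)) (tt N2584 F4545) (tt N7510 D8409) (tt N7511 D8410))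
theorem Q4677 : ∀ i, i < 4677 → P i := stepQ 4676 Q4676 (allL N4676 (tt N7512 D8411) (tt N7510 (iv F9330)) (tt N2483 F4546) (tt N2482 (iv D5514)) (tt N7513 D8412))
theorem Q4678 : ∀ i, i < 4678 → P i := stepQ 4677 Q4677 (allL N4677 (tt N7508 (iv F9327)) (tt N7511 (iv F9332)) (tt N7514 D8413) (tt N7515 D8414) (tt N2482 (iv D5515)))
theorem Q4679 : ∀ i, i < 4679 → P i := stepQ 4678 Q4678 (allL N4678 (tt N2483 (iv D5516)) (tt N2485 F4547) (tt N7516 D8415) (tt N2507 (iv F4549)) (tt N2483 F4548))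
theorem Q4680 : ∀ i, i < 4680 → P i := stepQ 4679 Q4679 (allL N4679 (tt N7517 D8416) (tt N7518 D8417) (tt N2484 (iv D5517)) (tt N7519 D8418) (tt N7520 D8419))
theorem Q4681 : ∀ i, i < 4681 → P i := stepQ 4680 Q4680 (allL N4680 (tt N2506 F4552) (tt N2486 F4550) (tt N7519 (iv F9340)) (tt N2484 (iv D5518)) (tt N2506 F4551))
theorem Q4682 : ∀ i, i < 4682 → P i := stepQ 4681 Q4681 (allL N4681 (tt N5661 (iv F6062)) (tt N6081 (iv F6799)) (tt N2488 F4553) (tt N2487 (iv D5519)) (tt N6079 F6795))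
theorem Q4683 : ∀ i, i < 4683 → P i := stepQ 4682 Q4682 (allL N4682 (tt N5149 (iv F5269)) (tt N5744 (iv F6208)) (tt N2489 (iv D5520)) (tt N7521 D8420) (tt N5664 (iv F6081)))
theorem Q4684 : ∀ i, i < 4684 → P i := stepQ 4683 Q4683 (allL N4683 (tt N6002 (iv F6688)) (tt N6197 (iv F6941)) (tt N7521 (iv F9342)) (tt N2489 (iv D5521)) (tt N7522 D8421))
theorem Q4685 : ∀ i, i < 4685 → P i := stepQ 4684 Q4684 (allL N4684 (tt N2491 F4554) (tt N6198 (iv F6943)) (tt N5710 (iv F6150)) (tt N7523 D8422) (tt N2489 (iv D5522)))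
theorem Q4686 : ∀ i, i < 4686 → P i := stepQ 4685 Q4685 (allL N4685 (tt N2490 (iv D5523)) (tt N6293 (iv F7180)) (tt N7524 D8423) (tt N6341 (iv F7253)) (tt N7525 D8424))
theorem Q4687 : ∀ i, i < 4687 → P i := stepQ 4686 Q4686 (allL N4686 (tt N7525 (iv F9345)) (tt N3597 F5743) (tt N7526 D8425) (tt N2498 F4848) (tt N2490 (iv D5524)))
theorem Q4688 : ∀ i, i < 4688 → P i := stepQ 4687 Q4687 (allL N4687 (tt N6082 (iv F6802)) (tt N3265 F4555) (tt N2491 (iv D5525)) (tt N2499 F4846) (tt N3074 F4556))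
theorem Q4689 : ∀ i, i < 4689 → P i := stepQ 4688 Q4688 (allL N4688 (tt N5150 (iv F5272)) (tt N3076 (iv F5277)) (tt N2492 (iv D5527)) (tt N2503 F4558) (tt N3075 F5318))
theorem Q4690 : ∀ i, i < 4690 → P i := stepQ 4689 Q4689 (allL N4689 (tt N5664 (iv F6080)) (tt N5268 (iv F5455)) (tt N2495 F4559) (tt N2494 (iv D5528)) (tt N5149 (iv F5270)))
theorem Q4691 : ∀ i, i < 4691 → P i := stepQ 4690 Q4690 (allL N4690 (tt N6004 (iv F6691)) (tt N6344 (iv F7260)) (tt N5225 F5865) (tt N7525 (iv F9346)) (tt N2495 (iv D5529)))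
theorem Q4692 : ∀ i, i < 4692 → P i := stepQ 4691 Q4691 (allL N4691 (tt N6472 (iv F7470)) (tt N6342 (iv F7256)) (tt N5229 (iv F5424)) (tt N2496 (iv D5530)) (tt N6341 F7255))
theorem Q4693 : ∀ i, i < 4693 → P i := stepQ 4692 Q4692 (allL N4692 (tt N5152 (iv F5333)) (tt N5921 (iv F6531)) (tt N2497 (iv D5532)) (tt N7527 D8426) (tt N7528 D8427))
theorem Q4694 : ∀ i, i < 4694 → P i := stepQ 4693 Q4693 (allL N4693 (tt N6003 (iv F6689)) (tt N6196 (iv F6940)) (tt N7527 (iv F9351)) (tt N2497 (iv D5533)) (tt N7523 (iv F9344)))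
theorem Q4695 : ∀ i, i < 4695 → P i := stepQ 4694 Q4694 (allL N4694 (tt N2498 F4560) (tt N6444 (iv F7424)) (tt N7529 D8428) (tt N7522 (iv F9343)) (tt N2497 (iv D5534)))
theorem Q4696 : ∀ i, i < 4696 → P i := stepQ 4695 Q4695 (allL N4695 (tt N7530 D8429) (tt N3303 F5740) (tt N2498 (iv D5535)) (tt N7526 (iv F9348)) (tt N3079 (iv F5329)))
theorem Q4697 : ∀ i, i < 4697 → P i := stepQ 4696 Q4696 (allL N4696 (tt N7531 D8430) (tt N2500 (iv D5540)) (tt N2921 F4564) (tt N6085 (iv F6809)) (tt N6080 F6798))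
theorem Q4698 : ∀ i, i < 4698 → P i := stepQ 4697 Q4697 (allL N4697 (tt N5665 (iv F6082)) (tt N6085 (iv F6807)) (tt N2501 F4567) (tt N2500 (iv D5541)) (tt N6083 (iv F6806)))
theorem Q4699 : ∀ i, i < 4699 → P i := stepQ 4698 Q4698 (allL N4698 (tt N5153 (iv F5334)) (tt N6080 (iv F6796)) (tt N7530 (iv F9355)) (tt N6079 F6794) (tt N2500 (iv D5542)))
theorem Q4700 : ∀ i, i < 4700 → P i := stepQ 4699 Q4699 (allL N4699 (tt N6341 (iv F7254)) (tt N6473 (iv F7472)) (tt N2502 (iv D5543)) (tt N6002 (iv F6687)) (tt N6472 F7471))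
theorem Q4701 : ∀ i, i < 4701 → P i := stepQ 4700 Q4700 (allL N4700 (tt N2503 (iv D5544)) (tt N5662 (iv F6065)) (tt N7528 (iv F9352)) (tt N5661 F6063) (tt N3080 F5325))
theorem Q4702 : ∀ i, i < 4702 → P i := stepQ 4701 Q4701 (allL N4701 (tt N7532 D8431) (tt N7533 D8432) (tt N2504 (iv D5547)) (tt N7534 D8433) (tt N7535 D8434))
theorem Q4703 : ∀ i, i < 4703 → P i := stepQ 4702 Q4702 (allL N4702 (tt N5947 (iv F6586)) (tt N5949 (iv F6590)) (tt N7534 (iv F9360)) (tt N2504 (iv D5548)) (tt N5947 (iv F6588)))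
theorem Q4704 : ∀ i, i < 4704 → P i := stepQ 4703 Q4703 (allL N4703 (tt N2507 F4569) (tt N5944 (iv F6577)) (tt N7536 D8435) (tt N5943 F6576) (tt N2504 (iv D5549)))
theorem Q4705 : ∀ i, i < 4705 → P i := stepQ 4704 Q4704 (allL N4704 (tt N2505 (iv D5550)) (tt N7537 D8436) (tt N7538 D8437) (tt N7539 D8438) (tt N7540 D8439))
theorem Q4706 : ∀ i, i < 4706 → P i := stepQ 4705 Q4705 (allL N4705 (tt N7541 D8440) (tt N2505 (iv D5551)) (tt N6669 (iv F7799)) (tt N7542 D8441) (tt N7543 D8442))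
theorem Q4707 : ∀ i, i < 4707 → P i := stepQ 4706 Q4706 (allL N4706 (tt N7544 D8443) (tt N7542 (iv F9366)) (tt N2506 F4570) (tt N2505 (iv D5552)) (tt N7515 (iv F12134)))
theorem Q4708 : ∀ i, i < 4708 → P i := stepQ 4707 Q4707 (allL N4707 (tt N7540 (iv F9363)) (tt N7543 (iv F9368)) (tt N7545 D8445) (tt N7513 (iv F12135)) (tt N2505 (iv D5553)))
theorem Q4709 : ∀ i, i < 4709 → P i := stepQ 4708 Q4708 (allL N4708 (tt N7546 D8447) (tt N7547 D8448) (tt N2507 (iv D5554)) (tt N7516 (iv F9335)) (tt N7548 D8449))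
theorem Q4710 : ∀ i, i < 4710 → P i := stepQ 4709 Q4709 (allL N4709 (tt N2508 (iv D5555)) (tt N7532 (iv F9357)) (tt N5157 (iv F5339)) (tt N7452 (iv F9237)) (tt N7549 D8450))
theorem Q4711 : ∀ i, i < 4711 → P i := stepQ 4710 Q4710 (allL N4710 (tt N7550 D8451) (tt N2508 (iv D5556)) (tt N7551 D8452) (tt N7424 (iv F9188)) (tt N7552 D8453))
theorem Q4712 : ∀ i, i < 4712 → P i := stepQ 4711 Q4711 (allL N4711 (tt N7549 (iv F9374)) (tt N7552 (iv F9378)) (tt N7553 D8454) (tt N7434 (iv F12310)) (tt N2508 (iv D5557)))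
theorem Q4713 : ∀ i, i < 4713 → P i := stepQ 4712 Q4712 (allL N4712 (tt N7554 D8456) (tt N5611 (iv F6469)) (tt N2509 (iv D5558)) (tt N6559 (iv F7593)) (tt N6534 F7565))
theorem Q4714 : ∀ i, i < 4714 → P i := stepQ 4713 Q4713 (allL N4713 (tt N6457 (iv F7448)) (tt N2510 (iv D5559)) (tt N6438 (iv F7417)) (tt N4966 (iv F4976)) (tt N7555 D8457))
theorem Q4715 : ∀ i, i < 4715 → P i := stepQ 4714 Q4714 (allL N4714 (tt N7423 (iv F9186)) (tt N4966 F4977) (tt N5137 F5251) (tt N2510 (iv D5560)) (tt N7462 (iv F9252)))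
theorem Q4716 : ∀ i, i < 4716 → P i := stepQ 4715 Q4715 (allL N4715 (tt N2512 F4571) (tt N7555 (iv F9384)) (tt N7556 D8458) (tt N7461 (iv F9251)) (tt N2510 (iv D5561)))
theorem Q4717 : ∀ i, i < 4717 → P i := stepQ 4716 Q4716 (allL N4716 (tt N2511 (iv D5562)) (tt N5536 (iv F5873)) (tt N6769 (iv F7977)) (tt N4374 F4572) (tt N5535 F5872))
theorem Q4718 : ∀ i, i < 4718 → P i := stepQ 4717 Q4717 (allL N4717 (tt N7557 D8459) (tt N2515 F4573) (tt N2511 (iv D5563)) (tt N7458 (iv F9244)) (tt N5919 (iv F6529)))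
theorem Q4719 : ∀ i, i < 4719 → P i := stepQ 4718 Q4718 (allL N4718 (tt N5535 (iv F5871)) (tt N2512 F4574) (tt N7558 D8460) (tt N7465 (iv F9260)) (tt N2511 (iv D5564)))
theorem Q4720 : ∀ i, i < 4720 → P i := stepQ 4719 Q4719 (allL N4719 (tt N7553 (iv F9380)) (tt N4535 F5305) (tt N2512 (iv D5565)) (tt N7449 (iv F9234)) (tt N5871 (iv F6439)))
theorem Q4721 : ∀ i, i < 4721 → P i := stepQ 4720 Q4720 (allL N4720 (tt N2513 (iv D5567)) (tt N7142 (iv F8667)) (tt N5158 (iv F5341)) (tt N7151 (iv F8681)) (tt N7139 F8657))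
theorem Q4722 : ∀ i, i < 4722 → P i := stepQ 4721 Q4721 (allL N4721 (tt N7559 D8461) (tt N2513 (iv D5568)) (tt N7560 D8462) (tt N7441 (iv F9217)) (tt N7439 F9212))
theorem Q4723 : ∀ i, i < 4723 → P i := stepQ 4722 Q4722 (allL N4722 (tt N3777 F4575) (tt N2514 (iv D5570)) (tt N3767 F4576) (tt N7561 D8463) (tt N7562 D8464))
theorem Q4724 : ∀ i, i < 4724 → P i := stepQ 4723 Q4723 (allL N4723 (tt N5916 (iv F9414)) (tt N7563 D8466) (tt N2514 (iv D5571)) (tt N7564 D8467) (tt N5914 F9413))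
theorem Q4725 : ∀ i, i < 4725 → P i := stepQ 4724 Q4724 (allL N4724 (tt N6009 (iv F6702)) (tt N7561 (iv F9400)) (tt N7564 (iv F9415)) (tt N2514 (iv D5572)) (tt N7499 (iv F9318)))
theorem Q4726 : ∀ i, i < 4726 → P i := stepQ 4725 Q4725 (allL N4725 (tt N2516 F4577) (tt N7562 (iv F9404)) (tt N7565 D8468) (tt N7497 (iv F9311)) (tt N2514 (iv D5573)))
theorem Q4727 : ∀ i, i < 4727 → P i := stepQ 4726 Q4726 (allL N4726 (tt N5924 F9314) (tt N7566 D8469) (tt N2516 (iv D5576)) (tt N7501 (iv F9321)) (tt N5922 (iv F9315)))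
theorem Q4728 : ∀ i, i < 4728 → P i := stepQ 4727 Q4727 (allL N4727 (tt N2517 (iv D5577)) (tt N6453 (iv F7437)) (tt N7567 D8470) (tt N7480 (iv F9285)) (tt N2707 F4578))
theorem Q4729 : ∀ i, i < 4729 → P i := stepQ 4728 Q4728 (allL N4728 (tt N3344 F4579) (tt N7560 (iv F9398)) (tt N2517 (iv D5578)) (tt N7487 (iv F9294)) (tt N7483 F9289))
theorem Q4730 : ∀ i, i < 4730 → P i := stepQ 4729 Q4729 (allL N4729 (tt N2536 F4580) (tt N3231 F4581) (tt N2518 (iv D5579)) (tt N4771 (iv F4651)) (tt N3228 (iv F4582)))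
theorem Q4731 : ∀ i, i < 4731 → P i := stepQ 4730 Q4730 (allL N4730 (tt N2521 F4583) (tt N3438 F4584) (tt N7568 D8471) (tt N6492 (iv F7496)) (tt N2519 (iv D5580)))
theorem Q4732 : ∀ i, i < 4732 → P i := stepQ 4731 Q4731 (allL N4731 (tt N2520 (iv D5581)) (tt N2731 F4585) (tt N7270 (iv F8896)) (tt N3892 F4586) (tt N7569 D8472))
theorem Q4733 : ∀ i, i < 4733 → P i := stepQ 4732 Q4732 (allL N4732 (tt N7569 (iv F9424)) (tt N2522 F4587) (tt N7570 D8473) (tt N7571 D8474) (tt N2520 (iv D5582)))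
theorem Q4734 : ∀ i, i < 4734 → P i := stepQ 4733 Q4733 (allL N4733 (tt N3607 F4588) (tt N7379 (iv F9088)) (tt N2521 (iv D5583)) (tt N7572 D8475) (tt N7377 F9085))
theorem Q4735 : ∀ i, i < 4735 → P i := stepQ 4734 Q4734 (allL N4734 (tt N7573 D8476) (tt N2524 F4589) (tt N7572 (iv F9432)) (tt N2521 (iv D5584)) (tt N7574 D8477))
theorem Q4736 : ∀ i, i < 4736 → P i := stepQ 4735 Q4735 (allL N4735 (tt N4735 F4590) (tt N5756 (iv F6227)) (tt N2522 (iv D5585)) (tt N5863 (iv F6423)) (tt N5751 F6224))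
theorem Q4737 : ∀ i, i < 4737 → P i := stepQ 4736 Q4736 (allL N4736 (tt N4769 (iv F4648)) (tt N7571 (iv F9428)) (tt N5863 (iv F6422)) (tt N2522 (iv D5586)) (tt N2712 F4623))
theorem Q4738 : ∀ i, i < 4738 → P i := stepQ 4737 Q4737 (allL N4737 (tt N4737 F4591) (tt N5758 (iv F6229)) (tt N2524 F4592) (tt N2523 (iv D5587)) (tt N5862 (iv F6419)))
theorem Q4739 : ∀ i, i < 4739 → P i := stepQ 4738 Q4738 (allL N4738 (tt N4754 (iv F4619)) (tt N7574 (iv F9435)) (tt N2530 F4621) (tt N2712 F4622) (tt N2524 (iv D5588)))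
theorem Q4740 : ∀ i, i < 4740 → P i := stepQ 4739 Q4739 (allL N4739 (tt N7575 D8478) (tt N2525 (iv D5589)) (tt N6406 (iv F7360)) (tt N2710 F4593) (tt N7576 D8479))
theorem Q4741 : ∀ i, i < 4741 → P i := stepQ 4740 Q4740 (allL N4740 (tt N4781 (iv F4667)) (tt N7576 (iv F9439)) (tt N5751 (iv F6223)) (tt N2529 F4655) (tt N2525 (iv D5590)))
theorem Q4742 : ∀ i, i < 4742 → P i := stepQ 4741 Q4741 (allL N4741 (tt N2605 F4594) (tt N2526 (iv D5591)) (tt N7577 D8480) (tt N4788 (iv F4685)) (tt N7578 D8481))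
theorem Q4743 : ∀ i, i < 4743 → P i := stepQ 4742 Q4742 (allL N4742 (tt N2529 F4597) (tt N7578 (iv F9444)) (tt N3228 F4598) (tt N4774 F4654) (tt N2526 (iv D5592)))
theorem Q4744 : ∀ i, i < 4744 → P i := stepQ 4743 Q4743 (allL N4743 (tt N2527 (iv D5593)) (tt N3504 F4599) (tt N7579 D8482) (tt N3900 F4600) (tt N6028 (iv F6729)))
theorem Q4745 : ∀ i, i < 4745 → P i := stepQ 4744 Q4744 (allL N4744 (tt N7580 D8483) (tt N2528 F4602) (tt N6254 (iv F7071)) (tt N2527 (iv D5594)) (tt N7581 D8484))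
theorem Q4746 : ∀ i, i < 4746 → P i := stepQ 4745 Q4745 (allL N4745 (tt N6028 (iv F6730)) (tt N2529 F4603) (tt N3117 F4604) (tt N7576 (iv F9440)) (tt N2527 (iv D5595)))
theorem Q4747 : ∀ i, i < 4747 → P i := stepQ 4746 Q4746 (allL N4746 (tt N4780 (iv F4665)) (tt N7581 (iv F9450)) (tt N5862 (iv F6418)) (tt N2711 F4656) (tt N2528 (iv D5596)))
theorem Q4748 : ∀ i, i < 4748 → P i := stepQ 4747 Q4747 (allL N4747 (tt N3170 F4606) (tt N7330 (iv F9004)) (tt N7116 (iv F8592)) (tt N5123 (iv F5225)) (tt N2531 (iv D5599)))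
theorem Q4749 : ∀ i, i < 4749 → P i := stepQ 4748 Q4748 (allL N4748 (tt N6211 (iv F6967)) (tt N7582 D8485) (tt N2532 (iv D5600)) (tt N7092 (iv F8555)) (tt N7583 D8486))
theorem Q4750 : ∀ i, i < 4750 → P i := stepQ 4749 Q4749 (allL N4749 (tt N4749 F4607) (tt N2877 F4608) (tt N2715 F4609) (tt N2714 (iv F4610)) (tt N2533 (iv D5601)))
theorem Q4751 : ∀ i, i < 4751 → P i := stepQ 4750 Q4750 (allL N4750 (tt N4750 F4613) (tt N2879 F4611) (tt N2556 F4612) (tt N2534 (iv D5602)) (tt N7584 D8487))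
theorem Q4752 : ∀ i, i < 4752 → P i := stepQ 4751 Q4751 (allL N4751 (tt N4751 F4614) (tt N5259 (iv F5447)) (tt N2535 (iv D5603)) (tt N5296 (iv F5492)) (tt N5254 F5443))
theorem Q4753 : ∀ i, i < 4753 → P i := stepQ 4752 Q4752 (allL N4752 (tt N2548 F4615) (tt N7083 (iv F8537)) (tt N5296 (iv F5491)) (tt N2535 (iv D5604)) (tt N2720 (iv F4616)))
theorem Q4754 : ∀ i, i < 4754 → P i := stepQ 4753 Q4753 (allL N4753 (tt N4753 F4618) (tt N5261 (iv F5449)) (tt N2537 F4617) (tt N2536 (iv D5605)) (tt N5295 F5489))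
theorem Q4755 : ∀ i, i < 4755 → P i := stepQ 4754 Q4754 (allL N4754 (tt N4738 F4619) (tt N7093 (iv F8557)) (tt N7584 (iv F9456)) (tt N2720 F4620) (tt N2537 (iv D5606)))
theorem Q4756 : ∀ i, i < 4756 → P i := stepQ 4755 Q4755 (allL N4755 (tt N4618 F4624) (tt N3103 F4625) (tt N7585 D8488) (tt N7129 (iv F8626)) (tt N2538 (iv D5607)))
theorem Q4757 : ∀ i, i < 4757 → P i := stepQ 4756 Q4756 (allL N4756 (tt N4620 F4627) (tt N6248 (iv F7060)) (tt N2539 (iv D5608)) (tt N3846 F4626) (tt N7586 D8489))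
theorem Q4758 : ∀ i, i < 4758 → P i := stepQ 4757 Q4757 (allL N4757 (tt N7585 (iv F9458)) (tt N7520 (iv F9341)) (tt N2540 (iv D5609)) (tt N5475 (iv F5778)) (tt N7518 F9339))
theorem Q4759 : ∀ i, i < 4759 → P i := stepQ 4758 Q4758 (allL N4758 (tt N5461 (iv F5718)) (tt N7587 D8490) (tt N2541 (iv D5610)) (tt N7588 D8491) (tt N7400 (iv F9142)))
theorem Q4760 : ∀ i, i < 4760 → P i := stepQ 4759 Q4759 (allL N4759 (tt N3837 F4628) (tt N2548 F4629) (tt N7588 (iv F9467)) (tt N2541 (iv D5611)) (tt N2721 (iv F4630)))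
theorem Q4761 : ∀ i, i < 4761 → P i := stepQ 4760 Q4760 (allL N4760 (tt N2542 (iv D5612)) (tt N3527 F4633) (tt N4617 F4631) (tt N3844 F4632) (tt N7589 D8492))
theorem Q4762 : ∀ i, i < 4762 → P i := stepQ 4761 Q4761 (allL N4761 (tt N7384 (iv F9102)) (tt N2542 (iv D5613)) (tt N5793 (iv F6282)) (tt N7590 D8493) (tt N2603 F5758))
theorem Q4763 : ∀ i, i < 4763 → P i := stepQ 4762 Q4762 (allL N4762 (tt N3742 F4634) (tt N7590 (iv F9472)) (tt N2543 F4635) (tt N2542 (iv D5614)) (tt N7591 D8494))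
theorem Q4764 : ∀ i, i < 4764 → P i := stepQ 4763 Q4763 (allL N4763 (tt N7589 (iv F9469)) (tt N2603 F5759) (tt N7518 (iv F9338)) (tt N7400 (iv F9143)) (tt N2542 (iv D5615)))
theorem Q4765 : ∀ i, i < 4765 → P i := stepQ 4764 Q4764 (allL N4764 (tt N3826 F4636) (tt N2551 F4637) (tt N5476 F5781) (tt N2721 F4638) (tt N2543 (iv D5616)))
theorem Q4766 : ∀ i, i < 4766 → P i := stepQ 4765 Q4765 (allL N4765 (tt N4622 F4639) (tt N7333 (iv F9009)) (tt N2544 (iv D5617)) (tt N2791 F4640) (tt N7592 D8495))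
theorem Q4767 : ∀ i, i < 4767 → P i := stepQ 4766 Q4766 (allL N4766 (tt N4631 F4641) (tt N2546 F4642) (tt N7593 D8496) (tt N7594 D8497) (tt N2544 (iv D5618)))
theorem Q4768 : ∀ i, i < 4768 → P i := stepQ 4767 Q4767 (allL N4767 (tt N4767 F4643) (tt N3210 F4644) (tt N2552 F4645) (tt N3763 F4646) (tt N2545 (iv D5619)))
theorem Q4769 : ∀ i, i < 4769 → P i := stepQ 4768 Q4768 (allL N4768 (tt N4768 F4647) (tt N5736 (iv F6199)) (tt N2546 (iv D5620)) (tt N5913 (iv F6521)) (tt N5731 F6188))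
theorem Q4770 : ∀ i, i < 4770 → P i := stepQ 4769 Q4769 (allL N4769 (tt N4736 F4648) (tt N7594 (iv F9482)) (tt N5913 (iv F6522)) (tt N2546 (iv D5621)) (tt N5024 (iv F5080)))
theorem Q4771 : ∀ i, i < 4771 → P i := stepQ 4770 Q4770 (allL N4770 (tt N5312 (iv F5500)) (tt N2550 (iv D5622)) (tt N7595 D8498) (tt N4606 F4649) (tt N7596 D8499))
theorem Q4772 : ∀ i, i < 4772 → P i := stepQ 4771 Q4771 (allL N4771 (tt N4771 F4650) (tt N5738 (iv F6201)) (tt N2550 (iv D5623)) (tt N4729 F4651) (tt N5912 (iv F6518)))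
theorem Q4773 : ∀ i, i < 4773 → P i := stepQ 4772 Q4772 (allL N4772 (tt N2551 F4652) (tt N7596 (iv F9487)) (tt N7597 D8500) (tt N5024 (iv F5079)) (tt N2550 (iv D5624)))
theorem Q4774 : ∀ i, i < 4774 → P i := stepQ 4773 Q4773 (allL N4773 (tt N5015 (iv F5065)) (tt N2552 (iv D5625)) (tt N7598 D8501) (tt N5005 F5049) (tt N7599 D8502))
theorem Q4775 : ∀ i, i < 4775 → P i := stepQ 4774 Q4774 (allL N4774 (tt N2554 F4653) (tt N7599 (iv F9495)) (tt N5731 (iv F6187)) (tt N4742 (iv F4654)) (tt N2552 (iv D5626)))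
theorem Q4776 : ∀ i, i < 4776 → P i := stepQ 4775 Q4775 (allL N4775 (tt N2932 F4657) (tt N2554 F4658) (tt N7600 D8503) (tt N2561 F4659) (tt N2553 (iv D5627)))
theorem Q4777 : ∀ i, i < 4777 → P i := stepQ 4776 Q4776 (allL N4776 (tt N2555 (iv D5628)) (tt N3558 F4660) (tt N3421 F4661) (tt N6595 (iv F7654)) (tt N5164 (iv F5349)))
theorem Q4778 : ∀ i, i < 4778 → P i := stepQ 4777 Q4777 (allL N4777 (tt N3537 F4662) (tt N7601 D8504) (tt N2555 (iv D5629)) (tt N7602 D8505) (tt N7603 D8506))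
theorem Q4779 : ∀ i, i < 4779 → P i := stepQ 4778 Q4778 (allL N4778 (tt N7604 D8507) (tt N2556 F4663) (tt N7602 (iv F9504)) (tt N2555 (iv D5630)) (tt N7605 D8508))
theorem Q4780 : ∀ i, i < 4780 → P i := stepQ 4779 Q4779 (allL N4779 (tt N5164 (iv F5348)) (tt N2557 F4664) (tt N5679 (iv F6100)) (tt N7606 D8509) (tt N2555 (iv D5631)))
theorem Q4781 : ∀ i, i < 4781 → P i := stepQ 4780 Q4780 (allL N4780 (tt N4746 F4665) (tt N7605 (iv F9513)) (tt N5295 (iv F5487)) (tt N2716 F4666) (tt N2556 (iv D5632)))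
theorem Q4782 : ∀ i, i < 4782 → P i := stepQ 4781 Q4781 (allL N4781 (tt N4740 F4667) (tt N7606 (iv F9516)) (tt N5254 (iv F5441)) (tt N2557 (iv D5633)) (tt N2715 F4668))
theorem Q4783 : ∀ i, i < 4783 → P i := stepQ 4782 Q4782 (allL N4782 (tt N4657 F4671) (tt N3568 F4669) (tt N2558 (iv D5634)) (tt N3911 F4670) (tt N5555 (iv F5900)))
theorem Q4784 : ∀ i, i < 4784 → P i := stepQ 4783 Q4783 (allL N4783 (tt N6266 (iv F7098)) (tt N2599 F4672) (tt N2560 F4673) (tt N2559 (iv D5635)) (tt N6404 (iv F7354)))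
theorem Q4785 : ∀ i, i < 4785 → P i := stepQ 4784 Q4784 (allL N4784 (tt N6151 (iv F6877)) (tt N2600 F4674) (tt N7511 (iv F9333)) (tt N6403 F7353) (tt N2559 (iv D5636)))
theorem Q4786 : ∀ i, i < 4786 → P i := stepQ 4785 Q4785 (allL N4785 (tt N2560 (iv D5637)) (tt N2938 F4676) (tt N7607 D8510) (tt N3916 F4675) (tt N2936 F4677))
theorem Q4787 : ∀ i, i < 4787 → P i := stepQ 4786 Q4786 (allL N4786 (tt N2936 F4678) (tt N2563 F4679) (tt N3132 (iv F4681)) (tt N2719 F4680) (tt N2560 (iv D5638)))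
theorem Q4788 : ∀ i, i < 4788 → P i := stepQ 4787 Q4787 (allL N4787 (tt N3484 F4683) (tt N2586 F4682) (tt N2561 (iv D5639)) (tt N7600 (iv F9498)) (tt N2584 F4684))
theorem Q4789 : ∀ i, i < 4789 → P i := stepQ 4788 Q4788 (allL N4788 (tt N4882 (iv F4805)) (tt N2562 (iv D5640)) (tt N7608 D8511) (tt N4741 F4685) (tt N7609 D8512))
theorem Q4790 : ∀ i, i < 4790 → P i := stepQ 4789 Q4789 (allL N4789 (tt N4789 F4686) (tt N3212 (iv F4688)) (tt N2562 (iv D5641)) (tt N3207 F4687) (tt N7597 (iv F9491)))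
theorem Q4791 : ∀ i, i < 4791 → P i := stepQ 4790 Q4790 (allL N4790 (tt N2563 F4689) (tt N7609 (iv F9525)) (tt N5912 (iv F6517)) (tt N5021 (iv F5072)) (tt N2562 (iv D5642)))
theorem Q4792 : ∀ i, i < 4792 → P i := stepQ 4791 Q4791 (allL N4791 (tt N3159 F4690) (tt N2570 F4691) (tt N4846 (iv F4765)) (tt N6655 (iv F7766)) (tt N2564 (iv D5643)))
theorem Q4793 : ∀ i, i < 4793 → P i := stepQ 4792 Q4792 (allL N4792 (tt N4546 F4692) (tt N4851 (iv F4773)) (tt N2565 (iv D5644)) (tt N5036 F5099) (tt N4845 (iv F4762)))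
theorem Q4794 : ∀ i, i < 4794 → P i := stepQ 4793 Q4793 (allL N4793 (tt N6748 (iv F7935)) (tt N2572 F4693) (tt N5036 (iv F5098)) (tt N2565 (iv D5645)) (tt N7610 D8513))
theorem Q4795 : ∀ i, i < 4795 → P i := stepQ 4794 Q4794 (allL N4794 (tt N2579 F4695) (tt N2968 F4694) (tt N7333 (iv F9010)) (tt N2566 (iv D5646)) (tt N7611 D8514))
theorem Q4796 : ∀ i, i < 4796 → P i := stepQ 4795 Q4795 (allL N4795 (tt N2569 F4696) (tt N3208 F4697) (tt N7612 D8515) (tt N7613 D8516) (tt N2566 (iv D5647)))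
theorem Q4797 : ∀ i, i < 4797 → P i := stepQ 4796 Q4796 (allL N4796 (tt N3445 F4698) (tt N2569 F4699) (tt N6228 (iv F7018)) (tt N7614 D8517) (tt N2567 (iv D5648)))
theorem Q4798 : ∀ i, i < 4798 → P i := stepQ 4797 Q4797 (allL N4797 (tt N5236 (iv F5430)) (tt N3101 F4700) (tt N7615 D8518) (tt N7616 D8519) (tt N2568 (iv D5649)))
theorem Q4799 : ∀ i, i < 4799 → P i := stepQ 4798 Q4798 (allL N4798 (tt N2576 F4701) (tt N7617 D8520) (tt N2569 (iv D5650)) (tt N7618 D8521) (tt N5782 (iv F6263)))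
theorem Q4800 : ∀ i, i < 4800 → P i := stepQ 4799 Q4799 (allL N4799 (tt N7619 D8522) (tt N7614 (iv F9535)) (tt N7618 (iv F9542)) (tt N2569 (iv D5651)) (tt N7620 D8523))
theorem Q4801 : ∀ i, i < 4801 → P i := stepQ 4800 Q4800 (allL N4800 (tt N7621 D8524) (tt N5565 (iv F5917)) (tt N2570 (iv D5652)) (tt N6667 (iv F7794)) (tt N5563 (iv F5918)))
theorem Q4802 : ∀ i, i < 4802 → P i := stepQ 4801 Q4801 (allL N4801 (tt N2571 (iv D5653)) (tt N5734 (iv F6193)) (tt N7334 (iv F9014)) (tt N7622 D8525) (tt N5733 F6191))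
theorem Q4803 : ∀ i, i < 4803 → P i := stepQ 4802 Q4802 (allL N4802 (tt N6058 (iv F6766)) (tt N2571 (iv D5654)) (tt N7623 D8526) (tt N5615 F5997) (tt N5564 (iv F5913)))
theorem Q4804 : ∀ i, i < 4804 → P i := stepQ 4803 Q4803 (allL N4803 (tt N7624 D8527) (tt N5615 (iv F5998)) (tt N2572 F4702) (tt N2571 (iv D5655)) (tt N5613 F5999))
theorem Q4805 : ∀ i, i < 4805 → P i := stepQ 4804 Q4804 (allL N4804 (tt N5733 (iv F6190)) (tt N5564 F5914) (tt N5782 (iv F6264)) (tt N5563 (iv F5915)) (tt N2571 (iv D5656)))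
theorem Q4806 : ∀ i, i < 4806 → P i := stepQ 4805 Q4805 (allL N4805 (tt N2572 (iv D5657)) (tt N3358 (iv F4704)) (tt N7625 D8528) (tt N3352 F4703) (tt N3772 F4707))
theorem Q4807 : ∀ i, i < 4807 → P i := stepQ 4806 Q4806 (allL N4806 (tt N3772 (iv F4706)) (tt N7610 (iv F9527)) (tt N7620 (iv F9547)) (tt N2729 F4705) (tt N2572 (iv D5658)))
theorem Q4808 : ∀ i, i < 4808 → P i := stepQ 4807 Q4807 (allL N4807 (tt N7612 (iv F9532)) (tt N4909 (iv F4889)) (tt N2573 (iv D5659)) (tt N4540 F4711) (tt N5181 (iv F5371)))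
theorem Q4809 : ∀ i, i < 4809 → P i := stepQ 4808 Q4808 (allL N4808 (tt N7333 (iv F9011)) (tt N5409 (iv F6600)) (tt N2574 (iv D5660)) (tt N7626 D8529) (tt N7627 D8530))
theorem Q4810 : ∀ i, i < 4810 → P i := stepQ 4809 Q4809 (allL N4809 (tt N3350 F4712) (tt N5410 (iv F5646)) (tt N7626 (iv F9564)) (tt N2574 (iv D5661)) (tt N7628 D8531))
theorem Q4811 : ∀ i, i < 4811 → P i := stepQ 4810 Q4810 (allL N4810 (tt N2575 F4713) (tt N5411 (iv F5648)) (tt N7629 D8532) (tt N7630 D8533) (tt N2574 (iv D5662)))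
theorem Q4812 : ∀ i, i < 4812 → P i := stepQ 4811 Q4811 (allL N4811 (tt N7631 D8534) (tt N5785 F6432) (tt N2575 (iv D5663)) (tt N5867 (iv F6438)) (tt N5783 (iv F6431)))
theorem Q4813 : ∀ i, i < 4813 → P i := stepQ 4812 Q4812 (allL N4812 (tt N4515 F4714) (tt N5465 (iv F5765)) (tt N5867 (iv F6437)) (tt N2575 (iv D5664)) (tt N2730 F5787))
theorem Q4814 : ∀ i, i < 4814 → P i := stepQ 4813 Q4813 (allL N4813 (tt N7632 D8535) (tt N5787 (iv F6269)) (tt N2577 F4715) (tt N2576 (iv D5665)) (tt N5866 F6435))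
theorem Q4815 : ∀ i, i < 4815 → P i := stepQ 4814 Q4814 (allL N4814 (tt N2577 (iv D5666)) (tt N5484 (iv F5810)) (tt N7633 D8536) (tt N7628 (iv F9567)) (tt N7634 D8537))
theorem Q4816 : ∀ i, i < 4816 → P i := stepQ 4815 Q4815 (allL N4815 (tt N7634 (iv F9571)) (tt N5476 (iv F5780)) (tt N2588 F5783) (tt N2730 F5784) (tt N2577 (iv D5667)))
theorem Q4817 : ∀ i, i < 4817 → P i := stepQ 4816 Q4816 (allL N4816 (tt N6670 (iv F7802)) (tt N2581 F4716) (tt N7635 D8538) (tt N5061 (iv F5131)) (tt N2578 (iv D5668)))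
theorem Q4818 : ∀ i, i < 4818 → P i := stepQ 4817 Q4817 (allL N4817 (tt N5235 (iv F5427)) (tt N2960 F4717) (tt N2580 F4718) (tt N2579 (iv D5669)) (tt N7636 D8539))
theorem Q4819 : ∀ i, i < 4819 → P i := stepQ 4818 Q4818 (allL N4818 (tt N7611 (iv F9530)) (tt N2961 F4719) (tt N7631 (iv F9569)) (tt N7637 D8540) (tt N2579 (iv D5670)))
theorem Q4820 : ∀ i, i < 4820 → P i := stepQ 4819 Q4819 (allL N4819 (tt N3352 F4720) (tt N5059 (iv F5127)) (tt N7638 D8541) (tt N2587 F4721) (tt N2580 (iv D5671)))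
theorem Q4821 : ∀ i, i < 4821 → P i := stepQ 4820 Q4820 (allL N4820 (tt N7639 D8542) (tt N5431 (iv F5679)) (tt N2581 (iv D5672)) (tt N7640 D8543) (tt N5429 (iv F5680)))
theorem Q4822 : ∀ i, i < 4822 → P i := stepQ 4821 Q4821 (allL N4821 (tt N3354 F4722) (tt N5061 F5132) (tt N7640 (iv F9580)) (tt N2581 (iv D5673)) (tt N7641 D8544))
theorem Q4823 : ∀ i, i < 4823 → P i := stepQ 4822 Q4822 (allL N4822 (tt N2582 (iv D5674)) (tt N7642 D8545) (tt N7627 (iv F9565)) (tt N7643 D8546) (tt N7644 D8547))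
theorem Q4824 : ∀ i, i < 4824 → P i := stepQ 4823 Q4823 (allL N4823 (tt N3134 F4723) (tt N2582 (iv D5675)) (tt N7542 (iv F9367)) (tt N6669 (iv F7800)) (tt N7600 (iv F9500)))
theorem Q4825 : ∀ i, i < 4825 → P i := stepQ 4824 Q4824 (allL N4824 (tt N7644 (iv F9586)) (tt N7600 (iv F9497)) (tt N5783 F6429) (tt N2586 F6430) (tt N2582 (iv D5676)))
theorem Q4826 : ∀ i, i < 4826 → P i := stepQ 4825 Q4825 (allL N4825 (tt N3429 F4724) (tt N2583 (iv D5677)) (tt N6188 (iv F6921)) (tt N2696 (iv F4727)) (tt N3124 (iv F4725)))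
theorem Q4827 : ∀ i, i < 4827 → P i := stepQ 4826 Q4826 (allL N4826 (tt N7625 (iv F9560)) (tt N2696 F4740) (tt N7335 (iv F9016)) (tt N2583 (iv D5678)) (tt N3141 (iv F4741)))
theorem Q4828 : ∀ i, i < 4828 → P i := stepQ 4827 Q4827 (allL N4827 (tt N2586 F4742) (tt N3124 F4743) (tt N5181 (iv F5372)) (tt N3123 (iv F4744)) (tt N2583 (iv D5679)))
theorem Q4829 : ∀ i, i < 4829 → P i := stepQ 4828 Q4828 (allL N4828 (tt N2584 (iv D5680)) (tt N3486 F4745) (tt N4639 F6121) (tt N4043 F4747) (tt N3484 F4746))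
theorem Q4830 : ∀ i, i < 4830 → P i := stepQ 4829 Q4829 (allL N4829 (tt N3133 F5791) (tt N2585 F4748) (tt N7510 (iv F9331)) (tt N2584 (iv D5681)) (tt N3132 (iv F5792)))
theorem Q4831 : ∀ i, i < 4831 → P i := stepQ 4830 Q4830 (allL N4830 (tt N2585 (iv D5682)) (tt N7645 D8548) (tt N7646 D8549) (tt N7647 D8550) (tt N7648 D8551))
theorem Q4832 : ∀ i, i < 4832 → P i := stepQ 4831 Q4831 (allL N4831 (tt N7648 (iv F9591)) (tt N3132 F5793) (tt N5866 (iv F6434)) (tt N5865 F6428) (tt N2585 (iv D5683)))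
theorem Q4833 : ∀ i, i < 4833 → P i := stepQ 4832 Q4832 (allL N4832 (tt N6671 (iv F7805)) (tt N2587 (iv D5685)) (tt N7649 D8552) (tt N5059 F5128) (tt N7650 D8553))
theorem Q4834 : ∀ i, i < 4834 → P i := stepQ 4833 Q4833 (allL N4833 (tt N7622 (iv F9553)) (tt N5448 (iv F5794)) (tt N2587 (iv D5686)) (tt N7638 (iv F9579)) (tt N5446 F5795))
theorem Q4835 : ∀ i, i < 4835 → P i := stepQ 4834 Q4834 (allL N4834 (tt N2588 F4749) (tt N7650 (iv F9597)) (tt N7651 D8554) (tt N7641 (iv F9582)) (tt N2587 (iv D5687)))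
theorem Q4836 : ∀ i, i < 4836 → P i := stepQ 4835 Q4835 (allL N4835 (tt N7017 (iv F8423)) (tt N2589 (iv D5689)) (tt N4835 F4751) (tt N6300 (iv F7196)) (tt N7635 (iv F9574)))
theorem Q4837 : ∀ i, i < 4837 → P i := stepQ 4836 Q4836 (allL N4836 (tt N7652 D8555) (tt N3682 F4752) (tt N2589 (iv D5690)) (tt N7653 D8556) (tt N7654 D8557))
theorem Q4838 : ∀ i, i < 4838 → P i := stepQ 4837 Q4837 (allL N4837 (tt N3368 F4753) (tt N6300 (iv F7194)) (tt N7653 (iv F9604)) (tt N2589 (iv D5691)) (tt N7655 D8558))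
theorem Q4839 : ∀ i, i < 4839 → P i := stepQ 4838 Q4838 (allL N4838 (tt N2591 F4754) (tt N7635 (iv F9575)) (tt N7656 D8559) (tt N7657 D8560) (tt N2589 (iv D5692)))
theorem Q4840 : ∀ i, i < 4840 → P i := stepQ 4839 Q4839 (allL N4839 (tt N2590 (iv D5693)) (tt N6383 (iv F7318)) (tt N7658 D8561) (tt N7659 D8562) (tt N7660 D8563))
theorem Q4841 : ∀ i, i < 4841 → P i := stepQ 4840 Q4840 (allL N4840 (tt N7660 (iv F9613)) (tt N6403 (iv F7352)) (tt N7661 D8564) (tt N2600 F5015) (tt N2590 (iv D5694)))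
theorem Q4842 : ∀ i, i < 4842 → P i := stepQ 4841 Q4841 (allL N4841 (tt N7662 D8565) (tt N7400 (iv F9144)) (tt N2591 (iv D5695)) (tt N2603 F4755) (tt N7587 (iv F9463)))
theorem Q4843 : ∀ i, i < 4843 → P i := stepQ 4842 Q4842 (allL N4842 (tt N2594 F4756) (tt N2592 (iv D5696)) (tt N4891 (iv F4814)) (tt N6983 (iv F8364)) (tt N7016 (iv F8421)))
theorem Q4844 : ∀ i, i < 4844 → P i := stepQ 4843 Q4843 (allL N4843 (tt N6574 (iv F7619)) (tt N6983 (iv F8362)) (tt N3501 F4757) (tt N2592 (iv D5697)) (tt N6349 (iv F7275)))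
theorem Q4845 : ∀ i, i < 4845 → P i := stepQ 4844 Q4844 (allL N4844 (tt N2593 (iv D5698)) (tt N3538 F4759) (tt N3502 F4758) (tt N6967 (iv F8321)) (tt N6360 (iv F7286)))
theorem Q4846 : ∀ i, i < 4846 → P i := stepQ 4845 Q4845 (allL N4845 (tt N3531 F4761) (tt N2596 F4760) (tt N2594 (iv D5700)) (tt N2594 (iv F4763)) (tt N4792 F4762))
theorem Q4847 : ∀ i, i < 4847 → P i := stepQ 4846 Q4846 (allL N4846 (tt N7016 (iv F8419)) (tt N2597 F4764) (tt N4791 F4765) (tt N7414 (iv F9174)) (tt N2594 (iv D5701)))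
theorem Q4848 : ∀ i, i < 4848 → P i := stepQ 4847 Q4847 (allL N4847 (tt N2595 (iv D5702)) (tt N3211 F4766) (tt N7663 D8566) (tt N7664 D8567) (tt N7665 D8568))
theorem Q4849 : ∀ i, i < 4849 → P i := stepQ 4848 Q4848 (allL N4848 (tt N3508 F4767) (tt N2595 (iv D5703)) (tt N3567 F4768) (tt N3567 (iv F4769)) (tt N5548 (iv F5892)))
theorem Q4850 : ∀ i, i < 4850 → P i := stepQ 4849 Q4849 (allL N4849 (tt N5240 (iv F5433)) (tt N3567 F4770) (tt N2596 F4771) (tt N2595 (iv D5704)) (tt N7666 D8569))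
theorem Q4851 : ∀ i, i < 4851 → P i := stepQ 4850 Q4850 (allL N4850 (tt N7665 (iv F9620)) (tt N5548 F5893) (tt N7667 D8570) (tt N7668 D8571) (tt N2595 (iv D5705)))
theorem Q4852 : ∀ i, i < 4852 → P i := stepQ 4851 Q4851 (allL N4851 (tt N3375 F4772) (tt N4792 F4773) (tt N7669 D8572) (tt N2725 F4774) (tt N2596 (iv D5706)))
theorem Q4853 : ∀ i, i < 4853 → P i := stepQ 4852 Q4852 (allL N4852 (tt N7670 D8573) (tt N7671 D8574) (tt N2597 (iv D5707)) (tt N7672 D8575) (tt N7673 D8576))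
theorem Q4854 : ∀ i, i < 4854 → P i := stepQ 4853 Q4853 (allL N4853 (tt N3769 F4778) (tt N7414 (iv F9172)) (tt N7672 (iv F9631)) (tt N2597 (iv D5708)) (tt N2724 F4777))
theorem Q4855 : ∀ i, i < 4855 → P i := stepQ 4854 Q4854 (allL N4854 (tt N7663 (iv F9616)) (tt N2626 F4779) (tt N2598 (iv D5709)) (tt N4905 (iv F4879)) (tt N7411 (iv F9167)))
theorem Q4856 : ∀ i, i < 4856 → P i := stepQ 4855 Q4855 (allL N4855 (tt N2600 F4780) (tt N4908 (iv F4885)) (tt N4520 F4781) (tt N4991 F5014) (tt N2598 (iv D5710)))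
theorem Q4857 : ∀ i, i < 4857 → P i := stepQ 4856 Q4856 (allL N4856 (tt N2599 (iv D5711)) (tt N6959 (iv F8308)) (tt N7674 D8577) (tt N7675 D8578) (tt N7676 D8579))
theorem Q4858 : ∀ i, i < 4858 → P i := stepQ 4857 Q4857 (allL N4857 (tt N7676 (iv F9633)) (tt N6404 F7356) (tt N7677 D8580) (tt N2727 F5016) (tt N2599 (iv D5712)))
theorem Q4859 : ∀ i, i < 4859 → P i := stepQ 4858 Q4858 (allL N4858 (tt N7667 (iv F9624)) (tt N5795 (iv F6285)) (tt N2600 (iv D5713)) (tt N7661 (iv F9614)) (tt N5793 F6283))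
theorem Q4860 : ∀ i, i < 4860 → P i := stepQ 4859 Q4859 (allL N4859 (tt N6975 (iv F8340)) (tt N2601 (iv D5715)) (tt N4859 F4782) (tt N7678 D8581) (tt N7649 (iv F9595)))
theorem Q4861 : ∀ i, i < 4861 → P i := stepQ 4860 Q4860 (allL N4860 (tt N7664 (iv F9619)) (tt N7679 D8582) (tt N2601 (iv D5716)) (tt N7680 D8583) (tt N7681 D8584))
theorem Q4862 : ∀ i, i < 4862 → P i := stepQ 4861 Q4861 (allL N4861 (tt N3374 F4783) (tt N7678 (iv F9636)) (tt N7680 (iv F9642)) (tt N2601 (iv D5717)) (tt N7657 (iv F9611)))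
theorem Q4863 : ∀ i, i < 4863 → P i := stepQ 4862 Q4862 (allL N4862 (tt N2602 F4784) (tt N7649 (iv F9596)) (tt N7682 D8585) (tt N7655 (iv F9608)) (tt N2601 (iv D5718)))
theorem Q4864 : ∀ i, i < 4864 → P i := stepQ 4863 Q4863 (allL N4863 (tt N7683 D8586) (tt N7591 (iv F9475)) (tt N2602 (iv D5719)) (tt N2728 F4785) (tt N7590 (iv F9473)))
theorem Q4865 : ∀ i, i < 4865 → P i := stepQ 4864 Q4864 (allL N4864 (tt N6948 (iv F8296)) (tt N2606 F4786) (tt N4187 F4787) (tt N2604 (iv D5723)) (tt N6747 (iv F7932)))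
theorem Q4866 : ∀ i, i < 4866 → P i := stepQ 4865 Q4865 (allL N4865 (tt N2617 F4788) (tt N2607 F4789) (tt N3159 F4790) (tt N6775 (iv F7984)) (tt N2604 (iv D5724)))
theorem Q4867 : ∀ i, i < 4867 → P i := stepQ 4866 Q4866 (allL N4866 (tt N7578 (iv F9443)) (tt N3093 F4791) (tt N5797 (iv F6290)) (tt N6631 (iv F7723)) (tt N2605 (iv D5725)))
theorem Q4868 : ∀ i, i < 4868 → P i := stepQ 4867 Q4867 (allL N4867 (tt N2606 (iv D5726)) (tt N3432 F4792) (tt N7684 D8587) (tt N3430 (iv F4793)) (tt N7685 D8588))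
theorem Q4869 : ∀ i, i < 4869 → P i := stepQ 4868 Q4868 (allL N4868 (tt N7685 (iv F9647)) (tt N6747 F7933) (tt N7686 D8589) (tt N2700 F4794) (tt N2606 (iv D5727)))
theorem Q4870 : ∀ i, i < 4870 → P i := stepQ 4869 Q4869 (allL N4869 (tt N7687 D8590) (tt N7688 D8591) (tt N2607 (iv D5728)) (tt N7689 D8592) (tt N7690 D8593))
theorem Q4871 : ∀ i, i < 4871 → P i := stepQ 4870 Q4870 (allL N4870 (tt N7691 D8594) (tt N6775 F7986) (tt N7689 (iv F9654)) (tt N2607 (iv D5729)) (tt N2699 F4795))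
theorem Q4872 : ∀ i, i < 4872 → P i := stepQ 4871 Q4871 (allL N4871 (tt N3422 F4797) (tt N2608 (iv D5730)) (tt N3537 F4796) (tt N6946 (iv F8290)) (tt N5680 (iv F6102)))
theorem Q4873 : ∀ i, i < 4873 → P i := stepQ 4872 Q4872 (allL N4872 (tt N7577 (iv F9442)) (tt N3502 F4798) (tt N2608 (iv D5731)) (tt N6604 (iv F8236)) (tt N6345 (iv F7263)))
theorem Q4874 : ∀ i, i < 4874 → P i := stepQ 4873 Q4873 (allL N4873 (tt N7684 (iv F9645)) (tt N6946 F8291) (tt N6604 F8237) (tt N2608 (iv D5732)) (tt N7692 D8595))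
theorem Q4875 : ∀ i, i < 4875 → P i := stepQ 4874 Q4874 (allL N4874 (tt N2611 F4799) (tt N5680 (iv F6101)) (tt N2824 F4800) (tt N7693 D8596) (tt N2608 (iv D5733)))
theorem Q4876 : ∀ i, i < 4876 → P i := stepQ 4875 Q4875 (allL N4875 (tt N2609 (iv D5734)) (tt N3585 F4802) (tt N3515 F4801) (tt N6614 (iv F7683)) (tt N5576 (iv F5931)))
theorem Q4877 : ∀ i, i < 4877 → P i := stepQ 4876 Q4876 (allL N4876 (tt N5592 F6297) (tt N2610 F4803) (tt N7490 (iv F9299)) (tt N2609 (iv D5735)) (tt N5591 (iv F6296)))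
theorem Q4878 : ∀ i, i < 4878 → P i := stepQ 4877 Q4877 (allL N4877 (tt N5576 (iv F5932)) (tt N2611 F4804) (tt N5739 (iv F6205)) (tt N7694 D8597) (tt N2609 (iv D5736)))
theorem Q4879 : ∀ i, i < 4879 → P i := stepQ 4878 Q4878 (allL N4878 (tt N2610 (iv D5737)) (tt N4878 F6298) (tt N7695 D8598) (tt N7696 D8599) (tt N7697 D8600))
theorem Q4880 : ∀ i, i < 4880 → P i := stepQ 4879 Q4879 (allL N4879 (tt N7697 (iv F9678)) (tt N5591 F6294) (tt N5855 (iv F6409)) (tt N2704 F6295) (tt N2610 (iv D5738)))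
theorem Q4881 : ∀ i, i < 4881 → P i := stepQ 4880 Q4880 (allL N4880 (tt N7698 D8601) (tt N7694 (iv F9666)) (tt N5798 (iv F6292)) (tt N2611 (iv D5739)) (tt N2703 F6293))
theorem Q4882 : ∀ i, i < 4882 → P i := stepQ 4881 Q4881 (allL N4881 (tt N6961 (iv F8311)) (tt N2612 (iv D5740)) (tt N6975 (iv F8341)) (tt N7264 (iv F8879)) (tt N7259 F8862))
theorem Q4883 : ∀ i, i < 4883 → P i := stepQ 4882 Q4882 (allL N4882 (tt N4788 F4805) (tt N5325 F5521) (tt N2612 (iv D5741)) (tt N6608 (iv F7670)) (tt N5324 (iv F5522)))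
theorem Q4884 : ∀ i, i < 4884 → P i := stepQ 4883 Q4883 (allL N4883 (tt N3430 F4806) (tt N7264 (iv F8877)) (tt N6608 (iv F7671)) (tt N2612 (iv D5742)) (tt N7262 (iv F8872)))
theorem Q4885 : ∀ i, i < 4885 → P i := stepQ 4884 Q4884 (allL N4884 (tt N2613 F4807) (tt N7259 (iv F8860)) (tt N7699 D8602) (tt N7258 F8859) (tt N2612 (iv D5743)))
theorem Q4886 : ∀ i, i < 4886 → P i := stepQ 4885 Q4885 (allL N4885 (tt N7467 (iv F9268)) (tt N7700 D8603) (tt N2613 (iv D5744)) (tt N2706 F4808) (tt N7701 D8604))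
theorem Q4887 : ∀ i, i < 4887 → P i := stepQ 4886 Q4886 (allL N4886 (tt N2614 (iv D5745)) (tt N4379 F4809) (tt N6345 (iv F7262)) (tt N4377 (iv F4810)) (tt N7702 D8605))
theorem Q4888 : ∀ i, i < 4888 → P i := stepQ 4887 Q4887 (allL N4887 (tt N7703 D8606) (tt N2614 (iv D5746)) (tt N7440 (iv F9214)) (tt N7704 D8607) (tt N7438 (iv F9209)))
theorem Q4889 : ∀ i, i < 4889 → P i := stepQ 4888 Q4888 (allL N4888 (tt N7455 (iv F9239)) (tt N7704 (iv F9694)) (tt N2615 F4811) (tt N2614 (iv D5747)) (tt N7705 D8608))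
theorem Q4890 : ∀ i, i < 4890 → P i := stepQ 4889 Q4889 (allL N4889 (tt N7702 (iv F9687)) (tt N7438 F9207) (tt N5799 (iv F6300)) (tt N7701 F9686) (tt N2614 (iv D5748)))
theorem Q4891 : ∀ i, i < 4891 → P i := stepQ 4890 Q4890 (allL N4890 (tt N2615 (iv D5749)) (tt N7263 (iv F8873)) (tt N7706 D8609) (tt N7262 F8871) (tt N2705 F4812))
theorem Q4892 : ∀ i, i < 4892 → P i := stepQ 4891 Q4891 (allL N4891 (tt N2616 (iv D5750)) (tt N3421 F4813) (tt N4842 F4814) (tt N6945 (iv F8286)) (tt N4548 F4815))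
theorem Q4893 : ∀ i, i < 4893 → P i := stepQ 4892 Q4892 (allL N4892 (tt N2633 F4818) (tt N2881 F4816) (tt N3613 F4817) (tt N2618 (iv D5751)) (tt N7707 D8610))
theorem Q4894 : ∀ i, i < 4894 → P i := stepQ 4893 Q4893 (allL N4893 (tt N2621 F4819) (tt N2882 F4820) (tt N2830 F4821) (tt N2666 (iv F4822)) (tt N2618 (iv D5752)))
theorem Q4895 : ∀ i, i < 4895 → P i := stepQ 4894 Q4894 (allL N4894 (tt N2619 (iv D5753)) (tt N7579 (iv F9447)) (tt N3508 (iv F4826)) (tt N7708 D8611) (tt N6035 (iv F6741)))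
theorem Q4896 : ∀ i, i < 4896 → P i := stepQ 4895 Q4895 (allL N4895 (tt N3568 F4827) (tt N2620 F4825) (tt N2619 (iv D5754)) (tt N2619 (iv F4829)) (tt N4554 F4828))
theorem Q4897 : ∀ i, i < 4897 → P i := stepQ 4896 Q4896 (allL N4896 (tt N6035 (iv F6740)) (tt N2621 F4830) (tt N4553 F4831) (tt N7709 D8612) (tt N2619 (iv D5755)))
theorem Q4898 : ∀ i, i < 4898 → P i := stepQ 4897 Q4897 (allL N4897 (tt N5691 (iv F6135)) (tt N4554 F4832) (tt N7710 D8613) (tt N2694 F4859) (tt N2620 (iv D5756)))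
theorem Q4899 : ∀ i, i < 4899 → P i := stepQ 4898 Q4898 (allL N4898 (tt N2631 (iv F4834)) (tt N7711 D8614) (tt N2621 (iv D5757)) (tt N7712 D8615) (tt N3125 F4857))
theorem Q4900 : ∀ i, i < 4900 → P i := stepQ 4899 Q4899 (allL N4899 (tt N5908 (iv F6506)) (tt N7709 (iv F9706)) (tt N7712 (iv F9718)) (tt N2621 (iv D5758)) (tt N2693 F4858))
theorem Q4901 : ∀ i, i < 4901 → P i := stepQ 4900 Q4900 (allL N4900 (tt N5688 (iv F6117)) (tt N4561 F4860) (tt N2622 (iv D5759)) (tt N2695 F4861) (tt N5686 (iv F6114)))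
theorem Q4902 : ∀ i, i < 4902 → P i := stepQ 4901 Q4901 (allL N4901 (tt N2623 (iv D5760)) (tt N2894 (iv F4870)) (tt N3642 (iv F4864)) (tt N2675 F4862) (tt N2828 (iv F4866)))
theorem Q4903 : ∀ i, i < 4903 → P i := stepQ 4902 Q4902 (allL N4902 (tt N7713 D8616) (tt N2623 (iv D5761)) (tt N4557 F4872) (tt N4603 (iv F4873)) (tt N7714 D8617))
theorem Q4904 : ∀ i, i < 4904 → P i := stepQ 4903 Q4903 (allL N4903 (tt N5907 (iv F6489)) (tt N4603 F4874) (tt N2624 F4875) (tt N2623 (iv D5762)) (tt N5906 (iv F6488)))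
theorem Q4905 : ∀ i, i < 4905 → P i := stepQ 4904 Q4904 (allL N4904 (tt N2828 F4876) (tt N7714 (iv F9721)) (tt N3125 F4877) (tt N5686 (iv F6112)) (tt N2623 (iv D5763)))
theorem Q4906 : ∀ i, i < 4906 → P i := stepQ 4905 Q4905 (allL N4905 (tt N7601 (iv F9501)) (tt N3541 F4878) (tt N2625 (iv D5764)) (tt N4854 F4879) (tt N4566 F4880))
theorem Q4907 : ∀ i, i < 4907 → P i := stepQ 4906 Q4906 (allL N4906 (tt N5966 (iv F6624)) (tt N2628 F4881) (tt N7336 (iv F9017)) (tt N5042 (iv F5108)) (tt N2625 (iv D5765)))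
theorem Q4908 : ∀ i, i < 4908 → P i := stepQ 4907 Q4907 (allL N4907 (tt N3642 F4882) (tt N7411 (iv F9165)) (tt N2637 F4883) (tt N6440 (iv F7423)) (tt N2626 (iv D5766)))
theorem Q4909 : ∀ i, i < 4909 → P i := stepQ 4908 Q4908 (allL N4908 (tt N3428 F4884) (tt N4855 F4885) (tt N5685 (iv F6110)) (tt N2687 F4886) (tt N2627 (iv D5767)))
theorem Q4910 : ∀ i, i < 4910 → P i := stepQ 4909 Q4909 (allL N4909 (tt N2830 F4887) (tt N4807 F4889) (tt N2628 (iv D5768)) (tt N5905 (iv F6483)) (tt N2827 F4888))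
theorem Q4911 : ∀ i, i < 4911 → P i := stepQ 4910 Q4910 (allL N4910 (tt N3778 (iv F4891)) (tt N5042 (iv F5107)) (tt N5905 (iv F6484)) (tt N2628 (iv D5769)) (tt N2686 F4890))
theorem Q4912 : ∀ i, i < 4912 → P i := stepQ 4911 Q4911 (allL N4911 (tt N3613 F4892) (tt N7005 (iv F8402)) (tt N2629 (iv D5771)) (tt N6189 (iv F6924)) (tt N7715 D8618))
theorem Q4913 : ∀ i, i < 4913 → P i := stepQ 4912 Q4912 (allL N4912 (tt N3427 F4893) (tt N7006 (iv F8404)) (tt N6189 (iv F6923)) (tt N2629 (iv D5772)) (tt N2683 F4894))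
theorem Q4914 : ∀ i, i < 4914 → P i := stepQ 4913 Q4913 (allL N4913 (tt N2630 F4895) (tt N7007 (iv F8407)) (tt N7716 D8619) (tt N2681 F4896) (tt N2629 (iv D5773)))
theorem Q4915 : ∀ i, i < 4915 → P i := stepQ 4914 Q4914 (allL N4914 (tt N7717 D8620) (tt N3264 (iv F4899)) (tt N2630 (iv D5774)) (tt N2688 F4897) (tt N3126 F4898))
theorem Q4916 : ∀ i, i < 4916 → P i := stepQ 4915 Q4915 (allL N4915 (tt N2632 (iv D5775)) (tt N2638 F4900) (tt N6283 (iv F7161)) (tt N7261 (iv F8869)) (tt N7260 (iv F8865)))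
theorem Q4917 : ∀ i, i < 4917 → P i := stepQ 4916 Q4916 (allL N4916 (tt N6275 (iv F7137)) (tt N2633 (iv D5776)) (tt N4916 F4901) (tt N7279 (iv F8914)) (tt N7276 F8907))
theorem Q4918 : ∀ i, i < 4918 → P i := stepQ 4917 Q4917 (allL N4917 (tt N5719 (iv F6164)) (tt N7279 (iv F8912)) (tt N2634 F4902) (tt N2633 (iv D5777)) (tt N2671 F4903))
theorem Q4919 : ∀ i, i < 4919 → P i := stepQ 4918 Q4918 (allL N4918 (tt N7707 (iv F9699)) (tt N7276 (iv F8904)) (tt N7717 (iv F9734)) (tt N2669 F4904) (tt N2633 (iv D5778)))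
theorem Q4920 : ∀ i, i < 4920 → P i := stepQ 4919 Q4919 (allL N4919 (tt N7718 D8621) (tt N7306 (iv F8958)) (tt N2635 (iv D5779)) (tt N2674 F4905) (tt N7719 D8622))
theorem Q4921 : ∀ i, i < 4921 → P i := stepQ 4920 Q4920 (allL N4920 (tt N2636 (iv D5780)) (tt N4046 (iv F5945)) (tt N7715 (iv F9729)) (tt N3137 F4907) (tt N3127 F4906))
theorem Q4922 : ∀ i, i < 4922 → P i := stepQ 4921 Q4921 (allL N4921 (tt N3353 F4909) (tt N2637 (iv D5781)) (tt N4513 F4910) (tt N6668 (iv F7796)) (tt N3123 F4908))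
theorem Q4923 : ∀ i, i < 4923 → P i := stepQ 4922 Q4922 (allL N4922 (tt N3779 F4912) (tt N6668 (iv F7797)) (tt N6440 (iv F7422)) (tt N2637 (iv D5782)) (tt N3142 F4911))
theorem Q4924 : ∀ i, i < 4924 → P i := stepQ 4923 Q4923 (allL N4923 (tt N3918 F4913) (tt N6271 (iv F7123)) (tt N2638 (iv D5783)) (tt N7604 (iv F9508)) (tt N7720 D8623))
theorem Q4925 : ∀ i, i < 4925 → P i := stepQ 4924 Q4924 (allL N4924 (tt N3423 F4914) (tt N7261 (iv F8867)) (tt N7604 (iv F9509)) (tt N2638 (iv D5784)) (tt N2647 F4915))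
theorem Q4926 : ∀ i, i < 4926 → P i := stepQ 4925 Q4925 (allL N4925 (tt N2640 F4916) (tt N7260 (iv F8863)) (tt N7721 D8624) (tt N2645 F4917) (tt N2638 (iv D5785)))
theorem Q4927 : ∀ i, i < 4927 → P i := stepQ 4926 Q4926 (allL N4926 (tt N2639 (iv D5786)) (tt N4926 F4918) (tt N6288 (iv F7171)) (tt N7722 D8625) (tt N7723 D8626))
theorem Q4928 : ∀ i, i < 4928 → P i := stepQ 4927 Q4927 (allL N4927 (tt N6265 (iv F7096)) (tt N2639 (iv D5787)) (tt N7217 (iv F8802)) (tt N6947 (iv F8293)) (tt N7724 D8627))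
theorem Q4929 : ∀ i, i < 4929 → P i := stepQ 4928 Q4928 (allL N4928 (tt N7723 (iv F9751)) (tt N7724 (iv F9756)) (tt N5805 (iv F6305)) (tt N2653 F6370) (tt N2639 (iv D5788)))
theorem Q4930 : ∀ i, i < 4930 → P i := stepQ 4929 Q4929 (allL N4929 (tt N7175 (iv F8727)) (tt N7725 D8628) (tt N2640 (iv D5789)) (tt N2659 F4919) (tt N7726 D8629))
theorem Q4931 : ∀ i, i < 4931 → P i := stepQ 4930 Q4930 (allL N4930 (tt N2641 (iv D5790)) (tt N6943 (iv F8283)) (tt N4930 F4920) (tt N6941 F8280) (tt N7074 (iv F8517)))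
theorem Q4932 : ∀ i, i < 4932 → P i := stepQ 4931 Q4931 (allL N4931 (tt N7074 (iv F8518)) (tt N2645 F4921) (tt N2741 F4922) (tt N7260 (iv F8866)) (tt N2641 (iv D5791)))
theorem Q4933 : ∀ i, i < 4933 → P i := stepQ 4932 Q4932 (allL N4932 (tt N2642 (iv D5792)) (tt N2715 F4923) (tt N6326 (iv F7229)) (tt N2713 F4924) (tt N7606 (iv F9517)))
theorem Q4934 : ∀ i, i < 4934 → P i := stepQ 4933 Q4933 (allL N4933 (tt N7606 (iv F9518)) (tt N2735 F4927) (tt N7727 D8630) (tt N7720 (iv F9746)) (tt N2642 (iv D5793)))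
theorem Q4935 : ∀ i, i < 4935 → P i := stepQ 4934 Q4934 (allL N4934 (tt N7605 (iv F9512)) (tt N2737 F4928) (tt N5844 (iv F6390)) (tt N2643 (iv D5794)) (tt N7604 (iv F9511)))
theorem Q4936 : ∀ i, i < 4936 → P i := stepQ 4935 Q4935 (allL N4935 (tt N2648 F4930) (tt N7728 D8631) (tt N2644 (iv D5795)) (tt N3773 F4929) (tt N7729 D8632))
theorem Q4937 : ∀ i, i < 4937 → P i := stepQ 4936 Q4936 (allL N4936 (tt N2645 F4931) (tt N3426 F4932) (tt N7730 D8633) (tt N3424 (iv F4933)) (tt N2644 (iv D5796)))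
theorem Q4938 : ∀ i, i < 4938 → P i := stepQ 4937 Q4937 (allL N4937 (tt N7731 D8634) (tt N7732 D8635) (tt N2645 (iv D5797)) (tt N7721 (iv F9747)) (tt N7733 D8636))
theorem Q4939 : ∀ i, i < 4939 → P i := stepQ 4938 Q4938 (allL N4938 (tt N5392 (iv F5621)) (tt N2646 (iv D5798)) (tt N2748 F4934) (tt N7734 D8637) (tt N5390 (iv F5618)))
theorem Q4940 : ∀ i, i < 4940 → P i := stepQ 4939 Q4939 (allL N4939 (tt N7735 D8638) (tt N7734 (iv F9766)) (tt N2647 F4935) (tt N2646 (iv D5799)) (tt N7736 D8639))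
theorem Q4941 : ∀ i, i < 4941 → P i := stepQ 4940 Q4940 (allL N4940 (tt N6851 (iv F8141)) (tt N5390 F5619) (tt N5845 (iv F6393)) (tt N7733 (iv F11339)) (tt N2646 (iv D5800)))
theorem Q4942 : ∀ i, i < 4942 → P i := stepQ 4941 Q4941 (allL N4941 (tt N2647 (iv D5801)) (tt N3425 (iv F4938)) (tt N7177 (iv F8731)) (tt N3774 F4937) (tt N3423 F4936))
theorem Q4943 : ∀ i, i < 4943 → P i := stepQ 4942 Q4942 (allL N4942 (tt N7729 (iv F9762)) (tt N4942 F4939) (tt N7737 D8641) (tt N7723 (iv F9753)) (tt N2648 (iv D5802)))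
theorem Q4944 : ∀ i, i < 4944 → P i := stepQ 4943 Q4943 (allL N4943 (tt N7738 D8642) (tt N4943 F4940) (tt N2834 F4941) (tt N2649 (iv D5803)) (tt N7722 (iv F9750)))
theorem Q4945 : ∀ i, i < 4945 → P i := stepQ 4944 Q4944 (allL N4944 (tt N2650 (iv D5804)) (tt N6409 (iv F7365)) (tt N3926 F4942) (tt N5010 (iv F5058)) (tt N7739 D8643))
theorem Q4946 : ∀ i, i < 4946 → P i := stepQ 4945 Q4945 (allL N4945 (tt N7739 (iv F9773)) (tt N2653 F4943) (tt N7182 (iv F8742)) (tt N7724 (iv F9757)) (tt N2650 (iv D5805)))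
theorem Q4947 : ∀ i, i < 4947 → P i := stepQ 4946 Q4946 (allL N4946 (tt N7740 D8644) (tt N2654 F4944) (tt N5287 (iv F5480)) (tt N2651 (iv D5806)) (tt N6947 (iv F8294)))
theorem Q4948 : ∀ i, i < 4948 → P i := stepQ 4947 Q4947 (allL N4947 (tt N7741 D8645) (tt N2652 (iv D5807)) (tt N6333 (iv F7239)) (tt N2701 F4951) (tt N7693 (iv F9665)))
theorem Q4949 : ∀ i, i < 4949 → P i := stepQ 4948 Q4948 (allL N4948 (tt N3921 F4945) (tt N3751 (iv F4947)) (tt N2652 (iv D5808)) (tt N3749 F4946) (tt N7742 D8646))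
theorem Q4950 : ∀ i, i < 4950 → P i := stepQ 4949 Q4949 (allL N4949 (tt N3773 F4948) (tt N2701 F4950) (tt N3749 F4949) (tt N2652 (iv D5809)) (tt N5900 (iv F6473)))
theorem Q4951 : ∀ i, i < 4951 → P i := stepQ 4950 Q4950 (allL N4950 (tt N2653 F4952) (tt N7693 (iv F9663)) (tt N5681 (iv F7703)) (tt N5680 F7704) (tt N2652 (iv D5810)))
theorem Q4952 : ∀ i, i < 4952 → P i := stepQ 4951 Q4951 (allL N4951 (tt N7743 D8647) (tt N5807 (iv F6372)) (tt N2653 (iv D5811)) (tt N5805 F6371) (tt N5848 F6398))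
theorem Q4953 : ∀ i, i < 4953 → P i := stepQ 4952 Q4952 (allL N4952 (tt N2654 (iv D5813)) (tt N7692 (iv F9660)) (tt N5901 (iv F6477)) (tt N5900 F6474) (tt N6946 (iv F8289)))
theorem Q4954 : ∀ i, i < 4954 → P i := stepQ 4953 Q4953 (allL N4953 (tt N4249 F4953) (tt N3655 (iv F4955)) (tt N2655 (iv D5815)) (tt N3654 F4956) (tt N4382 F4954))
theorem Q4955 : ∀ i, i < 4955 → P i := stepQ 4954 Q4954 (allL N4954 (tt N2690 (iv F4959)) (tt N2657 F4957) (tt N3654 F4958) (tt N2655 (iv D5816)) (tt N4601 (iv F4960)))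
theorem Q4956 : ∀ i, i < 4956 → P i := stepQ 4955 Q4955 (allL N4955 (tt N7063 (iv F8501)) (tt N2658 F4961) (tt N5167 (iv F5358)) (tt N4548 F4962) (tt N2655 (iv D5817)))
theorem Q4957 : ∀ i, i < 4957 → P i := stepQ 4956 Q4956 (allL N4956 (tt N6460 (iv F7452)) (tt N2656 (iv D5818)) (tt N3652 F4963) (tt N3651 (iv F4964)) (tt N5165 (iv F5351)))
theorem Q4958 : ∀ i, i < 4958 → P i := stepQ 4957 Q4957 (allL N4957 (tt N2713 F4965) (tt N3651 F4966) (tt N2657 F4967) (tt N2656 (iv D5819)) (tt N5199 (iv F5396)))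
theorem Q4959 : ∀ i, i < 4959 → P i := stepQ 4958 Q4958 (allL N4958 (tt N3923 F4968) (tt N5165 F5352) (tt N7743 (iv F9787)) (tt N5164 (iv F5353)) (tt N2656 (iv D5820)))
theorem Q4960 : ∀ i, i < 4960 → P i := stepQ 4959 Q4959 (allL N4959 (tt N3774 F4969) (tt N4601 F4970) (tt N7744 D8648) (tt N2663 F4971) (tt N2657 (iv D5821)))
theorem Q4961 : ∀ i, i < 4961 → P i := stepQ 4960 Q4960 (allL N4960 (tt N7745 D8649) (tt N7746 D8650) (tt N2658 (iv D5822)) (tt N7747 D8651) (tt N7748 D8652))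
theorem Q4962 : ∀ i, i < 4962 → P i := stepQ 4961 Q4961 (allL N4961 (tt N3424 F4972) (tt N4548 F4973) (tt N7747 (iv F9793)) (tt N2658 (iv D5823)) (tt N3421 F4974))
theorem Q4963 : ∀ i, i < 4963 → P i := stepQ 4962 Q4962 (allL N4962 (tt N2659 (iv D5824)) (tt N4637 (iv F6719)) (tt N7742 (iv F9785)) (tt N4636 F6718) (tt N7749 D8653))
theorem Q4964 : ∀ i, i < 4964 → P i := stepQ 4963 Q4963 (allL N4963 (tt N7750 D8654) (tt N2659 (iv D5825)) (tt N7136 (iv F8648)) (tt N7725 (iv F9758)) (tt N5471 (iv F6402)))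
theorem Q4965 : ∀ i, i < 4965 → P i := stepQ 4964 Q4964 (allL N4964 (tt N7749 (iv F9797)) (tt N5471 F6399) (tt N5848 F6400) (tt N2662 F6401) (tt N2659 (iv D5826)))
theorem Q4966 : ∀ i, i < 4966 → P i := stepQ 4965 Q4965 (allL N4965 (tt N7751 D8655) (tt N2661 F4975) (tt N7134 (iv F8641)) (tt N2660 (iv D5827)) (tt N7127 (iv F8622)))
theorem Q4967 : ∀ i, i < 4967 → P i := stepQ 4966 Q4966 (allL N4966 (tt N2661 (iv D5828)) (tt N4714 (iv F4977)) (tt N7752 D8656) (tt N4713 F4976) (tt N7753 D8657))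
theorem Q4968 : ∀ i, i < 4968 → P i := stepQ 4967 Q4967 (allL N4967 (tt N7753 (iv F9809)) (tt N7127 F8620) (tt N5847 (iv F6395)) (tt N7726 (iv F9759)) (tt N2661 (iv D5829)))
theorem Q4969 : ∀ i, i < 4969 → P i := stepQ 4968 Q4968 (allL N4968 (tt N6949 (iv F8300)) (tt N2663 (iv D5831)) (tt N4345 F4979) (tt N4601 F4978) (tt N6945 (iv F8287)))
theorem Q4970 : ∀ i, i < 4970 → P i := stepQ 4969 Q4969 (allL N4969 (tt N6850 (iv F8139)) (tt N7754 D8658) (tt N2663 (iv D5832)) (tt N7744 (iv F9788)) (tt N7755 D8659))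
theorem Q4971 : ∀ i, i < 4971 → P i := stepQ 4970 Q4970 (allL N4970 (tt N3418 F4980) (tt N2664 (iv D5833)) (tt N6635 (iv F7727)) (tt N2705 (iv F5053)) (tt N7258 (iv F8858)))
theorem Q4972 : ∀ i, i < 4972 → P i := stepQ 4971 Q4971 (allL N4971 (tt N6941 (iv F8278)) (tt N2705 F5054) (tt N7017 (iv F8425)) (tt N2664 (iv D5834)) (tt N7263 (iv F8875)))
theorem Q4973 : ∀ i, i < 4973 → P i := stepQ 4972 Q4972 (allL N4972 (tt N2694 F4981) (tt N2885 F4982) (tt N2842 F5023) (tt N7707 (iv F9701)) (tt N2665 (iv D5835)))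
theorem Q4974 : ∀ i, i < 4974 → P i := stepQ 4973 Q4973 (allL N4973 (tt N2667 (iv D5836)) (tt N7756 D8660) (tt N6116 F6839) (tt N7757 D8661) (tt N7275 (iv F8903)))
theorem Q4975 : ∀ i, i < 4975 → P i := stepQ 4974 Q4974 (allL N4974 (tt N2669 F4983) (tt N5718 (iv F6162)) (tt N5678 (iv F6098)) (tt N5691 (iv F6133)) (tt N2668 (iv D5837)))
theorem Q4976 : ∀ i, i < 4976 → P i := stepQ 4975 Q4975 (allL N4975 (tt N7758 D8662) (tt N7287 (iv F8927)) (tt N2669 (iv D5838)) (tt N7717 (iv F9736)) (tt N3139 (iv F5974)))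
theorem Q4977 : ∀ i, i < 4977 → P i := stepQ 4976 Q4976 (allL N4976 (tt N7759 D8663) (tt N7292 (iv F8939)) (tt N2671 F4984) (tt N2670 (iv D5839)) (tt N7760 D8664))
theorem Q4978 : ∀ i, i < 4978 → P i := stepQ 4977 Q4977 (allL N4977 (tt N2671 (iv D5840)) (tt N5721 (iv F6168)) (tt N5690 F6132) (tt N5908 (iv F6504)) (tt N5719 F6167))
theorem Q4979 : ∀ i, i < 4979 → P i := stepQ 4978 Q4978 (allL N4978 (tt N2681 F4985) (tt N3498 F4986) (tt N7758 (iv F9813)) (tt N3428 F4987) (tt N2672 (iv D5841)))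
theorem Q4980 : ∀ i, i < 4980 → P i := stepQ 4979 Q4979 (allL N4979 (tt N3137 F4991) (tt N3483 F4993) (tt N2673 (iv D5842)) (tt N3429 F4990) (tt N3136 (iv F4992)))
theorem Q4981 : ∀ i, i < 4981 → P i := stepQ 4980 Q4980 (allL N4980 (tt N2674 (iv D5843)) (tt N5729 (iv F6180)) (tt N6191 (iv F6935)) (tt N5688 F6125) (tt N5677 F6095))
theorem Q4982 : ∀ i, i < 4982 → P i := stepQ 4981 Q4981 (allL N4981 (tt N5677 (iv F6092)) (tt N5443 F5971) (tt N3139 F5972) (tt N2677 F5973) (tt N2674 (iv D5844)))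
theorem Q4983 : ∀ i, i < 4983 → P i := stepQ 4982 Q4982 (allL N4982 (tt N2676 (iv D5845)) (tt N5743 F6495) (tt N6190 (iv F6928)) (tt N5907 (iv F6491)) (tt N5687 (iv F6493)))
theorem Q4984 : ∀ i, i < 4984 → P i := stepQ 4983 Q4983 (allL N4983 (tt N5687 F6494) (tt N7314 (iv F8976)) (tt N7760 (iv F9825)) (tt N7719 (iv F9743)) (tt N2676 (iv D5846)))
theorem Q4985 : ∀ i, i < 4985 → P i := stepQ 4984 Q4984 (allL N4984 (tt N2697 F4998) (tt N3489 (iv F4999)) (tt N2678 (iv D5848)) (tt N3779 F4997) (tt N3487 (iv F5000)))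
theorem Q4986 : ∀ i, i < 4986 → P i := stepQ 4985 Q4985 (allL N4985 (tt N6191 (iv F6937)) (tt N7031 (iv F8438)) (tt N3137 F5001) (tt N7715 (iv F9728)) (tt N2679 (iv D5849)))
theorem Q4987 : ∀ i, i < 4987 → P i := stepQ 4986 Q4986 (allL N4986 (tt N6190 (iv F6926)) (tt N4580 F5002) (tt N2697 F5003) (tt N2680 (iv D5850)) (tt N6189 F6925))
theorem Q4988 : ∀ i, i < 4988 → P i := stepQ 4987 Q4987 (allL N4987 (tt N5678 (iv F6096)) (tt N4005 F5005) (tt N2681 (iv D5851)) (tt N7716 (iv F9731)) (tt N2839 F5004))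
theorem Q4989 : ∀ i, i < 4989 → P i := stepQ 4988 Q4988 (allL N4988 (tt N5690 (iv F6129)) (tt N4007 F5007) (tt N2683 F5008) (tt N2682 (iv D5852)) (tt N5689 F6128))
theorem Q4990 : ∀ i, i < 4990 → P i := stepQ 4989 Q4989 (allL N4989 (tt N2683 (iv D5853)) (tt N3520 (iv F5011)) (tt N7759 (iv F9820)) (tt N3778 F5009) (tt N3427 F5010))
theorem Q4991 : ∀ i, i < 4991 → P i := stepQ 4990 Q4990 (allL N4990 (tt N7761 D8665) (tt N3753 F5012) (tt N2684 (iv D5854)) (tt N4992 (iv F5018)) (tt N4595 (iv F5755)))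
theorem Q4992 : ∀ i, i < 4992 → P i := stepQ 4991 Q4991 (allL N4991 (tt N6454 (iv F7439)) (tt N2687 F5013) (tt N7338 (iv F9020)) (tt N4855 (iv F5014)) (tt N2684 (iv D5855)))
theorem Q4993 : ∀ i, i < 4993 → P i := stepQ 4992 Q4992 (allL N4992 (tt N7762 D8666) (tt N2685 (iv D5856)) (tt N2726 F5017) (tt N4990 F5018) (tt N7381 F9091))
theorem Q4994 : ∀ i, i < 4994 → P i := stepQ 4993 Q4993 (allL N4993 (tt N3641 F5019) (tt N7381 (iv F9089)) (tt N2696 F5020) (tt N6188 F6922) (tt N2685 (iv D5857)))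
theorem Q4995 : ∀ i, i < 4995 → P i := stepQ 4994 Q4994 (allL N4994 (tt N2842 (iv F5022)) (tt N7332 (iv F9006)) (tt N2687 (iv D5858)) (tt N5685 (iv F6109)) (tt N2841 F5021))
theorem Q4996 : ∀ i, i < 4996 → P i := stepQ 4995 Q4995 (allL N4995 (tt N2688 (iv D5859)) (tt N7763 D8667) (tt N2694 F5024) (tt N7710 (iv F9712)) (tt N3140 F5025))
theorem Q4997 : ∀ i, i < 4997 → P i := stepQ 4996 Q4996 (allL N4996 (tt N7062 (iv F8498)) (tt N2699 F5026) (tt N4248 F5027) (tt N2689 (iv D5860)) (tt N6775 (iv F7985)))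
theorem Q4998 : ∀ i, i < 4998 → P i := stepQ 4997 Q4997 (allL N4997 (tt N2691 F5028) (tt N2700 F5029) (tt N6748 (iv F7937)) (tt N6747 (iv F7934)) (tt N2689 (iv D5861)))
theorem Q4999 : ∀ i, i < 4999 → P i := stepQ 4998 Q4998 (allL N4998 (tt N2692 (iv D5862)) (tt N7764 D8668) (tt N3786 F5069) (tt N7765 D8669) (tt N7766 D8670))
theorem Q5000 : ∀ i, i < 5000 → P i := stepQ 4999 Q4999 (allL N4999 (tt N3734 F5031) (tt N2693 F5030) (tt N2692 (iv D5863)) (tt N2692 (iv F5032)) (tt N7709 (iv F9708)))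
theorem Q5001 : ∀ i, i < 5001 → P i := stepQ 5000 Q5000 (allL N5000 (tt N7766 (iv F9841)) (tt N2694 F5033) (tt N4555 F5035) (tt N4554 (iv F5034)) (tt N2692 (iv D5864)))
theorem Q5002 : ∀ i, i < 5002 → P i := stepQ 5001 Q5001 (allL N5001 (tt N2695 (iv D5865)) (tt N2910 F5038) (tt N3641 F5036) (tt N7718 (iv F9738)) (tt N2840 (iv F5037)))
theorem Q5003 : ∀ i, i < 5003 → P i := stepQ 5002 Q5002 (allL N5002 (tt N7767 D8671) (tt N2695 (iv D5866)) (tt N4562 F5039) (tt N4561 F5040) (tt N7768 D8672))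
theorem Q5004 : ∀ i, i < 5004 → P i := stepQ 5003 Q5003 (allL N5003 (tt N2840 F5041) (tt N7768 (iv F9842)) (tt N3140 F5042) (tt N5906 (iv F6486)) (tt N2695 (iv D5867)))
theorem Q5005 : ∀ i, i < 5005 → P i := stepQ 5004 Q5004 (allL N5004 (tt N3487 F5043) (tt N4048 F5044) (tt N5689 (iv F6127)) (tt N3127 F5045) (tt N2697 (iv D5868)))
theorem Q5006 : ∀ i, i < 5006 → P i := stepQ 5005 Q5005 (allL N5005 (tt N2698 (iv D5869)) (tt N2709 F5046) (tt N6332 (iv F7237)) (tt N4773 (iv F5049)) (tt N7769 D8673))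
theorem Q5007 : ∀ i, i < 5007 → P i := stepQ 5006 Q5006 (allL N5006 (tt N7769 (iv F9845)) (tt N3148 F5050) (tt N5854 (iv F6407)) (tt N6603 F7667) (tt N2698 (iv D5870)))
theorem Q5008 : ∀ i, i < 5008 → P i := stepQ 5007 Q5007 (allL N5007 (tt N2699 (iv D5871)) (tt N3419 F5051) (tt N7741 (iv F9781)) (tt N3418 (iv F5052)) (tt N7691 (iv F9658)))
theorem Q5009 : ∀ i, i < 5009 → P i := stepQ 5008 Q5008 (allL N5008 (tt N7770 D8674) (tt N7771 D8675) (tt N2700 (iv D5872)) (tt N7686 (iv F9652)) (tt N7772 D8676))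
theorem Q5010 : ∀ i, i < 5010 → P i := stepQ 5009 Q5009 (allL N5009 (tt N2704 F5055) (tt N5900 (iv F6472)) (tt N2843 F5056) (tt N7692 (iv F9662)) (tt N2701 (iv D5873)))
theorem Q5011 : ∀ i, i < 5011 → P i := stepQ 5010 Q5010 (allL N5010 (tt N2702 (iv D5874)) (tt N3720 F5057) (tt N3791 (iv F5059)) (tt N4944 F5058) (tt N5606 (iv F5988)))
theorem Q5012 : ∀ i, i < 5012 → P i := stepQ 5011 Q5011 (allL N5011 (tt N5029 (iv F5085)) (tt N2708 F5060) (tt N2702 (iv D5875)) (tt N6626 (iv F7710)) (tt N7558 (iv F9392)))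
theorem Q5013 : ∀ i, i < 5013 → P i := stepQ 5012 Q5012 (allL N5012 (tt N3712 F5061) (tt N2703 F5062) (tt N6626 (iv F7709)) (tt N2702 (iv D5876)) (tt N7694 (iv F9667)))
theorem Q5014 : ∀ i, i < 5014 → P i := stepQ 5013 Q5013 (allL N5013 (tt N5606 (iv F5989)) (tt N2704 F5063) (tt N5919 (iv F6528)) (tt N5591 (iv F5960)) (tt N2702 (iv D5877)))
theorem Q5015 : ∀ i, i < 5015 → P i := stepQ 5014 Q5014 (allL N5014 (tt N2703 (iv D5878)) (tt N5014 F5064) (tt N7773 D8677) (tt N7774 D8678) (tt N7698 (iv F9681)))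
theorem Q5016 : ∀ i, i < 5016 → P i := stepQ 5015 Q5015 (allL N5015 (tt N4773 F5065) (tt N3670 F5066) (tt N2705 (iv D5881)) (tt N6635 (iv F7726)) (tt N5318 (iv F5510)))
theorem Q5017 : ∀ i, i < 5017 → P i := stepQ 5016 Q5016 (allL N5016 (tt N2706 (iv D5882)) (tt N4359 F8566) (tt N6334 (iv F7242)) (tt N4358 (iv F8567)) (tt N7775 D8679))
theorem Q5018 : ∀ i, i < 5018 → P i := stepQ 5017 Q5017 (allL N5017 (tt N7776 D8680) (tt N2706 (iv D5883)) (tt N7566 (iv F9417)) (tt N7700 (iv F9683)) (tt N7777 D8681))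
theorem Q5019 : ∀ i, i < 5019 → P i := stepQ 5018 Q5018 (allL N5018 (tt N7775 (iv F9858)) (tt N7777 (iv F9864)) (tt N5856 (iv F6411)) (tt N7705 (iv F9698)) (tt N2706 (iv D5884)))
theorem Q5020 : ∀ i, i < 5020 → P i := stepQ 5019 Q5019 (allL N5019 (tt N3764 F5067) (tt N3785 (iv F5068)) (tt N2707 (iv D5885)) (tt N7477 (iv F9278)) (tt N7778 D8682))
theorem Q5021 : ∀ i, i < 5021 → P i := stepQ 5020 Q5020 (allL N5020 (tt N3765 F5070) (tt N7558 (iv F9393)) (tt N7779 D8683) (tt N7492 (iv F9301)) (tt N2708 (iv D5886)))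
theorem Q5022 : ∀ i, i < 5022 → P i := stepQ 5021 Q5021 (allL N5021 (tt N2711 F5071) (tt N7769 (iv F9846)) (tt N3336 F5073) (tt N4790 F5072) (tt N2709 (iv D5887)))
theorem Q5023 : ∀ i, i < 5023 → P i := stepQ 5022 Q5022 (allL N5022 (tt N2710 (iv D5888)) (tt N3782 F5074) (tt N7764 (iv F9836)) (tt N3943 F5075) (tt N7780 D8684))
theorem Q5024 : ∀ i, i < 5024 → P i := stepQ 5023 Q5023 (allL N5023 (tt N7780 (iv F9869)) (tt N2711 F5077) (tt N3143 F5078) (tt N7581 (iv F9451)) (tt N2710 (iv D5889)))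
theorem Q5025 : ∀ i, i < 5025 → P i := stepQ 5024 Q5024 (allL N5024 (tt N2712 (iv D5890)) (tt N7554 (iv F9383)) (tt N5925 (iv F6543)) (tt N4772 F5079) (tt N4769 F5080))
theorem Q5026 : ∀ i, i < 5026 → P i := stepQ 5025 Q5025 (allL N5025 (tt N7781 D8685) (tt N2712 (iv D5891)) (tt N5533 F7444) (tt N7574 (iv F9436)) (tt N7571 F9429))
theorem Q5027 : ∀ i, i < 5027 → P i := stepQ 5026 Q5026 (allL N5026 (tt N3749 F5081) (tt N7761 (iv F9827)) (tt N2713 (iv D5892)) (tt N6326 (iv F7230)) (tt N7782 D8686))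
theorem Q5028 : ∀ i, i < 5028 → P i := stepQ 5027 Q5027 (allL N5027 (tt N5199 (iv F5395)) (tt N2716 F5082) (tt N5899 (iv F6470)) (tt N7605 (iv F9514)) (tt N2713 (iv D5893)))
theorem Q5029 : ∀ i, i < 5029 → P i := stepQ 5028 Q5028 (allL N5028 (tt N5925 (iv F6541)) (tt N2887 F5083) (tt N2720 F5084) (tt N7584 (iv F9457)) (tt N2714 (iv D5894)))
theorem Q5030 : ∀ i, i < 5030 → P i := stepQ 5029 Q5029 (allL N5029 (tt N5011 F5085) (tt N3734 F5086) (tt N2717 (iv D5895)) (tt N3929 F5087) (tt N7783 D8687))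
theorem Q5031 : ∀ i, i < 5031 → P i := stepQ 5030 Q5030 (allL N5030 (tt N6471 (iv F7466)) (tt N2727 F5088) (tt N7543 (iv F9369)) (tt N6404 (iv F7355)) (tt N2718 (iv D5896)))
theorem Q5032 : ∀ i, i < 5032 → P i := stepQ 5031 Q5031 (allL N5031 (tt N5306 (iv F5495)) (tt N5865 (iv F6425)) (tt N2719 (iv D5897)) (tt N3132 F5089) (tt N6669 (iv F7801)))
theorem Q5033 : ∀ i, i < 5033 → P i := stepQ 5032 Q5032 (allL N5032 (tt N7155 (iv F8692)) (tt N2720 (iv D5898)) (tt N7784 D8688) (tt N7093 (iv F8558)) (tt N7083 F8538))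
theorem Q5034 : ∀ i, i < 5034 → P i := stepQ 5033 Q5033 (allL N5033 (tt N2721 (iv D5899)) (tt N3151 F5092) (tt N7785 D8689) (tt N3847 F5091) (tt N3837 F5090))
theorem Q5035 : ∀ i, i < 5035 → P i := stepQ 5034 Q5034 (allL N5034 (tt N6480 (iv F7478)) (tt N2730 F5093) (tt N2721 (iv D5900)) (tt N5476 (iv F5785)) (tt N5465 F5786))
theorem Q5036 : ∀ i, i < 5036 → P i := stepQ 5035 Q5035 (allL N5035 (tt N3745 F5094) (tt N2724 F5095) (tt N2722 (iv D5901)) (tt N2722 (iv F5096)) (tt N7414 (iv F9175)))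
theorem Q5037 : ∀ i, i < 5037 → P i := stepQ 5036 Q5036 (allL N5036 (tt N6347 (iv F7268)) (tt N2725 F5097) (tt N4793 F5098) (tt N4792 (iv F5099)) (tt N2722 (iv D5902)))
theorem Q5038 : ∀ i, i < 5038 → P i := stepQ 5037 Q5037 (allL N5037 (tt N2723 (iv D5903)) (tt N3764 F5100) (tt N7762 (iv F9831)) (tt N7652 (iv F9602)) (tt N7786 D8690))
theorem Q5039 : ∀ i, i < 5039 → P i := stepQ 5038 Q5038 (allL N5038 (tt N3786 F5101) (tt N2723 (iv D5904)) (tt N3733 F5102) (tt N3733 (iv F5103)) (tt N7787 D8691))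
theorem Q5040 : ∀ i, i < 5040 → P i := stepQ 5039 Q5039 (allL N5039 (tt N5251 (iv F5439)) (tt N3733 F5104) (tt N2724 F5105) (tt N2723 (iv D5905)) (tt N7668 F9626))
theorem Q5041 : ∀ i, i < 5041 → P i := stepQ 5040 Q5040 (allL N5040 (tt N7786 (iv F9888)) (tt N7787 (iv F9892)) (tt N7788 D8692) (tt N7666 (iv F9627)) (tt N2723 (iv D5906)))
theorem Q5042 : ∀ i, i < 5042 → P i := stepQ 5041 Q5041 (allL N5041 (tt N7789 D8693) (tt N7790 D8694) (tt N2725 (iv D5907)) (tt N7669 (iv F9629)) (tt N7791 D8695))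
theorem Q5043 : ∀ i, i < 5043 → P i := stepQ 5042 Q5042 (allL N5042 (tt N2727 F5106) (tt N4910 F5107) (tt N4542 (iv F5109)) (tt N4906 F5108) (tt N2726 (iv D5908)))
theorem Q5044 : ∀ i, i < 5044 → P i := stepQ 5043 Q5043 (allL N5043 (tt N7788 (iv F9895)) (tt N5870 (iv F7280)) (tt N2727 (iv D5909)) (tt N7677 (iv F9634)) (tt N5869 F7281))
theorem Q5045 : ∀ i, i < 5045 → P i := stepQ 5044 Q5044 (allL N5044 (tt N7792 D8696) (tt N2728 (iv D5910)) (tt N7547 (iv F9373)) (tt N7591 (iv F9476)) (tt N7588 F9468))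
theorem Q5046 : ∀ i, i < 5046 → P i := stepQ 5045 Q5045 (allL N5045 (tt N7382 (iv F9092)) (tt N7588 (iv F9466)) (tt N5869 (iv F7279)) (tt N7587 F9464) (tt N2728 (iv D5911)))
theorem Q5047 : ∀ i, i < 5047 → P i := stepQ 5046 Q5046 (allL N5046 (tt N5204 (iv F5399)) (tt N2729 (iv D5912)) (tt N7610 (iv F9528)) (tt N7610 (iv F9529)) (tt N6655 (iv F7767)))
theorem Q5048 : ∀ i, i < 5048 → P i := stepQ 5047 Q5047 (allL N5047 (tt N7793 D8697) (tt N7794 D8698) (tt N2729 (iv D5913)) (tt N7620 F9548) (tt N7616 (iv F9549)))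
theorem Q5049 : ∀ i, i < 5049 → P i := stepQ 5048 Q5048 (allL N5048 (tt N2730 (iv D5914)) (tt N4523 (iv F5789)) (tt N7365 (iv F9057)) (tt N4541 (iv F5790)) (tt N4515 F5788))
theorem Q5050 : ∀ i, i < 5050 → P i := stepQ 5049 Q5049 (allL N5049 (tt N2732 F5114) (tt N7569 (iv F9425)) (tt N6298 (iv F7188)) (tt N7795 D8699) (tt N2731 (iv D5916)))
theorem Q5051 : ∀ i, i < 5051 → P i := stepQ 5050 Q5050 (allL N5050 (tt N2924 F5116) (tt N4289 F5115) (tt N6273 (iv F7134)) (tt N2732 (iv D5917)) (tt N7796 D8700))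
theorem Q5052 : ∀ i, i < 5052 → P i := stepQ 5051 Q5051 (allL N5051 (tt N2733 (iv D5918)) (tt N7573 (iv F9433)) (tt N6299 (iv F7192)) (tt N6089 (iv F6812)) (tt N7797 D8701))
theorem Q5053 : ∀ i, i < 5053 → P i := stepQ 5052 Q5052 (allL N5052 (tt N7797 (iv F9914)) (tt N4294 F5117) (tt N2739 F7129) (tt N7796 (iv F9913)) (tt N2733 (iv D5919)))
theorem Q5054 : ∀ i, i < 5054 → P i := stepQ 5053 Q5053 (allL N5053 (tt N2735 F5118) (tt N7798 D8702) (tt N2734 (iv D5920)) (tt N6108 (iv F6829)) (tt N6297 (iv F7183)))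
theorem Q5055 : ∀ i, i < 5055 → P i := stepQ 5054 Q5054 (allL N5054 (tt N2933 F5120) (tt N7720 (iv F9745)) (tt N2736 F5119) (tt N2735 (iv D5921)) (tt N6271 (iv F7122)))
theorem Q5056 : ∀ i, i < 5056 → P i := stepQ 5055 Q5055 (allL N5055 (tt N2934 F5121) (tt N2765 F5122) (tt N7796 (iv F9912)) (tt N2739 F5123) (tt N2736 (iv D5922)))
theorem Q5057 : ∀ i, i < 5057 → P i := stepQ 5056 Q5056 (allL N5056 (tt N2737 (iv D5923)) (tt N7799 D8703) (tt N2738 F5124) (tt N6090 (iv F6813)) (tt N7800 D8704))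
theorem Q5058 : ∀ i, i < 5058 → P i := stepQ 5057 Q5057 (allL N5057 (tt N7800 (iv F9920)) (tt N7604 (iv F9510)) (tt N6272 (iv F7127)) (tt N6271 F7124) (tt N2737 (iv D5924)))
theorem Q5059 : ∀ i, i < 5059 → P i := stepQ 5058 Q5058 (allL N5058 (tt N2739 F5125) (tt N6097 (iv F6818)) (tt N7797 (iv F9915)) (tt N6109 (iv F6833)) (tt N2738 (iv D5925)))
theorem Q5060 : ∀ i, i < 5060 → P i := stepQ 5059 Q5059 (allL N5059 (tt N2741 F5126) (tt N4819 F5127) (tt N7075 (iv F8519)) (tt N4832 (iv F5128)) (tt N2740 (iv D5927)))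
theorem Q5061 : ∀ i, i < 5061 → P i := stepQ 5060 Q5060 (allL N5060 (tt N3972 F5130) (tt N2747 F5129) (tt N7260 (iv F8864)) (tt N2741 (iv D5928)) (tt N7801 D8705))
theorem Q5062 : ∀ i, i < 5062 → P i := stepQ 5061 Q5061 (allL N5061 (tt N2742 (iv D5929)) (tt N4821 (iv F5132)) (tt N7078 (iv F8529)) (tt N4816 F5131) (tt N7802 D8706))
theorem Q5063 : ∀ i, i < 5063 → P i := stepQ 5062 Q5062 (allL N5062 (tt N7802 (iv F9928)) (tt N2752 F5134) (tt N4286 (iv F6644)) (tt N7801 (iv F9927)) (tt N2742 (iv D5930)))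
theorem Q5064 : ∀ i, i < 5064 → P i := stepQ 5063 Q5063 (allL N5063 (tt N6073 (iv F6786)) (tt N2743 (iv D5931)) (tt N6037 (iv F6745)) (tt N5503 (iv F5836)) (tt N7803 D8707))
theorem Q5065 : ∀ i, i < 5065 → P i := stepQ 5064 Q5064 (allL N5064 (tt N2794 F5135) (tt N5503 (iv F5834)) (tt N2744 F5136) (tt N2743 (iv D5932)) (tt N7804 D8708))
theorem Q5066 : ∀ i, i < 5066 → P i := stepQ 5065 Q5065 (allL N5065 (tt N2780 F5137) (tt N7803 (iv F9932)) (tt N2761 F5138) (tt N7805 D8709) (tt N2743 (iv D5933)))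
theorem Q5067 : ∀ i, i < 5067 → P i := stepQ 5066 Q5066 (allL N5066 (tt N2816 F5139) (tt N3880 F5140) (tt N7806 D8710) (tt N2751 F5141) (tt N2744 (iv D5934)))
theorem Q5068 : ∀ i, i < 5068 → P i := stepQ 5067 Q5067 (allL N5067 (tt N2782 F5142) (tt N7807 D8711) (tt N2745 (iv D5935)) (tt N7808 D8712) (tt N7809 D8713))
theorem Q5069 : ∀ i, i < 5069 → P i := stepQ 5068 Q5068 (allL N5068 (tt N2817 F5143) (tt N5941 (iv F6572)) (tt N7808 (iv F9941)) (tt N2745 (iv D5936)) (tt N7810 D8714))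
theorem Q5070 : ∀ i, i < 5070 → P i := stepQ 5069 Q5069 (allL N5069 (tt N2746 (iv D5937)) (tt N7811 D8715) (tt N2757 F5144) (tt N7812 D8716) (tt N7813 D8717))
theorem Q5071 : ∀ i, i < 5071 → P i := stepQ 5070 Q5070 (allL N5070 (tt N7814 D8718) (tt N2746 (iv D5938)) (tt N7732 (iv F9765)) (tt N7815 D8719) (tt N5389 F5617))
theorem Q5072 : ∀ i, i < 5072 → P i := stepQ 5071 Q5071 (allL N5071 (tt N2801 F5146) (tt N7815 (iv F9952)) (tt N2747 F5145) (tt N2746 (iv D5939)) (tt N7816 D8720))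
theorem Q5073 : ∀ i, i < 5073 → P i := stepQ 5072 Q5072 (allL N5072 (tt N7813 (iv F9949)) (tt N5389 (iv F5616)) (tt N2764 F5147) (tt N2750 F5148) (tt N2746 (iv D5940)))
theorem Q5074 : ∀ i, i < 5074 → P i := stepQ 5073 Q5073 (allL N5073 (tt N3952 F5150) (tt N7801 (iv F9925)) (tt N2765 F5152) (tt N2752 F5151) (tt N2747 (iv D5941)))
theorem Q5075 : ∀ i, i < 5075 → P i := stepQ 5074 Q5074 (allL N5074 (tt N7817 D8721) (tt N2749 F5154) (tt N7734 (iv F9767)) (tt N2748 (iv D5942)) (tt N7818 D8722))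
theorem Q5076 : ∀ i, i < 5076 → P i := stepQ 5075 Q5075 (allL N5075 (tt N2749 (iv D5943)) (tt N7819 D8723) (tt N2787 F5155) (tt N7820 D8724) (tt N7821 D8725))
theorem Q5077 : ∀ i, i < 5077 → P i := stepQ 5076 Q5076 (allL N5076 (tt N7821 (iv F9960)) (tt N7818 (iv F9957)) (tt N2773 F5156) (tt N7816 (iv F9955)) (tt N2749 (iv D5944)))
theorem Q5078 : ∀ i, i < 5078 → P i := stepQ 5077 Q5077 (allL N5077 (tt N2785 F5157) (tt N7822 D8726) (tt N2751 (iv D5945)) (tt N7806 (iv F9938)) (tt N7823 D8727))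
theorem Q5079 : ∀ i, i < 5079 → P i := stepQ 5078 Q5078 (allL N5078 (tt N2752 F5158) (tt N5951 (iv F6595)) (tt N7824 D8728) (tt N7810 (iv F9946)) (tt N2751 (iv D5946)))
theorem Q5080 : ∀ i, i < 5080 → P i := stepQ 5079 Q5079 (allL N5079 (tt N5079 F5159) (tt N5212 (iv F5406)) (tt N3625 F5160) (tt N4268 (iv F5161)) (tt N2753 (iv D5947)))
theorem Q5081 : ∀ i, i < 5081 → P i := stepQ 5080 Q5080 (allL N5080 (tt N5080 F5162) (tt N5258 (iv F5446)) (tt N2754 (iv D5948)) (tt N7825 D8729) (tt N7826 D8730))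
theorem Q5082 : ∀ i, i < 5082 → P i := stepQ 5081 Q5081 (allL N5081 (tt N2991 F5164) (tt N2760 F5163) (tt N7825 (iv F9966)) (tt N2754 (iv D5949)) (tt N4271 (iv F5165)))
theorem Q5083 : ∀ i, i < 5083 → P i := stepQ 5082 Q5082 (allL N5082 (tt N2755 (iv D5950)) (tt N7626 (iv F9563)) (tt N5410 F6598) (tt N5409 (iv F6599)) (tt N7827 D8731))
theorem Q5084 : ∀ i, i < 5084 → P i := stepQ 5083 Q5083 (allL N5083 (tt N6928 (iv F8265)) (tt N4388 F5166) (tt N2755 (iv D5951)) (tt N4387 (iv F5167)) (tt N7828 D8732))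
theorem Q5085 : ∀ i, i < 5085 → P i := stepQ 5084 Q5084 (allL N5084 (tt N4011 (iv F5170)) (tt N2756 F5168) (tt N4387 F5169) (tt N2755 (iv D5952)) (tt N7829 D8733))
theorem Q5086 : ∀ i, i < 5086 → P i := stepQ 5085 Q5085 (allL N5085 (tt N7827 (iv F9971)) (tt N2757 F5171) (tt N7830 D8734) (tt N7831 D8735) (tt N2755 (iv D5953)))
theorem Q5087 : ∀ i, i < 5087 → P i := stepQ 5086 Q5086 (allL N5086 (tt N2796 F5172) (tt N7829 (iv F9976)) (tt N7820 (iv F9959)) (tt N2787 F5173) (tt N2756 (iv D5954)))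
theorem Q5088 : ∀ i, i < 5088 → P i := stepQ 5087 Q5087 (allL N5087 (tt N2798 F5174) (tt N7831 (iv F9978)) (tt N7812 (iv F9948)) (tt N2757 (iv D5955)) (tt N7832 D8736))
theorem Q5089 : ∀ i, i < 5089 → P i := stepQ 5088 Q5088 (allL N5088 (tt N2845 F5176) (tt N7833 D8737) (tt N2758 (iv D5956)) (tt N2775 F5175) (tt N7834 D8738))
theorem Q5090 : ∀ i, i < 5090 → P i := stepQ 5089 Q5089 (allL N5089 (tt N2759 (iv D5957)) (tt N7737 (iv F9769)) (tt N2780 F5177) (tt N2831 F5178) (tt N2837 (iv F5179)))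
theorem Q5091 : ∀ i, i < 5091 → P i := stepQ 5090 Q5090 (allL N5090 (tt N7835 D8739) (tt N2759 (iv D5958)) (tt N7836 D8740) (tt N7837 D8741) (tt N7838 D8742))
theorem Q5092 : ∀ i, i < 5092 → P i := stepQ 5091 Q5091 (allL N5091 (tt N2825 F5180) (tt N7837 (iv F9985)) (tt N2760 F5181) (tt N2759 (iv D5959)) (tt N7839 D8743))
theorem Q5093 : ∀ i, i < 5093 → P i := stepQ 5092 Q5092 (allL N5092 (tt N2837 F5182) (tt N7838 (iv F9986)) (tt N7813 (iv F9950)) (tt N7834 (iv F9984)) (tt N2759 (iv D5960)))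
theorem Q5094 : ∀ i, i < 5094 → P i := stepQ 5093 Q5093 (allL N5093 (tt N2823 F5183) (tt N4271 F5184) (tt N7832 (iv F9981)) (tt N2776 F5185) (tt N2760 (iv D5961)))
theorem Q5095 : ∀ i, i < 5095 → P i := stepQ 5094 Q5094 (allL N5094 (tt N5753 F8208) (tt N2761 (iv D5962)) (tt N7840 D8744) (tt N7841 D8745) (tt N7842 D8746))
theorem Q5096 : ∀ i, i < 5096 → P i := stepQ 5095 Q5095 (allL N5095 (tt N2821 F5186) (tt N7841 (iv F9989)) (tt N7805 (iv F9937)) (tt N2761 (iv D5963)) (tt N7843 D8747))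
theorem Q5097 : ∀ i, i < 5097 → P i := stepQ 5096 Q5096 (allL N5096 (tt N2764 F5187) (tt N7842 (iv F9990)) (tt N7809 (iv F9943)) (tt N7844 D8748) (tt N2761 (iv D5964)))
theorem Q5098 : ∀ i, i < 5098 → P i := stepQ 5097 Q5097 (allL N5097 (tt N2762 (iv D5965)) (tt N7845 D8749) (tt N5097 F5188) (tt N7846 D8750) (tt N7847 D8751))
theorem Q5099 : ∀ i, i < 5099 → P i := stepQ 5098 Q5098 (allL N5098 (tt N7848 D8752) (tt N7727 (iv F9760)) (tt N2762 (iv D5966)) (tt N7849 D8753) (tt N7850 D8754))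
theorem Q5100 : ∀ i, i < 5100 → P i := stepQ 5099 Q5099 (allL N5099 (tt N7851 D8755) (tt N2763 F5189) (tt N7849 (iv F9998)) (tt N2762 (iv D5967)) (tt N7852 D8756))
theorem Q5101 : ∀ i, i < 5101 → P i := stepQ 5100 Q5100 (allL N5100 (tt N7847 (iv F9996)) (tt N2764 F5190) (tt N7291 (iv F8937)) (tt N2771 (iv F5191)) (tt N2762 (iv D5968)))
theorem Q5102 : ∀ i, i < 5102 → P i := stepQ 5101 Q5101 (allL N5101 (tt N2763 (iv D5969)) (tt N5780 (iv F6257)) (tt N3947 (iv F5193)) (tt N2819 F5192) (tt N7853 D8757))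
theorem Q5103 : ∀ i, i < 5103 → P i := stepQ 5102 Q5102 (allL N5102 (tt N7853 (iv F10002)) (tt N7852 (iv F10000)) (tt N7816 (iv F9954)) (tt N2773 F5194) (tt N2763 (iv D5970)))
theorem Q5104 : ∀ i, i < 5104 → P i := stepQ 5103 Q5103 (allL N5103 (tt N2851 F5195) (tt N5820 (iv F6347)) (tt N3954 F5196) (tt N7853 (iv F10004)) (tt N2766 (iv D5971)))
theorem Q5105 : ∀ i, i < 5105 → P i := stepQ 5104 Q5104 (allL N5104 (tt N2822 (iv F5199)) (tt N5781 (iv F6260)) (tt N3951 (iv F5200)) (tt N2767 (iv D5972)) (tt N2819 F5198))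
theorem Q5106 : ∀ i, i < 5106 → P i := stepQ 5105 Q5105 (allL N5105 (tt N5672 (iv F6090)) (tt N5822 (iv F6351)) (tt N5105 F5202) (tt N2768 (iv D5973)) (tt N6687 (iv F7845)))
theorem Q5107 : ∀ i, i < 5107 → P i := stepQ 5106 Q5106 (allL N5106 (tt N7854 D8758) (tt N5844 (iv F6389)) (tt N2770 F5203) (tt N2769 (iv D5974)) (tt N7855 D8759))
theorem Q5108 : ∀ i, i < 5108 → P i := stepQ 5107 Q5107 (allL N5107 (tt N4468 F5204) (tt N5845 (iv F6392)) (tt N6321 (iv F7225)) (tt N7850 (iv F11336)) (tt N2769 (iv D5975)))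
theorem Q5109 : ∀ i, i < 5109 → P i := stepQ 5108 Q5108 (allL N5108 (tt N2770 (iv D5976)) (tt N7856 D8761) (tt N5108 F5205) (tt N7857 D8762) (tt N7858 D8763))
theorem Q5110 : ∀ i, i < 5110 → P i := stepQ 5109 Q5109 (allL N5109 (tt N7858 (iv F10007)) (tt N2773 F5206) (tt N7859 D8764) (tt N7852 (iv F10001)) (tt N2770 (iv D5977)))
theorem Q5111 : ∀ i, i < 5111 → P i := stepQ 5110 Q5110 (allL N5110 (tt N5876 F8215) (tt N2772 (iv D5978)) (tt N7860 D8765) (tt N7861 D8766) (tt N7862 D8767))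
theorem Q5112 : ∀ i, i < 5112 → P i := stepQ 5111 Q5111 (allL N5111 (tt N2781 F5207) (tt N7863 D8768) (tt N2772 (iv D5979)) (tt N7804 (iv F9935)) (tt N7824 (iv F9965)))
theorem Q5113 : ∀ i, i < 5113 → P i := stepQ 5112 Q5112 (allL N5112 (tt N2818 F5208) (tt N7861 (iv F10008)) (tt N7804 (iv F9934)) (tt N2772 (iv D5980)) (tt N7844 (iv F9994)))
theorem Q5114 : ∀ i, i < 5114 → P i := stepQ 5113 Q5113 (allL N5113 (tt N2773 F5209) (tt N7862 (iv F10009)) (tt N7823 (iv F9963)) (tt N7843 (iv F9992)) (tt N2772 (iv D5981)))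
theorem Q5115 : ∀ i, i < 5115 → P i := stepQ 5114 Q5114 (allL N5114 (tt N5114 F5211) (tt N5281 (iv F5473)) (tt N2774 (iv D5982)) (tt N4145 F5210) (tt N7864 D8769))
theorem Q5116 : ∀ i, i < 5116 → P i := stepQ 5115 Q5115 (allL N5115 (tt N6900 (iv F8219)) (tt N2776 F5212) (tt N7865 D8770) (tt N4271 F5213) (tt N2774 (iv D5983)))
theorem Q5117 : ∀ i, i < 5117 → P i := stepQ 5116 Q5116 (allL N5116 (tt N7866 D8771) (tt N2775 (iv D5984)) (tt N7867 D8772) (tt N7833 (iv F9982)) (tt N7868 D8773))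
theorem Q5118 : ∀ i, i < 5118 → P i := stepQ 5117 Q5117 (allL N5117 (tt N2836 F5214) (tt N7868 (iv F10016)) (tt N7821 (iv F9961)) (tt N7839 (iv F9988)) (tt N2775 (iv D5985)))
theorem Q5119 : ∀ i, i < 5119 → P i := stepQ 5118 Q5118 (allL N5118 (tt N2788 (iv F5216)) (tt N7869 D8774) (tt N2776 (iv D5986)) (tt N7832 (iv F9980)) (tt N2787 F5215))
theorem Q5120 : ∀ i, i < 5120 → P i := stepQ 5119 Q5119 (allL N5119 (tt N7626 (iv F9562)) (tt N2777 (iv D5987)) (tt N5235 (iv F5429)) (tt N4512 F5217) (tt N7870 D8775))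
theorem Q5121 : ∀ i, i < 5121 → P i := stepQ 5120 Q5120 (allL N5120 (tt N2778 F5218) (tt N7870 (iv F10018)) (tt N4299 F5219) (tt N7871 D8776) (tt N2777 (iv D5988)))
theorem Q5122 : ∀ i, i < 5122 → P i := stepQ 5121 Q5121 (allL N5121 (tt N4297 F5220) (tt N7872 D8777) (tt N2778 (iv D5989)) (tt N4365 (iv F5221)) (tt N4370 F6332))
theorem Q5123 : ∀ i, i < 5123 → P i := stepQ 5122 Q5122 (allL N5122 (tt N6483 (iv F7485)) (tt N2783 F5222) (tt N4365 F5223) (tt N2778 (iv D5990)) (tt N7873 D8778))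
theorem Q5124 : ∀ i, i < 5124 → P i := stepQ 5123 Q5123 (allL N5123 (tt N2779 (iv D5991)) (tt N7874 D8779) (tt N4310 F5224) (tt N4747 F5225) (tt N7875 D8780))
theorem Q5125 : ∀ i, i < 5125 → P i := stepQ 5124 Q5124 (allL N5124 (tt N7875 (iv F10031)) (tt N2788 F5226) (tt N4319 F8600) (tt N7873 (iv F10028)) (tt N2779 (iv D5992)))
theorem Q5126 : ∀ i, i < 5126 → P i := stepQ 5125 Q5125 (allL N5125 (tt N3947 F5229) (tt N5125 F5227) (tt N2831 F5228) (tt N2780 (iv D5993)) (tt N7876 D8781))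
theorem Q5127 : ∀ i, i < 5127 → P i := stepQ 5126 Q5126 (allL N5126 (tt N7824 (iv F9964)) (tt N5126 F5230) (tt N2788 F5231) (tt N7876 (iv F10036)) (tt N2781 (iv D5994)))
theorem Q5128 : ∀ i, i < 5128 → P i := stepQ 5127 Q5127 (allL N5127 (tt N7877 D8782) (tt N2782 (iv D5995)) (tt N3639 F10026) (tt N7878 D8783) (tt N7879 D8784))
theorem Q5129 : ∀ i, i < 5129 → P i := stepQ 5128 Q5128 (allL N5128 (tt N3950 F5233) (tt N7878 (iv F10039)) (tt N2783 F5232) (tt N2782 (iv D5996)) (tt N7880 D8785))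
theorem Q5130 : ∀ i, i < 5130 → P i := stepQ 5129 Q5129 (allL N5129 (tt N7809 (iv F9942)) (tt N7879 (iv F10042)) (tt N2837 F5234) (tt N2786 F5235) (tt N2782 (iv D5997)))
theorem Q5131 : ∀ i, i < 5131 → P i := stepQ 5130 Q5130 (allL N5130 (tt N2803 F5236) (tt N7873 (iv F10027)) (tt N7876 (iv F10037)) (tt N2788 F5237) (tt N2783 (iv D5998)))
theorem Q5132 : ∀ i, i < 5132 → P i := stepQ 5131 Q5131 (allL N5131 (tt N7881 D8786) (tt N2785 F5238) (tt N3640 F5239) (tt N2784 (iv D5999)) (tt N7882 D8787))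
theorem Q5133 : ∀ i, i < 5133 → P i := stepQ 5132 Q5132 (allL N5132 (tt N2948 F5240) (tt N2786 F5241) (tt N3664 F5242) (tt N7879 (iv F10044)) (tt N2784 (iv D6000)))
theorem Q5134 : ∀ i, i < 5134 → P i := stepQ 5133 Q5133 (allL N5133 (tt N7823 (iv F9962)) (tt N7882 (iv F10049)) (tt N2836 F5243) (tt N7880 (iv F10047)) (tt N2785 (iv D6001)))
theorem Q5135 : ∀ i, i < 5135 → P i := stepQ 5134 Q5134 (allL N5134 (tt N7883 D8788) (tt N2787 (iv D6002)) (tt N7884 D8789) (tt N7829 F9977) (tt N7869 (iv F10017)))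
theorem Q5136 : ∀ i, i < 5136 → P i := stepQ 5135 Q5135 (allL N5135 (tt N7322 (iv F8983)) (tt N2803 F5244) (tt N7268 F8891) (tt N2790 F5245) (tt N2789 (iv D6003)))
theorem Q5137 : ∀ i, i < 5137 → P i := stepQ 5136 Q5136 (allL N5136 (tt N2793 F5246) (tt N7334 (iv F9013)) (tt N4610 F5247) (tt N7885 D8790) (tt N2791 (iv D6004)))
theorem Q5138 : ∀ i, i < 5138 → P i := stepQ 5137 Q5137 (allL N5137 (tt N3851 F5248) (tt N2796 F5249) (tt N4714 (iv F5251)) (tt N2808 (iv F5250)) (tt N2792 (iv D6005)))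
theorem Q5139 : ∀ i, i < 5139 → P i := stepQ 5138 Q5138 (allL N5138 (tt N7886 D8791) (tt N2798 F5252) (tt N4637 F5253) (tt N2793 (iv D6006)) (tt N7887 D8792))
theorem Q5140 : ∀ i, i < 5140 → P i := stepQ 5139 Q5139 (allL N5139 (tt N7804 (iv F9933)) (tt N4064 F5254) (tt N2845 F5255) (tt N2844 F5256) (tt N2794 (iv D6007)))
theorem Q5141 : ∀ i, i < 5141 → P i := stepQ 5140 Q5140 (allL N5140 (tt N7805 (iv F9936)) (tt N5644 (iv F6034)) (tt N2825 F5259) (tt N2795 (iv D6008)) (tt N7888 D8793))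
theorem Q5142 : ∀ i, i < 5142 → P i := stepQ 5141 Q5141 (allL N5141 (tt N7806 (iv F9939)) (tt N6978 (iv F8350)) (tt N2796 (iv D6009)) (tt N2809 F5260) (tt N7889 D8794))
theorem Q5143 : ∀ i, i < 5143 → P i := stepQ 5142 Q5142 (allL N5142 (tt N7890 D8795) (tt N2797 (iv D6010)) (tt N3540 (iv F5261)) (tt N7051 F8473) (tt N7891 D8796))
theorem Q5144 : ∀ i, i < 5144 → P i := stepQ 5143 Q5143 (allL N5143 (tt N7808 (iv F9940)) (tt N7051 (iv F8474)) (tt N2798 F5262) (tt N2797 (iv D6011)) (tt N7892 D8797))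
theorem Q5145 : ∀ i, i < 5145 → P i := stepQ 5144 Q5144 (allL N5144 (tt N3951 F5263) (tt N7891 (iv F10066)) (tt N2826 F5264) (tt N7889 (iv F10064)) (tt N2797 (iv D6012)))
theorem Q5146 : ∀ i, i < 5146 → P i := stepQ 5145 Q5145 (allL N5145 (tt N7832 (iv F9979)) (tt N7887 (iv F10057)) (tt N7888 (iv F10062)) (tt N2810 F5265) (tt N2798 (iv D6013)))
theorem Q5147 : ∀ i, i < 5147 → P i := stepQ 5146 Q5146 (allL N5146 (tt N7893 D8798) (tt N2799 (iv D6014)) (tt N7894 D8799) (tt N7895 D8800) (tt N7896 D8801))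
theorem Q5148 : ∀ i, i < 5148 → P i := stepQ 5147 Q5147 (allL N5147 (tt N7812 (iv F9947)) (tt N7895 (iv F10075)) (tt N2817 F5266) (tt N2799 (iv D6015)) (tt N7897 D8802))
theorem Q5149 : ∀ i, i < 5149 → P i := stepQ 5148 Q5148 (allL N5148 (tt N2802 F5267) (tt N7896 (iv F10078)) (tt N2822 F5268) (tt N7898 D8803) (tt N2799 (iv D6016)))
theorem Q5150 : ∀ i, i < 5150 → P i := stepQ 5149 Q5149 (allL N5149 (tt N4682 F5269) (tt N7372 (iv F9075)) (tt N2800 (iv D6017)) (tt N7899 D8804) (tt N4689 F5270))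
theorem Q5151 : ∀ i, i < 5151 → P i := stepQ 5150 Q5150 (allL N5150 (tt N4688 F5272) (tt N2801 F5271) (tt N7899 (iv F10083)) (tt N2800 (iv D6018)) (tt N5523 (iv F5859)))
theorem Q5152 : ∀ i, i < 5152 → P i := stepQ 5151 Q5151 (allL N5151 (tt N7816 (iv F9953)) (tt N5523 (iv F5861)) (tt N2832 F5330) (tt N2807 F5331) (tt N2801 (iv D6019)))
theorem Q5153 : ∀ i, i < 5153 → P i := stepQ 5152 Q5152 (allL N5152 (tt N4692 F5333) (tt N7311 (iv F8972)) (tt N2805 F5332) (tt N2804 (iv D6020)) (tt N7900 D8805))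
theorem Q5154 : ∀ i, i < 5154 → P i := stepQ 5153 Q5153 (allL N5153 (tt N4698 F5334) (tt N2807 F5335) (tt N7901 D8806) (tt N5523 (iv F5860)) (tt N2805 (iv D6021)))
theorem Q5155 : ∀ i, i < 5155 → P i := stepQ 5154 Q5154 (allL N5154 (tt N7902 D8807) (tt N2806 (iv D6022)) (tt N7903 D8808) (tt N7904 D8809) (tt N7905 D8810))
theorem Q5156 : ∀ i, i < 5156 → P i := stepQ 5155 Q5155 (allL N5155 (tt N7820 (iv F9958)) (tt N7904 (iv F10097)) (tt N2816 F5336) (tt N2806 (iv D6023)) (tt N7898 (iv F10082)))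
theorem Q5157 : ∀ i, i < 5157 → P i := stepQ 5156 Q5156 (allL N5156 (tt N2807 F5337) (tt N7905 (iv F10099)) (tt N2851 F5338) (tt N7897 (iv F10080)) (tt N2806 (iv D6024)))
theorem Q5158 : ∀ i, i < 5158 → P i := stepQ 5157 Q5157 (allL N5157 (tt N2808 (iv D6025)) (tt N7413 (iv F9171)) (tt N4709 F5339) (tt N7592 (iv F9479)) (tt N7906 D8811))
theorem Q5159 : ∀ i, i < 5159 → P i := stepQ 5158 Q5158 (allL N5158 (tt N7906 (iv F10100)) (tt N2810 F5340) (tt N4720 F5341) (tt N7887 (iv F10058)) (tt N2808 (iv D6026)))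
theorem Q5160 : ∀ i, i < 5160 → P i := stepQ 5159 Q5159 (allL N5159 (tt N7907 D8812) (tt N2809 (iv D6027)) (tt N3752 (iv F5745)) (tt N6978 F8349) (tt N7908 D8813))
theorem Q5161 : ∀ i, i < 5161 → P i := stepQ 5160 Q5160 (allL N5160 (tt N3954 F5342) (tt N7908 (iv F10103)) (tt N2846 F5343) (tt N7892 (iv F10069)) (tt N2809 (iv D6028)))
theorem Q5162 : ∀ i, i < 5162 → P i := stepQ 5161 Q5161 (allL N5161 (tt N3948 F5344) (tt N5903 (iv F6479)) (tt N2810 (iv D6029)) (tt N7888 (iv F10061)) (tt N2844 F5345))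
theorem Q5163 : ∀ i, i < 5163 → P i := stepQ 5162 Q5162 (allL N5162 (tt N6026 (iv F6726)) (tt N3810 F5346) (tt N6222 (iv F6992)) (tt N2811 (iv D6030)) (tt N7194 (iv F8768)))
theorem Q5164 : ∀ i, i < 5164 → P i := stepQ 5163 Q5163 (allL N5163 (tt N6027 (iv F6727)) (tt N6625 (iv F7705)) (tt N2812 (iv D6031)) (tt N2848 F5347) (tt N6220 (iv F6987)))
theorem Q5165 : ∀ i, i < 5165 → P i := stepQ 5164 Q5164 (allL N5164 (tt N4779 F5348) (tt N2813 (iv D6032)) (tt N7909 D8814) (tt N4958 F5353) (tt N4776 F5349))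
theorem Q5166 : ∀ i, i < 5166 → P i := stepQ 5165 Q5165 (allL N5165 (tt N6029 (iv F6731)) (tt N4958 (iv F5352)) (tt N2814 F5350) (tt N2813 (iv D6033)) (tt N4956 F5351))
theorem Q5167 : ∀ i, i < 5167 → P i := stepQ 5166 Q5166 (allL N5166 (tt N3100 F5354) (tt N2823 F5355) (tt N7194 (iv F8766)) (tt N2849 F5356) (tt N2814 (iv D6034)))
theorem Q5168 : ∀ i, i < 5168 → P i := stepQ 5167 Q5167 (allL N5167 (tt N4030 F5359) (tt N2817 F5357) (tt N4955 F5358) (tt N2815 (iv D6035)) (tt N7190 (iv F8762)))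
theorem Q5169 : ∀ i, i < 5169 → P i := stepQ 5168 Q5168 (allL N5168 (tt N7810 (iv F9944)) (tt N7190 F8764) (tt N2823 (iv F5361)) (tt N2852 F5360) (tt N2817 (iv D6036)))
theorem Q5170 : ∀ i, i < 5170 → P i := stepQ 5169 Q5169 (allL N5169 (tt N7910 D8815) (tt N2818 (iv D6037)) (tt N7911 D8816) (tt N2850 F5362) (tt N7912 D8817))
theorem Q5171 : ∀ i, i < 5171 → P i := stepQ 5170 Q5170 (allL N5170 (tt N7844 (iv F9993)) (tt N7912 (iv F10110)) (tt N7898 (iv F10081)) (tt N2822 F5363) (tt N2818 (iv D6038)))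
theorem Q5172 : ∀ i, i < 5172 → P i := stepQ 5171 Q5171 (allL N5171 (tt N2820 (iv D6039)) (tt N5782 (iv F6262)) (tt N5636 (iv F6027)) (tt N5636 (iv F6028)) (tt N7617 (iv F9541)))
theorem Q5173 : ∀ i, i < 5173 → P i := stepQ 5172 Q5172 (allL N5172 (tt N7913 D8818) (tt N7909 (iv F10106)) (tt N2820 (iv D6040)) (tt N7914 D8819) (tt N7915 D8820))
theorem Q5174 : ∀ i, i < 5174 → P i := stepQ 5173 Q5173 (allL N5173 (tt N7916 D8821) (tt N2821 F5364) (tt N7914 (iv F10117)) (tt N2820 (iv D6041)) (tt N7917 D8822))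
theorem Q5175 : ∀ i, i < 5175 → P i := stepQ 5174 Q5174 (allL N5174 (tt N7617 (iv F9540)) (tt N2822 F5365) (tt N7918 D8823) (tt N7912 F10111) (tt N2820 (iv D6042)))
theorem Q5176 : ∀ i, i < 5176 → P i := stepQ 5175 Q5175 (allL N5175 (tt N7843 (iv F9991)) (tt N7917 (iv F10119)) (tt N7897 (iv F10079)) (tt N2851 F5366) (tt N2821 (iv D6043)))
theorem Q5177 : ∀ i, i < 5177 → P i := stepQ 5176 Q5176 (allL N5176 (tt N2824 (iv D6044)) (tt N7919 D8824) (tt N7578 (iv F9445)) (tt N7920 D8825) (tt N7921 D8826))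
theorem Q5178 : ∀ i, i < 5178 → P i := stepQ 5177 Q5177 (allL N5177 (tt N6636 (iv F7729)) (tt N2825 F5367) (tt N7693 (iv F9664)) (tt N2824 (iv D6045)) (tt N7922 D8827))
theorem Q5179 : ∀ i, i < 5179 → P i := stepQ 5178 Q5178 (allL N5178 (tt N7921 (iv F10126)) (tt N2826 F5368) (tt N7702 (iv F9689)) (tt N7923 D8828) (tt N2824 (iv D6046)))
theorem Q5180 : ∀ i, i < 5180 → P i := stepQ 5179 Q5179 (allL N5179 (tt N7839 (iv F9987)) (tt N7922 (iv F10128)) (tt N7892 (iv F10068)) (tt N2846 F5369) (tt N2825 (iv D6047)))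
theorem Q5181 : ∀ i, i < 5181 → P i := stepQ 5180 Q5180 (allL N5180 (tt N7834 (iv F9983)) (tt N7923 (iv F10133)) (tt N7889 (iv F10063)) (tt N2826 (iv D6048)) (tt N2845 F5370))
theorem Q5182 : ∀ i, i < 5182 → P i := stepQ 5181 Q5181 (allL N5181 (tt N7919 (iv F10122)) (tt N2827 (iv D6049)) (tt N4827 F5372) (tt N5582 (iv F5939)) (tt N4807 F5371))
theorem Q5183 : ∀ i, i < 5183 → P i := stepQ 5182 Q5182 (allL N5182 (tt N7719 (iv F9741)) (tt N2893 F5373) (tt N2829 F5374) (tt N2828 (iv D6050)) (tt N7718 (iv F9740)))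
theorem Q5184 : ∀ i, i < 5184 → P i := stepQ 5183 Q5183 (allL N5183 (tt N2829 (iv D6051)) (tt N7924 D8829) (tt N3127 F5375) (tt N5689 (iv F6126)) (tt N7716 (iv F9732)))
theorem Q5185 : ∀ i, i < 5185 → P i := stepQ 5184 Q5184 (allL N5184 (tt N7716 (iv F9733)) (tt N2832 F5376) (tt N7707 F9702) (tt N2842 F5377) (tt N2829 (iv D6052)))
theorem Q5186 : ∀ i, i < 5186 → P i := stepQ 5185 Q5185 (allL N5185 (tt N7925 D8830) (tt N2831 (iv D6053)) (tt N7723 (iv F9754)) (tt N7737 (iv F9768)) (tt N7926 D8831))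
theorem Q5187 : ∀ i, i < 5187 → P i := stepQ 5186 Q5186 (allL N5186 (tt N2832 F5378) (tt N7926 (iv F10141)) (tt N7880 (iv F10046)) (tt N2836 F5379) (tt N2831 (iv D6054)))
theorem Q5188 : ∀ i, i < 5188 → P i := stepQ 5187 Q5187 (allL N5187 (tt N2838 F5380) (tt N2833 (iv D6055)) (tt N2899 F5381) (tt N7927 D8832) (tt N3977 (iv F5382)))
theorem Q5189 : ∀ i, i < 5189 → P i := stepQ 5188 Q5188 (allL N5188 (tt N5901 (iv F6475)) (tt N7927 (iv F10143)) (tt N3924 F5383) (tt N2833 (iv D6056)) (tt N7928 D8833))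
theorem Q5190 : ∀ i, i < 5190 → P i := stepQ 5189 Q5189 (allL N5189 (tt N2835 F5384) (tt N3977 F5385) (tt N6851 (iv F8143)) (tt N7929 D8834) (tt N2833 (iv D6057)))
theorem Q5191 : ∀ i, i < 5191 → P i := stepQ 5190 Q5190 (allL N5190 (tt N2834 (iv D6058)) (tt N7930 D8835) (tt N7605 F9515) (tt N5899 (iv F6471)) (tt N7931 D8836))
theorem Q5192 : ∀ i, i < 5192 → P i := stepQ 5191 Q5191 (allL N5191 (tt N7931 (iv F10151)) (tt N2836 F5386) (tt N7178 (iv F10131)) (tt N7926 (iv F10142)) (tt N2834 (iv D6059)))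
theorem Q5193 : ∀ i, i < 5193 → P i := stepQ 5192 Q5192 (allL N5192 (tt N7932 D8837) (tt N2837 F5387) (tt N7179 (iv F8734)) (tt N2835 (iv D6060)) (tt N7737 F9770))
theorem Q5194 : ∀ i, i < 5194 → P i := stepQ 5193 Q5193 (allL N5193 (tt N7933 D8838) (tt N2839 F5388) (tt N3135 F5389) (tt N2838 (iv D6061)) (tt N4005 (iv F5390)))
theorem Q5195 : ∀ i, i < 5195 → P i := stepQ 5194 Q5194 (allL N5194 (tt N7934 D8839) (tt N2841 (iv D6062)) (tt N5602 (iv F5984)) (tt N5601 F5982) (tt N7332 (iv F9008)))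
theorem Q5196 : ∀ i, i < 5196 → P i := stepQ 5195 Q5195 (allL N5195 (tt N2843 (iv D6063)) (tt N7934 (iv F10154)) (tt N7769 (iv F9848)) (tt N7935 D8840) (tt N7936 D8841))
theorem Q5197 : ∀ i, i < 5197 → P i := stepQ 5196 Q5196 (allL N5196 (tt N6610 (iv F7675)) (tt N2845 F5391) (tt N7692 (iv F9661)) (tt N2843 (iv D6064)) (tt N7923 (iv F10135)))
theorem Q5198 : ∀ i, i < 5198 → P i := stepQ 5197 Q5197 (allL N5197 (tt N7936 (iv F10157)) (tt N2846 F5392) (tt N7775 (iv F9860)) (tt N7922 F10130) (tt N2843 (iv D6065)))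
theorem Q5199 : ∀ i, i < 5199 → P i := stepQ 5198 Q5198 (allL N5198 (tt N3148 F5393) (tt N7780 (iv F9870)) (tt N2847 (iv D6066)) (tt N6027 (iv F6728)) (tt N3782 F5394))
theorem Q5200 : ∀ i, i < 5200 → P i := stepQ 5199 Q5199 (allL N5199 (tt N5027 F5395) (tt N2848 (iv D6067)) (tt N7937 D8842) (tt N6625 (iv F7708)) (tt N4957 F5396))
theorem Q5201 : ∀ i, i < 5201 → P i := stepQ 5200 Q5200 (allL N5200 (tt N3151 F5397) (tt N7155 (iv F8693)) (tt N2849 (iv D6068)) (tt N7194 (iv F8767)) (tt N6346 (iv F7265)))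
theorem Q5202 : ∀ i, i < 5202 → P i := stepQ 5201 Q5201 (allL N5201 (tt N2850 (iv D6069)) (tt N5864 (iv F6424)) (tt N5893 (iv F6460)) (tt N5893 (iv F6461)) (tt N7938 D8843))
theorem Q5203 : ∀ i, i < 5203 → P i := stepQ 5202 Q5202 (allL N5202 (tt N7939 D8844) (tt N7937 (iv F10159)) (tt N2850 (iv D6070)) (tt N7911 (iv F10109)) (tt N7940 D8845))
theorem Q5204 : ∀ i, i < 5204 → P i := stepQ 5203 Q5203 (allL N5203 (tt N7938 (iv F10161)) (tt N2851 F5398) (tt N7941 D8846) (tt N7917 (iv F10120)) (tt N2850 (iv D6071)))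
theorem Q5205 : ∀ i, i < 5205 → P i := stepQ 5204 Q5204 (allL N5204 (tt N5046 F5399) (tt N2852 (iv D6072)) (tt N7154 (iv F8690)) (tt N7190 (iv F8761)) (tt N3955 F5400))
theorem Q5206 : ∀ i, i < 5206 → P i := stepQ 5205 Q5205 (allL N5205 (tt N7197 (iv F8773)) (tt N7942 D8847) (tt N2853 (iv D6073)) (tt N7943 D8848) (tt N7944 D8849))
theorem Q5207 : ∀ i, i < 5207 → P i := stepQ 5206 Q5206 (allL N5206 (tt N5330 (iv F5530)) (tt N6678 (iv F7827)) (tt N7943 (iv F10168)) (tt N2853 (iv D6074)) (tt N7945 D8850))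
theorem Q5208 : ∀ i, i < 5208 → P i := stepQ 5207 Q5207 (allL N5207 (tt N7946 D8851) (tt N2854 (iv D6075)) (tt N4111 F5401) (tt N7947 D8852) (tt N7946 (iv F10176)))
theorem Q5209 : ∀ i, i < 5209 → P i := stepQ 5208 Q5208 (allL N5208 (tt N7206 (iv F8784)) (tt N7947 (iv F10177)) (tt N2855 F5402) (tt N2854 (iv D6076)) (tt N7948 D8853))
theorem Q5210 : ∀ i, i < 5210 → P i := stepQ 5209 Q5209 (allL N5209 (tt N2871 F5403) (tt N7946 (iv F10174)) (tt N2861 F5404) (tt N7944 (iv F10171)) (tt N2854 (iv D6077)))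
theorem Q5211 : ∀ i, i < 5211 → P i := stepQ 5210 Q5210 (allL N5210 (tt N2855 (iv D6078)) (tt N6044 (iv F10820)) (tt N7203 (iv F8782)) (tt N7208 (iv F8789)) (tt N7224 (iv F8814)))
theorem Q5212 : ∀ i, i < 5212 → P i := stepQ 5211 Q5211 (allL N5211 (tt N7224 (iv F8813)) (tt N6681 (iv F7835)) (tt N2863 F8787) (tt N7945 (iv F10172)) (tt N2855 (iv D6079)))
theorem Q5213 : ∀ i, i < 5213 → P i := stepQ 5212 Q5212 (allL N5212 (tt N2877 F5405) (tt N5079 F5406) (tt N7220 (iv F8808)) (tt N2862 F5407) (tt N2856 (iv D6080)))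
theorem Q5214 : ∀ i, i < 5214 → P i := stepQ 5213 Q5213 (allL N5213 (tt N2879 F5408) (tt N6904 (iv F8229)) (tt N7215 (iv F8799)) (tt N2857 (iv D6081)) (tt N7949 D8855))
theorem Q5215 : ∀ i, i < 5215 → P i := stepQ 5214 Q5214 (allL N5214 (tt N6223 (iv F6998)) (tt N6985 (iv F8369)) (tt N2859 F5409) (tt N2858 (iv D6082)) (tt N7950 D8856))
theorem Q5216 : ∀ i, i < 5216 → P i := stepQ 5215 Q5215 (allL N5215 (tt N7212 (iv F8795)) (tt N6986 (iv F8372)) (tt N7944 (iv F10170)) (tt N2861 F7002) (tt N2858 (iv D6083)))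
theorem Q5217 : ∀ i, i < 5217 → P i := stepQ 5216 Q5216 (allL N5216 (tt N2883 F5410) (tt N6491 (iv F7492)) (tt N7945 (iv F10173)) (tt N2863 F5411) (tt N2859 (iv D6084)))
theorem Q5218 : ∀ i, i < 5218 → P i := stepQ 5217 Q5217 (allL N5217 (tt N7223 (iv F8812)) (tt N7018 (iv F8427)) (tt N7948 (iv F10179)) (tt N7950 (iv F10183)) (tt N2860 (iv D6085)))
theorem Q5219 : ∀ i, i < 5219 → P i := stepQ 5218 Q5218 (allL N5218 (tt N2863 F5412) (tt N7060 (iv F8495)) (tt N7207 F8786) (tt N7949 (iv F10182)) (tt N2862 (iv D6087)))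
theorem Q5220 : ∀ i, i < 5220 → P i := stepQ 5219 Q5219 (allL N5219 (tt N7270 (iv F8894)) (tt N2865 F5413) (tt N4295 F5414) (tt N2864 (iv D6089)) (tt N7951 D8857))
theorem Q5221 : ∀ i, i < 5221 → P i := stepQ 5220 Q5220 (allL N5220 (tt N7367 (iv F9063)) (tt N2866 F5415) (tt N5495 (iv F5821)) (tt N7952 D8858) (tt N2864 (iv D6090)))
theorem Q5222 : ∀ i, i < 5222 → P i := stepQ 5221 Q5221 (allL N5221 (tt N7196 (iv F8771)) (tt N7951 (iv F10184)) (tt N7953 D8859) (tt N2872 F5416) (tt N2865 (iv D6091)))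
theorem Q5223 : ∀ i, i < 5223 → P i := stepQ 5222 Q5222 (allL N5222 (tt N5329 (iv F5528)) (tt N7954 D8860) (tt N2866 (iv D6092)) (tt N7955 D8861) (tt N7956 D8862))
theorem Q5224 : ∀ i, i < 5224 → P i := stepQ 5223 Q5223 (allL N5223 (tt N7198 (iv F8774)) (tt N7952 (iv F10186)) (tt N7955 (iv F10188)) (tt N2866 (iv D6093)) (tt N7957 D8863))
theorem Q5225 : ∀ i, i < 5225 → P i := stepQ 5224 Q5224 (allL N5224 (tt N2867 (iv D6094)) (tt N7958 D8864) (tt N2876 F5417) (tt N7959 D8865) (tt N7960 D8866))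
theorem Q5226 : ∀ i, i < 5226 → P i := stepQ 5225 Q5225 (allL N5225 (tt N5519 (iv F5857)) (tt N2867 (iv D6095)) (tt N4690 (iv F5865)) (tt N7961 D8867) (tt N5524 F5864))
theorem Q5227 : ∀ i, i < 5227 → P i := stepQ 5226 Q5226 (allL N5226 (tt N7943 (iv F10169)) (tt N7961 (iv F10195)) (tt N2868 F5418) (tt N2867 (iv D6096)) (tt N7962 D8868))
theorem Q5228 : ∀ i, i < 5228 → P i := stepQ 5227 Q5227 (allL N5227 (tt N7960 (iv F10193)) (tt N5524 (iv F5862)) (tt N2882 F5419) (tt N2871 (iv F5420)) (tt N2867 (iv D6097)))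
theorem Q5229 : ∀ i, i < 5229 → P i := stepQ 5228 Q5228 (allL N5228 (tt N7202 (iv F8779)) (tt N7268 (iv F8889)) (tt N2883 (iv F5422)) (tt N2873 F5421) (tt N2868 (iv D6098)))
theorem Q5230 : ∀ i, i < 5230 → P i := stepQ 5229 Q5229 (allL N5229 (tt N5526 (iv F5866)) (tt N2870 F5423) (tt N4691 F5424) (tt N2869 (iv D6099)) (tt N7901 (iv F10092)))
theorem Q5231 : ∀ i, i < 5231 → P i := stepQ 5230 Q5230 (allL N5230 (tt N2870 (iv D6100)) (tt N7963 D8869) (tt N5334 (iv F5536)) (tt N7964 D8870) (tt N7965 D8871))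
theorem Q5232 : ∀ i, i < 5232 → P i := stepQ 5231 Q5231 (allL N5231 (tt N7965 (iv F10201)) (tt N7901 (iv F10091)) (tt N2885 F5425) (tt N7962 (iv F10198)) (tt N2870 (iv D6101)))
theorem Q5233 : ∀ i, i < 5233 → P i := stepQ 5232 Q5232 (allL N5232 (tt N7966 D8872) (tt N2872 (iv D6102)) (tt N5534 (iv F5870)) (tt N7951 F10185) (tt N7967 D8873))
theorem Q5234 : ∀ i, i < 5234 → P i := stepQ 5233 Q5233 (allL N5233 (tt N5332 (iv F5533)) (tt N7968 D8874) (tt N2872 (iv D6103)) (tt N7953 (iv F10187)) (tt N7969 D8875))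
theorem Q5235 : ∀ i, i < 5235 → P i := stepQ 5234 Q5234 (allL N5234 (tt N2873 F5426) (tt N7967 (iv F10204)) (tt N6458 (iv F7451)) (tt N7957 (iv F10190)) (tt N2872 (iv D6104)))
theorem Q5236 : ∀ i, i < 5236 → P i := stepQ 5235 Q5235 (allL N5235 (tt N4817 F5427) (tt N2875 F5428) (tt N5119 F5429) (tt N2874 (iv D6105)) (tt N7970 D8876))
theorem Q5237 : ∀ i, i < 5237 → P i := stepQ 5236 Q5236 (allL N5236 (tt N4797 F5430) (tt N2876 F5431) (tt N7331 (iv F9005)) (tt N7971 D8877) (tt N2874 (iv D6106)))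
theorem Q5238 : ∀ i, i < 5238 → P i := stepQ 5237 Q5237 (allL N5237 (tt N7208 (iv F8788)) (tt N7970 (iv F10207)) (tt N7964 (iv F10200)) (tt N5334 (iv F5537)) (tt N2875 (iv D6107)))
theorem Q5239 : ∀ i, i < 5239 → P i := stepQ 5238 Q5238 (allL N5238 (tt N7209 (iv F8790)) (tt N7971 (iv F10209)) (tt N7959 (iv F10192)) (tt N2876 (iv D6108)) (tt N7972 D8878))
theorem Q5240 : ∀ i, i < 5240 → P i := stepQ 5239 Q5239 (allL N5239 (tt N7210 (iv F8792)) (tt N7973 D8879) (tt N2877 (iv D6109)) (tt N2886 F5432) (tt N7974 D8880))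
theorem Q5241 : ∀ i, i < 5241 → P i := stepQ 5240 Q5240 (allL N5240 (tt N4849 F5433) (tt N2878 (iv D6110)) (tt N7601 (iv F9502)) (tt N7975 D8881) (tt N7976 D8882))
theorem Q5242 : ∀ i, i < 5242 → P i := stepQ 5241 Q5241 (allL N5241 (tt N7211 (iv F8793)) (tt N7975 (iv F10217)) (tt N2879 F5434) (tt N2878 (iv D6111)) (tt N7977 D8883))
theorem Q5243 : ∀ i, i < 5243 → P i := stepQ 5242 Q5242 (allL N5242 (tt N6224 (iv F6999)) (tt N7976 (iv F10219)) (tt N7960 (iv F10194)) (tt N7974 (iv F10215)) (tt N2878 (iv D6112)))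
theorem Q5244 : ∀ i, i < 5244 → P i := stepQ 5243 Q5243 (allL N5243 (tt N7949 (iv F10180)) (tt N7584 (iv F9455)) (tt N7972 F10212) (tt N2887 F5435) (tt N2879 (iv D6113)))
theorem Q5245 : ∀ i, i < 5245 → P i := stepQ 5244 Q5244 (allL N5244 (tt N7579 (iv F9446)) (tt N2880 (iv D6114)) (tt N6017 (iv F6711)) (tt N7978 D8884) (tt N7979 D8885))
theorem Q5246 : ∀ i, i < 5246 → P i := stepQ 5245 Q5245 (allL N5245 (tt N7215 (iv F8798)) (tt N7978 (iv F10221)) (tt N5978 (iv F6641)) (tt N2880 (iv D6115)) (tt N7980 D8886))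
theorem Q5247 : ∀ i, i < 5247 → P i := stepQ 5246 Q5246 (allL N5246 (tt N2882 F5436) (tt N7979 (iv F10222)) (tt N7956 (iv F10189)) (tt N7981 D8887) (tt N2880 (iv D6116)))
theorem Q5248 : ∀ i, i < 5248 → P i := stepQ 5247 Q5247 (allL N5247 (tt N7218 (iv F8804)) (tt N7707 (iv F9700)) (tt N7962 (iv F10197)) (tt N2885 F5437) (tt N2881 (iv D6117)))
theorem Q5249 : ∀ i, i < 5249 → P i := stepQ 5248 Q5248 (allL N5248 (tt N7764 (iv F9835)) (tt N2884 (iv D6118)) (tt N6408 (iv F7364)) (tt N7982 D8888) (tt N7983 D8889))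
theorem Q5250 : ∀ i, i < 5250 → P i := stepQ 5249 Q5249 (allL N5249 (tt N7220 (iv F8807)) (tt N7982 (iv F10225)) (tt N5977 F6638) (tt N2884 (iv D6119)) (tt N7981 (iv F10224)))
theorem Q5251 : ∀ i, i < 5251 → P i := stepQ 5250 Q5250 (allL N5250 (tt N2885 F5438) (tt N7983 (iv F10227)) (tt N7969 (iv F10205)) (tt N7980 (iv F10223)) (tt N2884 (iv D6120)))
theorem Q5252 : ∀ i, i < 5252 → P i := stepQ 5251 Q5251 (allL N5251 (tt N5039 F5439) (tt N2886 (iv D6121)) (tt N7761 (iv F9828)) (tt N7973 (iv F10213)) (tt N7984 D8890))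
theorem Q5253 : ∀ i, i < 5253 → P i := stepQ 5252 Q5252 (allL N5252 (tt N6367 (iv F7293)) (tt N7984 (iv F10229)) (tt N7965 (iv F10202)) (tt N7977 (iv F10220)) (tt N2886 (iv D6122)))
theorem Q5254 : ∀ i, i < 5254 → P i := stepQ 5253 Q5253 (allL N5253 (tt N5335 (iv F5539)) (tt N7985 D8891) (tt N2887 (iv D6123)) (tt N7972 (iv F10211)) (tt N5334 F5538))
theorem Q5255 : ∀ i, i < 5255 → P i := stepQ 5254 Q5254 (allL N5254 (tt N5254 F5442) (tt N2890 F5440) (tt N4781 F5441) (tt N2888 (iv D6124)) (tt N4751 (iv F5443)))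
theorem Q5256 : ∀ i, i < 5256 → P i := stepQ 5255 Q5255 (allL N5255 (tt N5563 (iv F5910)) (tt N2889 (iv D6125)) (tt N7986 D8892) (tt N7987 D8893) (tt N7621 (iv F9552)))
theorem Q5257 : ∀ i, i < 5257 → P i := stepQ 5256 Q5256 (allL N5256 (tt N7988 D8894) (tt N7987 (iv F10235)) (tt N2890 F5444) (tt N2889 (iv D6126)) (tt N7989 D8895))
theorem Q5258 : ∀ i, i < 5258 → P i := stepQ 5257 Q5257 (allL N5257 (tt N4422 F5445) (tt N7621 (iv F9550)) (tt N7990 D8896) (tt N7991 D8897) (tt N2889 (iv D6127)))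
theorem Q5259 : ∀ i, i < 5259 → P i := stepQ 5258 Q5258 (allL N5258 (tt N2890 (iv D6128)) (tt N5080 F5446) (tt N7992 D8898) (tt N7993 D8899) (tt N7994 D8900))
theorem Q5260 : ∀ i, i < 5260 → P i := stepQ 5259 Q5259 (allL N5259 (tt N7994 (iv F10251)) (tt N4751 F5447) (tt N7995 D8901) (tt N2915 F5448) (tt N2890 (iv D6129)))
theorem Q5261 : ∀ i, i < 5261 → P i := stepQ 5260 Q5260 (allL N5260 (tt N6245 (iv F7055)) (tt N7996 D8902) (tt N2891 (iv D6130)) (tt N7997 D8903) (tt N6659 (iv F7775)))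
theorem Q5262 : ∀ i, i < 5262 → P i := stepQ 5261 Q5261 (allL N5261 (tt N7998 D8904) (tt N4753 F5449) (tt N7997 (iv F10256)) (tt N2891 (iv D6131)) (tt N2914 F5450))
theorem Q5263 : ∀ i, i < 5263 → P i := stepQ 5262 Q5262 (allL N5262 (tt N7999 D8905) (tt N2892 (iv D6132)) (tt N5575 (iv F5929)) (tt N8000 D8906) (tt N8001 D8907))
theorem Q5264 : ∀ i, i < 5264 → P i := stepQ 5263 Q5263 (allL N5263 (tt N5562 (iv F5909)) (tt N5760 F6256) (tt N2892 (iv D6133)) (tt N8002 D8908) (tt N8003 D8909))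
theorem Q5265 : ∀ i, i < 5265 → P i := stepQ 5264 Q5264 (allL N5264 (tt N7992 (iv F10244)) (tt N8000 (iv F10262)) (tt N8002 (iv F10265)) (tt N2892 (iv D6134)) (tt N8004 D8910))
theorem Q5266 : ∀ i, i < 5266 → P i := stepQ 5265 Q5265 (allL N5265 (tt N2894 F5451) (tt N8001 (iv F10263)) (tt N3388 (iv F5452)) (tt N8005 D8911) (tt N2892 (iv D6135)))
theorem Q5267 : ∀ i, i < 5267 → P i := stepQ 5266 Q5266 (allL N5266 (tt N2893 (iv D6136)) (tt N8006 D8912) (tt N8007 D8913) (tt N4424 F5453) (tt N4418 (iv F7790)))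
theorem Q5268 : ∀ i, i < 5268 → P i := stepQ 5267 Q5267 (allL N5267 (tt N4418 F7789) (tt N7718 (iv F9739)) (tt N8008 D8914) (tt N2910 F5454) (tt N2893 (iv D6137)))
theorem Q5269 : ∀ i, i < 5269 → P i := stepQ 5268 Q5268 (allL N5268 (tt N7990 (iv F10239)) (tt N4689 F5455) (tt N2894 (iv D6138)) (tt N2911 F5456) (tt N7372 (iv F9076)))
theorem Q5270 : ∀ i, i < 5270 → P i := stepQ 5269 Q5269 (allL N5269 (tt N5269 F5457) (tt N2895 (iv D6139)) (tt N3919 F5458) (tt N3816 (iv F5459)) (tt N3814 (iv F5460)))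
theorem Q5271 : ∀ i, i < 5271 → P i := stepQ 5270 Q5270 (allL N5270 (tt N5437 (iv F5687)) (tt N8009 D8915) (tt N2895 (iv D6140)) (tt N8010 D8916) (tt N8011 D8917))
theorem Q5272 : ∀ i, i < 5272 → P i := stepQ 5271 Q5271 (allL N5271 (tt N7993 (iv F10247)) (tt N3816 F5461) (tt N8010 (iv F10287)) (tt N2895 (iv D6141)) (tt N2905 F5462))
theorem Q5273 : ∀ i, i < 5273 → P i := stepQ 5272 Q5272 (allL N5272 (tt N2896 F5463) (tt N3814 F5464) (tt N8012 D8918) (tt N2903 F5465) (tt N2895 (iv D6142)))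
theorem Q5274 : ∀ i, i < 5274 → P i := stepQ 5273 Q5273 (allL N5273 (tt N8013 D8919) (tt N7310 (iv F8969)) (tt N2896 (iv D6143)) (tt N2916 F5466) (tt N7309 F8967))
theorem Q5275 : ∀ i, i < 5275 → P i := stepQ 5274 Q5274 (allL N5274 (tt N2897 (iv D6144)) (tt N8014 D8920) (tt N8003 (iv F10266)) (tt N8015 D8921) (tt N6657 F7772))
theorem Q5276 : ∀ i, i < 5276 → P i := stepQ 5275 Q5275 (allL N5275 (tt N4038 F6356) (tt N2900 F5467) (tt N7927 (iv F10144)) (tt N2899 (iv D6145)) (tt N4035 (iv F6357)))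
theorem Q5277 : ∀ i, i < 5277 → P i := stepQ 5276 Q5276 (allL N5276 (tt N2900 (iv D6146)) (tt N6051 F7965) (tt N8016 D8922) (tt N8017 D8923) (tt N4414 F6360))
theorem Q5278 : ∀ i, i < 5278 → P i := stepQ 5277 Q5277 (allL N5277 (tt N4414 (iv F6359)) (tt N4035 F6358) (tt N8018 D8924) (tt N8011 (iv F10291)) (tt N2900 (iv D6147)))
theorem Q5279 : ∀ i, i < 5279 → P i := stepQ 5278 Q5278 (allL N5278 (tt N2911 F5468) (tt N6848 (iv F8133)) (tt N2901 (iv D6148)) (tt N8019 D8925) (tt N6661 (iv F7779)))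
theorem Q5280 : ∀ i, i < 5280 → P i := stepQ 5279 Q5279 (allL N5279 (tt N4426 F5470) (tt N3996 F5469) (tt N8019 (iv F10302)) (tt N2901 (iv D6149)) (tt N8010 (iv F10288)))
theorem Q5281 : ∀ i, i < 5281 → P i := stepQ 5280 Q5280 (allL N5280 (tt N2908 F5471) (tt N8020 D8926) (tt N2902 (iv D6150)) (tt N8021 D8927) (tt N4417 F7792))
theorem Q5282 : ∀ i, i < 5282 → P i := stepQ 5281 Q5281 (allL N5281 (tt N2914 F5472) (tt N5114 F5473) (tt N8021 (iv F10309)) (tt N2902 (iv D6151)) (tt N7998 (iv F10258)))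
theorem Q5283 : ∀ i, i < 5283 → P i := stepQ 5282 Q5282 (allL N5282 (tt N2903 F5474) (tt N6905 (iv F8232)) (tt N8022 D8928) (tt N7994 (iv F10253)) (tt N2902 (iv D6152)))
theorem Q5284 : ∀ i, i < 5284 → P i := stepQ 5283 Q5283 (allL N5283 (tt N8023 D8929) (tt N8024 D8930) (tt N2903 (iv D6153)) (tt N8012 (iv F10292)) (tt N6662 F10316))
theorem Q5285 : ∀ i, i < 5285 → P i := stepQ 5284 Q5284 (allL N5284 (tt N4238 F5475) (tt N2904 (iv D6154)) (tt N3807 F5476) (tt N8025 D8931) (tt N4236 F5477))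
theorem Q5286 : ∀ i, i < 5286 → P i := stepQ 5285 Q5285 (allL N5285 (tt N8026 D8932) (tt N8025 (iv F10318)) (tt N2905 F5478) (tt N2904 (iv D6155)) (tt N8027 D8933))
theorem Q5287 : ∀ i, i < 5287 → P i := stepQ 5286 Q5286 (allL N5286 (tt N2905 (iv D6156)) (tt N7061 (iv F8497)) (tt N8028 D8934) (tt N7998 (iv F10257)) (tt N7993 F10250))
theorem Q5288 : ∀ i, i < 5288 → P i := stepQ 5287 Q5287 (allL N5287 (tt N6613 (iv F7681)) (tt N2908 F5479) (tt N4946 F5480) (tt N2906 (iv D6157)) (tt N4362 F7793))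
theorem Q5289 : ∀ i, i < 5289 → P i := stepQ 5288 Q5288 (allL N5288 (tt N8016 (iv F10298)) (tt N3294 F5481) (tt N2908 F5482) (tt N2907 (iv D6158)) (tt N8029 D8935))
theorem Q5290 : ∀ i, i < 5290 → P i := stepQ 5289 Q5289 (allL N5289 (tt N5440 (iv F5692)) (tt N3295 F5483) (tt N2917 F5484) (tt N8030 D8936) (tt N2907 (iv D6159)))
theorem Q5291 : ∀ i, i < 5291 → P i := stepQ 5290 Q5290 (allL N5290 (tt N8031 D8937) (tt N2909 (iv D6161)) (tt N5605 (iv F5986)) (tt N8032 D8938) (tt N8033 D8939))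
theorem Q5292 : ∀ i, i < 5292 → P i := stepQ 5291 Q5291 (allL N5291 (tt N5439 (iv F5691)) (tt N5881 (iv F6451)) (tt N2909 (iv D6162)) (tt N8034 D8940) (tt N8035 D8941))
theorem Q5293 : ∀ i, i < 5293 → P i := stepQ 5292 Q5292 (allL N5292 (tt N8021 (iv F10307)) (tt N8032 (iv F10333)) (tt N8034 (iv F10335)) (tt N2909 (iv D6163)) (tt N8005 (iv F10272)))
theorem Q5294 : ∀ i, i < 5294 → P i := stepQ 5293 Q5293 (allL N5293 (tt N2910 F5485) (tt N8033 (iv F10334)) (tt N6666 F7788) (tt N8004 (iv F10268)) (tt N2909 (iv D6164)))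
theorem Q5295 : ∀ i, i < 5295 → P i := stepQ 5294 Q5294 (allL N5294 (tt N8036 D8942) (tt N7900 (iv F10087)) (tt N2910 (iv D6165)) (tt N8008 (iv F10279)) (tt N7311 F8974))
theorem Q5296 : ∀ i, i < 5296 → P i := stepQ 5295 Q5295 (allL N5295 (tt N5295 F5488) (tt N2914 F5486) (tt N4780 F5487) (tt N2912 (iv D6166)) (tt N4753 (iv F5489)))
theorem Q5297 : ∀ i, i < 5297 → P i := stepQ 5296 Q5296 (allL N5296 (tt N5913 (iv F6519)) (tt N2915 F5490) (tt N4752 F5491) (tt N4751 F5492) (tt N2912 (iv D6167)))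
theorem Q5298 : ∀ i, i < 5298 → P i := stepQ 5297 Q5297 (allL N5297 (tt N5613 (iv F5993)) (tt N2913 (iv D6168)) (tt N8037 D8943) (tt N8038 D8944) (tt N7624 (iv F9557)))
theorem Q5299 : ∀ i, i < 5299 → P i := stepQ 5298 Q5298 (allL N5298 (tt N8017 (iv F10299)) (tt N8038 (iv F10342)) (tt N2914 F5493) (tt N2913 (iv D6169)) (tt N7991 (iv F10241)))
theorem Q5300 : ∀ i, i < 5300 → P i := stepQ 5299 Q5299 (allL N5299 (tt N5441 (iv F5694)) (tt N7624 (iv F9556)) (tt N8036 (iv F10337)) (tt N7989 (iv F10236)) (tt N2913 (iv D6170)))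
theorem Q5301 : ∀ i, i < 5301 → P i := stepQ 5300 Q5300 (allL N5300 (tt N6423 (iv F7399)) (tt N8039 D8945) (tt N2915 (iv D6171)) (tt N7995 (iv F10254)) (tt N6663 (iv F7780)))
theorem Q5302 : ∀ i, i < 5302 → P i := stepQ 5301 Q5301 (allL N5301 (tt N2916 (iv D6172)) (tt N8040 D8946) (tt N8035 (iv F10336)) (tt N8041 D8947) (tt N6664 F7782))
theorem Q5303 : ∀ i, i < 5303 → P i := stepQ 5302 Q5302 (allL N5302 (tt N8028 (iv F10325)) (tt N4325 F5494) (tt N8030 (iv F10330)) (tt N2917 (iv D6173)) (tt N4429 F8650))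
theorem Q5304 : ∀ i, i < 5304 → P i := stepQ 5303 Q5303 (allL N5303 (tt N2918 (iv D6174)) (tt N5914 (iv F6523)) (tt N5610 (iv F5991)) (tt N6094 (iv F6816)) (tt N7563 F9412))
theorem Q5305 : ∀ i, i < 5305 → P i := stepQ 5304 Q5304 (allL N5304 (tt N5614 (iv F5994)) (tt N2918 (iv D6175)) (tt N8042 D8948) (tt N6052 (iv F6761)) (tt N7416 F9410))
theorem Q5306 : ∀ i, i < 5306 → P i := stepQ 5305 Q5305 (allL N5305 (tt N7563 (iv F9407)) (tt N7416 (iv F9408)) (tt N7531 (iv F9356)) (tt N6060 (iv F7958)) (tt N2918 (iv D6176)))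
theorem Q5307 : ∀ i, i < 5307 → P i := stepQ 5306 Q5306 (allL N5306 (tt N5031 F5495) (tt N2919 (iv D6177)) (tt N5606 (iv F5987)) (tt N5590 (iv F5957)) (tt N6769 (iv F7978)))
theorem Q5308 : ∀ i, i < 5308 → P i := stepQ 5307 Q5307 (allL N5307 (tt N6049 (iv F6758)) (tt N5590 (iv F5959)) (tt N5504 (iv F5839)) (tt N2919 (iv D6178)) (tt N6103 (iv F6827)))
theorem Q5309 : ∀ i, i < 5309 → P i := stepQ 5308 Q5308 (allL N5308 (tt N2921 F5496) (tt N6769 (iv F7976)) (tt N7407 (iv F9160)) (tt N6102 (iv F6825)) (tt N2919 (iv D6179)))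
theorem Q5310 : ∀ i, i < 5310 → P i := stepQ 5309 Q5309 (allL N5309 (tt N6089 (iv F6811)) (tt N6539 (iv F7570)) (tt N6218 (iv F6984)) (tt N2925 F5497) (tt N2922 (iv D6180)))
theorem Q5311 : ∀ i, i < 5311 → P i := stepQ 5310 Q5310 (allL N5310 (tt N7795 (iv F9907)) (tt N6545 (iv F7576)) (tt N6202 F6956) (tt N2923 (iv D6181)) (tt N8043 D8949))
theorem Q5312 : ∀ i, i < 5312 → P i := stepQ 5311 Q5311 (allL N5311 (tt N7796 (iv F9910)) (tt N6504 (iv F7516)) (tt N2934 F5498) (tt N2926 F5499) (tt N2924 (iv D6182)))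
theorem Q5313 : ∀ i, i < 5313 → P i := stepQ 5312 Q5312 (allL N5312 (tt N4770 F5500) (tt N2925 (iv D6183)) (tt N7448 (iv F9231)) (tt N6539 (iv F7571)) (tt N7473 (iv F9270)))
theorem Q5314 : ∀ i, i < 5314 → P i := stepQ 5313 Q5313 (allL N5313 (tt N2926 F5501) (tt N7473 (iv F9271)) (tt N2940 F5502) (tt N8043 (iv F10348)) (tt N2925 (iv D6184)))
theorem Q5315 : ∀ i, i < 5315 → P i := stepQ 5314 Q5314 (allL N5314 (tt N3182 F5503) (tt N8044 D8950) (tt N2927 (iv D6185)) (tt N3161 F5504) (tt N8045 D8951))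
theorem Q5316 : ∀ i, i < 5316 → P i := stepQ 5315 Q5315 (allL N5315 (tt N2928 F5505) (tt N2989 F5506) (tt N8046 D8952) (tt N3168 F5507) (tt N2927 (iv D6186)))
theorem Q5317 : ∀ i, i < 5317 → P i := stepQ 5316 Q5316 (allL N5316 (tt N6787 (iv F8009)) (tt N8047 D8953) (tt N2928 (iv D6187)) (tt N3205 F5508) (tt N8048 D8954))
theorem Q5318 : ∀ i, i < 5318 → P i := stepQ 5317 Q5317 (allL N5317 (tt N6090 (iv F6814)) (tt N8049 D8955) (tt N2929 (iv D6188)) (tt N2937 F5509) (tt N6365 (iv F7290)))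
theorem Q5319 : ∀ i, i < 5319 → P i := stepQ 5318 Q5318 (allL N5318 (tt N7599 (iv F9494)) (tt N2930 (iv D6189)) (tt N8050 D8956) (tt N8051 D8957) (tt N5015 F5510))
theorem Q5320 : ∀ i, i < 5320 → P i := stepQ 5319 Q5319 (allL N5319 (tt N6108 (iv F6830)) (tt N8051 (iv F10366)) (tt N2931 F5511) (tt N2930 (iv D6190)) (tt N6200 (iv F6946)))
theorem Q5321 : ∀ i, i < 5321 → P i := stepQ 5320 Q5320 (allL N5320 (tt N6109 (iv F6831)) (tt N3206 F5512) (tt N8043 (iv F10347)) (tt N2940 F5513) (tt N2931 (iv D6191)))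
theorem Q5322 : ∀ i, i < 5322 → P i := stepQ 5321 Q5321 (allL N5321 (tt N8052 D8958) (tt N3006 F5514) (tt N2932 (iv D6192)) (tt N8053 D8959) (tt N7180 F8737))
theorem Q5323 : ∀ i, i < 5323 → P i := stepQ 5322 Q5322 (allL N5322 (tt N3917 F5515) (tt N2933 F5516) (tt N8053 (iv F10374)) (tt N2932 (iv D6193)) (tt N3916 F5517))
theorem Q5324 : ∀ i, i < 5324 → P i := stepQ 5323 Q5323 (allL N5323 (tt N8054 D8960) (tt N3017 F5518) (tt N2936 F5519) (tt N2935 (iv D6194)) (tt N8055 D8961))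
theorem Q5325 : ∀ i, i < 5325 → P i := stepQ 5324 Q5324 (allL N5324 (tt N7609 (iv F9524)) (tt N2937 (iv D6195)) (tt N8056 D8962) (tt N8049 (iv F10361)) (tt N4882 F5522))
theorem Q5326 : ∀ i, i < 5326 → P i := stepQ 5325 Q5325 (allL N5325 (tt N2938 F5520) (tt N4882 (iv F5521)) (tt N6201 (iv F6950)) (tt N6200 F6948) (tt N2937 (iv D6196)))
theorem Q5327 : ∀ i, i < 5327 → P i := stepQ 5326 Q5326 (allL N5326 (tt N2939 (iv D6197)) (tt N3025 F5523) (tt N8057 D8963) (tt N3162 F5524) (tt N8058 D8964))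
theorem Q5328 : ∀ i, i < 5328 → P i := stepQ 5327 Q5327 (allL N5327 (tt N6789 (iv F8016)) (tt N8059 D8965) (tt N2939 (iv D6198)) (tt N3192 F5525) (tt N8060 D8966))
theorem Q5329 : ∀ i, i < 5329 → P i := stepQ 5328 Q5328 (allL N5328 (tt N8058 (iv F10384)) (tt N2940 F5526) (tt N6807 F8065) (tt N3206 F5527) (tt N2939 (iv D6199)))
theorem Q5330 : ∀ i, i < 5330 → P i := stepQ 5329 Q5329 (allL N5329 (tt N5222 F5528) (tt N8061 D8967) (tt N2941 (iv D6200)) (tt N8062 D8968) (tt N8063 D8969))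
theorem Q5331 : ∀ i, i < 5331 → P i := stepQ 5330 Q5330 (allL N5330 (tt N5206 F5530) (tt N2947 F5529) (tt N8062 (iv F10391)) (tt N2941 (iv D6201)) (tt N8064 D8970))
theorem Q5332 : ∀ i, i < 5332 → P i := stepQ 5331 Q5331 (allL N5331 (tt N4531 F5531) (tt N2942 (iv D6202)) (tt N5838 (iv F6382)) (tt N8065 D8971) (tt N5821 F6350))
theorem Q5333 : ∀ i, i < 5333 → P i := stepQ 5332 Q5332 (allL N5332 (tt N5233 F5533) (tt N8065 (iv F10400)) (tt N2943 F5532) (tt N2942 (iv D6203)) (tt N8066 D8972))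
theorem Q5334 : ∀ i, i < 5334 → P i := stepQ 5333 Q5333 (allL N5333 (tt N4393 F5534) (tt N5821 (iv F6349)) (tt N3676 F5535) (tt N8063 (iv F10395)) (tt N2942 (iv D6204)))
theorem Q5335 : ∀ i, i < 5335 → P i := stepQ 5334 Q5334 (allL N5334 (tt N2943 (iv D6205)) (tt N7619 (iv F9544)) (tt N5230 F5536) (tt N5237 F5537) (tt N5253 (iv F5538)))
theorem Q5336 : ∀ i, i < 5336 → P i := stepQ 5335 Q5335 (allL N5335 (tt N5253 F5539) (tt N2952 F5540) (tt N3957 (iv F5541)) (tt N8064 (iv F10398)) (tt N2943 (iv D6206)))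
theorem Q5337 : ∀ i, i < 5337 → P i := stepQ 5336 Q5336 (allL N5336 (tt N3042 F5544) (tt N3947 F5542) (tt N3009 F5543) (tt N2944 (iv D6207)) (tt N8067 D8973))
theorem Q5338 : ∀ i, i < 5338 → P i := stepQ 5337 Q5337 (allL N5337 (tt N3089 F5545) (tt N3948 F5546) (tt N2952 F5547) (tt N8067 (iv F10407)) (tt N2945 (iv D6208)))
theorem Q5339 : ∀ i, i < 5339 → P i := stepQ 5338 Q5338 (allL N5338 (tt N8068 D8974) (tt N2946 (iv D6209)) (tt N8069 D8975) (tt N8070 D8976) (tt N4224 F5554))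
theorem Q5340 : ∀ i, i < 5340 → P i := stepQ 5339 Q5339 (allL N5339 (tt N3045 F5549) (tt N8070 (iv F10414)) (tt N2947 F5548) (tt N2946 (iv D6210)) (tt N8071 D8977))
theorem Q5341 : ∀ i, i < 5341 → P i := stepQ 5340 Q5340 (allL N5340 (tt N3068 F5550) (tt N4224 (iv F5553)) (tt N3014 F5551) (tt N2950 F5552) (tt N2946 (iv D6211)))
theorem Q5342 : ∀ i, i < 5342 → P i := stepQ 5341 Q5341 (allL N5341 (tt N2978 F5556) (tt N8064 (iv F10397)) (tt N8067 (iv F10408)) (tt N2952 F5557) (tt N2947 (iv D6212)))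
theorem Q5343 : ∀ i, i < 5343 → P i := stepQ 5342 Q5342 (allL N5342 (tt N3633 (iv F5559)) (tt N5838 (iv F6381)) (tt N2948 (iv D6213)) (tt N8072 D8978) (tt N3630 F5558))
theorem Q5344 : ∀ i, i < 5344 → P i := stepQ 5343 Q5343 (allL N5343 (tt N8073 D8979) (tt N2949 F5560) (tt N8072 (iv F10420)) (tt N2948 (iv D6214)) (tt N4223 (iv F6502)))
theorem Q5345 : ∀ i, i < 5345 → P i := stepQ 5344 Q5344 (allL N5344 (tt N3088 F5561) (tt N4223 F6500) (tt N3013 F5562) (tt N8071 (iv F10419)) (tt N2949 (iv D6215)))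
theorem Q5346 : ∀ i, i < 5346 → P i := stepQ 5345 Q5345 (allL N5345 (tt N7614 (iv F9536)) (tt N2951 (iv D6216)) (tt N6420 (iv F7391)) (tt N3105 F5563) (tt N3155 F5564))
theorem Q5347 : ∀ i, i < 5347 → P i := stepQ 5346 Q5346 (allL N5346 (tt N2960 F5565) (tt N3477 F5566) (tt N4453 F5567) (tt N2953 (iv D6217)) (tt N8074 D8980))
theorem Q5348 : ∀ i, i < 5348 → P i := stepQ 5347 Q5347 (allL N5347 (tt N2954 F5568) (tt N3478 F5569) (tt N7275 (iv F8902)) (tt N8075 D8981) (tt N2953 (iv D6218)))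
theorem Q5349 : ∀ i, i < 5349 → P i := stepQ 5348 Q5348 (allL N5348 (tt N7273 (iv F8900)) (tt N4230 (iv F6161)) (tt N2954 (iv D6219)) (tt N8076 D8982) (tt N3680 (iv F6160)))
theorem Q5350 : ∀ i, i < 5350 → P i := stepQ 5349 Q5349 (allL N5349 (tt N2963 F5571) (tt N3983 F5570) (tt N8076 (iv F10432)) (tt N2954 (iv D6220)) (tt N8077 D8983))
theorem Q5351 : ∀ i, i < 5351 → P i := stepQ 5350 Q5350 (allL N5350 (tt N7281 (iv F8915)) (tt N4232 F5572) (tt N2956 F5573) (tt N2955 (iv D6221)) (tt N8078 D8984))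
theorem Q5352 : ∀ i, i < 5352 → P i := stepQ 5351 Q5351 (allL N5351 (tt N2956 (iv D6222)) (tt N8079 D8985) (tt N7278 (iv F8911)) (tt N8074 (iv F10428)) (tt N8080 D8986))
theorem Q5353 : ∀ i, i < 5353 → P i := stepQ 5352 Q5352 (allL N5352 (tt N8080 (iv F10449)) (tt N3987 F5574) (tt N5352 F7851) (tt N8077 (iv F10438)) (tt N2956 (iv D6223)))
theorem Q5354 : ∀ i, i < 5354 → P i := stepQ 5353 Q5353 (allL N5353 (tt N4453 F5575) (tt N6928 (iv F8266)) (tt N5353 F5576) (tt N2957 (iv D6224)) (tt N8081 D8987))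
theorem Q5355 : ∀ i, i < 5355 → P i := stepQ 5354 Q5354 (allL N5354 (tt N2958 F5577) (tt N6929 (iv F8268)) (tt N5361 (iv F5582)) (tt N8082 D8988) (tt N2957 (iv D6225)))
theorem Q5356 : ∀ i, i < 5356 → P i := stepQ 5355 Q5355 (allL N5355 (tt N4456 F5578) (tt N6496 (iv F7502)) (tt N6277 F7145) (tt N2958 (iv D6226)) (tt N8083 D8989))
theorem Q5357 : ∀ i, i < 5357 → P i := stepQ 5356 Q5356 (allL N5356 (tt N2959 (iv D6227)) (tt N8084 D8990) (tt N5367 (iv F5591)) (tt N8081 (iv F10453)) (tt N8085 D8991))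
theorem Q5358 : ∀ i, i < 5358 → P i := stepQ 5357 Q5357 (allL N5357 (tt N8085 (iv F10458)) (tt N6500 (iv F7511)) (tt N2967 F5636) (tt N8083 (iv F10457)) (tt N2959 (iv D6228)))
theorem Q5359 : ∀ i, i < 5359 → P i := stepQ 5358 Q5358 (allL N5358 (tt N8074 (iv F10426)) (tt N7636 (iv F9576)) (tt N8086 D8992) (tt N2966 F5579) (tt N2960 (iv D6229)))
theorem Q5360 : ∀ i, i < 5360 → P i := stepQ 5359 Q5359 (allL N5359 (tt N3683 F5581) (tt N7654 (iv F9605)) (tt N2961 (iv D6230)) (tt N8087 D8993) (tt N3682 F5580))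
theorem Q5361 : ∀ i, i < 5361 → P i := stepQ 5360 Q5360 (allL N5360 (tt N8075 (iv F10429)) (tt N7637 (iv F9578)) (tt N8087 (iv F10462)) (tt N2961 (iv D6231)) (tt N8088 D8994))
theorem Q5362 : ∀ i, i < 5362 → P i := stepQ 5361 Q5361 (allL N5361 (tt N2962 (iv D6232)) (tt N8089 D8995) (tt N5354 F5582) (tt N8090 D8996) (tt N6370 (iv F7302)))
theorem Q5363 : ∀ i, i < 5363 → P i := stepQ 5362 Q5362 (allL N5362 (tt N8091 D8997) (tt N2962 (iv D6233)) (tt N8092 D8998) (tt N8093 D8999) (tt N3925 F5583))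
theorem Q5364 : ∀ i, i < 5364 → P i := stepQ 5363 Q5363 (allL N5363 (tt N7276 (iv F8906)) (tt N8093 (iv F10473)) (tt N2963 F5584) (tt N2962 (iv D6234)) (tt N6275 (iv F7142)))
theorem Q5365 : ∀ i, i < 5365 → P i := stepQ 5364 Q5364 (allL N5364 (tt N8077 (iv F10435)) (tt N2978 F5585) (tt N8083 (iv F10456)) (tt N2967 F5586) (tt N2963 (iv D6235)))
theorem Q5366 : ∀ i, i < 5366 → P i := stepQ 5365 Q5365 (allL N5365 (tt N3928 F5587) (tt N2980 F5588) (tt N2964 (iv D6236)) (tt N8094 D9000) (tt N4049 F5589))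
theorem Q5367 : ∀ i, i < 5367 → P i := stepQ 5366 Q5366 (allL N5366 (tt N8095 D9001) (tt N2965 F5590) (tt N8094 (iv F10476)) (tt N2964 (iv D6237)) (tt N7607 F9522))
theorem Q5368 : ∀ i, i < 5368 → P i := stepQ 5367 Q5367 (allL N5367 (tt N2965 (iv D6238)) (tt N8096 D9002) (tt N5356 F5591) (tt N8097 D9003) (tt N8098 D9004))
theorem Q5369 : ∀ i, i < 5369 → P i := stepQ 5368 Q5368 (allL N5368 (tt N8098 (iv F10482)) (tt N7607 (iv F9520)) (tt N6276 (iv F7140)) (tt N6275 F7141) (tt N2965 (iv D6239)))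
theorem Q5370 : ∀ i, i < 5370 → P i := stepQ 5369 Q5369 (allL N5369 (tt N7613 F9534) (tt N2966 (iv D6240)) (tt N7632 (iv F9570)) (tt N7636 (iv F9577)) (tt N7651 (iv F9599)))
theorem Q5371 : ∀ i, i < 5371 → P i := stepQ 5370 Q5370 (allL N5370 (tt N3684 F5592) (tt N7681 (iv F9643)) (tt N2966 (iv D6241)) (tt N8086 (iv F10460)) (tt N7679 (iv F9641)))
theorem Q5372 : ∀ i, i < 5372 → P i := stepQ 5371 Q5371 (allL N5371 (tt N2967 F5593) (tt N7651 (iv F9600)) (tt N5371 F5635) (tt N8088 (iv F10463)) (tt N2966 (iv D6242)))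
theorem Q5373 : ∀ i, i < 5373 → P i := stepQ 5372 Q5372 (allL N5372 (tt N2969 F5594) (tt N7611 (iv F9531)) (tt N8099 D9005) (tt N8100 D9006) (tt N2968 (iv D6244)))
theorem Q5374 : ∀ i, i < 5374 → P i := stepQ 5373 Q5373 (allL N5373 (tt N7482 (iv F9287)) (tt N8101 D9007) (tt N2969 (iv D6245)) (tt N8102 D9008) (tt N8103 D9009))
theorem Q5375 : ∀ i, i < 5375 → P i := stepQ 5374 Q5374 (allL N5374 (tt N8104 D9010) (tt N2973 F5595) (tt N8102 (iv F10486)) (tt N2969 (iv D6246)) (tt N6893 F8200))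
theorem Q5376 : ∀ i, i < 5376 → P i := stepQ 5375 Q5375 (allL N5375 (tt N3064 F5596) (tt N6788 (iv F8012)) (tt N3003 F5597) (tt N2970 (iv D6247)) (tt N6884 (iv F8180)))
theorem Q5377 : ∀ i, i < 5377 → P i := stepQ 5376 Q5376 (allL N5376 (tt N3065 F5599) (tt N6981 (iv F8358)) (tt N2971 (iv D6248)) (tt N2986 F5598) (tt N6979 F8354))
theorem Q5378 : ∀ i, i < 5378 → P i := stepQ 5377 Q5377 (allL N5377 (tt N8105 D9011) (tt N2972 (iv D6249)) (tt N8106 D9012) (tt N7053 (iv F8480)) (tt N6980 F8357))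
theorem Q5379 : ∀ i, i < 5379 → P i := stepQ 5378 Q5378 (allL N5378 (tt N3067 F5600) (tt N7053 (iv F8479)) (tt N2973 F5601) (tt N2972 (iv D6250)) (tt N7052 F8478))
theorem Q5380 : ∀ i, i < 5380 → P i := stepQ 5379 Q5379 (allL N5379 (tt N3046 F5602) (tt N6980 (iv F8355)) (tt N3004 F5603) (tt N6979 F8353) (tt N2972 (iv D6251)))
theorem Q5381 : ∀ i, i < 5381 → P i := stepQ 5380 Q5380 (allL N5380 (tt N3108 F5604) (tt N6893 (iv F8198)) (tt N6884 F8182) (tt N2987 F5605) (tt N2973 (iv D6252)))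
theorem Q5382 : ∀ i, i < 5382 → P i := stepQ 5381 Q5381 (allL N5381 (tt N8107 D9013) (tt N2974 (iv D6253)) (tt N8108 D9014) (tt N8109 D9015) (tt N8110 D9016))
theorem Q5383 : ∀ i, i < 5383 → P i := stepQ 5382 Q5382 (allL N5382 (tt N3071 F5606) (tt N8109 (iv F10490)) (tt N2995 F5607) (tt N2974 (iv D6254)) (tt N8111 D9017))
theorem Q5384 : ∀ i, i < 5384 → P i := stepQ 5383 Q5383 (allL N5383 (tt N2977 F5608) (tt N8110 (iv F10491)) (tt N3000 F5609) (tt N8112 D9018) (tt N2974 (iv D6255)))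
theorem Q5385 : ∀ i, i < 5385 → P i := stepQ 5384 Q5384 (allL N5384 (tt N2975 (iv D6256)) (tt N8113 D9019) (tt N8114 D9020) (tt N8115 D9021) (tt N8116 D9022))
theorem Q5386 : ∀ i, i < 5386 → P i := stepQ 5385 Q5385 (allL N5385 (tt N8117 D9023) (tt N8092 (iv F10471)) (tt N2975 (iv D6257)) (tt N8118 D9024) (tt N8119 D9025))
theorem Q5387 : ∀ i, i < 5387 → P i := stepQ 5386 Q5386 (allL N5386 (tt N8120 D9026) (tt N2976 F5610) (tt N8118 (iv F10507)) (tt N2975 (iv D6258)) (tt N8121 D9027))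
theorem Q5388 : ∀ i, i < 5388 → P i := stepQ 5387 Q5387 (allL N5387 (tt N8116 (iv F10505)) (tt N2977 F5611) (tt N7111 (iv F8587)) (tt N2982 (iv F5612)) (tt N2975 (iv D6259)))
theorem Q5389 : ∀ i, i < 5389 → P i := stepQ 5388 Q5388 (allL N5388 (tt N3076 F5613) (tt N8121 (iv F10515)) (tt N3010 F5614) (tt N2984 F5615) (tt N2976 (iv D6260)))
theorem Q5390 : ∀ i, i < 5390 → P i := stepQ 5389 Q5389 (allL N5389 (tt N8122 D9028) (tt N5072 F5616) (tt N7106 (iv F8576)) (tt N2979 (iv D6261)) (tt N5070 (iv F5617)))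
theorem Q5391 : ∀ i, i < 5391 → P i := stepQ 5390 Q5390 (allL N5390 (tt N2980 (iv D6262)) (tt N4940 (iv F5619)) (tt N6376 (iv F7310)) (tt N8123 D9029) (tt N4938 F5618))
theorem Q5392 : ∀ i, i < 5392 → P i := stepQ 5391 Q5391 (allL N5391 (tt N8124 D9030) (tt N8094 (iv F10475)) (tt N2981 F5620) (tt N2980 (iv D6263)) (tt N8125 D9031))
theorem Q5393 : ∀ i, i < 5393 → P i := stepQ 5392 Q5392 (allL N5392 (tt N4938 F5621) (tt N4049 F5622) (tt N4588 F5623) (tt N8119 F10510) (tt N2980 (iv D6264)))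
theorem Q5394 : ∀ i, i < 5394 → P i := stepQ 5393 Q5393 (allL N5393 (tt N2981 (iv D6265)) (tt N8126 D9032) (tt N8127 D9033) (tt N8128 D9034) (tt N8129 D9035))
theorem Q5395 : ∀ i, i < 5395 → P i := stepQ 5394 Q5394 (allL N5394 (tt N8129 (iv F10521)) (tt N2984 F5624) (tt N8130 D9036) (tt N8121 (iv F10516)) (tt N2981 (iv D6266)))
theorem Q5396 : ∀ i, i < 5396 → P i := stepQ 5395 Q5395 (allL N5395 (tt N8131 D9037) (tt N2983 (iv D6267)) (tt N8132 D9038) (tt N8133 D9039) (tt N8134 D9040))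
theorem Q5397 : ∀ i, i < 5397 → P i := stepQ 5396 Q5396 (allL N5396 (tt N3082 F5625) (tt N8133 (iv F10523)) (tt N2994 F5626) (tt N2983 (iv D6268)) (tt N8112 (iv F10502)))
theorem Q5398 : ∀ i, i < 5398 → P i := stepQ 5397 Q5397 (allL N5397 (tt N2984 F5627) (tt N8134 (iv F10525)) (tt N3029 F5628) (tt N8111 (iv F10496)) (tt N2983 (iv D6269)))
theorem Q5399 : ∀ i, i < 5399 → P i := stepQ 5398 Q5398 (allL N5398 (tt N2985 (iv D6270)) (tt N7613 (iv F9533)) (tt N8135 D9041) (tt N3208 F5629) (tt N8136 D9042))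
theorem Q5400 : ∀ i, i < 5400 → P i := stepQ 5399 Q5399 (allL N5399 (tt N7484 (iv F9291)) (tt N8137 D9043) (tt N2985 (iv D6271)) (tt N6810 (iv F8068)) (tt N8138 D9044))
theorem Q5401 : ∀ i, i < 5401 → P i := stepQ 5400 Q5400 (allL N5400 (tt N8136 (iv F10529)) (tt N2987 F5630) (tt N6813 (iv F8078)) (tt N6893 (iv F8199)) (tt N2985 (iv D6272)))
theorem Q5402 : ∀ i, i < 5402 → P i := stepQ 5401 Q5401 (allL N5401 (tt N8139 D9045) (tt N2986 (iv D6273)) (tt N8140 D9046) (tt N6981 F8359) (tt N6977 F8347))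
theorem Q5403 : ∀ i, i < 5403 → P i := stepQ 5402 Q5402 (allL N5402 (tt N3050 F5631) (tt N6977 (iv F8345)) (tt N3024 F5632) (tt N7052 (iv F8476)) (tt N2986 (iv D6274)))
theorem Q5404 : ∀ i, i < 5404 → P i := stepQ 5403 Q5403 (allL N5403 (tt N3043 F5633) (tt N6792 (iv F8025)) (tt N2987 (iv D6275)) (tt N6884 (iv F8179)) (tt N3022 F5634))
theorem Q5405 : ∀ i, i < 5405 → P i := stepQ 5404 Q5404 (allL N5404 (tt N5404 F5637) (tt N5700 (iv F6140)) (tt N3693 F5638) (tt N7056 (iv F8485)) (tt N2988 (iv D6276)))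
theorem Q5406 : ∀ i, i < 5406 → P i := stepQ 5405 Q5405 (allL N5405 (tt N5405 F5639) (tt N5735 (iv F6196)) (tt N2989 (iv D6277)) (tt N8141 D9047) (tt N8142 D9048))
theorem Q5407 : ∀ i, i < 5407 → P i := stepQ 5406 Q5406 (allL N5406 (tt N6061 (iv F6770)) (tt N3168 F5640) (tt N8141 (iv F10534)) (tt N2989 (iv D6278)) (tt N7059 (iv F8494)))
theorem Q5408 : ∀ i, i < 5408 → P i := stepQ 5407 Q5407 (allL N5407 (tt N8143 D9049) (tt N5789 (iv F6275)) (tt N2991 F5641) (tt N2990 (iv D6279)) (tt N4270 (iv F5642)))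
theorem Q5409 : ∀ i, i < 5409 → P i := stepQ 5408 Q5408 (allL N5408 (tt N5408 F5643) (tt N5790 (iv F6278)) (tt N3694 F5644) (tt N4146 (iv F5645)) (tt N2990 (iv D6280)))
theorem Q5410 : ∀ i, i < 5410 → P i := stepQ 5409 Q5409 (allL N5409 (tt N8044 (iv F10349)) (tt N4808 F6600) (tt N2992 (iv D6281)) (tt N5082 F6599) (tt N8144 D9050))
theorem Q5411 : ∀ i, i < 5411 → P i := stepQ 5410 Q5410 (allL N5410 (tt N5952 (iv F6597)) (tt N4809 F5646) (tt N5082 (iv F6598)) (tt N2992 (iv D6282)) (tt N8145 D9051))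
theorem Q5412 : ∀ i, i < 5412 → P i := stepQ 5411 Q5411 (allL N5411 (tt N2993 F5647) (tt N4810 F5648) (tt N8146 D9052) (tt N8147 D9053) (tt N2992 (iv D6283)))
theorem Q5413 : ∀ i, i < 5413 → P i := stepQ 5412 Q5412 (allL N5412 (tt N8148 D9054) (tt N8149 D9055) (tt N2993 (iv D6284)) (tt N8150 D9056) (tt N8151 D9057))
theorem Q5414 : ∀ i, i < 5414 → P i := stepQ 5413 Q5413 (allL N5413 (tt N6727 (iv F7912)) (tt N2995 F5649) (tt N8150 (iv F10549)) (tt N2993 (iv D6285)) (tt N4280 F5654))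
theorem Q5415 : ∀ i, i < 5415 → P i := stepQ 5414 Q5414 (allL N5414 (tt N3069 F5650) (tt N4280 (iv F5653)) (tt N3001 F5652) (tt N3030 F5651) (tt N2995 (iv D6286)))
theorem Q5416 : ∀ i, i < 5416 → P i := stepQ 5415 Q5415 (allL N5415 (tt N8152 D9058) (tt N2996 (iv D6287)) (tt N5831 (iv F6368)) (tt N3028 F5655) (tt N4186 (iv F5659)))
theorem Q5417 : ∀ i, i < 5417 → P i := stepQ 5416 Q5416 (allL N5416 (tt N3122 F5656) (tt N4186 F5658) (tt N8112 (iv F10501)) (tt N3000 F5657) (tt N2996 (iv D6288)))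
theorem Q5418 : ∀ i, i < 5418 → P i := stepQ 5417 Q5417 (allL N5417 (tt N7600 (iv F9499)) (tt N2997 (iv D6289)) (tt N6402 (iv F7349)) (tt N3128 F5660) (tt N3134 F5661))
theorem Q5419 : ∀ i, i < 5419 → P i := stepQ 5418 Q5418 (allL N5418 (tt N2998 (iv D6290)) (tt N7644 (iv F9587)) (tt N8153 D9059) (tt N8154 D9060) (tt N7642 F9584))
theorem Q5420 : ∀ i, i < 5420 → P i := stepQ 5419 Q5419 (allL N5419 (tt N8155 D9061) (tt N5788 (iv F6272)) (tt N2998 (iv D6291)) (tt N8156 D9062) (tt N8157 D9063))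
theorem Q5421 : ∀ i, i < 5421 → P i := stepQ 5420 Q5420 (allL N5420 (tt N8158 D9064) (tt N2999 F5662) (tt N8156 (iv F10556)) (tt N2998 (iv D6292)) (tt N4278 (iv F5669)))
theorem Q5422 : ∀ i, i < 5422 → P i := stepQ 5421 Q5421 (allL N5421 (tt N7642 (iv F9583)) (tt N3000 F5663) (tt N4174 (iv F5665)) (tt N4186 (iv F5664)) (tt N2998 (iv D6293)))
theorem Q5423 : ∀ i, i < 5423 → P i := stepQ 5422 Q5422 (allL N5422 (tt N3121 F5666) (tt N4278 F5668) (tt N8111 (iv F10495)) (tt N3029 F5667) (tt N2999 (iv D6294)))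
theorem Q5424 : ∀ i, i < 5424 → P i := stepQ 5423 Q5423 (allL N5423 (tt N3002 (iv D6295)) (tt N8159 D9065) (tt N3230 F6197) (tt N3229 F6198) (tt N8160 D9066))
theorem Q5425 : ∀ i, i < 5425 → P i := stepQ 5424 Q5424 (allL N5424 (tt N8161 D9067) (tt N8162 D9068) (tt N3002 (iv D6296)) (tt N8163 D9069) (tt N8164 D9070))
theorem Q5426 : ∀ i, i < 5426 → P i := stepQ 5425 Q5425 (allL N5425 (tt N8165 D9071) (tt N3003 F5670) (tt N8163 (iv F10574)) (tt N3002 (iv D6297)) (tt N6891 F8196))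
theorem Q5427 : ∀ i, i < 5427 → P i := stepQ 5426 Q5426 (allL N5426 (tt N8160 (iv F10566)) (tt N3004 F5671) (tt N4661 (iv F5672)) (tt N6822 (iv F8104)) (tt N3002 (iv D6298)))
theorem Q5428 : ∀ i, i < 5428 → P i := stepQ 5427 Q5427 (allL N5427 (tt N3116 F5673) (tt N6891 (iv F8195)) (tt N7052 (iv F8475)) (tt N3024 F5674) (tt N3003 (iv D6299)))
theorem Q5429 : ∀ i, i < 5429 → P i := stepQ 5428 Q5428 (allL N5428 (tt N3110 F5675) (tt N6822 (iv F8105)) (tt N6979 (iv F8351)) (tt N3004 (iv D6300)) (tt N3023 F5676))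
theorem Q5430 : ∀ i, i < 5430 → P i := stepQ 5429 Q5429 (allL N5429 (tt N8159 (iv F10563)) (tt N3005 (iv D6301)) (tt N8166 D9072) (tt N8167 D9073) (tt N4820 F5680))
theorem Q5431 : ∀ i, i < 5431 → P i := stepQ 5430 Q5430 (allL N5430 (tt N8168 D9074) (tt N8167 (iv F10581)) (tt N5430 F5677) (tt N3005 (iv D6302)) (tt N8169 D9075))
theorem Q5432 : ∀ i, i < 5432 → P i := stepQ 5431 Q5431 (allL N5431 (tt N3008 F5678) (tt N4820 F5679) (tt N8170 D9076) (tt N8171 D9077) (tt N3005 (iv D6303)))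
theorem Q5433 : ∀ i, i < 5433 → P i := stepQ 5432 Q5432 (allL N5432 (tt N3006 (iv D6304)) (tt N8172 D9078) (tt N5432 F5681) (tt N8173 D9079) (tt N8174 D9080))
theorem Q5434 : ∀ i, i < 5434 → P i := stepQ 5433 Q5433 (allL N5433 (tt N8175 D9081) (tt N8053 (iv F10373)) (tt N3007 F5682) (tt N3006 (iv D6305)) (tt N8176 D9082))
theorem Q5435 : ∀ i, i < 5435 → P i := stepQ 5434 Q5434 (allL N5434 (tt N8174 (iv F10595)) (tt N7180 (iv F8735)) (tt N6390 F8081) (tt N3018 F8082) (tt N3006 (iv D6306)))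
theorem Q5436 : ∀ i, i < 5436 → P i := stepQ 5435 Q5435 (allL N5435 (tt N3007 (iv D6307)) (tt N6707 (iv F7877)) (tt N5435 F5683) (tt N6711 (iv F7884)) (tt N6705 F7875))
theorem Q5437 : ∀ i, i < 5437 → P i := stepQ 5436 Q5436 (allL N5436 (tt N6705 (iv F7874)) (tt N3010 F5684) (tt N7307 (iv F8960)) (tt N3020 F5685) (tt N3007 (iv D6308)))
theorem Q5438 : ∀ i, i < 5438 → P i := stepQ 5437 Q5437 (allL N5437 (tt N5270 F5687) (tt N3009 (iv D6309)) (tt N8177 D9083) (tt N3111 F5686) (tt N7234 F8831))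
theorem Q5439 : ∀ i, i < 5439 → P i := stepQ 5438 Q5438 (allL N5438 (tt N3010 F5688) (tt N7234 (iv F8830)) (tt N8071 (iv F10418)) (tt N3013 F5689) (tt N3009 (iv D6310)))
theorem Q5440 : ∀ i, i < 5440 → P i := stepQ 5439 Q5439 (allL N5439 (tt N5291 F5691) (tt N5818 (iv F6340)) (tt N3012 F5690) (tt N3011 (iv D6311)) (tt N8178 D9084))
theorem Q5441 : ∀ i, i < 5441 → P i := stepQ 5440 Q5440 (allL N5440 (tt N5289 F5692) (tt N5819 (iv F6344)) (tt N3702 F5693) (tt N8179 D9085) (tt N3011 (iv D6312)))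
theorem Q5442 : ∀ i, i < 5442 → P i := stepQ 5441 Q5441 (allL N5441 (tt N5299 F5694) (tt N3013 F5695) (tt N3966 (iv F6499)) (tt N7234 (iv F8829)) (tt N3012 (iv D6313)))
theorem Q5443 : ∀ i, i < 5443 → P i := stepQ 5442 Q5442 (allL N5442 (tt N3015 (iv D6314)) (tt N3480 F5696) (tt N8180 D9086) (tt N8181 D9087) (tt N6703 (iv F7869)))
theorem Q5444 : ∀ i, i < 5444 → P i := stepQ 5443 Q5443 (allL N5443 (tt N8180 (iv F10610)) (tt N4981 (iv F5971)) (tt N5443 F5701) (tt N3016 (iv D6315)) (tt N4484 F5975))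
theorem Q5445 : ∀ i, i < 5445 → P i := stepQ 5444 Q5444 (allL N5444 (tt N3017 (iv D6316)) (tt N8182 D9088) (tt N5444 F5702) (tt N8183 D9089) (tt N8184 D9090))
theorem Q5446 : ∀ i, i < 5446 → P i := stepQ 5445 Q5445 (allL N5445 (tt N8184 (iv F10615)) (tt N8055 (iv F10380)) (tt N6395 F8099) (tt N8176 (iv F10602)) (tt N3017 (iv D6317)))
theorem Q5447 : ∀ i, i < 5447 → P i := stepQ 5446 Q5446 (allL N5446 (tt N8185 D9091) (tt N3019 (iv D6319)) (tt N8186 D9092) (tt N8187 D9093) (tt N4833 (iv F5795)))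
theorem Q5448 : ∀ i, i < 5448 → P i := stepQ 5447 Q5447 (allL N5447 (tt N8181 (iv F10612)) (tt N8187 (iv F10623)) (tt N5447 F5703) (tt N3019 (iv D6320)) (tt N8171 (iv F10592)))
theorem Q5449 : ∀ i, i < 5449 → P i := stepQ 5448 Q5448 (allL N5448 (tt N3020 F5704) (tt N4833 F5794) (tt N8188 D9094) (tt N8169 (iv F10587)) (tt N3019 (iv D6321)))
theorem Q5450 : ∀ i, i < 5450 → P i := stepQ 5449 Q5449 (allL N5449 (tt N8189 D9095) (tt N6506 (iv F8100)) (tt N3020 (iv D6322)) (tt N7307 (iv F8961)) (tt N6393 F8098))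
theorem Q5451 : ∀ i, i < 5451 → P i := stepQ 5450 Q5450 (allL N5450 (tt N3021 (iv D6323)) (tt N8185 (iv F10616)) (tt N3338 (iv F6525)) (tt N3337 F6524) (tt N8190 D9096))
theorem Q5452 : ∀ i, i < 5452 → P i := stepQ 5451 Q5451 (allL N5451 (tt N8191 D9097) (tt N8192 D9098) (tt N3021 (iv D6324)) (tt N8193 D9099) (tt N8194 D9100))
theorem Q5453 : ∀ i, i < 5453 → P i := stepQ 5452 Q5452 (allL N5452 (tt N8195 D9101) (tt N3023 F5705) (tt N8193 (iv F10642)) (tt N3021 (iv D6325)) (tt N6822 F8106))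
theorem Q5454 : ∀ i, i < 5454 → P i := stepQ 5453 Q5453 (allL N5453 (tt N8190 (iv F10632)) (tt N3024 F5706) (tt N4669 F6501) (tt N6891 (iv F8194)) (tt N3021 (iv D6326)))
theorem Q5455 : ∀ i, i < 5455 → P i := stepQ 5454 Q5454 (allL N5454 (tt N5454 F5707) (tt N5917 (iv F6526)) (tt N3025 (iv D6327)) (tt N6895 (iv F8205)) (tt N8196 D9102))
theorem Q5456 : ∀ i, i < 5456 → P i := stepQ 5455 Q5455 (allL N5455 (tt N3027 F5708) (tt N8058 (iv F10385)) (tt N8197 D9103) (tt N7059 (iv F8493)) (tt N3025 (iv D6328)))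
theorem Q5457 : ∀ i, i < 5457 → P i := stepQ 5456 Q5456 (allL N5456 (tt N5456 F5709) (tt N5796 (iv F6288)) (tt N3710 F5710) (tt N4270 F5711) (tt N3026 (iv D6329)))
theorem Q5458 : ∀ i, i < 5458 → P i := stepQ 5457 Q5457 (allL N5457 (tt N3028 (iv D6330)) (tt N7648 (iv F9592)) (tt N8198 D9104) (tt N8199 D9105) (tt N7645 F9589))
theorem Q5459 : ∀ i, i < 5459 → P i := stepQ 5458 Q5458 (allL N5458 (tt N8200 D9106) (tt N5832 (iv F6375)) (tt N3028 (iv D6331)) (tt N5831 F6373) (tt N8201 D9107))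
theorem Q5460 : ∀ i, i < 5460 → P i := stepQ 5459 Q5459 (allL N5459 (tt N7645 (iv F9588)) (tt N3029 F5712) (tt N4185 (iv F5714)) (tt N4278 F5713) (tt N3028 (iv D6332)))
theorem Q5461 : ∀ i, i < 5461 → P i := stepQ 5460 Q5460 (allL N5460 (tt N8202 D9108) (tt N3030 (iv D6333)) (tt N4172 F5715) (tt N4280 F5716) (tt N3051 F5717))
theorem Q5462 : ∀ i, i < 5462 → P i := stepQ 5461 Q5461 (allL N5461 (tt N4758 F5718) (tt N4587 (iv F5719)) (tt N3031 (iv D6334)) (tt N6281 (iv F7149)) (tt N4584 F5720))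
theorem Q5463 : ∀ i, i < 5463 → P i := stepQ 5462 Q5462 (allL N5462 (tt N4324 F5763) (tt N5462 F5762) (tt N6281 (iv F7151)) (tt N3031 (iv D6335)) (tt N8203 D9109))
theorem Q5464 : ∀ i, i < 5464 → P i := stepQ 5463 Q5463 (allL N5463 (tt N7441 (iv F9215)) (tt N5463 F5764) (tt N3041 F5782) (tt N8203 (iv F10657)) (tt N3032 (iv D6336)))
theorem Q5465 : ∀ i, i < 5465 → P i := stepQ 5464 Q5464 (allL N5464 (tt N6495 (iv F7501)) (tt N8204 D9110) (tt N3033 (iv D6337)) (tt N8205 D9111) (tt N8206 D9112))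
theorem Q5466 : ∀ i, i < 5466 → P i := stepQ 5465 Q5465 (allL N5465 (tt N6508 (iv F7521)) (tt N4812 F5765) (tt N8205 (iv F10659)) (tt N3033 (iv D6338)) (tt N5034 (iv F5786)))
theorem Q5467 : ∀ i, i < 5467 → P i := stepQ 5466 Q5466 (allL N5466 (tt N3034 (iv D6339)) (tt N7705 (iv F9697)) (tt N6494 (iv F7500)) (tt N7777 (iv F9865)) (tt N7704 F9696))
theorem Q5468 : ∀ i, i < 5468 → P i := stepQ 5467 Q5467 (allL N5467 (tt N7459 (iv F9246)) (tt N3034 (iv D6340)) (tt N3714 F5766) (tt N8207 D9113) (tt N4371 (iv F5767)))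
theorem Q5469 : ∀ i, i < 5469 → P i := stepQ 5468 Q5468 (allL N5468 (tt N8208 D9114) (tt N8207 (iv F10668)) (tt N3035 F5768) (tt N3034 (iv D6341)) (tt N8209 D9115))
theorem Q5470 : ∀ i, i < 5470 → P i := stepQ 5469 Q5469 (allL N5469 (tt N7704 (iv F9695)) (tt N4371 F5769) (tt N4584 F5770) (tt N3039 (iv F5771)) (tt N3034 (iv D6342)))
theorem Q5471 : ∀ i, i < 5471 → P i := stepQ 5470 Q5470 (allL N5470 (tt N6513 (iv F7530)) (tt N3047 F5772) (tt N8203 (iv F10658)) (tt N3041 F5773) (tt N3035 (iv D6343)))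
theorem Q5472 : ∀ i, i < 5472 → P i := stepQ 5471 Q5471 (allL N5471 (tt N6518 (iv F7539)) (tt N4964 (iv F6399)) (tt N4321 F5775) (tt N3036 (iv D6344)) (tt N4963 F6402))
theorem Q5473 : ∀ i, i < 5473 → P i := stepQ 5472 Q5472 (allL N5472 (tt N7465 (iv F9258)) (tt N3038 F5776) (tt N3715 F5777) (tt N3037 (iv D6345)) (tt N5593 F7042))
theorem Q5474 : ∀ i, i < 5474 → P i := stepQ 5473 Q5473 (allL N5473 (tt N3038 (iv D6346)) (tt N7701 (iv F9685)) (tt N6499 (iv F7508)) (tt N7438 (iv F9205)) (tt N7700 F9684))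
theorem Q5475 : ∀ i, i < 5475 → P i := stepQ 5474 Q5474 (allL N5474 (tt N7700 (iv F9682)) (tt N5593 (iv F7043)) (tt N6430 (iv F7409)) (tt N8209 (iv F10678)) (tt N3038 (iv D6347)))
theorem Q5476 : ∀ i, i < 5476 → P i := stepQ 5475 Q5475 (allL N5475 (tt N6497 (iv F7504)) (tt N8210 D9116) (tt N3040 (iv D6348)) (tt N4757 F5778) (tt N8211 D9117))
theorem Q5477 : ∀ i, i < 5477 → P i := stepQ 5476 Q5476 (allL N5476 (tt N3041 F5779) (tt N4815 F5780) (tt N4764 (iv F5781)) (tt N5034 F5785) (tt N3040 (iv D6349)))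
theorem Q5478 : ∀ i, i < 5478 → P i := stepQ 5477 Q5477 (allL N5477 (tt N8067 (iv F10405)) (tt N5477 F5796) (tt N3047 F5798) (tt N3043 F5797) (tt N3042 (iv D6350)))
theorem Q5479 : ∀ i, i < 5479 → P i := stepQ 5478 Q5478 (allL N5478 (tt N3044 (iv D6351)) (tt N6796 (iv F8035)) (tt N3688 F5799) (tt N6803 F8058) (tt N6795 F8033))
theorem Q5480 : ∀ i, i < 5480 → P i := stepQ 5479 Q5479 (allL N5479 (tt N8212 D9118) (tt N3045 F5800) (tt N3596 F5801) (tt N3044 (iv D6352)) (tt N7390 (iv F9118)))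
theorem Q5481 : ∀ i, i < 5481 → P i := stepQ 5480 Q5480 (allL N5480 (tt N8071 (iv F10416)) (tt N7390 F9120) (tt N3129 F5802) (tt N3050 F5803) (tt N3045 (iv D6353)))
theorem Q5482 : ∀ i, i < 5482 → P i := stepQ 5481 Q5481 (allL N5481 (tt N3591 F5806) (tt N3951 F5804) (tt N3566 F5805) (tt N3048 (iv D6354)) (tt N3949 (iv F5807)))
theorem Q5483 : ∀ i, i < 5483 → P i := stepQ 5482 Q5482 (allL N5482 (tt N3049 (iv D6355)) (tt N6805 (iv F8060)) (tt N3692 F5808) (tt N6881 (iv F8171)) (tt N6802 F8055))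
theorem Q5484 : ∀ i, i < 5484 → P i := stepQ 5483 Q5483 (allL N5483 (tt N6802 (iv F8054)) (tt N3050 F5809) (tt N3743 (iv F7112)) (tt N7390 (iv F9117)) (tt N3049 (iv D6356)))
theorem Q5485 : ∀ i, i < 5485 → P i := stepQ 5484 Q5484 (allL N5484 (tt N3051 (iv D6357)) (tt N4814 F5810) (tt N8213 D9119) (tt N8145 (iv F10545)) (tt N8202 (iv F10654)))
theorem Q5486 : ∀ i, i < 5486 → P i := stepQ 5485 Q5485 (allL N5485 (tt N8214 D9120) (tt N8215 D9121) (tt N3051 (iv D6358)) (tt N4161 F5811) (tt N8216 D9122))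
theorem Q5487 : ∀ i, i < 5487 → P i := stepQ 5486 Q5486 (allL N5486 (tt N3052 (iv D6359)) (tt N3466 (iv F5813)) (tt N7094 (iv F8561)) (tt N3464 F5812) (tt N8217 D9123))
theorem Q5488 : ∀ i, i < 5488 → P i := stepQ 5487 Q5487 (allL N5487 (tt N8217 (iv F10693)) (tt N5933 (iv F6558)) (tt N8218 D9124) (tt N3084 F5814) (tt N3052 (iv D6360)))
theorem Q5489 : ∀ i, i < 5489 → P i := stepQ 5488 Q5488 (allL N5488 (tt N8219 D9125) (tt N7504 (iv F9326)) (tt N3053 (iv D6361)) (tt N8220 D9126) (tt N7502 F9323))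
theorem Q5490 : ∀ i, i < 5490 → P i := stepQ 5489 Q5489 (allL N5489 (tt N8221 D9127) (tt N5935 (iv F6562)) (tt N8220 (iv F10698)) (tt N3053 (iv D6362)) (tt N8222 D9128))
theorem Q5491 : ∀ i, i < 5491 → P i := stepQ 5490 Q5490 (allL N5490 (tt N3056 F5815) (tt N3380 F5816) (tt N8014 (iv F10297)) (tt N7126 (iv F8618)) (tt N3054 (iv D6363)))
theorem Q5492 : ∀ i, i < 5492 → P i := stepQ 5491 Q5491 (allL N5491 (tt N3055 (iv D6364)) (tt N4329 F5817) (tt N6578 (iv F7632)) (tt N5988 (iv F6660)) (tt N8223 D9129))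
theorem Q5493 : ∀ i, i < 5493 → P i := stepQ 5492 Q5492 (allL N5492 (tt N8223 (iv F10703)) (tt N4322 F5818) (tt N6429 F7406) (tt N6428 (iv F7407)) (tt N3055 (iv D6365)))
theorem Q5494 : ∀ i, i < 5494 → P i := stepQ 5493 Q5493 (allL N5493 (tt N8224 D9130) (tt N4327 F5819) (tt N6282 (iv F7159)) (tt N3056 (iv D6366)) (tt N8225 D9131))
theorem Q5495 : ∀ i, i < 5495 → P i := stepQ 5494 Q5494 (allL N5494 (tt N8226 D9132) (tt N7169 (iv F8712)) (tt N3057 (iv D6367)) (tt N3085 F5820) (tt N7168 (iv F8713)))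
theorem Q5496 : ∀ i, i < 5496 → P i := stepQ 5495 Q5495 (allL N5495 (tt N3058 (iv D6368)) (tt N8227 D9133) (tt N5220 F5821) (tt N8228 D9134) (tt N8229 D9135))
theorem Q5497 : ∀ i, i < 5497 → P i := stepQ 5496 Q5496 (allL N5496 (tt N4642 F5822) (tt N3058 (iv D6369)) (tt N6151 (iv F6879)) (tt N7184 (iv F8747)) (tt N4639 (iv F5823)))
theorem Q5498 : ∀ i, i < 5498 → P i := stepQ 5497 Q5497 (allL N5497 (tt N8230 D9136) (tt N7184 (iv F8746)) (tt N3059 F5824) (tt N3058 (iv D6370)) (tt N7183 F8744))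
theorem Q5499 : ∀ i, i < 5499 → P i := stepQ 5498 Q5498 (allL N5498 (tt N8229 (iv F10712)) (tt N4639 F5825) (tt N4571 F5826) (tt N7168 (iv F8709)) (tt N3058 (iv D6371)))
theorem Q5500 : ∀ i, i < 5500 → P i := stepQ 5499 Q5499 (allL N5499 (tt N3059 (iv D6372)) (tt N6697 (iv F7862)) (tt N8231 D9137) (tt N6582 (iv F7637)) (tt N6651 (iv F9876)))
theorem Q5501 : ∀ i, i < 5501 → P i := stepQ 5500 Q5500 (allL N5500 (tt N6651 F9875) (tt N3069 F5827) (tt N8225 (iv F10707)) (tt N3086 F5828) (tt N3059 (iv D6373)))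
theorem Q5502 : ∀ i, i < 5502 → P i := stepQ 5501 Q5501 (allL N5501 (tt N3465 F5830) (tt N5621 (iv F6003)) (tt N3442 F5829) (tt N3060 (iv D6374)) (tt N8232 D9138))
theorem Q5503 : ∀ i, i < 5503 → P i := stepQ 5502 Q5502 (allL N5502 (tt N3062 F5832) (tt N5622 (iv F6006)) (tt N3454 F5833) (tt N8233 D9139) (tt N3060 (iv D6375)))
theorem Q5504 : ∀ i, i < 5504 → P i := stepQ 5503 Q5503 (allL N5503 (tt N3061 (iv D6376)) (tt N5064 F5834) (tt N3446 F5835) (tt N5063 F5836) (tt N8234 D9140))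
theorem Q5505 : ∀ i, i < 5505 → P i := stepQ 5504 Q5504 (allL N5504 (tt N8234 (iv F10722)) (tt N3063 F5837) (tt N5307 F5839) (tt N3147 (iv F5838)) (tt N3061 (iv D6377)))
theorem Q5506 : ∀ i, i < 5506 → P i := stepQ 5505 Q5505 (allL N5505 (tt N8235 D9141) (tt N3064 F5840) (tt N3485 F5841) (tt N3062 (iv D6378)) (tt N8236 D9142))
theorem Q5507 : ∀ i, i < 5507 → P i := stepQ 5506 Q5506 (allL N5506 (tt N6884 (iv F8181)) (tt N8236 (iv F10729)) (tt N3069 F5843) (tt N3089 F5842) (tt N3064 (iv D6379)))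
theorem Q5508 : ∀ i, i < 5508 → P i := stepQ 5507 Q5507 (allL N5507 (tt N8237 D9143) (tt N3065 (iv D6380)) (tt N6154 F6885) (tt N3087 F5844) (tt N8238 D9144))
theorem Q5509 : ∀ i, i < 5509 → P i := stepQ 5508 Q5508 (allL N5508 (tt N6979 (iv F8352)) (tt N8238 (iv F10732)) (tt N3122 F5845) (tt N3068 F5846) (tt N3065 (iv D6381)))
theorem Q5510 : ∀ i, i < 5510 → P i := stepQ 5509 Q5509 (allL N5509 (tt N3066 (iv D6382)) (tt N8239 D9145) (tt N6135 (iv F6860)) (tt N8240 D9146) (tt N8241 D9147))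
theorem Q5511 : ∀ i, i < 5511 → P i := stepQ 5510 Q5510 (allL N5510 (tt N8242 D9148) (tt N3067 F5847) (tt N6155 (iv F6886)) (tt N3066 (iv D6383)) (tt N8243 D9149))
theorem Q5512 : ∀ i, i < 5512 → P i := stepQ 5511 Q5511 (allL N5511 (tt N8241 (iv F10737)) (tt N3068 F5848) (tt N5986 F6658) (tt N8238 F10733) (tt N3066 (iv D6384)))
theorem Q5513 : ∀ i, i < 5513 → P i := stepQ 5512 Q5512 (allL N5512 (tt N7052 (iv F8477)) (tt N8243 (iv F10739)) (tt N3121 F5849) (tt N3088 F5850) (tt N3067 (iv D6385)))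
theorem Q5514 : ∀ i, i < 5514 → P i := stepQ 5513 Q5513 (allL N5513 (tt N3070 (iv D6386)) (tt N5627 (iv F6017)) (tt N7432 (iv F9197)) (tt N8244 D9150) (tt N5626 F6015))
theorem Q5515 : ∀ i, i < 5515 → P i := stepQ 5514 Q5514 (allL N5514 (tt N8245 D9151) (tt N8246 D9152) (tt N3070 (iv D6387)) (tt N8247 D9153) (tt N8248 D9154))
theorem Q5516 : ∀ i, i < 5516 → P i := stepQ 5515 Q5515 (allL N5515 (tt N8249 D9155) (tt N3071 F5851) (tt N8247 (iv F10747)) (tt N3070 (iv D6388)) (tt N8250 D9156))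
theorem Q5517 : ∀ i, i < 5517 → P i := stepQ 5516 Q5516 (allL N5516 (tt N5626 (iv F6014)) (tt N3072 F5852) (tt N8251 D9157) (tt N8252 D9158) (tt N3070 (iv D6389)))
theorem Q5518 : ∀ i, i < 5518 → P i := stepQ 5517 Q5517 (allL N5517 (tt N8111 (iv F10494)) (tt N8250 (iv F10755)) (tt N3116 F5853) (tt N3083 F5854) (tt N3071 (iv D6390)))
theorem Q5519 : ∀ i, i < 5519 → P i := stepQ 5518 Q5518 (allL N5518 (tt N8112 (iv F10499)) (tt N8252 (iv F10758)) (tt N3110 F5855) (tt N3072 (iv D6391)) (tt N3082 F5856))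
theorem Q5520 : ∀ i, i < 5520 → P i := stepQ 5519 Q5519 (allL N5519 (tt N5225 F5857) (tt N5712 (iv F6152)) (tt N3073 (iv D6392)) (tt N8253 D9159) (tt N5710 F6149))
theorem Q5521 : ∀ i, i < 5521 → P i := stepQ 5520 Q5520 (allL N5520 (tt N6079 (iv F6793)) (tt N5663 (iv F6075)) (tt N8253 (iv F10761)) (tt N3073 (iv D6393)) (tt N5661 (iv F6064)))
theorem Q5522 : ∀ i, i < 5522 → P i := stepQ 5521 Q5521 (allL N5521 (tt N3074 (iv D6394)) (tt N5767 (iv F6236)) (tt N6004 (iv F6693)) (tt N8254 D9160) (tt N6082 (iv F6803)))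
theorem Q5523 : ∀ i, i < 5523 → P i := stepQ 5522 Q5522 (allL N5522 (tt N7526 (iv F9350)) (tt N7349 (iv F9034)) (tt N3075 F5858) (tt N3074 (iv D6395)) (tt N7526 (iv F9349)))
theorem Q5524 : ∀ i, i < 5524 → P i := stepQ 5523 Q5523 (allL N5523 (tt N3075 (iv D6396)) (tt N5151 F5861) (tt N8255 D9161) (tt N5153 F5860) (tt N5150 F5859))
theorem Q5525 : ∀ i, i < 5525 → P i := stepQ 5524 Q5524 (allL N5524 (tt N5710 (iv F6148)) (tt N5227 F5862) (tt N3078 F5863) (tt N3077 (iv D6397)) (tt N5225 (iv F5864)))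
theorem Q5526 : ∀ i, i < 5526 → P i := stepQ 5525 Q5525 (allL N5525 (tt N3079 (iv D6398)) (tt N5886 (iv F6455)) (tt N6472 (iv F7469)) (tt N8256 D9162) (tt N7530 (iv F9354)))
theorem Q5527 : ∀ i, i < 5527 → P i := stepQ 5526 Q5526 (allL N5526 (tt N5229 F5866) (tt N6452 (iv F7435)) (tt N3080 (iv D6399)) (tt N8257 D9163) (tt N7529 (iv F9353)))
theorem Q5528 : ∀ i, i < 5528 → P i := stepQ 5527 Q5527 (allL N5527 (tt N6083 (iv F6804)) (tt N5667 (iv F6085)) (tt N8257 (iv F10766)) (tt N3080 (iv D6400)) (tt N5665 (iv F6084)))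
theorem Q5529 : ∀ i, i < 5529 → P i := stepQ 5528 Q5528 (allL N5528 (tt N3081 (iv D6401)) (tt N5896 (iv F6466)) (tt N7552 (iv F9379)) (tt N8258 D9164) (tt N8259 D9165))
theorem Q5530 : ∀ i, i < 5530 → P i := stepQ 5529 Q5529 (allL N5529 (tt N8260 D9166) (tt N8261 D9167) (tt N3081 (iv D6402)) (tt N8262 D9168) (tt N8263 D9169))
theorem Q5531 : ∀ i, i < 5531 → P i := stepQ 5530 Q5530 (allL N5530 (tt N8264 D9170) (tt N3082 F5867) (tt N8262 (iv F10777)) (tt N3081 (iv D6403)) (tt N8252 (iv F10759)))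
theorem Q5532 : ∀ i, i < 5532 → P i := stepQ 5531 Q5531 (allL N5531 (tt N8259 (iv F10769)) (tt N3083 F5868) (tt N8265 D9171) (tt N8250 F10756) (tt N3081 (iv D6404)))
theorem Q5533 : ∀ i, i < 5533 → P i := stepQ 5532 Q5532 (allL N5532 (tt N8266 D9172) (tt N7535 (iv F9362)) (tt N3084 (iv D6405)) (tt N8218 (iv F10696)) (tt N7533 F9359))
theorem Q5534 : ∀ i, i < 5534 → P i := stepQ 5533 Q5533 (allL N5533 (tt N3086 F5869) (tt N6455 F7442) (tt N5025 (iv F7444)) (tt N8222 (iv F10701)) (tt N3084 (iv D6406)))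
theorem Q5535 : ∀ i, i < 5535 → P i := stepQ 5534 Q5534 (allL N5534 (tt N3085 (iv D6407)) (tt N8267 D9173) (tt N5232 F5870) (tt N8268 D9174) (tt N8269 D9175))
theorem Q5536 : ∀ i, i < 5536 → P i := stepQ 5535 Q5535 (allL N5535 (tt N4718 F5871) (tt N3085 (iv D6408)) (tt N6471 F7468) (tt N7169 F8714) (tt N4716 (iv F5872)))
theorem Q5537 : ∀ i, i < 5537 → P i := stepQ 5536 Q5536 (allL N5536 (tt N8269 (iv F10790)) (tt N4716 F5873) (tt N4591 F5874) (tt N7183 (iv F8743)) (tt N3085 (iv D6409)))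
theorem Q5538 : ∀ i, i < 5538 → P i := stepQ 5537 Q5537 (allL N5537 (tt N8270 D9176) (tt N7559 (iv F9397)) (tt N3086 (iv D6410)) (tt N8225 (iv F10708)) (tt N6428 (iv F7403)))
theorem Q5539 : ∀ i, i < 5539 → P i := stepQ 5538 Q5538 (allL N5538 (tt N3087 (iv D6411)) (tt N8271 D9177) (tt N6462 (iv F7459)) (tt N8272 D9178) (tt N8273 D9179))
theorem Q5540 : ∀ i, i < 5540 → P i := stepQ 5539 Q5539 (allL N5539 (tt N8273 (iv F10796)) (tt N3088 F5875) (tt N6476 (iv F7475)) (tt N8243 (iv F10740)) (tt N3087 (iv D6413)))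
theorem Q5541 : ∀ i, i < 5541 → P i := stepQ 5540 Q5540 (allL N5540 (tt N8274 D9180) (tt N3089 (iv D6414)) (tt N3800 F5877) (tt N8236 (iv F10730)) (tt N3147 F5876))
theorem Q5542 : ∀ i, i < 5542 → P i := stepQ 5541 Q5541 (allL N5541 (tt N3095 F5878) (tt N3848 F5879) (tt N6171 (iv F6901)) (tt N6417 (iv F7382)) (tt N3090 (iv D6415)))
theorem Q5543 : ∀ i, i < 5543 → P i := stepQ 5542 Q5542 (allL N5542 (tt N3096 F5881) (tt N3871 F5880) (tt N6172 (iv F6904)) (tt N3091 (iv D6416)) (tt N8275 D9181))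
theorem Q5544 : ∀ i, i < 5544 → P i := stepQ 5543 Q5543 (allL N5543 (tt N3097 F5883) (tt N6603 (iv F7666)) (tt N3092 (iv D6417)) (tt N3148 F5882) (tt N6170 (iv F6898)))
theorem Q5545 : ∀ i, i < 5545 → P i := stepQ 5544 Q5544 (allL N5544 (tt N3099 F5885) (tt N6631 (iv F7722)) (tt N3094 F5884) (tt N3093 (iv D6418)) (tt N6416 (iv F7380)))
theorem Q5546 : ∀ i, i < 5546 → P i := stepQ 5545 Q5545 (allL N5545 (tt N6030 (iv F6733)) (tt N3169 F5886) (tt N8275 (iv F10801)) (tt N3149 F5887) (tt N3094 (iv D6419)))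
theorem Q5547 : ∀ i, i < 5547 → P i := stepQ 5546 Q5546 (allL N5546 (tt N8275 (iv F10799)) (tt N3847 F5888) (tt N3100 F5889) (tt N3151 F5890) (tt N3096 (iv D6420)))
theorem Q5548 : ∀ i, i < 5548 → P i := stepQ 5547 Q5547 (allL N5547 (tt N5739 (iv F6203)) (tt N3113 F5891) (tt N3098 (iv D6421)) (tt N6630 (iv F7720)) (tt N7463 (iv F9254)))
theorem Q5549 : ∀ i, i < 5549 → P i := stepQ 5548 Q5548 (allL N5548 (tt N6137 (iv F6863)) (tt N4850 (iv F5893)) (tt N3101 (iv D6422)) (tt N6418 F7385) (tt N4848 F5892))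
theorem Q5550 : ∀ i, i < 5550 → P i := stepQ 5549 Q5549 (allL N5549 (tt N8276 D9182) (tt N7616 (iv F9539)) (tt N6418 (iv F7386)) (tt N3101 (iv D6423)) (tt N7794 (iv F9906)))
theorem Q5551 : ∀ i, i < 5551 → P i := stepQ 5550 Q5550 (allL N5550 (tt N3102 (iv D6424)) (tt N4155 F5894) (tt N4154 F5895) (tt N4154 F5896) (tt N8277 D9183))
theorem Q5552 : ∀ i, i < 5552 → P i := stepQ 5551 Q5551 (allL N5551 (tt N8277 (iv F10811)) (tt N3835 F5897) (tt N6231 (iv F7026)) (tt N6422 (iv F7395)) (tt N3102 (iv D6425)))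
theorem Q5553 : ∀ i, i < 5553 → P i := stepQ 5552 Q5552 (allL N5552 (tt N8278 D9184) (tt N7129 (iv F8627)) (tt N6232 (iv F7029)) (tt N3103 (iv D6426)) (tt N8279 D9185))
theorem Q5554 : ∀ i, i < 5554 → P i := stepQ 5553 Q5553 (allL N5553 (tt N3105 F5898) (tt N4032 F5899) (tt N6987 (iv F8375)) (tt N8280 D9186) (tt N3104 (iv D6427)))
theorem Q5555 : ∀ i, i < 5555 → P i := stepQ 5554 Q5554 (allL N5554 (tt N8281 D9187) (tt N6612 (iv F7678)) (tt N3105 (iv D6428)) (tt N6420 (iv F7390)) (tt N6229 F7021))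
theorem Q5556 : ∀ i, i < 5556 → P i := stepQ 5555 Q5555 (allL N5555 (tt N7466 (iv F9262)) (tt N3106 (iv D6429)) (tt N8246 (iv F10743)) (tt N6629 F7718) (tt N4782 F5900))
theorem Q5557 : ∀ i, i < 5557 → P i := stepQ 5556 Q5556 (allL N5556 (tt N8282 D9188) (tt N6629 (iv F7717)) (tt N3107 F5901) (tt N3106 (iv D6430)) (tt N6419 (iv F7389)))
theorem Q5558 : ∀ i, i < 5558 → P i := stepQ 5557 Q5557 (allL N5557 (tt N3107 (iv D6431)) (tt N4033 (iv F5903)) (tt N7042 (iv F8457)) (tt N4031 F5902) (tt N8283 D9189))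
theorem Q5559 : ∀ i, i < 5559 → P i := stepQ 5558 Q5558 (allL N5558 (tt N8283 (iv F10823)) (tt N3108 F5904) (tt N8279 (iv F10816)) (tt N3155 F5905) (tt N3107 (iv D6432)))
theorem Q5560 : ∀ i, i < 5560 → P i := stepQ 5559 Q5559 (allL N5559 (tt N3109 (iv D6433)) (tt N6753 (iv F7952)) (tt N6757 F7966) (tt N6757 (iv F7964)) (tt N6752 F7951))
theorem Q5561 : ∀ i, i < 5561 → P i := stepQ 5560 Q5560 (allL N5560 (tt N8284 D9190) (tt N6613 (iv F7679)) (tt N3109 (iv D6434)) (tt N3153 F5906) (tt N8285 D9191))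
theorem Q5562 : ∀ i, i < 5562 → P i := stepQ 5561 Q5561 (allL N5561 (tt N6752 (iv F7950)) (tt N3110 F5907) (tt N8286 D9192) (tt N3115 (iv F5908)) (tt N3109 (iv D6435)))
theorem Q5563 : ∀ i, i < 5563 → P i := stepQ 5562 Q5562 (allL N5562 (tt N5263 F5909) (tt N5779 (iv F6255)) (tt N3111 (iv D6436)) (tt N8177 (iv F10604)) (tt N8179 (iv F10609)))
theorem Q5564 : ∀ i, i < 5564 → P i := stepQ 5563 Q5563 (allL N5563 (tt N5255 F5910) (tt N3112 (iv D6437)) (tt N8287 D9193) (tt N4804 F5915) (tt N4800 F5918))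
theorem Q5565 : ∀ i, i < 5565 → P i := stepQ 5564 Q5564 (allL N5564 (tt N3455 F5911) (tt N4804 (iv F5914)) (tt N3112 (iv D6438)) (tt N3112 (iv F5912)) (tt N4802 F5913))
theorem Q5566 : ∀ i, i < 5566 → P i := stepQ 5565 Q5565 (allL N5565 (tt N3115 F5916) (tt N4800 F5917) (tt N7671 (iv F9630)) (tt N8288 D9194) (tt N3112 (iv D6439)))
theorem Q5567 : ∀ i, i < 5567 → P i := stepQ 5566 Q5566 (allL N5566 (tt N3113 (iv D6440)) (tt N5686 F6113) (tt N7714 (iv F9722)) (tt N7714 (iv F9725)) (tt N4561 F5919))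
theorem Q5568 : ∀ i, i < 5568 → P i := stepQ 5567 Q5567 (allL N5567 (tt N8289 D9195) (tt N6630 (iv F7719)) (tt N3114 F5920) (tt N3113 (iv D6441)) (tt N8290 D9196))
theorem Q5569 : ∀ i, i < 5569 → P i := stepQ 5568 Q5568 (allL N5568 (tt N4561 F5921) (tt N7463 (iv F9253)) (tt N6250 (iv F7064)) (tt N8285 (iv F10828)) (tt N3113 (iv D6442)))
theorem Q5570 : ∀ i, i < 5570 → P i := stepQ 5569 Q5569 (allL N5569 (tt N3114 (iv D6443)) (tt N6758 (iv F7967)) (tt N6779 (iv F7994)) (tt N6779 (iv F7991)) (tt N6756 F7961))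
theorem Q5571 : ∀ i, i < 5571 → P i := stepQ 5570 Q5570 (allL N5570 (tt N6756 (iv F7959)) (tt N3116 F5922) (tt N8291 D9197) (tt N3154 F5923) (tt N3114 (iv D6444)))
theorem Q5572 : ∀ i, i < 5572 → P i := stepQ 5571 Q5571 (allL N5571 (tt N4557 F5924) (tt N7586 (iv F9461)) (tt N3115 (iv D6445)) (tt N8286 (iv F10829)) (tt N6248 (iv F7061)))
theorem Q5573 : ∀ i, i < 5573 → P i := stepQ 5572 Q5572 (allL N5572 (tt N3123 F5925) (tt N3117 (iv D6446)) (tt N5752 (iv F6225)) (tt N8292 D9198) (tt N3353 (iv F5926)))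
theorem Q5574 : ∀ i, i < 5574 → P i := stepQ 5573 Q5573 (allL N5573 (tt N8293 D9199) (tt N8292 (iv F10844)) (tt N7576 F9441) (tt N3117 (iv D6447)) (tt N8294 D9200))
theorem Q5575 : ∀ i, i < 5575 → P i := stepQ 5574 Q5574 (allL N5574 (tt N3120 F5927) (tt N3353 F5928) (tt N8295 D9201) (tt N8296 D9202) (tt N3117 (iv D6448)))
theorem Q5576 : ∀ i, i < 5576 → P i := stepQ 5575 Q5575 (allL N5575 (tt N3118 (iv D6449)) (tt N6019 (iv F6715)) (tt N5262 F5929) (tt N8297 D9203) (tt N6017 F6712))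
theorem Q5577 : ∀ i, i < 5577 → P i := stepQ 5576 Q5576 (allL N5576 (tt N4877 F5932) (tt N3118 (iv D6450)) (tt N3484 F5930) (tt N7739 (iv F9776)) (tt N4875 F5931))
theorem Q5578 : ∀ i, i < 5578 → P i := stepQ 5577 Q5577 (allL N5577 (tt N8298 D9204) (tt N7739 (iv F9774)) (tt N3119 F5933) (tt N3118 (iv D6451)) (tt N6409 (iv F7367)))
theorem Q5579 : ∀ i, i < 5579 → P i := stepQ 5578 Q5578 (allL N5578 (tt N3119 (iv D6452)) (tt N8299 D9205) (tt N3945 F7368) (tt N8300 D9206) (tt N8301 D9207))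
theorem Q5580 : ∀ i, i < 5580 → P i := stepQ 5579 Q5579 (allL N5579 (tt N8301 (iv F10863)) (tt N3121 F5934) (tt N8302 D9208) (tt N3146 (iv F5935)) (tt N3119 (iv D6453)))
theorem Q5581 : ∀ i, i < 5581 → P i := stepQ 5580 Q5580 (allL N5580 (tt N5975 (iv F7081)) (tt N7703 (iv F9691)) (tt N3120 (iv D6454)) (tt N8303 D9209) (tt N6258 (iv F7080)))
theorem Q5582 : ∀ i, i < 5582 → P i := stepQ 5581 Q5581 (allL N5581 (tt N8304 D9210) (tt N3122 F5936) (tt N8303 (iv F10869)) (tt N3120 (iv D6455)) (tt N3145 F5937))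
theorem Q5583 : ∀ i, i < 5583 → P i := stepQ 5582 Q5582 (allL N5582 (tt N7986 (iv F10234)) (tt N3199 F5938) (tt N3123 (iv D6456)) (tt N5181 F5939) (tt N4514 F5940))
theorem Q5584 : ∀ i, i < 5584 → P i := stepQ 5583 Q5583 (allL N5583 (tt N5637 F6265) (tt N3125 (iv D6457)) (tt N7913 (iv F10113)) (tt N7913 (iv F10114)) (tt N7711 (iv F9715)))
theorem Q5585 : ∀ i, i < 5585 → P i := stepQ 5584 Q5584 (allL N5584 (tt N3243 F5941) (tt N7913 (iv F10112)) (tt N5686 (iv F6111)) (tt N3125 (iv D6458)) (tt N7710 (iv F9713)))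
theorem Q5586 : ∀ i, i < 5586 → P i := stepQ 5585 Q5585 (allL N5585 (tt N3126 (iv D6459)) (tt N8305 D9211) (tt N7719 (iv F9742)) (tt N7760 (iv F9826)) (tt N7717 (iv F9735)))
theorem Q5587 : ∀ i, i < 5587 → P i := stepQ 5586 Q5586 (allL N5586 (tt N4047 (iv F5943)) (tt N3127 (iv D6460)) (tt N7924 (iv F10138)) (tt N4048 F5942) (tt N4046 F5944))
theorem Q5588 : ∀ i, i < 5588 → P i := stepQ 5587 Q5587 (allL N5587 (tt N3128 (iv D6461)) (tt N4047 F5946) (tt N3917 F5948) (tt N3931 (iv F5950)) (tt N4045 (iv F5952)))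
theorem Q5589 : ∀ i, i < 5589 → P i := stepQ 5588 Q5588 (allL N5588 (tt N7724 (iv F9755)) (tt N5588 F5953) (tt N3128 (iv D6462)) (tt N6402 (iv F7350)) (tt N6265 (iv F7095)))
theorem Q5590 : ∀ i, i < 5590 → P i := stepQ 5589 Q5589 (allL N5589 (tt N4045 F5954) (tt N3129 F5955) (tt N7172 (iv F8720)) (tt N3133 F5956) (tt N3128 (iv D6463)))
theorem Q5591 : ∀ i, i < 5591 → P i := stepQ 5590 Q5590 (allL N5590 (tt N3130 (iv D6464)) (tt N5307 F5959) (tt N7740 (iv F9777)) (tt N5306 F5957) (tt N4043 F5958))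
theorem Q5592 : ∀ i, i < 5592 → P i := stepQ 5591 Q5591 (allL N5591 (tt N3131 (iv D6465)) (tt N4879 (iv F6294)) (tt N8054 (iv F10375)) (tt N5013 F5960) (tt N4876 F6296))
theorem Q5593 : ∀ i, i < 5593 → P i := stepQ 5592 Q5592 (allL N5592 (tt N4876 (iv F6297)) (tt N5592 F5962) (tt N6266 (iv F7100)) (tt N6265 F7097) (tt N3131 (iv D6466)))
theorem Q5594 : ∀ i, i < 5594 → P i := stepQ 5593 Q5593 (allL N5593 (tt N4641 (iv F6123)) (tt N5474 F7043) (tt N3133 (iv D6467)) (tt N7172 (iv F8719)) (tt N5472 (iv F7042)))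
theorem Q5595 : ∀ i, i < 5595 → P i := stepQ 5594 Q5594 (allL N5594 (tt N3135 (iv D6468)) (tt N8306 D9212) (tt N8307 D9213) (tt N8308 D9214) (tt N3989 F5967))
theorem Q5596 : ∀ i, i < 5596 → P i := stepQ 5595 Q5595 (allL N5595 (tt N3989 (iv F5966)) (tt N3137 F5963) (tt N4003 F5964) (tt N4046 F5965) (tt N3135 (iv D6469)))
theorem Q5597 : ∀ i, i < 5597 → P i := stepQ 5596 Q5596 (allL N5596 (tt N3139 F5970) (tt N3318 F5968) (tt N3136 (iv D6470)) (tt N3317 F5969) (tt N7758 (iv F9815)))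
theorem Q5598 : ∀ i, i < 5598 → P i := stepQ 5597 Q5597 (allL N5597 (tt N8309 D9215) (tt N3139 F5976) (tt N5597 F5977) (tt N3138 (iv D6471)) (tt N7287 (iv F8928)))
theorem Q5599 : ∀ i, i < 5599 → P i := stepQ 5598 Q5598 (allL N5598 (tt N5894 F6463) (tt N3140 (iv D6472)) (tt N7939 (iv F10163)) (tt N7939 (iv F10164)) (tt N7763 (iv F9834)))
theorem Q5600 : ∀ i, i < 5600 → P i := stepQ 5599 Q5599 (allL N5599 (tt N3317 F5978) (tt N7939 (iv F10162)) (tt N5906 (iv F6485)) (tt N3140 (iv D6473)) (tt N7712 (iv F9719)))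
theorem Q5601 : ∀ i, i < 5601 → P i := stepQ 5600 Q5600 (allL N5600 (tt N3141 (iv D6474)) (tt N3143 F5979) (tt N5875 (iv F6449)) (tt N8310 D9216) (tt N7625 (iv F9559)))
theorem Q5602 : ∀ i, i < 5602 → P i := stepQ 5601 Q5601 (allL N5601 (tt N8037 (iv F10339)) (tt N3330 F5980) (tt N3141 (iv D6475)) (tt N5194 (iv F5982)) (tt N4540 F5981))
theorem Q5603 : ∀ i, i < 5603 → P i := stepQ 5602 Q5602 (allL N5602 (tt N5865 (iv F6426)) (tt N3142 F5983) (tt N5194 F5984) (tt N3141 (iv D6476)) (tt N6668 (iv F7795)))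
theorem Q5604 : ∀ i, i < 5604 → P i := stepQ 5603 Q5603 (allL N5603 (tt N8311 D9217) (tt N8310 (iv F10886)) (tt N7581 F9452) (tt N3143 (iv D6477)) (tt N8296 (iv F10852)))
theorem Q5605 : ∀ i, i < 5605 → P i := stepQ 5604 Q5604 (allL N5604 (tt N3146 F5985) (tt N7625 (iv F9561)) (tt N8312 D9218) (tt N8294 (iv F10849)) (tt N3143 (iv D6478)))
theorem Q5606 : ∀ i, i < 5606 → P i := stepQ 5605 Q5605 (allL N5605 (tt N3144 (iv D6479)) (tt N6456 (iv F7446)) (tt N5290 F5986) (tt N8313 D9219) (tt N6408 (iv F7363)))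
theorem Q5607 : ∀ i, i < 5607 → P i := stepQ 5606 Q5606 (allL N5606 (tt N5013 F5989) (tt N3144 (iv D6480)) (tt N5306 F5987) (tt N7740 (iv F9778)) (tt N5010 F5988))
theorem Q5608 : ∀ i, i < 5608 → P i := stepQ 5607 Q5607 (allL N5607 (tt N8314 D9220) (tt N7740 (iv F9780)) (tt N3145 F5990) (tt N3144 (iv D6481)) (tt N6256 F7075))
theorem Q5609 : ∀ i, i < 5609 → P i := stepQ 5608 Q5608 (allL N5608 (tt N3145 (iv D6482)) (tt N8308 (iv F10883)) (tt N3903 F7076) (tt N8306 F10878) (tt N8304 (iv F10871)))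
theorem Q5610 : ∀ i, i < 5610 → P i := stepQ 5609 Q5609 (allL N5609 (tt N8315 D9221) (tt N7776 (iv F9863)) (tt N3146 (iv D6483)) (tt N8302 (iv F10866)) (tt N6410 (iv F7369)))
theorem Q5611 : ∀ i, i < 5611 → P i := stepQ 5610 Q5610 (allL N5610 (tt N3147 (iv D6484)) (tt N5891 (iv F6458)) (tt N5303 F5991) (tt N8232 (iv F10718)) (tt N8274 (iv F10798)))
theorem Q5612 : ∀ i, i < 5612 → P i := stepQ 5611 Q5611 (allL N5611 (tt N6477 (iv F7476)) (tt N4712 F6469) (tt N3149 (iv D6485)) (tt N8275 (iv F10802)) (tt N6417 (iv F7383)))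
theorem Q5613 : ∀ i, i < 5613 → P i := stepQ 5612 Q5612 (allL N5612 (tt N5919 (iv F6527)) (tt N3153 F5992) (tt N3150 (iv D6486)) (tt N6613 (iv F7680)) (tt N7557 (iv F9391)))
theorem Q5614 : ∀ i, i < 5614 → P i := stepQ 5613 Q5613 (allL N5613 (tt N5297 F5993) (tt N3152 (iv D6487)) (tt N8316 D9222) (tt N8317 D9223) (tt N4803 (iv F5999)))
theorem Q5615 : ∀ i, i < 5615 → P i := stepQ 5614 Q5614 (allL N5614 (tt N5304 F5994) (tt N8317 (iv F10901)) (tt N3152 (iv D6488)) (tt N3152 (iv F5995)) (tt N8288 (iv F10838)))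
theorem Q5616 : ∀ i, i < 5616 → P i := stepQ 5615 Q5615 (allL N5615 (tt N3154 F5996) (tt N4803 F5998) (tt N7790 (iv F9896)) (tt N4802 (iv F5997)) (tt N3152 (iv D6489)))
theorem Q5617 : ∀ i, i < 5617 → P i := stepQ 5616 Q5616 (allL N5616 (tt N3153 (iv D6490)) (tt N5906 F6487) (tt N7768 (iv F9843)) (tt N7768 (iv F9844)) (tt N4603 F6000))
theorem Q5618 : ∀ i, i < 5618 → P i := stepQ 5617 Q5617 (allL N5617 (tt N4603 F6001) (tt N7557 (iv F9388)) (tt N6426 (iv F7402)) (tt N8290 (iv F10840)) (tt N3153 (iv D6491)))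
theorem Q5619 : ∀ i, i < 5619 → P i := stepQ 5618 Q5618 (allL N5618 (tt N4562 (iv F6769)) (tt N8318 D9224) (tt N3154 (iv D6492)) (tt N8291 (iv F10841)) (tt N6425 (iv F7400)))
theorem Q5620 : ∀ i, i < 5620 → P i := stepQ 5619 Q5619 (allL N5619 (tt N3155 (iv D6493)) (tt N7620 (iv F9546)) (tt N7794 (iv F9904)) (tt N7794 (iv F9905)) (tt N7614 F9537))
theorem Q5621 : ∀ i, i < 5621 → P i := stepQ 5620 Q5620 (allL N5620 (tt N7370 (iv F9067)) (tt N7785 (iv F9885)) (tt N3155 (iv D6494)) (tt N8279 (iv F10817)) (tt N6422 (iv F7396)))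
theorem Q5622 : ∀ i, i < 5622 → P i := stepQ 5621 Q5621 (allL N5621 (tt N3181 F6002) (tt N5501 F6003) (tt N3157 F6004) (tt N3156 (iv D6495)) (tt N8319 D9225))
theorem Q5623 : ∀ i, i < 5623 → P i := stepQ 5622 Q5622 (allL N5622 (tt N3171 F6005) (tt N5502 F6006) (tt N3164 F6007) (tt N8320 D9226) (tt N3156 (iv D6496)))
theorem Q5624 : ∀ i, i < 5624 → P i := stepQ 5623 Q5623 (allL N5623 (tt N3191 F6008) (tt N3347 F6009) (tt N8321 D9227) (tt N6785 (iv F8005)) (tt N3157 (iv D6497)))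
theorem Q5625 : ∀ i, i < 5625 → P i := stepQ 5624 Q5624 (allL N5624 (tt N3173 F6010) (tt N8241 (iv F10738)) (tt N3158 (iv D6498)) (tt N8322 D9228) (tt N8239 F10736))
theorem Q5626 : ∀ i, i < 5626 → P i := stepQ 5625 Q5625 (allL N5625 (tt N6675 (iv F7819)) (tt N3349 F6013) (tt N8322 (iv F10918)) (tt N3158 (iv D6499)) (tt N8323 D9229))
theorem Q5627 : ∀ i, i < 5627 → P i := stepQ 5626 Q5626 (allL N5626 (tt N5516 F6014) (tt N3160 (iv D6500)) (tt N7688 (iv F9653)) (tt N6875 (iv F8154)) (tt N5513 (iv F6015)))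
theorem Q5628 : ∀ i, i < 5628 → P i := stepQ 5627 Q5627 (allL N5627 (tt N3188 F6016) (tt N5513 F6017) (tt N3167 F6018) (tt N6784 (iv F8001)) (tt N3160 (iv D6501)))
theorem Q5629 : ∀ i, i < 5629 → P i := stepQ 5628 Q5628 (allL N5628 (tt N4013 F6019) (tt N3161 (iv D6502)) (tt N4153 F6020) (tt N8044 (iv F10351)) (tt N8324 D9230))
theorem Q5630 : ∀ i, i < 5630 → P i := stepQ 5629 Q5629 (allL N5629 (tt N3172 F6021) (tt N8324 (iv F10923)) (tt N6781 (iv F7996)) (tt N8325 D9231) (tt N3161 (iv D6503)))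
theorem Q5631 : ∀ i, i < 5631 → P i := stepQ 5630 Q5630 (allL N5630 (tt N3328 F6022) (tt N8326 D9232) (tt N3162 (iv D6504)) (tt N8057 (iv F10383)) (tt N8327 D9233))
theorem Q5632 : ∀ i, i < 5632 → P i := stepQ 5631 Q5631 (allL N5631 (tt N8328 D9234) (tt N3163 (iv D6505)) (tt N8329 D9235) (tt N3323 F6023) (tt N8330 D9236))
theorem Q5633 : ∀ i, i < 5633 → P i := stepQ 5632 Q5632 (allL N5632 (tt N6790 (iv F8019)) (tt N8330 (iv F10933)) (tt N6784 (iv F8000)) (tt N3167 F8002) (tt N3163 (iv D6506)))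
theorem Q5634 : ∀ i, i < 5634 → P i := stepQ 5633 Q5633 (allL N5633 (tt N3239 F6024) (tt N3164 (iv D6507)) (tt N8331 D9237) (tt N8332 D9238) (tt N8333 D9239))
theorem Q5635 : ∀ i, i < 5635 → P i := stepQ 5634 Q5634 (allL N5634 (tt N3205 F6025) (tt N8332 (iv F10936)) (tt N8320 (iv F10913)) (tt N3164 (iv D6508)) (tt N8334 D9240))
theorem Q5636 : ∀ i, i < 5636 → P i := stepQ 5635 Q5635 (allL N5635 (tt N3167 F6026) (tt N8333 (iv F10939)) (tt N8239 (iv F10735)) (tt N8335 D9241) (tt N3164 (iv D6509)))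
theorem Q5637 : ∀ i, i < 5637 → P i := stepQ 5636 Q5636 (allL N5636 (tt N3165 (iv D6510)) (tt N8287 (iv F10833)) (tt N5171 F6027) (tt N5171 F6028) (tt N8336 D9242))
theorem Q5638 : ∀ i, i < 5638 → P i := stepQ 5637 Q5637 (allL N5637 (tt N5583 (iv F6265)) (tt N5797 (iv F6289)) (tt N3165 (iv D6511)) (tt N8337 D9243) (tt N8338 D9244))
theorem Q5639 : ∀ i, i < 5639 → P i := stepQ 5638 Q5638 (allL N5638 (tt N8339 D9245) (tt N3166 F6029) (tt N8337 (iv F10949)) (tt N3165 (iv D6512)) (tt N8340 D9246))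
theorem Q5640 : ∀ i, i < 5640 → P i := stepQ 5639 Q5639 (allL N5639 (tt N8336 (iv F10946)) (tt N3167 F6030) (tt N7340 (iv F9185)) (tt N8330 F10934) (tt N3165 (iv D6513)))
theorem Q5641 : ∀ i, i < 5641 → P i := stepQ 5640 Q5640 (allL N5640 (tt N3166 (iv D6514)) (tt N8341 D9247) (tt N6788 (iv F8013)) (tt N6787 F8011) (tt N6882 (iv F8173)))
theorem Q5642 : ∀ i, i < 5642 → P i := stepQ 5641 Q5641 (allL N5641 (tt N6882 (iv F8174)) (tt N8340 (iv F10956)) (tt N6876 (iv F8155)) (tt N3324 F8003) (tt N3166 (iv D6515)))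
theorem Q5643 : ∀ i, i < 5643 → P i := stepQ 5642 Q5642 (allL N5642 (tt N3197 F6031) (tt N8342 D9248) (tt N3168 (iv D6517)) (tt N8046 (iv F10354)) (tt N8343 D9249))
theorem Q5644 : ∀ i, i < 5644 → P i := stepQ 5643 Q5643 (allL N5643 (tt N3169 F6032) (tt N7059 (iv F8492)) (tt N8344 D9250) (tt N8058 (iv F10386)) (tt N3168 (iv D6518)))
theorem Q5645 : ∀ i, i < 5645 → P i := stepQ 5644 Q5644 (allL N5644 (tt N6788 (iv F8014)) (tt N5140 F6034) (tt N3197 F6035) (tt N3171 (iv D6520)) (tt N6883 (iv F8176)))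
theorem Q5646 : ∀ i, i < 5646 → P i := stepQ 5645 Q5645 (allL N5645 (tt N3185 F6036) (tt N7140 (iv F8661)) (tt N6798 (iv F8036)) (tt N3172 (iv D6521)) (tt N3334 (iv F6069)))
theorem Q5647 : ∀ i, i < 5647 → P i := stepQ 5646 Q5646 (allL N5646 (tt N4224 F6037) (tt N3173 (iv D6522)) (tt N3650 (iv F6038)) (tt N6877 (iv F8157)) (tt N8068 (iv F10409)))
theorem Q5648 : ∀ i, i < 5648 → P i := stepQ 5647 Q5647 (allL N5647 (tt N8239 (iv F10734)) (tt N8068 (iv F10411)) (tt N3198 F6039) (tt N6799 F8043) (tt N3173 (iv D6523)))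
theorem Q5649 : ∀ i, i < 5649 → P i := stepQ 5648 Q5648 (allL N5648 (tt N3174 (iv D6524)) (tt N8345 D9251) (tt N6874 (iv F8153)) (tt N8045 (iv F10353)) (tt N8344 (iv F10963)))
theorem Q5650 : ∀ i, i < 5650 → P i := stepQ 5649 Q5649 (allL N5649 (tt N8344 (iv F10962)) (tt N7153 F8687) (tt N6883 (iv F8177)) (tt N3334 (iv F6074)) (tt N3174 (iv D6525)))
theorem Q5651 : ∀ i, i < 5651 → P i := stepQ 5650 Q5650 (allL N5650 (tt N4519 F6040) (tt N3556 (iv F6053)) (tt N3176 (iv D6526)) (tt N4473 F6041) (tt N3554 F6052))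
theorem Q5652 : ∀ i, i < 5652 → P i := stepQ 5651 Q5651 (allL N5651 (tt N4518 F6042) (tt N3185 F6043) (tt N4481 F6044) (tt N3177 (iv D6527)) (tt N3335 (iv F6070)))
theorem Q5653 : ∀ i, i < 5653 → P i := stepQ 5652 Q5652 (allL N5652 (tt N4671 F6046) (tt N3178 (iv D6528)) (tt N8346 D9252) (tt N4497 F6045) (tt N3237 (iv F6051)))
theorem Q5654 : ∀ i, i < 5654 → P i := stepQ 5653 Q5653 (allL N5653 (tt N4558 F6047) (tt N3237 F6049) (tt N3554 (iv F6050)) (tt N4482 F6048) (tt N3178 (iv D6529)))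
theorem Q5655 : ∀ i, i < 5655 → P i := stepQ 5654 Q5654 (allL N5654 (tt N4503 F6054) (tt N3190 F6055) (tt N4474 F6056) (tt N3335 (iv F6073)) (tt N3179 (iv D6530)))
theorem Q5656 : ∀ i, i < 5656 → P i := stepQ 5655 Q5655 (allL N5655 (tt N6536 (iv F7567)) (tt N3183 F6057) (tt N7469 F9265) (tt N7468 (iv F9266)) (tt N3180 (iv D6531)))
theorem Q5657 : ∀ i, i < 5657 → P i := stepQ 5656 Q5656 (allL N5656 (tt N8319 (iv F10907)) (tt N5656 F6058) (tt N3193 F6059) (tt N6791 (iv F8023)) (tt N3181 (iv D6532)))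
theorem Q5658 : ∀ i, i < 5658 → P i := stepQ 5657 Q5657 (allL N5657 (tt N8045 (iv F10352)) (tt N7442 (iv F9218)) (tt N6794 (iv F8029)) (tt N3189 F6060) (tt N3182 (iv D6533)))
theorem Q5659 : ∀ i, i < 5659 → P i := stepQ 5658 Q5658 (allL N5658 (tt N8321 (iv F10914)) (tt N8347 D9253) (tt N3183 (iv D6534)) (tt N6804 F10915) (tt N8348 D9254))
theorem Q5660 : ∀ i, i < 5660 → P i := stepQ 5659 Q5659 (allL N5659 (tt N8325 (iv F10925)) (tt N7468 F9267) (tt N6804 (iv F10916)) (tt N3183 (iv D6535)) (tt N8349 D9255))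
theorem Q5661 : ∀ i, i < 5661 → P i := stepQ 5660 Q5660 (allL N5660 (tt N3184 (iv D6536)) (tt N8350 D9256) (tt N3191 F6061) (tt N6806 (iv F8062)) (tt N8351 D9257))
theorem Q5662 : ∀ i, i < 5662 → P i := stepQ 5661 Q5661 (allL N5661 (tt N4681 F6062) (tt N3184 (iv D6537)) (tt N8352 D9258) (tt N4700 (iv F6063)) (tt N5520 F6064))
theorem Q5663 : ∀ i, i < 5663 → P i := stepQ 5662 Q5662 (allL N5662 (tt N6783 (iv F7998)) (tt N4700 F6065) (tt N3185 F6066) (tt N3184 (iv D6538)) (tt N3333 F6068))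
theorem Q5664 : ∀ i, i < 5664 → P i := stepQ 5663 Q5663 (allL N5663 (tt N8351 (iv F10973)) (tt N5520 F6075) (tt N3195 F6076) (tt N3188 (iv F6077)) (tt N3184 (iv D6539)))
theorem Q5665 : ∀ i, i < 5665 → P i := stepQ 5664 Q5664 (allL N5664 (tt N4689 F6080) (tt N8346 (iv F10966)) (tt N3186 (iv D6540)) (tt N8353 D9259) (tt N4682 F6081))
theorem Q5666 : ∀ i, i < 5666 → P i := stepQ 5665 Q5665 (allL N5665 (tt N4697 F6082) (tt N3187 F6083) (tt N8353 (iv F10983)) (tt N3186 (iv D6541)) (tt N5527 F6084))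
theorem Q5667 : ∀ i, i < 5667 → P i := stepQ 5666 Q5666 (allL N5666 (tt N3187 (iv D6542)) (tt N8354 D9260) (tt N6675 F7821) (tt N6793 (iv F8028)) (tt N8355 D9261))
theorem Q5668 : ∀ i, i < 5668 → P i := stepQ 5667 Q5667 (allL N5667 (tt N8355 (iv F10987)) (tt N5527 F6085) (tt N3204 F6086) (tt N3333 F6087) (tt N3187 (iv D6543)))
theorem Q5669 : ∀ i, i < 5669 → P i := stepQ 5668 Q5668 (allL N5668 (tt N6538 (iv F7892)) (tt N3189 (iv D6544)) (tt N7456 (iv F9241)) (tt N7442 (iv F9220)) (tt N8356 D9262))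
theorem Q5670 : ∀ i, i < 5670 → P i := stepQ 5669 Q5669 (allL N5669 (tt N8322 (iv F10917)) (tt N8357 D9263) (tt N3189 (iv D6545)) (tt N6794 F8030) (tt N8358 D9264))
theorem Q5671 : ∀ i, i < 5671 → P i := stepQ 5670 Q5670 (allL N5670 (tt N3190 F6088) (tt N8356 (iv F10991)) (tt N8359 D9265) (tt N8349 (iv F10970)) (tt N3189 (iv D6546)))
theorem Q5672 : ∀ i, i < 5672 → P i := stepQ 5671 Q5671 (allL N5671 (tt N3192 (iv D6547)) (tt N8360 D9266) (tt N8319 (iv F10909)) (tt N3322 F6089) (tt N8335 (iv F10944)))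
theorem Q5673 : ∀ i, i < 5673 → P i := stepQ 5672 Q5672 (allL N5672 (tt N5105 F6090) (tt N3192 (iv D6548)) (tt N8309 (iv F10885)) (tt N8059 (iv F10387)) (tt N8361 D9267))
theorem Q5674 : ∀ i, i < 5674 → P i := stepQ 5673 Q5673 (allL N5673 (tt N8335 (iv F10945)) (tt N8361 (iv F10998)) (tt N8351 (iv F10975)) (tt N8048 (iv F10943)) (tt N3192 (iv D6549)))
theorem Q5675 : ∀ i, i < 5675 → P i := stepQ 5674 Q5674 (allL N5674 (tt N8362 D9268) (tt N3193 (iv D6550)) (tt N8363 D9269) (tt N8364 D9270) (tt N8365 D9271))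
theorem Q5676 : ∀ i, i < 5676 → P i := stepQ 5675 Q5675 (allL N5675 (tt N8057 (iv F10382)) (tt N8364 (iv F11007)) (tt N6791 F8024) (tt N3193 (iv D6551)) (tt N8366 D9272))
theorem Q5677 : ∀ i, i < 5677 → P i := stepQ 5676 Q5676 (allL N5676 (tt N3195 F6091) (tt N8365 (iv F11009)) (tt N8348 (iv F10969)) (tt N8367 D9273) (tt N3193 (iv D6552)))
theorem Q5678 : ∀ i, i < 5678 → P i := stepQ 5677 Q5677 (allL N5677 (tt N4981 F6092) (tt N3226 F6093) (tt N3194 (iv D6553)) (tt N3331 F6094) (tt N4980 (iv F6095)))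
theorem Q5679 : ∀ i, i < 5679 → P i := stepQ 5678 Q5678 (allL N5678 (tt N4987 F6096) (tt N3195 F6097) (tt N4974 F6098) (tt N3202 (iv F6099)) (tt N3194 (iv D6554)))
theorem Q5680 : ∀ i, i < 5680 → P i := stepQ 5679 Q5679 (allL N5679 (tt N3196 (iv D6555)) (tt N7986 (iv F10232)) (tt N4779 F6100) (tt N8368 D9274) (tt N8369 D9275))
theorem Q5681 : ∀ i, i < 5681 → P i := stepQ 5680 Q5680 (allL N5680 (tt N6019 (iv F6714)) (tt N4874 F6101) (tt N3196 (iv D6556)) (tt N4950 (iv F7704)) (tt N4871 F6102))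
theorem Q5682 : ∀ i, i < 5682 → P i := stepQ 5681 Q5681 (allL N5681 (tt N6624 (iv F7702)) (tt N3197 F6103) (tt N4950 F7703) (tt N3196 (iv D6557)) (tt N8370 D9276))
theorem Q5683 : ∀ i, i < 5683 → P i := stepQ 5682 Q5682 (allL N5682 (tt N8369 (iv F11015)) (tt N3198 F6104) (tt N7460 (iv F9250)) (tt N8371 D9277) (tt N3196 (iv D6558)))
theorem Q5684 : ∀ i, i < 5684 → P i := stepQ 5683 Q5683 (allL N5683 (tt N8343 (iv F10961)) (tt N8370 (iv F11019)) (tt N6878 F8161) (tt N3329 F6105) (tt N3197 (iv D6559)))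
theorem Q5685 : ∀ i, i < 5685 → P i := stepQ 5684 Q5684 (allL N5684 (tt N8327 (iv F10926)) (tt N8371 (iv F11022)) (tt N6799 (iv F8042)) (tt N3198 (iv D6560)) (tt N3328 F6106))
theorem Q5686 : ∀ i, i < 5686 → P i := stepQ 5685 Q5685 (allL N5685 (tt N3202 F6107) (tt N4514 F6108) (tt N4908 F6110) (tt N4994 F6109) (tt N3199 (iv D6561)))
theorem Q5687 : ∀ i, i < 5687 → P i := stepQ 5686 Q5686 (allL N5686 (tt N3200 (iv D6562)) (tt N5566 (iv F6113)) (tt N5584 F6111) (tt N4904 F6112) (tt N4900 F6114))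
theorem Q5688 : ∀ i, i < 5688 → P i := stepQ 5687 Q5687 (allL N5687 (tt N4983 (iv F6494)) (tt N3233 F6115) (tt N3201 F6116) (tt N3200 (iv D6563)) (tt N4982 F6493))
theorem Q5689 : ∀ i, i < 5689 → P i := stepQ 5688 Q5688 (allL N5688 (tt N4900 F6117) (tt N3234 F6118) (tt N3543 F6119) (tt N4980 (iv F6125)) (tt N3200 (iv D6564)))
theorem Q5690 : ∀ i, i < 5690 → P i := stepQ 5689 Q5689 (allL N5689 (tt N3201 (iv D6565)) (tt N6723 (iv F7907)) (tt N5004 F6127) (tt N5183 F6126) (tt N4988 (iv F6128)))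
theorem Q5691 : ∀ i, i < 5691 → P i := stepQ 5690 Q5690 (allL N5690 (tt N4988 F6129) (tt N3204 F6130) (tt N4977 (iv F6132)) (tt N3332 F6131) (tt N3201 (iv D6566)))
theorem Q5692 : ∀ i, i < 5692 → P i := stepQ 5691 Q5691 (allL N5691 (tt N4897 F6135) (tt N3222 (iv F6136)) (tt N3202 (iv D6567)) (tt N4974 F6133) (tt N3220 F6134))
theorem Q5693 : ∀ i, i < 5693 → P i := stepQ 5692 Q5692 (allL N5692 (tt N8372 D9278) (tt N3203 (iv D6568)) (tt N8373 D9279) (tt N8374 D9280) (tt N8375 D9281))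
theorem Q5694 : ∀ i, i < 5694 → P i := stepQ 5693 Q5693 (allL N5693 (tt N8320 (iv F10911)) (tt N5693 F10358) (tt N3203 (iv D6569)) (tt N6786 (iv F10357)) (tt N8359 (iv F10993)))
theorem Q5695 : ∀ i, i < 5695 → P i := stepQ 5694 Q5694 (allL N5694 (tt N8046 (iv F10355)) (tt N8374 (iv F11032)) (tt N6786 F10356) (tt N3203 (iv D6570)) (tt N8367 (iv F11011)))
theorem Q5696 : ∀ i, i < 5696 → P i := stepQ 5695 Q5695 (allL N5695 (tt N3204 F6137) (tt N8375 (iv F11034)) (tt N8358 (iv F10992)) (tt N8366 (iv F11010)) (tt N3203 (iv D6571)))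
theorem Q5697 : ∀ i, i < 5697 → P i := stepQ 5696 Q5696 (allL N5696 (tt N8376 D9282) (tt N3205 (iv D6572)) (tt N8377 D9283) (tt N8047 (iv F10359)) (tt N8378 D9284))
theorem Q5698 : ∀ i, i < 5698 → P i := stepQ 5697 Q5697 (allL N5697 (tt N8334 (iv F10940)) (tt N8378 (iv F11040)) (tt N8355 (iv F10989)) (tt N8060 (iv F10942)) (tt N3205 (iv D6573)))
theorem Q5699 : ∀ i, i < 5699 → P i := stepQ 5698 Q5698 (allL N5698 (tt N8323 (iv F10919)) (tt N6676 (iv F7824)) (tt N3206 (iv D6574)) (tt N6807 (iv F8064)) (tt N6675 (iv F7822)))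
theorem Q5700 : ∀ i, i < 5700 → P i := stepQ 5699 Q5699 (allL N5699 (tt N3215 F6138) (tt N8379 D9285) (tt N3208 (iv D6575)) (tt N8135 (iv F10528)) (tt N8380 D9286))
theorem Q5701 : ∀ i, i < 5701 → P i := stepQ 5700 Q5700 (allL N5700 (tt N3210 F6139) (tt N5404 F6140) (tt N7488 (iv F9296)) (tt N6637 (iv F7730)) (tt N3209 (iv D6576)))
theorem Q5702 : ∀ i, i < 5702 → P i := stepQ 5701 Q5701 (allL N5701 (tt N3685 F6142) (tt N7652 (iv F9601)) (tt N3210 (iv D6577)) (tt N3764 F6141) (tt N8381 D9287))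
theorem Q5703 : ∀ i, i < 5703 → P i := stepQ 5702 Q5702 (allL N5702 (tt N6811 (iv F8071)) (tt N7664 (iv F9618)) (tt N3212 F6143) (tt N3211 (iv D6578)) (tt N8382 D9288))
theorem Q5704 : ∀ i, i < 5704 → P i := stepQ 5703 Q5703 (allL N5703 (tt N7479 (iv F9283)) (tt N7665 (iv F9621)) (tt N8380 (iv F11043)) (tt N8381 F11045) (tt N3211 (iv D6579)))
theorem Q5705 : ∀ i, i < 5705 → P i := stepQ 5704 Q5704 (allL N5704 (tt N3212 (iv D6580)) (tt N6907 (iv F8240)) (tt N7491 (iv F9300)) (tt N6548 (iv F7583)) (tt N8383 D9289))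
theorem Q5706 : ∀ i, i < 5706 → P i := stepQ 5705 Q5705 (allL N5705 (tt N8383 (iv F11048)) (tt N7597 F9492) (tt N8136 F10531) (tt N3343 F6144) (tt N3212 (iv D6581)))
theorem Q5707 : ∀ i, i < 5707 → P i := stepQ 5706 Q5706 (allL N5706 (tt N4452 F6145) (tt N3213 (iv D6582)) (tt N5988 (iv F6659)) (tt N6578 (iv F7633)) (tt N8384 D9290))
theorem Q5708 : ∀ i, i < 5708 → P i := stepQ 5707 Q5707 (allL N5707 (tt N3214 F6146) (tt N8384 (iv F11051)) (tt N8385 D9291) (tt N8386 D9292) (tt N3213 (iv D6583)))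
theorem Q5709 : ∀ i, i < 5709 → P i := stepQ 5708 Q5708 (allL N5708 (tt N8387 D9293) (tt N8388 D9294) (tt N3214 (iv D6584)) (tt N8389 D9295) (tt N8390 D9296))
theorem Q5710 : ∀ i, i < 5710 → P i := stepQ 5709 Q5709 (allL N5709 (tt N7483 (iv F9288)) (tt N4461 F6147) (tt N8389 (iv F11058)) (tt N3214 (iv D6585)) (tt N3344 (iv F6157)))
theorem Q5711 : ∀ i, i < 5711 → P i := stepQ 5710 Q5710 (allL N5710 (tt N5524 F6148) (tt N3215 (iv D6586)) (tt N4684 F6150) (tt N8391 D9297) (tt N5519 (iv F6149)))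
theorem Q5712 : ∀ i, i < 5712 → P i := stepQ 5711 Q5711 (allL N5711 (tt N8392 D9298) (tt N8391 (iv F11064)) (tt N3216 F6151) (tt N3215 (iv D6587)) (tt N8393 D9299))
theorem Q5713 : ∀ i, i < 5713 → P i := stepQ 5712 Q5712 (allL N5712 (tt N8380 (iv F11042)) (tt N5519 F6152) (tt N3222 F6153) (tt N8390 F11062) (tt N3215 (iv D6588)))
theorem Q5714 : ∀ i, i < 5714 → P i := stepQ 5713 Q5713 (allL N5713 (tt N3216 (iv D6589)) (tt N8394 D9300) (tt N8395 D9301) (tt N6808 (iv F8066)) (tt N8396 D9302))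
theorem Q5715 : ∀ i, i < 5715 → P i := stepQ 5714 Q5714 (allL N5714 (tt N8396 (iv F11072)) (tt N4474 F6154) (tt N3224 (iv F6155)) (tt N3344 F6156) (tt N3216 (iv D6590)))
theorem Q5716 : ∀ i, i < 5716 → P i := stepQ 5715 Q5715 (allL N5715 (tt N7474 (iv F9272)) (tt N3981 F6158) (tt N8387 (iv F11052)) (tt N8104 (iv F10489)) (tt N3217 (iv D6591)))
theorem Q5717 : ∀ i, i < 5717 → P i := stepQ 5716 Q5716 (allL N5716 (tt N7477 (iv F9277)) (tt N4229 F6159) (tt N3218 (iv D6592)) (tt N6638 (iv F7731)) (tt N8397 D9303))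
theorem Q5718 : ∀ i, i < 5718 → P i := stepQ 5717 Q5717 (allL N5717 (tt N3219 (iv D6593)) (tt N8398 D9304) (tt N5991 (iv F6663)) (tt N7054 (iv F8481)) (tt N8399 D9305))
theorem Q5719 : ∀ i, i < 5719 → P i := stepQ 5718 Q5718 (allL N5718 (tt N8399 (iv F11075)) (tt N4974 F6162) (tt N8390 (iv F11061)) (tt N3222 (iv F6163)) (tt N3219 (iv D6594)))
theorem Q5720 : ∀ i, i < 5720 → P i := stepQ 5719 Q5719 (allL N5719 (tt N4917 F6164) (tt N3221 F6165) (tt N3542 F6166) (tt N3220 (iv D6595)) (tt N4977 (iv F6167)))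
theorem Q5721 : ∀ i, i < 5721 → P i := stepQ 5720 Q5720 (allL N5720 (tt N3221 (iv D6596)) (tt N8400 D9306) (tt N6023 F6723) (tt N6809 (iv F8067)) (tt N8401 D9307))
theorem Q5722 : ∀ i, i < 5722 → P i := stepQ 5721 Q5721 (allL N5721 (tt N8401 (iv F11076)) (tt N4977 F6168) (tt N8393 (iv F11069)) (tt N3765 F6169) (tt N3221 (iv D6597)))
theorem Q5723 : ∀ i, i < 5723 → P i := stepQ 5722 Q5722 (allL N5722 (tt N7478 (iv F9280)) (tt N8402 D9308) (tt N3223 (iv D6598)) (tt N6550 (iv F7585)) (tt N8403 D9309))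
theorem Q5724 : ∀ i, i < 5724 → P i := stepQ 5723 Q5723 (allL N5723 (tt N3224 F6170) (tt N6551 (iv F7588)) (tt N8404 D9310) (tt N6566 (iv F7598)) (tt N3223 (iv D6599)))
theorem Q5725 : ∀ i, i < 5725 → P i := stepQ 5724 Q5724 (allL N5724 (tt N5724 F6171) (tt N3225 (iv D6600)) (tt N3910 F6172) (tt N3864 (iv F6173)) (tt N3861 (iv F6174)))
theorem Q5726 : ∀ i, i < 5726 → P i := stepQ 5725 Q5725 (allL N5725 (tt N8405 D9311) (tt N6702 F7867) (tt N3225 (iv D6601)) (tt N8195 F10645) (tt N6700 (iv F7868)))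
theorem Q5727 : ∀ i, i < 5727 → P i := stepQ 5726 Q5726 (allL N5726 (tt N8406 D9312) (tt N3864 F6175) (tt N8195 (iv F10644)) (tt N3225 (iv D6602)) (tt N3862 (iv F6176)))
theorem Q5728 : ∀ i, i < 5728 → P i := stepQ 5727 Q5727 (allL N5727 (tt N3227 F6177) (tt N3861 F6178) (tt N8407 D9313) (tt N3874 (iv F6179)) (tt N3225 (iv D6603)))
theorem Q5729 : ∀ i, i < 5729 → P i := stepQ 5728 Q5728 (allL N5728 (tt N3226 (iv D6604)) (tt N8408 D9314) (tt N8409 D9315) (tt N8410 D9316) (tt N8411 D9317))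
theorem Q5730 : ∀ i, i < 5730 → P i := stepQ 5729 Q5729 (allL N5729 (tt N8411 (iv F11090)) (tt N4980 F6180) (tt N8412 D9318) (tt N3234 (iv F6181)) (tt N3226 (iv D6605)))
theorem Q5731 : ∀ i, i < 5731 → P i := stepQ 5730 Q5730 (allL N5730 (tt N8413 D9319) (tt N4482 F6183) (tt N3227 (iv D6606)) (tt N3237 F6182) (tt N4480 (iv F6184)))
theorem Q5732 : ∀ i, i < 5732 → P i := stepQ 5731 Q5731 (allL N5731 (tt N5731 F6185) (tt N3230 F6186) (tt N4774 F6187) (tt N3228 (iv D6607)) (tt N4768 (iv F6188)))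
theorem Q5733 : ∀ i, i < 5733 → P i := stepQ 5732 Q5732 (allL N5732 (tt N3229 (iv D6608)) (tt N3454 F6189) (tt N8414 D9320) (tt N8415 D9321) (tt N4665 F6195))
theorem Q5734 : ∀ i, i < 5734 → P i := stepQ 5733 Q5733 (allL N5733 (tt N4804 F6190) (tt N3229 (iv D6609)) (tt N7919 (iv F10123)) (tt N8159 (iv F10564)) (tt N4801 (iv F6191)))
theorem Q5735 : ∀ i, i < 5735 → P i := stepQ 5734 Q5734 (allL N5734 (tt N4665 (iv F6194)) (tt N4801 F6193) (tt N8416 D9322) (tt N8190 (iv F10634)) (tt N3229 (iv D6611)))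
theorem Q5736 : ∀ i, i < 5736 → P i := stepQ 5735 Q5735 (allL N5735 (tt N3230 (iv D6612)) (tt N5405 F6196) (tt N8417 D9323) (tt N8418 D9324) (tt N8419 D9325))
theorem Q5737 : ∀ i, i < 5737 → P i := stepQ 5736 Q5736 (allL N5736 (tt N8419 (iv F11109)) (tt N4768 F6199) (tt N8420 D9326) (tt N3339 F6200) (tt N3230 (iv D6613)))
theorem Q5738 : ∀ i, i < 5738 → P i := stepQ 5737 Q5737 (allL N5737 (tt N8421 D9327) (tt N8422 D9328) (tt N3231 (iv D6614)) (tt N8423 D9329) (tt N8424 D9330))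
theorem Q5739 : ∀ i, i < 5739 → P i := stepQ 5738 Q5738 (allL N5738 (tt N8425 D9331) (tt N4771 F6201) (tt N8423 (iv F11119)) (tt N3231 (iv D6615)) (tt N3338 F6202))
theorem Q5740 : ∀ i, i < 5740 → P i := stepQ 5739 Q5739 (allL N5739 (tt N5547 F6203) (tt N3232 (iv D6616)) (tt N4877 F6205) (tt N8052 (iv F10370)) (tt N4640 F6204))
theorem Q5741 : ∀ i, i < 5741 → P i := stepQ 5740 Q5740 (allL N5740 (tt N8414 (iv F11096)) (tt N3260 F6206) (tt N3232 (iv D6617)) (tt N8161 F10571) (tt N8426 D9332))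
theorem Q5742 : ∀ i, i < 5742 → P i := stepQ 5741 Q5741 (allL N5741 (tt N8417 (iv F11104)) (tt N8052 F10371) (tt N8161 (iv F10569)) (tt N3232 (iv D6618)) (tt N4662 (iv F6498)))
theorem Q5743 : ∀ i, i < 5743 → P i := stepQ 5742 Q5742 (allL N5742 (tt N3233 (iv D6619)) (tt N8427 D9333) (tt N8428 D9334) (tt N8429 D9335) (tt N8430 D9336))
theorem Q5744 : ∀ i, i < 5744 → P i := stepQ 5743 Q5743 (allL N5743 (tt N8430 (iv F11131)) (tt N4982 (iv F6495)) (tt N8431 D9337) (tt N3341 F6207) (tt N3233 (iv D6620)))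
theorem Q5745 : ∀ i, i < 5745 → P i := stepQ 5744 Q5744 (allL N5744 (tt N8416 (iv F11103)) (tt N4682 F6208) (tt N3234 (iv D6621)) (tt N8412 (iv F11093)) (tt N8346 (iv F10968)))
theorem Q5746 : ∀ i, i < 5746 → P i := stepQ 5745 Q5745 (allL N5745 (tt N5745 F6209) (tt N3235 (iv D6622)) (tt N3909 F6210) (tt N3875 (iv F6211)) (tt N3863 F6212))
theorem Q5747 : ∀ i, i < 5747 → P i := stepQ 5746 Q5746 (allL N5746 (tt N8415 (iv F11100)) (tt N6715 (iv F10281)) (tt N3235 (iv D6623)) (tt N8165 (iv F11101)) (tt N6712 F10282))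
theorem Q5748 : ∀ i, i < 5748 → P i := stepQ 5747 Q5747 (allL N5747 (tt N8418 (iv F11106)) (tt N3875 F6213) (tt N8165 F11102) (tt N3235 (iv D6624)) (tt N3874 F6214))
theorem Q5749 : ∀ i, i < 5749 → P i := stepQ 5748 Q5748 (allL N5748 (tt N3236 F6215) (tt N3863 F6216) (tt N8432 D9338) (tt N3862 F6217) (tt N3235 (iv D6625)))
theorem Q5750 : ∀ i, i < 5750 → P i := stepQ 5749 Q5749 (allL N5749 (tt N8433 D9339) (tt N4498 (iv F6536)) (tt N3236 (iv D6626)) (tt N3342 F6218) (tt N4497 F6537))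
theorem Q5751 : ∀ i, i < 5751 → P i := stepQ 5750 Q5750 (allL N5750 (tt N3237 (iv D6627)) (tt N4620 F6220) (tt N8426 (iv F11130)) (tt N8434 D9340) (tt N4671 F6219))
theorem Q5752 : ∀ i, i < 5752 → P i := stepQ 5751 Q5751 (allL N5751 (tt N5751 F6221) (tt N3240 F6222) (tt N4740 F6223) (tt N3238 (iv D6628)) (tt N4735 (iv F6224)))
theorem Q5753 : ∀ i, i < 5753 → P i := stepQ 5752 Q5752 (allL N5752 (tt N8287 (iv F10832)) (tt N3239 (iv D6629)) (tt N5572 F6225) (tt N8435 D9341) (tt N5934 (iv F6560)))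
theorem Q5754 : ∀ i, i < 5754 → P i := stepQ 5753 Q5753 (allL N5753 (tt N5094 (iv F8208)) (tt N8435 (iv F11141)) (tt N3240 F6226) (tt N3239 (iv D6630)) (tt N8436 D9342))
theorem Q5755 : ∀ i, i < 5755 → P i := stepQ 5754 Q5754 (allL N5754 (tt N8333 (iv F10938)) (tt N5934 F6561) (tt N8437 D9343) (tt N8438 D9344) (tt N3239 (iv D6631)))
theorem Q5756 : ∀ i, i < 5756 → P i := stepQ 5755 Q5755 (allL N5755 (tt N3240 (iv D6632)) (tt N6896 (iv F8207)) (tt N8439 D9345) (tt N8440 D9346) (tt N8441 D9347))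
theorem Q5757 : ∀ i, i < 5757 → P i := stepQ 5756 Q5756 (allL N5756 (tt N8441 (iv F11149)) (tt N4735 F6227) (tt N8442 D9348) (tt N3315 F6228) (tt N3240 (iv D6633)))
theorem Q5758 : ∀ i, i < 5758 → P i := stepQ 5757 Q5757 (allL N5757 (tt N8443 D9349) (tt N8444 D9350) (tt N3241 (iv D6634)) (tt N8445 D9351) (tt N8446 D9352))
theorem Q5759 : ∀ i, i < 5759 → P i := stepQ 5758 Q5758 (allL N5758 (tt N8447 D9353) (tt N4737 F6229) (tt N8445 (iv F11154)) (tt N3241 (iv D6635)) (tt N3314 F6230))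
theorem Q5760 : ∀ i, i < 5760 → P i := stepQ 5759 Q5759 (allL N5759 (tt N7909 (iv F10105)) (tt N3242 (iv D6636)) (tt N6019 (iv F6716)) (tt N8448 D9354) (tt N8449 D9355))
theorem Q5761 : ∀ i, i < 5761 → P i := stepQ 5760 Q5760 (allL N5760 (tt N8331 (iv F10935)) (tt N5263 (iv F6256)) (tt N3242 (iv D6637)) (tt N8450 D9356) (tt N8451 D9357))
theorem Q5762 : ∀ i, i < 5762 → P i := stepQ 5761 Q5761 (allL N5761 (tt N8439 (iv F11145)) (tt N8448 (iv F11157)) (tt N8450 (iv F11163)) (tt N3242 (iv D6638)) (tt N8452 D9358))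
theorem Q5763 : ∀ i, i < 5763 → P i := stepQ 5762 Q5762 (allL N5762 (tt N3245 F6231) (tt N8449 (iv F11160)) (tt N7954 F10390) (tt N8453 D9359) (tt N3242 (iv D6639)))
theorem Q5764 : ∀ i, i < 5764 → P i := stepQ 5763 Q5763 (allL N5763 (tt N7760 (iv F9824)) (tt N3244 F6232) (tt N3487 F6233) (tt N3243 (iv D6640)) (tt N7759 (iv F9822)))
theorem Q5765 : ∀ i, i < 5765 → P i := stepQ 5764 Q5764 (allL N5764 (tt N7710 (iv F9710)) (tt N3245 F6234) (tt N3428 F6235) (tt N7758 (iv F9814)) (tt N3243 (iv D6641)))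
theorem Q5766 : ∀ i, i < 5766 → P i := stepQ 5765 Q5765 (allL N5765 (tt N3244 (iv D6642)) (tt N8454 D9360) (tt N8455 D9361) (tt N8456 D9362) (tt N8457 D9363))
theorem Q5767 : ∀ i, i < 5767 → P i := stepQ 5766 Q5766 (allL N5766 (tt N8457 (iv F11169)) (tt N7759 F9823) (tt N8458 D9364) (tt N3319 F9819) (tt N3244 (iv D6643)))
theorem Q5768 : ∀ i, i < 5768 → P i := stepQ 5767 Q5767 (allL N5767 (tt N8437 (iv F11144)) (tt N5521 F6236) (tt N3245 (iv D6644)) (tt N8459 D9365) (tt N8460 D9366))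
theorem Q5769 : ∀ i, i < 5769 → P i := stepQ 5768 Q5768 (allL N5768 (tt N8461 D9367) (tt N7758 F9817) (tt N8459 (iv F11173)) (tt N3245 (iv D6645)) (tt N3318 F9818))
theorem Q5770 : ∀ i, i < 5770 → P i := stepQ 5769 Q5769 (allL N5769 (tt N5769 F6237) (tt N3246 (iv D6646)) (tt N3904 F6238) (tt N3870 (iv F6239)) (tt N3867 (iv F6240)))
theorem Q5771 : ∀ i, i < 5771 → P i := stepQ 5770 Q5770 (allL N5770 (tt N8332 (iv F10937)) (tt N8462 D9368) (tt N3246 (iv D6647)) (tt N8463 D9369) (tt N8464 D9370))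
theorem Q5772 : ∀ i, i < 5772 → P i := stepQ 5771 Q5771 (allL N5771 (tt N8440 (iv F11146)) (tt N3870 F6241) (tt N8463 (iv F11181)) (tt N3246 (iv D6648)) (tt N3868 (iv F6242)))
theorem Q5773 : ∀ i, i < 5773 → P i := stepQ 5772 Q5772 (allL N5772 (tt N3247 F6243) (tt N3867 F6244) (tt N8465 D9371) (tt N3866 (iv F6245)) (tt N3246 (iv D6649)))
theorem Q5774 : ∀ i, i < 5774 → P i := stepQ 5773 Q5773 (allL N5773 (tt N8466 D9372) (tt N7296 (iv F8946)) (tt N3247 (iv D6650)) (tt N3321 F6246) (tt N7295 F8944))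
theorem Q5775 : ∀ i, i < 5775 → P i := stepQ 5774 Q5774 (allL N5774 (tt N3248 (iv D6651)) (tt N5974 (iv F6634)) (tt N8451 (iv F11166)) (tt N8467 D9373) (tt N8468 D9374))
theorem Q5776 : ∀ i, i < 5776 → P i := stepQ 5775 Q5775 (allL N5775 (tt N7345 (iv F9027)) (tt N3248 (iv D6652)) (tt N3395 F6247) (tt N7285 F8925) (tt N3393 (iv F6248)))
theorem Q5777 : ∀ i, i < 5777 → P i := stepQ 5776 Q5776 (allL N5776 (tt N8469 D9375) (tt N7285 F8924) (tt N3249 F6249) (tt N3248 (iv D6653)) (tt N7283 (iv F8926)))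
theorem Q5778 : ∀ i, i < 5778 → P i := stepQ 5777 Q5777 (allL N5777 (tt N8468 (iv F11185)) (tt N3393 F6250) (tt N8460 (iv F11175)) (tt N7295 (iv F8943)) (tt N3248 (iv D6654)))
theorem Q5779 : ∀ i, i < 5779 → P i := stepQ 5778 Q5778 (allL N5778 (tt N3249 (iv D6655)) (tt N3869 F6253) (tt N8470 D9376) (tt N3868 F6252) (tt N3320 F6251))
theorem Q5780 : ∀ i, i < 5780 → P i := stepQ 5779 Q5779 (allL N5779 (tt N3260 F6254) (tt N5562 F6255) (tt N3251 (iv D6656)) (tt N8471 D9377) (tt N8472 D9378))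
theorem Q5781 : ∀ i, i < 5781 → P i := stepQ 5780 Q5780 (allL N5780 (tt N3267 F6258) (tt N5101 F6257) (tt N8471 (iv F11188)) (tt N3251 (iv D6657)) (tt N8473 D9379))
theorem Q5782 : ∀ i, i < 5782 → P i := stepQ 5781 Q5781 (allL N5781 (tt N3254 F6259) (tt N5104 F6260) (tt N8474 D9380) (tt N3275 (iv F6261)) (tt N3251 (iv D6658)))
theorem Q5783 : ∀ i, i < 5783 → P i := stepQ 5782 Q5782 (allL N5782 (tt N3252 (iv D6659)) (tt N5171 F6262) (tt N4804 F6264) (tt N8287 (iv F10834)) (tt N4798 F6263))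
theorem Q5784 : ∀ i, i < 5784 → P i := stepQ 5783 Q5783 (allL N5783 (tt N8166 (iv F10577)) (tt N3253 F6266) (tt N4824 (iv F6429)) (tt N3252 (iv D6660)) (tt N4811 F6431))
theorem Q5785 : ∀ i, i < 5785 → P i := stepQ 5784 Q5784 (allL N5784 (tt N3253 (iv D6661)) (tt N6787 (iv F8010)) (tt N8162 (iv F10572)) (tt N8341 (iv F10959)) (tt N8475 D9381))
theorem Q5786 : ∀ i, i < 5786 → P i := stepQ 5785 Q5785 (allL N5785 (tt N8475 (iv F11201)) (tt N4811 (iv F6432)) (tt N8476 D9382) (tt N3309 F6271) (tt N3253 (iv D6662)))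
theorem Q5787 : ∀ i, i < 5787 → P i := stepQ 5786 Q5786 (allL N5786 (tt N3265 F6268) (tt N8477 D9383) (tt N3254 (iv D6663)) (tt N8478 D9384) (tt N7348 (iv F9032)))
theorem Q5788 : ∀ i, i < 5788 → P i := stepQ 5787 Q5787 (allL N5787 (tt N8479 D9385) (tt N4813 F6269) (tt N8478 (iv F11206)) (tt N3254 (iv D6664)) (tt N3308 F6270))
theorem Q5789 : ∀ i, i < 5789 → P i := stepQ 5788 Q5788 (allL N5788 (tt N3261 F6273) (tt N5419 F6272) (tt N3255 (iv D6665)) (tt N8480 D9386) (tt N8481 D9387))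
theorem Q5790 : ∀ i, i < 5790 → P i := stepQ 5789 Q5789 (allL N5789 (tt N3268 F6274) (tt N5407 F6275) (tt N8480 (iv F11211)) (tt N3255 (iv D6666)) (tt N3290 (iv F6276)))
theorem Q5791 : ∀ i, i < 5791 → P i := stepQ 5790 Q5790 (allL N5790 (tt N3256 F6277) (tt N5408 F6278) (tt N8482 D9388) (tt N3284 F6279) (tt N3255 (iv D6667)))
theorem Q5792 : ∀ i, i < 5792 → P i := stepQ 5791 Q5791 (allL N5791 (tt N8483 D9389) (tt N8484 D9390) (tt N3256 (iv D6668)) (tt N3310 F6280) (tt N8485 D9391))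
theorem Q5793 : ∀ i, i < 5793 → P i := stepQ 5792 Q5792 (allL N5792 (tt N3257 (iv D6669)) (tt N6318 (iv F7218)) (tt N8472 (iv F11192)) (tt N3286 F6281) (tt N8486 D9392))
theorem Q5794 : ∀ i, i < 5794 → P i := stepQ 5793 Q5793 (allL N5793 (tt N8487 D9393) (tt N3257 (iv D6670)) (tt N4761 F6282) (tt N8488 D9394) (tt N4858 (iv F6283)))
theorem Q5795 : ∀ i, i < 5795 → P i := stepQ 5794 Q5794 (allL N5794 (tt N8489 D9395) (tt N8488 (iv F11231)) (tt N3258 F6284) (tt N3257 (iv D6671)) (tt N8490 D9396))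
theorem Q5796 : ∀ i, i < 5796 → P i := stepQ 5795 Q5795 (allL N5795 (tt N8486 (iv F11226)) (tt N4858 F6285) (tt N7348 (iv F9033)) (tt N8485 F11225) (tt N3257 (iv D6672)))
theorem Q5797 : ∀ i, i < 5797 → P i := stepQ 5796 Q5796 (allL N5796 (tt N3258 (iv D6673)) (tt N5456 F6288) (tt N8491 D9397) (tt N3290 F6286) (tt N3283 F6287))
theorem Q5798 : ∀ i, i < 5798 → P i := stepQ 5797 Q5797 (allL N5797 (tt N3259 (iv D6674)) (tt N5637 F6289) (tt N4866 F6290) (tt N8492 D9398) (tt N8493 D9399))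
theorem Q5799 : ∀ i, i < 5799 → P i := stepQ 5798 Q5798 (allL N5798 (tt N8050 (iv F10364)) (tt N3261 F6291) (tt N4880 F6292) (tt N3259 (iv D6675)) (tt N8494 D9400))
theorem Q5800 : ∀ i, i < 5800 → P i := stepQ 5799 Q5799 (allL N5799 (tt N8493 (iv F11243)) (tt N3262 F6299) (tt N4889 F6300) (tt N8495 D9401) (tt N3259 (iv D6676)))
theorem Q5801 : ∀ i, i < 5801 → P i := stepQ 5800 Q5800 (allL N5800 (tt N8162 (iv F10573)) (tt N8161 F10570) (tt N3261 F6301) (tt N3260 (iv D6677)) (tt N8496 D9402))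
theorem Q5802 : ∀ i, i < 5802 → P i := stepQ 5801 Q5801 (allL N5801 (tt N8472 (iv F11190)) (tt N8426 (iv F11129)) (tt N3271 F6302) (tt N8497 D9403) (tt N3260 (iv D6678)))
theorem Q5803 : ∀ i, i < 5803 → P i := stepQ 5802 Q5802 (allL N5802 (tt N8481 (iv F11213)) (tt N8494 (iv F11246)) (tt N8498 D9404) (tt N3302 F6303) (tt N3261 (iv D6679)))
theorem Q5804 : ∀ i, i < 5804 → P i := stepQ 5803 Q5803 (allL N5803 (tt N8474 (iv F11197)) (tt N4654 (iv F9208)) (tt N3262 (iv D6680)) (tt N8499 D9405) (tt N7346 (iv F9030)))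
theorem Q5805 : ∀ i, i < 5805 → P i := stepQ 5804 Q5804 (allL N5804 (tt N8500 D9406) (tt N8495 (iv F11249)) (tt N8499 (iv F11259)) (tt N3262 (iv D6681)) (tt N3301 F6304))
theorem Q5806 : ∀ i, i < 5806 → P i := stepQ 5805 Q5805 (allL N5805 (tt N8501 D9407) (tt N3263 (iv D6682)) (tt N4928 F6305) (tt N4951 (iv F6371)) (tt N8502 D9408))
theorem Q5807 : ∀ i, i < 5807 → P i := stepQ 5806 Q5806 (allL N5806 (tt N8471 (iv F11189)) (tt N8007 (iv F10276)) (tt N3263 (iv D6683)) (tt N8503 D9409) (tt N8504 D9410))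
theorem Q5808 : ∀ i, i < 5808 → P i := stepQ 5807 Q5807 (allL N5807 (tt N8480 (iv F11209)) (tt N4951 F6372) (tt N8503 (iv F11270)) (tt N3263 (iv D6684)) (tt N3298 F6306))
theorem Q5809 : ∀ i, i < 5809 → P i := stepQ 5808 Q5808 (allL N5808 (tt N3264 F6307) (tt N8502 (iv F11266)) (tt N8505 D9411) (tt N3296 F6308) (tt N3263 (iv D6685)))
theorem Q5810 : ∀ i, i < 5810 → P i := stepQ 5809 Q5809 (allL N5809 (tt N8506 D9412) (tt N7526 (iv F9347)) (tt N3264 (iv D6686)) (tt N3303 F6309) (tt N7349 (iv F9036)))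
theorem Q5811 : ∀ i, i < 5811 → P i := stepQ 5810 Q5810 (allL N5810 (tt N8507 D9413) (tt N3267 (iv D6687)) (tt N4047 F6310) (tt N4023 (iv F6317)) (tt N4020 (iv F6312)))
theorem Q5812 : ∀ i, i < 5812 → P i := stepQ 5811 Q5811 (allL N5811 (tt N8341 (iv F10958)) (tt N4023 F6318) (tt N3268 F6319) (tt N3267 (iv D6688)) (tt N3281 F6320))
theorem Q5813 : ∀ i, i < 5813 → P i := stepQ 5812 Q5812 (allL N5812 (tt N8473 (iv F11194)) (tt N4020 F6321) (tt N8506 (iv F11276)) (tt N3279 F6322) (tt N3267 (iv D6689)))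
theorem Q5814 : ∀ i, i < 5814 → P i := stepQ 5813 Q5813 (allL N5813 (tt N8508 D9414) (tt N8509 D9415) (tt N3269 (iv D6690)) (tt N3285 F6323) (tt N8510 D9416))
theorem Q5815 : ∀ i, i < 5815 → P i := stepQ 5814 Q5814 (allL N5814 (tt N3270 (iv D6691)) (tt N4337 F6324) (tt N8504 (iv F11273)) (tt N4336 (iv F6325)) (tt N7350 (iv F9037)))
theorem Q5816 : ∀ i, i < 5816 → P i := stepQ 5815 Q5815 (allL N5815 (tt N8491 (iv F11239)) (tt N4627 F6333) (tt N8497 (iv F11254)) (tt N3271 (iv D6692)) (tt N7355 (iv F9049)))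
theorem Q5817 : ∀ i, i < 5817 → P i := stepQ 5816 Q5816 (allL N5816 (tt N6897 (iv F8209)) (tt N3272 (iv D6693)) (tt N8511 D9417) (tt N3320 (iv F6335)) (tt N3866 F6334))
theorem Q5818 : ∀ i, i < 5818 → P i := stepQ 5817 Q5817 (allL N5817 (tt N5817 F6336) (tt N3320 F6337) (tt N3898 F6338) (tt N3272 (iv D6694)) (tt N3869 F6339))
theorem Q5819 : ∀ i, i < 5819 → P i := stepQ 5818 Q5818 (allL N5818 (tt N3300 F6342) (tt N5439 F6340) (tt N3274 F6341) (tt N3273 (iv D6695)) (tt N8512 D9418))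
theorem Q5820 : ∀ i, i < 5820 → P i := stepQ 5819 Q5819 (allL N5819 (tt N3295 F6343) (tt N5440 F6344) (tt N3286 F6345) (tt N8472 F11193) (tt N3273 (iv D6696)))
theorem Q5821 : ∀ i, i < 5821 → P i := stepQ 5820 Q5820 (allL N5820 (tt N3309 F6346) (tt N5103 F6347) (tt N8513 D9419) (tt N8473 (iv F11196)) (tt N3274 (iv D6697)))
theorem Q5822 : ∀ i, i < 5822 → P i := stepQ 5821 Q5821 (allL N5821 (tt N3297 F6348) (tt N5333 F6349) (tt N3275 (iv D6698)) (tt N8474 (iv F11199)) (tt N5331 (iv F6350)))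
theorem Q5823 : ∀ i, i < 5823 → P i := stepQ 5822 Q5822 (allL N5822 (tt N8307 (iv F10879)) (tt N5105 F6351) (tt N3994 F6352) (tt N3276 (iv D6699)) (tt N3982 (iv F6353)))
theorem Q5824 : ∀ i, i < 5824 → P i := stepQ 5823 Q5823 (allL N5823 (tt N3277 (iv D6700)) (tt N8328 (iv F10927)) (tt N4038 F6355) (tt N8514 D9420) (tt N4019 F6354))
theorem Q5825 : ∀ i, i < 5825 → P i := stepQ 5824 Q5824 (allL N5824 (tt N3294 F6361) (tt N8193 (iv F10641)) (tt N3278 (iv D6701)) (tt N8192 F10640) (tt N8515 D9421))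
theorem Q5826 : ∀ i, i < 5826 → P i := stepQ 5825 Q5825 (allL N5825 (tt N3308 F6362) (tt N6789 (iv F8017)) (tt N8192 (iv F10638)) (tt N3278 (iv D6702)) (tt N8479 (iv F11208)))
theorem Q5827 : ∀ i, i < 5827 → P i := stepQ 5826 Q5826 (allL N5826 (tt N3279 F6363) (tt N6790 (iv F8020)) (tt N8516 D9422) (tt N8475 (iv F11202)) (tt N3278 (iv D6703)))
theorem Q5828 : ∀ i, i < 5828 → P i := stepQ 5827 Q5827 (allL N5827 (tt N8517 D9423) (tt N8518 D9424) (tt N3279 (iv D6704)) (tt N8506 (iv F11277)) (tt N7352 F9045))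
theorem Q5829 : ∀ i, i < 5829 → P i := stepQ 5828 Q5828 (allL N5828 (tt N4114 F6364) (tt N3280 (iv D6705)) (tt N3830 F6365) (tt N8519 D9425) (tt N4114 F6366))
theorem Q5830 : ∀ i, i < 5830 → P i := stepQ 5829 Q5829 (allL N5829 (tt N8520 D9426) (tt N8519 (iv F11305)) (tt N3281 F6367) (tt N3280 (iv D6706)) (tt N8521 D9427))
theorem Q5831 : ∀ i, i < 5831 → P i := stepQ 5830 Q5830 (allL N5830 (tt N3281 (iv D6707)) (tt N6882 (iv F8175)) (tt N8522 D9428) (tt N8479 (iv F11207)) (tt N8341 (iv F10960)))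
theorem Q5832 : ∀ i, i < 5832 → P i := stepQ 5831 Q5831 (allL N5831 (tt N8523 D9429) (tt N3282 (iv D6708)) (tt N5415 F6368) (tt N5458 (iv F6373)) (tt N6960 (iv F8309)))
theorem Q5833 : ∀ i, i < 5833 → P i := stepQ 5832 Q5832 (allL N5832 (tt N3301 F6374) (tt N5458 F6375) (tt N3283 F6376) (tt N3282 (iv D6709)) (tt N8500 (iv F11261)))
theorem Q5834 : ∀ i, i < 5834 → P i := stepQ 5833 Q5833 (allL N5833 (tt N3296 F6377) (tt N6960 (iv F8310)) (tt N8517 (iv F11302)) (tt N8481 (iv F11215)) (tt N3282 (iv D6710)))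
theorem Q5835 : ∀ i, i < 5835 → P i := stepQ 5834 Q5834 (allL N5834 (tt N4336 F6378) (tt N6926 (iv F8260)) (tt N3284 (iv D6711)) (tt N8482 (iv F11217)) (tt N6925 F8259))
theorem Q5836 : ∀ i, i < 5836 → P i := stepQ 5835 Q5835 (allL N5835 (tt N3285 (iv D6712)) (tt N6973 (iv F8334)) (tt N8515 (iv F11300)) (tt N8483 (iv F11220)) (tt N8524 D9430))
theorem Q5837 : ∀ i, i < 5837 → P i := stepQ 5836 Q5836 (allL N5836 (tt N8525 D9431) (tt N3285 (iv D6713)) (tt N3839 F6379) (tt N8509 (iv F11284)) (tt N4212 (iv F7155)))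
theorem Q5838 : ∀ i, i < 5838 → P i := stepQ 5837 Q5837 (allL N5837 (tt N8524 (iv F11312)) (tt N4212 F7156) (tt N7352 (iv F9044)) (tt N3289 F7157) (tt N3285 (iv D6714)))
theorem Q5839 : ∀ i, i < 5839 → P i := stepQ 5838 Q5838 (allL N5838 (tt N3289 F6380) (tt N5342 F6381) (tt N5331 F6382) (tt N8526 D9432) (tt N3286 (iv D6715)))
theorem Q5840 : ∀ i, i < 5840 → P i := stepQ 5839 Q5839 (allL N5839 (tt N3287 (iv D6716)) (tt N6319 (iv F7221)) (tt N4238 F6383) (tt N8527 D9433) (tt N4231 F6384))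
theorem Q5841 : ∀ i, i < 5841 → P i := stepQ 5840 Q5840 (allL N5840 (tt N8528 D9434) (tt N3288 F6385) (tt N3843 F6386) (tt N3287 (iv D6717)) (tt N4247 (iv F7556)))
theorem Q5842 : ∀ i, i < 5842 → P i := stepQ 5841 Q5841 (allL N5841 (tt N3288 (iv D6718)) (tt N7050 (iv F8471)) (tt N8529 D9435) (tt N8489 (iv F11234)) (tt N8530 D9436))
theorem Q5843 : ∀ i, i < 5843 → P i := stepQ 5842 Q5842 (allL N5842 (tt N8530 (iv F11323)) (tt N4247 F7557) (tt N8521 (iv F11310)) (tt N8510 (iv F11287)) (tt N3288 (iv D6719)))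
theorem Q5844 : ∀ i, i < 5844 → P i := stepQ 5843 Q5843 (allL N5843 (tt N3312 F6388) (tt N7253 (iv F8847)) (tt N3290 (iv D6721)) (tt N8491 (iv F11238)) (tt N8531 D9437))
theorem Q5845 : ∀ i, i < 5845 → P i := stepQ 5844 Q5844 (allL N5844 (tt N8532 D9438) (tt N5106 F6389) (tt N4934 F6390) (tt N3291 (iv D6722)) (tt N8533 D9439))
theorem Q5846 : ∀ i, i < 5846 → P i := stepQ 5845 Q5845 (allL N5845 (tt N3293 F6391) (tt N5107 F6392) (tt N4940 F6393) (tt N8534 D9440) (tt N3291 (iv D6723)))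
theorem Q5847 : ∀ i, i < 5847 → P i := stepQ 5846 Q5846 (allL N5846 (tt N3292 (iv D6724)) (tt N7911 (iv F10108)) (tt N6625 (iv F7706)) (tt N7937 (iv F10160)) (tt N8535 D9441))
theorem Q5848 : ∀ i, i < 5848 → P i := stepQ 5847 Q5847 (allL N5847 (tt N8535 (iv F11341)) (tt N3296 F6394) (tt N4967 F6395) (tt N8502 (iv F11268)) (tt N3292 (iv D6725)))
theorem Q5849 : ∀ i, i < 5849 → P i := stepQ 5848 Q5848 (allL N5848 (tt N8536 D9442) (tt N3298 F6396) (tt N4964 (iv F6400)) (tt N3293 (iv D6726)) (tt N4951 (iv F6398)))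
theorem Q5850 : ∀ i, i < 5850 → P i := stepQ 5849 Q5849 (allL N5849 (tt N8515 (iv F11299)) (tt N8029 (iv F10327)) (tt N4336 F6403) (tt N8504 (iv F11272)) (tt N3294 (iv D6727)))
theorem Q5851 : ∀ i, i < 5851 → P i := stepQ 5850 Q5850 (allL N5850 (tt N8529 (iv F11322)) (tt N8030 (iv F10329)) (tt N3312 F6404) (tt N3295 (iv D6728)) (tt N8503 (iv F11271)))
theorem Q5852 : ∀ i, i < 5852 → P i := stepQ 5851 Q5851 (allL N5851 (tt N8516 (iv F11301)) (tt N4390 (iv F8621)) (tt N3296 (iv D6729)) (tt N8505 (iv F11275)) (tt N7351 F9042))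
theorem Q5853 : ∀ i, i < 5853 → P i := stepQ 5852 Q5852 (allL N5852 (tt N8522 (iv F11311)) (tt N4392 F6405) (tt N3298 F6406) (tt N3297 (iv D6730)) (tt N8537 D9443))
theorem Q5854 : ∀ i, i < 5854 → P i := stepQ 5853 Q5853 (allL N5853 (tt N3298 (iv D6731)) (tt N7070 (iv F8511)) (tt N8520 (iv F11308)) (tt N8500 (iv F11260)) (tt N8480 F11212))
theorem Q5855 : ∀ i, i < 5855 → P i := stepQ 5854 Q5854 (allL N5854 (tt N3299 (iv D6732)) (tt N5894 (iv F6462)) (tt N5006 F6407) (tt N8538 D9444) (tt N8539 D9445))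
theorem Q5856 : ∀ i, i < 5856 → P i := stepQ 5855 Q5855 (allL N5855 (tt N8056 (iv F10381)) (tt N3301 F6408) (tt N4879 F6409) (tt N3299 (iv D6733)) (tt N8495 (iv F11251)))
theorem Q5857 : ∀ i, i < 5857 → P i := stepQ 5856 Q5856 (allL N5856 (tt N8539 (iv F11349)) (tt N3302 F6410) (tt N5018 F6411) (tt N8494 F11248) (tt N3299 (iv D6734)))
theorem Q5858 : ∀ i, i < 5858 → P i := stepQ 5857 Q5857 (allL N5857 (tt N8540 D9446) (tt N3300 (iv D6735)) (tt N3340 F6412) (tt N8191 F10637) (tt N8541 D9447))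
theorem Q5859 : ∀ i, i < 5859 → P i := stepQ 5858 Q5858 (allL N5858 (tt N8192 (iv F10639)) (tt N8191 F10636) (tt N3301 F6413) (tt N3300 (iv D6736)) (tt N8497 (iv F11255)))
theorem Q5860 : ∀ i, i < 5860 → P i := stepQ 5859 Q5859 (allL N5859 (tt N8512 (iv F11290)) (tt N8541 (iv F11352)) (tt N3311 F6414) (tt N8496 F11253) (tt N3300 (iv D6737)))
theorem Q5861 : ∀ i, i < 5861 → P i := stepQ 5860 Q5860 (allL N5860 (tt N8513 (iv F11293)) (tt N8542 D9448) (tt N3302 (iv D6738)) (tt N8498 (iv F11257)) (tt N7354 (iv F9048)))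
theorem Q5862 : ∀ i, i < 5862 → P i := stepQ 5861 Q5861 (allL N5861 (tt N3303 (iv D6739)) (tt N8543 D9449) (tt N3309 F6415) (tt N8476 (iv F11203)) (tt N7353 (iv F9046)))
theorem Q5863 : ∀ i, i < 5863 → P i := stepQ 5862 Q5862 (allL N5862 (tt N5862 F6416) (tt N3314 F6417) (tt N4746 F6418) (tt N3304 (iv D6740)) (tt N4737 F6419))
theorem Q5864 : ∀ i, i < 5864 → P i := stepQ 5863 Q5863 (allL N5863 (tt N3306 F6420) (tt N3315 F6421) (tt N4736 F6422) (tt N4735 F6423) (tt N3304 (iv D6741)))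
theorem Q5865 : ∀ i, i < 5865 → P i := stepQ 5864 Q5864 (allL N5864 (tt N3307 (iv D6742)) (tt N5201 F6424) (tt N8317 (iv F10902)) (tt N8316 F10899) (tt N8544 D9450))
theorem Q5866 : ∀ i, i < 5866 → P i := stepQ 5865 Q5865 (allL N5865 (tt N5602 F6426) (tt N5031 F6425) (tt N3307 (iv D6743)) (tt N4831 (iv F6428)) (tt N3968 F6427))
theorem Q5867 : ∀ i, i < 5867 → P i := stepQ 5866 Q5866 (allL N5866 (tt N8186 (iv F10620)) (tt N3308 F6433) (tt N4831 F6434) (tt N3307 (iv D6744)) (tt N4813 (iv F6435)))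
theorem Q5868 : ∀ i, i < 5868 → P i := stepQ 5867 Q5867 (allL N5867 (tt N8544 (iv F11359)) (tt N3309 F6436) (tt N4812 F6437) (tt N4811 F6438) (tt N3307 (iv D6745)))
theorem Q5869 : ∀ i, i < 5869 → P i := stepQ 5868 Q5868 (allL N5868 (tt N3310 (iv D6746)) (tt N6351 (iv F7278)) (tt N8512 (iv F11292)) (tt N8508 (iv F11282)) (tt N8526 (iv F11318)))
theorem Q5870 : ∀ i, i < 5870 → P i := stepQ 5869 Q5869 (allL N5869 (tt N8545 D9451) (tt N3310 (iv D6747)) (tt N5045 F7279) (tt N8484 (iv F11222)) (tt N5043 (iv F7281)))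
theorem Q5871 : ∀ i, i < 5871 → P i := stepQ 5870 Q5870 (allL N5870 (tt N8526 (iv F11317)) (tt N5043 F7280) (tt N7353 (iv F9047)) (tt N8490 (iv F11236)) (tt N3310 (iv D6748)))
theorem Q5872 : ∀ i, i < 5872 → P i := stepQ 5871 Q5871 (allL N5871 (tt N8546 D9452) (tt N3311 (iv D6749)) (tt N4626 (iv F6443)) (tt N4625 F6442) (tt N4719 F6439))
theorem Q5873 : ∀ i, i < 5873 → P i := stepQ 5872 Q5872 (allL N5872 (tt N8482 (iv F11218)) (tt N4625 F6441) (tt N8496 (iv F11252)) (tt N3311 (iv D6750)) (tt N7347 (iv F9031)))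
theorem Q5874 : ∀ i, i < 5874 → P i := stepQ 5873 Q5873 (allL N5873 (tt N8531 (iv F11324)) (tt N4341 F6447) (tt N8537 (iv F11346)) (tt N7350 (iv F9038)) (tt N3312 (iv D6751)))
theorem Q5875 : ∀ i, i < 5875 → P i := stepQ 5874 Q5874 (allL N5874 (tt N3313 (iv D6752)) (tt N3322 F6448) (tt N8547 D9453) (tt N8360 (iv F10996)) (tt N8548 D9454))
theorem Q5876 : ∀ i, i < 5876 → P i := stepQ 5875 Q5875 (allL N5875 (tt N8316 (iv F10896)) (tt N3313 (iv D6753)) (tt N5600 F6449) (tt N8549 D9455) (tt N7360 (iv F9052)))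
theorem Q5877 : ∀ i, i < 5877 → P i := stepQ 5876 Q5876 (allL N5876 (tt N5110 (iv F8215)) (tt N8549 (iv F11373)) (tt N3314 F6450) (tt N3313 (iv D6754)) (tt N8438 (iv F11438)))
theorem Q5878 : ∀ i, i < 5878 → P i := stepQ 5877 Q5877 (allL N5877 (tt N8548 (iv F11370)) (tt N7360 F9053) (tt N8550 D9457) (tt N8436 (iv F11436)) (tt N3313 (iv D6755)))
theorem Q5879 : ∀ i, i < 5879 → P i := stepQ 5878 Q5878 (allL N5878 (tt N3314 (iv D6756)) (tt N6898 (iv F8213)) (tt N8551 D9459) (tt N6897 F8210) (tt N8447 (iv F11156)))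
theorem Q5880 : ∀ i, i < 5880 → P i := stepQ 5879 Q5879 (allL N5879 (tt N8552 D9460) (tt N8553 D9461) (tt N3315 (iv D6757)) (tt N8442 (iv F11151)) (tt N8554 D9462))
theorem Q5881 : ∀ i, i < 5881 → P i := stepQ 5880 Q5880 (allL N5880 (tt N7937 (iv F10158)) (tt N3316 (iv D6758)) (tt N6456 (iv F7447)) (tt N8532 (iv F11328)) (tt N8555 D9463))
theorem Q5882 : ∀ i, i < 5882 → P i := stepQ 5881 Q5881 (allL N5881 (tt N8547 (iv F11368)) (tt N5291 F6451) (tt N3316 (iv D6759)) (tt N8556 D9464) (tt N8557 D9465))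
theorem Q5883 : ∀ i, i < 5883 → P i := stepQ 5882 Q5882 (allL N5882 (tt N8551 (iv F11377)) (tt N8532 F11329) (tt N8556 (iv F11383)) (tt N3316 (iv D6760)) (tt N8453 (iv F11168)))
theorem Q5884 : ∀ i, i < 5884 → P i := stepQ 5883 Q5883 (allL N5883 (tt N3319 F6452) (tt N8555 (iv F11380)) (tt N7968 F10402) (tt N8452 (iv F11167)) (tt N3316 (iv D6761)))
theorem Q5885 : ∀ i, i < 5885 → P i := stepQ 5884 Q5884 (allL N5884 (tt N7712 (iv F9720)) (tt N3319 F6453) (tt N3778 F6454) (tt N7759 (iv F9821)) (tt N3317 (iv D6762)))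
theorem Q5886 : ∀ i, i < 5886 → P i := stepQ 5885 Q5885 (allL N5885 (tt N3318 (iv D6763)) (tt N8558 D9466) (tt N8559 D9467) (tt N8560 D9468) (tt N8461 (iv F11176)))
theorem Q5887 : ∀ i, i < 5887 → P i := stepQ 5886 Q5886 (allL N5886 (tt N8550 (iv F11376)) (tt N5525 F6455) (tt N3319 (iv D6765)) (tt N8458 (iv F11170)) (tt N8561 D9469))
theorem Q5888 : ∀ i, i < 5888 → P i := stepQ 5887 Q5887 (allL N5887 (tt N8360 (iv F10995)) (tt N8307 (iv F10880)) (tt N3320 (iv D6767)) (tt N8511 (iv F11288)) (tt N8562 D9470))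
theorem Q5889 : ∀ i, i < 5889 → P i := stepQ 5888 Q5888 (allL N5888 (tt N3321 (iv D6768)) (tt N8563 D9471) (tt N8557 (iv F11386)) (tt N8564 D9472) (tt N8565 D9473))
theorem Q5890 : ∀ i, i < 5890 → P i := stepQ 5889 Q5889 (allL N5889 (tt N7344 (iv F9024)) (tt N3321 (iv D6769)) (tt N3796 F6456) (tt N7296 (iv F8948)) (tt N7284 F8919))
theorem Q5891 : ∀ i, i < 5891 → P i := stepQ 5890 Q5890 (allL N5890 (tt N8565 (iv F11394)) (tt N7284 (iv F8920)) (tt N8561 (iv F11388)) (tt N7283 F8921) (tt N3321 (iv D6770)))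
theorem Q5892 : ∀ i, i < 5892 → P i := stepQ 5891 Q5891 (allL N5891 (tt N3327 F6457) (tt N5610 F6458) (tt N3322 (iv D6771)) (tt N8319 (iv F10910)) (tt N8566 D9474))
theorem Q5893 : ∀ i, i < 5893 → P i := stepQ 5892 Q5892 (allL N5892 (tt N3324 F6459) (tt N8548 (iv F11371)) (tt N8271 (iv F10795)) (tt N8334 (iv F10941)) (tt N3322 (iv D6772)))
theorem Q5894 : ∀ i, i < 5894 → P i := stepQ 5893 Q5893 (allL N5893 (tt N3323 (iv D6773)) (tt N8316 (iv F10898)) (tt N5201 F6460) (tt N5201 F6461) (tt N8567 D9475))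
theorem Q5895 : ∀ i, i < 5895 → P i := stepQ 5894 Q5894 (allL N5894 (tt N5598 (iv F6463)) (tt N5854 F6462) (tt N3323 (iv D6774)) (tt N8329 (iv F10931)) (tt N8568 D9476))
theorem Q5896 : ∀ i, i < 5896 → P i := stepQ 5895 Q5895 (allL N5895 (tt N8567 (iv F11398)) (tt N3324 F6464) (tt N7356 F9382) (tt N8340 (iv F10957)) (tt N3323 (iv D6775)))
theorem Q5897 : ∀ i, i < 5897 → P i := stepQ 5896 Q5896 (allL N5896 (tt N3333 F6465) (tt N5528 F6466) (tt N3324 (iv D6776)) (tt N6876 (iv F8156)) (tt N6783 F7999))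
theorem Q5898 : ∀ i, i < 5898 → P i := stepQ 5897 Q5897 (allL N5897 (tt N3325 (iv D6778)) (tt N3771 F6467) (tt N8566 (iv F11397)) (tt N8323 (iv F10921)) (tt N6785 (iv F8006)))
theorem Q5899 : ∀ i, i < 5899 → P i := stepQ 5898 Q5898 (allL N5898 (tt N7610 (iv F9526)) (tt N3325 (iv D6779)) (tt N4600 (iv F6468)) (tt N6776 (iv F7989)) (tt N6748 F7938))
theorem Q5900 : ∀ i, i < 5900 → P i := stepQ 5899 Q5899 (allL N5899 (tt N3326 (iv D6781)) (tt N8037 (iv F10338)) (tt N5027 F6470) (tt N5190 F6471) (tt N8569 D9477))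
theorem Q5901 : ∀ i, i < 5901 → P i := stepQ 5900 Q5900 (allL N5900 (tt N6456 (iv F7445)) (tt N5009 F6472) (tt N3326 (iv D6782)) (tt N4952 (iv F6474)) (tt N4949 F6473))
theorem Q5902 : ∀ i, i < 5902 → P i := stepQ 5901 Q5901 (allL N5901 (tt N5188 F6475) (tt N3328 F6476) (tt N4952 F6477) (tt N3326 (iv D6783)) (tt N8371 (iv F11024)))
theorem Q5903 : ∀ i, i < 5903 → P i := stepQ 5902 Q5902 (allL N5902 (tt N8569 (iv F11403)) (tt N3329 F6478) (tt N7555 (iv F9385)) (tt N8370 F11021) (tt N3326 (iv D6784)))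
theorem Q5904 : ∀ i, i < 5904 → P i := stepQ 5903 Q5903 (allL N5903 (tt N8566 (iv F11395)) (tt N5161 F6479) (tt N3334 F6480) (tt N6883 (iv F8178)) (tt N3327 (iv D6785)))
theorem Q5905 : ∀ i, i < 5905 → P i := stepQ 5904 Q5904 (allL N5904 (tt N8271 (iv F10794)) (tt N8073 (iv F10425)) (tt N3329 (iv D6786)) (tt N6878 (iv F8160)) (tt N6798 F8037))
theorem Q5906 : ∀ i, i < 5906 → P i := stepQ 5905 Q5905 (allL N5905 (tt N3332 F6481) (tt N4540 F6482) (tt N4910 F6484) (tt N4909 F6483) (tt N3330 (iv D6787)))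
theorem Q5907 : ∀ i, i < 5907 → P i := stepQ 5906 Q5906 (allL N5906 (tt N3331 (iv D6788)) (tt N5616 (iv F6487)) (tt N5599 F6485) (tt N5003 F6486) (tt N4903 F6488))
theorem Q5908 : ∀ i, i < 5908 → P i := stepQ 5907 Q5907 (allL N5907 (tt N4903 F6489) (tt N3341 F6490) (tt N3756 F6492) (tt N4982 F6491) (tt N3331 (iv D6789)))
theorem Q5909 : ∀ i, i < 5909 → P i := stepQ 5908 Q5908 (allL N5908 (tt N4899 F6506) (tt N3765 (iv F6507)) (tt N3332 (iv D6790)) (tt N4977 F6504) (tt N3754 F6505))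
theorem Q5910 : ∀ i, i < 5910 → P i := stepQ 5909 Q5909 (allL N5909 (tt N7784 (iv F9883)) (tt N3334 (iv D6791)) (tt N7142 (iv F8669)) (tt N7153 (iv F8685)) (tt N7140 F8663))
theorem Q5911 : ∀ i, i < 5911 → P i := stepQ 5910 Q5910 (allL N5910 (tt N3335 (iv D6792)) (tt N7362 (iv F9055)) (tt N4523 F6509) (tt N4544 F6510) (tt N4518 F6508))
theorem Q5912 : ∀ i, i < 5912 → P i := stepQ 5911 Q5911 (allL N5911 (tt N4556 F6511) (tt N3344 F6512) (tt N3335 (iv D6793)) (tt N4474 F6513) (tt N4461 (iv F6514)))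
theorem Q5913 : ∀ i, i < 5913 → P i := stepQ 5912 Q5912 (allL N5912 (tt N5912 F6515) (tt N3338 F6516) (tt N4790 F6517) (tt N3336 (iv D6794)) (tt N4771 F6518))
theorem Q5914 : ∀ i, i < 5914 → P i := stepQ 5913 Q5913 (allL N5913 (tt N5296 F6519) (tt N3339 F6520) (tt N4769 F6522) (tt N4768 F6521) (tt N3336 (iv D6795)))
theorem Q5915 : ∀ i, i < 5915 → P i := stepQ 5914 Q5914 (allL N5914 (tt N3337 (iv D6796)) (tt N5303 F6523) (tt N8540 (iv F11351)) (tt N8405 (iv F11084)) (tt N4723 (iv F9413)))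
theorem Q5916 : ∀ i, i < 5916 → P i := stepQ 5915 Q5915 (allL N5915 (tt N8317 (iv F10900)) (tt N3337 (iv D6797)) (tt N7934 (iv F10155)) (tt N8185 F10618) (tt N8570 D9478))
theorem Q5917 : ∀ i, i < 5917 → P i := stepQ 5916 Q5916 (allL N5916 (tt N4723 F9414) (tt N8570 (iv F11407)) (tt N8571 D9479) (tt N8160 F10568) (tt N3337 (iv D6798)))
theorem Q5918 : ∀ i, i < 5918 → P i := stepQ 5917 Q5917 (allL N5917 (tt N3338 (iv D6799)) (tt N5454 F6526) (tt N8572 D9480) (tt N8406 (iv F11087)) (tt N8425 (iv F11125)))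
theorem Q5919 : ∀ i, i < 5919 → P i := stepQ 5918 Q5918 (allL N5918 (tt N8573 D9481) (tt N8574 D9482) (tt N3339 (iv D6800)) (tt N8420 (iv F11112)) (tt N8575 D9483))
theorem Q5920 : ∀ i, i < 5920 → P i := stepQ 5919 Q5919 (allL N5919 (tt N5612 F6527) (tt N3340 (iv D6801)) (tt N5013 F6528) (tt N8054 (iv F10376)) (tt N4717 F6529))
theorem Q5921 : ∀ i, i < 5921 → P i := stepQ 5920 Q5920 (allL N5920 (tt N8572 (iv F11411)) (tt N8054 F10377) (tt N8191 (iv F10635)) (tt N3340 (iv D6802)) (tt N4668 F6530))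
theorem Q5922 : ∀ i, i < 5922 → P i := stepQ 5921 Q5921 (allL N5921 (tt N8571 (iv F11410)) (tt N4692 F6531) (tt N3341 (iv D6803)) (tt N8431 (iv F11134)) (tt N8576 D9484))
theorem Q5923 : ∀ i, i < 5923 → P i := stepQ 5922 Q5922 (allL N5922 (tt N3342 (iv D6804)) (tt N8577 D9485) (tt N8541 (iv F11353)) (tt N8578 D9486) (tt N4726 F9315))
theorem Q5924 : ∀ i, i < 5924 → P i := stepQ 5923 Q5923 (allL N5923 (tt N4564 F6533) (tt N3342 (iv D6805)) (tt N3761 F6532) (tt N4498 (iv F6535)) (tt N4481 (iv F6534)))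
theorem Q5925 : ∀ i, i < 5925 → P i := stepQ 5924 Q5924 (allL N5924 (tt N4726 (iv F9314)) (tt N4481 F6539) (tt N8576 (iv F11421)) (tt N4480 F6540) (tt N3342 (iv D6806)))
theorem Q5926 : ∀ i, i < 5926 → P i := stepQ 5925 Q5925 (allL N5925 (tt N5028 F6541) (tt N3343 (iv D6807)) (tt N5024 F6543) (tt N7597 (iv F9490)) (tt N3763 F6542))
theorem Q5927 : ∀ i, i < 5927 → P i := stepQ 5926 Q5926 (allL N5926 (tt N7567 (iv F9418)) (tt N7793 (iv F9902)) (tt N3343 (iv D6808)) (tt N8136 F10530) (tt N8100 (iv F10532)))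
theorem Q5928 : ∀ i, i < 5928 → P i := stepQ 5927 Q5927 (allL N5927 (tt N3400 F6544) (tt N4649 F6545) (tt N3416 F6546) (tt N3766 F6547) (tt N3345 (iv D6809)))
theorem Q5929 : ∀ i, i < 5929 → P i := stepQ 5928 Q5928 (allL N5928 (tt N3431 F6550) (tt N4651 F6548) (tt N3371 F6549) (tt N3346 (iv D6810)) (tt N8579 D9487))
theorem Q5930 : ∀ i, i < 5930 → P i := stepQ 5929 Q5929 (allL N5929 (tt N3402 F6551) (tt N7497 (iv F9310)) (tt N3347 (iv D6811)) (tt N7562 (iv F9406)) (tt N7495 F9306))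
theorem Q5931 : ∀ i, i < 5931 → P i := stepQ 5930 Q5930 (allL N5930 (tt N3358 F6552) (tt N6785 (iv F8004)) (tt N7562 (iv F9405)) (tt N3347 (iv D6812)) (tt N3771 (iv F6553)))
theorem Q5932 : ∀ i, i < 5932 → P i := stepQ 5931 Q5931 (allL N5931 (tt N3413 F6555) (tt N7499 (iv F9317)) (tt N3349 F6554) (tt N3348 (iv D6813)) (tt N7561 (iv F9402)))
theorem Q5933 : ∀ i, i < 5933 → P i := stepQ 5932 Q5932 (allL N5932 (tt N3436 F6556) (tt N8323 (iv F10920)) (tt N8579 (iv F11431)) (tt N3771 F6557) (tt N3349 (iv D6814)))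
theorem Q5934 : ∀ i, i < 5934 → P i := stepQ 5933 Q5933 (allL N5933 (tt N7628 (iv F9566)) (tt N5487 F6558) (tt N8580 D9488) (tt N4539 F6559) (tt N3350 (iv D6815)))
theorem Q5935 : ∀ i, i < 5935 → P i := stepQ 5934 Q5934 (allL N5934 (tt N7615 (iv F9538)) (tt N5754 (iv F6561)) (tt N3351 (iv D6816)) (tt N8581 D9489) (tt N5752 F6560))
theorem Q5936 : ∀ i, i < 5936 → P i := stepQ 5935 Q5935 (allL N5935 (tt N7630 (iv F9568)) (tt N5489 F6562) (tt N8581 (iv F11440)) (tt N3351 (iv D6817)) (tt N8582 D9490))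
theorem Q5937 : ∀ i, i < 5937 → P i := stepQ 5936 Q5936 (allL N5936 (tt N7647 (iv F9590)) (tt N8294 (iv F10848)) (tt N3352 (iv D6818)) (tt N7625 (iv F9558)) (tt N8292 (iv F10845)))
theorem Q5938 : ∀ i, i < 5938 → P i := stepQ 5937 Q5937 (allL N5937 (tt N7643 (iv F9585)) (tt N8296 (iv F10851)) (tt N3354 F6563) (tt N3353 (iv D6819)) (tt N8310 (iv F10887)))
theorem Q5939 : ∀ i, i < 5939 → P i := stepQ 5938 Q5938 (allL N5938 (tt N7641 (iv F9581)) (tt N3363 F6564) (tt N8582 (iv F11443)) (tt N3772 F6565) (tt N3354 (iv D6820)))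
theorem Q5940 : ∀ i, i < 5940 → P i := stepQ 5939 Q5939 (allL N5939 (tt N3384 F6566) (tt N4399 F6567) (tt N3367 F6568) (tt N4410 (iv F6569)) (tt N3355 (iv D6821)))
theorem Q5941 : ∀ i, i < 5941 → P i := stepQ 5940 Q5940 (allL N5940 (tt N3386 F6570) (tt N7228 (iv F8823)) (tt N3356 (iv D6822)) (tt N7243 (iv F8841)) (tt N7225 F8818))
theorem Q5942 : ∀ i, i < 5942 → P i := stepQ 5941 Q5941 (allL N5941 (tt N3415 F6571) (tt N5068 F6572) (tt N7243 (iv F8840)) (tt N3356 (iv D6823)) (tt N6645 (iv F7752)))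
theorem Q5943 : ∀ i, i < 5943 → P i := stepQ 5942 Q5942 (allL N5942 (tt N3357 (iv D6824)) (tt N8583 D9491) (tt N3365 F6573) (tt N8584 D9492) (tt N8585 D9493))
theorem Q5944 : ∀ i, i < 5944 → P i := stepQ 5943 Q5943 (allL N5943 (tt N4673 F6574) (tt N3357 (iv D6825)) (tt N8586 D9494) (tt N4703 (iv F6576)) (tt N4673 (iv F6575)))
theorem Q5945 : ∀ i, i < 5945 → P i := stepQ 5944 Q5944 (allL N5944 (tt N3406 F6579) (tt N4703 F6577) (tt N3358 F6578) (tt N3357 (iv D6826)) (tt N3770 (iv F6580)))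
theorem Q5946 : ∀ i, i < 5946 → P i := stepQ 5945 Q5945 (allL N5945 (tt N8585 (iv F11452)) (tt N4673 F6581) (tt N3369 F6582) (tt N3361 F6583) (tt N3357 (iv D6827)))
theorem Q5947 : ∀ i, i < 5947 → P i := stepQ 5946 Q5946 (allL N5946 (tt N8587 D9495) (tt N8295 (iv F10850)) (tt N3359 (iv D6828)) (tt N8588 D9496) (tt N8589 D9497))
theorem Q5948 : ∀ i, i < 5948 → P i := stepQ 5947 Q5947 (allL N5947 (tt N4702 F6586) (tt N3360 F6587) (tt N8588 (iv F11461)) (tt N3359 (iv D6829)) (tt N4702 F6588))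
theorem Q5949 : ∀ i, i < 5949 → P i := stepQ 5948 Q5948 (allL N5948 (tt N3360 (iv D6830)) (tt N8590 D9498) (tt N3391 F6589) (tt N6568 (iv F7603)) (tt N8591 D9499))
theorem Q5950 : ∀ i, i < 5950 → P i := stepQ 5949 Q5949 (allL N5949 (tt N8591 (iv F11465)) (tt N4702 F6590) (tt N3377 F6591) (tt N3770 F6592) (tt N3360 (iv D6831)))
theorem Q5951 : ∀ i, i < 5951 → P i := stepQ 5950 Q5950 (allL N5950 (tt N3389 F6593) (tt N7230 (iv F8827)) (tt N3362 (iv D6832)) (tt N6571 (iv F7610)) (tt N7242 (iv F8837)))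
theorem Q5952 : ∀ i, i < 5952 → P i := stepQ 5951 Q5951 (allL N5951 (tt N3363 F6594) (tt N5078 F6595) (tt N8592 D9500) (tt N6645 (iv F7751)) (tt N3362 (iv D6833)))
theorem Q5953 : ∀ i, i < 5953 → P i := stepQ 5952 Q5952 (allL N5952 (tt N5410 F6597) (tt N6046 (iv F6752)) (tt N3364 (iv D6834)) (tt N4010 F6596) (tt N8593 D9501))
theorem Q5954 : ∀ i, i < 5954 → P i := stepQ 5953 Q5953 (allL N5953 (tt N6930 (iv F8269)) (tt N3365 F6601) (tt N8594 D9502) (tt N6922 (iv F8255)) (tt N3364 (iv D6835)))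
theorem Q5955 : ∀ i, i < 5955 → P i := stepQ 5954 Q5954 (allL N5954 (tt N3403 F6602) (tt N6922 (iv F8254)) (tt N8584 (iv F11450)) (tt N3365 (iv D6836)) (tt N6641 F7739))
theorem Q5956 : ∀ i, i < 5956 → P i := stepQ 5955 Q5955 (allL N5955 (tt N6943 (iv F8282)) (tt N3366 (iv D6837)) (tt N8595 D9503) (tt N6639 (iv F7733)) (tt N8596 D9504))
theorem Q5957 : ∀ i, i < 5957 → P i := stepQ 5956 Q5956 (allL N5956 (tt N3426 F6603) (tt N8596 (iv F11476)) (tt N8585 (iv F11454)) (tt N6570 (iv F7608)) (tt N3366 (iv D6838)))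
theorem Q5958 : ∀ i, i < 5958 → P i := stepQ 5957 Q5957 (allL N5957 (tt N3369 F6604) (tt N6303 (iv F7201)) (tt N7225 (iv F8816)) (tt N6575 (iv F7622)) (tt N3367 (iv D6839)))
theorem Q5959 : ∀ i, i < 5959 → P i := stepQ 5958 Q5958 (allL N5958 (tt N7659 (iv F9612)) (tt N6406 (iv F7359)) (tt N3368 (iv D6840)) (tt N3768 F6605) (tt N8597 D9505))
theorem Q5960 : ∀ i, i < 5960 → P i := stepQ 5959 Q5959 (allL N5959 (tt N7655 (iv F9606)) (tt N3369 F6606) (tt N7378 (iv F9086)) (tt N3375 F6607) (tt N3368 (iv D6841)))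
theorem Q5961 : ∀ i, i < 5961 → P i := stepQ 5960 Q5960 (allL N5960 (tt N3538 F6608) (tt N6133 (iv F6857)) (tt N3370 (iv D6842)) (tt N8598 D9506) (tt N8599 D9507))
theorem Q5962 : ∀ i, i < 5962 → P i := stepQ 5961 Q5961 (allL N5961 (tt N3549 F6612) (tt N3371 F6611) (tt N8598 (iv F11479)) (tt N3370 (iv D6843)) (tt N8600 D9508))
theorem Q5963 : ∀ i, i < 5963 → P i := stepQ 5962 Q5962 (allL N5962 (tt N3532 F6615) (tt N3372 F6616) (tt N7890 (iv F10065)) (tt N8601 D9509) (tt N3370 (iv D6844)))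
theorem Q5964 : ∀ i, i < 5964 → P i := stepQ 5963 Q5963 (allL N5963 (tt N3435 F6617) (tt N8600 (iv F11483)) (tt N7561 (iv F9401)) (tt N3767 F6618) (tt N3371 (iv D6845)))
theorem Q5965 : ∀ i, i < 5965 → P i := stepQ 5964 Q5964 (allL N5964 (tt N3417 F6622) (tt N8601 (iv F11486)) (tt N7495 (iv F9305)) (tt N3372 (iv D6846)) (tt N3416 F6621))
theorem Q5966 : ∀ i, i < 5966 → P i := stepQ 5965 Q5965 (allL N5965 (tt N7675 (iv F9632)) (tt N6254 (iv F7070)) (tt N3374 F6623) (tt N3373 (iv D6847)) (tt N8602 D9510))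
theorem Q5967 : ∀ i, i < 5967 → P i := stepQ 5966 Q5966 (allL N5966 (tt N4906 F6624) (tt N6255 (iv F7073)) (tt N8603 D9511) (tt N8597 (iv F11477)) (tt N3373 (iv D6848)))
theorem Q5968 : ∀ i, i < 5968 → P i := stepQ 5967 Q5967 (allL N5967 (tt N7657 (iv F9609)) (tt N3377 F6625) (tt N7408 (iv F9162)) (tt N3769 F6626) (tt N3374 (iv D6849)))
theorem Q5969 : ∀ i, i < 5969 → P i := stepQ 5968 Q5968 (allL N5968 (tt N6284 (iv F7164)) (tt N3376 (iv D6850)) (tt N8604 D9512) (tt N6574 (iv F7618)) (tt N6307 (iv F7205)))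
theorem Q5970 : ∀ i, i < 5970 → P i := stepQ 5969 Q5969 (allL N5969 (tt N3385 F6627) (tt N4401 (iv F6629)) (tt N3376 (iv D6851)) (tt N4396 F6628) (tt N8592 (iv F11471)))
theorem Q5971 : ∀ i, i < 5971 → P i := stepQ 5970 Q5970 (allL N5970 (tt N3377 F6630) (tt N6307 F7206) (tt N7242 (iv F8835)) (tt N6642 (iv F7741)) (tt N3376 (iv D6852)))
theorem Q5972 : ∀ i, i < 5972 → P i := stepQ 5971 Q5971 (allL N5971 (tt N6963 (iv F8313)) (tt N3378 (iv D6853)) (tt N8605 D9513) (tt N6569 (iv F7605)) (tt N8606 D9514))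
theorem Q5973 : ∀ i, i < 5973 → P i := stepQ 5972 Q5972 (allL N5972 (tt N3425 F6631) (tt N8606 (iv F11492)) (tt N8591 (iv F11467)) (tt N6640 (iv F7736)) (tt N3378 (iv D6854)))
theorem Q5974 : ∀ i, i < 5974 → P i := stepQ 5973 Q5973 (allL N5973 (tt N3392 F6632) (tt N8607 D9515) (tt N3379 (iv D6855)) (tt N6641 (iv F7737)) (tt N3391 F6633))
theorem Q5975 : ∀ i, i < 5975 → P i := stepQ 5974 Q5974 (allL N5974 (tt N7148 (iv F8675)) (tt N5774 F6634) (tt N3380 (iv D6856)) (tt N7090 F8552) (tt N8608 D9516))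
theorem Q5976 : ∀ i, i < 5976 → P i := stepQ 5975 Q5975 (allL N5975 (tt N5580 F7081) (tt N3381 (iv D6857)) (tt N8001 (iv F10264)) (tt N7118 (iv F8594)) (tt N8609 D9517))
theorem Q5977 : ∀ i, i < 5977 → P i := stepQ 5976 Q5976 (allL N5976 (tt N7167 (iv F8707)) (tt N8609 (iv F11497)) (tt N8608 (iv F11495)) (tt N7099 F8569) (tt N3381 (iv D6858)))
theorem Q5978 : ∀ i, i < 5978 → P i := stepQ 5977 Q5977 (allL N5977 (tt N4399 F6635) (tt N3384 F6636) (tt N5249 (iv F6638)) (tt N3775 F6637) (tt N3382 (iv D6859)))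
theorem Q5979 : ∀ i, i < 5979 → P i := stepQ 5978 Q5978 (allL N5978 (tt N4401 F6639) (tt N3385 F6640) (tt N5245 F6641) (tt N3383 (iv D6860)) (tt N8610 D9518))
theorem Q5980 : ∀ i, i < 5980 → P i := stepQ 5979 Q5979 (allL N5979 (tt N8592 (iv F11469)) (tt N8610 (iv F11500)) (tt N3392 F6643) (tt N3776 F6642) (tt N3385 (iv D6861)))
theorem Q5981 : ∀ i, i < 5981 → P i := stepQ 5980 Q5980 (allL N5980 (tt N4415 F6646) (tt N3386 (iv D6862)) (tt N8004 F10269) (tt N6666 (iv F7787)) (tt N6658 F7774))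
theorem Q5982 : ∀ i, i < 5982 → P i := stepQ 5981 Q5981 (allL N5981 (tt N7562 (iv F9403)) (tt N6666 (iv F7786)) (tt N3387 F6647) (tt N3386 (iv D6863)) (tt N3777 (iv F6648)))
theorem Q5983 : ∀ i, i < 5983 → P i := stepQ 5982 Q5982 (allL N5982 (tt N7225 (iv F8817)) (tt N6658 (iv F7773)) (tt N3426 F6649) (tt N3390 (iv F6650)) (tt N3386 (iv D6864)))
theorem Q5984 : ∀ i, i < 5984 → P i := stepQ 5983 Q5983 (allL N5983 (tt N4427 F6651) (tt N3389 F6652) (tt N8005 (iv F10271)) (tt N3388 (iv D6865)) (tt N6665 (iv F7784)))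
theorem Q5985 : ∀ i, i < 5985 → P i := stepQ 5984 Q5984 (allL N5984 (tt N7242 (iv F8836)) (tt N6665 (iv F7783)) (tt N3425 F6653) (tt N3777 F6654) (tt N3389 (iv D6866)))
theorem Q5986 : ∀ i, i < 5986 → P i := stepQ 5985 Q5985 (allL N5985 (tt N6932 (iv F8272)) (tt N3391 (iv D6867)) (tt N8611 D9519) (tt N6567 F7602) (tt N8607 (iv F11493)))
theorem Q5987 : ∀ i, i < 5987 → P i := stepQ 5986 Q5986 (allL N5986 (tt N3394 (iv D6868)) (tt N7589 (iv F9470)) (tt N5511 (iv F6658)) (tt N8612 D9520) (tt N3527 F6655))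
theorem Q5988 : ∀ i, i < 5988 → P i := stepQ 5987 Q5987 (allL N5987 (tt N8613 D9521) (tt N3408 F6656) (tt N3394 (iv D6869)) (tt N7321 (iv F8981)) (tt N3521 F6657))
theorem Q5989 : ∀ i, i < 5989 → P i := stepQ 5988 Q5988 (allL N5988 (tt N6071 (iv F6783)) (tt N3396 (iv D6870)) (tt N5706 F6659) (tt N5491 F6660) (tt N8614 D9522))
theorem Q5990 : ∀ i, i < 5990 → P i := stepQ 5989 Q5989 (allL N5989 (tt N7443 (iv F9221)) (tt N8614 (iv F11508)) (tt N8615 D9523) (tt N7150 (iv F8679)) (tt N3396 (iv D6871)))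
theorem Q5991 : ∀ i, i < 5991 → P i := stepQ 5990 Q5990 (allL N5990 (tt N7469 (iv F9264)) (tt N8616 D9524) (tt N3397 (iv D6872)) (tt N7435 (iv F9198)) (tt N8617 D9525))
theorem Q5992 : ∀ i, i < 5992 → P i := stepQ 5991 Q5991 (allL N5991 (tt N4649 F6661) (tt N3400 F6662) (tt N5717 F6663) (tt N4263 F6664) (tt N3398 (iv D6873)))
theorem Q5993 : ∀ i, i < 5993 → P i := stepQ 5992 Q5992 (allL N5992 (tt N4396 F6665) (tt N4079 F6666) (tt N3432 F6667) (tt N3431 F6668) (tt N3399 (iv D6874)))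
theorem Q5994 : ∀ i, i < 5994 → P i := stepQ 5993 Q5993 (allL N5993 (tt N4410 F6669) (tt N4263 F6670) (tt N3419 F6671) (tt N3400 (iv D6875)) (tt N8618 D9526))
theorem Q5995 : ∀ i, i < 5995 → P i := stepQ 5994 Q5994 (allL N5994 (tt N6571 (iv F7609)) (tt N6818 (iv F8094)) (tt N3401 (iv D6876)) (tt N3413 F6672) (tt N6815 F8090))
theorem Q5996 : ∀ i, i < 5996 → P i := stepQ 5995 Q5995 (allL N5995 (tt N4666 F6673) (tt N3402 (iv D6877)) (tt N8411 F11091) (tt N6888 (iv F8191)) (tt N6817 F8092))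
theorem Q5997 : ∀ i, i < 5997 → P i := stepQ 5996 Q5996 (allL N5996 (tt N7243 (iv F8838)) (tt N6888 (iv F8190)) (tt N3403 F6674) (tt N3402 (iv D6878)) (tt N6885 (iv F8186)))
theorem Q5998 : ∀ i, i < 5998 → P i := stepQ 5997 Q5997 (allL N5997 (tt N7495 (iv F9303)) (tt N6817 (iv F8091)) (tt N3420 F6675) (tt N6815 F8089) (tt N3402 (iv D6879)))
theorem Q5999 : ∀ i, i < 5999 → P i := stepQ 5998 Q5998 (allL N5998 (tt N6641 (iv F7738)) (tt N7436 (iv F9201)) (tt N8618 (iv F11513)) (tt N3414 F6676) (tt N3403 (iv D6880)))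
theorem Q6000 : ∀ i, i < 6000 → P i := stepQ 5999 Q5999 (allL N5999 (tt N4100 F6677) (tt N3404 (iv D6881)) (tt N8619 D9527) (tt N4118 (iv F6679)) (tt N4100 (iv F6678)))
theorem Q6001 : ∀ i, i < 6001 → P i := stepQ 6000 Q6000 (allL N6000 (tt N8584 (iv F11448)) (tt N4118 F6680) (tt N3415 F6681) (tt N3404 (iv D6882)) (tt N4115 (iv F6682)))
theorem Q6002 : ∀ i, i < 6002 → P i := stepQ 6001 Q6001 (allL N6001 (tt N3407 F6683) (tt N4100 F6684) (tt N3417 F6685) (tt N4098 (iv F6686)) (tt N3404 (iv D6883)))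
theorem Q6003 : ∀ i, i < 6003 → P i := stepQ 6002 Q6002 (allL N6002 (tt N4683 F6688) (tt N7299 (iv F8954)) (tt N3405 (iv D6884)) (tt N4699 F6687) (tt N8620 D9528))
theorem Q6004 : ∀ i, i < 6004 → P i := stepQ 6003 Q6003 (allL N6003 (tt N4693 F6689) (tt N7321 (iv F8980)) (tt N3409 F6690) (tt N3408 (iv D6885)) (tt N8621 D9529))
theorem Q6005 : ∀ i, i < 6005 → P i := stepQ 6004 Q6004 (allL N6004 (tt N4690 F6691) (tt N3521 F6692) (tt N5521 F6693) (tt N8620 (iv F11519)) (tt N3408 (iv D6886)))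
theorem Q6006 : ∀ i, i < 6006 → P i := stepQ 6005 Q6005 (allL N6005 (tt N4117 F6695) (tt N3410 (iv D6887)) (tt N8622 D9530) (tt N4101 F6694) (tt N4117 (iv F6696)))
theorem Q6007 : ∀ i, i < 6007 → P i := stepQ 6006 Q6006 (allL N6006 (tt N3411 F6697) (tt N4117 F6698) (tt N3435 F6699) (tt N4115 F6700) (tt N3410 (iv D6888)))
theorem Q6008 : ∀ i, i < 6008 → P i := stepQ 6007 Q6007 (allL N6007 (tt N7456 (iv F9240)) (tt N8623 D9531) (tt N3412 (iv D6889)) (tt N7423 (iv F9187)) (tt N8624 D9532))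
theorem Q6009 : ∀ i, i < 6009 → P i := stepQ 6008 Q6008 (allL N6008 (tt N7266 (iv F8881)) (tt N3414 F6701) (tt N8625 D9533) (tt N7436 (iv F9202)) (tt N3412 (iv D6890)))
theorem Q6010 : ∀ i, i < 6010 → P i := stepQ 6009 Q6009 (allL N6009 (tt N4724 F6702) (tt N3413 (iv D6891)) (tt N8430 F11132) (tt N6818 F8095) (tt N6887 (iv F8188)))
theorem Q6011 : ∀ i, i < 6011 → P i := stepQ 6010 Q6010 (allL N6010 (tt N7561 (iv F9399)) (tt N6887 (iv F8187)) (tt N3433 F6703) (tt N6885 F8185) (tt N3413 (iv D6892)))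
theorem Q6012 : ∀ i, i < 6012 → P i := stepQ 6011 Q6011 (allL N6011 (tt N8579 (iv F11429)) (tt N8626 D9534) (tt N3414 (iv D6893)) (tt N8618 (iv F11514)) (tt N3431 F6704))
theorem Q6013 : ∀ i, i < 6013 → P i := stepQ 6012 Q6012 (allL N6012 (tt N3759 F6705) (tt N3416 (iv D6894)) (tt N8627 D9535) (tt N3744 F6706) (tt N8601 (iv F11487)))
theorem Q6014 : ∀ i, i < 6014 → P i := stepQ 6013 Q6013 (allL N6013 (tt N7774 (iv F9855)) (tt N8628 D9536) (tt N3418 (iv D6895)) (tt N7741 F9782) (tt N8629 D9537))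
theorem Q6015 : ∀ i, i < 6015 → P i := stepQ 6014 Q6014 (allL N6014 (tt N7258 (iv F8857)) (tt N3420 F6707) (tt N8630 D9538) (tt N7685 (iv F9650)) (tt N3418 (iv D6896)))
theorem Q6016 : ∀ i, i < 6016 → P i := stepQ 6015 Q6015 (allL N6015 (tt N6640 (iv F7735)) (tt N7691 (iv F9659)) (tt N6885 (iv F8184)) (tt N3433 F6708) (tt N3419 (iv D6897)))
theorem Q6017 : ∀ i, i < 6017 → P i := stepQ 6016 Q6016 (allL N6016 (tt N6570 (iv F7607)) (tt N7685 (iv F9648)) (tt N6815 (iv F8088)) (tt N3420 (iv D6898)) (tt N3432 F6709))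
theorem Q6018 : ∀ i, i < 6018 → P i := stepQ 6017 Q6017 (allL N6017 (tt N3585 F6710) (tt N3422 (iv D6899)) (tt N5244 F6711) (tt N8631 D9539) (tt N5575 (iv F6712)))
theorem Q6019 : ∀ i, i < 6019 → P i := stepQ 6018 Q6018 (allL N6018 (tt N7722 (iv F9748)) (tt N8631 (iv F11537)) (tt N3423 F6713) (tt N3422 (iv D6900)) (tt N7738 (iv F9772)))
theorem Q6020 : ∀ i, i < 6020 → P i := stepQ 6019 Q6019 (allL N6019 (tt N5680 F6714) (tt N5575 F6715) (tt N5759 F6716) (tt N7729 (iv F9763)) (tt N3422 (iv D6901)))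
theorem Q6021 : ∀ i, i < 6021 → P i := stepQ 6020 Q6020 (allL N6020 (tt N4636 F6717) (tt N8229 (iv F10713)) (tt N3424 (iv D6902)) (tt N7730 (iv F9764)) (tt N8227 F10710))
theorem Q6022 : ∀ i, i < 6022 → P i := stepQ 6021 Q6021 (allL N6021 (tt N7696 (iv F9675)) (tt N8632 D9540) (tt N3430 (iv D6903)) (tt N7684 (iv F9646)) (tt N8633 D9541))
theorem Q6023 : ∀ i, i < 6023 → P i := stepQ 6022 Q6022 (allL N6022 (tt N7262 (iv F8870)) (tt N3433 F6720) (tt N8634 D9542) (tt N7691 (iv F9657)) (tt N3430 (iv D6904)))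
theorem Q6024 : ∀ i, i < 6024 → P i := stepQ 6023 Q6023 (allL N6023 (tt N4651 F6722) (tt N3431 (iv D6905)) (tt N5720 (iv F6723)) (tt N4079 F6721) (tt N8626 (iv F11528)))
theorem Q6025 : ∀ i, i < 6025 → P i := stepQ 6024 Q6024 (allL N6024 (tt N7006 (iv F8403)) (tt N6599 (iv F7658)) (tt N3434 (iv D6906)) (tt N6576 (iv F7624)) (tt N7032 (iv F8439)))
theorem Q6026 : ∀ i, i < 6026 → P i := stepQ 6025 Q6025 (allL N6025 (tt N4349 F6724) (tt N3889 F6725) (tt N6131 (iv F6851)) (tt N6461 (iv F7457)) (tt N3437 (iv D6907)))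
theorem Q6027 : ∀ i, i < 6027 → P i := stepQ 6026 Q6026 (allL N6026 (tt N5162 F6726) (tt N6492 (iv F7495)) (tt N6132 (iv F6854)) (tt N3438 (iv D6908)) (tt N8635 D9543))
theorem Q6028 : ∀ i, i < 6028 → P i := stepQ 6027 Q6027 (allL N6027 (tt N5163 F6727) (tt N6598 (iv F7657)) (tt N3439 (iv D6909)) (tt N5198 F6728) (tt N6130 F6849))
theorem Q6029 : ∀ i, i < 6029 → P i := stepQ 6028 Q6028 (allL N6028 (tt N4745 F6730) (tt N3440 (iv D6910)) (tt N7999 (iv F10261)) (tt N6648 F7758) (tt N4743 F6729))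
theorem Q6030 : ∀ i, i < 6030 → P i := stepQ 6029 Q6029 (allL N6029 (tt N5165 F6731) (tt N6648 (iv F7757)) (tt N3441 F6732) (tt N3440 (iv D6911)) (tt N6460 (iv F7455)))
theorem Q6031 : ∀ i, i < 6031 → P i := stepQ 6030 Q6030 (allL N6030 (tt N5545 F6733) (tt N3459 F6734) (tt N8635 (iv F11546)) (tt N3798 F6735) (tt N3441 (iv D6912)))
theorem Q6032 : ∀ i, i < 6032 → P i := stepQ 6031 Q6031 (allL N6031 (tt N3478 F6736) (tt N7474 (iv F9273)) (tt N8636 D9544) (tt N8637 D9545) (tt N3442 (iv D6913)))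
theorem Q6033 : ∀ i, i < 6033 → P i := stepQ 6032 Q6032 (allL N6032 (tt N3462 F6737) (tt N8638 D9546) (tt N3443 (iv D6914)) (tt N8639 D9547) (tt N8640 D9548))
theorem Q6034 : ∀ i, i < 6034 → P i := stepQ 6033 Q6033 (allL N6033 (tt N8079 (iv F10445)) (tt N7476 (iv F9276)) (tt N8639 (iv F11553)) (tt N3443 (iv D6915)) (tt N8641 D9549))
theorem Q6035 : ∀ i, i < 6035 → P i := stepQ 6034 Q6034 (allL N6034 (tt N4031 F6738) (tt N3447 F6739) (tt N8642 D9550) (tt N8276 (iv F10804)) (tt N3444 (iv D6916)))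
theorem Q6036 : ∀ i, i < 6036 → P i := stepQ 6035 Q6035 (allL N6035 (tt N4896 F6740) (tt N8643 D9551) (tt N3445 (iv D6917)) (tt N8644 D9552) (tt N4894 F6741))
theorem Q6037 : ∀ i, i < 6037 → P i := stepQ 6036 Q6036 (allL N6036 (tt N8280 (iv F10818)) (tt N3449 F6742) (tt N8644 (iv F11564)) (tt N3445 (iv D6918)) (tt N8645 D9553))
theorem Q6038 : ∀ i, i < 6038 → P i := stepQ 6037 Q6037 (allL N6037 (tt N3477 F6743) (tt N4397 F6744) (tt N5063 F6745) (tt N3446 (iv D6919)) (tt N8646 D9554))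
theorem Q6039 : ∀ i, i < 6039 → P i := stepQ 6038 Q6038 (allL N6038 (tt N3447 F6746) (tt N4398 F6747) (tt N8647 D9555) (tt N8648 D9556) (tt N3446 (iv D6920)))
theorem Q6040 : ∀ i, i < 6040 → P i := stepQ 6039 Q6039 (allL N6039 (tt N8649 D9557) (tt N8650 D9558) (tt N3447 (iv D6921)) (tt N8651 D9559) (tt N8652 D9560))
theorem Q6041 : ∀ i, i < 6041 → P i := stepQ 6040 Q6040 (allL N6040 (tt N8637 (iv F11549)) (tt N8276 F10807) (tt N8651 (iv F11577)) (tt N3447 (iv D6922)) (tt N3799 F10808))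
theorem Q6042 : ∀ i, i < 6042 → P i := stepQ 6041 Q6041 (allL N6041 (tt N7896 (iv F10077)) (tt N3448 (iv D6923)) (tt N8653 D9561) (tt N8654 D9562) (tt N7893 (iv F10072)))
theorem Q6043 : ∀ i, i < 6043 → P i := stepQ 6042 Q6042 (allL N6042 (tt N8655 D9563) (tt N8654 (iv F11583)) (tt N3449 F6748) (tt N3448 (iv D6924)) (tt N8656 D9564))
theorem Q6044 : ∀ i, i < 6044 → P i := stepQ 6043 Q6043 (allL N6043 (tt N3472 F6749) (tt N7893 (iv F10070)) (tt N3457 F6750) (tt N8652 (iv F11581)) (tt N3448 (iv D6925)))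
theorem Q6045 : ∀ i, i < 6045 → P i := stepQ 6044 Q6044 (allL N6044 (tt N3449 (iv D6926)) (tt N5210 F10820) (tt N8657 D9565) (tt N8646 (iv F11571)) (tt N8658 D9566))
theorem Q6046 : ∀ i, i < 6046 → P i := stepQ 6045 Q6045 (allL N6045 (tt N8658 (iv F11588)) (tt N8645 (iv F11567)) (tt N3459 F10809) (tt N3799 F10810) (tt N3449 (iv D6927)))
theorem Q6047 : ∀ i, i < 6047 → P i := stepQ 6046 Q6046 (allL N6046 (tt N3466 F6751) (tt N5952 F6752) (tt N3451 F6753) (tt N3450 (iv D6928)) (tt N8659 D9567))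
theorem Q6048 : ∀ i, i < 6048 → P i := stepQ 6047 Q6047 (allL N6047 (tt N3461 F6754) (tt N6724 (iv F7910)) (tt N8649 (iv F11575)) (tt N8660 D9568) (tt N3450 (iv D6929)))
theorem Q6049 : ∀ i, i < 6049 → P i := stepQ 6048 Q6048 (allL N6048 (tt N3479 F6755) (tt N4136 F6756) (tt N8661 D9569) (tt N3458 F6757) (tt N3451 (iv D6930)))
theorem Q6050 : ∀ i, i < 6050 → P i := stepQ 6049 Q6049 (allL N6049 (tt N5307 F6758) (tt N8662 D9570) (tt N3452 (iv D6931)) (tt N8663 D9571) (tt N8664 D9572))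
theorem Q6051 : ∀ i, i < 6051 → P i := stepQ 6050 Q6050 (allL N6050 (tt N3481 F6759) (tt N4138 F6760) (tt N8663 (iv F11599)) (tt N3452 (iv D6932)) (tt N8665 D9573))
theorem Q6052 : ∀ i, i < 6052 → P i := stepQ 6051 Q6051 (allL N6051 (tt N3453 (iv D6933)) (tt N5276 (iv F7965)) (tt N8234 (iv F10724)) (tt N8666 D9574) (tt N7226 (iv F8820)))
theorem Q6053 : ∀ i, i < 6053 → P i := stepQ 6052 Q6052 (allL N6052 (tt N6757 (iv F7962)) (tt N3453 (iv D6934)) (tt N8667 D9575) (tt N5304 F6761) (tt N6754 (iv F7955)))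
theorem Q6054 : ∀ i, i < 6054 → P i := stepQ 6053 Q6053 (allL N6053 (tt N7226 (iv F8819)) (tt N6754 F7956) (tt N8652 (iv F11580)) (tt N3457 F7957) (tt N3453 (iv D6935)))
theorem Q6055 : ∀ i, i < 6055 → P i := stepQ 6054 Q6054 (allL N6054 (tt N3491 F6762) (tt N8415 (iv F11098)) (tt N8233 (iv F10719)) (tt N3454 (iv D6936)) (tt N8668 D9576))
theorem Q6056 : ∀ i, i < 6056 → P i := stepQ 6055 Q6055 (allL N6055 (tt N3457 F6763) (tt N4665 F6764) (tt N8640 (iv F11557)) (tt N8669 D9577) (tt N3454 (iv D6937)))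
theorem Q6057 : ∀ i, i < 6057 → P i := stepQ 6056 Q6056 (allL N6056 (tt N7714 F9723) (tt N7999 (iv F10260)) (tt N3455 (iv D6938)) (tt N8670 D9578) (tt N7713 (iv F9724)))
theorem Q6058 : ∀ i, i < 6058 → P i := stepQ 6057 Q6057 (allL N6057 (tt N6779 F7992) (tt N3456 F6765) (tt N8670 (iv F11615)) (tt N3455 (iv D6939)) (tt N6777 (iv F7993)))
theorem Q6059 : ∀ i, i < 6059 → P i := stepQ 6058 Q6058 (allL N6058 (tt N4802 F6766) (tt N3457 F6767) (tt N4560 F6768) (tt N6754 (iv F7954)) (tt N3455 (iv D6940)))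
theorem Q6060 : ∀ i, i < 6060 → P i := stepQ 6059 Q6059 (allL N6059 (tt N3456 (iv D6941)) (tt N7246 (iv F8845)) (tt N8235 (iv F10727)) (tt N8671 D9579) (tt N7244 F8843))
theorem Q6061 : ∀ i, i < 6061 → P i := stepQ 6060 Q6060 (allL N6060 (tt N7244 (iv F8842)) (tt N6777 F7995) (tt N8656 (iv F11585)) (tt N5305 F7958) (tt N3456 (iv D6942)))
theorem Q6062 : ∀ i, i < 6062 → P i := stepQ 6061 Q6061 (allL N6061 (tt N5406 F6770) (tt N3458 (iv D6944)) (tt N8143 (iv F10538)) (tt N4136 F6771) (tt N4267 F6775))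
theorem Q6063 : ∀ i, i < 6063 → P i := stepQ 6062 Q6062 (allL N6062 (tt N3485 F6772) (tt N8672 D9580) (tt N3458 (iv D6945)) (tt N8661 (iv F11594)) (tt N8673 D9581))
theorem Q6064 : ∀ i, i < 6064 → P i := stepQ 6063 Q6063 (allL N6063 (tt N3459 F6773) (tt N4267 (iv F6774)) (tt N8674 D9582) (tt N8665 (iv F11604)) (tt N3458 (iv D6946)))
theorem Q6065 : ∀ i, i < 6065 → P i := stepQ 6064 Q6064 (allL N6064 (tt N7438 (iv F9206)) (tt N6258 (iv F7079)) (tt N3460 (iv D6948)) (tt N6518 (iv F7538)) (tt N7703 (iv F9692)))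
theorem Q6066 : ∀ i, i < 6066 → P i := stepQ 6065 Q6065 (allL N6065 (tt N8647 (iv F11572)) (tt N6262 (iv F7377)) (tt N3461 (iv D6949)) (tt N6414 F7376) (tt N8675 D9583))
theorem Q6067 : ∀ i, i < 6067 → P i := stepQ 6066 Q6066 (allL N6066 (tt N3469 F6777) (tt N6508 (iv F7522)) (tt N6414 (iv F7375)) (tt N3461 (iv D6950)) (tt N3800 (iv F6778)))
theorem Q6068 : ∀ i, i < 6068 → P i := stepQ 6067 Q6067 (allL N6067 (tt N8657 (iv F11587)) (tt N6263 (iv F7089)) (tt N3463 F6779) (tt N3462 (iv D6951)) (tt N8676 D9584))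
theorem Q6069 : ∀ i, i < 6069 → P i := stepQ 6068 Q6068 (allL N6068 (tt N8640 (iv F11555)) (tt N4572 F6780) (tt N3486 F6781) (tt N8675 F11627) (tt N3462 (iv D6952)))
theorem Q6070 : ∀ i, i < 6070 → P i := stepQ 6069 Q6069 (allL N6069 (tt N3463 (iv D6953)) (tt N6741 (iv F7928)) (tt N8655 (iv F11584)) (tt N8659 (iv F11592)) (tt N8674 (iv F11624)))
theorem Q6071 : ∀ i, i < 6071 → P i := stepQ 6070 Q6070 (allL N6070 (tt N8674 (iv F11623)) (tt N6519 (iv F7541)) (tt N8236 (iv F10731)) (tt N3800 F6782) (tt N3463 (iv D6954)))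
theorem Q6072 : ∀ i, i < 6072 → P i := stepQ 6071 Q6071 (allL N6071 (tt N5988 F6783) (tt N6071 F6784) (tt N3464 (iv D6955)) (tt N7094 (iv F8560)) (tt N8677 D9585))
theorem Q6073 : ∀ i, i < 6073 → P i := stepQ 6072 Q6072 (allL N6072 (tt N6582 (iv F7635)) (tt N3467 F6785) (tt N8678 D9586) (tt N8221 (iv F10699)) (tt N3464 (iv D6956)))
theorem Q6074 : ∀ i, i < 6074 → P i := stepQ 6073 Q6073 (allL N6073 (tt N5063 F6786) (tt N6073 F6787) (tt N3466 F6788) (tt N3465 (iv D6957)) (tt N8679 D9587))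
theorem Q6075 : ∀ i, i < 6075 → P i := stepQ 6074 Q6074 (allL N6074 (tt N8232 (iv F10716)) (tt N6074 F6789) (tt N3482 F6790) (tt N8680 D9588) (tt N3465 (iv D6958)))
theorem Q6076 : ∀ i, i < 6076 → P i := stepQ 6075 Q6075 (allL N6075 (tt N8659 (iv F11590)) (tt N8217 (iv F10694)) (tt N8681 D9589) (tt N3473 F6791) (tt N3466 (iv D6959)))
theorem Q6077 : ∀ i, i < 6077 → P i := stepQ 6076 Q6076 (allL N6076 (tt N8636 (iv F11548)) (tt N8682 D9590) (tt N3467 (iv D6960)) (tt N8683 D9591) (tt N8684 D9592))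
theorem Q6078 : ∀ i, i < 6078 → P i := stepQ 6077 Q6077 (allL N6077 (tt N8660 (iv F11593)) (tt N8221 F10700) (tt N8683 (iv F11643)) (tt N3467 (iv D6961)) (tt N8685 D9593))
theorem Q6079 : ∀ i, i < 6079 → P i := stepQ 6078 Q6078 (allL N6078 (tt N3468 (iv D6962)) (tt N8686 D9594) (tt N3478 F6792) (tt N8687 D9595) (tt N8688 D9596))
theorem Q6080 : ∀ i, i < 6080 → P i := stepQ 6079 Q6079 (allL N6079 (tt N5520 F6793) (tt N3468 (iv D6963)) (tt N8689 D9597) (tt N4698 (iv F6794)) (tt N4681 (iv F6795)))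
theorem Q6081 : ∀ i, i < 6081 → P i := stepQ 6080 Q6080 (allL N6080 (tt N8651 (iv F11578)) (tt N4698 F6796) (tt N3469 F6797) (tt N3468 (iv D6964)) (tt N4696 (iv F6798)))
theorem Q6082 : ∀ i, i < 6082 → P i := stepQ 6081 Q6081 (allL N6081 (tt N8688 (iv F11648)) (tt N4681 F6799) (tt N3483 F6800) (tt N3472 (iv F6801)) (tt N3468 (iv D6965)))
theorem Q6083 : ∀ i, i < 6083 → P i := stepQ 6082 Q6082 (allL N6082 (tt N4687 F6802) (tt N8460 (iv F11174)) (tt N3470 (iv D6966)) (tt N8690 D9598) (tt N5521 F6803))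
theorem Q6084 : ∀ i, i < 6084 → P i := stepQ 6083 Q6083 (allL N6083 (tt N5527 F6804) (tt N3471 F6805) (tt N8690 (iv F11654)) (tt N3470 (iv D6967)) (tt N4697 F6806))
theorem Q6085 : ∀ i, i < 6085 → P i := stepQ 6084 Q6084 (allL N6084 (tt N3471 (iv D6968)) (tt N8691 D9599) (tt N8079 (iv F10447)) (tt N8692 D9600) (tt N8693 D9601))
theorem Q6086 : ∀ i, i < 6086 → P i := stepQ 6085 Q6085 (allL N6085 (tt N8693 (iv F11660)) (tt N4697 F6807) (tt N3489 F6808) (tt N4696 F6809) (tt N3471 (iv D6969)))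
theorem Q6087 : ∀ i, i < 6087 → P i := stepQ 6086 Q6086 (allL N6086 (tt N6584 F7639) (tt N3473 (iv D6970)) (tt N8694 D9602) (tt N8217 (iv F10695)) (tt N8695 D9603))
theorem Q6088 : ∀ i, i < 6088 → P i := stepQ 6087 Q6087 (allL N6087 (tt N8639 (iv F11554)) (tt N8696 D9604) (tt N3473 (iv D6971)) (tt N8681 (iv F11640)) (tt N8697 D9605))
theorem Q6089 : ∀ i, i < 6089 → P i := stepQ 6088 Q6088 (allL N6088 (tt N3474 F6810) (tt N8695 (iv F11662)) (tt N8698 D9606) (tt N8685 (iv F11645)) (tt N3473 (iv D6972)))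
theorem Q6090 : ∀ i, i < 6090 → P i := stepQ 6089 Q6089 (allL N6089 (tt N5309 F6811) (tt N6585 (iv F7641)) (tt N6114 (iv F6836)) (tt N5051 F6812) (tt N3475 (iv D6973)))
theorem Q6091 : ∀ i, i < 6091 → P i := stepQ 6090 Q6090 (allL N6090 (tt N5317 F6814) (tt N8699 D9607) (tt N3476 (iv D6974)) (tt N5056 F6813) (tt N6113 (iv F6834)))
theorem Q6092 : ∀ i, i < 6092 → P i := stepQ 6091 Q6091 (allL N6091 (tt N8646 (iv F11569)) (tt N8074 (iv F10427)) (tt N8692 (iv F11659)) (tt N8079 (iv F10446)) (tt N3477 (iv D6975)))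
theorem Q6093 : ∀ i, i < 6093 → P i := stepQ 6092 Q6092 (allL N6092 (tt N8648 (iv F11573)) (tt N8075 (iv F10430)) (tt N8687 (iv F11647)) (tt N3478 (iv D6976)) (tt N8700 D9608))
theorem Q6094 : ∀ i, i < 6094 → P i := stepQ 6093 Q6093 (allL N6093 (tt N8671 (iv F11616)) (tt N8168 (iv F10585)) (tt N3479 (iv D6977)) (tt N3491 F6815) (tt N8701 D9609))
theorem Q6095 : ∀ i, i < 6095 → P i := stepQ 6094 Q6094 (allL N6094 (tt N3480 (iv D6978)) (tt N8405 (iv F11083)) (tt N8232 (iv F10717)) (tt N5303 F6816) (tt N8669 (iv F11613)))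
theorem Q6096 : ∀ i, i < 6096 → P i := stepQ 6095 Q6095 (allL N6095 (tt N8666 (iv F11605)) (tt N8181 (iv F10613)) (tt N3481 F6817) (tt N3480 (iv D6979)) (tt N8702 D9610))
theorem Q6097 : ∀ i, i < 6097 → P i := stepQ 6096 Q6096 (allL N6096 (tt N8669 F11614) (tt N6703 F7871) (tt N8688 (iv F11649)) (tt N8701 (iv F11673)) (tt N3480 (iv D6980)))
theorem Q6098 : ∀ i, i < 6098 → P i := stepQ 6097 Q6097 (allL N6097 (tt N8665 (iv F11602)) (tt N5058 F6818) (tt N8700 F11672) (tt N3492 F6819) (tt N3481 (iv D6981)))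
theorem Q6099 : ∀ i, i < 6099 → P i := stepQ 6098 Q6098 (allL N6098 (tt N8306 (iv F10875)) (tt N3482 (iv D6982)) (tt N8703 D9611) (tt N8311 (iv F10888)) (tt N8704 D9612))
theorem Q6100 : ∀ i, i < 6100 → P i := stepQ 6099 Q6099 (allL N6099 (tt N8663 (iv F11598)) (tt N8311 F10889) (tt N8680 (iv F11639)) (tt N3482 (iv D6983)) (tt N8705 D9613))
theorem Q6101 : ∀ i, i < 6101 → P i := stepQ 6100 Q6100 (allL N6100 (tt N3483 F6820) (tt N8704 (iv F11677)) (tt N8684 (iv F11644)) (tt N8706 D9614) (tt N3482 (iv D6984)))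
theorem Q6102 : ∀ i, i < 6102 → P i := stepQ 6101 Q6101 (allL N6101 (tt N3931 F6822) (tt N3485 F6821) (tt N7739 (iv F9775)) (tt N3484 (iv D6985)) (tt N4051 (iv F6823)))
theorem Q6103 : ∀ i, i < 6103 → P i := stepQ 6102 Q6102 (allL N6102 (tt N8673 (iv F11621)) (tt N4051 F6824) (tt N8676 (iv F11629)) (tt N5308 F6825) (tt N3485 (iv D6986)))
theorem Q6104 : ∀ i, i < 6104 → P i := stepQ 6103 Q6103 (allL N6103 (tt N8664 (iv F11600)) (tt N4043 F6826) (tt N8675 (iv F11626)) (tt N3486 (iv D6987)) (tt N5307 F6827))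
theorem Q6105 : ∀ i, i < 6105 → P i := stepQ 6104 Q6104 (allL N6104 (tt N8300 (iv F10859)) (tt N3488 (iv D6988)) (tt N8707 D9615) (tt N8293 (iv F10846)) (tt N8708 D9616))
theorem Q6106 : ∀ i, i < 6106 → P i := stepQ 6105 Q6105 (allL N6105 (tt N8233 (iv F10720)) (tt N6105 F10721) (tt N3488 (iv D6989)) (tt N8679 (iv F11636)) (tt N8698 (iv F11666)))
theorem Q6107 : ∀ i, i < 6107 → P i := stepQ 6106 Q6106 (allL N6106 (tt N8661 (iv F11595)) (tt N8293 F10847) (tt N8679 (iv F11635)) (tt N3488 (iv D6990)) (tt N8706 (iv F11679)))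
theorem Q6108 : ∀ i, i < 6108 → P i := stepQ 6107 Q6107 (allL N6107 (tt N3489 F6828) (tt N8708 (iv F11682)) (tt N8697 (iv F11665)) (tt N8705 (iv F11678)) (tt N3488 (iv D6991)))
theorem Q6109 : ∀ i, i < 6109 → P i := stepQ 6108 Q6108 (allL N6108 (tt N5319 F6830) (tt N8709 D9617) (tt N3490 (iv D6992)) (tt N5053 F6829) (tt N6161 (iv F6890)))
theorem Q6110 : ∀ i, i < 6110 → P i := stepQ 6109 Q6109 (allL N6109 (tt N5320 F6831) (tt N3492 F6832) (tt N8710 D9618) (tt N5058 F6833) (tt N3490 (iv D6993)))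
theorem Q6111 : ∀ i, i < 6111 → P i := stepQ 6110 Q6110 (allL N6110 (tt N6711 F7886) (tt N3491 (iv D6994)) (tt N8711 D9619) (tt N8168 (iv F10584)) (tt N6710 (iv F7887)))
theorem Q6112 : ∀ i, i < 6112 → P i := stepQ 6111 Q6111 (allL N6111 (tt N8668 (iv F11609)) (tt N6710 F7888) (tt N8693 (iv F11661)) (tt N8702 (iv F11674)) (tt N3491 (iv D6995)))
theorem Q6113 : ∀ i, i < 6113 → P i := stepQ 6112 Q6112 (allL N6112 (tt N8641 (iv F11558)) (tt N8080 (iv F10450)) (tt N3492 (iv D6996)) (tt N8700 (iv F11671)) (tt N8079 F10448))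
theorem Q6114 : ∀ i, i < 6114 → P i := stepQ 6113 Q6113 (allL N6113 (tt N6365 (iv F7288)) (tt N6592 (iv F7646)) (tt N3493 (iv D6997)) (tt N6297 (iv F7185)) (tt N6090 F6834))
theorem Q6115 : ∀ i, i < 6115 → P i := stepQ 6114 Q6114 (allL N6114 (tt N6218 (iv F6981)) (tt N3496 F6835) (tt N6089 F6836) (tt N6299 (iv F7190)) (tt N3493 (iv D6998)))
theorem Q6116 : ∀ i, i < 6116 → P i := stepQ 6115 Q6115 (allL N6115 (tt N3494 (iv D6999)) (tt N7477 (iv F9279)) (tt N8712 D9620) (tt N3785 F6837) (tt N8713 D9621))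
theorem Q6117 : ∀ i, i < 6117 → P i := stepQ 6116 Q6116 (allL N6116 (tt N3680 F6838) (tt N3494 (iv D7000)) (tt N4973 (iv F6839)) (tt N8714 D9622) (tt N7273 (iv F8899)))
theorem Q6118 : ∀ i, i < 6118 → P i := stepQ 6117 Q6117 (allL N6117 (tt N8715 D9623) (tt N8714 (iv F11701)) (tt N3495 F6840) (tt N3494 (iv D7001)) (tt N8716 D9624))
theorem Q6119 : ∀ i, i < 6119 → P i := stepQ 6118 Q6118 (allL N6118 (tt N8713 (iv F11695)) (tt N7273 F8901) (tt N8717 D9625) (tt N8718 D9626) (tt N3494 (iv D7002)))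
theorem Q6120 : ∀ i, i < 6120 → P i := stepQ 6119 Q6119 (allL N6119 (tt N3495 (iv D7003)) (tt N4139 F6841) (tt N8719 D9627) (tt N3789 F6842) (tt N8720 D9628))
theorem Q6121 : ∀ i, i < 6121 → P i := stepQ 6120 Q6120 (allL N6120 (tt N8720 (iv F11711)) (tt N6298 (iv F7187)) (tt N8721 D9629) (tt N3525 F6843) (tt N3495 (iv D7004)))
theorem Q6122 : ∀ i, i < 6122 → P i := stepQ 6121 Q6121 (allL N6121 (tt N8722 D9630) (tt N8723 D9631) (tt N3496 (iv D7005)) (tt N8724 D9632) (tt N8725 D9633))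
theorem Q6123 : ∀ i, i < 6123 → P i := stepQ 6122 Q6122 (allL N6122 (tt N8726 D9634) (tt N6299 F7193) (tt N8724 (iv F11723)) (tt N3496 (iv D7006)) (tt N3524 F6844))
theorem Q6124 : ∀ i, i < 6124 → P i := stepQ 6123 Q6123 (allL N6123 (tt N6593 (iv F7649)) (tt N3497 (iv D7007)) (tt N8727 D9635) (tt N8728 D9636) (tt N8729 D9637))
theorem Q6125 : ∀ i, i < 6125 → P i := stepQ 6124 Q6124 (allL N6124 (tt N8712 (iv F11691)) (tt N6124 F11694) (tt N3497 (iv D7008)) (tt N8730 D9638) (tt N8731 D9639))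
theorem Q6126 : ∀ i, i < 6126 → P i := stepQ 6125 Q6125 (allL N6125 (tt N8719 (iv F11710)) (tt N8728 (iv F11731)) (tt N8730 (iv F11734)) (tt N3497 (iv D7009)) (tt N8732 D9640))
theorem Q6127 : ∀ i, i < 6127 → P i := stepQ 6126 Q6126 (allL N6126 (tt N3498 F6845) (tt N8729 (iv F11732)) (tt N8682 F11642) (tt N8733 D9641) (tt N3497 (iv D7010)))
theorem Q6128 : ∀ i, i < 6128 → P i := stepQ 6127 Q6127 (allL N6127 (tt N8717 (iv F11705)) (tt N8620 (iv F11518)) (tt N3498 (iv D7011)) (tt N3521 F6846) (tt N7299 (iv F8956)))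
theorem Q6129 : ∀ i, i < 6129 → P i := stepQ 6128 Q6128 (allL N6128 (tt N3499 (iv D7012)) (tt N8734 D9642) (tt N8731 (iv F11736)) (tt N8735 D9643) (tt N7298 (iv F8953)))
theorem Q6130 : ∀ i, i < 6130 → P i := stepQ 6129 Q6129 (allL N6129 (tt N6906 (iv F8234)) (tt N6604 F8235) (tt N6967 (iv F8320)) (tt N3502 (iv D7013)) (tt N6339 (iv F7251)))
theorem Q6131 : ∀ i, i < 6131 → P i := stepQ 6130 Q6130 (allL N6130 (tt N6220 (iv F6985)) (tt N3900 F6847) (tt N3505 F6848) (tt N3504 (iv D7014)) (tt N6027 (iv F6849)))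
theorem Q6132 : ∀ i, i < 6132 → P i := stepQ 6131 Q6131 (allL N6131 (tt N6171 (iv F6899)) (tt N3512 F6850) (tt N6025 F6851) (tt N3784 (iv F6852)) (tt N3505 (iv D7015)))
theorem Q6133 : ∀ i, i < 6133 → P i := stepQ 6132 Q6132 (allL N6132 (tt N6172 (iv F6906)) (tt N3514 F6853) (tt N6026 F6854) (tt N3506 (iv D7016)) (tt N3783 F6855))
theorem Q6134 : ∀ i, i < 6134 → P i := stepQ 6133 Q6133 (allL N6133 (tt N3516 F6856) (tt N5960 F6857) (tt N3507 (iv D7017)) (tt N8736 D9644) (tt N8737 D9645))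
theorem Q6135 : ∀ i, i < 6135 → P i := stepQ 6134 Q6134 (allL N6134 (tt N3523 F6858) (tt N7478 (iv F9281)) (tt N8736 (iv F11742)) (tt N3507 (iv D7018)) (tt N8738 D9646))
theorem Q6136 : ∀ i, i < 6136 → P i := stepQ 6135 Q6135 (allL N6135 (tt N3510 F6859) (tt N7479 (iv F9284)) (tt N5509 F6860) (tt N8713 F11697) (tt N3507 (iv D7019)))
theorem Q6137 : ∀ i, i < 6137 → P i := stepQ 6136 Q6136 (allL N6136 (tt N4200 F6862) (tt N3509 F6861) (tt N7708 (iv F9704)) (tt N3508 (iv D7020)) (tt N8739 D9647))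
theorem Q6138 : ∀ i, i < 6138 → P i := stepQ 6137 Q6137 (allL N6137 (tt N5548 F6863) (tt N3510 F6864) (tt N4552 F6865) (tt N8740 D9648) (tt N3508 (iv D7021)))
theorem Q6139 : ∀ i, i < 6139 → P i := stepQ 6138 Q6138 (allL N6138 (tt N3509 (iv D7022)) (tt N4400 F6866) (tt N8741 D9649) (tt N8742 D9650) (tt N8743 D9651))
theorem Q6140 : ∀ i, i < 6140 → P i := stepQ 6139 Q6139 (allL N6139 (tt N8743 (iv F11762)) (tt N8739 (iv F11752)) (tt N8744 D9652) (tt N3788 F11699) (tt N3509 (iv D7023)))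
theorem Q6141 : ∀ i, i < 6141 → P i := stepQ 6140 Q6140 (allL N6140 (tt N3521 F6867) (tt N8745 D9653) (tt N3510 (iv D7024)) (tt N8746 D9654) (tt N8613 (iv F11506)))
theorem Q6142 : ∀ i, i < 6142 → P i := stepQ 6141 Q6141 (allL N6141 (tt N8747 D9655) (tt N8740 (iv F11756)) (tt N8746 (iv F11766)) (tt N3510 (iv D7025)) (tt N3787 F11698))
theorem Q6143 : ∀ i, i < 6143 → P i := stepQ 6142 Q6142 (allL N6142 (tt N3517 F6868) (tt N6997 (iv F8390)) (tt N3511 (iv D7026)) (tt N8748 D9656) (tt N8749 D9657))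
theorem Q6144 : ∀ i, i < 6144 → P i := stepQ 6143 Q6143 (allL N6143 (tt N3524 F6869) (tt N4141 F6870) (tt N8748 (iv F11772)) (tt N3511 (iv D7027)) (tt N8726 (iv F11726)))
theorem Q6145 : ∀ i, i < 6145 → P i := stepQ 6144 Q6144 (allL N6144 (tt N3512 F6871) (tt N4142 F6872) (tt N8750 D9658) (tt N8720 (iv F11713)) (tt N3511 (iv D7028)))
theorem Q6146 : ∀ i, i < 6146 → P i := stepQ 6145 Q6145 (allL N6145 (tt N8751 D9659) (tt N8752 D9660) (tt N3512 (iv D7029)) (tt N3790 F6873) (tt N8753 D9661))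
theorem Q6147 : ∀ i, i < 6147 → P i := stepQ 6146 Q6146 (allL N6146 (tt N3513 (iv D7030)) (tt N8421 (iv F11116)) (tt N8737 (iv F11747)) (tt N8722 (iv F11715)) (tt N8754 D9662))
theorem Q6148 : ∀ i, i < 6148 → P i := stepQ 6147 Q6147 (allL N6147 (tt N8755 D9663) (tt N3513 (iv D7031)) (tt N7375 F9422) (tt N8756 D9664) (tt N8757 D9665))
theorem Q6149 : ∀ i, i < 6149 → P i := stepQ 6148 Q6148 (allL N6148 (tt N8758 D9666) (tt N8756 (iv F11783)) (tt N3514 F6874) (tt N3513 (iv D7032)) (tt N8759 D9667))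
theorem Q6150 : ∀ i, i < 6150 → P i := stepQ 6149 Q6149 (allL N6149 (tt N8754 (iv F11776)) (tt N8757 (iv F11785)) (tt N8613 (iv F11507)) (tt N8753 (iv F13157)) (tt N3513 (iv D7033)))
theorem Q6151 : ∀ i, i < 6151 → P i := stepQ 6150 Q6150 (allL N6150 (tt N3514 (iv D7034)) (tt N4266 (iv F6876)) (tt N8760 D9669) (tt N8726 (iv F11725)) (tt N3789 F6875))
theorem Q6152 : ∀ i, i < 6152 → P i := stepQ 6151 Q6151 (allL N6151 (tt N4784 F6877) (tt N3518 F6878) (tt N5496 F6879) (tt N6627 (iv F7714)) (tt N3515 (iv D7035)))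
theorem Q6153 : ∀ i, i < 6153 → P i := stepQ 6152 Q6152 (allL N6152 (tt N8741 (iv F11759)) (tt N3588 F6880) (tt N3517 F6881) (tt N3516 (iv D7036)) (tt N8761 D9670))
theorem Q6154 : ∀ i, i < 6154 → P i := stepQ 6153 Q6153 (allL N6153 (tt N8737 (iv F11745)) (tt N3589 F6882) (tt N3527 F6883) (tt N8762 D9671) (tt N3516 (iv D7037)))
theorem Q6155 : ∀ i, i < 6155 → P i := stepQ 6154 Q6154 (allL N6154 (tt N8749 (iv F11773)) (tt N6615 (iv F7685)) (tt N5507 (iv F6885)) (tt N3793 F6884) (tt N3517 (iv D7038)))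
theorem Q6156 : ∀ i, i < 6156 → P i := stepQ 6155 Q6155 (allL N6155 (tt N8763 D9672) (tt N6627 (iv F7713)) (tt N5510 F6886) (tt N3518 (iv D7039)) (tt N3792 F6887))
theorem Q6157 : ∀ i, i < 6157 → P i := stepQ 6156 Q6156 (allL N6156 (tt N6599 (iv F7662)) (tt N3519 (iv D7040)) (tt N8764 D9673) (tt N8765 D9674) (tt N8766 D9675))
theorem Q6158 : ∀ i, i < 6158 → P i := stepQ 6157 Q6157 (allL N6157 (tt N8736 (iv F11743)) (tt N6157 F11744) (tt N3519 (iv D7041)) (tt N8767 D9676) (tt N8768 D9677))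
theorem Q6159 : ∀ i, i < 6159 → P i := stepQ 6158 Q6158 (allL N6158 (tt N8748 (iv F11770)) (tt N8765 (iv F11799)) (tt N8767 (iv F11802)) (tt N3519 (iv D7042)) (tt N8733 (iv F11738)))
theorem Q6160 : ∀ i, i < 6160 → P i := stepQ 6159 Q6159 (allL N6159 (tt N3520 F6888) (tt N8766 (iv F11800)) (tt N8696 F11664) (tt N8732 (iv F11737)) (tt N3519 (iv D7043)))
theorem Q6161 : ∀ i, i < 6161 → P i := stepQ 6160 Q6160 (allL N6160 (tt N8769 D9678) (tt N8621 (iv F11522)) (tt N3520 (iv D7044)) (tt N3794 F6889) (tt N7321 (iv F8982)))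
theorem Q6162 : ∀ i, i < 6162 → P i := stepQ 6161 Q6161 (allL N6161 (tt N6200 (iv F6947)) (tt N6601 (iv F7661)) (tt N3522 (iv D7045)) (tt N7800 (iv F9923)) (tt N6108 F6890))
theorem Q6163 : ∀ i, i < 6163 → P i := stepQ 6162 Q6162 (allL N6162 (tt N6272 (iv F7125)) (tt N3524 F6891) (tt N7800 (iv F9922)) (tt N3522 (iv D7046)) (tt N6299 (iv F7191)))
theorem Q6164 : ∀ i, i < 6164 → P i := stepQ 6163 Q6163 (allL N6163 (tt N6202 (iv F6953)) (tt N3525 F6892) (tt N7795 (iv F9909)) (tt N6298 (iv F7189)) (tt N3522 (iv D7047)))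
theorem Q6165 : ∀ i, i < 6165 → P i := stepQ 6164 Q6164 (allL N6164 (tt N8078 F10442) (tt N3523 (iv D7048)) (tt N8770 D9679) (tt N8771 D9680) (tt N7281 (iv F10443)))
theorem Q6166 : ∀ i, i < 6166 → P i := stepQ 6165 Q6165 (allL N6165 (tt N8742 (iv F11760)) (tt N8771 (iv F11808)) (tt N3524 F6893) (tt N3523 (iv D7049)) (tt N8718 (iv F11706)))
theorem Q6167 : ∀ i, i < 6167 → P i := stepQ 6166 Q6166 (allL N6166 (tt N8738 (iv F11748)) (tt N7281 F10444) (tt N8769 (iv F11805)) (tt N8716 (iv F11707)) (tt N3523 (iv D7050)))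
theorem Q6168 : ∀ i, i < 6168 → P i := stepQ 6167 Q6167 (allL N6167 (tt N8772 D9681) (tt N8773 D9682) (tt N3525 (iv D7051)) (tt N8721 (iv F11714)) (tt N8774 D9683))
theorem Q6169 : ∀ i, i < 6169 → P i := stepQ 6168 Q6168 (allL N6168 (tt N3526 (iv D7052)) (tt N8775 D9684) (tt N8768 (iv F11804)) (tt N8776 D9685) (tt N7320 (iv F8979)))
theorem Q6170 : ∀ i, i < 6170 → P i := stepQ 6169 Q6169 (allL N6169 (tt N8760 (iv F11787)) (tt N3844 F6894) (tt N8762 (iv F11792)) (tt N3527 (iv D7053)) (tt N8777 D9686))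
theorem Q6171 : ∀ i, i < 6171 → P i := stepQ 6170 Q6170 (allL N6170 (tt N3559 F6897) (tt N3905 F6895) (tt N3529 F6896) (tt N3528 (iv D7054)) (tt N5543 F6898))
theorem Q6172 : ∀ i, i < 6172 → P i := stepQ 6171 Q6171 (allL N6171 (tt N6131 F6899) (tt N3534 F6900) (tt N5541 F6901) (tt N3730 F6902) (tt N3529 (iv D7055)))
theorem Q6173 : ∀ i, i < 6173 → P i := stepQ 6172 Q6172 (allL N6172 (tt N6132 F6906) (tt N3536 F6903) (tt N5542 F6904) (tt N3530 (iv D7056)) (tt N3729 F6905))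
theorem Q6174 : ∀ i, i < 6174 → P i := stepQ 6173 Q6173 (allL N6173 (tt N3546 F6907) (tt N7430 (iv F9193)) (tt N3532 (iv D7057)) (tt N7046 (iv F8461)) (tt N8778 D9687))
theorem Q6175 : ∀ i, i < 6175 → P i := stepQ 6174 Q6174 (allL N6174 (tt N3539 F6908) (tt N8779 D9688) (tt N3533 (iv D7058)) (tt N8780 D9689) (tt N8781 D9690))
theorem Q6176 : ∀ i, i < 6176 → P i := stepQ 6175 Q6175 (allL N6175 (tt N3550 F6909) (tt N4150 F6910) (tt N8780 (iv F11819)) (tt N3533 (iv D7059)) (tt N8782 D9691))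
theorem Q6177 : ∀ i, i < 6177 → P i := stepQ 6176 Q6176 (allL N6176 (tt N3534 F6911) (tt N6902 (iv F8225)) (tt N8783 D9692) (tt N8784 D9693) (tt N3533 (iv D7060)))
theorem Q6178 : ∀ i, i < 6178 → P i := stepQ 6177 Q6177 (allL N6177 (tt N6973 (iv F8333)) (tt N8785 D9694) (tt N3534 (iv D7061)) (tt N3748 F6912) (tt N8786 D9695))
theorem Q6179 : ∀ i, i < 6179 → P i := stepQ 6178 Q6178 (allL N6178 (tt N3535 (iv D7062)) (tt N8443 (iv F11152)) (tt N8599 (iv F11481)) (tt N8787 D9696) (tt N8788 D9697))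
theorem Q6180 : ∀ i, i < 6180 → P i := stepQ 6179 Q6179 (allL N6179 (tt N8789 D9698) (tt N3535 (iv D7063)) (tt N7421 (iv F9180)) (tt N8790 D9699) (tt N8791 D9700))
theorem Q6181 : ∀ i, i < 6181 → P i := stepQ 6180 Q6180 (allL N6180 (tt N7050 (iv F8470)) (tt N8790 (iv F11832)) (tt N3536 F6913) (tt N3535 (iv D7064)) (tt N8792 D9701))
theorem Q6182 : ∀ i, i < 6182 → P i := stepQ 6181 Q6181 (allL N6181 (tt N8788 (iv F11830)) (tt N8791 (iv F11833)) (tt N8778 (iv F11815)) (tt N8786 (iv F13106)) (tt N3535 (iv D7065)))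
theorem Q6183 : ∀ i, i < 6183 → P i := stepQ 6182 Q6182 (allL N6182 (tt N3536 (iv D7066)) (tt N7057 (iv F8488)) (tt N8793 D9703) (tt N8782 (iv F11823)) (tt N3747 F6914))
theorem Q6184 : ∀ i, i < 6184 → P i := stepQ 6183 Q6183 (allL N6183 (tt N6596 (iv F7655)) (tt N3539 F6915) (tt N6946 (iv F8288)) (tt N3537 (iv D7067)) (tt N7752 (iv F9808)))
theorem Q6185 : ∀ i, i < 6185 → P i := stepQ 6184 Q6184 (allL N6184 (tt N7603 (iv F9505)) (tt N3540 F6916) (tt N4636 F6917) (tt N7742 F9786) (tt N3537 (iv D7068)))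
theorem Q6186 : ∀ i, i < 6186 → P i := stepQ 6185 Q6185 (allL N6185 (tt N8599 (iv F11480)) (tt N6360 (iv F7285)) (tt N3553 F6918) (tt N7047 (iv F8463)) (tt N3538 (iv D7069)))
theorem Q6187 : ∀ i, i < 6187 → P i := stepQ 6186 Q6186 (allL N6186 (tt N8781 (iv F11820)) (tt N7752 (iv F9806)) (tt N6978 (iv F8348)) (tt N3752 (iv F6932)) (tt N3539 (iv D7070)))
theorem Q6188 : ∀ i, i < 6188 → P i := stepQ 6187 Q6187 (allL N6187 (tt N8794 D9704) (tt N7742 (iv F9784)) (tt N7051 (iv F8472)) (tt N3540 (iv D7071)) (tt N3751 F6933))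
theorem Q6189 : ∀ i, i < 6189 → P i := stepQ 6188 Q6188 (allL N6188 (tt N3543 F6919) (tt N4566 F6920) (tt N4825 F6921) (tt N4993 (iv F6922)) (tt N3541 (iv D7072)))
theorem Q6190 : ∀ i, i < 6190 → P i := stepQ 6189 Q6189 (allL N6189 (tt N3542 (iv D7073)) (tt N7395 (iv F9131)) (tt N4912 F6923) (tt N4911 F6924) (tt N4986 (iv F6925)))
theorem Q6191 : ∀ i, i < 6191 → P i := stepQ 6190 Q6190 (allL N6190 (tt N4986 F6926) (tt N3545 F6927) (tt N4982 F6928) (tt N3756 (iv F6929)) (tt N3542 (iv D7074)))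
theorem Q6192 : ∀ i, i < 6192 → P i := stepQ 6191 Q6191 (allL N6191 (tt N4985 F6937) (tt N3547 F6934) (tt N4980 F6935) (tt N3543 (iv D7075)) (tt N3755 F6936))
theorem Q6193 : ∀ i, i < 6193 → P i := stepQ 6192 Q6192 (allL N6192 (tt N6606 F7672) (tt N3544 (iv D7076)) (tt N7696 (iv F9677)) (tt N7695 (iv F9671)) (tt N8795 D9705))
theorem Q6194 : ∀ i, i < 6194 → P i := stepQ 6193 Q6193 (allL N6193 (tt N8598 (iv F11478)) (tt N6193 F9674) (tt N3544 (iv D7077)) (tt N6971 F9673) (tt N8796 D9706))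
theorem Q6195 : ∀ i, i < 6195 → P i := stepQ 6194 Q6194 (allL N6194 (tt N8780 (iv F11818)) (tt N7695 F9670) (tt N6971 (iv F9672)) (tt N3544 (iv D7078)) (tt N8797 D9707))
theorem Q6196 : ∀ i, i < 6196 → P i := stepQ 6195 Q6195 (allL N6195 (tt N3545 F6938) (tt N8795 (iv F11837)) (tt N8357 (iv F12468)) (tt N8798 D9709) (tt N3544 (iv D7079)))
theorem Q6197 : ∀ i, i < 6197 → P i := stepQ 6196 Q6196 (allL N6196 (tt N8799 D9710) (tt N4693 F6940) (tt N3545 (iv D7080)) (tt N3758 F6939) (tt N8800 D9711))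
theorem Q6198 : ∀ i, i < 6198 → P i := stepQ 6197 Q6197 (allL N6197 (tt N8801 D9712) (tt N4683 F6941) (tt N3547 F6942) (tt N3546 (iv D7081)) (tt N8802 D9713))
theorem Q6199 : ∀ i, i < 6199 → P i := stepQ 6198 Q6198 (allL N6198 (tt N8778 (iv F11814)) (tt N4684 F6943) (tt N3556 F6944) (tt N8800 F11845) (tt N3546 (iv D7082)))
theorem Q6200 : ∀ i, i < 6200 → P i := stepQ 6199 Q6199 (allL N6199 (tt N3547 (iv D7083)) (tt N8803 D9714) (tt N8347 (iv F12471)) (tt N8797 (iv F11840)) (tt N3757 F6945))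
theorem Q6201 : ∀ i, i < 6201 → P i := stepQ 6200 Q6200 (allL N6200 (tt N6161 F6947) (tt N6608 (iv F7669)) (tt N3548 (iv D7084)) (tt N5325 (iv F6948)) (tt N5319 F6946))
theorem Q6202 : ∀ i, i < 6202 → P i := stepQ 6201 Q6201 (allL N6201 (tt N3600 F6951) (tt N3550 F6949) (tt N5325 F6950) (tt N3548 (iv D7085)) (tt N3674 (iv F6952)))
theorem Q6203 : ∀ i, i < 6203 → P i := stepQ 6202 Q6202 (allL N6202 (tt N6163 F6953) (tt N3551 F6954) (tt N5310 (iv F6956)) (tt N3673 F6955) (tt N3548 (iv D7086)))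
theorem Q6204 : ∀ i, i < 6204 → P i := stepQ 6203 Q6203 (allL N6203 (tt N6674 F7816) (tt N3549 (iv D7087)) (tt N7264 (iv F8878)) (tt N6975 (iv F8342)) (tt N4445 (iv F7817)))
theorem Q6205 : ∀ i, i < 6205 → P i := stepQ 6204 Q6204 (allL N6204 (tt N8600 (iv F11482)) (tt N4445 F7818) (tt N8799 (iv F11842)) (tt N6982 (iv F8361)) (tt N3549 (iv D7088)))
theorem Q6206 : ∀ i, i < 6206 → P i := stepQ 6205 Q6205 (allL N6205 (tt N8782 (iv F11821)) (tt N3674 F6957) (tt N8804 D9716) (tt N3557 F6958) (tt N3550 (iv D7089)))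
theorem Q6207 : ∀ i, i < 6207 → P i := stepQ 6206 Q6206 (allL N6206 (tt N8805 D9717) (tt N8806 D9718) (tt N3551 (iv D7090)) (tt N8807 D9719) (tt N8808 D9720))
theorem Q6208 : ∀ i, i < 6208 → P i := stepQ 6207 Q6207 (allL N6207 (tt N8784 (iv F11825)) (tt N3673 F6959) (tt N8807 (iv F11853)) (tt N3551 (iv D7091)) (tt N3671 F6960))
theorem Q6209 : ∀ i, i < 6209 → P i := stepQ 6208 Q6208 (allL N6208 (tt N3552 (iv D7092)) (tt N8809 D9721) (tt N8796 (iv F11839)) (tt N8810 D9722) (tt N8811 D9723))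
theorem Q6210 : ∀ i, i < 6210 → P i := stepQ 6209 Q6209 (allL N6209 (tt N4511 (iv F6964)) (tt N3552 (iv D7093)) (tt N4498 F6961) (tt N3761 F6962) (tt N4473 (iv F6963)))
theorem Q6211 : ∀ i, i < 6211 → P i := stepQ 6210 Q6210 (allL N6210 (tt N8811 (iv F11858)) (tt N4473 F6965) (tt N8800 (iv F11844)) (tt N3556 (iv F6966)) (tt N3552 (iv D7094)))
theorem Q6212 : ∀ i, i < 6212 → P i := stepQ 6211 Q6211 (allL N6211 (tt N4748 F6967) (tt N3553 (iv D7095)) (tt N4332 F6968) (tt N4343 (iv F6969)) (tt N8812 D9724))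
theorem Q6213 : ∀ i, i < 6213 → P i := stepQ 6212 Q6212 (allL N6212 (tt N8793 (iv F11835)) (tt N4343 F6970) (tt N7047 F8464) (tt N3553 (iv D7096)) (tt N8813 D9725))
theorem Q6214 : ∀ i, i < 6214 → P i := stepQ 6213 Q6213 (allL N6213 (tt N3556 F6971) (tt N8812 (iv F11860)) (tt N7891 (iv F10067)) (tt N8814 D9726) (tt N3553 (iv D7097)))
theorem Q6215 : ∀ i, i < 6215 → P i := stepQ 6214 Q6214 (allL N6214 (tt N3554 (iv D7098)) (tt N7383 (iv F9097)) (tt N4570 F6974) (tt N4522 F6973) (tt N4519 F6972))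
theorem Q6216 : ∀ i, i < 6216 → P i := stepQ 6215 Q6215 (allL N6215 (tt N4506 F6975) (tt N3555 F6976) (tt N4482 F6977) (tt N3554 (iv D7099)) (tt N4460 (iv F6978)))
theorem Q6217 : ∀ i, i < 6217 → P i := stepQ 6216 Q6216 (allL N6216 (tt N3555 (iv D7100)) (tt N8815 D9727) (tt N8816 D9728) (tt N8817 D9729) (tt N8818 D9730))
theorem Q6218 : ∀ i, i < 6218 → P i := stepQ 6217 Q6217 (allL N6217 (tt N8818 (iv F11873)) (tt N4460 F6979) (tt N8802 (iv F11848)) (tt N3762 F6980) (tt N3555 (iv D7101)))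
theorem Q6219 : ∀ i, i < 6219 → P i := stepQ 6218 Q6218 (allL N6218 (tt N6114 F6981) (tt N3557 (iv D7102)) (tt N5309 F6984) (tt N3674 F6982) (tt N3672 F6983))
theorem Q6220 : ∀ i, i < 6220 → P i := stepQ 6219 Q6219 (allL N6219 (tt N8787 (iv F11829)) (tt N8819 D9731) (tt N3557 (iv D7103)) (tt N8804 (iv F11851)) (tt N8820 D9732))
theorem Q6221 : ∀ i, i < 6221 → P i := stepQ 6220 Q6220 (allL N6220 (tt N6130 F6985) (tt N6595 (iv F7652)) (tt N3560 F6986) (tt N3558 (iv D7104)) (tt N5163 F6987))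
theorem Q6222 : ∀ i, i < 6222 → P i := stepQ 6221 Q6221 (allL N6221 (tt N3561 F6988) (tt N3659 F6989) (tt N4349 F6990) (tt N3653 F6991) (tt N3560 (iv D7105)))
theorem Q6223 : ∀ i, i < 6223 → P i := stepQ 6222 Q6222 (allL N6222 (tt N3562 (iv D7106)) (tt N3657 (iv F6995)) (tt N5162 F6992) (tt N3668 F6993) (tt N3652 F6994))
theorem Q6224 : ∀ i, i < 6224 → P i := stepQ 6223 Q6223 (allL N6223 (tt N5214 F6998) (tt N3565 F6996) (tt N3956 F6997) (tt N3563 (iv D7107)) (tt N8821 D9733))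
theorem Q6225 : ∀ i, i < 6225 → P i := stepQ 6224 Q6224 (allL N6224 (tt N5242 F6999) (tt N3566 F7000) (tt N8063 (iv F10394)) (tt N3676 (iv F7001)) (tt N3563 (iv D7108)))
theorem Q6226 : ∀ i, i < 6226 → P i := stepQ 6225 Q6225 (allL N6225 (tt N3594 F7005) (tt N4219 F7003) (tt N3565 F7004) (tt N3564 (iv D7109)) (tt N8822 D9734))
theorem Q6227 : ∀ i, i < 6227 → P i := stepQ 6226 Q6226 (allL N6226 (tt N3589 F7009) (tt N4222 (iv F7013)) (tt N3579 F7011) (tt N3678 (iv F7012)) (tt N3564 (iv D7110)))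
theorem Q6228 : ∀ i, i < 6228 → P i := stepQ 6227 Q6227 (allL N6227 (tt N3604 F7015) (tt N8821 (iv F11875)) (tt N8212 (iv F10684)) (tt N3679 F7016) (tt N3565 (iv D7111)))
theorem Q6229 : ∀ i, i < 6229 → P i := stepQ 6228 Q6228 (allL N6228 (tt N3570 F7017) (tt N7666 (iv F9623)) (tt N4796 F7018) (tt N7787 (iv F9893)) (tt N3567 (iv D7112)))
theorem Q6230 : ∀ i, i < 6230 → P i := stepQ 6229 Q6229 (allL N6229 (tt N8823 D9735) (tt N3911 F7019) (tt N3569 F7020) (tt N3568 (iv D7113)) (tt N5554 (iv F7021)))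
theorem Q6231 : ∀ i, i < 6231 → P i := stepQ 6230 Q6230 (allL N6230 (tt N3569 (iv D7114)) (tt N4201 (iv F7024)) (tt N4200 F7023) (tt N4200 F7022) (tt N6750 (iv F7946)))
theorem Q6232 : ∀ i, i < 6232 → P i := stepQ 6231 Q6231 (allL N6231 (tt N6750 (iv F7945)) (tt N3572 F7025) (tt N5551 F7026) (tt N3736 (iv F7027)) (tt N3569 (iv D7115)))
theorem Q6233 : ∀ i, i < 6233 → P i := stepQ 6232 Q6232 (allL N6232 (tt N8824 D9736) (tt N3574 F7028) (tt N5552 F7029) (tt N3570 (iv D7116)) (tt N3735 F7030))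
theorem Q6234 : ∀ i, i < 6234 → P i := stepQ 6233 Q6233 (allL N6233 (tt N3603 F7031) (tt N6811 (iv F8069)) (tt N6969 (iv F8325)) (tt N3571 (iv D7117)) (tt N3692 (iv F7032)))
theorem Q6235 : ∀ i, i < 6235 → P i := stepQ 6234 Q6234 (allL N6234 (tt N3572 F7033) (tt N6812 (iv F8073)) (tt N6803 (iv F8059)) (tt N3688 F7034) (tt N3571 (iv D7118)))
theorem Q6236 : ∀ i, i < 6236 → P i := stepQ 6235 Q6235 (allL N6235 (tt N8825 D9737) (tt N8826 D9738) (tt N3572 (iv D7119)) (tt N3727 F7035) (tt N7387 (iv F9110)))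
theorem Q6237 : ∀ i, i < 6237 → P i := stepQ 6236 Q6236 (allL N6236 (tt N8827 D9739) (tt N3573 (iv D7120)) (tt N8828 D9740) (tt N8829 D9741) (tt N7386 (iv F9107)))
theorem Q6238 : ∀ i, i < 6238 → P i := stepQ 6237 Q6237 (allL N6237 (tt N8830 D9742) (tt N8829 (iv F11898)) (tt N3574 F7036) (tt N3573 (iv D7121)) (tt N7404 (iv F9154)))
theorem Q6239 : ∀ i, i < 6239 → P i := stepQ 6238 Q6238 (allL N6238 (tt N3574 (iv D7122)) (tt N7055 (iv F8482)) (tt N6881 F8172) (tt N3692 F7037) (tt N3687 F7038))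
theorem Q6240 : ∀ i, i < 6240 → P i := stepQ 6239 Q6239 (allL N6239 (tt N3595 F7039) (tt N4182 F7040) (tt N3576 F7041) (tt N3575 (iv D7123)) (tt N3718 (iv F7044)))
theorem Q6241 : ∀ i, i < 6241 → P i := stepQ 6240 Q6240 (allL N6240 (tt N3590 F7045) (tt N4183 F7046) (tt N8825 (iv F11889)) (tt N3697 F7047) (tt N3575 (iv D7124)))
theorem Q6242 : ∀ i, i < 6242 → P i := stepQ 6241 Q6241 (allL N6241 (tt N3741 F7049) (tt N4170 F7051) (tt N3577 (iv D7125)) (tt N3698 F7048) (tt N4168 (iv F7050)))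
theorem Q6243 : ∀ i, i < 6243 → P i := stepQ 6242 Q6242 (allL N6242 (tt N3578 (iv D7126)) (tt N6821 (iv F8102)) (tt N6970 (iv F8329)) (tt N3699 F7052) (tt N6801 F8050))
theorem Q6244 : ∀ i, i < 6244 → P i := stepQ 6243 Q6243 (allL N6243 (tt N8831 D9743) (tt N3578 (iv D7127)) (tt N6521 (iv F7544)) (tt N3738 F7053) (tt N8832 D9744))
theorem Q6245 : ∀ i, i < 6245 → P i := stepQ 6244 Q6244 (allL N6244 (tt N6801 (iv F8049)) (tt N8832 (iv F11905)) (tt N7387 (iv F9108)) (tt N3582 F7334) (tt N3578 (iv D7128)))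
theorem Q6246 : ∀ i, i < 6246 → P i := stepQ 6245 Q6245 (allL N6245 (tt N5260 F7055) (tt N3579 (iv D7129)) (tt N8179 (iv F10607)) (tt N3702 F7054) (tt N3960 F7059))
theorem Q6247 : ∀ i, i < 6247 → P i := stepQ 6246 Q6246 (allL N6246 (tt N3582 F7056) (tt N3960 (iv F7058)) (tt N3949 F7057) (tt N8833 D9745) (tt N3579 (iv D7130)))
theorem Q6248 : ∀ i, i < 6248 → P i := stepQ 6247 Q6247 (allL N6247 (tt N3580 (iv D7131)) (tt N8834 D9746) (tt N8755 (iv F11780)) (tt N8755 (iv F11781)) (tt N7623 F9555))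
theorem Q6249 : ∀ i, i < 6249 → P i := stepQ 6248 Q6248 (allL N6248 (tt N7371 (iv F9071)) (tt N4756 F7060) (tt N3580 (iv D7132)) (tt N6530 (iv F7563)) (tt N5571 F7061))
theorem Q6250 : ∀ i, i < 6250 → P i := stepQ 6249 Q6249 (allL N6249 (tt N8835 D9747) (tt N3581 F7062) (tt N6530 (iv F7562)) (tt N3580 (iv D7133)) (tt N8836 D9748))
theorem Q6251 : ∀ i, i < 6251 → P i := stepQ 6250 Q6250 (allL N6250 (tt N7623 (iv F9554)) (tt N3582 F7063) (tt N5568 F7064) (tt N8832 F11907) (tt N3580 (iv D7134)))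
theorem Q6252 : ∀ i, i < 6252 → P i := stepQ 6251 Q6251 (allL N6251 (tt N3581 (iv D7135)) (tt N6890 (iv F8192)) (tt N7048 (iv F8467)) (tt N3708 F7065) (tt N6880 F8168))
theorem Q6253 : ∀ i, i < 6253 → P i := stepQ 6252 Q6252 (allL N6252 (tt N6880 (iv F8167)) (tt N8836 (iv F11917)) (tt N7404 (iv F9153)) (tt N3739 (iv F7333)) (tt N3581 (iv D7136)))
theorem Q6254 : ∀ i, i < 6254 → P i := stepQ 6253 Q6253 (allL N6253 (tt N3608 F7067) (tt N4433 F7069) (tt N3583 (iv D7138)) (tt N3711 F7066) (tt N4432 (iv F7068)))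
theorem Q6255 : ∀ i, i < 6255 → P i := stepQ 6254 Q6254 (allL N6254 (tt N8765 (iv F11798)) (tt N5965 F7070) (tt N4744 F7071) (tt N3584 (iv D7139)) (tt N8837 D9749))
theorem Q6256 : ∀ i, i < 6256 → P i := stepQ 6255 Q6255 (allL N6255 (tt N3587 F7072) (tt N5966 F7073) (tt N8838 D9750) (tt N8839 D9751) (tt N3584 (iv D7140)))
theorem Q6257 : ∀ i, i < 6257 → P i := stepQ 6256 Q6256 (allL N6256 (tt N8840 D9752) (tt N6614 (iv F7682)) (tt N3586 F7074) (tt N3585 (iv D7141)) (tt N5607 (iv F7075)))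
theorem Q6258 : ∀ i, i < 6258 → P i := stepQ 6257 Q6257 (allL N6257 (tt N6600 (iv F7660)) (tt N3590 F7077) (tt N8841 D9753) (tt N3722 (iv F7078)) (tt N3586 (iv D7142)))
theorem Q6259 : ∀ i, i < 6259 → P i := stepQ 6258 Q6258 (allL N6258 (tt N8609 (iv F11496)) (tt N6064 F7079) (tt N3587 (iv D7143)) (tt N8842 D9754) (tt N5580 F7080))
theorem Q6260 : ∀ i, i < 6260 → P i := stepQ 6259 Q6259 (allL N6259 (tt N6649 (iv F7759)) (tt N3592 F7082) (tt N8842 (iv F11933)) (tt N3587 (iv D7144)) (tt N3721 F7083))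
theorem Q6261 : ∀ i, i < 6261 → P i := stepQ 6260 Q6260 (allL N6260 (tt N6970 (iv F8327)) (tt N8761 (iv F11788)) (tt N3741 F7084) (tt N3725 (iv F7085)) (tt N3588 (iv D7145)))
theorem Q6262 : ∀ i, i < 6262 → P i := stepQ 6261 Q6261 (allL N6261 (tt N7048 (iv F8465)) (tt N8762 (iv F11791)) (tt N3608 F7086) (tt N3589 (iv D7146)) (tt N3724 F7087))
theorem Q6263 : ∀ i, i < 6263 → P i := stepQ 6262 Q6262 (allL N6262 (tt N6803 (iv F8056)) (tt N6065 F7377) (tt N3590 (iv D7147)) (tt N3726 F7088) (tt N6800 (iv F8046)))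
theorem Q6264 : ∀ i, i < 6264 → P i := stepQ 6263 Q6263 (allL N6263 (tt N6881 (iv F8169)) (tt N6067 F7089) (tt N3592 F7090) (tt N3591 (iv D7148)) (tt N6879 F8164))
theorem Q6265 : ∀ i, i < 6265 → P i := stepQ 6264 Q6264 (allL N6264 (tt N3592 (iv D7149)) (tt N4277 (iv F7093)) (tt N8830 (iv F11899)) (tt N3718 F7091) (tt N3696 F7092))
theorem Q6266 : ∀ i, i < 6266 → P i := stepQ 6265 Q6265 (allL N6265 (tt N4927 F7096) (tt N6265 F7094) (tt N3593 (iv D7150)) (tt N5592 (iv F7097)) (tt N5588 F7095))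
theorem Q6267 : ∀ i, i < 6267 → P i := stepQ 6266 Q6266 (allL N6266 (tt N4783 F7098) (tt N3595 F7099) (tt N5592 F7100) (tt N3593 (iv D7151)) (tt N3715 (iv F7101)))
theorem Q6268 : ∀ i, i < 6268 → P i := stepQ 6267 Q6267 (allL N6267 (tt N6616 (iv F7687)) (tt N3596 F7107) (tt N8207 (iv F10669)) (tt N3714 F7108) (tt N3593 (iv D7152)))
theorem Q6269 : ∀ i, i < 6269 → P i := stepQ 6268 Q6268 (allL N6268 (tt N6969 (iv F8323)) (tt N6268 F7109) (tt N3595 F7110) (tt N3594 (iv D7153)) (tt N3717 F7111))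
theorem Q6270 : ∀ i, i < 6270 → P i := stepQ 6269 Q6269 (allL N6269 (tt N8822 (iv F11877)) (tt N6269 F7113) (tt N3606 F7115) (tt N3716 F7114) (tt N3594 (iv D7154)))
theorem Q6271 : ∀ i, i < 6271 → P i := stepQ 6270 Q6270 (allL N6270 (tt N3597 (iv D7155)) (tt N8843 D9755) (tt N3604 F7116) (tt N3689 (iv F7117)) (tt N7388 (iv F9111)))
theorem Q6272 : ∀ i, i < 6272 → P i := stepQ 6271 Q6271 (allL N6271 (tt N3599 F7121) (tt N4923 F7123) (tt N3598 (iv D7156)) (tt N5057 (iv F7124)) (tt N5054 F7122))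
theorem Q6273 : ∀ i, i < 6273 → P i := stepQ 6272 Q6272 (allL N6272 (tt N6162 F7125) (tt N3610 F7126) (tt N5057 F7127) (tt N3598 (iv D7157)) (tt N3619 F7128))
theorem Q6274 : ∀ i, i < 6274 → P i := stepQ 6273 Q6273 (allL N6273 (tt N3601 F7131) (tt N3611 F7132) (tt N5050 F7134) (tt N3618 F7133) (tt N3598 (iv D7158)))
theorem Q6275 : ∀ i, i < 6275 → P i := stepQ 6274 Q6274 (allL N6274 (tt N3602 (iv D7159)) (tt N4214 F7136) (tt N6274 F7135) (tt N8078 (iv F10441)) (tt N8076 F10434))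
theorem Q6276 : ∀ i, i < 6276 → P i := stepQ 6275 Q6275 (allL N6275 (tt N4916 F7137) (tt N6618 (iv F7694)) (tt N3602 (iv D7160)) (tt N5368 (iv F7141)) (tt N5363 F7142))
theorem Q6277 : ∀ i, i < 6277 → P i := stepQ 6276 Q6276 (allL N6276 (tt N7679 (iv F9639)) (tt N3603 F7138) (tt N5368 F7140) (tt N3602 (iv D7161)) (tt N3684 (iv F7139)))
theorem Q6278 : ∀ i, i < 6278 → P i := stepQ 6277 Q6277 (allL N6277 (tt N8076 (iv F10433)) (tt N3604 F7143) (tt N5355 (iv F7145)) (tt N3683 F7144) (tt N3602 (iv D7162)))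
theorem Q6279 : ∀ i, i < 6279 → P i := stepQ 6278 Q6278 (allL N6278 (tt N3605 (iv D7163)) (tt N8844 D9756) (tt N8822 (iv F11880)) (tt N3737 F7146) (tt N8833 (iv F11911)))
theorem Q6280 : ∀ i, i < 6280 → P i := stepQ 6279 Q6279 (allL N6279 (tt N8845 D9757) (tt N3605 (iv D7164)) (tt N8846 D9758) (tt N3700 F7147) (tt N8847 D9759))
theorem Q6281 : ∀ i, i < 6281 → P i := stepQ 6280 Q6280 (allL N6280 (tt N8833 (iv F11908)) (tt N8847 (iv F11944)) (tt N7388 (iv F9112)) (tt N3709 F7148) (tt N3605 (iv D7165)))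
theorem Q6282 : ∀ i, i < 6282 → P i := stepQ 6281 Q6281 (allL N6281 (tt N3840 F7150) (tt N3606 (iv D7166)) (tt N5462 F7151) (tt N5461 F7149) (tt N7389 (iv F9116)))
theorem Q6283 : ∀ i, i < 6283 → P i := stepQ 6282 Q6282 (allL N6282 (tt N6493 (iv F7497)) (tt N3608 F7158) (tt N5493 F7159) (tt N3607 (iv D7167)) (tt N7406 (iv F9159)))
theorem Q6284 : ∀ i, i < 6284 → P i := stepQ 6283 Q6283 (allL N6283 (tt N4213 F7160) (tt N3609 (iv D7168)) (tt N4915 F7161) (tt N7079 (iv F8531)) (tt N7076 F8524))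
theorem Q6285 : ∀ i, i < 6285 → P i := stepQ 6284 Q6284 (allL N6284 (tt N5968 F7164) (tt N7079 (iv F8530)) (tt N3610 F7162) (tt N3609 (iv D7169)) (tt N3624 F7163))
theorem Q6286 : ∀ i, i < 6286 → P i := stepQ 6285 Q6285 (allL N6285 (tt N4220 F7165) (tt N7076 (iv F8521)) (tt N8848 D9760) (tt N3622 F7166) (tt N3609 (iv D7170)))
theorem Q6287 : ∀ i, i < 6287 → P i := stepQ 6286 Q6286 (allL N6286 (tt N3610 (iv D7171)) (tt N4148 F7167) (tt N8849 D9761) (tt N4147 F7168) (tt N3634 F7169))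
theorem Q6288 : ∀ i, i < 6288 → P i := stepQ 6287 Q6287 (allL N6287 (tt N8850 D9762) (tt N8851 D9763) (tt N3611 (iv D7172)) (tt N3629 F7170) (tt N8852 D9764))
theorem Q6289 : ∀ i, i < 6289 → P i := stepQ 6288 Q6288 (allL N6288 (tt N6619 (iv F7695)) (tt N3612 (iv D7173)) (tt N4926 F7171) (tt N8853 D9765) (tt N8854 D9766))
theorem Q6290 : ∀ i, i < 6290 → P i := stepQ 6289 Q6289 (allL N6289 (tt N4219 F7172) (tt N6289 F7173) (tt N3612 (iv D7174)) (tt N8855 D9767) (tt N8856 D9768))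
theorem Q6291 : ∀ i, i < 6291 → P i := stepQ 6290 Q6290 (allL N6290 (tt N8849 (iv F11950)) (tt N8853 (iv F11959)) (tt N8855 (iv F11966)) (tt N3612 (iv D7175)) (tt N3640 F7174))
theorem Q6292 : ∀ i, i < 6292 → P i := stepQ 6291 Q6291 (allL N6291 (tt N3614 F7175) (tt N8854 (iv F11962)) (tt N7878 (iv F10040)) (tt N3639 F7176) (tt N3612 (iv D7176)))
theorem Q6293 : ∀ i, i < 6293 → P i := stepQ 6292 Q6292 (allL N6292 (tt N7715 (iv F9726)) (tt N3614 F7177) (tt N7718 (iv F9737)) (tt N3641 F7178) (tt N3613 (iv D7177)))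
theorem Q6294 : ∀ i, i < 6294 → P i := stepQ 6293 Q6293 (allL N6293 (tt N8848 (iv F11947)) (tt N4685 F7180) (tt N3614 (iv D7178)) (tt N3647 F7179) (tt N8857 D9769))
theorem Q6295 : ∀ i, i < 6295 → P i := stepQ 6294 Q6294 (allL N6294 (tt N3615 (iv D7179)) (tt N7122 (iv F8605)) (tt N8856 (iv F11972)) (tt N7121 F8602) (tt N8858 D9770))
theorem Q6296 : ∀ i, i < 6296 → P i := stepQ 6295 Q6295 (allL N6295 (tt N7326 (iv F8992)) (tt N3615 (iv D7180)) (tt N7310 (iv F8970)) (tt N3661 F7181) (tt N7267 (iv F8887)))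
theorem Q6297 : ∀ i, i < 6297 → P i := stepQ 6296 Q6296 (allL N6296 (tt N8858 (iv F11976)) (tt N7267 (iv F8885)) (tt N8857 (iv F11974)) (tt N3667 F7182) (tt N3615 (iv D7181)))
theorem Q6298 : ∀ i, i < 6298 → P i := stepQ 6297 Q6297 (allL N6297 (tt N3616 (iv D7182)) (tt N7575 (iv F9437)) (tt N3617 F7184) (tt N6113 F7185) (tt N5053 F7183))
theorem Q6299 : ∀ i, i < 6299 → P i := stepQ 6298 Q6298 (allL N6298 (tt N3618 F7186) (tt N6120 F7187) (tt N5049 F7188) (tt N6163 F7189) (tt N3617 (iv D7183)))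
theorem Q6300 : ∀ i, i < 6300 → P i := stepQ 6299 Q6299 (allL N6299 (tt N3619 (iv D7184)) (tt N6122 (iv F7193)) (tt N5051 F7192) (tt N6114 F7190) (tt N6162 F7191))
theorem Q6301 : ∀ i, i < 6301 → P i := stepQ 6300 Q6300 (allL N6300 (tt N3620 (iv D7185)) (tt N4837 F7194) (tt N6300 F7195) (tt N4835 F7196) (tt N7075 (iv F8520)))
theorem Q6302 : ∀ i, i < 6302 → P i := stepQ 6301 Q6301 (allL N6301 (tt N3637 F7197) (tt N8859 D9771) (tt N3621 (iv D7186)) (tt N8860 D9772) (tt N8861 D9773))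
theorem Q6303 : ∀ i, i < 6303 → P i := stepQ 6302 Q6302 (allL N6302 (tt N3655 F7198) (tt N3939 F7199) (tt N8860 (iv F11981)) (tt N3621 (iv D7187)) (tt N8862 D9774))
theorem Q6304 : ∀ i, i < 6304 → P i := stepQ 6303 Q6303 (allL N6303 (tt N3622 F7200) (tt N5957 F7201) (tt N7877 (iv F10038)) (tt N8863 D9775) (tt N3621 (iv D7188)))
theorem Q6305 : ∀ i, i < 6305 → P i := stepQ 6304 Q6304 (allL N6304 (tt N8864 D9776) (tt N7104 (iv F8572)) (tt N3622 (iv D7189)) (tt N8848 (iv F11948)) (tt N8865 D9777))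
theorem Q6306 : ∀ i, i < 6306 → P i := stepQ 6305 Q6305 (allL N6305 (tt N8866 D9778) (tt N7112 (iv F8588)) (tt N3624 F7202) (tt N3623 (iv D7190)) (tt N8867 D9779))
theorem Q6307 : ∀ i, i < 6307 → P i := stepQ 6306 Q6306 (allL N6306 (tt N3649 F7203) (tt N6376 (iv F7308)) (tt N3633 F7204) (tt N8865 (iv F11992)) (tt N3623 (iv D7191)))
theorem Q6308 : ∀ i, i < 6308 → P i := stepQ 6307 Q6307 (allL N6307 (tt N3624 (iv D7192)) (tt N5970 (iv F7206)) (tt N7881 (iv F10048)) (tt N8862 (iv F11986)) (tt N5968 F7205))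
theorem Q6309 : ∀ i, i < 6309 → P i := stepQ 6308 Q6308 (allL N6308 (tt N6901 (iv F8222)) (tt N3628 F7207) (tt N7826 (iv F9969)) (tt N4149 F7208) (tt N3625 (iv D7193)))
theorem Q6310 : ∀ i, i < 6310 → P i := stepQ 6309 Q6309 (allL N6309 (tt N8868 D9780) (tt N3626 (iv D7194)) (tt N8869 D9781) (tt N8870 D9782) (tt N8871 D9783))
theorem Q6311 : ∀ i, i < 6311 → P i := stepQ 6310 Q6310 (allL N6310 (tt N3645 F7209) (tt N8870 (iv F11997)) (tt N3627 F7210) (tt N3626 (iv D7195)) (tt N8872 D9784))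
theorem Q6312 : ∀ i, i < 6312 → P i := stepQ 6311 Q6311 (allL N6311 (tt N3639 F7211) (tt N8871 (iv F12000)) (tt N8864 (iv F11990)) (tt N8873 D9785) (tt N3626 (iv D7196)))
theorem Q6313 : ∀ i, i < 6313 → P i := stepQ 6312 Q6312 (allL N6312 (tt N3657 F7212) (tt N4269 F7213) (tt N8874 D9786) (tt N3634 F7214) (tt N3627 (iv D7197)))
theorem Q6314 : ∀ i, i < 6314 → P i := stepQ 6313 Q6313 (allL N6313 (tt N7121 (iv F8601)) (tt N8875 D9787) (tt N3628 (iv D7198)) (tt N8876 D9788) (tt N8877 D9789))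
theorem Q6315 : ∀ i, i < 6315 → P i := stepQ 6314 Q6314 (allL N6314 (tt N3659 F7215) (tt N4149 F7216) (tt N8876 (iv F12008)) (tt N3628 (iv D7199)) (tt N4147 F7217))
theorem Q6316 : ∀ i, i < 6316 → P i := stepQ 6315 Q6315 (allL N6315 (tt N3629 (iv D7200)) (tt N8878 D9790) (tt N8861 (iv F11983)) (tt N8879 D9791) (tt N8880 D9792))
theorem Q6317 : ∀ i, i < 6317 → P i := stepQ 6316 Q6316 (allL N6316 (tt N8881 D9793) (tt N3629 (iv D7201)) (tt N7085 (iv F8540)) (tt N8851 (iv F11956)) (tt N8882 D9794))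
theorem Q6318 : ∀ i, i < 6318 → P i := stepQ 6317 Q6317 (allL N6317 (tt N8880 (iv F12011)) (tt N8882 (iv F12013)) (tt N8865 (iv F11991)) (tt N3633 F11954) (tt N3629 (iv D7202)))
theorem Q6319 : ∀ i, i < 6319 → P i := stepQ 6318 Q6318 (allL N6318 (tt N3669 F7220) (tt N5792 F7218) (tt N4222 F7219) (tt N3630 (iv D7203)) (tt N8069 (iv F10412)))
theorem Q6320 : ∀ i, i < 6320 → P i := stepQ 6319 Q6319 (allL N6319 (tt N3631 (iv D7204)) (tt N5839 F7221) (tt N6319 F7222) (tt N8883 D9795) (tt N6690 (iv F7854)))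
theorem Q6321 : ∀ i, i < 6321 → P i := stepQ 6320 Q6320 (allL N6320 (tt N8884 D9796) (tt N3632 F7223) (tt N7089 (iv F8550)) (tt N3631 (iv D7205)) (tt N8885 D9797))
theorem Q6322 : ∀ i, i < 6322 → P i := stepQ 6321 Q6321 (allL N6321 (tt N6690 (iv F7852)) (tt N3633 F7224) (tt N5107 F7225) (tt N8882 F12015) (tt N3631 (iv D7206)))
theorem Q6323 : ∀ i, i < 6323 → P i := stepQ 6322 Q6322 (allL N6322 (tt N3632 (iv D7207)) (tt N8886 D9798) (tt N8887 D9799) (tt N8888 D9800) (tt N8889 D9801))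
theorem Q6324 : ∀ i, i < 6324 → P i := stepQ 6323 Q6323 (allL N6323 (tt N8889 (iv F12024)) (tt N8885 (iv F12020)) (tt N8867 (iv F11994)) (tt N8852 (iv F11957)) (tt N3632 (iv D7208)))
theorem Q6325 : ∀ i, i < 6325 → P i := stepQ 6324 Q6324 (allL N6324 (tt N6903 (iv F8227)) (tt N3634 (iv D7210)) (tt N7864 (iv F10012)) (tt N4269 F7226) (tt N4148 F7227))
theorem Q6326 : ∀ i, i < 6326 → P i := stepQ 6325 Q6325 (allL N6325 (tt N3663 F7228) (tt N8890 D9802) (tt N3634 (iv D7211)) (tt N8874 (iv F12005)) (tt N8891 D9803))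
theorem Q6327 : ∀ i, i < 6327 → P i := stepQ 6326 Q6326 (allL N6326 (tt N3635 (iv D7212)) (tt N8892 D9804) (tt N4932 F7229) (tt N5026 F7230) (tt N8893 D9805))
theorem Q6328 : ∀ i, i < 6328 → P i := stepQ 6327 Q6327 (allL N6327 (tt N8893 (iv F12028)) (tt N3639 F7231) (tt N7872 F10025) (tt N8854 (iv F11963)) (tt N3635 (iv D7213)))
theorem Q6329 : ∀ i, i < 6329 → P i := stepQ 6328 Q6328 (allL N6328 (tt N8894 D9806) (tt N3640 F7232) (tt N4367 F7233) (tt N3636 (iv D7214)) (tt N8853 (iv F11961)))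
theorem Q6330 : ∀ i, i < 6330 → P i := stepQ 6329 Q6329 (allL N6329 (tt N8861 (iv F11982)) (tt N6329 F7234) (tt N7121 F8603) (tt N8856 (iv F11971)) (tt N3637 (iv D7215)))
theorem Q6331 : ∀ i, i < 6331 → P i := stepQ 6330 Q6330 (allL N6330 (tt N8887 (iv F12021)) (tt N6330 F7235) (tt N3663 F7236) (tt N3638 (iv D7216)) (tt N8855 (iv F11968)))
theorem Q6332 : ∀ i, i < 6332 → P i := stepQ 6331 Q6331 (allL N6331 (tt N3640 (iv D7218)) (tt N8895 D9807) (tt N8866 (iv F11993)) (tt N8872 (iv F12002)) (tt N8849 F11951))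
theorem Q6333 : ∀ i, i < 6333 → P i := stepQ 6332 Q6332 (allL N6332 (tt N3643 (iv D7219)) (tt N7762 (iv F9830)) (tt N5005 F7237) (tt N7598 (iv F9493)) (tt N8896 D9808))
theorem Q6334 : ∀ i, i < 6334 → P i := stepQ 6333 Q6333 (allL N6333 (tt N3933 F7240) (tt N3645 F7238) (tt N4947 F7239) (tt N3643 (iv D7220)) (tt N7187 (iv F8755)))
theorem Q6335 : ∀ i, i < 6335 → P i := stepQ 6334 Q6334 (allL N6334 (tt N8896 (iv F12034)) (tt N3646 F7241) (tt N5016 F7242) (tt N7164 (iv F8702)) (tt N3643 (iv D7221)))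
theorem Q6336 : ∀ i, i < 6336 → P i := stepQ 6335 Q6335 (allL N6335 (tt N8860 (iv F11980)) (tt N4257 (iv F7244)) (tt N3645 F7243) (tt N3644 (iv D7222)) (tt N8897 D9809))
theorem Q6337 : ∀ i, i < 6337 → P i := stepQ 6336 Q6336 (allL N6336 (tt N4221 F7247) (tt N6439 (iv F7418)) (tt N3660 F7248) (tt N8898 D9810) (tt N3644 (iv D7223)))
theorem Q6338 : ∀ i, i < 6338 → P i := stepQ 6337 Q6337 (allL N6337 (tt N8872 (iv F12001)) (tt N7187 (iv F8752)) (tt N6877 F8158) (tt N3650 F7249) (tt N3645 (iv D7224)))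
theorem Q6339 : ∀ i, i < 6339 → P i := stepQ 6338 Q6338 (allL N6338 (tt N4223 F7250) (tt N6798 F8038) (tt N3646 (iv D7225)) (tt N6797 (iv F8039)) (tt N8073 (iv F10423)))
theorem Q6340 : ∀ i, i < 6340 → P i := stepQ 6339 Q6339 (allL N6339 (tt N8873 (iv F12003)) (tt N7164 (iv F8701)) (tt N6797 F8040) (tt N3646 (iv D7226)) (tt N6129 F7251))
theorem Q6341 : ∀ i, i < 6341 → P i := stepQ 6340 Q6340 (allL N6340 (tt N3647 (iv D7227)) (tt N8899 D9811) (tt N3656 F7252) (tt N8900 D9812) (tt N8901 D9813))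
theorem Q6342 : ∀ i, i < 6342 → P i := stepQ 6341 Q6341 (allL N6341 (tt N4699 F7254) (tt N3647 (iv D7228)) (tt N7900 (iv F10089)) (tt N4685 F7253) (tt N4691 (iv F7255)))
theorem Q6343 : ∀ i, i < 6343 → P i := stepQ 6342 Q6342 (allL N6342 (tt N8901 (iv F12046)) (tt N4691 F7256) (tt N3662 F7257) (tt N3649 (iv F7258)) (tt N3647 (iv D7229)))
theorem Q6344 : ∀ i, i < 6344 → P i := stepQ 6343 Q6343 (allL N6343 (tt N3648 (iv D7230)) (tt N8902 D9814) (tt N4225 F7259) (tt N8903 D9815) (tt N8904 D9816))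
theorem Q6345 : ∀ i, i < 6345 → P i := stepQ 6344 Q6344 (allL N6344 (tt N8904 (iv F12052)) (tt N4690 F7260) (tt N3667 F7261) (tt N8857 (iv F11975)) (tt N3648 (iv D7231)))
theorem Q6346 : ∀ i, i < 6346 → P i := stepQ 6345 Q6345 (allL N6345 (tt N8905 D9817) (tt N3650 (iv D7232)) (tt N4886 F7262) (tt N7187 (iv F8753)) (tt N4872 F7263))
theorem Q6347 : ∀ i, i < 6347 → P i := stepQ 6346 Q6346 (allL N6346 (tt N3732 F7266) (tt N4351 (iv F7267)) (tt N3653 (iv D7233)) (tt N4349 F7264) (tt N5200 F7265))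
theorem Q6348 : ∀ i, i < 6348 → P i := stepQ 6347 Q6347 (allL N6347 (tt N5036 F7268) (tt N3656 F7269) (tt N4348 F7270) (tt N4347 F7271) (tt N3654 (iv D7234)))
theorem Q6349 : ∀ i, i < 6349 → P i := stepQ 6348 Q6348 (allL N6348 (tt N8862 (iv F11984)) (tt N4382 F7272) (tt N8903 (iv F12051)) (tt N4225 F7273) (tt N3655 (iv D7235)))
theorem Q6350 : ∀ i, i < 6350 → P i := stepQ 6349 Q6349 (allL N6349 (tt N8863 (iv F11987)) (tt N4347 F7274) (tt N8900 (iv F12045)) (tt N3656 (iv D7236)) (tt N4843 F7275))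
theorem Q6351 : ∀ i, i < 6351 → P i := stepQ 6350 Q6350 (allL N6350 (tt N8888 (iv F12023)) (tt N8906 D9818) (tt N3657 (iv D7237)) (tt N3669 F7276) (tt N8907 D9819))
theorem Q6352 : ∀ i, i < 6352 → P i := stepQ 6351 Q6351 (allL N6351 (tt N3658 (iv D7238)) (tt N5868 F7278) (tt N4221 F7277) (tt N8850 (iv F11952)) (tt N8072 F10421))
theorem Q6353 : ∀ i, i < 6353 → P i := stepQ 6352 Q6352 (allL N6352 (tt N8908 D9820) (tt N3658 (iv D7239)) (tt N8909 D9821) (tt N8910 D9822) (tt N8911 D9823))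
theorem Q6354 : ∀ i, i < 6354 → P i := stepQ 6353 Q6353 (allL N6353 (tt N8879 (iv F12010)) (tt N8910 (iv F12063)) (tt N3659 F7282) (tt N3658 (iv D7240)) (tt N8912 D9824))
theorem Q6355 : ∀ i, i < 6355 → P i := stepQ 6354 Q6354 (allL N6354 (tt N8072 (iv F10422)) (tt N8911 (iv F12065)) (tt N8901 (iv F12047)) (tt N8907 (iv F12058)) (tt N3658 (iv D7241)))
theorem Q6356 : ∀ i, i < 6356 → P i := stepQ 6355 Q6355 (allL N6355 (tt N8913 D9825) (tt N3660 (iv D7242)) (tt N7139 (iv F8655)) (tt N6541 (iv F8609)) (tt N7556 (iv F9386)))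
theorem Q6357 : ∀ i, i < 6357 → P i := stepQ 6356 Q6356 (allL N6356 (tt N8876 (iv F12007)) (tt N6541 F8608) (tt N8898 (iv F12040)) (tt N3660 (iv D7243)) (tt N8914 D9826))
theorem Q6358 : ∀ i, i < 6358 → P i := stepQ 6357 Q6357 (allL N6357 (tt N3662 F7283) (tt N7556 (iv F9387)) (tt N8073 (iv F10424)) (tt N8915 D9827) (tt N3660 (iv D7244)))
theorem Q6359 : ∀ i, i < 6359 → P i := stepQ 6358 Q6358 (allL N6358 (tt N8891 (iv F12025)) (tt N7125 (iv F8616)) (tt N7882 (iv F10132)) (tt N8858 (iv F11977)) (tt N3663 (iv D7245)))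
theorem Q6360 : ∀ i, i < 6360 → P i := stepQ 6359 Q6359 (allL N6359 (tt N8877 (iv F12009)) (tt N7123 (iv F8610)) (tt N7879 (iv F10043)) (tt N3664 (iv D7246)) (tt N7121 (iv F8604)))
theorem Q6361 : ∀ i, i < 6361 → P i := stepQ 6360 Q6360 (allL N6360 (tt N4222 F7284) (tt N6185 F7285) (tt N3666 (iv D7247)) (tt N8897 (iv F12038)) (tt N4844 F7286))
theorem Q6362 : ∀ i, i < 6362 → P i := stepQ 6361 Q6361 (allL N6361 (tt N8874 (iv F12006)) (tt N6560 F7597) (tt N8897 (iv F12037)) (tt N3666 (iv D7248)) (tt N8915 (iv F12071)))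
theorem Q6363 : ∀ i, i < 6363 → P i := stepQ 6362 Q6362 (allL N6362 (tt N3667 F7287) (tt N7437 (iv F9203)) (tt N8068 (iv F10410)) (tt N8914 (iv F12070)) (tt N3666 (iv D7249)))
theorem Q6364 : ∀ i, i < 6364 → P i := stepQ 6363 Q6363 (allL N6363 (tt N8916 D9828) (tt N3669 (iv D7250)) (tt N8917 D9829) (tt N8906 (iv F12057)) (tt N8918 D9830))
theorem Q6365 : ∀ i, i < 6365 → P i := stepQ 6364 Q6364 (allL N6364 (tt N8069 F10413) (tt N8918 (iv F12078)) (tt N8904 (iv F12053)) (tt N8912 (iv F12067)) (tt N3669 (iv D7251)))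
theorem Q6366 : ∀ i, i < 6366 → P i := stepQ 6365 Q6365 (allL N6365 (tt N6113 F7288) (tt N6635 (iv F7725)) (tt N3672 F7289) (tt N3670 (iv D7252)) (tt N5317 F7290))
theorem Q6367 : ∀ i, i < 6367 → P i := stepQ 6366 Q6366 (allL N6366 (tt N3671 (iv D7253)) (tt N3693 F7291) (tt N8919 D9831) (tt N3747 F7292) (tt N8784 (iv F11827)))
theorem Q6368 : ∀ i, i < 6368 → P i := stepQ 6367 Q6367 (allL N6367 (tt N5252 F7293) (tt N3679 F7294) (tt N8066 (iv F10404)) (tt N8821 (iv F11876)) (tt N3675 (iv D7254)))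
theorem Q6369 : ∀ i, i < 6369 → P i := stepQ 6368 Q6368 (allL N6368 (tt N3725 F7295) (tt N4221 F7296) (tt N3737 F7297) (tt N8822 (iv F11879)) (tt N3677 (iv D7255)))
theorem Q6370 : ∀ i, i < 6370 → P i := stepQ 6369 Q6369 (allL N6369 (tt N3726 F7298) (tt N3954 F7299) (tt N3679 (iv D7256)) (tt N8212 (iv F10685)) (tt N3953 (iv F7300)))
theorem Q6371 : ∀ i, i < 6371 → P i := stepQ 6370 Q6370 (allL N6370 (tt N3681 (iv D7257)) (tt N6942 (iv F8281)) (tt N6370 F7301) (tt N8920 D9832) (tt N5361 F7302))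
theorem Q6372 : ∀ i, i < 6372 → P i := stepQ 6371 Q6371 (allL N6371 (tt N8714 (iv F11700)) (tt N7653 (iv F9603)) (tt N6371 F7303) (tt N3682 (iv D7258)) (tt N8086 (iv F10461)))
theorem Q6373 : ∀ i, i < 6373 → P i := stepQ 6372 Q6372 (allL N6372 (tt N8381 (iv F11044)) (tt N3688 F7304) (tt N8103 (iv F10487)) (tt N6812 F8074) (tt N3685 (iv D7259)))
theorem Q6374 : ∀ i, i < 6374 → P i := stepQ 6373 Q6373 (allL N6373 (tt N3716 F7305) (tt N6974 (iv F8335)) (tt N3699 F7306) (tt N6970 (iv F8330)) (tt N3686 (iv D7260)))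
theorem Q6375 : ∀ i, i < 6375 → P i := stepQ 6374 Q6374 (allL N6374 (tt N3689 (iv D7261)) (tt N8921 D9833) (tt N3697 F7307) (tt N8825 (iv F11890)) (tt N7401 (iv F9148)))
theorem Q6376 : ∀ i, i < 6376 → P i := stepQ 6375 Q6375 (allL N6375 (tt N8922 D9834) (tt N3689 (iv D7262)) (tt N8923 D9835) (tt N8843 (iv F11935)) (tt N7402 F9150))
theorem Q6377 : ∀ i, i < 6377 → P i := stepQ 6376 Q6376 (allL N6376 (tt N3690 (iv D7263)) (tt N6306 F7308) (tt N5390 F7310) (tt N8924 D9836) (tt N4307 F7309))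
theorem Q6378 : ∀ i, i < 6378 → P i := stepQ 6377 Q6377 (allL N6377 (tt N4309 F7311) (tt N3820 F7312) (tt N3690 (iv D7264)) (tt N8925 D9837) (tt N4306 F7313))
theorem Q6379 : ∀ i, i < 6379 → P i := stepQ 6378 Q6378 (allL N6378 (tt N8926 D9838) (tt N3691 F7314) (tt N8925 (iv F12097)) (tt N3690 (iv D7265)) (tt N8927 D9839))
theorem Q6380 : ∀ i, i < 6380 → P i := stepQ 6379 Q6379 (allL N6379 (tt N3691 (iv D7266)) (tt N8928 D9840) (tt N3718 F7315) (tt N8830 (iv F11900)) (tt N8929 D9841))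
theorem Q6381 : ∀ i, i < 6381 → P i := stepQ 6380 Q6380 (allL N6380 (tt N8929 (iv F12105)) (tt N8927 (iv F12102)) (tt N3709 F7316) (tt N7388 (iv F9113)) (tt N3691 (iv D7267)))
theorem Q6382 : ∀ i, i < 6382 → P i := stepQ 6381 Q6381 (allL N6381 (tt N8382 (iv F11046)) (tt N3692 (iv D7268)) (tt N8138 (iv F10533)) (tt N7055 (iv F8483)) (tt N6811 F8072))
theorem Q6383 : ∀ i, i < 6383 → P i := stepQ 6382 Q6382 (allL N6382 (tt N3694 F7317) (tt N8784 (iv F11826)) (tt N8142 (iv F10537)) (tt N6902 (iv F8226)) (tt N3693 (iv D7269)))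
theorem Q6384 : ∀ i, i < 6384 → P i := stepQ 6383 Q6383 (allL N6383 (tt N3695 (iv D7270)) (tt N4839 F7318) (tt N8930 D9842) (tt N8931 D9843) (tt N8932 D9844))
theorem Q6385 : ∀ i, i < 6385 → P i := stepQ 6384 Q6384 (allL N6384 (tt N8932 (iv F12117)) (tt N3697 F7319) (tt N8157 (iv F10558)) (tt N4183 (iv F7320)) (tt N3695 (iv D7271)))
theorem Q6386 : ∀ i, i < 6386 → P i := stepQ 6385 Q6385 (allL N6385 (tt N8933 D9845) (tt N3698 (iv D7272)) (tt N8151 (iv F10551)) (tt N4170 F7321) (tt N4166 F7322))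
theorem Q6387 : ∀ i, i < 6387 → P i := stepQ 6386 Q6386 (allL N6386 (tt N8420 (iv F11113)) (tt N3699 (iv D7273)) (tt N8164 (iv F10575)) (tt N6821 F8103) (tt N6814 F8086))
theorem Q6388 : ∀ i, i < 6388 → P i := stepQ 6387 Q6387 (allL N6387 (tt N3701 F7323) (tt N6814 (iv F8079)) (tt N6795 (iv F8034)) (tt N6880 (iv F8166)) (tt N3699 (iv D7274)))
theorem Q6389 : ∀ i, i < 6389 → P i := stepQ 6388 Q6388 (allL N6388 (tt N3700 (iv D7275)) (tt N8934 D9846) (tt N6388 F7324) (tt N8935 D9847) (tt N8170 (iv F10590)))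
theorem Q6390 : ∀ i, i < 6390 → P i := stepQ 6389 Q6389 (allL N6389 (tt N8936 D9848) (tt N3822 F7325) (tt N3700 (iv D7276)) (tt N8846 (iv F11941)) (tt N4493 F8083))
theorem Q6391 : ∀ i, i < 6391 → P i := stepQ 6390 Q6390 (allL N6390 (tt N8170 (iv F10589)) (tt N3701 F7326) (tt N5434 (iv F8081)) (tt N3707 (iv F7327)) (tt N3700 (iv D7277)))
theorem Q6392 : ∀ i, i < 6392 → P i := stepQ 6391 Q6391 (allL N6391 (tt N3739 F7331) (tt N3964 F7329) (tt N3953 F7330) (tt N3703 (iv D7278)) (tt N3737 F7332))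
theorem Q6393 : ∀ i, i < 6393 → P i := stepQ 6392 Q6392 (allL N6392 (tt N8723 (iv F11716)) (tt N7028 (iv F11719)) (tt N6392 F7335) (tt N3704 (iv D7279)) (tt N6704 F11718))
theorem Q6394 : ∀ i, i < 6394 → P i := stepQ 6393 Q6393 (allL N6393 (tt N8937 D9849) (tt N3824 F7336) (tt N3706 F7337) (tt N3705 (iv D7280)) (tt N5449 (iv F8098)))
theorem Q6395 : ∀ i, i < 6395 → P i := stepQ 6394 Q6394 (allL N6394 (tt N3706 (iv D7281)) (tt N8938 D9850) (tt N6394 F7338) (tt N8939 D9851) (tt N8188 (iv F10628)))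
theorem Q6396 : ∀ i, i < 6396 → P i := stepQ 6395 Q6395 (allL N6395 (tt N8188 (iv F10629)) (tt N3709 F7339) (tt N5445 (iv F8099)) (tt N8847 (iv F11946)) (tt N3706 (iv D7282)))
theorem Q6397 : ∀ i, i < 6397 → P i := stepQ 6396 Q6396 (allL N6396 (tt N8423 F11120) (tt N3708 (iv D7283)) (tt N8194 (iv F10643)) (tt N6890 (iv F8193)) (tt N6820 F8101))
theorem Q6398 : ∀ i, i < 6398 → P i := stepQ 6397 Q6397 (allL N6397 (tt N3717 F7340) (tt N6972 (iv F8332)) (tt N3708 (iv D7284)) (tt N7048 (iv F8468)) (tt N6969 F8326))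
theorem Q6399 : ∀ i, i < 6399 → P i := stepQ 6398 Q6398 (allL N6398 (tt N3709 F7341) (tt N6820 (iv F8096)) (tt N6802 (iv F8053)) (tt N6801 F8051) (tt N3708 (iv D7285)))
theorem Q6400 : ∀ i, i < 6400 → P i := stepQ 6399 Q6399 (allL N6399 (tt N3710 (iv D7286)) (tt N8782 (iv F11822)) (tt N8196 (iv F10647)) (tt N7057 (iv F8489)) (tt N4150 F7342))
theorem Q6401 : ∀ i, i < 6401 → P i := stepQ 6400 Q6400 (allL N6400 (tt N8940 D9852) (tt N3711 (iv D7287)) (tt N8216 (iv F10691)) (tt N4433 F7343) (tt N4169 (iv F7344)))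
theorem Q6402 : ∀ i, i < 6402 → P i := stepQ 6401 Q6401 (allL N6401 (tt N3743 F7345) (tt N4169 F7346) (tt N8929 (iv F12107)) (tt N4168 F7347) (tt N3711 (iv D7288)))
theorem Q6403 : ∀ i, i < 6403 → P i := stepQ 6402 Q6402 (allL N6402 (tt N7694 (iv F9668)) (tt N6402 F7348) (tt N5417 F7349) (tt N5588 F7350) (tt N3712 (iv D7289)))
theorem Q6404 : ∀ i, i < 6404 → P i := stepQ 6403 Q6403 (allL N6403 (tt N3714 F7351) (tt N4840 F7352) (tt N8941 D9853) (tt N4784 (iv F7353)) (tt N3713 (iv D7290)))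
theorem Q6405 : ∀ i, i < 6405 → P i := stepQ 6404 Q6404 (allL N6404 (tt N3715 (iv D7291)) (tt N4857 (iv F7356)) (tt N8942 D9854) (tt N5030 F7355) (tt N4783 F7354))
theorem Q6406 : ∀ i, i < 6406 → P i := stepQ 6405 Q6405 (allL N6405 (tt N8943 D9855) (tt N3718 (iv D7292)) (tt N8201 (iv F10651)) (tt N4277 F7357) (tt N4182 F7358))
theorem Q6407 : ∀ i, i < 6407 → P i := stepQ 6406 Q6406 (allL N6406 (tt N8728 (iv F11730)) (tt N5958 F7359) (tt N4739 F7360) (tt N3719 (iv D7293)) (tt N8839 (iv F11925)))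
theorem Q6408 : ∀ i, i < 6408 → P i := stepQ 6407 Q6407 (allL N6407 (tt N3722 F7361) (tt N6454 (iv F7440)) (tt N8944 D9856) (tt N8837 (iv F11921)) (tt N3719 (iv D7294)))
theorem Q6409 : ∀ i, i < 6409 → P i := stepQ 6408 Q6408 (allL N6408 (tt N3720 (iv D7295)) (tt N3773 F7362) (tt N5248 F7364) (tt N7728 (iv F9761)) (tt N5605 F7363))
theorem Q6410 : ∀ i, i < 6410 → P i := stepQ 6409 Q6409 (allL N6409 (tt N8945 D9857) (tt N4944 F7365) (tt N3721 F7366) (tt N3720 (iv D7296)) (tt N5577 F7367))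
theorem Q6411 : ∀ i, i < 6411 → P i := stepQ 6410 Q6410 (allL N6410 (tt N8946 D9858) (tt N8947 D9859) (tt N3722 (iv D7297)) (tt N8841 (iv F11930)) (tt N5609 F7369))
theorem Q6412 : ∀ i, i < 6412 → P i := stepQ 6411 Q6411 (allL N6411 (tt N3723 (iv D7298)) (tt N6431 (iv F7411)) (tt N3785 F7370) (tt N8712 (iv F11693)) (tt N8948 D9860))
theorem Q6413 : ∀ i, i < 6413 → P i := stepQ 6412 Q6412 (allL N6412 (tt N8949 D9861) (tt N3724 F7371) (tt N3792 F7372) (tt N3723 (iv D7299)) (tt N8762 (iv F11793)))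
theorem Q6414 : ∀ i, i < 6414 → P i := stepQ 6413 Q6413 (allL N6413 (tt N8948 (iv F12152)) (tt N3725 F7373) (tt N3795 F7374) (tt N8761 F11790) (tt N3723 (iv D7300)))
theorem Q6415 : ∀ i, i < 6415 → P i := stepQ 6414 Q6414 (allL N6414 (tt N8950 D9862) (tt N3726 (iv D7301)) (tt N6066 F7375) (tt N6065 (iv F7376)) (tt N7407 (iv F9161)))
theorem Q6416 : ∀ i, i < 6416 → P i := stepQ 6415 Q6415 (allL N6415 (tt N8951 D9863) (tt N3727 (iv D7302)) (tt N8952 D9864) (tt N8826 (iv F11893)) (tt N7403 (iv F9151)))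
theorem Q6417 : ∀ i, i < 6417 → P i := stepQ 6416 Q6416 (allL N6416 (tt N3731 F7381) (tt N3932 F7378) (tt N3729 F7379) (tt N3728 (iv D7303)) (tt N5544 F7380))
theorem Q6418 : ∀ i, i < 6418 → P i := stepQ 6417 Q6417 (allL N6417 (tt N6461 (iv F7456)) (tt N6534 (iv F7564)) (tt N3730 (iv D7304)) (tt N5541 F7382) (tt N5611 F7383))
theorem Q6419 : ∀ i, i < 6419 → P i := stepQ 6418 Q6418 (allL N6418 (tt N3736 F7384) (tt N7668 (iv F9625)) (tt N5549 F7386) (tt N5548 (iv F7385)) (tt N3733 (iv D7305)))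
theorem Q6420 : ∀ i, i < 6420 → P i := stepQ 6419 Q6419 (allL N6419 (tt N8953 D9865) (tt N3929 F7387) (tt N3735 F7388) (tt N3734 (iv D7306)) (tt N5556 F7389))
theorem Q6421 : ∀ i, i < 6421 → P i := stepQ 6420 Q6420 (allL N6420 (tt N7709 (iv F9709)) (tt N7783 (iv F9881)) (tt N5345 F7391) (tt N5554 F7390) (tt N3734 (iv D7307)))
theorem Q6422 : ∀ i, i < 6422 → P i := stepQ 6421 Q6421 (allL N6421 (tt N3735 (iv D7308)) (tt N4252 F7392) (tt N4251 F7393) (tt N4251 F7394) (tt N8824 (iv F11886)))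
theorem Q6423 : ∀ i, i < 6423 → P i := stepQ 6422 Q6422 (allL N6422 (tt N4555 F7397) (tt N6520 (iv F7543)) (tt N3736 (iv D7309)) (tt N5551 F7395) (tt N5620 F7396))
theorem Q6424 : ∀ i, i < 6424 → P i := stepQ 6423 Q6423 (allL N6423 (tt N5300 F7399) (tt N3737 (iv D7310)) (tt N8178 (iv F10606)) (tt N8844 (iv F11936)) (tt N3964 F7398))
theorem Q6425 : ∀ i, i < 6425 → P i := stepQ 6424 Q6424 (allL N6424 (tt N3738 (iv D7311)) (tt N8954 D9866) (tt N8955 D9867) (tt N8955 F12171) (tt N8956 D9868))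
theorem Q6426 : ∀ i, i < 6426 → P i := stepQ 6425 Q6425 (allL N6425 (tt N7376 (iv F9080)) (tt N6522 (iv F7546)) (tt N3738 (iv D7312)) (tt N6521 F7545) (tt N5618 F7400))
theorem Q6427 : ∀ i, i < 6427 → P i := stepQ 6426 Q6426 (allL N6426 (tt N8956 (iv F12172)) (tt N3739 F7401) (tt N5617 F7402) (tt N8836 (iv F11919)) (tt N3738 (iv D7313)))
theorem Q6428 : ∀ i, i < 6428 → P i := stepQ 6427 Q6427 (allL N6427 (tt N3740 (iv D7314)) (tt N7409 (iv F9164)) (tt N7571 (iv F9430)) (tt N7570 F9431) (tt N7405 (iv F9156)))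
theorem Q6429 : ∀ i, i < 6429 → P i := stepQ 6428 Q6428 (allL N6428 (tt N8957 D9869) (tt N7131 (iv F8633)) (tt N3740 (iv D7315)) (tt N5492 F7407) (tt N5537 F7403))
theorem Q6430 : ∀ i, i < 6430 → P i := stepQ 6429 Q6429 (allL N6429 (tt N3894 (iv F7405)) (tt N3741 F7404) (tt N5492 (iv F7406)) (tt N3740 (iv D7316)) (tt N7385 F9105))
theorem Q6431 : ∀ i, i < 6431 → P i := stepQ 6430 Q6430 (allL N6430 (tt N7591 (iv F9474)) (tt N3743 F7408) (tt N5474 F7409) (tt N7389 (iv F9115)) (tt N3742 (iv D7317)))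
theorem Q6432 : ∀ i, i < 6432 → P i := stepQ 6431 Q6431 (allL N6431 (tt N3750 F7410) (tt N6411 F7411) (tt N3744 (iv D7318)) (tt N8627 (iv F11532)) (tt N8958 D9870))
theorem Q6433 : ∀ i, i < 6433 → P i := stepQ 6432 Q6432 (allL N6432 (tt N3746 F7412) (tt N3767 F7413) (tt N7907 (iv F10102)) (tt N8600 (iv F11484)) (tt N3744 (iv D7319)))
theorem Q6434 : ∀ i, i < 6434 → P i := stepQ 6433 Q6433 (allL N6433 (tt N3758 F7414) (tt N7551 (iv F9376)) (tt N3746 (iv D7320)) (tt N6966 (iv F8319)) (tt N8959 D9871))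
theorem Q6435 : ∀ i, i < 6435 → P i := stepQ 6434 Q6434 (allL N6434 (tt N3751 F7415) (tt N8960 D9872) (tt N3747 (iv D7321)) (tt N8919 (iv F12081)) (tt N8794 (iv F11836)))
theorem Q6436 : ∀ i, i < 6436 → P i := stepQ 6435 Q6435 (allL N6435 (tt N3748 (iv D7322)) (tt N8552 (iv F11378)) (tt N8958 (iv F12182)) (tt N8805 (iv F11852)) (tt N8961 D9873))
theorem Q6437 : ∀ i, i < 6437 → P i := stepQ 6436 Q6436 (allL N6436 (tt N8962 D9874) (tt N3748 (iv D7323)) (tt N8963 D9875) (tt N8785 (iv F11828)) (tt N8964 D9876))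
theorem Q6438 : ∀ i, i < 6438 → P i := stepQ 6437 Q6437 (allL N6437 (tt N8961 (iv F12188)) (tt N8964 (iv F12194)) (tt N8959 (iv F12185)) (tt N8792 (iv F13107)) (tt N3748 (iv D7324)))
theorem Q6439 : ∀ i, i < 6439 → P i := stepQ 6438 Q6438 (allL N6438 (tt N7782 (iv F9877)) (tt N3752 F7416) (tt N4713 F7417) (tt N7752 (iv F9807)) (tt N3749 (iv D7325)))
theorem Q6440 : ∀ i, i < 6440 → P i := stepQ 6439 Q6439 (allL N6439 (tt N8958 (iv F12180)) (tt N6336 F7418) (tt N3760 F7419) (tt N6968 (iv F8338)) (tt N3750 (iv D7326)))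
theorem Q6441 : ∀ i, i < 6441 → P i := stepQ 6440 Q6440 (allL N6440 (tt N3756 F7420) (tt N4595 F7421) (tt N4922 F7422) (tt N4907 F7423) (tt N3753 (iv D7327)))
theorem Q6442 : ∀ i, i < 6442 → P i := stepQ 6441 Q6441 (allL N6441 (tt N6633 F7728) (tt N3757 (iv D7328)) (tt N7774 (iv F9857)) (tt N7773 (iv F9851)) (tt N8803 (iv F11850)))
theorem Q6443 : ∀ i, i < 6443 → P i := stepQ 6442 Q6442 (allL N6442 (tt N8627 (iv F11531)) (tt N6442 F9854) (tt N3757 (iv D7329)) (tt N7049 F9853) (tt N8816 (iv F11871)))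
theorem Q6444 : ∀ i, i < 6444 → P i := stepQ 6443 Q6443 (allL N6443 (tt N8919 (iv F12080)) (tt N7773 F9850) (tt N7049 (iv F9852)) (tt N3757 (iv D7330)) (tt N8798 (iv F11841)))
theorem Q6445 : ∀ i, i < 6445 → P i := stepQ 6444 Q6444 (allL N6444 (tt N8959 (iv F12183)) (tt N4694 F7424) (tt N3762 F7425) (tt N8802 (iv F11849)) (tt N3758 (iv D7331)))
theorem Q6446 : ∀ i, i < 6446 → P i := stepQ 6445 Q6445 (allL N6445 (tt N8601 (iv F11485)) (tt N4436 F7426) (tt N8801 (iv F11846)) (tt N6976 F8344) (tt N3759 (iv D7332)))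
theorem Q6447 : ∀ i, i < 6447 → P i := stepQ 6446 Q6446 (allL N6446 (tt N8965 D9878) (tt N3760 (iv D7333)) (tt N4334 F8658) (tt N4333 (iv F8659)) (tt N8966 D9879))
theorem Q6448 : ∀ i, i < 6448 → P i := stepQ 6447 Q6447 (allL N6447 (tt N8783 (iv F11824)) (tt N4333 F8660) (tt N6968 F8339) (tt N3760 (iv D7334)) (tt N8814 (iv F11866)))
theorem Q6449 : ∀ i, i < 6449 → P i := stepQ 6448 Q6448 (allL N6448 (tt N3762 F7427) (tt N8966 (iv F12198)) (tt N7908 (iv F10104)) (tt N8813 (iv F11864)) (tt N3760 (iv D7335)))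
theorem Q6450 : ∀ i, i < 6450 → P i := stepQ 6449 Q6449 (allL N6449 (tt N3761 (iv D7336)) (tt N7412 (iv F9168)) (tt N4569 F7428) (tt N4543 F7429) (tt N4521 (iv F7430)))
theorem Q6451 : ∀ i, i < 6451 → P i := stepQ 6450 Q6450 (allL N6450 (tt N4521 F7431) (tt N3762 F7432) (tt N4461 F7433) (tt N4460 F7434) (tt N3761 (iv D7337)))
theorem Q6452 : ∀ i, i < 6452 → P i := stepQ 6451 Q6451 (allL N6451 (tt N7778 (iv F9866)) (tt N7786 (iv F9889)) (tt N8967 D9880) (tt N8382 (iv F11047)) (tt N3764 (iv D7338)))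
theorem Q6453 : ∀ i, i < 6453 → P i := stepQ 6452 Q6452 (allL N6452 (tt N8967 (iv F12201)) (tt N5526 F7435) (tt N3765 (iv D7339)) (tt N8393 (iv F11070)) (tt N8389 F11059))
theorem Q6454 : ∀ i, i < 6454 → P i := stepQ 6453 Q6453 (allL N6453 (tt N3776 F7436) (tt N4727 F7437) (tt N3771 F7438) (tt N8579 (iv F11432)) (tt N3766 (iv D7340)))
theorem Q6455 : ∀ i, i < 6455 → P i := stepQ 6454 Q6454 (allL N6454 (tt N4991 F7439) (tt N6407 F7440) (tt N8968 D9881) (tt N8602 (iv F11488)) (tt N3768 (iv D7341)))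
theorem Q6456 : ∀ i, i < 6456 → P i := stepQ 6455 Q6455 (allL N6455 (tt N4541 F7441) (tt N5533 (iv F7442)) (tt N3772 (iv D7342)) (tt N8582 (iv F11444)) (tt N4539 (iv F7443)))
theorem Q6457 : ∀ i, i < 6457 → P i := stepQ 6456 Q6456 (allL N6456 (tt N5900 F7445) (tt N5605 F7446) (tt N5880 F7447) (tt N7738 (iv F9771)) (tt N3773 (iv D7343)))
theorem Q6458 : ∀ i, i < 6458 → P i := stepQ 6457 Q6457 (allL N6457 (tt N4713 F7448) (tt N8269 (iv F10791)) (tt N3774 (iv D7344)) (tt N7177 (iv F8730)) (tt N8267 F10788))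
theorem Q6459 : ∀ i, i < 6459 → P i := stepQ 6458 Q6458 (allL N6458 (tt N3957 F7449) (tt N3776 F7450) (tt N5234 F7451) (tt N8610 (iv F11501)) (tt N3775 (iv D7345)))
theorem Q6460 : ∀ i, i < 6460 → P i := stepQ 6459 Q6459 (allL N6459 (tt N7142 (iv F8666)) (tt N8270 (iv F10792)) (tt N3780 (iv D7346)) (tt N7120 (iv F8596)) (tt N7096 (iv F8599)))
theorem Q6461 : ∀ i, i < 6461 → P i := stepQ 6460 Q6460 (allL N6460 (tt N4956 F7452) (tt N3943 F7453) (tt N3783 F7454) (tt N3782 (iv D7347)) (tt N6029 F7455))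
theorem Q6462 : ∀ i, i < 6462 → P i := stepQ 6461 Q6461 (allL N6461 (tt N6417 F7456) (tt N6581 (iv F7634)) (tt N3784 (iv D7348)) (tt N6025 F7457) (tt N6477 (iv F7477)))
theorem Q6463 : ∀ i, i < 6463 → P i := stepQ 6462 Q6462 (allL N6462 (tt N3788 F7458) (tt N7778 (iv F9867)) (tt N5538 F7459) (tt N8738 (iv F11749)) (tt N3785 (iv D7349)))
theorem Q6464 : ∀ i, i < 6464 → P i := stepQ 6463 Q6463 (allL N6463 (tt N4251 F7460) (tt N3787 F7461) (tt N7765 (iv F9839)) (tt N3786 (iv D7350)) (tt N8740 (iv F11758)))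
theorem Q6465 : ∀ i, i < 6465 → P i := stepQ 6464 Q6464 (allL N6464 (tt N7787 (iv F9891)) (tt N3788 F7462) (tt N8969 D9882) (tt N8739 (iv F11754)) (tt N3786 (iv D7351)))
theorem Q6466 : ∀ i, i < 6466 → P i := stepQ 6465 Q6465 (allL N6465 (tt N3787 (iv D7352)) (tt N4411 F7463) (tt N8949 (iv F12155)) (tt N8715 (iv F11704)) (tt N8747 (iv F11768)))
theorem Q6467 : ∀ i, i < 6467 → P i := stepQ 6466 Q6466 (allL N6466 (tt N3794 F7464) (tt N8970 D9883) (tt N3788 (iv D7354)) (tt N8744 (iv F11765)) (tt N8971 D9884))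
theorem Q6468 : ∀ i, i < 6468 → P i := stepQ 6467 Q6467 (allL N6467 (tt N3792 F7465) (tt N7033 (iv F8440)) (tt N3789 (iv D7356)) (tt N8719 (iv F11709)) (tt N8763 (iv F11794)))
theorem Q6469 : ∀ i, i < 6469 → P i := stepQ 6468 Q6468 (allL N6468 (tt N3790 (iv D7357)) (tt N8573 (iv F11413)) (tt N8948 (iv F12153)) (tt N8772 (iv F11809)) (tt N8972 D9885))
theorem Q6470 : ∀ i, i < 6470 → P i := stepQ 6469 Q6469 (allL N6469 (tt N8955 (iv F12168)) (tt N3790 (iv D7358)) (tt N7418 (iv F11414)) (tt N8752 (iv F11775)) (tt N8973 D9886))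
theorem Q6471 : ∀ i, i < 6471 → P i := stepQ 6470 Q6470 (allL N6470 (tt N8972 (iv F12210)) (tt N8973 (iv F12214)) (tt N8971 (iv F12209)) (tt N8759 (iv F13158)) (tt N3790 (iv D7359)))
theorem Q6472 : ∀ i, i < 6472 → P i := stepQ 6471 Q6471 (allL N6471 (tt N5030 F7466) (tt N3793 F7467) (tt N5535 (iv F7468)) (tt N6615 (iv F7686)) (tt N3791 (iv D7360)))
theorem Q6473 : ∀ i, i < 6473 → P i := stepQ 6472 Q6472 (allL N6472 (tt N4691 F7470) (tt N3794 (iv D7361)) (tt N5525 F7469) (tt N8621 (iv F11523)) (tt N4699 (iv F7471)))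
theorem Q6474 : ∀ i, i < 6474 → P i := stepQ 6473 Q6473 (allL N6473 (tt N8971 (iv F12208)) (tt N4699 F7472) (tt N3797 F7473) (tt N7299 (iv F8955)) (tt N3794 (iv D7362)))
theorem Q6475 : ∀ i, i < 6475 → P i := stepQ 6474 Q6474 (allL N6474 (tt N7588 (iv F9465)) (tt N3795 (iv D7363)) (tt N7131 F8635) (tt N3838 F8636) (tt N7792 (iv F9900)))
theorem Q6476 : ∀ i, i < 6476 → P i := stepQ 6475 Q6475 (allL N6475 (tt N8750 (iv F11774)) (tt N3838 F8637) (tt N8761 (iv F11789)) (tt N3795 (iv D7364)) (tt N8612 (iv F11505)))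
theorem Q6477 : ∀ i, i < 6477 → P i := stepQ 6476 Q6476 (allL N6476 (tt N3797 F7474) (tt N7792 (iv F9898)) (tt N5539 F7475) (tt N8777 (iv F11813)) (tt N3795 (iv D7365)))
theorem Q6478 : ∀ i, i < 6478 → P i := stepQ 6477 Q6477 (allL N6477 (tt N5611 F7476) (tt N7781 (iv F9872)) (tt N3798 (iv D7366)) (tt N8635 (iv F11547)) (tt N6461 F7477))
theorem Q6479 : ∀ i, i < 6479 → P i := stepQ 6478 Q6478 (allL N6478 (tt N3799 (iv D7367)) (tt N7567 F9419) (tt N8274 (iv F10797)) (tt N8641 (iv F11559)) (tt N8637 F11550))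
theorem Q6480 : ∀ i, i < 6480 → P i := stepQ 6479 Q6479 (allL N6479 (tt N7794 (iv F9903)) (tt N3799 (iv D7368)) (tt N7419 (iv F9420)) (tt N8645 (iv F11568)) (tt N8276 (iv F10805)))
theorem Q6481 : ∀ i, i < 6481 → P i := stepQ 6480 Q6480 (allL N6480 (tt N5034 F7478) (tt N3800 (iv D7370)) (tt N7559 (iv F9395)) (tt N6519 (iv F7542)) (tt N6508 F7523))
theorem Q6482 : ∀ i, i < 6482 → P i := stepQ 6481 Q6481 (allL N6481 (tt N4015 F7479) (tt N3803 F7480) (tt N4035 F7481) (tt N8974 D9888) (tt N3801 (iv D7371)))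
theorem Q6483 : ∀ i, i < 6483 → P i := stepQ 6482 Q6482 (allL N6482 (tt N4053 F7484) (tt N3804 F7482) (tt N3996 F7483) (tt N3802 (iv D7372)) (tt N8975 D9889))
theorem Q6484 : ∀ i, i < 6484 → P i := stepQ 6483 Q6483 (allL N6483 (tt N5122 F7485) (tt N8974 (iv F12216)) (tt N7107 (iv F8577)) (tt N3803 (iv D7373)) (tt N8976 D9890))
theorem Q6485 : ∀ i, i < 6485 → P i := stepQ 6484 Q6484 (allL N6484 (tt N7153 (iv F8684)) (tt N8975 (iv F12222)) (tt N3811 F7486) (tt N8976 (iv F12225)) (tt N3804 (iv D7374)))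
theorem Q6486 : ∀ i, i < 6486 → P i := stepQ 6485 Q6485 (allL N6485 (tt N8977 D9891) (tt N3805 (iv D7375)) (tt N8024 (iv F10313)) (tt N8978 D9892) (tt N7327 (iv F8999)))
theorem Q6487 : ∀ i, i < 6487 → P i := stepQ 6486 Q6486 (allL N6486 (tt N7122 (iv F8607)) (tt N8978 (iv F12229)) (tt N3806 F7487) (tt N3805 (iv D7376)) (tt N8979 D9893))
theorem Q6488 : ∀ i, i < 6488 → P i := stepQ 6487 Q6487 (allL N6487 (tt N7141 (iv F8664)) (tt N7327 (iv F8995)) (tt N7110 F8585) (tt N3809 F8586) (tt N3805 (iv D7377)))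
theorem Q6489 : ∀ i, i < 6489 → P i := stepQ 6488 Q6488 (allL N6488 (tt N7088 (iv F8546)) (tt N3815 F7488) (tt N8976 (iv F12226)) (tt N3811 F7489) (tt N3806 (iv D7378)))
theorem Q6490 : ∀ i, i < 6490 → P i := stepQ 6489 Q6489 (allL N6489 (tt N8980 D9894) (tt N3808 F7490) (tt N8025 (iv F10319)) (tt N3807 (iv D7379)) (tt N8981 D9895))
theorem Q6491 : ∀ i, i < 6491 → P i := stepQ 6490 Q6490 (allL N6490 (tt N7152 (iv F8682)) (tt N8981 (iv F12234)) (tt N7109 (iv F8581)) (tt N8979 (iv F12230)) (tt N3808 (iv D7380)))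
theorem Q6492 : ∀ i, i < 6492 → P i := stepQ 6491 Q6491 (allL N6491 (tt N6491 F7491) (tt N5216 F7492) (tt N3815 F7493) (tt N3813 F7494) (tt N3812 (iv D7382)))
theorem Q6493 : ∀ i, i < 6493 → P i := stepQ 6492 Q6492 (allL N6492 (tt N3817 (iv D7383)) (tt N6026 F7495) (tt N8982 D9896) (tt N4730 F7496) (tt N6650 (iv F7760)))
theorem Q6494 : ∀ i, i < 6494 → P i := stepQ 6493 Q6493 (allL N6493 (tt N6282 F7497) (tt N8983 D9897) (tt N3817 (iv D7384)) (tt N6586 (iv F7642)) (tt N8984 D9898))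
theorem Q6495 : ∀ i, i < 6495 → P i := stepQ 6494 Q6494 (allL N6494 (tt N3819 F7498) (tt N4653 F7499) (tt N5466 F7500) (tt N8985 D9899) (tt N3818 (iv D7385)))
theorem Q6496 : ∀ i, i < 6496 → P i := stepQ 6495 Q6495 (allL N6495 (tt N5464 F7501) (tt N8923 (iv F12087)) (tt N3819 (iv D7386)) (tt N8986 D9900) (tt N8987 D9901))
theorem Q6497 : ∀ i, i < 6497 → P i := stepQ 6496 Q6496 (allL N6496 (tt N7128 (iv F8624)) (tt N5355 F7502) (tt N8986 (iv F12247)) (tt N3819 (iv D7387)) (tt N8988 D9902))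
theorem Q6498 : ∀ i, i < 6498 → P i := stepQ 6497 Q6497 (allL N6497 (tt N5475 F7504) (tt N8925 (iv F12096)) (tt N3821 F7503) (tt N3820 (iv D7388)) (tt N8989 D9903))
theorem Q6499 : ∀ i, i < 6499 → P i := stepQ 6498 Q6498 (allL N6498 (tt N3832 F7505) (tt N4306 F7506) (tt N3825 F7507) (tt N8987 (iv F12252)) (tt N3820 (iv D7389)))
theorem Q6500 : ∀ i, i < 6500 → P i := stepQ 6499 Q6499 (allL N6499 (tt N3821 (iv D7390)) (tt N4655 (iv F7510)) (tt N5473 F7508) (tt N4618 F7509) (tt N8990 D9904))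
theorem Q6501 : ∀ i, i < 6501 → P i := stepQ 6500 Q6500 (allL N6500 (tt N8990 (iv F12259)) (tt N5357 F7511) (tt N3826 F7512) (tt N8988 (iv F12254)) (tt N3821 (iv D7391)))
theorem Q6502 : ∀ i, i < 6502 → P i := stepQ 6501 Q6501 (allL N6501 (tt N3822 (iv D7392)) (tt N8578 (iv F11427)) (tt N4619 F7513) (tt N8577 F11426) (tt N8991 D9905))
theorem Q6503 : ∀ i, i < 6503 → P i := stepQ 6502 Q6502 (allL N6502 (tt N7133 (iv F8639)) (tt N8846 (iv F11940)) (tt N3823 F7514) (tt N3822 (iv D7393)) (tt N8992 D9906))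
theorem Q6504 : ∀ i, i < 6504 → P i := stepQ 6503 Q6503 (allL N6503 (tt N8991 (iv F12263)) (tt N4493 F8084) (tt N8987 (iv F12251)) (tt N3825 F8085) (tt N3822 (iv D7394)))
theorem Q6505 : ∀ i, i < 6505 → P i := stepQ 6504 Q6504 (allL N6504 (tt N3842 F7515) (tt N5311 F7516) (tt N8988 (iv F12255)) (tt N3826 F7517) (tt N3823 (iv D7395)))
theorem Q6506 : ∀ i, i < 6506 → P i := stepQ 6505 Q6505 (allL N6505 (tt N3824 (iv D7396)) (tt N8434 (iv F11138)) (tt N4621 F7518) (tt N4620 F7519) (tt N8993 D9907))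
theorem Q6507 : ∀ i, i < 6507 → P i := stepQ 6506 Q6506 (allL N6506 (tt N8993 (iv F12269)) (tt N5449 F8100) (tt N8989 (iv F12258)) (tt N8992 (iv F12268)) (tt N3824 (iv D7397)))
theorem Q6508 : ∀ i, i < 6508 → P i := stepQ 6507 Q6507 (allL N6507 (tt N7127 (iv F8619)) (tt N8841 (iv F11929)) (tt N3827 (iv D7399)) (tt N8947 (iv F12149)) (tt N7751 (iv F9803)))
theorem Q6509 : ∀ i, i < 6509 → P i := stepQ 6508 Q6508 (allL N6508 (tt N5465 F7521) (tt N6066 F7522) (tt N8947 (iv F12148)) (tt N3827 (iv D7400)) (tt N6480 (iv F7523)))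
theorem Q6510 : ∀ i, i < 6510 → P i := stepQ 6509 Q6509 (allL N6509 (tt N3828 (iv D7401)) (tt N8994 D9908) (tt N3835 F7524) (tt N8995 D9909) (tt N8996 D9910))
theorem Q6511 : ∀ i, i < 6511 → P i := stepQ 6510 Q6510 (allL N6510 (tt N8997 D9911) (tt N3828 (iv D7402)) (tt N8518 (iv F11303)) (tt N8998 D9912) (tt N4106 F7529))
theorem Q6512 : ∀ i, i < 6512 → P i := stepQ 6511 Q6511 (allL N6511 (tt N8986 (iv F12248)) (tt N8998 (iv F12281)) (tt N3829 F7525) (tt N3828 (iv D7403)) (tt N8999 D9913))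
theorem Q6513 : ∀ i, i < 6513 → P i := stepQ 6512 Q6512 (allL N6512 (tt N8996 (iv F12278)) (tt N4106 (iv F7527)) (tt N3841 F7526) (tt N3832 (iv F7528)) (tt N3828 (iv D7404)))
theorem Q6514 : ∀ i, i < 6514 → P i := stepQ 6513 Q6513 (allL N6513 (tt N5470 F7530) (tt N4021 F7531) (tt N3842 (iv F7533)) (tt N3834 F7532) (tt N3829 (iv D7405)))
theorem Q6515 : ∀ i, i < 6515 → P i := stepQ 6514 Q6514 (allL N6514 (tt N3830 (iv D7406)) (tt N4305 F7534) (tt N7946 (iv F10175)) (tt N9000 D9914) (tt N4107 F7535))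
theorem Q6516 : ∀ i, i < 6516 → P i := stepQ 6515 Q6515 (allL N6515 (tt N9001 D9915) (tt N3831 F7536) (tt N8519 (iv F11306)) (tt N3830 (iv D7407)) (tt N4119 F7559))
theorem Q6517 : ∀ i, i < 6517 → P i := stepQ 6516 Q6516 (allL N6516 (tt N3831 (iv D7408)) (tt N9002 D9916) (tt N7129 (iv F8625)) (tt N7585 (iv F9459)) (tt N9003 D9917))
theorem Q6518 : ∀ i, i < 6518 → P i := stepQ 6517 Q6517 (allL N6517 (tt N9003 (iv F12292)) (tt N4119 (iv F7558)) (tt N3845 F7537) (tt N8999 (iv F12285)) (tt N3831 (iv D7409)))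
theorem Q6519 : ∀ i, i < 6519 → P i := stepQ 6518 Q6518 (allL N6518 (tt N5471 F7539) (tt N8842 (iv F11932)) (tt N3833 (iv D7410)) (tt N6064 F7538) (tt N7750 (iv F9800)))
theorem Q6520 : ∀ i, i < 6520 → P i := stepQ 6519 Q6519 (allL N6519 (tt N3834 F7540) (tt N6070 F7541) (tt N7137 (iv F8652)) (tt N6480 F7542) (tt N3833 (iv D7411)))
theorem Q6521 : ∀ i, i < 6521 → P i := stepQ 6520 Q6520 (allL N6520 (tt N8985 (iv F12243)) (tt N6422 F7543) (tt N8995 (iv F12277)) (tt N3835 (iv D7412)) (tt N7785 F9887))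
theorem Q6522 : ∀ i, i < 6522 → P i := stepQ 6521 Q6521 (allL N6521 (tt N9004 D9918) (tt N3836 (iv D7413)) (tt N6243 F7544) (tt N6425 (iv F7545)) (tt N8286 (iv F10831)))
theorem Q6523 : ∀ i, i < 6523 → P i := stepQ 6522 Q6522 (allL N6522 (tt N8577 (iv F11423)) (tt N6425 F7546) (tt N3837 F7547) (tt N3836 (iv D7414)) (tt N8318 (iv F10906)))
theorem Q6524 : ∀ i, i < 6524 → P i := stepQ 6523 Q6523 (allL N6523 (tt N7134 (iv F8640)) (tt N8286 (iv F10830)) (tt N8996 (iv F12279)) (tt N7586 (iv F9462)) (tt N3836 (iv D7415)))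
theorem Q6525 : ∀ i, i < 6525 → P i := stepQ 6524 Q6524 (allL N6524 (tt N3841 F7548) (tt N8612 (iv F11503)) (tt N7751 (iv F9804)) (tt N7589 (iv F9471)) (tt N3838 (iv D7418)))
theorem Q6526 : ∀ i, i < 6526 → P i := stepQ 6525 Q6525 (allL N6525 (tt N3839 (iv D7419)) (tt N9005 D9919) (tt N8977 (iv F12227)) (tt N9006 D9920) (tt N4218 F7549))
theorem Q6527 : ∀ i, i < 6527 → P i := stepQ 6526 Q6526 (allL N6526 (tt N7392 (iv F9123)) (tt N3840 F7550) (tt N8509 (iv F11283)) (tt N3839 (iv D7420)) (tt N4217 F7553))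
theorem Q6528 : ∀ i, i < 6528 → P i := stepQ 6527 Q6527 (allL N6527 (tt N7389 (iv F9114)) (tt N4217 F7552) (tt N8999 (iv F12284)) (tt N3845 F7551) (tt N3840 (iv D7421)))
theorem Q6529 : ∀ i, i < 6529 → P i := stepQ 6528 Q6528 (allL N6528 (tt N3843 (iv D7422)) (tt N9007 D9921) (tt N8980 (iv F12231)) (tt N9008 D9922) (tt N4255 F7560))
theorem Q6530 : ∀ i, i < 6530 → P i := stepQ 6529 Q6529 (allL N6529 (tt N3845 F7561) (tt N8777 (iv F11811)) (tt N7750 (iv F9801)) (tt N7792 (iv F9899)) (tt N3844 (iv D7423)))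
theorem Q6531 : ∀ i, i < 6531 → P i := stepQ 6530 Q6530 (allL N6530 (tt N9009 D9923) (tt N3846 (iv D7424)) (tt N6249 F7562) (tt N6248 F7563) (tt N8291 (iv F10843)))
theorem Q6532 : ∀ i, i < 6532 → P i := stepQ 6531 Q6531 (allL N6531 (tt N7136 (iv F8647)) (tt N8291 (iv F10842)) (tt N9003 (iv F12293)) (tt N8318 (iv F10905)) (tt N3846 (iv D7425)))
theorem Q6533 : ∀ i, i < 6533 → P i := stepQ 6532 Q6532 (allL N6532 (tt N7130 (iv F8629)) (tt N8279 (iv F10815)) (tt N3847 (iv D7426)) (tt N7785 (iv F9886)) (tt N7129 F8628))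
theorem Q6534 : ∀ i, i < 6534 → P i := stepQ 6533 Q6533 (allL N6533 (tt N9010 D9924) (tt N9011 D9925) (tt N3848 (iv D7427)) (tt N8546 F11367) (tt N9012 D9926))
theorem Q6535 : ∀ i, i < 6535 → P i := stepQ 6534 Q6534 (allL N6534 (tt N7594 (iv F9481)) (tt N6417 F7564) (tt N8546 (iv F11366)) (tt N3848 (iv D7428)) (tt N4712 (iv F7565)))
theorem Q6536 : ∀ i, i < 6536 → P i := stepQ 6535 Q6535 (allL N6535 (tt N6729 (iv F7915)) (tt N3851 F7566) (tt N6714 (iv F7894)) (tt N6713 F7890) (tt N3849 (iv D7429)))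
theorem Q6537 : ∀ i, i < 6537 → P i := stepQ 6536 Q6536 (allL N6536 (tt N5655 F7567) (tt N6682 (iv F7837)) (tt N9013 D9927) (tt N7886 (iv F10053)) (tt N3850 (iv D7430)))
theorem Q6538 : ∀ i, i < 6538 → P i := stepQ 6537 Q6537 (allL N6537 (tt N4609 F7568) (tt N6847 (iv F8131)) (tt N3851 (iv D7431)) (tt N9014 D9928) (tt N9015 D9929))
theorem Q6539 : ∀ i, i < 6539 → P i := stepQ 6538 Q6538 (allL N6538 (tt N5668 F7892) (tt N6713 (iv F7891)) (tt N9014 (iv F12314)) (tt N3851 (iv D7432)) (tt N9016 D9930))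
theorem Q6540 : ∀ i, i < 6540 → P i := stepQ 6539 Q6539 (allL N6539 (tt N3853 F7569) (tt N5309 F7570) (tt N9017 D9931) (tt N5312 F7571) (tt N3852 (iv D7433)))
theorem Q6541 : ∀ i, i < 6541 → P i := stepQ 6540 Q6540 (allL N6540 (tt N8815 (iv F11867)) (tt N9018 D9932) (tt N3853 (iv D7434)) (tt N3872 F7572) (tt N9019 D9933))
theorem Q6542 : ∀ i, i < 6542 → P i := stepQ 6541 Q6541 (allL N6541 (tt N3854 (iv D7435)) (tt N6356 (iv F8608)) (tt N4330 F7573) (tt N6355 F8609) (tt N9020 D9934))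
theorem Q6543 : ∀ i, i < 6543 → P i := stepQ 6542 Q6542 (allL N6542 (tt N9021 D9935) (tt N3854 (iv D7436)) (tt N9022 D9936) (tt N9023 D9937) (tt N9024 D9938))
theorem Q6544 : ∀ i, i < 6544 → P i := stepQ 6543 Q6543 (allL N6543 (tt N8809 (iv F11854)) (tt N9023 (iv F12335)) (tt N3855 F7574) (tt N3854 (iv D7437)) (tt N9025 D9939))
theorem Q6545 : ∀ i, i < 6545 → P i := stepQ 6544 Q6544 (allL N6544 (tt N9020 (iv F12327)) (tt N9024 (iv F12338)) (tt N9015 (iv F12317)) (tt N9019 F12331) (tt N3854 (iv D7438)))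
theorem Q6546 : ∀ i, i < 6546 → P i := stepQ 6545 Q6545 (allL N6545 (tt N3855 (iv D7439)) (tt N5310 F7576) (tt N9026 D9940) (tt N4631 F7575) (tt N9027 D9941))
theorem Q6547 : ∀ i, i < 6547 → P i := stepQ 6546 Q6546 (allL N6546 (tt N9027 (iv F12343)) (tt N3865 F7577) (tt N9016 F12320) (tt N3873 F7578) (tt N3855 (iv D7440)))
theorem Q6548 : ∀ i, i < 6548 → P i := stepQ 6547 Q6547 (allL N6547 (tt N4078 F7579) (tt N4153 F7580) (tt N3856 (iv D7441)) (tt N4652 F7581) (tt N9028 D9942))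
theorem Q6549 : ∀ i, i < 6549 → P i := stepQ 6548 Q6548 (allL N6548 (tt N3858 F7582) (tt N6894 (iv F8202)) (tt N9029 D9943) (tt N5704 F7583) (tt N3856 (iv D7442)))
theorem Q6550 : ∀ i, i < 6550 → P i := stepQ 6549 Q6549 (allL N6549 (tt N4080 F7584) (tt N6683 (iv F7840)) (tt N9030 D9944) (tt N6694 (iv F7858)) (tt N3857 (iv D7443)))
theorem Q6551 : ∀ i, i < 6551 → P i := stepQ 6550 Q6550 (allL N6550 (tt N4082 F7586) (tt N6988 (iv F8376)) (tt N3858 (iv D7444)) (tt N5722 F7585) (tt N9031 D9945))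
theorem Q6552 : ∀ i, i < 6552 → P i := stepQ 6551 Q6551 (allL N6551 (tt N6551 F7587) (tt N5723 F7588) (tt N3865 F7589) (tt N3876 F7590) (tt N3860 (iv D7445)))
theorem Q6553 : ∀ i, i < 6553 → P i := stepQ 6552 Q6552 (allL N6552 (tt N3862 (iv D7446)) (tt N9032 D9946) (tt N9033 D9947) (tt N8419 (iv F11111)) (tt N8406 (iv F11088)))
theorem Q6554 : ∀ i, i < 6554 → P i := stepQ 6553 Q6553 (allL N6553 (tt N6821 F11114) (tt N9022 (iv F12334)) (tt N3862 (iv D7447)) (tt N8432 (iv F11136)) (tt N6819 (iv F11115)))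
theorem Q6555 : ∀ i, i < 6555 → P i := stepQ 6554 Q6554 (allL N6554 (tt N3866 (iv D7448)) (tt N6899 (iv F8217)) (tt N9034 D9948) (tt N8441 (iv F11150)) (tt N6897 F8211))
theorem Q6556 : ∀ i, i < 6556 → P i := stepQ 6555 Q6555 (allL N6555 (tt N9035 D9949) (tt N9036 D9950) (tt N3866 (iv D7449)) (tt N8465 (iv F11183)) (tt N9037 D9951))
theorem Q6557 : ∀ i, i < 6557 → P i := stepQ 6556 Q6556 (allL N6556 (tt N3868 (iv D7450)) (tt N7058 (iv F8491)) (tt N9038 D9952) (tt N8447 (iv F11155)) (tt N8440 F11148))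
theorem Q6558 : ∀ i, i < 6558 → P i := stepQ 6557 Q6557 (allL N6557 (tt N9039 D9953) (tt N9040 D9954) (tt N3868 (iv D7451)) (tt N8470 (iv F11186)) (tt N9041 D9955))
theorem Q6559 : ∀ i, i < 6559 → P i := stepQ 6558 Q6558 (allL N6558 (tt N9042 D9956) (tt N9043 D9957) (tt N3871 (iv D7452)) (tt N4607 F7591) (tt N9044 D9958))
theorem Q6560 : ∀ i, i < 6560 → P i := stepQ 6559 Q6559 (allL N6559 (tt N3873 F7592) (tt N8275 (iv F10800)) (tt N4615 (iv F7594)) (tt N4712 F7593) (tt N3871 (iv D7453)))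
theorem Q6561 : ∀ i, i < 6561 → P i := stepQ 6560 Q6560 (allL N6560 (tt N3872 (iv D7454)) (tt N6361 (iv F7597)) (tt N4342 F7595) (tt N4616 (iv F7596)) (tt N9045 D9959))
theorem Q6562 : ∀ i, i < 6562 → P i := stepQ 6561 Q6561 (allL N6561 (tt N9046 D9960) (tt N3872 (iv D7455)) (tt N9047 D9961) (tt N9018 (iv F12324)) (tt N9048 D9962))
theorem Q6563 : ∀ i, i < 6563 → P i := stepQ 6562 Q6562 (allL N6562 (tt N9045 (iv F12375)) (tt N9048 (iv F12382)) (tt N9049 D9963) (tt N9025 (iv F12341)) (tt N3872 (iv D7456)))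
theorem Q6564 : ∀ i, i < 6564 → P i := stepQ 6563 Q6563 (allL N6563 (tt N7887 (iv F10056)) (tt N9050 D9964) (tt N3873 (iv D7457)) (tt N9016 (iv F12319)) (tt N7886 (iv F10055)))
theorem Q6565 : ∀ i, i < 6565 → P i := stepQ 6564 Q6564 (allL N6564 (tt N3874 (iv D7458)) (tt N9051 D9965) (tt N9052 D9966) (tt N8425 (iv F11124)) (tt N8418 F11108))
theorem Q6566 : ∀ i, i < 6566 → P i := stepQ 6565 Q6565 (allL N6565 (tt N6890 F11126) (tt N9047 (iv F12381)) (tt N3874 (iv D7459)) (tt N8407 (iv F11089)) (tt N6889 (iv F11128)))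
theorem Q6567 : ∀ i, i < 6567 → P i := stepQ 6566 Q6566 (allL N6566 (tt N9053 D9967) (tt N3876 (iv D7460)) (tt N9054 D9968) (tt N5723 F7598) (tt N3936 F7599))
theorem Q6568 : ∀ i, i < 6568 → P i := stepQ 6567 Q6567 (allL N6567 (tt N4157 F7600) (tt N3878 F7601) (tt N9055 D9969) (tt N5985 (iv F7602)) (tt N3877 (iv D7461)))
theorem Q6569 : ∀ i, i < 6569 → P i := stepQ 6568 Q6568 (allL N6568 (tt N3883 F7604) (tt N6826 (iv F8111)) (tt N3878 (iv D7462)) (tt N5948 F7603) (tt N6823 F8109))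
theorem Q6570 : ∀ i, i < 6570 → P i := stepQ 6569 Q6569 (allL N6569 (tt N4179 F7606) (tt N3879 (iv D7463)) (tt N6997 (iv F8391)) (tt N5971 F7605) (tt N9056 D9970))
theorem Q6571 : ∀ i, i < 6571 → P i := stepQ 6570 Q6570 (allL N6570 (tt N6016 F7607) (tt N9056 (iv F12400)) (tt N6823 (iv F8108)) (tt N5956 F7608) (tt N3879 (iv D7464)))
theorem Q6572 : ∀ i, i < 6572 → P i := stepQ 6571 Q6571 (allL N6571 (tt N5994 F7609) (tt N4416 F7611) (tt N3880 (iv D7465)) (tt N5950 F7610) (tt N4413 (iv F7612)))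
theorem Q6573 : ∀ i, i < 6573 → P i := stepQ 6572 Q6572 (allL N6572 (tt N4016 F7613) (tt N3891 F7614) (tt N9057 D9971) (tt N4008 F7615) (tt N3881 (iv D7466)))
theorem Q6574 : ∀ i, i < 6574 → P i := stepQ 6573 Q6573 (allL N6573 (tt N4054 F7617) (tt N8304 (iv F10870)) (tt N3882 (iv D7467)) (tt N4001 F7616) (tt N8308 (iv F10884)))
theorem Q6575 : ∀ i, i < 6575 → P i := stepQ 6574 Q6574 (allL N6574 (tt N4843 F7619) (tt N3885 (iv D7468)) (tt N9058 D9972) (tt N5968 F7618) (tt N8863 (iv F11989)))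
theorem Q6576 : ∀ i, i < 6576 → P i := stepQ 6575 Q6575 (allL N6575 (tt N3887 F7620) (tt N8863 (iv F11988)) (tt N4413 F7621) (tt N5957 F7622) (tt N3885 (iv D7469)))
theorem Q6577 : ∀ i, i < 6577 → P i := stepQ 6576 Q6576 (allL N6576 (tt N4208 F7625) (tt N3901 F7623) (tt N3886 (iv D7470)) (tt N6024 F7624) (tt N9059 D9973))
theorem Q6578 : ∀ i, i < 6578 → P i := stepQ 6577 Q6577 (allL N6577 (tt N4203 F7628) (tt N3887 F7629) (tt N9060 D9974) (tt N4234 F7630) (tt N3886 (iv D7471)))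
theorem Q6579 : ∀ i, i < 6579 → P i := stepQ 6578 Q6578 (allL N6578 (tt N3888 (iv D7472)) (tt N4078 F7631) (tt N5491 F7632) (tt N5706 F7633) (tt N9061 D9975))
theorem Q6580 : ∀ i, i < 6580 → P i := stepQ 6579 Q6579 (allL N6579 (tt N9061 (iv F12415)) (tt N7368 (iv F9066)) (tt N9062 D9976) (tt N7966 (iv F10203)) (tt N3888 (iv D7473)))
theorem Q6581 : ∀ i, i < 6581 → P i := stepQ 6580 Q6580 (allL N6580 (tt N9063 D9977) (tt N9064 D9978) (tt N3889 (iv D7474)) (tt N9065 D9979) (tt N9066 D9980))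
theorem Q6582 : ∀ i, i < 6582 → P i := stepQ 6581 Q6581 (allL N6581 (tt N7571 (iv F9427)) (tt N6461 F7634) (tt N9065 (iv F12426)) (tt N3889 (iv D7475)) (tt N7781 (iv F9873)))
theorem Q6583 : ∀ i, i < 6583 → P i := stepQ 6582 Q6582 (allL N6582 (tt N6072 F7635) (tt N3988 F7636) (tt N9067 D9981) (tt N5499 F7637) (tt N3890 (iv D7476)))
theorem Q6584 : ∀ i, i < 6584 → P i := stepQ 6583 Q6583 (allL N6583 (tt N9062 (iv F12419)) (tt N6837 (iv F8124)) (tt N3891 (iv D7477)) (tt N9068 D9982) (tt N6835 F8122))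
theorem Q6585 : ∀ i, i < 6585 → P i := stepQ 6584 Q6584 (allL N6584 (tt N6086 (iv F7639)) (tt N4008 F7638) (tt N9068 (iv F12432)) (tt N3891 (iv D7478)) (tt N9069 D9983))
theorem Q6586 : ∀ i, i < 6586 → P i := stepQ 6585 Q6585 (allL N6585 (tt N3893 F7640) (tt N6089 F7641) (tt N9070 D9984) (tt N7573 (iv F9434)) (tt N3892 (iv D7479)))
theorem Q6587 : ∀ i, i < 6587 → P i := stepQ 6586 Q6586 (allL N6586 (tt N8734 (iv F11739)) (tt N7399 (iv F9141)) (tt N3893 (iv D7480)) (tt N6493 F7642) (tt N9071 D9985))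
theorem Q6588 : ∀ i, i < 6588 → P i := stepQ 6587 Q6587 (allL N6587 (tt N9006 (iv F12296)) (tt N3894 (iv D7481)) (tt N9036 (iv F12364)) (tt N7398 (iv F9138)) (tt N9060 F12414))
theorem Q6589 : ∀ i, i < 6589 → P i := stepQ 6588 Q6588 (allL N6588 (tt N8775 (iv F11810)) (tt N7398 F9137) (tt N3895 F7643) (tt N3894 (iv D7482)) (tt N7396 (iv F9139)))
theorem Q6590 : ∀ i, i < 6590 → P i := stepQ 6589 Q6589 (allL N6589 (tt N7385 F9106) (tt N9060 (iv F12411)) (tt N6835 (iv F8121)) (tt N9071 (iv F12440)) (tt N3894 (iv D7483)))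
theorem Q6591 : ∀ i, i < 6591 → P i := stepQ 6590 Q6590 (allL N6590 (tt N3895 (iv D7484)) (tt N7795 (iv F9908)) (tt N9072 D9986) (tt N7569 (iv F9426)) (tt N9073 D9987))
theorem Q6592 : ∀ i, i < 6592 → P i := stepQ 6591 Q6591 (allL N6591 (tt N9073 (iv F12444)) (tt N3896 F7644) (tt N9069 F12436) (tt N3946 F7645) (tt N3895 (iv D7485)))
theorem Q6593 : ∀ i, i < 6593 → P i := stepQ 6592 Q6592 (allL N6592 (tt N3897 (iv D7486)) (tt N6113 F7646) (tt N7756 (iv F9812)) (tt N7575 (iv F9438)) (tt N8699 (iv F11670)))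
theorem Q6594 : ∀ i, i < 6594 → P i := stepQ 6593 Q6593 (allL N6593 (tt N6123 F7649) (tt N4233 F7647) (tt N3897 (iv D7487)) (tt N3944 F7648) (tt N9074 D9988))
theorem Q6595 : ∀ i, i < 6595 → P i := stepQ 6594 Q6594 (allL N6594 (tt N8699 (iv F11668)) (tt N3898 F7650) (tt N8306 (iv F10877)) (tt N3903 (iv F7651)) (tt N3897 (iv D7488)))
theorem Q6596 : ∀ i, i < 6596 → P i := stepQ 6595 Q6595 (allL N6595 (tt N3899 (iv D7489)) (tt N6220 F7652) (tt N4175 F7653) (tt N4776 F7654) (tt N6625 (iv F7707)))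
theorem Q6597 : ∀ i, i < 6597 → P i := stepQ 6596 Q6596 (allL N6596 (tt N6183 F7655) (tt N6984 (iv F8367)) (tt N3899 (iv D7490)) (tt N6619 (iv F7696)) (tt N6623 F8140))
theorem Q6598 : ∀ i, i < 6598 → P i := stepQ 6597 Q6597 (allL N6597 (tt N9075 D9989) (tt N7708 (iv F9703)) (tt N3900 (iv D7491)) (tt N7579 (iv F9448)) (tt N9076 D9990))
theorem Q6599 : ∀ i, i < 6599 → P i := stepQ 6598 Q6598 (allL N6598 (tt N3903 F7656) (tt N6027 F7657) (tt N9077 D9991) (tt N7780 (iv F9871)) (tt N3900 (iv D7492)))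
theorem Q6600 : ∀ i, i < 6600 → P i := stepQ 6599 Q6599 (allL N6599 (tt N6156 F7662) (tt N6024 F7658) (tt N3902 F7659) (tt N3901 (iv D7493)) (tt N9078 D9992))
theorem Q6601 : ∀ i, i < 6601 → P i := stepQ 6600 Q6600 (allL N6600 (tt N6257 F7660) (tt N9059 (iv F12409)) (tt N9079 D9993) (tt N9074 (iv F12448)) (tt N3901 (iv D7494)))
theorem Q6602 : ∀ i, i < 6602 → P i := stepQ 6601 Q6601 (allL N6601 (tt N3902 (iv D7495)) (tt N6161 F7661) (tt N9080 D9994) (tt N7580 (iv F9449)) (tt N8709 (iv F11685)))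
theorem Q6603 : ∀ i, i < 6603 → P i := stepQ 6602 Q6602 (allL N6602 (tt N8709 (iv F11683)) (tt N3904 F7663) (tt N8300 (iv F10861)) (tt N3945 F7664) (tt N3902 (iv D7496)))
theorem Q6604 : ∀ i, i < 6604 → P i := stepQ 6603 Q6603 (allL N6603 (tt N3908 F7665) (tt N5543 F7666) (tt N8538 (iv F11348)) (tt N5006 (iv F7667)) (tt N3905 (iv D7497)))
theorem Q6605 : ∀ i, i < 6605 → P i := stepQ 6604 Q6604 (allL N6604 (tt N3906 (iv D7498)) (tt N6129 (iv F8235)) (tt N4873 (iv F8237)) (tt N4872 F8236) (tt N7164 (iv F8703)))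
theorem Q6606 : ∀ i, i < 6606 → P i := stepQ 6605 Q6605 (allL N6605 (tt N7000 (iv F8397)) (tt N3906 (iv D7499)) (tt N6988 (iv F8377)) (tt N9081 D9995) (tt N9082 D9996))
theorem Q6607 : ∀ i, i < 6607 → P i := stepQ 6606 Q6606 (allL N6606 (tt N6192 (iv F7672)) (tt N9081 (iv F12460)) (tt N3907 F7668) (tt N3906 (iv D7500)) (tt N9083 D9997))
theorem Q6608 : ∀ i, i < 6608 → P i := stepQ 6607 Q6607 (allL N6607 (tt N7164 F8704) (tt N9082 (iv F12464)) (tt N6839 (iv F8126)) (tt N9084 D9998) (tt N3906 (iv D7501)))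
theorem Q6609 : ∀ i, i < 6609 → P i := stepQ 6608 Q6608 (allL N6608 (tt N3907 (iv D7502)) (tt N6200 F7669) (tt N4883 F7671) (tt N4882 F7670) (tt N8051 (iv F10367)))
theorem Q6610 : ∀ i, i < 6610 → P i := stepQ 6609 Q6609 (allL N6609 (tt N8051 (iv F10365)) (tt N3909 F7673) (tt N8372 (iv F11026)) (tt N3935 (iv F7674)) (tt N3907 (iv D7503)))
theorem Q6611 : ∀ i, i < 6611 → P i := stepQ 6610 Q6610 (allL N6610 (tt N5196 F7675) (tt N9085 D9999) (tt N3908 (iv D7504)) (tt N8362 (iv F11002)) (tt N9086 D10000))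
theorem Q6612 : ∀ i, i < 6612 → P i := stepQ 6611 Q6611 (allL N6611 (tt N8049 (iv F10363)) (tt N3910 F7676) (tt N8362 (iv F11001)) (tt N3908 (iv D7505)) (tt N3934 F7677))
theorem Q6613 : ∀ i, i < 6613 → P i := stepQ 6612 Q6612 (allL N6612 (tt N7174 F8725) (tt N5554 F7678) (tt N9087 D10001) (tt N7783 (iv F9882)) (tt N3911 (iv D7506)))
theorem Q6614 : ∀ i, i < 6614 → P i := stepQ 6613 Q6613 (allL N6613 (tt N5287 F7681) (tt N5560 F7679) (tt N3912 (iv D7507)) (tt N5612 F7680) (tt N7170 (iv F8716)))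
theorem Q6615 : ∀ i, i < 6615 → P i := stepQ 6614 Q6614 (allL N6614 (tt N6947 (iv F8295)) (tt N6256 F7682) (tt N3913 (iv D7508)) (tt N4875 F7683) (tt N7740 (iv F9779)))
theorem Q6616 : ∀ i, i < 6616 → P i := stepQ 6615 Q6615 (allL N6615 (tt N3915 F7684) (tt N6154 F7685) (tt N7169 (iv F8711)) (tt N6471 F7686) (tt N3913 (iv D7509)))
theorem Q6617 : ∀ i, i < 6617 → P i := stepQ 6616 Q6616 (allL N6616 (tt N6267 F7687) (tt N4211 F7688) (tt N9088 D10002) (tt N3927 F7689) (tt N3914 (iv D7510)))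
theorem Q6618 : ∀ i, i < 6618 → P i := stepQ 6617 Q6617 (allL N6617 (tt N9087 (iv F12474)) (tt N4104 (iv F7692)) (tt N3915 (iv D7511)) (tt N3928 F7690) (tt N4044 F7691))
theorem Q6619 : ∀ i, i < 6619 → P i := stepQ 6618 Q6618 (allL N6618 (tt N7217 (iv F8803)) (tt N6275 F7694) (tt N3916 (iv D7512)) (tt N7607 (iv F9521)) (tt N8093 (iv F10474)))
theorem Q6620 : ∀ i, i < 6620 → P i := stepQ 6619 Q6619 (allL N6619 (tt N6288 F7695) (tt N9089 D10003) (tt N3918 (iv D7513)) (tt N6596 F7696) (tt N9090 D10004))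
theorem Q6621 : ∀ i, i < 6621 → P i := stepQ 6620 Q6620 (allL N6620 (tt N7720 (iv F9744)) (tt N3919 F7697) (tt N7925 (iv F10140)) (tt N3923 F7698) (tt N3918 (iv D7514)))
theorem Q6622 : ∀ i, i < 6622 → P i := stepQ 6621 Q6621 (allL N6621 (tt N4244 F7701) (tt N3921 F7699) (tt N4227 F7700) (tt N3920 (iv D7515)) (tt N9091 D10005))
theorem Q6623 : ∀ i, i < 6623 → P i := stepQ 6622 Q6622 (allL N6622 (tt N7742 (iv F9783)) (tt N9091 (iv F12487)) (tt N7745 (iv F9792)) (tt N9090 (iv F12485)) (tt N3921 (iv D7516)))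
theorem Q6624 : ∀ i, i < 6624 → P i := stepQ 6623 Q6623 (allL N6623 (tt N7752 (iv F9805)) (tt N7393 (iv F9126)) (tt N6850 (iv F8138)) (tt N3922 (iv D7517)) (tt N6596 (iv F8140)))
theorem Q6625 : ∀ i, i < 6625 → P i := stepQ 6624 Q6624 (allL N6624 (tt N5681 F7702) (tt N9092 D10006) (tt N3923 (iv D7518)) (tt N7925 (iv F10139)) (tt N7929 (iv F10150)))
theorem Q6626 : ∀ i, i < 6626 → P i := stepQ 6625 Q6625 (allL N6625 (tt N3924 (iv D7519)) (tt N5163 F7705) (tt N5846 F7706) (tt N5199 F7708) (tt N6595 F7707))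
theorem Q6627 : ∀ i, i < 6627 → P i := stepQ 6626 Q6626 (allL N6626 (tt N3925 (iv D7520)) (tt N4656 F7711) (tt N5012 F7709) (tt N5011 F7710) (tt N8091 (iv F10467)))
theorem Q6628 : ∀ i, i < 6628 → P i := stepQ 6627 Q6627 (allL N6627 (tt N3927 F7712) (tt N6155 F7713) (tt N7184 (iv F8748)) (tt N6151 F7714) (tt N3926 (iv D7521)))
theorem Q6629 : ∀ i, i < 6629 → P i := stepQ 6628 Q6628 (allL N6628 (tt N9093 D10007) (tt N4113 (iv F7716)) (tt N3927 (iv D7522)) (tt N9088 (iv F12478)) (tt N4050 F7715))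
theorem Q6630 : ∀ i, i < 6630 → P i := stepQ 6629 Q6629 (allL N6629 (tt N7185 F8750) (tt N5556 F7717) (tt N9093 (iv F12492)) (tt N5555 (iv F7718)) (tt N3929 (iv D7523)))
theorem Q6631 : ∀ i, i < 6631 → P i := stepQ 6630 Q6630 (allL N6630 (tt N7182 (iv F8740)) (tt N5567 F7719) (tt N3930 (iv D7524)) (tt N5547 F7720) (tt N7181 F8739))
theorem Q6632 : ∀ i, i < 6632 → P i := stepQ 6631 Q6631 (allL N6631 (tt N3935 F7721) (tt N5544 F7722) (tt N8492 (iv F11242)) (tt N4866 F7723) (tt N3932 (iv D7525)))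
theorem Q6633 : ∀ i, i < 6633 → P i := stepQ 6632 Q6632 (allL N6632 (tt N7037 (iv F8447)) (tt N3933 (iv D7526)) (tt N7020 (iv F8433)) (tt N7019 F8430) (tt N9094 D10008))
theorem Q6634 : ∀ i, i < 6634 → P i := stepQ 6633 Q6633 (allL N6633 (tt N6441 (iv F7728)) (tt N7019 (iv F8429)) (tt N3934 F7724) (tt N3933 (iv D7527)) (tt N9084 (iv F12469)))
theorem Q6635 : ∀ i, i < 6635 → P i := stepQ 6634 Q6634 (allL N6634 (tt N7187 (iv F8754)) (tt N9094 (iv F12496)) (tt N6855 (iv F8145)) (tt N9083 (iv F12467)) (tt N3933 (iv D7528)))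
theorem Q6636 : ∀ i, i < 6636 → P i := stepQ 6635 Q6635 (allL N6635 (tt N3934 (iv D7529)) (tt N6365 F7725) (tt N4970 F7727) (tt N5015 F7726) (tt N8049 (iv F10362)))
theorem Q6637 : ∀ i, i < 6637 → P i := stepQ 6636 Q6636 (allL N6636 (tt N5177 F7729) (tt N9095 D10009) (tt N3935 (iv D7530)) (tt N8372 (iv F11027)) (tt N9096 D10010))
theorem Q6638 : ∀ i, i < 6638 → P i := stepQ 6637 Q6637 (allL N6637 (tt N3936 (iv D7531)) (tt N7056 (iv F8486)) (tt N9097 D10011) (tt N5700 F7730) (tt N9053 (iv F12393)))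
theorem Q6639 : ∀ i, i < 6639 → P i := stepQ 6638 Q6638 (allL N6638 (tt N4264 F7732) (tt N7020 (iv F8432)) (tt N3936 (iv D7532)) (tt N5716 F7731) (tt N9098 D10012))
theorem Q6640 : ∀ i, i < 6640 → P i := stepQ 6639 Q6639 (allL N6639 (tt N4274 F7734) (tt N3937 (iv D7533)) (tt N7033 (iv F8441)) (tt N5955 F7733) (tt N9099 D10013))
theorem Q6641 : ∀ i, i < 6641 → P i := stepQ 6640 Q6640 (allL N6640 (tt N6015 F7735) (tt N9099 (iv F12505)) (tt N6860 (iv F8148)) (tt N5972 F7736) (tt N3937 (iv D7534)))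
theorem Q6642 : ∀ i, i < 6642 → P i := stepQ 6641 Q6641 (allL N6641 (tt N5998 F7738) (tt N9100 D10014) (tt N3938 (iv D7535)) (tt N5973 F7737) (tt N5954 (iv F7739)))
theorem Q6643 : ∀ i, i < 6643 → P i := stepQ 6642 Q6642 (allL N6642 (tt N3941 F7740) (tt N8862 (iv F11985)) (tt N4425 F7742) (tt N5970 F7741) (tt N3939 (iv D7536)))
theorem Q6644 : ∀ i, i < 6644 → P i := stepQ 6643 Q6643 (allL N6643 (tt N4245 F7745) (tt N3944 F7743) (tt N3940 (iv D7537)) (tt N4233 F7744) (tt N9101 D10015))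
theorem Q6645 : ∀ i, i < 6645 → P i := stepQ 6644 Q6644 (allL N6644 (tt N4205 F7748) (tt N3941 F7749) (tt N7397 (iv F9135)) (tt N4239 F7750) (tt N3940 (iv D7538)))
theorem Q6646 : ∀ i, i < 6646 → P i := stepQ 6645 Q6645 (allL N6645 (tt N3942 (iv D7539)) (tt N7810 (iv F9945)) (tt N7222 (iv F8811)) (tt N5951 F7751) (tt N5941 F7752))
theorem Q6647 : ∀ i, i < 6647 → P i := stepQ 6646 Q6646 (allL N6646 (tt N4039 F7755) (tt N3942 (iv D7540)) (tt N9102 D10016) (tt N4002 F7753) (tt N3990 F7754))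
theorem Q6648 : ∀ i, i < 6648 → P i := stepQ 6647 Q6647 (allL N6647 (tt N9103 D10017) (tt N7765 (iv F9838)) (tt N3943 (iv D7541)) (tt N7764 F9837) (tt N9104 D10018))
theorem Q6649 : ∀ i, i < 6649 → P i := stepQ 6648 Q6648 (allL N6648 (tt N3945 F7756) (tt N6029 F7757) (tt N9105 D10019) (tt N6028 (iv F7758)) (tt N3943 (iv D7542)))
theorem Q6650 : ∀ i, i < 6650 → P i := stepQ 6649 Q6649 (allL N6649 (tt N6259 F7759) (tt N9101 (iv F12512)) (tt N9106 D10020) (tt N9078 (iv F12457)) (tt N3944 (iv D7543)))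
theorem Q6651 : ∀ i, i < 6651 → P i := stepQ 6650 Q6650 (allL N6650 (tt N3946 (iv D7544)) (tt N8635 (iv F11545)) (tt N9107 D10021) (tt N7781 (iv F9874)) (tt N6492 F7760))
theorem Q6652 : ∀ i, i < 6652 → P i := stepQ 6651 Q6651 (allL N6651 (tt N5500 (iv F9875)) (tt N9102 (iv F12514)) (tt N3946 (iv D7545)) (tt N9069 (iv F12435)) (tt N5499 F9876))
theorem Q6653 : ∀ i, i < 6653 → P i := stepQ 6652 Q6652 (allL N6652 (tt N7876 (iv F10034)) (tt N8067 (iv F10406)) (tt N3952 F7762) (tt N3948 F7761) (tt N3947 (iv D7546)))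
theorem Q6654 : ∀ i, i < 6654 → P i := stepQ 6653 Q6653 (allL N6653 (tt N7390 (iv F9119)) (tt N3950 F7763) (tt N8833 (iv F11910)) (tt N3949 (iv D7547)) (tt N8212 (iv F10686)))
theorem Q6655 : ∀ i, i < 6655 → P i := stepQ 6654 Q6654 (allL N6654 (tt N7880 (iv F10045)) (tt N8212 (iv F10687)) (tt N7853 (iv F10003)) (tt N3954 F7764) (tt N3950 (iv D7548)))
theorem Q6656 : ∀ i, i < 6656 → P i := stepQ 6655 Q6655 (allL N6655 (tt N3955 (iv D7549)) (tt N3967 F7765) (tt N7414 (iv F9173)) (tt N4791 F7766) (tt N5046 F7767))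
theorem Q6657 : ∀ i, i < 6657 → P i := stepQ 6656 Q6656 (allL N6656 (tt N4406 F7768) (tt N3958 F7769) (tt N8064 (iv F10399)) (tt N3957 F7770) (tt N3956 (iv D7550)))
theorem Q6658 : ∀ i, i < 6658 → P i := stepQ 6657 Q6657 (allL N6657 (tt N4559 F7771) (tt N9108 D10022) (tt N3959 (iv D7551)) (tt N9109 D10023) (tt N5274 (iv F7772)))
theorem Q6659 : ∀ i, i < 6659 → P i := stepQ 6658 Q6658 (allL N6658 (tt N7228 (iv F8822)) (tt N5982 F7773) (tt N9109 (iv F12528)) (tt N3959 (iv D7552)) (tt N5980 (iv F7774)))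
theorem Q6660 : ∀ i, i < 6660 → P i := stepQ 6659 Q6659 (allL N6659 (tt N3960 (iv D7553)) (tt N9110 D10024) (tt N9111 D10025) (tt N9112 D10026) (tt N5260 F7775))
theorem Q6661 : ∀ i, i < 6661 → P i := stepQ 6660 Q6660 (allL N6660 (tt N9113 D10027) (tt N8833 (iv F11909)) (tt N3961 F7776) (tt N3960 (iv D7554)) (tt N8844 (iv F11937)))
theorem Q6662 : ∀ i, i < 6662 → P i := stepQ 6661 Q6661 (allL N6661 (tt N4489 F7777) (tt N4109 F7778) (tt N3963 (iv D7555)) (tt N9114 D10028) (tt N5278 F7779))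
theorem Q6663 : ∀ i, i < 6663 → P i := stepQ 6662 Q6662 (allL N6662 (tt N7229 (iv F8825)) (tt N6993 F8385) (tt N9114 (iv F12540)) (tt N3963 (iv D7556)) (tt N5283 (iv F10316)))
theorem Q6664 : ∀ i, i < 6664 → P i := stepQ 6663 Q6663 (allL N6663 (tt N3964 (iv D7557)) (tt N9115 D10029) (tt N9116 D10030) (tt N9117 D10031) (tt N5300 F7780))
theorem Q6665 : ∀ i, i < 6665 → P i := stepQ 6664 Q6664 (allL N6664 (tt N4490 F7781) (tt N9118 D10032) (tt N3965 (iv D7558)) (tt N9119 D10033) (tt N5301 (iv F7782)))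
theorem Q6666 : ∀ i, i < 6666 → P i := stepQ 6665 Q6665 (allL N6665 (tt N7230 (iv F8826)) (tt N5984 F7783) (tt N9119 (iv F12552)) (tt N3965 (iv D7559)) (tt N5983 F7784))
theorem Q6667 : ∀ i, i < 6667 → P i := stepQ 6666 Q6666 (allL N6666 (tt N3966 F7785) (tt N5981 F7786) (tt N5293 (iv F7788)) (tt N5980 F7787) (tt N3965 (iv D7560)))
theorem Q6668 : ∀ i, i < 6668 → P i := stepQ 6667 Q6667 (allL N6667 (tt N8570 (iv F11406)) (tt N8288 (iv F10837)) (tt N3967 (iv D7561)) (tt N4800 F7794) (tt N8317 (iv F10903)))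
theorem Q6669 : ∀ i, i < 6669 → P i := stepQ 6668 Q6668 (allL N6668 (tt N3968 (iv D7562)) (tt N4922 F7797) (tt N4598 F7798) (tt N4921 F7796) (tt N5602 F7795))
theorem Q6670 : ∀ i, i < 6670 → P i := stepQ 6669 Q6669 (allL N6669 (tt N6769 (iv F7975)) (tt N3968 (iv D7563)) (tt N4705 F7799) (tt N4823 F7800) (tt N5031 F7801))
theorem Q6671 : ∀ i, i < 6671 → P i := stepQ 6670 Q6670 (allL N6670 (tt N4816 F7802) (tt N4070 F7803) (tt N7263 (iv F8874)) (tt N3974 F7804) (tt N3969 (iv D7564)))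
theorem Q6672 : ∀ i, i < 6672 → P i := stepQ 6671 Q6671 (allL N6671 (tt N4832 F7805) (tt N4076 F7806) (tt N7259 (iv F8861)) (tt N3970 (iv D7565)) (tt N9120 D10034))
theorem Q6673 : ∀ i, i < 6673 → P i := stepQ 6672 Q6672 (allL N6672 (tt N7076 (iv F8523)) (tt N4216 F7807) (tt N3972 F7808) (tt N3971 (iv D7566)) (tt N4213 (iv F7809)))
theorem Q6674 : ∀ i, i < 6674 → P i := stepQ 6673 Q6673 (allL N6673 (tt N7801 (iv F9924)) (tt N3995 F7810) (tt N6673 F7811) (tt N3975 F7812) (tt N3972 (iv D7567)))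
theorem Q6675 : ∀ i, i < 6675 → P i := stepQ 6674 Q6674 (allL N6674 (tt N6203 (iv F7816)) (tt N4215 F7813) (tt N6674 F7814) (tt N4213 F7815) (tt N3973 (iv D7568)))
theorem Q6676 : ∀ i, i < 6676 → P i := stepQ 6675 Q6675 (allL N6675 (tt N5625 F7819) (tt N3974 (iv D7569)) (tt N5666 (iv F7821)) (tt N4070 F7820) (tt N5698 F7822))
theorem Q6677 : ∀ i, i < 6677 → P i := stepQ 6676 Q6676 (allL N6676 (tt N3975 F7823) (tt N5698 F7824) (tt N4446 F7825) (tt N9120 (iv F12557)) (tt N3974 (iv D7570)))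
theorem Q6678 : ∀ i, i < 6678 → P i := stepQ 6677 Q6677 (allL N6677 (tt N4017 F7826) (tt N7928 (iv F10148)) (tt N3976 (iv D7571)) (tt N9121 D10035) (tt N7927 F10146))
theorem Q6679 : ∀ i, i < 6679 → P i := stepQ 6678 Q6678 (allL N6678 (tt N3983 F7828) (tt N5206 F7827) (tt N9121 (iv F12558)) (tt N3976 (iv D7572)) (tt N9122 D10036))
theorem Q6680 : ∀ i, i < 6680 → P i := stepQ 6679 Q6679 (allL N6679 (tt N4025 F7830) (tt N7929 (iv F10149)) (tt N3978 F7829) (tt N3977 (iv D7573)) (tt N9092 (iv F12490)))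
theorem Q6681 : ∀ i, i < 6681 → P i := stepQ 6680 Q6680 (allL N6680 (tt N3978 (iv D7574)) (tt N8280 (iv F10819)) (tt N4022 F7831) (tt N4032 F7832) (tt N4061 (iv F7833)))
theorem Q6682 : ∀ i, i < 6682 → P i := stepQ 6681 Q6681 (allL N6681 (tt N4061 F7834) (tt N5211 F7835) (tt N8975 (iv F12223)) (tt N9122 (iv F12562)) (tt N3978 (iv D7575)))
theorem Q6683 : ∀ i, i < 6683 → P i := stepQ 6682 Q6682 (allL N6682 (tt N4003 F7836) (tt N6536 F7837) (tt N3991 F7838) (tt N9123 D10037) (tt N3979 (iv D7576)))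
theorem Q6684 : ∀ i, i < 6684 → P i := stepQ 6683 Q6683 (allL N6683 (tt N4032 F7839) (tt N6549 F7840) (tt N9124 D10038) (tt N3986 F7841) (tt N3980 (iv D7577)))
theorem Q6685 : ∀ i, i < 6685 → P i := stepQ 6684 Q6684 (allL N6684 (tt N4005 F7842) (tt N9125 D10039) (tt N3981 (iv D7578)) (tt N9126 D10040) (tt N7933 (iv F10152)))
theorem Q6686 : ∀ i, i < 6686 → P i := stepQ 6685 Q6685 (allL N6685 (tt N4033 F7843) (tt N8104 (iv F10488)) (tt N9126 (iv F12576)) (tt N3981 (iv D7579)) (tt N9127 D10041))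
theorem Q6687 : ∀ i, i < 6687 → P i := stepQ 6686 Q6686 (allL N6686 (tt N3982 (iv D7580)) (tt N8562 (iv F11389)) (tt N3988 F7844) (tt N9128 D10042) (tt N8307 (iv F10881)))
theorem Q6688 : ∀ i, i < 6688 → P i := stepQ 6687 Q6687 (allL N6687 (tt N8361 (iv F10997)) (tt N3982 (iv D7581)) (tt N9129 D10043) (tt N9130 D10044) (tt N5105 F7845))
theorem Q6689 : ∀ i, i < 6689 → P i := stepQ 6688 Q6688 (allL N6688 (tt N4020 F7847) (tt N9130 (iv F12586)) (tt N3983 F7846) (tt N3982 (iv D7582)) (tt N8507 (iv F11279)))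
theorem Q6690 : ∀ i, i < 6690 → P i := stepQ 6689 Q6689 (allL N6689 (tt N9122 (iv F12560)) (tt N8077 (iv F10436)) (tt N3995 F7849) (tt N3987 F7848) (tt N3983 (iv D7583)))
theorem Q6691 : ∀ i, i < 6691 → P i := stepQ 6690 Q6690 (allL N6690 (tt N6321 F7852) (tt N4231 F7853) (tt N3984 (iv D7584)) (tt N9131 D10045) (tt N6319 F7854))
theorem Q6692 : ∀ i, i < 6692 → P i := stepQ 6691 Q6691 (allL N6691 (tt N8378 (iv F11039)) (tt N3985 F7855) (tt N9131 (iv F12590)) (tt N3984 (iv D7585)) (tt N8376 (iv F11038)))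
theorem Q6693 : ∀ i, i < 6693 → P i := stepQ 6692 Q6692 (allL N6692 (tt N3985 (iv D7586)) (tt N8464 (iv F11182)) (tt N4008 F7856) (tt N9057 (iv F12403)) (tt N8462 F11179))
theorem Q6694 : ∀ i, i < 6694 → P i := stepQ 6693 Q6693 (allL N6693 (tt N8462 (iv F11177)) (tt N8376 (iv F11037)) (tt N4000 F7857) (tt N8507 (iv F11281)) (tt N3985 (iv D7587)))
theorem Q6695 : ∀ i, i < 6695 → P i := stepQ 6694 Q6694 (allL N6694 (tt N7476 (iv F9275)) (tt N3986 (iv D7588)) (tt N8392 (iv F11067)) (tt N6549 F7858) (tt N8404 (iv F11081)))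
theorem Q6696 : ∀ i, i < 6696 → P i := stepQ 6695 Q6695 (allL N6695 (tt N4007 F7859) (tt N9132 D10046) (tt N3986 (iv D7589)) (tt N9124 (iv F12568)) (tt N9133 D10047))
theorem Q6697 : ∀ i, i < 6697 → P i := stepQ 6696 Q6696 (allL N6696 (tt N3987 F7860) (tt N8404 (iv F11082)) (tt N9134 D10048) (tt N9127 (iv F12580)) (tt N3986 (iv D7590)))
theorem Q6698 : ∀ i, i < 6698 → P i := stepQ 6697 Q6697 (allL N6697 (tt N4018 F7861) (tt N5499 F7862) (tt N9128 (iv F12583)) (tt N3988 (iv D7591)) (tt N9102 F12517))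
theorem Q6699 : ∀ i, i < 6699 → P i := stepQ 6698 Q6698 (allL N6698 (tt N8704 (iv F11676)) (tt N3989 (iv D7592)) (tt N9135 D10049) (tt N8301 F10865) (tt N8306 (iv F10876)))
theorem Q6700 : ∀ i, i < 6700 → P i := stepQ 6699 Q6699 (allL N6699 (tt N4041 F7863) (tt N8301 (iv F10864)) (tt N3990 F7864) (tt N3989 (iv D7593)) (tt N8299 (iv F10858)))
theorem Q6701 : ∀ i, i < 6701 → P i := stepQ 6700 Q6700 (allL N6700 (tt N7496 F9308) (tt N3991 (iv D7594)) (tt N9136 D10050) (tt N9137 D10051) (tt N5725 F7868))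
theorem Q6702 : ∀ i, i < 6702 → P i := stepQ 6701 Q6701 (allL N6701 (tt N4037 F7865) (tt N9137 (iv F12605)) (tt N9123 (iv F12565)) (tt N3991 (iv D7595)) (tt N9138 D10052))
theorem Q6703 : ∀ i, i < 6703 → P i := stepQ 6702 Q6702 (allL N6702 (tt N3994 F7866) (tt N5725 (iv F7867)) (tt N7933 (iv F10153)) (tt N9139 D10053) (tt N3991 (iv D7596)))
theorem Q6704 : ∀ i, i < 6704 → P i := stepQ 6703 Q6703 (allL N6703 (tt N3992 (iv D7597)) (tt N6096 (iv F7871)) (tt N4483 F7870) (tt N9140 D10054) (tt N5442 F7869))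
theorem Q6705 : ∀ i, i < 6705 → P i := stepQ 6704 Q6704 (allL N6704 (tt N9141 D10055) (tt N4235 F7872) (tt N3992 (iv D7598)) (tt N9142 D10056) (tt N6392 (iv F11718)))
theorem Q6706 : ∀ i, i < 6706 → P i := stepQ 6705 Q6705 (allL N6705 (tt N5436 F7874) (tt N3993 F7873) (tt N9142 (iv F12623)) (tt N3992 (iv D7599)) (tt N5435 (iv F7875)))
theorem Q6707 : ∀ i, i < 6707 → P i := stepQ 6706 Q6706 (allL N6706 (tt N3993 (iv D7600)) (tt N8011 (iv F10290)) (tt N8974 (iv F12217)) (tt N4035 F7876) (tt N8009 F10283))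
theorem Q6708 : ∀ i, i < 6708 → P i := stepQ 6707 Q6707 (allL N6707 (tt N8009 (iv F10280)) (tt N5435 F7877) (tt N8507 (iv F11280)) (tt N4000 F7878) (tt N3993 (iv D7601)))
theorem Q6709 : ∀ i, i < 6709 → P i := stepQ 6708 Q6708 (allL N6708 (tt N4060 F7879) (tt N8010 (iv F10286)) (tt N9092 (iv F12489)) (tt N8009 F10284) (tt N3996 (iv D7602)))
theorem Q6710 : ∀ i, i < 6710 → P i := stepQ 6709 Q6709 (allL N6709 (tt N9143 D10057) (tt N4237 F7880) (tt N3998 F7881) (tt N3997 (iv D7603)) (tt N9144 D10058))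
theorem Q6711 : ∀ i, i < 6711 → P i := stepQ 6710 Q6710 (allL N6710 (tt N3998 (iv D7604)) (tt N6111 (iv F7888)) (tt N4495 F7882) (tt N9145 D10059) (tt N6110 F7887))
theorem Q6712 : ∀ i, i < 6712 → P i := stepQ 6711 Q6711 (allL N6711 (tt N6110 (iv F7886)) (tt N4000 F7883) (tt N6711 F7885) (tt N5435 F7884) (tt N3998 (iv D7605)))
theorem Q6713 : ∀ i, i < 6713 → P i := stepQ 6712 Q6712 (allL N6712 (tt N7564 F9416) (tt N3999 (iv D7606)) (tt N9146 D10060) (tt N9147 D10061) (tt N5746 (iv F10282)))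
theorem Q6714 : ∀ i, i < 6714 → P i := stepQ 6713 Q6713 (allL N6713 (tt N4004 F7889) (tt N6538 F7891) (tt N3999 (iv D7607)) (tt N6535 (iv F7890)) (tt N9134 (iv F12601)))
theorem Q6715 : ∀ i, i < 6715 → P i := stepQ 6714 Q6714 (allL N6714 (tt N4034 F7893) (tt N9147 (iv F12639)) (tt N6535 F7894) (tt N3999 (iv D7608)) (tt N9139 (iv F12614)))
theorem Q6716 : ∀ i, i < 6716 → P i := stepQ 6715 Q6715 (allL N6715 (tt N4000 F7895) (tt N5746 F10281) (tt N9133 (iv F12597)) (tt N9138 (iv F12610)) (tt N3999 (iv D7609)))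
theorem Q6717 : ∀ i, i < 6717 → P i := stepQ 6716 Q6716 (allL N6716 (tt N8708 (iv F11681)) (tt N4001 (iv D7610)) (tt N9148 D10062) (tt N8304 (iv F10872)) (tt N8300 F10862))
theorem Q6718 : ∀ i, i < 6718 → P i := stepQ 6717 Q6717 (allL N6717 (tt N4048 F7896) (tt N8300 (iv F10860)) (tt N8462 (iv F11178)) (tt N8299 F10857) (tt N4001 (iv D7611)))
theorem Q6719 : ∀ i, i < 6719 → P i := stepQ 6718 Q6718 (allL N6718 (tt N4009 F7898) (tt N9069 (iv F12434)) (tt N4002 (iv D7612)) (tt N9102 (iv F12515)) (tt N4008 F7897))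
theorem Q6720 : ∀ i, i < 6720 → P i := stepQ 6719 Q6719 (allL N6719 (tt N8974 (iv F12218)) (tt N4502 F7899) (tt N4046 F7900) (tt N4003 (iv D7613)) (tt N9149 D10063))
theorem Q6721 : ∀ i, i < 6721 → P i := stepQ 6720 Q6720 (allL N6720 (tt N9134 (iv F12598)) (tt N4503 F7901) (tt N4009 F7902) (tt N9149 (iv F12644)) (tt N4004 (iv D7614)))
theorem Q6722 : ∀ i, i < 6722 → P i := stepQ 6721 Q6721 (allL N6721 (tt N9121 (iv F12559)) (tt N7716 (iv F9730)) (tt N4006 F7903) (tt N4005 (iv D7615)) (tt N7924 (iv F10137)))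
theorem Q6723 : ∀ i, i < 6723 → P i := stepQ 6722 Q6722 (allL N6722 (tt N4021 F7904) (tt N4507 F7905) (tt N9149 (iv F12643)) (tt N4009 F7906) (tt N4006 (iv D7616)))
theorem Q6724 : ∀ i, i < 6724 → P i := stepQ 6723 Q6723 (allL N6723 (tt N9133 (iv F12594)) (tt N5689 F7907) (tt N4048 F7908) (tt N7924 (iv F10136)) (tt N4007 (iv D7617)))
theorem Q6725 : ∀ i, i < 6725 → P i := stepQ 6724 Q6724 (allL N6724 (tt N4012 F7909) (tt N6047 F7910) (tt N9150 D10064) (tt N9151 D10065) (tt N4010 (iv D7618)))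
theorem Q6726 : ∀ i, i < 6726 → P i := stepQ 6725 Q6725 (allL N6725 (tt N7829 (iv F9975)) (tt N6729 (iv F7916)) (tt N7012 (iv F8414)) (tt N6774 (iv F7982)) (tt N4011 (iv D7619)))
theorem Q6727 : ∀ i, i < 6727 → P i := stepQ 6726 Q6726 (allL N6726 (tt N9152 D10066) (tt N9153 D10067) (tt N4012 (iv D7620)) (tt N9154 D10068) (tt N9155 D10069))
theorem Q6728 : ∀ i, i < 6728 → P i := stepQ 6727 Q6727 (allL N6727 (tt N5413 F7912) (tt N4018 F7911) (tt N9154 (iv F12653)) (tt N4012 (iv D7621)) (tt N7073 (iv F8514)))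
theorem Q6729 : ∀ i, i < 6729 → P i := stepQ 6728 Q6728 (allL N6728 (tt N8324 (iv F10922)) (tt N4015 F7913) (tt N4167 F7914) (tt N9156 D10070) (tt N4013 (iv D7622)))
theorem Q6730 : ∀ i, i < 6730 → P i := stepQ 6729 Q6729 (allL N6729 (tt N6535 F7915) (tt N6725 F7916) (tt N4054 F7917) (tt N4053 F7918) (tt N4014 (iv D7623)))
theorem Q6731 : ∀ i, i < 6731 → P i := stepQ 6730 Q6730 (allL N6730 (tt N9123 (iv F12563)) (tt N9156 (iv F12656)) (tt N4041 F7919) (tt N4015 (iv D7624)) (tt N9157 D10071))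
theorem Q6732 : ∀ i, i < 6732 → P i := stepQ 6731 Q6731 (allL N6731 (tt N9124 (iv F12567)) (tt N9158 D10072) (tt N4016 (iv D7625)) (tt N4025 F7920) (tt N9159 D10073))
theorem Q6733 : ∀ i, i < 6733 → P i := stepQ 6732 Q6732 (allL N6732 (tt N9160 D10074) (tt N4017 (iv D7626)) (tt N6958 F10147) (tt N9161 D10075) (tt N9162 D10076))
theorem Q6734 : ∀ i, i < 6734 → P i := stepQ 6733 Q6733 (allL N6733 (tt N9126 (iv F12574)) (tt N9161 (iv F12669)) (tt N4018 F7921) (tt N4017 (iv D7627)) (tt N9163 D10077))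
theorem Q6735 : ∀ i, i < 6735 → P i := stepQ 6734 Q6734 (allL N6734 (tt N7927 (iv F10145)) (tt N9162 (iv F12672)) (tt N4042 F7922) (tt N9159 (iv F12666)) (tt N4017 (iv D7628)))
theorem Q6736 : ∀ i, i < 6736 → P i := stepQ 6735 Q6735 (allL N6735 (tt N9102 (iv F12516)) (tt N7073 F8516) (tt N9157 (iv F12661)) (tt N4026 F7923) (tt N4018 (iv D7629)))
theorem Q6737 : ∀ i, i < 6737 → P i := stepQ 6736 Q6736 (allL N6736 (tt N8330 (iv F10932)) (tt N4019 (iv D7630)) (tt N9164 D10078) (tt N9165 D10079) (tt N8328 (iv F10930)))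
theorem Q6738 : ∀ i, i < 6738 → P i := stepQ 6737 Q6737 (allL N6737 (tt N9128 (iv F12582)) (tt N9165 (iv F12678)) (tt N4033 F7924) (tt N4019 (iv D7631)) (tt N9166 D10080))
theorem Q6739 : ∀ i, i < 6739 → P i := stepQ 6738 Q6738 (allL N6738 (tt N8340 (iv F10955)) (tt N4022 (iv D7632)) (tt N9167 D10081) (tt N9168 D10082) (tt N8339 (iv F10954)))
theorem Q6740 : ∀ i, i < 6740 → P i := stepQ 6739 Q6739 (allL N6739 (tt N9057 (iv F12404)) (tt N9168 (iv F12684)) (tt N4032 F7925) (tt N4022 (iv D7633)) (tt N8514 (iv F11298)))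
theorem Q6741 : ∀ i, i < 6741 → P i := stepQ 6740 Q6740 (allL N6740 (tt N4023 F7926) (tt N8339 (iv F10953)) (tt N4060 F7927) (tt N9166 (iv F12682)) (tt N4022 (iv D7634)))
theorem Q6742 : ∀ i, i < 6742 → P i := stepQ 6741 Q6741 (allL N6741 (tt N4024 (iv D7635)) (tt N6069 F7928) (tt N9169 D10083) (tt N8593 (iv F11474)) (tt N9170 D10084))
theorem Q6743 : ∀ i, i < 6743 → P i := stepQ 6742 Q6742 (allL N6742 (tt N9171 D10085) (tt N9172 D10086) (tt N4024 (iv D7636)) (tt N6924 (iv F8257)) (tt N9173 D10087))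
theorem Q6744 : ∀ i, i < 6744 → P i := stepQ 6743 Q6743 (allL N6743 (tt N9170 (iv F12686)) (tt N4026 F7929) (tt N9174 D10088) (tt N7073 (iv F8515)) (tt N4024 (iv D7637)))
theorem Q6745 : ∀ i, i < 6745 → P i := stepQ 6744 Q6744 (allL N6744 (tt N9175 D10089) (tt N4025 (iv D7638)) (tt N7069 (iv F8510)) (tt N9158 (iv F12663)) (tt N9176 D10090))
theorem Q6746 : ∀ i, i < 6746 → P i := stepQ 6745 Q6745 (allL N6745 (tt N9092 (iv F12491)) (tt N9176 (iv F12701)) (tt N4055 F7930) (tt N9163 (iv F12676)) (tt N4025 (iv D7639)))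
theorem Q6747 : ∀ i, i < 6747 → P i := stepQ 6746 Q6746 (allL N6746 (tt N8975 (iv F12221)) (tt N9177 D10091) (tt N4026 (iv D7640)) (tt N9157 (iv F12660)) (tt N4053 F7931))
theorem Q6748 : ∀ i, i < 6748 → P i := stepQ 6747 Q6747 (allL N6747 (tt N6909 (iv F8244)) (tt N4868 (iv F7933)) (tt N4027 (iv D7641)) (tt N4997 F7934) (tt N4864 F7932))
theorem Q6749 : ∀ i, i < 6749 → P i := stepQ 6748 Q6748 (allL N6748 (tt N4793 F7935) (tt N4063 F7936) (tt N4997 F7937) (tt N4027 (iv D7642)) (tt N5898 (iv F7938)))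
theorem Q6750 : ∀ i, i < 6750 → P i := stepQ 6749 Q6749 (allL N6749 (tt N7190 (iv F8763)) (tt N4039 F7942) (tt N4058 F7943) (tt N4058 F7944) (tt N4030 (iv D7643)))
theorem Q6751 : ∀ i, i < 6751 → P i := stepQ 6750 Q6750 (allL N6750 (tt N6231 F7945) (tt N6989 (iv F8378)) (tt N4031 (iv D7644)) (tt N7042 (iv F8458)) (tt N6230 F7946))
theorem Q6752 : ∀ i, i < 6752 → P i := stepQ 6751 Q6751 (allL N6751 (tt N9127 (iv F12578)) (tt N8283 (iv F10824)) (tt N4039 (iv F7948)) (tt N4061 F7947) (tt N4033 (iv D7645)))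
theorem Q6753 : ∀ i, i < 6753 → P i := stepQ 6752 Q6752 (allL N6752 (tt N5561 F7950) (tt N4034 (iv D7646)) (tt N6994 (iv F8386)) (tt N4059 F7949) (tt N5559 (iv F7951)))
theorem Q6754 : ∀ i, i < 6754 → P i := stepQ 6753 Q6753 (allL N6753 (tt N9139 (iv F12611)) (tt N5559 F7952) (tt N8514 (iv F11297)) (tt N4038 F7953) (tt N4034 (iv D7647)))
theorem Q6755 : ∀ i, i < 6755 → P i := stepQ 6754 Q6754 (allL N6754 (tt N4036 (iv D7648)) (tt N6053 (iv F7956)) (tt N7374 (iv F9077)) (tt N6058 F7954) (tt N6052 F7955))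
theorem Q6756 : ∀ i, i < 6756 → P i := stepQ 6755 Q6755 (allL N6755 (tt N8832 (iv F11904)) (tt N6992 (iv F8382)) (tt N4036 (iv D7649)) (tt N7044 (iv F8460)) (tt N8831 (iv F11903)))
theorem Q6757 : ∀ i, i < 6757 → P i := stepQ 6756 Q6756 (allL N6756 (tt N5570 F7959) (tt N4037 F7960) (tt N7044 (iv F8459)) (tt N4036 (iv D7650)) (tt N5569 (iv F7961)))
theorem Q6758 : ∀ i, i < 6758 → P i := stepQ 6757 Q6757 (allL N6757 (tt N6052 F7962) (tt N4038 F7963) (tt N5559 (iv F7966)) (tt N5559 F7964) (tt N4036 (iv D7651)))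
theorem Q6759 : ∀ i, i < 6759 → P i := stepQ 6758 Q6758 (allL N6758 (tt N9138 (iv F12607)) (tt N5569 F7967) (tt N9166 (iv F12681)) (tt N4060 F7968) (tt N4037 (iv D7652)))
theorem Q6760 : ∀ i, i < 6760 → P i := stepQ 6759 Q6759 (allL N6759 (tt N4040 (iv D7653)) (tt N8664 (iv F11601)) (tt N9056 (iv F12401)) (tt N9178 D10092) (tt N8662 F11597))
theorem Q6761 : ∀ i, i < 6761 → P i := stepQ 6760 Q6760 (allL N6760 (tt N9179 D10093) (tt N9180 D10094) (tt N4040 (iv D7654)) (tt N9181 D10095) (tt N6998 (iv F8393)))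
theorem Q6762 : ∀ i, i < 6762 → P i := stepQ 6761 Q6761 (allL N6761 (tt N4278 (iv F8505)) (tt N4041 F7969) (tt N9181 (iv F12715)) (tt N4040 (iv D7655)) (tt N8158 (iv F10560)))
theorem Q6763 : ∀ i, i < 6763 → P i := stepQ 6762 Q6762 (allL N6762 (tt N8662 (iv F11596)) (tt N4042 F7970) (tt N9182 D10096) (tt N8152 (iv F10554)) (tt N4040 (iv D7656)))
theorem Q6764 : ∀ i, i < 6764 → P i := stepQ 6763 Q6763 (allL N6763 (tt N8299 (iv F10856)) (tt N8158 F10562) (tt N9163 (iv F12675)) (tt N4055 F7971) (tt N4041 (iv D7657)))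
theorem Q6765 : ∀ i, i < 6765 → P i := stepQ 6764 Q6764 (allL N6764 (tt N8308 (iv F10882)) (tt N8152 F10555) (tt N9159 (iv F12665)) (tt N4042 (iv D7658)) (tt N4054 F7972))
theorem Q6766 : ∀ i, i < 6766 → P i := stepQ 6765 Q6765 (allL N6765 (tt N4044 (iv D7659)) (tt N9183 D10097) (tt N7170 (iv F8715)) (tt N7509 (iv F9329)) (tt N9087 (iv F12477)))
theorem Q6767 : ∀ i, i < 6767 → P i := stepQ 6766 Q6766 (allL N6766 (tt N9184 D10098) (tt N4103 F7973) (tt N4045 F7974) (tt N4044 (iv D7660)) (tt N9088 (iv F12479)))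
theorem Q6768 : ∀ i, i < 6768 → P i := stepQ 6767 Q6767 (allL N6767 (tt N7542 (iv F9365)) (tt N8119 (iv F10508)) (tt N7180 (iv F8736)) (tt N4049 (iv D7661)) (tt N8092 (iv F10472)))
theorem Q6769 : ∀ i, i < 6769 → P i := stepQ 6768 Q6768 (allL N6768 (tt N4050 (iv D7662)) (tt N9185 D10099) (tt N7181 (iv F8738)) (tt N7541 (iv F9364)) (tt N9093 (iv F12493)))
theorem Q6770 : ∀ i, i < 6770 → P i := stepQ 6769 Q6769 (allL N6769 (tt N6669 F7975) (tt N5308 F7976) (tt N4716 F7977) (tt N4051 (iv D7663)) (tt N5306 F7978))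
theorem Q6771 : ∀ i, i < 6771 → P i := stepQ 6770 Q6770 (allL N6770 (tt N4052 (iv D7664)) (tt N8673 (iv F11622)) (tt N9099 (iv F12507)) (tt N9186 D10100) (tt N8672 F11620))
theorem Q6772 : ∀ i, i < 6772 → P i := stepQ 6771 Q6771 (allL N6771 (tt N9187 D10101) (tt N9188 D10102) (tt N4052 (iv D7665)) (tt N9189 D10103) (tt N7034 (iv F8442)))
theorem Q6773 : ∀ i, i < 6773 → P i := stepQ 6772 Q6772 (allL N6772 (tt N4186 F7980) (tt N4054 F7979) (tt N9189 (iv F12735)) (tt N4052 (iv D7666)) (tt N8152 (iv F10553)))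
theorem Q6774 : ∀ i, i < 6774 → P i := stepQ 6773 Q6773 (allL N6773 (tt N8672 (iv F11619)) (tt N4055 F7981) (tt N9190 D10104) (tt N8158 (iv F10561)) (tt N4052 (iv D7667)))
theorem Q6775 : ∀ i, i < 6775 → P i := stepQ 6774 Q6774 (allL N6774 (tt N8345 (iv F10964)) (tt N4053 (iv D7668)) (tt N4431 F7983) (tt N6725 F7982) (tt N9177 (iv F12705)))
theorem Q6776 : ∀ i, i < 6776 → P i := stepQ 6775 Q6775 (allL N6775 (tt N7189 (iv F8757)) (tt N4870 (iv F7986)) (tt N4056 (iv D7669)) (tt N4865 F7984) (tt N4996 F7985))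
theorem Q6777 : ∀ i, i < 6777 → P i := stepQ 6776 Q6776 (allL N6776 (tt N4058 F7987) (tt N4125 F7988) (tt N7366 (iv F9061)) (tt N5898 F7989) (tt N4056 (iv D7670)))
theorem Q6778 : ∀ i, i < 6778 → P i := stepQ 6777 Q6777 (allL N6777 (tt N4059 (iv D7671)) (tt N6060 (iv F7995)) (tt N7417 (iv F9411)) (tt N7416 F9409) (tt N6057 F7993))
theorem Q6779 : ∀ i, i < 6779 → P i := stepQ 6778 Q6778 (allL N6778 (tt N8836 (iv F11916)) (tt N6995 (iv F8388)) (tt N4059 (iv D7672)) (tt N6994 F8387) (tt N8835 (iv F11915)))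
theorem Q6780 : ∀ i, i < 6780 → P i := stepQ 6779 Q6779 (allL N6779 (tt N6057 (iv F7992)) (tt N4060 F7990) (tt N5569 F7994) (tt N5569 F7991) (tt N4059 (iv D7673)))
theorem Q6781 : ∀ i, i < 6781 → P i := stepQ 6780 Q6780 (allL N6780 (tt N8645 (iv F11566)) (tt N4061 (iv D7674)) (tt N8283 (iv F10826)) (tt N8283 (iv F10825)) (tt N8280 F10821))
theorem Q6782 : ∀ i, i < 6782 → P i := stepQ 6781 Q6781 (allL N6781 (tt N4062 (iv D7675)) (tt N9191 D10105) (tt N5629 F7996) (tt N9192 D10106) (tt N9193 D10107))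
theorem Q6783 : ∀ i, i < 6783 → P i := stepQ 6782 Q6782 (allL N6782 (tt N9194 D10108) (tt N4062 (iv D7676)) (tt N9195 D10109) (tt N8259 (iv F10771)) (tt N8244 F10742))
theorem Q6784 : ∀ i, i < 6784 → P i := stepQ 6783 Q6783 (allL N6783 (tt N5662 F7998) (tt N8259 (iv F10770)) (tt N4063 F7997) (tt N4062 (iv D7677)) (tt N5896 (iv F7999)))
theorem Q6785 : ∀ i, i < 6785 → P i := stepQ 6784 Q6784 (allL N6784 (tt N9193 (iv F12744)) (tt N8244 (iv F10741)) (tt N5632 F8000) (tt N5627 F8001) (tt N4062 (iv D7678)))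
theorem Q6786 : ∀ i, i < 6786 → P i := stepQ 6785 Q6785 (allL N6785 (tt N4063 (iv D7679)) (tt N5930 F8004) (tt N9196 D10110) (tt N5623 F8005) (tt N5897 F8006))
theorem Q6787 : ∀ i, i < 6787 → P i := stepQ 6786 Q6786 (allL N6786 (tt N4067 F8007) (tt N6786 F8008) (tt N5694 (iv F10356)) (tt N5693 F10357) (tt N4066 (iv D7680)))
theorem Q6788 : ∀ i, i < 6788 → P i := stepQ 6787 Q6787 (allL N6787 (tt N5316 F8009) (tt N5784 F8010) (tt N4067 (iv D7681)) (tt N5640 (iv F8011)) (tt N9197 D10111))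
theorem Q6789 : ∀ i, i < 6789 → P i := stepQ 6788 Q6788 (allL N6788 (tt N5644 F8014) (tt N5375 F8012) (tt N5640 F8013) (tt N4067 (iv D7682)) (tt N4129 (iv F8015)))
theorem Q6790 : ∀ i, i < 6790 → P i := stepQ 6789 Q6789 (allL N6789 (tt N5327 F8016) (tt N5825 F8017) (tt N4069 F8018) (tt N4068 (iv D7683)) (tt N9198 D10112))
theorem Q6791 : ∀ i, i < 6791 → P i := stepQ 6790 Q6790 (allL N6790 (tt N5632 F8019) (tt N5826 F8020) (tt N4075 F8021) (tt N9197 (iv F12760)) (tt N4068 (iv D7684)))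
theorem Q6792 : ∀ i, i < 6792 → P i := stepQ 6791 Q6791 (allL N6791 (tt N4069 (iv D7685)) (tt N6791 F8022) (tt N5675 (iv F8024)) (tt N5656 F8023) (tt N9199 D10113))
theorem Q6793 : ∀ i, i < 6793 → P i := stepQ 6792 Q6792 (allL N6792 (tt N9199 (iv F12765)) (tt N5403 F8025) (tt N4077 F8027) (tt N4129 F8026) (tt N4069 (iv D7686)))
theorem Q6794 : ∀ i, i < 6794 → P i := stepQ 6793 Q6793 (allL N6793 (tt N9200 D10114) (tt N8116 (iv F10506)) (tt N4070 (iv D7687)) (tt N5666 F8028) (tt N8113 F10504))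
theorem Q6795 : ∀ i, i < 6795 → P i := stepQ 6794 Q6794 (allL N6794 (tt N4071 (iv D7688)) (tt N9201 D10115) (tt N5657 F8029) (tt N5669 (iv F8030)) (tt N9202 D10116))
theorem Q6796 : ∀ i, i < 6796 → P i := stepQ 6795 Q6795 (allL N6795 (tt N4585 F8032) (tt N4071 (iv D7689)) (tt N6387 F8034) (tt N4127 F8031) (tt N5478 (iv F8033)))
theorem Q6797 : ∀ i, i < 6797 → P i := stepQ 6796 Q6796 (allL N6796 (tt N9202 (iv F12775)) (tt N5478 F8035) (tt N9197 (iv F12759)) (tt N4075 (iv F8044)) (tt N4071 (iv D7690)))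
theorem Q6798 : ∀ i, i < 6798 → P i := stepQ 6797 Q6797 (allL N6797 (tt N9203 D10117) (tt N4072 (iv D7691)) (tt N6339 (iv F8040)) (tt N6338 F8039) (tt N9204 D10118))
theorem Q6799 : ∀ i, i < 6799 → P i := stepQ 6798 Q6798 (allL N6798 (tt N9196 (iv F12753)) (tt N6338 (iv F8038)) (tt N5645 F8036) (tt N4072 (iv D7692)) (tt N5904 (iv F8037)))
theorem Q6800 : ∀ i, i < 6800 → P i := stepQ 6799 Q6799 (allL N6799 (tt N4075 F8041) (tt N9204 (iv F12781)) (tt N5684 F8042) (tt N5647 (iv F8043)) (tt N4072 (iv D7693)))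
theorem Q6801 : ∀ i, i < 6801 → P i := stepQ 6800 Q6800 (allL N6800 (tt N4073 (iv D7694)) (tt N8675 (iv F11625)) (tt N4573 (iv F8047)) (tt N4572 F8045) (tt N6262 F8046))
theorem Q6802 : ∀ i, i < 6802 → P i := stepQ 6801 Q6801 (allL N6801 (tt N6244 F8049) (tt N4088 F8048) (tt N4073 (iv D7695)) (tt N6398 (iv F8051)) (tt N6242 (iv F8050)))
theorem Q6803 : ∀ i, i < 6803 → P i := stepQ 6802 Q6802 (allL N6802 (tt N5483 F8054) (tt N4074 F8052) (tt N6398 F8053) (tt N4073 (iv D7696)) (tt N5482 (iv F8055)))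
theorem Q6804 : ∀ i, i < 6804 → P i := stepQ 6803 Q6803 (allL N6803 (tt N6262 F8056) (tt N4075 F8057) (tt N6234 F8059) (tt N5478 (iv F8058)) (tt N4073 (iv D7697)))
theorem Q6805 : ∀ i, i < 6805 → P i := stepQ 6804 Q6804 (allL N6804 (tt N4074 (iv D7698)) (tt N9205 D10119) (tt N5659 F10916) (tt N5658 (iv F10915)) (tt N9206 D10120))
theorem Q6806 : ∀ i, i < 6806 → P i := stepQ 6805 Q6805 (allL N6805 (tt N9206 (iv F12788)) (tt N5482 F8060) (tt N9198 (iv F12763)) (tt N4128 F8061) (tt N4074 (iv D7699)))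
theorem Q6807 : ∀ i, i < 6807 → P i := stepQ 6806 Q6806 (allL N6806 (tt N9192 (iv F12742)) (tt N8129 (iv F10522)) (tt N4076 (iv D7700)) (tt N5660 F8062) (tt N8126 F10520))
theorem Q6808 : ∀ i, i < 6808 → P i := stepQ 6807 Q6807 (allL N6807 (tt N4077 F8063) (tt N9120 (iv F12555)) (tt N5328 (iv F8065)) (tt N5698 F8064) (tt N4076 (iv D7701)))
theorem Q6809 : ∀ i, i < 6809 → P i := stepQ 6808 Q6808 (allL N6808 (tt N9028 (iv F12347)) (tt N9061 (iv F12416)) (tt N9207 D10121) (tt N5713 F8066) (tt N4078 (iv D7702)))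
theorem Q6810 : ∀ i, i < 6810 → P i := stepQ 6809 Q6809 (allL N6809 (tt N9029 (iv F12350)) (tt N9075 (iv F12449)) (tt N4079 (iv D7703)) (tt N5720 F8067) (tt N9208 D10122))
theorem Q6811 : ∀ i, i < 6811 → P i := stepQ 6810 Q6810 (allL N6810 (tt N9207 (iv F12793)) (tt N9209 D10123) (tt N4080 (iv D7704)) (tt N5399 F8068) (tt N9210 D10124))
theorem Q6812 : ∀ i, i < 6812 → P i := stepQ 6811 Q6811 (allL N6811 (tt N5702 F8071) (tt N6233 F8069) (tt N4083 F8070) (tt N4082 (iv D7705)) (tt N6381 (iv F8072)))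
theorem Q6813 : ∀ i, i < 6813 → P i := stepQ 6812 Q6812 (allL N6812 (tt N9031 (iv F12354)) (tt N6234 F8073) (tt N9210 (iv F12800)) (tt N6372 (iv F8074)) (tt N4082 (iv D7706)))
theorem Q6814 : ∀ i, i < 6814 → P i := stepQ 6813 Q6813 (allL N6813 (tt N4660 F8075) (tt N4084 F8076) (tt N5400 F8078) (tt N4133 F8077) (tt N4083 (iv D7707)))
theorem Q6815 : ∀ i, i < 6815 → P i := stepQ 6814 Q6814 (allL N6814 (tt N9211 D10125) (tt N6387 F8079) (tt N4085 (iv D7708)) (tt N4131 F8080) (tt N6386 (iv F8086)))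
theorem Q6816 : ∀ i, i < 6816 → P i := stepQ 6815 Q6815 (allL N6815 (tt N4413 F8087) (tt N4087 (iv D7709)) (tt N6016 F8088) (tt N5997 (iv F8089)) (tt N5994 (iv F8090)))
theorem Q6817 : ∀ i, i < 6817 → P i := stepQ 6816 Q6816 (allL N6816 (tt N9212 D10126) (tt N9213 D10127) (tt N4087 (iv D7710)) (tt N7300 F9313) (tt N9214 D10128))
theorem Q6818 : ∀ i, i < 6818 → P i := stepQ 6817 Q6817 (allL N6817 (tt N7497 (iv F9309)) (tt N5997 F8091) (tt N7300 (iv F9312)) (tt N4087 (iv D7711)) (tt N5995 (iv F8092)))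
theorem Q6819 : ∀ i, i < 6819 → P i := stepQ 6818 Q6818 (allL N6818 (tt N4090 F8093) (tt N5994 F8094) (tt N9215 D10129) (tt N6009 (iv F8095)) (tt N4087 (iv D7712)))
theorem Q6820 : ∀ i, i < 6820 → P i := stepQ 6819 Q6819 (allL N6819 (tt N4088 (iv D7713)) (tt N9216 D10130) (tt N9217 D10131) (tt N9218 D10132) (tt N6553 F11115))
theorem Q6821 : ∀ i, i < 6821 → P i := stepQ 6820 Q6820 (allL N6820 (tt N9219 D10133) (tt N6398 F8096) (tt N4089 F8097) (tt N4088 (iv D7714)) (tt N6396 (iv F8101)))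
theorem Q6822 : ∀ i, i < 6822 → P i := stepQ 6821 Q6821 (allL N6821 (tt N6553 (iv F11114)) (tt N6242 F8102) (tt N9220 D10134) (tt N6386 (iv F8103)) (tt N4088 (iv D7715)))
theorem Q6823 : ∀ i, i < 6823 → P i := stepQ 6822 Q6822 (allL N6822 (tt N9147 (iv F12638)) (tt N5428 F8105) (tt N4090 (iv D7716)) (tt N5426 F8104) (tt N5452 (iv F8106)))
theorem Q6824 : ∀ i, i < 6824 → P i := stepQ 6823 Q6823 (allL N6823 (tt N4098 F8107) (tt N4092 (iv D7717)) (tt N6570 F8108) (tt N8585 (iv F11455)) (tt N6568 (iv F8109)))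
theorem Q6825 : ∀ i, i < 6825 → P i := stepQ 6824 Q6824 (allL N6824 (tt N9191 (iv F12741)) (tt N9221 D10135) (tt N4092 (iv D7718)) (tt N9222 D10136) (tt N9223 D10137))
theorem Q6826 : ∀ i, i < 6826 → P i := stepQ 6825 Q6825 (allL N6825 (tt N8583 (iv F11445)) (tt N8585 (iv F11453)) (tt N9222 (iv F12828)) (tt N4092 (iv D7719)) (tt N8583 F11446))
theorem Q6827 : ∀ i, i < 6827 → P i := stepQ 6826 Q6826 (allL N6826 (tt N4095 F8110) (tt N6568 F8111) (tt N9224 D10138) (tt N8590 (iv F11462)) (tt N4092 (iv D7720)))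
theorem Q6828 : ∀ i, i < 6828 → P i := stepQ 6827 Q6827 (allL N6827 (tt N4093 (iv D7721)) (tt N9225 D10139) (tt N9226 D10140) (tt N9227 D10141) (tt N9228 D10142))
theorem Q6829 : ∀ i, i < 6829 → P i := stepQ 6828 Q6828 (allL N6828 (tt N7387 (iv F9109)) (tt N4093 (iv D7722)) (tt N4168 F8112) (tt N8929 (iv F12108)) (tt N8825 (iv F11891)))
theorem Q6830 : ∀ i, i < 6830 → P i := stepQ 6829 Q6829 (allL N6829 (tt N9229 D10143) (tt N8929 (iv F12106)) (tt N4094 F8113) (tt N4093 (iv D7723)) (tt N8928 F12104))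
theorem Q6831 : ∀ i, i < 6831 → P i := stepQ 6830 Q6830 (allL N6830 (tt N9228 (iv F12836)) (tt N8825 F11892) (tt N9230 D10144) (tt N8921 (iv F12085)) (tt N4093 (iv D7724)))
theorem Q6832 : ∀ i, i < 6832 → P i := stepQ 6831 Q6831 (allL N6831 (tt N4094 (iv D7725)) (tt N4096 F8114) (tt N8134 F10527) (tt N4123 (iv F8116)) (tt N4094 F8115))
theorem Q6833 : ∀ i, i < 6833 → P i := stepQ 6832 Q6832 (allL N6832 (tt N9231 D10145) (tt N8112 (iv F10500)) (tt N4095 (iv D7726)) (tt N8110 (iv F10493)) (tt N8133 F10524))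
theorem Q6834 : ∀ i, i < 6834 → P i := stepQ 6833 Q6833 (allL N6833 (tt N4122 F8119) (tt N4097 F8117) (tt N8110 F10492) (tt N4095 (iv D7727)) (tt N4122 F8118))
theorem Q6835 : ∀ i, i < 6835 → P i := stepQ 6834 Q6834 (allL N6834 (tt N4099 (iv D7728)) (tt N4353 F8120) (tt N9232 D10146) (tt N9233 D10147) (tt N9000 F12288))
theorem Q6836 : ∀ i, i < 6836 → P i := stepQ 6835 Q6835 (allL N6835 (tt N9234 D10148) (tt N4099 (iv D7729)) (tt N6589 F8121) (tt N9235 D10149) (tt N6583 (iv F8122)))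
theorem Q6837 : ∀ i, i < 6837 → P i := stepQ 6836 Q6836 (allL N6836 (tt N9236 D10150) (tt N9235 (iv F12848)) (tt N4100 F8123) (tt N4099 (iv D7730)) (tt N9237 D10151))
theorem Q6838 : ∀ i, i < 6838 → P i := stepQ 6837 Q6837 (allL N6837 (tt N9000 (iv F12287)) (tt N6583 F8124) (tt N9238 D10152) (tt N9239 D10153) (tt N4099 (iv D7731)))
theorem Q6839 : ∀ i, i < 6839 → P i := stepQ 6838 Q6838 (allL N6838 (tt N4110 F8125) (tt N9240 D10154) (tt N4101 (iv D7732)) (tt N8622 (iv F11525)) (tt N9241 D10155))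
theorem Q6840 : ∀ i, i < 6840 → P i := stepQ 6839 Q6839 (allL N6839 (tt N7686 (iv F9651)) (tt N4102 (iv D7733)) (tt N6607 F8126) (tt N9242 D10156) (tt N9243 D10157))
theorem Q6841 : ∀ i, i < 6841 → P i := stepQ 6840 Q6840 (allL N6840 (tt N9232 (iv F12840)) (tt N9217 (iv F12817)) (tt N4102 (iv D7734)) (tt N9244 D10158) (tt N9245 D10159))
theorem Q6842 : ∀ i, i < 6842 → P i := stepQ 6841 Q6841 (allL N6841 (tt N8619 (iv F11516)) (tt N9242 (iv F12863)) (tt N9244 (iv F12867)) (tt N4102 (iv D7735)) (tt N9246 D10160))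
theorem Q6843 : ∀ i, i < 6843 → P i := stepQ 6842 Q6842 (allL N6842 (tt N4104 F8127) (tt N9243 (iv F12865)) (tt N9247 D10161) (tt N9248 D10162) (tt N4102 (iv D7736)))
theorem Q6844 : ∀ i, i < 6844 → P i := stepQ 6843 Q6843 (allL N6843 (tt N4103 (iv D7737)) (tt N9249 D10163) (tt N9250 D10164) (tt N9251 D10165) (tt N9252 D10166))
theorem Q6845 : ∀ i, i < 6845 → P i := stepQ 6844 Q6844 (allL N6844 (tt N9252 (iv F12879)) (tt N9088 F12480) (tt N9253 D10167) (tt N4113 F8128) (tt N4103 (iv D7738)))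
theorem Q6846 : ∀ i, i < 6846 → P i := stepQ 6845 Q6845 (allL N6845 (tt N9238 (iv F12855)) (tt N7352 (iv F9043)) (tt N4104 (iv D7739)) (tt N4114 F8129) (tt N8518 (iv F11304)))
theorem Q6847 : ∀ i, i < 6847 → P i := stepQ 6846 Q6846 (allL N6846 (tt N9233 (iv F12844)) (tt N8999 (iv F12283)) (tt N4105 (iv D7740)) (tt N4119 F8130) (tt N8998 (iv F12282)))
theorem Q6848 : ∀ i, i < 6848 → P i := stepQ 6847 Q6847 (allL N6847 (tt N4106 (iv D7741)) (tt N6537 F8131) (tt N9245 (iv F12869)) (tt N9254 D10168) (tt N8997 (iv F12280)))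
theorem Q6849 : ∀ i, i < 6849 → P i := stepQ 6848 Q6848 (allL N6848 (tt N4109 F8132) (tt N5278 F8133) (tt N4107 (iv D7742)) (tt N9255 D10169) (tt N4109 F8134))
theorem Q6850 : ∀ i, i < 6850 → P i := stepQ 6849 Q6849 (allL N6849 (tt N4116 F8136) (tt N4304 F8135) (tt N9255 (iv F12885)) (tt N4107 (iv D7743)) (tt N9256 D10170))
theorem Q6851 : ∀ i, i < 6851 → P i := stepQ 6850 Q6850 (allL N6850 (tt N4969 F8139) (tt N4110 F8137) (tt N6623 F8138) (tt N4108 (iv D7744)) (tt N9257 D10171))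
theorem Q6852 : ∀ i, i < 6852 → P i := stepQ 6851 Q6851 (allL N6851 (tt N4940 F8141) (tt N4111 F8142) (tt N5189 F8143) (tt N9258 D10172) (tt N4108 (iv D7745)))
theorem Q6853 : ∀ i, i < 6853 → P i := stepQ 6852 Q6852 (allL N6852 (tt N9245 (iv F12868)) (tt N9114 (iv F12539)) (tt N4110 F8144) (tt N4109 (iv D7746)) (tt N9232 (iv F12842)))
theorem Q6854 : ∀ i, i < 6854 → P i := stepQ 6853 Q6853 (allL N6853 (tt N9241 (iv F12861)) (tt N9257 (iv F12890)) (tt N7942 (iv F12892)) (tt N9252 (iv F12880)) (tt N4110 (iv D7747)))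
theorem Q6855 : ∀ i, i < 6855 → P i := stepQ 6854 Q6854 (allL N6854 (tt N9259 D10173) (tt N9258 (iv F12893)) (tt N7947 (iv F10178)) (tt N4111 (iv D7748)) (tt N9251 (iv F12878)))
theorem Q6856 : ∀ i, i < 6856 → P i := stepQ 6855 Q6855 (allL N6855 (tt N7689 F9655) (tt N4112 (iv D7749)) (tt N6634 F8145) (tt N9260 D10174) (tt N9261 D10175))
theorem Q6857 : ∀ i, i < 6857 → P i := stepQ 6856 Q6856 (allL N6856 (tt N9255 (iv F12886)) (tt N9262 D10176) (tt N4112 (iv D7750)) (tt N9263 D10177) (tt N9264 D10178))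
theorem Q6858 : ∀ i, i < 6858 → P i := stepQ 6857 Q6857 (allL N6857 (tt N8622 (iv F11526)) (tt N9260 (iv F12899)) (tt N9263 (iv F12904)) (tt N4112 (iv D7751)) (tt N9248 (iv F12872)))
theorem Q6859 : ∀ i, i < 6859 → P i := stepQ 6858 Q6858 (allL N6858 (tt N4113 F8146) (tt N9261 (iv F12901)) (tt N9265 D10179) (tt N9246 (iv F12870)) (tt N4112 (iv D7752)))
theorem Q6860 : ∀ i, i < 6860 → P i := stepQ 6859 Q6859 (allL N6859 (tt N9266 D10180) (tt N8521 (iv F11309)) (tt N4113 (iv D7753)) (tt N9253 (iv F12881)) (tt N8519 F11307))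
theorem Q6861 : ∀ i, i < 6861 → P i := stepQ 6860 Q6860 (allL N6860 (tt N4115 (iv D7754)) (tt N4120 F8147) (tt N6640 F8148) (tt N8591 (iv F11468)) (tt N8584 F11451))
theorem Q6862 : ∀ i, i < 6862 → P i := stepQ 6861 Q6861 (allL N6861 (tt N9267 D10181) (tt N4116 (iv D7755)) (tt N8984 (iv F12241)) (tt N9268 D10182) (tt N8231 (iv F10715)))
theorem Q6863 : ∀ i, i < 6863 → P i := stepQ 6862 Q6862 (allL N6862 (tt N9254 (iv F12882)) (tt N9268 (iv F12909)) (tt N4117 F8149) (tt N4116 (iv D7756)) (tt N9239 (iv F12857)))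
theorem Q6864 : ∀ i, i < 6864 → P i := stepQ 6863 Q6863 (allL N6863 (tt N9256 (iv F12887)) (tt N8231 F10714) (tt N9266 (iv F12906)) (tt N9237 F12854) (tt N4116 (iv D7757)))
theorem Q6865 : ∀ i, i < 6865 → P i := stepQ 6864 Q6864 (allL N6864 (tt N9251 (iv F12876)) (tt N9269 D10183) (tt N4118 (iv D7758)) (tt N8619 (iv F11515)) (tt N9259 (iv F12897)))
theorem Q6866 : ∀ i, i < 6866 → P i := stepQ 6865 Q6865 (allL N6865 (tt N4119 (iv D7759)) (tt N7433 F10054) (tt N9264 (iv F12905)) (tt N9236 (iv F12851)) (tt N9001 (iv F12289)))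
theorem Q6867 : ∀ i, i < 6867 → P i := stepQ 6866 Q6866 (allL N6866 (tt N9270 D10184) (tt N9271 D10185) (tt N4120 (iv D7760)) (tt N9272 D10186) (tt N9273 D10187))
theorem Q6868 : ∀ i, i < 6868 → P i := stepQ 6867 Q6867 (allL N6867 (tt N8590 (iv F11463)) (tt N8591 (iv F11466)) (tt N9272 (iv F12919)) (tt N4120 (iv D7761)) (tt N8590 F11464))
theorem Q6869 : ∀ i, i < 6869 → P i := stepQ 6868 Q6868 (allL N6868 (tt N4123 F8150) (tt N8584 (iv F11449)) (tt N9274 D10188) (tt N8583 F11447) (tt N4120 (iv D7762)))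
theorem Q6870 : ∀ i, i < 6870 → P i := stepQ 6869 Q6869 (allL N6869 (tt N4121 (iv D7763)) (tt N9275 D10189) (tt N9276 D10190) (tt N9277 D10191) (tt N9278 D10192))
theorem Q6871 : ∀ i, i < 6871 → P i := stepQ 6870 Q6870 (allL N6870 (tt N7404 (iv F9152)) (tt N4121 (iv D7764)) (tt N4432 F8151) (tt N7401 (iv F9147)) (tt N8830 (iv F11901)))
theorem Q6872 : ∀ i, i < 6872 → P i := stepQ 6871 Q6871 (allL N6871 (tt N9279 D10193) (tt N7401 (iv F9146)) (tt N4122 F8152) (tt N4121 (iv D7765)) (tt N8921 (iv F12086)))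
theorem Q6873 : ∀ i, i < 6873 → P i := stepQ 6872 Q6872 (allL N6872 (tt N9278 (iv F12927)) (tt N8830 F11902) (tt N9280 D10194) (tt N8928 (iv F12103)) (tt N4121 (iv D7766)))
theorem Q6874 : ∀ i, i < 6874 → P i := stepQ 6873 Q6873 (allL N6873 (tt N9281 D10195) (tt N8111 (iv F10497)) (tt N4123 (iv D7767)) (tt N8134 (iv F10526)) (tt N8109 F10498))
theorem Q6875 : ∀ i, i < 6875 → P i := stepQ 6874 Q6874 (allL N6874 (tt N4124 (iv D7768)) (tt N9270 (iv F12915)) (tt N5648 F8153) (tt N9200 (iv F12770)) (tt N9282 D10196))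
theorem Q6876 : ∀ i, i < 6876 → P i := stepQ 6875 Q6875 (allL N6875 (tt N9283 D10197) (tt N4124 (iv D7769)) (tt N9284 D10198) (tt N5626 F8154) (tt N8258 (iv F10768)))
theorem Q6877 : ∀ i, i < 6877 → P i := stepQ 6876 Q6876 (allL N6876 (tt N9282 (iv F12931)) (tt N8258 (iv F10767)) (tt N5641 F8155) (tt N5896 F8156) (tt N4124 (iv D7770)))
theorem Q6878 : ∀ i, i < 6878 → P i := stepQ 6877 Q6877 (allL N6877 (tt N9285 D10199) (tt N4126 (iv D7771)) (tt N6337 (iv F8158)) (tt N5646 F8157) (tt N9286 D10200))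
theorem Q6879 : ∀ i, i < 6879 → P i := stepQ 6878 Q6878 (allL N6878 (tt N4128 F8159) (tt N9286 (iv F12942)) (tt N5683 (iv F8161)) (tt N5904 F8160) (tt N4126 (iv D7772)))
theorem Q6880 : ∀ i, i < 6880 → P i := stepQ 6879 Q6879 (allL N6879 (tt N4127 (iv D7773)) (tt N8676 (iv F11628)) (tt N4593 F8163) (tt N4592 F8162) (tt N6263 (iv F8164)))
theorem Q6881 : ∀ i, i < 6881 → P i := stepQ 6880 Q6880 (allL N6880 (tt N6252 F8167) (tt N4131 F8165) (tt N4127 (iv D7774)) (tt N6387 F8166) (tt N6251 (iv F8168)))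
theorem Q6882 : ∀ i, i < 6882 → P i := stepQ 6881 Q6881 (allL N6881 (tt N6263 F8169) (tt N4128 F8170) (tt N6238 (iv F8172)) (tt N5482 F8171) (tt N4127 (iv D7775)))
theorem Q6883 : ∀ i, i < 6883 → P i := stepQ 6882 Q6882 (allL N6882 (tt N5641 F8174) (tt N5830 F8175) (tt N4128 (iv D7776)) (tt N9198 (iv F12764)) (tt N5640 F8173))
theorem Q6884 : ∀ i, i < 6884 → P i := stepQ 6883 Q6883 (allL N6883 (tt N4129 (iv D7777)) (tt N7888 (iv F10060)) (tt N5649 F8177) (tt N5903 F8178) (tt N5644 F8176))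
theorem Q6885 : ∀ i, i < 6885 → P i := stepQ 6884 Q6884 (allL N6884 (tt N5506 F8181) (tt N4129 (iv D7778)) (tt N5380 (iv F8182)) (tt N5403 F8179) (tt N5375 F8180))
theorem Q6886 : ∀ i, i < 6886 → P i := stepQ 6885 Q6885 (allL N6885 (tt N4425 F8183) (tt N4130 (iv D7779)) (tt N6015 F8184) (tt N6010 (iv F8185)) (tt N5996 F8186))
theorem Q6887 : ∀ i, i < 6887 → P i := stepQ 6886 Q6886 (allL N6886 (tt N9287 D10201) (tt N9288 D10202) (tt N4130 (iv D7780)) (tt N7318 (iv F9320)) (tt N9289 D10203))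
theorem Q6888 : ∀ i, i < 6888 → P i := stepQ 6887 Q6887 (allL N6887 (tt N7499 (iv F9316)) (tt N6010 F8187) (tt N7318 F9319) (tt N4130 (iv D7781)) (tt N6009 F8188))
theorem Q6889 : ∀ i, i < 6889 → P i := stepQ 6888 Q6888 (allL N6888 (tt N4132 F8189) (tt N5996 F8190) (tt N9290 D10204) (tt N5995 F8191) (tt N4130 (iv D7782)))
theorem Q6890 : ∀ i, i < 6890 → P i := stepQ 6889 Q6889 (allL N6889 (tt N4131 (iv D7783)) (tt N9291 D10205) (tt N9262 (iv F12903)) (tt N9292 D10206) (tt N6565 F11128))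
theorem Q6891 : ∀ i, i < 6891 → P i := stepQ 6890 Q6890 (allL N6890 (tt N6565 (iv F11126)) (tt N6251 F8192) (tt N9293 D10207) (tt N6396 F8193) (tt N4131 (iv D7784)))
theorem Q6892 : ∀ i, i < 6892 → P i := stepQ 6891 Q6891 (allL N6891 (tt N9137 (iv F12604)) (tt N5427 F8195) (tt N4132 (iv D7785)) (tt N5453 F8194) (tt N5425 (iv F8196)))
theorem Q6893 : ∀ i, i < 6893 → P i := stepQ 6892 Q6892 (allL N6892 (tt N4133 (iv D7786)) (tt N8618 (iv F11512)) (tt N9294 D10208) (tt N8626 (iv F11527)) (tt N4263 F8197))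
theorem Q6894 : ∀ i, i < 6894 → P i := stepQ 6893 Q6893 (allL N6893 (tt N9054 (iv F12395)) (tt N5380 F8198) (tt N4133 (iv D7787)) (tt N5400 F8199) (tt N5374 (iv F8200)))
theorem Q6895 : ∀ i, i < 6895 → P i := stepQ 6894 Q6894 (allL N6894 (tt N4144 F8201) (tt N6548 F8202) (tt N4140 F8203) (tt N6907 (iv F8239)) (tt N4134 (iv D7788)))
theorem Q6896 : ∀ i, i < 6896 → P i := stepQ 6895 Q6895 (allL N6895 (tt N4145 F8204) (tt N8406 (iv F11086)) (tt N4135 (iv D7789)) (tt N5454 F8205) (tt N9032 (iv F12358)))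
theorem Q6897 : ∀ i, i < 6897 → P i := stepQ 6896 Q6896 (allL N6896 (tt N6896 F8206) (tt N5755 F8207) (tt N4136 (iv D7790)) (tt N8143 (iv F10540)) (tt N9295 D10209))
theorem Q6898 : ∀ i, i < 6898 → P i := stepQ 6897 Q6897 (allL N6897 (tt N5816 F8209) (tt N4137 (iv D7791)) (tt N9296 D10210) (tt N5878 (iv F8210)) (tt N6554 (iv F8211)))
theorem Q6899 : ∀ i, i < 6899 → P i := stepQ 6898 Q6898 (allL N6898 (tt N6898 F8212) (tt N5878 F8213) (tt N4138 F8214) (tt N4137 (iv D7792)) (tt N9297 D10211))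
theorem Q6900 : ∀ i, i < 6900 → P i := stepQ 6899 Q6899 (allL N6899 (tt N4146 F8216) (tt N6554 F8217) (tt N4142 F8218) (tt N9295 (iv F12965)) (tt N4137 (iv D7793)))
theorem Q6901 : ∀ i, i < 6901 → P i := stepQ 6900 Q6900 (allL N6900 (tt N5115 F8219) (tt N8665 (iv F11603)) (tt N4143 F8221) (tt N4267 F8220) (tt N4138 (iv D7794)))
theorem Q6902 : ∀ i, i < 6902 → P i := stepQ 6901 Q6901 (allL N6901 (tt N6308 F8222) (tt N8720 (iv F11712)) (tt N9295 (iv F12964)) (tt N4142 (iv F8223)) (tt N4139 (iv D7795)))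
theorem Q6903 : ∀ i, i < 6903 → P i := stepQ 6902 Q6902 (allL N6902 (tt N4142 F8224) (tt N6176 F8225) (tt N9032 (iv F12359)) (tt N6382 F8226) (tt N4140 (iv D7796)))
theorem Q6904 : ∀ i, i < 6904 → P i := stepQ 6903 Q6903 (allL N6903 (tt N6324 F8227) (tt N8726 (iv F11724)) (tt N9297 (iv F12970)) (tt N4266 F8228) (tt N4141 (iv D7797)))
theorem Q6905 : ∀ i, i < 6905 → P i := stepQ 6904 Q6904 (allL N6904 (tt N6904 F8231) (tt N5213 F8229) (tt N4148 F8230) (tt N4144 (iv D7798)) (tt N7865 (iv F10015)))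
theorem Q6906 : ∀ i, i < 6906 → P i := stepQ 6905 Q6905 (allL N6905 (tt N9032 (iv F12356)) (tt N5282 F8232) (tt N4149 F8233) (tt N7826 F9970) (tt N4145 (iv D7799)))
theorem Q6907 : ∀ i, i < 6907 → P i := stepQ 6906 Q6906 (allL N6906 (tt N6129 F8234) (tt N9298 D10212) (tt N4147 (iv D7800)) (tt N8849 (iv F11949)) (tt N8873 (iv F12004)))
theorem Q6908 : ∀ i, i < 6908 → P i := stepQ 6907 Q6907 (allL N6907 (tt N6907 F8238) (tt N5704 F8240) (tt N4150 (iv D7801)) (tt N6894 F8239) (tt N8197 (iv F10649)))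
theorem Q6909 : ∀ i, i < 6909 → P i := stepQ 6908 Q6908 (allL N6908 (tt N4545 F8241) (tt N4157 F8242) (tt N6949 (iv F8302)) (tt N4381 F8243) (tt N4151 (iv D7802)))
theorem Q6910 : ∀ i, i < 6910 → P i := stepQ 6909 Q6909 (allL N6909 (tt N6747 F8244) (tt N6954 (iv F8304)) (tt N4152 (iv D7803)) (tt N7063 (iv F8504)) (tt N6948 (iv F8298)))
theorem Q6911 : ∀ i, i < 6911 → P i := stepQ 6910 Q6910 (allL N6910 (tt N4547 F8245) (tt N4159 F8246) (tt N7063 (iv F8503)) (tt N4152 (iv D7804)) (tt N9299 D10213))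
theorem Q6912 : ∀ i, i < 6912 → P i := stepQ 6911 Q6911 (allL N6911 (tt N4163 F8248) (tt N4652 F8247) (tt N8044 (iv F10350)) (tt N4153 (iv D7805)) (tt N9300 D10214))
theorem Q6913 : ∀ i, i < 6913 → P i := stepQ 6912 Q6912 (allL N6912 (tt N4156 F8249) (tt N9028 (iv F12348)) (tt N9301 D10215) (tt N9302 D10216) (tt N4153 (iv D7806)))
theorem Q6914 : ∀ i, i < 6914 → P i := stepQ 6913 Q6913 (allL N6913 (tt N7368 (iv F9065)) (tt N4156 F8250) (tt N8281 (iv F10822)) (tt N8278 (iv F10814)) (tt N4154 (iv D7807)))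
theorem Q6915 : ∀ i, i < 6915 → P i := stepQ 6914 Q6914 (allL N6914 (tt N7195 (iv F8769)) (tt N8277 (iv F10812)) (tt N9303 D10217) (tt N9304 D10218) (tt N4155 (iv D7808)))
theorem Q6916 : ∀ i, i < 6916 → P i := stepQ 6915 Q6915 (allL N6915 (tt N4161 F8251) (tt N9305 D10219) (tt N4156 (iv D7809)) (tt N9306 D10220) (tt N9307 D10221))
theorem Q6917 : ∀ i, i < 6917 → P i := stepQ 6916 Q6916 (allL N6916 (tt N7205 F9974) (tt N8278 (iv F10813)) (tt N9306 (iv F12985)) (tt N4156 (iv D7810)) (tt N9308 D10222))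
theorem Q6918 : ∀ i, i < 6918 → P i := stepQ 6917 Q6917 (allL N6917 (tt N9309 D10223) (tt N9310 D10224) (tt N4157 (iv D7811)) (tt N4430 F8252) (tt N9311 D10225))
theorem Q6919 : ∀ i, i < 6919 → P i := stepQ 6918 Q6918 (allL N6918 (tt N4158 (iv D7812)) (tt N9212 (iv F12804)) (tt N8324 (iv F10924)) (tt N9312 D10226) (tt N9313 D10227))
theorem Q6920 : ∀ i, i < 6920 → P i := stepQ 6919 Q6919 (allL N6919 (tt N7374 (iv F9078)) (tt N4158 (iv D7813)) (tt N9314 D10228) (tt N9315 D10229) (tt N9316 D10230))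
theorem Q6921 : ∀ i, i < 6921 → P i := stepQ 6920 Q6920 (allL N6920 (tt N9317 D10231) (tt N9315 (iv F13005)) (tt N4159 F8253) (tt N4158 (iv D7814)) (tt N9318 D10232))
theorem Q6922 : ∀ i, i < 6922 → P i := stepQ 6921 Q6921 (allL N6921 (tt N9313 (iv F13000)) (tt N9316 (iv F13008)) (tt N9307 (iv F12988)) (tt N9311 (iv F13011)) (tt N4158 (iv D7815)))
theorem Q6923 : ∀ i, i < 6923 → P i := stepQ 6922 Q6922 (allL N6922 (tt N4159 (iv D7816)) (tt N5954 F8254) (tt N9319 D10233) (tt N5953 F8255) (tt N9100 (iv F12509)))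
theorem Q6924 : ∀ i, i < 6924 → P i := stepQ 6923 Q6923 (allL N6923 (tt N9100 (iv F12510)) (tt N9299 (iv F12976)) (tt N9308 (iv F12989)) (tt N4279 F8256) (tt N4159 (iv D7817)))
theorem Q6925 : ∀ i, i < 6925 → P i := stepQ 6924 Q6924 (allL N6924 (tt N9301 (iv F12981)) (tt N7003 (iv F8998)) (tt N4160 (iv D7818)) (tt N6742 F8257) (tt N9320 D10234))
theorem Q6926 : ∀ i, i < 6926 → P i := stepQ 6925 Q6925 (allL N6925 (tt N4532 F8258) (tt N4161 (iv D7819)) (tt N9321 D10235) (tt N8215 (iv F10689)) (tt N5834 (iv F8259)))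
theorem Q6927 : ∀ i, i < 6927 → P i := stepQ 6926 Q6926 (allL N6926 (tt N9307 (iv F12987)) (tt N5834 F8260) (tt N4170 F8261) (tt N8151 F10552) (tt N4161 (iv D7820)))
theorem Q6928 : ∀ i, i < 6928 → P i := stepQ 6927 Q6927 (allL N6927 (tt N4435 F8262) (tt N4165 F8263) (tt N9322 D10236) (tt N4285 F8264) (tt N4162 (iv D7821)))
theorem Q6929 : ∀ i, i < 6929 → P i := stepQ 6928 Q6928 (allL N6928 (tt N5083 F8265) (tt N5353 F8266) (tt N4164 F8267) (tt N4163 (iv D7822)) (tt N9323 D10237))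
theorem Q6930 : ∀ i, i < 6930 → P i := stepQ 6929 Q6929 (allL N6929 (tt N9300 (iv F12979)) (tt N5354 F8268) (tt N8148 (iv F10547)) (tt N9324 D10238) (tt N4163 (iv D7823)))
theorem Q6931 : ∀ i, i < 6931 → P i := stepQ 6930 Q6930 (allL N6930 (tt N5953 F8269) (tt N4281 F8270) (tt N9325 D10239) (tt N4171 F8271) (tt N4164 (iv D7824)))
theorem Q6932 : ∀ i, i < 6932 → P i := stepQ 6931 Q6931 (allL N6931 (tt N9326 D10240) (tt N7312 (iv F8975)) (tt N4165 (iv D7825)) (tt N9327 D10241) (tt N9328 D10242))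
theorem Q6933 : ∀ i, i < 6933 → P i := stepQ 6932 Q6932 (allL N6932 (tt N5985 F8272) (tt N4285 F8273) (tt N9327 (iv F13036)) (tt N4165 (iv D7826)) (tt N9329 D10243))
theorem Q6934 : ∀ i, i < 6934 → P i := stepQ 6933 Q6933 (allL N6933 (tt N4166 (iv D7827)) (tt N7662 (iv F9615)) (tt N8144 (iv F10542)) (tt N9330 D10244) (tt N8933 (iv F12119)))
theorem Q6935 : ∀ i, i < 6935 → P i := stepQ 6934 Q6934 (allL N6934 (tt N9060 (iv F12413)) (tt N4167 (iv D7828)) (tt N9180 (iv F12711)) (tt N4255 F12219) (tt N9006 (iv F12298)))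
theorem Q6936 : ∀ i, i < 6936 → P i := stepQ 6935 Q6935 (allL N6935 (tt N9319 (iv F13017)) (tt N4255 F12220) (tt N9156 (iv F12657)) (tt N4167 (iv D7829)) (tt N9007 (iv F12299)))
theorem Q6937 : ∀ i, i < 6937 → P i := stepQ 6936 Q6936 (allL N6936 (tt N4170 F8274) (tt N9006 (iv F12297)) (tt N9320 (iv F13020)) (tt N9005 F12295) (tt N4167 (iv D7830)))
theorem Q6938 : ∀ i, i < 6938 → P i := stepQ 6937 Q6937 (allL N6937 (tt N4169 (iv D7831)) (tt N7683 (iv F9644)) (tt N9331 D10245) (tt N9332 D10246) (tt N8940 (iv F12128)))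
theorem Q6939 : ∀ i, i < 6939 → P i := stepQ 6938 Q6938 (allL N6938 (tt N4437 F8275) (tt N4171 (iv D7832)) (tt N9333 D10247) (tt N4281 F8276) (tt N9334 D10248))
theorem Q6940 : ∀ i, i < 6940 → P i := stepQ 6939 Q6939 (allL N6939 (tt N9312 (iv F12999)) (tt N8189 (iv F10631)) (tt N4171 (iv D7833)) (tt N9325 (iv F13032)) (tt N9335 D10249))
theorem Q6941 : ∀ i, i < 6941 → P i := stepQ 6940 Q6940 (allL N6940 (tt N4172 F8277) (tt N9334 (iv F13052)) (tt N9336 D10250) (tt N9329 (iv F13040)) (tt N4171 (iv D7834)))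
theorem Q6942 : ∀ i, i < 6942 → P i := stepQ 6941 Q6941 (allL N6941 (tt N4971 F8278) (tt N4173 (iv D7835)) (tt N6941 F8279) (tt N4930 (iv F8280)) (tt N9322 (iv F13026)))
theorem Q6943 : ∀ i, i < 6943 → P i := stepQ 6942 Q6942 (allL N6942 (tt N9337 D10251) (tt N6370 F8281) (tt N4173 (iv D7836)) (tt N9338 D10252) (tt N8089 (iv F10465)))
theorem Q6944 : ∀ i, i < 6944 → P i := stepQ 6943 Q6943 (allL N6943 (tt N5955 F8282) (tt N4930 F8283) (tt N9338 (iv F13062)) (tt N4173 (iv D7837)) (tt N9339 D10253))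
theorem Q6945 : ∀ i, i < 6945 → P i := stepQ 6944 Q6944 (allL N6944 (tt N4174 F8284) (tt N9322 (iv F13027)) (tt N9340 D10254) (tt N9341 D10255) (tt N4173 (iv D7838)))
theorem Q6946 : ∀ i, i < 6946 → P i := stepQ 6945 Q6945 (allL N6945 (tt N4177 F8285) (tt N4175 (iv D7839)) (tt N6983 (iv F8363)) (tt N4891 F8286) (tt N4968 F8287))
theorem Q6947 : ∀ i, i < 6947 → P i := stepQ 6946 Q6946 (allL N6946 (tt N4176 (iv D7840)) (tt N4873 (iv F8291)) (tt N6183 F8288) (tt N4871 F8290) (tt N4952 F8289))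
theorem Q6948 : ∀ i, i < 6948 → P i := stepQ 6947 Q6947 (allL N6947 (tt N6614 F8295) (tt N4176 (iv D7841)) (tt N4403 F8292) (tt N4927 F8293) (tt N4946 F8294))
theorem Q6949 : ∀ i, i < 6949 → P i := stepQ 6948 Q6948 (allL N6948 (tt N4864 F8296) (tt N4179 F8297) (tt N4177 (iv D7842)) (tt N4177 (iv F8299)) (tt N6909 F8298))
theorem Q6950 : ∀ i, i < 6950 → P i := stepQ 6949 Q6949 (allL N6949 (tt N4968 F8300) (tt N4180 F8301) (tt N6908 F8302) (tt N7189 (iv F8758)) (tt N4177 (iv D7843)))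
theorem Q6951 : ∀ i, i < 6951 → P i := stepQ 6950 Q6950 (allL N6950 (tt N4178 (iv D7844)) (tt N9029 (iv F12351)) (tt N8779 (iv F11817)) (tt N9342 D10256) (tt N9343 D10257))
theorem Q6952 : ∀ i, i < 6952 → P i := stepQ 6951 Q6951 (allL N6951 (tt N7708 (iv F9705)) (tt N4178 (iv D7845)) (tt N8823 (iv F11882)) (tt N8823 (iv F11883)) (tt N9344 D10258))
theorem Q6953 : ∀ i, i < 6953 → P i := stepQ 6952 Q6952 (allL N6952 (tt N7214 (iv F8797)) (tt N8823 (iv F11881)) (tt N4179 F8303) (tt N4178 (iv D7846)) (tt N9345 D10259))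
theorem Q6954 : ∀ i, i < 6954 → P i := stepQ 6953 Q6953 (allL N6953 (tt N9343 (iv F13073)) (tt N9344 (iv F13076)) (tt N9346 D10260) (tt N9347 D10261) (tt N4178 (iv D7847)))
theorem Q6955 : ∀ i, i < 6955 → P i := stepQ 6954 Q6954 (allL N6954 (tt N9056 (iv F12399)) (tt N6909 F8304) (tt N9348 D10262) (tt N4275 F8305) (tt N4179 (iv D7848)))
theorem Q6956 : ∀ i, i < 6956 → P i := stepQ 6955 Q6955 (allL N6955 (tt N9349 D10263) (tt N9350 D10264) (tt N4180 (iv D7849)) (tt N9351 D10265) (tt N9352 D10266))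
theorem Q6957 : ∀ i, i < 6957 → P i := stepQ 6956 Q6956 (allL N6956 (tt N9099 (iv F12504)) (tt N7189 F8760) (tt N9351 (iv F13089)) (tt N4180 (iv D7850)) (tt N4274 F8306))
theorem Q6958 : ∀ i, i < 6958 → P i := stepQ 6957 Q6957 (allL N6957 (tt N8779 (iv F11816)) (tt N4207 F8368) (tt N4181 (iv D7851)) (tt N6998 (iv F8392)) (tt N9189 (iv F12736)))
theorem Q6959 : ∀ i, i < 6959 → P i := stepQ 6958 Q6958 (allL N6958 (tt N4183 F8307) (tt N7002 (iv F8399)) (tt N6732 (iv F10147)) (tt N7035 (iv F8444)) (tt N4181 (iv D7852)))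
theorem Q6960 : ∀ i, i < 6960 → P i := stepQ 6959 Q6959 (allL N6959 (tt N4182 (iv D7853)) (tt N4856 F8308) (tt N9353 D10267) (tt N9354 D10268) (tt N8943 (iv F12141)))
theorem Q6961 : ∀ i, i < 6961 → P i := stepQ 6960 Q6960 (allL N6960 (tt N9346 (iv F13080)) (tt N5833 F8310) (tt N4183 (iv D7854)) (tt N8157 F10559) (tt N5831 F8309))
theorem Q6962 : ∀ i, i < 6962 → P i := stepQ 6961 Q6961 (allL N6961 (tt N4881 F8311) (tt N4184 (iv D7855)) (tt N6961 F8312) (tt N9355 D10269) (tt N9333 (iv F13049)))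
theorem Q6963 : ∀ i, i < 6963 → P i := stepQ 6962 Q6962 (allL N6962 (tt N9342 (iv F13072)) (tt N8098 F10484) (tt N4184 (iv D7856)) (tt N9356 D10270) (tt N8096 (iv F10485)))
theorem Q6964 : ∀ i, i < 6964 → P i := stepQ 6963 Q6963 (allL N6963 (tt N5971 F8313) (tt N9355 (iv F13095)) (tt N9356 (iv F13098)) (tt N4184 (iv D7857)) (tt N9341 (iv F13070)))
theorem Q6965 : ∀ i, i < 6965 → P i := stepQ 6964 Q6964 (allL N6964 (tt N4185 F8314) (tt N9333 (iv F13050)) (tt N9357 D10271) (tt N9339 (iv F13065)) (tt N4184 (iv D7858)))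
theorem Q6966 : ∀ i, i < 6966 → P i := stepQ 6965 Q6965 (allL N6965 (tt N4198 F8315) (tt N4188 F8316) (tt N4545 F8317) (tt N4599 (iv F8318)) (tt N4187 (iv D7859)))
theorem Q6967 : ∀ i, i < 6967 → P i := stepQ 6966 Q6966 (allL N6966 (tt N9358 D10272) (tt N9359 D10273) (tt N4188 (iv D7860)) (tt N6433 F8319) (tt N9360 D10274))
theorem Q6968 : ∀ i, i < 6968 → P i := stepQ 6967 Q6967 (allL N6967 (tt N9058 (iv F12405)) (tt N4189 (iv D7861)) (tt N6129 F8320) (tt N4844 F8321) (tt N8898 (iv F12041)))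
theorem Q6969 : ∀ i, i < 6969 → P i := stepQ 6968 Q6968 (allL N6968 (tt N4192 F8322) (tt N8898 (iv F12039)) (tt N6447 (iv F8339)) (tt N6439 F8338) (tt N4189 (iv D7862)))
theorem Q6970 : ∀ i, i < 6970 → P i := stepQ 6969 Q6969 (allL N6969 (tt N6268 F8323) (tt N4191 F8324) (tt N6233 F8325) (tt N4190 (iv D7863)) (tt N6397 (iv F8326)))
theorem Q6971 : ∀ i, i < 6971 → P i := stepQ 6970 Q6970 (allL N6970 (tt N6260 F8327) (tt N4192 F8328) (tt N6242 F8329) (tt N6373 F8330) (tt N4190 (iv D7864)))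
theorem Q6972 : ∀ i, i < 6972 → P i := stepQ 6971 Q6971 (allL N6971 (tt N4191 (iv D7865)) (tt N6971 F8331) (tt N6194 F9672) (tt N6193 (iv F9673)) (tt N9361 D10275))
theorem Q6973 : ∀ i, i < 6973 → P i := stepQ 6972 Q6972 (allL N6972 (tt N9361 (iv F13108)) (tt N6397 F8332) (tt N9362 D10276) (tt N4260 F8337) (tt N4191 (iv D7866)))
theorem Q6974 : ∀ i, i < 6974 → P i := stepQ 6973 Q6973 (allL N6973 (tt N6177 F8333) (tt N5835 F8334) (tt N4192 (iv D7867)) (tt N9363 D10277) (tt N9364 D10278))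
theorem Q6975 : ∀ i, i < 6975 → P i := stepQ 6974 Q6974 (allL N6974 (tt N9365 D10279) (tt N6373 F8335) (tt N9363 (iv F13118)) (tt N4192 (iv D7868)) (tt N4259 (iv F8336)))
theorem Q6976 : ∀ i, i < 6976 → P i := stepQ 6975 Q6975 (allL N6975 (tt N4859 F8340) (tt N4193 (iv D7869)) (tt N4881 F8341) (tt N6203 F8342) (tt N7256 (iv F8854)))
theorem Q6977 : ∀ i, i < 6977 → P i := stepQ 6976 Q6976 (allL N6976 (tt N4194 F8343) (tt N7256 (iv F8852)) (tt N9366 D10280) (tt N6445 (iv F8344)) (tt N4193 (iv D7870)))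
theorem Q6978 : ∀ i, i < 6978 → P i := stepQ 6977 Q6977 (allL N6977 (tt N9205 (iv F12784)) (tt N5402 F8345) (tt N4194 (iv D7871)) (tt N4262 F8346) (tt N5401 (iv F8347)))
theorem Q6979 : ∀ i, i < 6979 → P i := stepQ 6978 Q6978 (allL N6978 (tt N4195 (iv D7872)) (tt N5141 F8350) (tt N6186 F8348) (tt N5159 (iv F8349)) (tt N9367 D10281))
theorem Q6980 : ∀ i, i < 6980 → P i := stepQ 6979 Q6979 (allL N6979 (tt N5508 F8352) (tt N4195 (iv D7873)) (tt N5428 F8351) (tt N5379 (iv F8353)) (tt N5376 (iv F8354)))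
theorem Q6981 : ∀ i, i < 6981 → P i := stepQ 6980 Q6980 (allL N6980 (tt N9201 (iv F12771)) (tt N5379 F8355) (tt N4196 F8356) (tt N4195 (iv D7874)) (tt N5377 (iv F8357)))
theorem Q6982 : ∀ i, i < 6982 → P i := stepQ 6981 Q6981 (allL N6981 (tt N9367 (iv F13129)) (tt N5376 F8358) (tt N9364 (iv F13122)) (tt N5401 (iv F8359)) (tt N4195 (iv D7875)))
theorem Q6983 : ∀ i, i < 6983 → P i := stepQ 6982 Q6982 (allL N6982 (tt N4196 (iv D7876)) (tt N7255 (iv F8850)) (tt N9368 D10282) (tt N6204 F8361) (tt N4261 F8360))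
theorem Q6984 : ∀ i, i < 6984 → P i := stepQ 6983 Q6983 (allL N6983 (tt N4197 (iv D7877)) (tt N4843 F8362) (tt N6945 F8363) (tt N4842 F8364) (tt N4347 F8365))
theorem Q6985 : ∀ i, i < 6985 → P i := stepQ 6984 Q6984 (allL N6984 (tt N4207 F8366) (tt N6596 F8367) (tt N4199 (iv D7878)) (tt N9089 (iv F12483)) (tt N7393 F9129))
theorem Q6986 : ∀ i, i < 6986 → P i := stepQ 6985 Q6985 (allL N6985 (tt N4214 F8370) (tt N5214 F8369) (tt N9089 (iv F12482)) (tt N4199 (iv D7879)) (tt N9369 D10283))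
theorem Q6987 : ∀ i, i < 6987 → P i := stepQ 6986 Q6986 (allL N6986 (tt N4202 F8371) (tt N5215 F8372) (tt N7327 (iv F8996)) (tt N4228 (iv F8373)) (tt N4199 (iv D7880)))
theorem Q6988 : ∀ i, i < 6988 → P i := stepQ 6987 Q6987 (allL N6987 (tt N8739 (iv F11751)) (tt N4202 F8374) (tt N5553 F8375) (tt N8824 (iv F11885)) (tt N4200 (iv D7881)))
theorem Q6989 : ∀ i, i < 6989 → P i := stepQ 6988 Q6988 (allL N6988 (tt N4201 (iv D7882)) (tt N6550 F8376) (tt N6605 F8377) (tt N8402 (iv F11078)) (tt N9370 D10284))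
theorem Q6990 : ∀ i, i < 6990 → P i := stepQ 6989 Q6989 (allL N6989 (tt N9370 (iv F13137)) (tt N6750 F8378) (tt N9371 D10285) (tt N4253 F8381) (tt N4201 (iv D7883)))
theorem Q6991 : ∀ i, i < 6991 → P i := stepQ 6990 Q6990 (allL N6990 (tt N4212 F8379) (tt N9372 D10286) (tt N4202 (iv D7884)) (tt N9373 D10287) (tt N8525 (iv F11313)))
theorem Q6992 : ∀ i, i < 6992 → P i := stepQ 6991 Q6991 (allL N6991 (tt N9374 D10288) (tt N8824 F11888) (tt N9373 (iv F13146)) (tt N4202 (iv D7885)) (tt N4252 F8380))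
theorem Q6993 : ∀ i, i < 6993 → P i := stepQ 6992 Q6992 (allL N6992 (tt N9216 (iv F12813)) (tt N6755 F8382) (tt N4203 (iv D7886)) (tt N4254 F8383) (tt N9375 D10289))
theorem Q6994 : ∀ i, i < 6994 → P i := stepQ 6993 Q6993 (allL N6993 (tt N4204 (iv D7887)) (tt N6662 (iv F8385)) (tt N7393 (iv F9127)) (tt N4236 F8384) (tt N8024 F10315))
theorem Q6995 : ∀ i, i < 6995 → P i := stepQ 6994 Q6994 (allL N6994 (tt N9376 D10290) (tt N4204 (iv D7888)) (tt N6752 F8386) (tt N6778 (iv F8387)) (tt N9377 D10291))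
theorem Q6996 : ∀ i, i < 6996 → P i := stepQ 6995 Q6995 (allL N6995 (tt N9291 (iv F12951)) (tt N6778 F8388) (tt N4205 F8389) (tt N4204 (iv D7889)) (tt N9378 D10292))
theorem Q6997 : ∀ i, i < 6997 → P i := stepQ 6996 Q6996 (allL N6996 (tt N8024 (iv F10314)) (tt N9377 (iv F13160)) (tt N8525 (iv F11314)) (tt N9375 F13153) (tt N4204 (iv D7890)))
theorem Q6998 : ∀ i, i < 6998 → P i := stepQ 6997 Q6997 (allL N6997 (tt N4206 (iv D7891)) (tt N6142 F8390) (tt N6569 F8391) (tt N8605 (iv F11491)) (tt N9379 D10293))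
theorem Q6999 : ∀ i, i < 6999 → P i := stepQ 6998 Q6998 (allL N6998 (tt N9298 (iv F12972)) (tt N7000 (iv F8395)) (tt N4206 (iv D7892)) (tt N6957 F8392) (tt N6760 F8393))
theorem Q7000 : ∀ i, i < 7000 → P i := stepQ 6999 Q6999 (allL N6999 (tt N9379 (iv F13166)) (tt N4209 F8394) (tt N9158 (iv F12662)) (tt N7069 (iv F8509)) (tt N4206 (iv D7893)))
theorem Q7001 : ∀ i, i < 7001 → P i := stepQ 7000 Q7000 (allL N7000 (tt N6605 F8397) (tt N6998 F8395) (tt N4208 F8396) (tt N4207 (iv D7894)) (tt N9180 (iv F12712)))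
theorem Q7002 : ∀ i, i < 7002 → P i := stepQ 7001 Q7001 (allL N7001 (tt N7393 (iv F9128)) (tt N9189 (iv F12734)) (tt N4218 F8398) (tt N9188 F12733) (tt N4207 (iv D7895)))
theorem Q7003 : ∀ i, i < 7003 → P i := stepQ 7002 Q7002 (allL N7002 (tt N9059 (iv F12408)) (tt N6958 F8399) (tt N9153 (iv F12648)) (tt N4246 F8400) (tt N4208 (iv D7896)))
theorem Q7004 : ∀ i, i < 7004 → P i := stepQ 7003 Q7003 (allL N7003 (tt N7327 (iv F8997)) (tt N6924 F8998) (tt N4209 (iv D7897)) (tt N9172 (iv F12691)) (tt N8977 (iv F12228)))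
theorem Q7005 : ∀ i, i < 7005 → P i := stepQ 7004 Q7004 (allL N7004 (tt N9101 (iv F12511)) (tt N7069 (iv F8508)) (tt N9172 (iv F12690)) (tt N4209 (iv D7898)) (tt N4245 F8401))
theorem Q7006 : ∀ i, i < 7006 → P i := stepQ 7005 Q7005 (allL N7005 (tt N9089 (iv F12481)) (tt N4911 F8402) (tt N4210 (iv D7899)) (tt N7395 (iv F9133)) (tt N7391 (iv F9122)))
theorem Q7007 : ∀ i, i < 7007 → P i := stepQ 7006 Q7006 (allL N7006 (tt N6024 F8403) (tt N4912 F8404) (tt N7395 (iv F9132)) (tt N4210 (iv D7900)) (tt N4242 F8405))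
theorem Q7008 : ∀ i, i < 7008 → P i := stepQ 7007 Q7007 (allL N7007 (tt N4211 F8406) (tt N4913 F8407) (tt N7324 (iv F8988)) (tt N4241 F8408) (tt N4210 (iv D7901)))
theorem Q7009 : ∀ i, i < 7009 → P i := stepQ 7008 Q7008 (allL N7008 (tt N9380 D10294) (tt N8510 (iv F11286)) (tt N4211 (iv D7902)) (tt N4247 F8409) (tt N8509 F11285))
theorem Q7010 : ∀ i, i < 7010 → P i := stepQ 7009 Q7009 (allL N7009 (tt N8402 (iv F11077)) (tt N8078 (iv F10439)) (tt N4215 F8410) (tt N4214 (iv D7903)) (tt N4232 F8411))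
theorem Q7011 : ∀ i, i < 7011 → P i := stepQ 7010 Q7010 (allL N7010 (tt N9369 (iv F13134)) (tt N8076 (iv F10431)) (tt N9380 (iv F13168)) (tt N4230 F8412) (tt N4214 (iv D7904)))
theorem Q7012 : ∀ i, i < 7012 → P i := stepQ 7011 Q7011 (allL N7011 (tt N9381 D10295) (tt N9142 (iv F12622)) (tt N4216 (iv D7905)) (tt N4235 F8413) (tt N9382 D10296))
theorem Q7013 : ∀ i, i < 7013 → P i := stepQ 7012 Q7012 (allL N7012 (tt N9055 (iv F12398)) (tt N4218 (iv D7907)) (tt N6725 F8414) (tt N4431 (iv F8415)) (tt N9005 (iv F12294)))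
theorem Q7014 : ∀ i, i < 7014 → P i := stepQ 7013 Q7013 (allL N7013 (tt N7397 (iv F9134)) (tt N4431 F8416) (tt N9188 (iv F12731)) (tt N4218 (iv D7908)) (tt N9008 (iv F12303)))
theorem Q7015 : ∀ i, i < 7015 → P i := stepQ 7014 Q7014 (allL N7014 (tt N8856 (iv F11969)) (tt N8822 (iv F11878)) (tt N8850 (iv F11953)) (tt N4221 F8417) (tt N4219 (iv D7909)))
theorem Q7016 : ∀ i, i < 7016 → P i := stepQ 7015 Q7015 (allL N7015 (tt N7878 (iv F10041)) (tt N8071 (iv F10417)) (tt N4220 (iv D7910)) (tt N4223 F8418) (tt N8070 (iv F10415)))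
theorem Q7017 : ∀ i, i < 7017 → P i := stepQ 7016 Q7016 (allL N7016 (tt N4846 F8419) (tt N4225 (iv D7911)) (tt N4346 F8422) (tt N4382 F8420) (tt N4842 F8421))
theorem Q7018 : ∀ i, i < 7018 → P i := stepQ 7017 Q7017 (allL N7017 (tt N4835 F8423) (tt N4261 F8424) (tt N4971 F8425) (tt N4226 (iv D7912)) (tt N7255 (iv F8851)))
theorem Q7019 : ∀ i, i < 7019 → P i := stepQ 7018 Q7018 (allL N7018 (tt N4253 F8426) (tt N5217 F8427) (tt N8981 (iv F12235)) (tt N9369 (iv F13136)) (tt N4227 (iv D7913)))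
theorem Q7020 : ∀ i, i < 7020 → P i := stepQ 7019 Q7019 (allL N7019 (tt N4240 F8428) (tt N6633 F8429) (tt N4229 (iv D7914)) (tt N6632 (iv F8430)) (tt N9383 D10297))
theorem Q7021 : ∀ i, i < 7021 → P i := stepQ 7020 Q7020 (allL N7020 (tt N4252 F8431) (tt N6638 F8432) (tt N6632 F8433) (tt N4229 (iv D7915)) (tt N9374 (iv F13149)))
theorem Q7022 : ∀ i, i < 7022 → P i := stepQ 7021 Q7021 (allL N7021 (tt N4230 F8434) (tt N8397 (iv F11073)) (tt N7323 (iv F8986)) (tt N9370 (iv F13140)) (tt N4229 (iv D7916)))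
theorem Q7023 : ∀ i, i < 7023 → P i := stepQ 7022 Q7022 (allL N7022 (tt N9384 D10298) (tt N9129 (iv F12584)) (tt N4230 (iv D7917)) (tt N9380 (iv F13169)) (tt N8527 (iv F11717)))
theorem Q7024 : ∀ i, i < 7024 → P i := stepQ 7023 Q7023 (allL N7023 (tt N9385 D10299) (tt N9131 (iv F12589)) (tt N4232 F8435) (tt N4231 (iv D7918)) (tt N9386 D10300))
theorem Q7025 : ∀ i, i < 7025 → P i := stepQ 7024 Q7024 (allL N7024 (tt N4232 (iv D7919)) (tt N8403 (iv F11080)) (tt N7328 (iv F9000)) (tt N9374 (iv F13148)) (tt N8402 F11079))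
theorem Q7026 : ∀ i, i < 7026 → P i := stepQ 7025 Q7025 (allL N7025 (tt N4241 F8436) (tt N9074 (iv F12447)) (tt N9384 (iv F13178)) (tt N9059 (iv F12410)) (tt N4233 (iv D7920)))
theorem Q7027 : ∀ i, i < 7027 → P i := stepQ 7026 Q7026 (allL N7026 (tt N7297 (iv F8952)) (tt N9071 (iv F12439)) (tt N4234 (iv D7921)) (tt N9060 (iv F12412)) (tt N7399 (iv F9140)))
theorem Q7028 : ∀ i, i < 7028 → P i := stepQ 7027 Q7027 (allL N7027 (tt N4235 (iv D7922)) (tt N9218 (iv F12818)) (tt N9383 (iv F13177)) (tt N9216 F12816) (tt N9387 D10301))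
theorem Q7029 : ∀ i, i < 7029 → P i := stepQ 7028 Q7028 (allL N7028 (tt N9387 (iv F13181)) (tt N6392 F11719) (tt N8527 F11720) (tt N4238 F11721) (tt N4235 (iv D7923)))
theorem Q7030 : ∀ i, i < 7030 → P i := stepQ 7029 Q7029 (allL N7029 (tt N4237 (iv D7924)) (tt N9292 (iv F12955)) (tt N7394 (iv F9130)) (tt N9291 F12954) (tt N9388 D10302))
theorem Q7031 : ∀ i, i < 7031 → P i := stepQ 7030 Q7030 (allL N7030 (tt N9388 (iv F13185)) (tt N9144 (iv F12630)) (tt N9386 (iv F13180)) (tt N9382 (iv F13173)) (tt N4237 (iv D7925)))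
theorem Q7032 : ∀ i, i < 7032 → P i := stepQ 7031 Q7031 (allL N7031 (tt N9383 (iv F13174)) (tt N4985 F8438) (tt N7297 (iv F8949)) (tt N7391 (iv F9121)) (tt N4240 (iv D7927)))
theorem Q7033 : ∀ i, i < 7033 → P i := stepQ 7032 Q7032 (allL N7032 (tt N4242 (iv D7928)) (tt N9078 (iv F12456)) (tt N9385 (iv F13179)) (tt N9101 (iv F12513)) (tt N6024 F8439))
theorem Q7034 : ∀ i, i < 7034 → P i := stepQ 7033 Q7033 (allL N7033 (tt N4243 (iv D7929)) (tt N6467 F8440) (tt N6639 F8441) (tt N8595 (iv F11475)) (tt N9389 D10303))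
theorem Q7035 : ∀ i, i < 7035 → P i := stepQ 7034 Q7034 (allL N7034 (tt N8870 F11999) (tt N7037 (iv F8448)) (tt N4243 (iv D7930)) (tt N7036 F8446) (tt N6771 F8442))
theorem Q7036 : ∀ i, i < 7036 → P i := stepQ 7035 Q7035 (allL N7035 (tt N9389 (iv F13189)) (tt N4246 F8443) (tt N9161 (iv F12670)) (tt N6958 F8444) (tt N4243 (iv D7931)))
theorem Q7037 : ∀ i, i < 7037 → P i := stepQ 7036 Q7036 (allL N7036 (tt N8960 (iv F12186)) (tt N4244 (iv D7932)) (tt N4276 F8445) (tt N7034 (iv F8446)) (tt N9181 (iv F12716)))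
theorem Q7038 : ∀ i, i < 7038 → P i := stepQ 7037 Q7037 (allL N7037 (tt N6632 F8447) (tt N7034 F8448) (tt N4245 F8449) (tt N4244 (iv D7933)) (tt N9188 (iv F12732)))
theorem Q7039 : ∀ i, i < 7039 → P i := stepQ 7038 Q7038 (allL N7038 (tt N9091 (iv F12486)) (tt N9181 (iv F12714)) (tt N4255 F8450) (tt N9180 F12713) (tt N4244 (iv D7934)))
theorem Q7040 : ∀ i, i < 7040 → P i := stepQ 7039 Q7039 (allL N7039 (tt N8981 (iv F12233)) (tt N9154 (iv F12652)) (tt N4246 (iv D7935)) (tt N9153 F12651) (tt N8980 F12232))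
theorem Q7041 : ∀ i, i < 7041 → P i := stepQ 7040 Q7040 (allL N7040 (tt N4247 (iv D7936)) (tt N9390 D10304) (tt N4253 F8451) (tt N9371 (iv F13142)) (tt N8528 (iv F11320)))
theorem Q7042 : ∀ i, i < 7042 → P i := stepQ 7041 Q7041 (allL N7041 (tt N4250 F8452) (tt N4256 F8453) (tt N4547 (iv F8455)) (tt N4546 F8454) (tt N4248 (iv D7937)))
theorem Q7043 : ∀ i, i < 7043 → P i := stepQ 7042 Q7042 (allL N7042 (tt N8740 (iv F11755)) (tt N4253 F8456) (tt N5557 F8457) (tt N6750 F8458) (tt N4251 (iv D7938)))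
theorem Q7044 : ∀ i, i < 7044 → P i := stepQ 7043 Q7043 (allL N7043 (tt N4254 (iv D7939)) (tt N8027 (iv F10322)) (tt N9091 (iv F12488)) (tt N9381 (iv F13171)) (tt N8025 F10320))
theorem Q7045 : ∀ i, i < 7045 → P i := stepQ 7044 Q7044 (allL N7044 (tt N9391 D10305) (tt N4254 (iv D7940)) (tt N6756 F8459) (tt N6755 F8460) (tt N9392 D10306))
theorem Q7046 : ∀ i, i < 7046 → P i := stepQ 7045 Q7045 (allL N7045 (tt N8025 (iv F10321)) (tt N9392 (iv F13197)) (tt N8528 (iv F11321)) (tt N9378 (iv F13165)) (tt N4254 (iv D7941)))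
theorem Q7047 : ∀ i, i < 7047 → P i := stepQ 7046 Q7046 (allL N7046 (tt N9393 D10307) (tt N9394 D10308) (tt N4256 (iv D7944)) (tt N6173 F8461) (tt N9395 D10309))
theorem Q7048 : ∀ i, i < 7048 → P i := stepQ 7047 Q7047 (allL N7047 (tt N4260 F8462) (tt N8897 (iv F12036)) (tt N6212 (iv F8464)) (tt N6185 F8463) (tt N4257 (iv D7945)))
theorem Q7049 : ∀ i, i < 7049 → P i := stepQ 7048 Q7048 (allL N7048 (tt N6261 F8465) (tt N4260 F8466) (tt N6251 F8467) (tt N6397 F8468) (tt N4258 (iv D7946)))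
theorem Q7050 : ∀ i, i < 7050 → P i := stepQ 7049 Q7049 (allL N7049 (tt N4259 (iv D7947)) (tt N7049 F8469) (tt N6443 F9852) (tt N6442 (iv F9853)) (tt N9365 (iv F13125)))
theorem Q7051 : ∀ i, i < 7051 → P i := stepQ 7050 Q7050 (allL N7050 (tt N6180 F8470) (tt N5841 F8471) (tt N4260 (iv D7948)) (tt N9362 (iv F13112)) (tt N9396 D10310))
theorem Q7052 : ∀ i, i < 7052 → P i := stepQ 7051 Q7051 (allL N7051 (tt N4262 (iv D7949)) (tt N5143 F8474) (tt N6187 F8472) (tt N5142 (iv F8473)) (tt N9397 D10311))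
theorem Q7053 : ∀ i, i < 7053 → P i := stepQ 7052 Q7052 (allL N7052 (tt N5512 F8477) (tt N4262 (iv D7950)) (tt N5427 F8475) (tt N5402 F8476) (tt N5378 (iv F8478)))
theorem Q7054 : ∀ i, i < 7054 → P i := stepQ 7053 Q7053 (allL N7053 (tt N9397 (iv F13209)) (tt N5378 F8479) (tt N9396 (iv F13207)) (tt N5377 F8480) (tt N4262 (iv D7951)))
theorem Q7055 : ∀ i, i < 7055 → P i := stepQ 7054 Q7054 (allL N7054 (tt N9097 (iv F12499)) (tt N9103 (iv F12518)) (tt N4263 (iv D7952)) (tt N5717 F8481) (tt N9398 D10312))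
theorem Q7056 : ∀ i, i < 7056 → P i := stepQ 7055 Q7055 (allL N7055 (tt N9098 (iv F12502)) (tt N6238 F8482) (tt N9399 D10313) (tt N6381 F8483) (tt N4264 (iv D7953)))
theorem Q7057 : ∀ i, i < 7057 → P i := stepQ 7056 Q7056 (allL N7056 (tt N4268 F8484) (tt N6637 F8486) (tt N4265 (iv D7954)) (tt N5404 F8485) (tt N9400 D10314))
theorem Q7058 : ∀ i, i < 7058 → P i := stepQ 7057 Q7057 (allL N7057 (tt N4266 F8487) (tt N6182 F8488) (tt N9051 (iv F12390)) (tt N6399 F8489) (tt N4265 (iv D7955)))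
theorem Q7059 : ∀ i, i < 7059 → P i := stepQ 7058 Q7058 (allL N7058 (tt N4270 F8490) (tt N6556 F8491) (tt N4266 (iv D7956)) (tt N9297 (iv F12971)) (tt N8143 (iv F10539)))
theorem Q7060 : ∀ i, i < 7060 → P i := stepQ 7059 Q7059 (allL N7059 (tt N4267 (iv D7957)) (tt N5643 F8492) (tt N9400 (iv F13219)) (tt N5455 F8493) (tt N5406 F8494))
theorem Q7061 : ∀ i, i < 7061 → P i := stepQ 7060 Q7060 (allL N7060 (tt N9400 (iv F13217)) (tt N5218 F8495) (tt N4271 F8496) (tt N7865 (iv F10014)) (tt N4268 (iv D7958)))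
theorem Q7062 : ∀ i, i < 7062 → P i := stepQ 7061 Q7061 (allL N7061 (tt N9051 (iv F12387)) (tt N5286 F8497) (tt N4269 (iv D7959)) (tt N7864 (iv F10011)) (tt N7825 F9967))
theorem Q7063 : ∀ i, i < 7063 → P i := stepQ 7062 Q7062 (allL N7062 (tt N4996 F8498) (tt N4274 F8499) (tt N4272 (iv D7960)) (tt N4272 (iv F8500)) (tt N7189 (iv F8759)))
theorem Q7064 : ∀ i, i < 7064 → P i := stepQ 7063 Q7063 (allL N7063 (tt N4955 F8501) (tt N4275 F8502) (tt N6910 F8503) (tt N6909 F8504) (tt N4272 (iv D7961)))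
theorem Q7065 : ∀ i, i < 7065 → P i := stepQ 7064 Q7064 (allL N7064 (tt N4273 (iv D7962)) (tt N9097 (iv F12500)) (tt N8960 (iv F12187)) (tt N9337 (iv F13059)) (tt N9401 D10315))
theorem Q7066 : ∀ i, i < 7066 → P i := stepQ 7065 Q7065 (allL N7065 (tt N7765 (iv F9840)) (tt N4273 (iv D7963)) (tt N8953 (iv F12162)) (tt N8953 (iv F12163)) (tt N9402 D10316))
theorem Q7067 : ∀ i, i < 7067 → P i := stepQ 7066 Q7066 (allL N7066 (tt N7219 (iv F8806)) (tt N8953 (iv F12161)) (tt N4274 F8506) (tt N4273 (iv D7964)) (tt N9347 F13083))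
theorem Q7068 : ∀ i, i < 7068 → P i := stepQ 7067 Q7067 (allL N7067 (tt N9401 (iv F13221)) (tt N9402 (iv F13224)) (tt N9403 D10317) (tt N9345 (iv F13084)) (tt N4273 (iv D7965)))
theorem Q7069 : ∀ i, i < 7069 → P i := stepQ 7068 Q7068 (allL N7068 (tt N9404 D10318) (tt N9405 D10319) (tt N4275 (iv D7966)) (tt N9348 (iv F13087)) (tt N9406 D10320))
theorem Q7070 : ∀ i, i < 7070 → P i := stepQ 7069 Q7069 (allL N7069 (tt N4277 F8507) (tt N7004 F8508) (tt N6744 F8510) (tt N6999 F8509) (tt N4276 (iv D7967)))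
theorem Q7071 : ∀ i, i < 7071 → P i := stepQ 7070 Q7070 (allL N7070 (tt N9403 (iv F13227)) (tt N5853 F8511) (tt N4277 (iv D7968)) (tt N8201 (iv F10652)) (tt N8156 F10557))
theorem Q7072 : ∀ i, i < 7072 → P i := stepQ 7071 Q7071 (allL N7071 (tt N4383 F8512) (tt N4279 (iv D7969)) (tt N9299 (iv F12977)) (tt N9299 (iv F12978)) (tt N4381 F8513))
theorem Q7073 : ∀ i, i < 7073 → P i := stepQ 7072 Q7072 (allL N7072 (tt N9407 D10321) (tt N9408 D10322) (tt N4279 (iv D7970)) (tt N9308 F12990) (tt N9304 (iv F12991)))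
theorem Q7074 : ∀ i, i < 7074 → P i := stepQ 7073 Q7073 (allL N7073 (tt N4280 (iv D7971)) (tt N6735 (iv F8516)) (tt N9177 (iv F12703)) (tt N6743 F8515) (tt N6727 F8514))
theorem Q7075 : ∀ i, i < 7075 → P i := stepQ 7074 Q7074 (allL N7074 (tt N4931 F8518) (tt N9339 (iv F13064)) (tt N4281 (iv D7972)) (tt N9333 (iv F13048)) (tt N4930 F8517))
theorem Q7076 : ∀ i, i < 7076 → P i := stepQ 7075 Q7075 (allL N7075 (tt N4282 (iv D7973)) (tt N7655 (iv F9607)) (tt N5059 F8519) (tt N7649 (iv F9593)) (tt N6300 F8520))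
theorem Q7077 : ∀ i, i < 7077 → P i := stepQ 7076 Q7076 (allL N7076 (tt N6672 F8523) (tt N6285 F8521) (tt N4283 F8522) (tt N4282 (iv D7974)) (tt N6283 (iv F8524)))
theorem Q7078 : ∀ i, i < 7078 → P i := stepQ 7077 Q7077 (allL N7077 (tt N4440 F8526) (tt N4303 F8527) (tt N7801 (iv F9926)) (tt N4286 F8528) (tt N4283 (iv D7975)))
theorem Q7079 : ∀ i, i < 7079 → P i := stepQ 7078 Q7078 (allL N7078 (tt N4284 (iv D7976)) (tt N7657 (iv F9610)) (tt N5061 F8529) (tt N7635 (iv F9572)) (tt N7678 (iv F9638)))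
theorem Q7080 : ∀ i, i < 7080 → P i := stepQ 7079 Q7079 (allL N7079 (tt N7678 (iv F9635)) (tt N6284 F8530) (tt N7261 (iv F8868)) (tt N6283 F8531) (tt N4284 (iv D7977)))
theorem Q7081 : ∀ i, i < 7081 → P i := stepQ 7080 Q7080 (allL N7080 (tt N4441 F8532) (tt N9341 (iv F13069)) (tt N4285 (iv D7978)) (tt N9322 (iv F13025)) (tt N9355 (iv F13097)))
theorem Q7082 : ∀ i, i < 7082 → P i := stepQ 7081 Q7081 (allL N7081 (tt N4286 F8533) (tt N9329 (iv F13039)) (tt N7081 F8534) (tt N9334 (iv F13054)) (tt N4285 (iv D7979)))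
theorem Q7083 : ∀ i, i < 7083 → P i := stepQ 7082 Q7082 (allL N7082 (tt N4314 F8535) (tt N9409 D10323) (tt N4287 (iv D7980)) (tt N8965 (iv F12197)) (tt N9410 D10324))
theorem Q7084 : ∀ i, i < 7084 → P i := stepQ 7083 Q7083 (allL N7083 (tt N4351 F8536) (tt N4752 F8537) (tt N8965 (iv F12196)) (tt N4287 (iv D7981)) (tt N5032 (iv F8538)))
theorem Q7085 : ∀ i, i < 7085 → P i := stepQ 7084 Q7084 (allL N7084 (tt N4288 (iv D7982)) (tt N8564 (iv F11393)) (tt N4296 F8539) (tt N8563 F11392) (tt N9411 D10325))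
theorem Q7086 : ∀ i, i < 7086 → P i := stepQ 7085 Q7085 (allL N7085 (tt N9412 D10326) (tt N4288 (iv D7983)) (tt N6316 F8540) (tt N9413 D10327) (tt N7291 F8938))
theorem Q7087 : ∀ i, i < 7087 → P i := stepQ 7086 Q7086 (allL N7086 (tt N4337 F8542) (tt N9413 (iv F13237)) (tt N4289 F8541) (tt N4288 (iv D7984)) (tt N9414 D10328))
theorem Q7088 : ∀ i, i < 7088 → P i := stepQ 7087 Q7087 (allL N7087 (tt N9411 (iv F13233)) (tt N7291 (iv F8936)) (tt N4302 F8543) (tt N4292 F8544) (tt N4288 (iv D7985)))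
theorem Q7089 : ∀ i, i < 7089 → P i := stepQ 7088 Q7088 (allL N7088 (tt N6488 F8546) (tt N7796 (iv F9911)) (tt N4303 F8548) (tt N4294 F8547) (tt N4289 (iv D7986)))
theorem Q7090 : ∀ i, i < 7090 → P i := stepQ 7089 Q7089 (allL N7089 (tt N9415 D10329) (tt N4291 F8549) (tt N6320 F8550) (tt N4290 (iv D7987)) (tt N7859 (iv F13277)))
theorem Q7091 : ∀ i, i < 7091 → P i := stepQ 7090 Q7090 (allL N7090 (tt N4291 (iv D7988)) (tt N8467 (iv F11184)) (tt N4318 F8551) (tt N5974 (iv F8552)) (tt N9416 D10331))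
theorem Q7092 : ∀ i, i < 7092 → P i := stepQ 7091 Q7091 (allL N7091 (tt N9416 (iv F13244)) (tt N7859 (iv F13276)) (tt N4311 F8553) (tt N9414 (iv F13241)) (tt N4291 (iv D7989)))
theorem Q7093 : ∀ i, i < 7093 → P i := stepQ 7092 Q7092 (allL N7092 (tt N4316 F8554) (tt N9417 D10332) (tt N4293 (iv D7990)) (tt N4748 F8555) (tt N9418 D10333))
theorem Q7094 : ∀ i, i < 7094 → P i := stepQ 7093 Q7093 (allL N7093 (tt N4294 F8556) (tt N4754 F8557) (tt N7875 (iv F10033)) (tt N5032 F8558) (tt N4293 (iv D7991)))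
theorem Q7095 : ∀ i, i < 7095 → P i := stepQ 7094 Q7094 (allL N7094 (tt N4295 (iv D7992)) (tt N7094 F8559) (tt N5486 F8561) (tt N6071 F8560) (tt N9419 D10334))
theorem Q7096 : ∀ i, i < 7096 → P i := stepQ 7095 Q7095 (allL N7095 (tt N9419 (iv F13249)) (tt N4296 F8562) (tt N9420 D10335) (tt N8957 (iv F12178)) (tt N4295 (iv D7993)))
theorem Q7097 : ∀ i, i < 7097 → P i := stepQ 7096 Q7096 (allL N7096 (tt N4334 F8563) (tt N8957 (iv F12176)) (tt N8563 (iv F11391)) (tt N4296 (iv D7994)) (tt N6459 F8599))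
theorem Q7098 : ∀ i, i < 7098 → P i := stepQ 7097 Q7097 (allL N7097 (tt N9421 D10336) (tt N4297 (iv D7995)) (tt N9422 D10337) (tt N8315 F10895) (tt N9423 D10338))
theorem Q7099 : ∀ i, i < 7099 → P i := stepQ 7098 Q7098 (allL N7098 (tt N4359 F8564) (tt N8315 (iv F10893)) (tt N4298 F8565) (tt N4297 (iv D7996)) (tt N9424 D10339))
theorem Q7100 : ∀ i, i < 7100 → P i := stepQ 7099 Q7099 (allL N7099 (tt N4370 F8568) (tt N9423 (iv F13256)) (tt N9411 (iv F13234)) (tt N5976 (iv F8569)) (tt N4297 (iv D7997)))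
theorem Q7101 : ∀ i, i < 7101 → P i := stepQ 7100 Q7100 (allL N7100 (tt N7503 F9325) (tt N4299 (iv D7998)) (tt N9425 D10340) (tt N7546 (iv F9371)) (tt N9426 D10341))
theorem Q7102 : ∀ i, i < 7102 → P i := stepQ 7101 Q7101 (allL N7101 (tt N4355 F8570) (tt N7546 (iv F9372)) (tt N7871 (iv F10020)) (tt N4299 (iv D7999)) (tt N9427 D10342))
theorem Q7103 : ∀ i, i < 7103 → P i := stepQ 7102 Q7102 (allL N7102 (tt N4302 F8571) (tt N9426 (iv F13261)) (tt N9410 (iv F13231)) (tt N9428 D10343) (tt N4299 (iv D8000)))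
theorem Q7104 : ∀ i, i < 7104 → P i := stepQ 7103 Q7103 (allL N7103 (tt N4300 (iv D8001)) (tt N9429 D10344) (tt N7814 (iv F9951)) (tt N9430 D10345) (tt N9431 D10346))
theorem Q7105 : ∀ i, i < 7105 → P i := stepQ 7104 Q7104 (allL N7104 (tt N9432 D10347) (tt N6304 F8572) (tt N4300 (iv D8002)) (tt N9433 D10348) (tt N8924 F12095))
theorem Q7106 : ∀ i, i < 7106 → P i := stepQ 7105 Q7105 (allL N7105 (tt N9434 D10349) (tt N4301 F8573) (tt N9433 (iv F13269)) (tt N4300 (iv D8003)) (tt N9435 D10350))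
theorem Q7107 : ∀ i, i < 7107 → P i := stepQ 7106 Q7106 (allL N7106 (tt N9431 (iv F13267)) (tt N4302 F8574) (tt N5389 F8576) (tt N4309 (iv F8575)) (tt N4300 (iv D8004)))
theorem Q7108 : ∀ i, i < 7108 → P i := stepQ 7107 Q7107 (allL N7107 (tt N4301 (iv D8005)) (tt N9233 (iv F12843)) (tt N6483 F8577) (tt N4353 F8578) (tt N9436 D10351))
theorem Q7109 : ∀ i, i < 7109 → P i := stepQ 7108 Q7108 (allL N7108 (tt N9436 (iv F13279)) (tt N9435 (iv F13272)) (tt N9414 (iv F13240)) (tt N4311 F8579) (tt N4301 (iv D8006)))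
theorem Q7110 : ∀ i, i < 7110 → P i := stepQ 7109 Q7109 (allL N7109 (tt N4385 F8580) (tt N9256 (iv F12888)) (tt N6490 F8581) (tt N9436 (iv F13281)) (tt N4304 (iv D8007)))
theorem Q7111 : ∀ i, i < 7111 → P i := stepQ 7110 Q7110 (allL N7110 (tt N4356 (iv F8584)) (tt N9000 (iv F12286)) (tt N6487 (iv F8585)) (tt N4305 (iv D8008)) (tt N4353 F8583))
theorem Q7112 : ∀ i, i < 7112 → P i := stepQ 7111 Q7111 (allL N7111 (tt N7453 (iv F9238)) (tt N8987 (iv F12250)) (tt N5387 F8587) (tt N4306 (iv D8009)) (tt N8923 (iv F12088)))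
theorem Q7113 : ∀ i, i < 7113 → P i := stepQ 7112 Q7112 (allL N7112 (tt N9437 D10352) (tt N6305 F8588) (tt N4308 F8589) (tt N4307 (iv D8010)) (tt N9438 D10353))
theorem Q7114 : ∀ i, i < 7114 → P i := stepQ 7113 Q7113 (allL N7113 (tt N4308 (iv D8011)) (tt N9439 D10354) (tt N7817 (iv F9956)) (tt N9440 D10355) (tt N9441 D10356))
theorem Q7115 : ∀ i, i < 7115 → P i := stepQ 7114 Q7114 (allL N7114 (tt N9441 (iv F13283)) (tt N4311 F8590) (tt N7818 (iv F13275)) (tt N9435 (iv F13273)) (tt N4308 (iv D8012)))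
theorem Q7116 : ∀ i, i < 7116 → P i := stepQ 7115 Q7115 (allL N7115 (tt N7534 (iv F9361)) (tt N4310 (iv D8013)) (tt N9442 D10357) (tt N7517 F9337) (tt N9443 D10358))
theorem Q7117 : ∀ i, i < 7117 → P i := stepQ 7116 Q7116 (allL N7116 (tt N4352 F8591) (tt N7517 (iv F9336)) (tt N4747 F8592) (tt N4310 (iv D8014)) (tt N9428 (iv F13266)))
theorem Q7118 : ∀ i, i < 7118 → P i := stepQ 7117 Q7117 (allL N7117 (tt N4311 F8593) (tt N9443 (iv F13284)) (tt N9418 (iv F13248)) (tt N9427 (iv F13263)) (tt N4310 (iv D8015)))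
theorem Q7119 : ∀ i, i < 7119 → P i := stepQ 7118 Q7118 (allL N7118 (tt N9444 D10359) (tt N4312 (iv D8016)) (tt N9445 D10360) (tt N5975 F8594) (tt N9446 D10361))
theorem Q7120 : ∀ i, i < 7120 → P i := stepQ 7119 Q7119 (allL N7119 (tt N4369 F8595) (tt N9446 (iv F13288)) (tt N9416 (iv F13245)) (tt N9424 (iv F13260)) (tt N4312 (iv D8017)))
theorem Q7121 : ∀ i, i < 7121 → P i := stepQ 7120 Q7120 (allL N7120 (tt N4319 (iv F8598)) (tt N9447 D10362) (tt N4313 (iv D8018)) (tt N6459 F8596) (tt N4318 F8597))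
theorem Q7122 : ∀ i, i < 7122 → P i := stepQ 7121 Q7121 (allL N7121 (tt N6313 F8601) (tt N4314 (iv D8019)) (tt N6329 (iv F8603)) (tt N6294 (iv F8602)) (tt N6359 F8604))
theorem Q7123 : ∀ i, i < 7123 → P i := stepQ 7122 Q7122 (allL N7122 (tt N6486 F8607) (tt N6294 F8605) (tt N4315 F8606) (tt N4314 (iv D8020)) (tt N9448 D10363))
theorem Q7124 : ∀ i, i < 7124 → P i := stepQ 7123 Q7123 (allL N7123 (tt N9410 (iv F13230)) (tt N6359 F8610) (tt N4370 F8611) (tt N4317 F8612) (tt N4314 (iv D8021)))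
theorem Q7125 : ∀ i, i < 7125 → P i := stepQ 7124 Q7124 (allL N7124 (tt N4339 F8613) (tt N7124 F8614) (tt N7873 (iv F10029)) (tt N4319 F8615) (tt N4315 (iv D8022)))
theorem Q7126 : ∀ i, i < 7126 → P i := stepQ 7125 Q7125 (allL N7125 (tt N9418 (iv F13247)) (tt N6358 F8616) (tt N4369 F8617) (tt N9448 (iv F13295)) (tt N4316 (iv D8023)))
theorem Q7127 : ∀ i, i < 7127 → P i := stepQ 7126 Q7126 (allL N7126 (tt N9449 D10364) (tt N4318 (iv D8024)) (tt N9450 D10365) (tt N5490 F8618) (tt N9447 (iv F13291)))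
theorem Q7128 : ∀ i, i < 7128 → P i := stepQ 7127 Q7127 (allL N7127 (tt N6507 F8619) (tt N4967 (iv F8620)) (tt N4320 (iv D8025)) (tt N8208 (iv F10672)) (tt N4965 F8622))
theorem Q7129 : ∀ i, i < 7129 → P i := stepQ 7128 Q7128 (allL N7128 (tt N6496 F8624) (tt N4391 F8623) (tt N8208 (iv F10671)) (tt N4320 (iv D8026)) (tt N9451 D10366))
theorem Q7130 : ∀ i, i < 7130 → P i := stepQ 7129 Q7129 (allL N7129 (tt N4321 (iv D8027)) (tt N5552 F8627) (tt N6516 F8625) (tt N4755 F8626) (tt N6532 (iv F8628)))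
theorem Q7131 : ∀ i, i < 7131 → P i := stepQ 7130 Q7130 (allL N7130 (tt N6532 F8629) (tt N4395 F8630) (tt N4328 (iv F8632)) (tt N9451 (iv F13302)) (tt N4321 (iv D8028)))
theorem Q7132 : ∀ i, i < 7132 → P i := stepQ 7131 Q7131 (allL N7131 (tt N7439 (iv F9210)) (tt N6428 F8633) (tt N6474 (iv F8635)) (tt N4322 (iv D8029)) (tt N7559 (iv F9394)))
theorem Q7133 : ∀ i, i < 7133 → P i := stepQ 7132 Q7132 (allL N7132 (tt N8022 (iv F10311)) (tt N4323 (iv D8030)) (tt N8029 (iv F10328)) (tt N8013 (iv F10294)) (tt N4421 F8644))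
theorem Q7134 : ∀ i, i < 7134 → P i := stepQ 7133 Q7133 (allL N7133 (tt N6502 F8639) (tt N8013 (iv F10295)) (tt N4324 F8638) (tt N4323 (iv D8031)) (tt N9452 D10367))
theorem Q7135 : ∀ i, i < 7135 → P i := stepQ 7134 Q7134 (allL N7134 (tt N6523 F8640) (tt N4421 (iv F8643)) (tt N4965 F8641) (tt N4326 F8642) (tt N4323 (iv D8032)))
theorem Q7136 : ∀ i, i < 7136 → P i := stepQ 7135 Q7135 (allL N7135 (tt N8203 (iv F10655)) (tt N4339 F8645) (tt N9451 (iv F13303)) (tt N4328 F8646) (tt N4324 (iv D8033)))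
theorem Q7137 : ∀ i, i < 7137 → P i := stepQ 7136 Q7136 (allL N7136 (tt N6531 F8647) (tt N4429 (iv F8649)) (tt N4963 F8648) (tt N9452 (iv F13307)) (tt N4325 (iv D8034)))
theorem Q7138 : ∀ i, i < 7138 → P i := stepQ 7137 Q7137 (allL N7137 (tt N4328 F8651) (tt N8225 (iv F10706)) (tt N6519 F8652) (tt N7559 (iv F9396)) (tt N4327 (iv D8035)))
theorem Q7139 : ∀ i, i < 7139 → P i := stepQ 7138 Q7138 (allL N7138 (tt N4330 F8653) (tt N8223 (iv F10704)) (tt N9010 (iv F12304)) (tt N9453 D10368) (tt N4329 (iv D8036)))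
theorem Q7140 : ∀ i, i < 7140 → P i := stepQ 7139 Q7139 (allL N7139 (tt N4626 F8656) (tt N4334 F8654) (tt N6355 F8655) (tt N4330 (iv D8037)) (tt N4720 (iv F8657)))
theorem Q7141 : ∀ i, i < 7141 → P i := stepQ 7140 Q7140 (allL N7140 (tt N7871 (iv F10019)) (tt N5645 F8661) (tt N4359 F8662) (tt N4331 (iv D8038)) (tt N5909 (iv F8663)))
theorem Q7142 : ∀ i, i < 7142 → P i := stepQ 7141 Q7141 (allL N7141 (tt N6487 F8664) (tt N8814 (iv F11865)) (tt N4360 F8665) (tt N8812 (iv F11862)) (tt N4333 (iv D8039)))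
theorem Q7143 : ∀ i, i < 7143 → P i := stepQ 7142 Q7142 (allL N7142 (tt N6459 F8666) (tt N4720 F8667) (tt N5909 F8669) (tt N4344 F8668) (tt N4334 (iv D8040)))
theorem Q7144 : ∀ i, i < 7144 → P i := stepQ 7143 Q7143 (allL N7143 (tt N9454 D10369) (tt N4335 (iv D8041)) (tt N8910 (iv F12064)) (tt N8909 F12062) (tt N9455 D10370))
theorem Q7145 : ∀ i, i < 7145 → P i := stepQ 7144 Q7144 (allL N7144 (tt N8563 (iv F11390)) (tt N8909 (iv F12060)) (tt N4351 F8670) (tt N4335 (iv D8042)) (tt N9456 D10371))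
theorem Q7146 : ∀ i, i < 7146 → P i := stepQ 7145 Q7145 (allL N7145 (tt N4338 F8671) (tt N9455 (iv F13312)) (tt N4356 F8672) (tt N9457 D10372) (tt N4335 (iv D8043)))
theorem Q7147 : ∀ i, i < 7147 → P i := stepQ 7146 Q7146 (allL N7146 (tt N9414 (iv F13239)) (tt N7350 (iv F9039)) (tt N4366 F8673) (tt N4341 F8674) (tt N4337 (iv D8044)))
theorem Q7148 : ∀ i, i < 7148 → P i := stepQ 7147 Q7147 (allL N7147 (tt N9458 D10373) (tt N4340 (iv D8045)) (tt N8906 (iv F12056)) (tt N8917 (iv F12076)) (tt N9459 D10374))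
theorem Q7149 : ∀ i, i < 7149 → P i := stepQ 7148 Q7148 (allL N7148 (tt N5974 F8675) (tt N8917 (iv F12075)) (tt N4350 F8676) (tt N4340 (iv D8046)) (tt N9457 (iv F13321)))
theorem Q7150 : ∀ i, i < 7150 → P i := stepQ 7149 Q7149 (allL N7149 (tt N4341 F8677) (tt N9459 (iv F13322)) (tt N4385 F8678) (tt N9456 (iv F13317)) (tt N4340 (iv D8047)))
theorem Q7151 : ∀ i, i < 7151 → P i := stepQ 7150 Q7150 (allL N7150 (tt N4342 (iv D8048)) (tt N8224 (iv F10705)) (tt N9042 (iv F12369)) (tt N5989 F8679) (tt N9460 D10375))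
theorem Q7152 : ∀ i, i < 7152 → P i := stepQ 7151 Q7151 (allL N7151 (tt N9460 (iv F13325)) (tt N4344 F8680) (tt N7887 (iv F10059)) (tt N4720 F8681) (tt N4342 (iv D8049)))
theorem Q7153 : ∀ i, i < 7153 → P i := stepQ 7152 Q7152 (allL N7152 (tt N6490 F8682) (tt N8813 (iv F11863)) (tt N4380 F8683) (tt N8966 (iv F12200)) (tt N4343 (iv D8050)))
theorem Q7154 : ∀ i, i < 7154 → P i := stepQ 7153 Q7153 (allL N7153 (tt N6484 F8684) (tt N5649 (iv F8687)) (tt N4344 (iv D8051)) (tt N5909 F8685) (tt N4378 F8686))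
theorem Q7155 : ∀ i, i < 7155 → P i := stepQ 7154 Q7154 (allL N7154 (tt N4549 F8688) (tt N4357 F8689) (tt N5204 F8690) (tt N4383 F8691) (tt N4348 (iv D8052)))
theorem Q7156 : ∀ i, i < 7156 → P i := stepQ 7155 Q7155 (allL N7155 (tt N5032 F8692) (tt N5200 F8693) (tt N4357 (iv F8695)) (tt N4386 F8694) (tt N4351 (iv D8053)))
theorem Q7157 : ∀ i, i < 7157 → P i := stepQ 7156 Q7156 (allL N7156 (tt N8251 (iv F10757)) (tt N4352 (iv D8054)) (tt N8902 (iv F12048)) (tt N4384 F8696) (tt N9461 D10376))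
theorem Q7158 : ∀ i, i < 7158 → P i := stepQ 7157 Q7157 (allL N7157 (tt N9428 (iv F13264)) (tt N9461 (iv F13330)) (tt N9457 (iv F13320)) (tt N4356 F8697) (tt N4352 (iv D8055)))
theorem Q7159 : ∀ i, i < 7159 → P i := stepQ 7158 Q7158 (allL N7158 (tt N4354 (iv D8056)) (tt N9234 (iv F12845)) (tt N9194 (iv F12748)) (tt N7429 (iv F9192)) (tt N9462 D10377))
theorem Q7160 : ∀ i, i < 7160 → P i := stepQ 7159 Q7159 (allL N7159 (tt N9463 D10378) (tt N8900 (iv F12044)) (tt N4354 (iv D8057)) (tt N8899 F12043) (tt N9464 D10379))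
theorem Q7161 : ∀ i, i < 7161 → P i := stepQ 7160 Q7160 (allL N7160 (tt N8265 (iv F10785)) (tt N4355 F8698) (tt N8899 (iv F12042)) (tt N4354 (iv D8058)) (tt N9465 D10380))
theorem Q7162 : ∀ i, i < 7162 → P i := stepQ 7161 Q7161 (allL N7161 (tt N9462 (iv F13333)) (tt N4356 F8699) (tt N8264 (iv F10784)) (tt N9461 F13332) (tt N4354 (iv D8059)))
theorem Q7163 : ∀ i, i < 7163 → P i := stepQ 7162 Q7162 (allL N7162 (tt N9427 (iv F13262)) (tt N9465 (iv F13341)) (tt N9456 (iv F13316)) (tt N4385 F8700) (tt N4355 (iv D8060)))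
theorem Q7164 : ∀ i, i < 7164 → P i := stepQ 7163 Q7163 (allL N7163 (tt N4358 (iv D8061)) (tt N9466 D10381) (tt N7685 (iv F9649)) (tt N8630 (iv F11536)) (tt N9467 D10382))
theorem Q7165 : ∀ i, i < 7165 → P i := stepQ 7164 Q7164 (allL N7164 (tt N6607 (iv F8704)) (tt N6339 F8701) (tt N4358 (iv D8062)) (tt N6334 F8702) (tt N6604 F8703))
theorem Q7166 : ∀ i, i < 7166 → P i := stepQ 7165 Q7165 (allL N7165 (tt N9467 (iv F13347)) (tt N4360 F8705) (tt N7923 (iv F10134)) (tt N7702 F9690) (tt N4358 (iv D8063)))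
theorem Q7167 : ∀ i, i < 7167 → P i := stepQ 7166 Q7166 (allL N7166 (tt N9424 (iv F13258)) (tt N7775 (iv F9859)) (tt N8966 (iv F12199)) (tt N4380 F8706) (tt N4359 (iv D8064)))
theorem Q7168 : ∀ i, i < 7168 → P i := stepQ 7167 Q7167 (allL N7167 (tt N5976 F8707) (tt N7702 (iv F9688)) (tt N8812 (iv F11861)) (tt N4360 (iv D8065)) (tt N4379 F8708))
theorem Q7169 : ∀ i, i < 7169 → P i := stepQ 7168 Q7168 (allL N7168 (tt N9466 (iv F13344)) (tt N4361 (iv D8066)) (tt N7385 (iv F9104)) (tt N5498 F8709) (tt N5494 F8713))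
theorem Q7170 : ∀ i, i < 7170 → P i := stepQ 7169 Q7169 (allL N7169 (tt N4364 F8710) (tt N5494 F8712) (tt N6615 F8711) (tt N5535 (iv F8714)) (tt N4361 (iv D8067)))
theorem Q7171 : ∀ i, i < 7171 → P i := stepQ 7170 Q7170 (allL N7170 (tt N4362 (iv D8068)) (tt N8285 (iv F10827)) (tt N6765 F8715) (tt N7463 (iv F9255)) (tt N6613 F8716))
theorem Q7172 : ∀ i, i < 7172 → P i := stepQ 7171 Q7171 (allL N7171 (tt N9468 D10383) (tt N4418 F8717) (tt N4363 F8718) (tt N4362 (iv D8069)) (tt N8006 (iv F10274)))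
theorem Q7173 : ∀ i, i < 7173 → P i := stepQ 7172 Q7172 (allL N7172 (tt N4363 (iv D8070)) (tt N8209 (iv F10676)) (tt N5589 F8720) (tt N5593 F8719) (tt N8207 (iv F10670)))
theorem Q7174 : ∀ i, i < 7174 → P i := stepQ 7173 Q7173 (allL N7173 (tt N8207 (iv F10667)) (tt N4366 F8721) (tt N9469 D10384) (tt N4375 F8722) (tt N4363 (iv D8071)))
theorem Q7175 : ∀ i, i < 7175 → P i := stepQ 7174 Q7174 (allL N7174 (tt N6612 (iv F8725)) (tt N4405 (iv F8726)) (tt N4364 (iv D8072)) (tt N4376 F8723) (tt N4403 F8724))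
theorem Q7176 : ∀ i, i < 7176 → P i := stepQ 7175 Q7175 (allL N7175 (tt N4929 F8727) (tt N4365 (iv D8073)) (tt N8854 (iv F11964)) (tt N7872 (iv F10022)) (tt N9470 D10385))
theorem Q7177 : ∀ i, i < 7177 → P i := stepQ 7176 Q7176 (allL N7176 (tt N4366 F8728) (tt N9470 (iv F13358)) (tt N9448 (iv F13294)) (tt N4369 F8729) (tt N4365 (iv D8074)))
theorem Q7178 : ∀ i, i < 7178 → P i := stepQ 7177 Q7177 (allL N7177 (tt N4367 (iv D8075)) (tt N9471 D10386) (tt N4941 F8731) (tt N6457 F8730) (tt N9472 D10387))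
theorem Q7179 : ∀ i, i < 7179 → P i := stepQ 7178 Q7178 (allL N7178 (tt N9472 (iv F13363)) (tt N4369 F8732) (tt N5191 F10131) (tt N9470 (iv F13360)) (tt N4367 (iv D8076)))
theorem Q7180 : ∀ i, i < 7180 → P i := stepQ 7179 Q7179 (allL N7179 (tt N9473 D10388) (tt N4370 F8733) (tt N5192 F8734) (tt N4368 (iv D8077)) (tt N7872 (iv F10023)))
theorem Q7181 : ∀ i, i < 7181 → P i := stepQ 7180 Q7180 (allL N7180 (tt N7458 (iv F9245)) (tt N5434 F8735) (tt N6767 F8736) (tt N4372 (iv D8078)) (tt N5321 (iv F8737)))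
theorem Q7182 : ∀ i, i < 7182 → P i := stepQ 7181 Q7181 (allL N7181 (tt N4373 (iv D8079)) (tt N8290 (iv F10839)) (tt N6768 F8738) (tt N7557 (iv F9390)) (tt N6630 (iv F8739)))
theorem Q7183 : ∀ i, i < 7183 → P i := stepQ 7182 Q7182 (allL N7182 (tt N6630 F8740) (tt N4424 F8741) (tt N4945 F8742) (tt N8006 (iv F10273)) (tt N4373 (iv D8080)))
theorem Q7184 : ∀ i, i < 7184 → P i := stepQ 7183 Q7183 (allL N7183 (tt N9474 D10389) (tt N4374 (iv D8081)) (tt N7406 (iv F9158)) (tt N5536 F8743) (tt N5497 (iv F8744)))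
theorem Q7185 : ∀ i, i < 7185 → P i := stepQ 7184 Q7184 (allL N7184 (tt N4375 F8745) (tt N5497 F8746) (tt N6627 F8748) (tt N5496 F8747) (tt N4374 (iv D8082)))
theorem Q7186 : ∀ i, i < 7186 → P i := stepQ 7185 Q7185 (allL N7185 (tt N6629 (iv F8750)) (tt N4409 (iv F8751)) (tt N4375 (iv D8083)) (tt N9469 (iv F13353)) (tt N4407 F8749))
theorem Q7187 : ∀ i, i < 7187 → P i := stepQ 7186 Q7186 (allL N7186 (tt N4377 (iv D8084)) (tt N9474 (iv F13369)) (tt N7691 (iv F9656)) (tt N8634 (iv F11543)) (tt N9475 D10390))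
theorem Q7188 : ∀ i, i < 7188 → P i := stepQ 7187 Q7187 (allL N7187 (tt N6634 F8754) (tt N6337 F8752) (tt N4377 (iv D8085)) (tt N6345 F8753) (tt N6333 F8755))
theorem Q7189 : ∀ i, i < 7189 → P i := stepQ 7188 Q7188 (allL N7188 (tt N9475 (iv F13372)) (tt N4380 F8756) (tt N7922 (iv F10129)) (tt N7775 (iv F9861)) (tt N4377 (iv D8086)))
theorem Q7190 : ∀ i, i < 7190 → P i := stepQ 7189 Q7189 (allL N7189 (tt N6775 F8757) (tt N6956 (iv F8760)) (tt N4381 (iv D8087)) (tt N6949 F8758) (tt N7062 F8759))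
theorem Q7191 : ∀ i, i < 7191 → P i := stepQ 7190 Q7190 (allL N7190 (tt N6749 F8763) (tt N5168 (iv F8764)) (tt N4383 (iv D8088)) (tt N5204 F8761) (tt N5167 F8762))
theorem Q7192 : ∀ i, i < 7192 → P i := stepQ 7191 Q7191 (allL N7191 (tt N4384 (iv D8089)) (tt N9267 (iv F12908)) (tt N9283 (iv F12936)) (tt N7550 (iv F9375)) (tt N9476 D10391))
theorem Q7193 : ∀ i, i < 7193 → P i := stepQ 7192 Q7192 (allL N7192 (tt N9477 D10392) (tt N8903 (iv F12050)) (tt N4384 (iv D8090)) (tt N8902 F12049) (tt N9478 D10393))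
theorem Q7194 : ∀ i, i < 7194 → P i := stepQ 7193 Q7193 (allL N7193 (tt N9476 (iv F13374)) (tt N4385 F8765) (tt N8249 (iv F12907)) (tt N9465 (iv F13342)) (tt N4384 (iv D8091)))
theorem Q7195 : ∀ i, i < 7195 → P i := stepQ 7194 Q7194 (allL N7194 (tt N8635 (iv F11544)) (tt N4386 (iv D8092)) (tt N5166 F8766) (tt N5200 F8767) (tt N5162 F8768))
theorem Q7196 : ∀ i, i < 7196 → P i := stepQ 7195 Q7195 (allL N7195 (tt N6914 F8769) (tt N4389 F8770) (tt N9152 (iv F12647)) (tt N9479 D10394) (tt N4387 (iv D8093)))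
theorem Q7197 : ∀ i, i < 7197 → P i := stepQ 7196 Q7196 (allL N7196 (tt N5221 F8771) (tt N7828 (iv F9972)) (tt N9480 D10395) (tt N4394 F8772) (tt N4388 (iv D8094)))
theorem Q7198 : ∀ i, i < 7198 → P i := stepQ 7197 Q7197 (allL N7197 (tt N5205 F8773) (tt N9481 D10396) (tt N4389 (iv D8095)) (tt N9482 D10397) (tt N9483 D10398))
theorem Q7199 : ∀ i, i < 7199 → P i := stepQ 7198 Q7198 (allL N7198 (tt N5223 F8774) (tt N9479 (iv F13380)) (tt N9482 (iv F13386)) (tt N4389 (iv D8096)) (tt N9484 D10399))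
theorem Q7200 : ∀ i, i < 7200 → P i := stepQ 7199 Q7199 (allL N7199 (tt N4390 (iv D8097)) (tt N9485 D10400) (tt N4398 F8775) (tt N9486 D10401) (tt N9487 D10402))
theorem Q7201 : ∀ i, i < 7201 → P i := stepQ 7200 Q7200 (allL N7200 (tt N8062 (iv F10392)) (tt N8505 (iv F11274)) (tt N4391 F8776) (tt N4390 (iv D8098)) (tt N9488 D10403))
theorem Q7202 : ∀ i, i < 7202 → P i := stepQ 7201 Q7201 (allL N7201 (tt N9487 (iv F13394)) (tt N7351 (iv F9040)) (tt N4405 F8777) (tt N4393 (iv F8778)) (tt N4390 (iv D8099)))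
theorem Q7203 : ∀ i, i < 7203 → P i := stepQ 7202 Q7202 (allL N7202 (tt N5228 F8779) (tt N9451 (iv F13301)) (tt N4406 (iv F8781)) (tt N4395 F8780) (tt N4391 (iv D8100)))
theorem Q7204 : ∀ i, i < 7204 → P i := stepQ 7203 Q7203 (allL N7203 (tt N4392 (iv D8101)) (tt N9489 D10404) (tt N5210 F8782) (tt N9490 D10405) (tt N9491 D10406))
theorem Q7205 : ∀ i, i < 7205 → P i := stepQ 7204 Q7204 (allL N7204 (tt N9491 (iv F13400)) (tt N8537 (iv F11345)) (tt N4409 F8783) (tt N9488 (iv F13397)) (tt N4392 (iv D8102)))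
theorem Q7206 : ∀ i, i < 7206 → P i := stepQ 7205 Q7205 (allL N7205 (tt N6916 (iv F9974)) (tt N4394 (iv D8103)) (tt N9171 (iv F12689)) (tt N7828 F9973) (tt N9492 D10407))
theorem Q7207 : ∀ i, i < 7207 → P i := stepQ 7206 Q7206 (allL N7206 (tt N5208 F8784) (tt N9493 D10408) (tt N4394 (iv D8104)) (tt N9480 (iv F13382)) (tt N9494 D10409))
theorem Q7208 : ∀ i, i < 7208 → P i := stepQ 7207 Q7207 (allL N7207 (tt N4395 F8785) (tt N9492 (iv F13403)) (tt N5218 (iv F8786)) (tt N9484 (iv F13390)) (tt N4394 (iv D8105)))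
theorem Q7209 : ∀ i, i < 7209 → P i := stepQ 7208 Q7208 (allL N7208 (tt N5237 F8788) (tt N8646 (iv F11570)) (tt N9490 (iv F13399)) (tt N5210 F8789) (tt N4397 (iv D8106)))
theorem Q7210 : ∀ i, i < 7210 → P i := stepQ 7209 Q7209 (allL N7209 (tt N5238 F8790) (tt N8648 (iv F11574)) (tt N9486 (iv F13393)) (tt N4398 (iv D8107)) (tt N9495 D10410))
theorem Q7211 : ∀ i, i < 7211 → P i := stepQ 7210 Q7210 (allL N7210 (tt N5239 F8792) (tt N8715 (iv F11703)) (tt N4399 (iv D8108)) (tt N4411 F8791) (tt N9496 D10411))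
theorem Q7212 : ∀ i, i < 7212 → P i := stepQ 7211 Q7211 (allL N7211 (tt N5241 F8793) (tt N8742 (iv F11761)) (tt N4401 F8794) (tt N4400 (iv D8109)) (tt N9497 D10412))
theorem Q7213 : ∀ i, i < 7213 → P i := stepQ 7212 Q7212 (allL N7212 (tt N5215 F8795) (tt N8743 (iv F11763)) (tt N9487 (iv F13395)) (tt N9496 (iv F13410)) (tt N4400 (iv D8110)))
theorem Q7214 : ∀ i, i < 7214 → P i := stepQ 7213 Q7213 (allL N7213 (tt N8610 (iv F11499)) (tt N8592 F11472) (tt N9495 (iv F13408)) (tt N4412 F8796) (tt N4401 (iv D8111)))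
theorem Q7215 : ∀ i, i < 7215 → P i := stepQ 7214 Q7214 (allL N7214 (tt N6952 F8797) (tt N4402 (iv D8112)) (tt N9298 (iv F12973)) (tt N9498 D10413) (tt N9499 D10414))
theorem Q7216 : ∀ i, i < 7216 → P i := stepQ 7215 Q7215 (allL N7215 (tt N5245 F8798) (tt N9498 (iv F13414)) (tt N5213 F8799) (tt N4402 (iv D8113)) (tt N9500 D10415))
theorem Q7217 : ∀ i, i < 7217 → P i := stepQ 7216 Q7216 (allL N7216 (tt N4405 F8800) (tt N9499 (iv F13416)) (tt N9483 (iv F13388)) (tt N9501 D10416) (tt N4402 (iv D8114)))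
theorem Q7218 : ∀ i, i < 7218 → P i := stepQ 7217 Q7217 (allL N7217 (tt N6618 F8803) (tt N4404 F8801) (tt N4927 F8802) (tt N4403 (iv D8115)) (tt N9469 (iv F13354)))
theorem Q7219 : ∀ i, i < 7219 → P i := stepQ 7218 Q7218 (allL N7218 (tt N5247 F8804) (tt N9469 (iv F13356)) (tt N9488 (iv F13396)) (tt N4409 F8805) (tt N4404 (iv D8116)))
theorem Q7220 : ∀ i, i < 7220 → P i := stepQ 7219 Q7219 (allL N7219 (tt N7066 F8806) (tt N4408 (iv D8117)) (tt N8870 (iv F11998)) (tt N8869 F11996) (tt N9502 D10417))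
theorem Q7221 : ∀ i, i < 7221 → P i := stepQ 7220 Q7220 (allL N7220 (tt N5249 F8807) (tt N8869 (iv F11995)) (tt N5212 F8808) (tt N4408 (iv D8118)) (tt N9501 (iv F13420)))
theorem Q7222 : ∀ i, i < 7222 → P i := stepQ 7221 Q7221 (allL N7221 (tt N4409 F8809) (tt N9502 (iv F13422)) (tt N9494 (iv F13405)) (tt N9500 (iv F13418)) (tt N4408 (iv D8119)))
theorem Q7223 : ∀ i, i < 7223 → P i := stepQ 7222 Q7222 (allL N7222 (tt N8618 (iv F11511)) (tt N4412 F8810) (tt N6645 F8811) (tt N8592 (iv F11470)) (tt N4410 (iv D8120)))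
theorem Q7224 : ∀ i, i < 7224 → P i := stepQ 7223 Q7223 (allL N7223 (tt N5217 F8812) (tt N8747 (iv F11767)) (tt N9491 (iv F13401)) (tt N9497 (iv F13412)) (tt N4411 (iv D8121)))
theorem Q7225 : ∀ i, i < 7225 → P i := stepQ 7224 Q7224 (allL N7224 (tt N5211 F8813) (tt N8658 (iv F11589)) (tt N4412 (iv D8122)) (tt N9495 (iv F13407)) (tt N5210 F8814))
theorem Q7226 : ∀ i, i < 7226 → P i := stepQ 7225 Q7225 (allL N7225 (tt N5982 F8817) (tt N4415 F8815) (tt N5957 F8816) (tt N4413 (iv D8123)) (tt N5940 (iv F8818)))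
theorem Q7227 : ∀ i, i < 7227 → P i := stepQ 7226 Q7226 (allL N7226 (tt N6053 F8819) (tt N4414 (iv D8124)) (tt N9503 D10418) (tt N9504 D10419) (tt N6051 F8820))
theorem Q7228 : ∀ i, i < 7228 → P i := stepQ 7227 Q7227 (allL N7227 (tt N7989 F10237) (tt N9504 (iv F13427)) (tt N4415 F8821) (tt N4414 (iv D8125)) (tt N7988 (iv F10238)))
theorem Q7229 : ∀ i, i < 7229 → P i := stepQ 7228 Q7228 (allL N7228 (tt N6658 F8822) (tt N5940 F8823) (tt N9505 D10420) (tt N4428 F8824) (tt N4415 (iv D8126)))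
theorem Q7230 : ∀ i, i < 7230 → P i := stepQ 7229 Q7229 (allL N7229 (tt N6662 F8825) (tt N9506 D10421) (tt N4416 (iv D8127)) (tt N9507 D10422) (tt N8023 F10317))
theorem Q7231 : ∀ i, i < 7231 → P i := stepQ 7230 Q7230 (allL N7230 (tt N6665 F8826) (tt N5950 F8827) (tt N9507 (iv F13434)) (tt N4416 (iv D8128)) (tt N4427 F8828))
theorem Q7232 : ∀ i, i < 7232 → P i := stepQ 7231 Q7231 (allL N7231 (tt N9348 (iv F13085)) (tt N4417 (iv D8129)) (tt N9179 (iv F12707)) (tt N9508 D10423) (tt N8020 (iv F10305)))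
theorem Q7233 : ∀ i, i < 7233 → P i := stepQ 7232 Q7232 (allL N7232 (tt N8018 (iv F10301)) (tt N9226 (iv F12834)) (tt N4417 (iv D8130)) (tt N9509 D10424) (tt N9510 D10425))
theorem Q7234 : ∀ i, i < 7234 → P i := stepQ 7233 Q7233 (allL N7233 (tt N8004 (iv F10267)) (tt N9508 (iv F13435)) (tt N9509 (iv F13438)) (tt N4417 (iv D8131)) (tt N7992 (iv F10246)))
theorem Q7235 : ∀ i, i < 7235 → P i := stepQ 7234 Q7234 (allL N7234 (tt N8011 (iv F10289)) (tt N5438 F8830) (tt N4419 (iv D8132)) (tt N5441 F8829) (tt N5437 (iv F8831)))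
theorem Q7236 : ∀ i, i < 7236 → P i := stepQ 7235 Q7235 (allL N7235 (tt N7309 (iv F8966)) (tt N9452 (iv F13305)) (tt N4420 (iv D8133)) (tt N4429 F8832) (tt N8013 (iv F10293)))
theorem Q7237 : ∀ i, i < 7237 → P i := stepQ 7236 Q7236 (allL N7236 (tt N4421 (iv D8134)) (tt N9309 (iv F12993)) (tt N9510 (iv F13440)) (tt N9511 D10426) (tt N8022 F10312))
theorem Q7238 : ∀ i, i < 7238 → P i := stepQ 7237 Q7237 (allL N7237 (tt N9351 F13090) (tt N4423 (iv D8135)) (tt N9187 (iv F12727)) (tt N9512 D10427) (tt N9513 D10428))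
theorem Q7239 : ∀ i, i < 7239 → P i := stepQ 7238 Q7238 (allL N7238 (tt N8019 (iv F10303)) (tt N9276 (iv F12925)) (tt N4423 (iv D8136)) (tt N9514 D10429) (tt N9515 D10430))
theorem Q7240 : ∀ i, i < 7240 → P i := stepQ 7239 Q7239 (allL N7239 (tt N8005 (iv F10270)) (tt N9512 (iv F13443)) (tt N9514 (iv F13449)) (tt N4423 (iv D8137)) (tt N8021 (iv F10310)))
theorem Q7241 : ∀ i, i < 7241 → P i := stepQ 7240 Q7240 (allL N7240 (tt N4424 F8833) (tt N9513 (iv F13446)) (tt N7993 (iv F10249)) (tt N7992 F10245) (tt N4423 (iv D8138)))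
theorem Q7242 : ∀ i, i < 7242 → P i := stepQ 7241 Q7241 (allL N7241 (tt N9516 D10431) (tt N8503 (iv F11269)) (tt N4424 (iv D8139)) (tt N8007 (iv F10277)) (tt N8030 F10331))
theorem Q7243 : ∀ i, i < 7243 → P i := stepQ 7242 Q7242 (allL N7242 (tt N5984 F8836) (tt N4427 F8834) (tt N5970 F8835) (tt N4425 (iv D8140)) (tt N5950 F8837))
theorem Q7244 : ∀ i, i < 7244 → P i := stepQ 7243 Q7243 (allL N7243 (tt N5996 F8838) (tt N4428 F8839) (tt N5941 F8840) (tt N5940 F8841) (tt N4425 (iv D8141)))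
theorem Q7245 : ∀ i, i < 7245 → P i := stepQ 7244 Q7244 (allL N7244 (tt N6060 F8842) (tt N4426 (iv D8142)) (tt N9517 D10432) (tt N9518 D10433) (tt N6059 (iv F8843)))
theorem Q7246 : ∀ i, i < 7246 → P i := stepQ 7245 Q7245 (allL N7245 (tt N7991 (iv F10240)) (tt N9518 (iv F13456)) (tt N4427 F8844) (tt N4426 (iv D8143)) (tt N8017 (iv F10300)))
theorem Q7247 : ∀ i, i < 7247 → P i := stepQ 7246 Q7246 (allL N7246 (tt N8010 (iv F10285)) (tt N6059 F8845) (tt N9516 (iv F13451)) (tt N7988 F10242) (tt N4426 (iv D8144)))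
theorem Q7248 : ∀ i, i < 7248 → P i := stepQ 7247 Q7247 (allL N7247 (tt N8027 F10323) (tt N9519 D10434) (tt N4428 (iv D8145)) (tt N9505 (iv F13429)) (tt N8026 (iv F10324)))
theorem Q7249 : ∀ i, i < 7249 → P i := stepQ 7248 Q7248 (allL N7248 (tt N4429 (iv D8146)) (tt N9317 (iv F13012)) (tt N9515 (iv F13450)) (tt N9520 D10435) (tt N8028 F10326))
theorem Q7250 : ∀ i, i < 7250 → P i := stepQ 7249 Q7249 (allL N7249 (tt N4430 (iv D8147)) (tt N9287 (iv F12945)) (tt N8345 (iv F10965)) (tt N9326 (iv F13034)) (tt N9521 D10436))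
theorem Q7251 : ∀ i, i < 7251 → P i := stepQ 7250 Q7250 (allL N7250 (tt N7417 (iv F9176)) (tt N4430 (iv D8148)) (tt N9522 D10437) (tt N9310 (iv F12996)) (tt N9523 D10438))
theorem Q7252 : ∀ i, i < 7252 → P i := stepQ 7251 Q7251 (allL N7251 (tt N9521 (iv F13462)) (tt N9523 (iv F13468)) (tt N9524 D10439) (tt N9318 (iv F13016)) (tt N4430 (iv D8149)))
theorem Q7253 : ∀ i, i < 7253 → P i := stepQ 7252 Q7252 (allL N7252 (tt N4433 F8846) (tt N9008 (iv F12302)) (tt N9525 D10440) (tt N9007 F12300) (tt N4431 (iv D8150)))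
theorem Q7254 : ∀ i, i < 7254 → P i := stepQ 7253 Q7253 (allL N7253 (tt N9524 (iv F13471)) (tt N5843 F8847) (tt N4433 (iv D8151)) (tt N8216 (iv F10692)) (tt N8150 F10550))
theorem Q7255 : ∀ i, i < 7255 → P i := stepQ 7254 Q7254 (allL N7254 (tt N9013 (iv F12311)) (tt N9526 D10441) (tt N4434 (iv D8152)) (tt N4645 F8848) (tt N9527 D10442))
theorem Q7256 : ∀ i, i < 7256 → P i := stepQ 7255 Q7255 (allL N7255 (tt N7635 (iv F9573)) (tt N6982 F8850) (tt N4435 (iv D8153)) (tt N4445 F8849) (tt N7017 F8851))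
theorem Q7257 : ∀ i, i < 7257 → P i := stepQ 7256 Q7256 (allL N7256 (tt N7649 (iv F9594)) (tt N6976 F8852) (tt N4437 F8853) (tt N4436 (iv D8154)) (tt N6975 F8854))
theorem Q7258 : ∀ i, i < 7258 → P i := stepQ 7257 Q7257 (allL N7257 (tt N9334 (iv F13051)) (tt N4646 F8855) (tt N9120 (iv F12556)) (tt N4446 F8856) (tt N4437 (iv D8155)))
theorem Q7259 : ∀ i, i < 7259 → P i := stepQ 7258 Q7258 (allL N7258 (tt N6014 F8857) (tt N4438 (iv D8156)) (tt N9528 D10443) (tt N4884 (iv F8859)) (tt N4970 F8858))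
theorem Q7260 : ∀ i, i < 7260 → P i := stepQ 7259 Q7259 (allL N7259 (tt N9333 (iv F13047)) (tt N4884 F8860) (tt N6671 F8861) (tt N4438 (iv D8157)) (tt N4881 (iv F8862)))
theorem Q7261 : ∀ i, i < 7261 → P i := stepQ 7260 Q7260 (allL N7260 (tt N4439 (iv D8158)) (tt N4925 F8863) (tt N5060 F8864) (tt N4931 F8866) (tt N4915 F8865))
theorem Q7262 : ∀ i, i < 7262 → P i := stepQ 7261 Q7261 (allL N7261 (tt N9355 (iv F13094)) (tt N4924 F8867) (tt N7079 F8868) (tt N4915 F8869) (tt N4441 (iv D8159)))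
theorem Q7263 : ∀ i, i < 7263 → P i := stepQ 7262 Q7262 (allL N7262 (tt N6022 F8870) (tt N4442 (iv D8160)) (tt N9529 D10444) (tt N4890 (iv F8871)) (tt N4883 F8872))
theorem Q7264 : ∀ i, i < 7264 → P i := stepQ 7263 Q7263 (allL N7263 (tt N9322 (iv F13024)) (tt N4890 F8873) (tt N6670 F8874) (tt N4442 (iv D8161)) (tt N4971 F8875))
theorem Q7265 : ∀ i, i < 7265 → P i := stepQ 7264 Q7264 (allL N7264 (tt N4443 F8876) (tt N4883 F8877) (tt N6203 F8878) (tt N4881 F8879) (tt N4442 (iv D8162)))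
theorem Q7266 : ∀ i, i < 7266 → P i := stepQ 7265 Q7265 (allL N7265 (tt N9014 (iv F12313)) (tt N9530 D10445) (tt N4444 (iv D8163)) (tt N4632 F8880) (tt N9531 D10446))
theorem Q7267 : ∀ i, i < 7267 → P i := stepQ 7266 Q7266 (allL N7266 (tt N6008 F8881) (tt N4446 F8882) (tt N9027 F12346) (tt N4646 F8883) (tt N4444 (iv D8164)))
theorem Q7268 : ∀ i, i < 7268 → P i := stepQ 7267 Q7267 (allL N7267 (tt N4505 F8884) (tt N6296 F8885) (tt N4448 F8886) (tt N4447 (iv D8165)) (tt N6295 F8887))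
theorem Q7269 : ∀ i, i < 7269 → P i := stepQ 7268 Q7268 (allL N7268 (tt N4466 F8888) (tt N5228 F8889) (tt N5135 (iv F8891)) (tt N4451 F8890) (tt N4448 (iv D8166)))
theorem Q7270 : ∀ i, i < 7270 → P i := stepQ 7269 Q7269 (allL N7269 (tt N8969 (iv F12204)) (tt N4450 (iv D8167)) (tt N7709 (iv F9707)) (tt N4553 F8892) (tt N4605 F8893))
theorem Q7271 : ∀ i, i < 7271 → P i := stepQ 7270 Q7270 (allL N7270 (tt N5219 F8894) (tt N4453 F8895) (tt N4731 F8896) (tt N4452 (iv D8168)) (tt N9532 D10447))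
theorem Q7272 : ∀ i, i < 7272 → P i := stepQ 7271 Q7271 (allL N7271 (tt N8384 (iv F11050)) (tt N4454 F8897) (tt N9533 D10448) (tt N9534 D10449) (tt N4452 (iv D8169)))
theorem Q7273 : ∀ i, i < 7273 → P i := stepQ 7272 Q7272 (allL N7272 (tt N8081 (iv F10452)) (tt N9532 (iv F13485)) (tt N9535 D10450) (tt N4458 F8898) (tt N4453 (iv D8170)))
theorem Q7274 : ∀ i, i < 7274 → P i := stepQ 7273 Q7273 (allL N7273 (tt N5348 F8900) (tt N6118 (iv F8901)) (tt N4454 (iv D8171)) (tt N9536 D10451) (tt N6116 F8899))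
theorem Q7275 : ∀ i, i < 7275 → P i := stepQ 7274 Q7274 (allL N7274 (tt N8082 (iv F10454)) (tt N9534 (iv F13488)) (tt N9536 (iv F13496)) (tt N4454 (iv D8172)) (tt N9537 D10452))
theorem Q7276 : ∀ i, i < 7276 → P i := stepQ 7275 Q7275 (allL N7275 (tt N4455 (iv D8173)) (tt N9538 D10453) (tt N5347 F8902) (tt N9539 D10454) (tt N4973 F8903))
theorem Q7277 : ∀ i, i < 7277 → P i := stepQ 7276 Q7276 (allL N7276 (tt N5363 F8906) (tt N4918 F8904) (tt N4456 F8905) (tt N4455 (iv D8174)) (tt N4916 (iv F8907)))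
theorem Q7278 : ∀ i, i < 7278 → P i := stepQ 7277 Q7277 (allL N7277 (tt N8083 (iv F10455)) (tt N4466 F8908) (tt N7277 F8909) (tt N4459 F8910) (tt N4456 (iv D8175)))
theorem Q7279 : ∀ i, i < 7279 → P i := stepQ 7278 Q7278 (allL N7278 (tt N4457 (iv D8176)) (tt N9540 D10455) (tt N5351 F8911) (tt N9541 D10456) (tt N8770 (iv F11806)))
theorem Q7280 : ∀ i, i < 7280 → P i := stepQ 7279 Q7279 (allL N7279 (tt N8770 (iv F11807)) (tt N4917 F8912) (tt N7279 F8913) (tt N4916 F8914) (tt N4457 (iv D8177)))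
theorem Q7281 : ∀ i, i < 7281 → P i := stepQ 7280 Q7280 (allL N7280 (tt N8394 (iv F11071)) (tt N4458 (iv D8178)) (tt N9542 D10457) (tt N9532 (iv F13486)) (tt N9543 D10458))
theorem Q7282 : ∀ i, i < 7282 → P i := stepQ 7281 Q7281 (allL N7281 (tt N5350 F8915) (tt N6166 (iv F10444)) (tt N4458 (iv D8179)) (tt N9535 (iv F13490)) (tt N6164 F10443))
theorem Q7283 : ∀ i, i < 7283 → P i := stepQ 7282 Q7282 (allL N7282 (tt N4459 F8916) (tt N9543 (iv F13507)) (tt N8080 (iv F10451)) (tt N9537 (iv F13498)) (tt N4458 (iv D8180)))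
theorem Q7284 : ∀ i, i < 7284 → P i := stepQ 7283 Q7283 (allL N7283 (tt N9544 D10459) (tt N4462 (iv D8181)) (tt N9545 D10460) (tt N5890 (iv F8921)) (tt N5776 F8926))
theorem Q7285 : ∀ i, i < 7285 → P i := stepQ 7284 Q7284 (allL N7284 (tt N4525 F8917) (tt N5890 F8920) (tt N4475 F8918) (tt N4462 (iv D8182)) (tt N5889 (iv F8919)))
theorem Q7286 : ∀ i, i < 7286 → P i := stepQ 7285 Q7285 (allL N7285 (tt N4465 F8922) (tt N5776 (iv F8924)) (tt N4479 F8923) (tt N5775 (iv F8925)) (tt N4462 (iv D8183)))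
theorem Q7287 : ∀ i, i < 7287 → P i := stepQ 7286 Q7286 (allL N7286 (tt N4463 (iv D8184)) (tt N9546 D10461) (tt N8361 (iv F10999)) (tt N9547 D10462) (tt N9548 D10463))
theorem Q7288 : ∀ i, i < 7288 → P i := stepQ 7287 Q7287 (allL N7287 (tt N9549 D10464) (tt N4975 F8927) (tt N4463 (iv D8185)) (tt N9550 D10465) (tt N5597 F8928))
theorem Q7289 : ∀ i, i < 7289 → P i := stepQ 7288 Q7288 (allL N7288 (tt N9551 D10466) (tt N4464 F8929) (tt N9550 (iv F13520)) (tt N4463 (iv D8186)) (tt N9552 D10467))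
theorem Q7290 : ∀ i, i < 7290 → P i := stepQ 7289 Q7289 (allL N7289 (tt N9548 (iv F13515)) (tt N4465 F8930) (tt N7289 F8931) (tt N4470 (iv F8932)) (tt N4463 (iv D8187)))
theorem Q7291 : ∀ i, i < 7291 → P i := stepQ 7290 Q7290 (allL N7290 (tt N4530 F8933) (tt N9552 (iv F13527)) (tt N4488 F8934) (tt N4472 F8935) (tt N4464 (iv D8188)))
theorem Q7292 : ∀ i, i < 7292 → P i := stepQ 7291 Q7291 (allL N7291 (tt N9553 D10468) (tt N7087 F8936) (tt N5100 F8937) (tt N4467 (iv D8189)) (tt N7085 (iv F8938)))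
theorem Q7293 : ∀ i, i < 7293 → P i := stepQ 7292 Q7292 (allL N7292 (tt N9554 D10469) (tt N4976 F8939) (tt N4469 F8940) (tt N4468 (iv D8190)) (tt N9555 D10470))
theorem Q7294 : ∀ i, i < 7294 → P i := stepQ 7293 Q7293 (allL N7293 (tt N4469 (iv D8191)) (tt N9556 D10471) (tt N8378 F11041) (tt N9557 D10472) (tt N9558 D10473))
theorem Q7295 : ∀ i, i < 7295 → P i := stepQ 7294 Q7294 (allL N7294 (tt N9558 (iv F13538)) (tt N4472 F8941) (tt N7294 F8942) (tt N9552 (iv F13529)) (tt N4469 (iv D8192)))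
theorem Q7296 : ∀ i, i < 7296 → P i := stepQ 7295 Q7295 (allL N7295 (tt N9559 D10474) (tt N4471 (iv D8193)) (tt N9560 D10475) (tt N5777 F8943) (tt N5773 (iv F8944)))
theorem Q7297 : ∀ i, i < 7297 → P i := stepQ 7296 Q7296 (allL N7296 (tt N4472 F8945) (tt N5773 F8946) (tt N4500 F8947) (tt N5889 F8948) (tt N4471 (iv D8194)))
theorem Q7298 : ∀ i, i < 7298 → P i := stepQ 7297 Q7297 (allL N7297 (tt N7026 F8952) (tt N4476 (iv D8195)) (tt N7031 F8949) (tt N4577 F8950) (tt N4583 F8951))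
theorem Q7299 : ∀ i, i < 7299 → P i := stepQ 7298 Q7298 (allL N7298 (tt N4477 (iv D8196)) (tt N9561 D10476) (tt N9562 D10477) (tt N9563 D10478) (tt N6128 F8953))
theorem Q7300 : ∀ i, i < 7300 → P i := stepQ 7299 Q7299 (allL N7299 (tt N9564 D10479) (tt N6002 F8954) (tt N4477 (iv D8197)) (tt N6473 F8955) (tt N6127 F8956))
theorem Q7301 : ∀ i, i < 7301 → P i := stepQ 7300 Q7300 (allL N7300 (tt N4480 (iv D8198)) (tt N9565 D10480) (tt N6817 F9312) (tt N6816 (iv F9313)) (tt N8413 (iv F11095)))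
theorem Q7302 : ∀ i, i < 7302 → P i := stepQ 7301 Q7301 (allL N7301 (tt N9566 D10481) (tt N8352 (iv F10978)) (tt N4480 (iv D8199)) (tt N8576 (iv F11422)) (tt N8412 (iv F11094)))
theorem Q7303 : ∀ i, i < 7303 → P i := stepQ 7302 Q7302 (allL N7302 (tt N9565 (iv F13552)) (tt N4483 (iv D8200)) (tt N9567 D10482) (tt N9568 D10483) (tt N9070 F12438))
theorem Q7304 : ∀ i, i < 7304 → P i := stepQ 7303 Q7303 (allL N7303 (tt N9569 D10484) (tt N9568 (iv F13562)) (tt N9140 (iv F12617)) (tt N4483 (iv D8201)) (tt N9570 D10485))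
theorem Q7305 : ∀ i, i < 7305 → P i := stepQ 7304 Q7304 (allL N7304 (tt N4486 F8957) (tt N9070 (iv F12437)) (tt N8723 F11722) (tt N9571 D10486) (tt N4483 (iv D8202)))
theorem Q7306 : ∀ i, i < 7306 → P i := stepQ 7305 Q7305 (allL N7305 (tt N4484 (iv D8203)) (tt N9572 D10487) (tt N9141 (iv F12619)) (tt N9573 D10488) (tt N8180 F10611))
theorem Q7307 : ∀ i, i < 7307 → P i := stepQ 7306 Q7306 (allL N7306 (tt N8176 (iv F10601)) (tt N4919 F8958) (tt N4485 F8959) (tt N4484 (iv D8204)) (tt N8175 (iv F10599)))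
theorem Q7308 : ∀ i, i < 7308 → P i := stepQ 7307 Q7307 (allL N7307 (tt N4485 (iv D8205)) (tt N8992 (iv F12267)) (tt N5436 F8960) (tt N5449 F8961) (tt N8846 (iv F11942)))
theorem Q7309 : ∀ i, i < 7309 → P i := stepQ 7308 Q7308 (allL N7308 (tt N8846 F11943) (tt N4488 F8962) (tt N7308 F8964) (tt N4496 F8963) (tt N4485 (iv D8206)))
theorem Q7310 : ∀ i, i < 7310 → P i := stepQ 7309 Q7309 (allL N7309 (tt N7235 F8966) (tt N4487 (iv D8207)) (tt N9574 D10489) (tt N4559 F8965) (tt N5273 (iv F8967)))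
theorem Q7311 : ∀ i, i < 7311 → P i := stepQ 7310 Q7310 (allL N7310 (tt N4488 F8968) (tt N5273 F8969) (tt N6295 F8970) (tt N4491 F8971) (tt N4487 (iv D8208)))
theorem Q7312 : ∀ i, i < 7312 → P i := stepQ 7311 Q7311 (allL N7311 (tt N9116 (iv F12545)) (tt N5152 F8972) (tt N4490 F8973) (tt N4489 (iv D8209)) (tt N5294 (iv F8974)))
theorem Q7313 : ∀ i, i < 7313 → P i := stepQ 7312 Q7312 (allL N7312 (tt N4493 (iv D8210)) (tt N6931 F8975) (tt N8174 (iv F10596)) (tt N9575 D10490) (tt N8936 (iv F12123)))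
theorem Q7314 : ∀ i, i < 7314 → P i := stepQ 7313 Q7313 (allL N7313 (tt N4494 (iv D8211)) (tt N9576 D10491) (tt N9143 (iv F12626)) (tt N9577 D10492) (tt N8711 F11690))
theorem Q7315 : ∀ i, i < 7315 → P i := stepQ 7314 Q7314 (allL N7314 (tt N8711 (iv F11689)) (tt N4983 F8976) (tt N7314 F8977) (tt N8175 (iv F10600)) (tt N4494 (iv D8212)))
theorem Q7316 : ∀ i, i < 7316 → P i := stepQ 7315 Q7315 (allL N7315 (tt N9578 D10493) (tt N4495 (iv D8213)) (tt N9579 D10494) (tt N9580 D10495) (tt N9072 F12443))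
theorem Q7317 : ∀ i, i < 7317 → P i := stepQ 7316 Q7316 (allL N7316 (tt N9575 (iv F13571)) (tt N9580 (iv F13579)) (tt N9145 (iv F12635)) (tt N4495 (iv D8214)) (tt N9571 (iv F13567)))
theorem Q7318 : ∀ i, i < 7318 → P i := stepQ 7317 Q7317 (allL N7317 (tt N4496 F8978) (tt N9072 (iv F12441)) (tt N8773 (iv F12442)) (tt N9570 (iv F13566)) (tt N4495 (iv D8215)))
theorem Q7319 : ∀ i, i < 7319 → P i := stepQ 7318 Q7318 (allL N7318 (tt N4497 (iv D8216)) (tt N9578 (iv F13573)) (tt N6887 (iv F9319)) (tt N6886 F9320) (tt N8433 (iv F11137)))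
theorem Q7320 : ∀ i, i < 7320 → P i := stepQ 7319 Q7319 (allL N7319 (tt N9581 D10496) (tt N8353 (iv F10982)) (tt N4497 (iv D8217)) (tt N8346 (iv F10967)) (tt N8431 (iv F11135)))
theorem Q7321 : ∀ i, i < 7321 → P i := stepQ 7320 Q7320 (allL N7320 (tt N4499 (iv D8218)) (tt N9582 D10497) (tt N9583 D10498) (tt N9584 D10499) (tt N6168 F8979))
theorem Q7322 : ∀ i, i < 7322 → P i := stepQ 7321 Q7321 (allL N7321 (tt N9585 D10500) (tt N6003 F8980) (tt N4499 (iv D8219)) (tt N5987 F8981) (tt N6160 F8982))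
theorem Q7323 : ∀ i, i < 7323 → P i := stepQ 7322 Q7322 (allL N7322 (tt N5135 F8983) (tt N9149 (iv F12642)) (tt N4507 F8985) (tt N4503 F8984) (tt N4502 (iv D8220)))
theorem Q7324 : ∀ i, i < 7324 → P i := stepQ 7323 Q7323 (allL N7323 (tt N4504 (iv D8221)) (tt N9019 (iv F12326)) (tt N7021 F8986) (tt N9024 F12339) (tt N9018 F12325))
theorem Q7325 : ∀ i, i < 7325 → P i := stepQ 7324 Q7324 (allL N7324 (tt N9586 D10501) (tt N4505 F8987) (tt N7007 F8988) (tt N4504 (iv D8222)) (tt N9587 D10502))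
theorem Q7326 : ∀ i, i < 7326 → P i := stepQ 7325 Q7325 (allL N7325 (tt N9018 (iv F12323)) (tt N4506 F8989) (tt N4583 F8990) (tt N4510 (iv F8991)) (tt N4504 (iv D8223)))
theorem Q7327 : ∀ i, i < 7327 → P i := stepQ 7326 Q7326 (allL N7326 (tt N6295 F8992) (tt N9587 (iv F13597)) (tt N4578 F8993) (tt N4511 F8994) (tt N4505 (iv D8224)))
theorem Q7328 : ∀ i, i < 7328 → P i := stepQ 7327 Q7327 (allL N7327 (tt N7003 F8997) (tt N6487 F8995) (tt N6986 F8996) (tt N4508 (iv D8225)) (tt N6485 F8999))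
theorem Q7329 : ∀ i, i < 7329 → P i := stepQ 7328 Q7328 (allL N7328 (tt N4509 (iv D8226)) (tt N9025 (iv F12340)) (tt N7024 F9000) (tt N9048 (iv F12383)) (tt N9023 F12337))
theorem Q7330 : ∀ i, i < 7330 → P i := stepQ 7329 Q7329 (allL N7329 (tt N9023 (iv F12336)) (tt N4511 F9001) (tt N4582 F9002) (tt N9587 (iv F13599)) (tt N4509 (iv D8227)))
theorem Q7331 : ∀ i, i < 7331 → P i := stepQ 7330 Q7330 (allL N7330 (tt N4513 F9003) (tt N4747 F9004) (tt N7621 (iv F9551)) (tt N7874 (iv F10030)) (tt N4512 (iv D8228)))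
theorem Q7332 : ∀ i, i < 7332 → P i := stepQ 7331 Q7331 (allL N7331 (tt N4514 (iv D8229)) (tt N8369 (iv F11016)) (tt N5236 F9005) (tt N9588 D10503) (tt N7986 (iv F10233)))
theorem Q7333 : ∀ i, i < 7333 → P i := stepQ 7332 Q7332 (allL N7332 (tt N9589 D10504) (tt N4994 F9006) (tt N4515 F9007) (tt N4514 (iv D8230)) (tt N5194 F9008))
theorem Q7334 : ∀ i, i < 7334 → P i := stepQ 7333 Q7333 (allL N7333 (tt N4808 F9011) (tt N4765 F9009) (tt N4794 F9010) (tt N4516 (iv D8231)) (tt N9590 D10505))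
theorem Q7335 : ∀ i, i < 7335 → P i := stepQ 7334 Q7334 (allL N7334 (tt N4517 F9012) (tt N5136 F9013) (tt N4801 F9014) (tt N9591 D10506) (tt N4516 (iv D8232)))
theorem Q7336 : ∀ i, i < 7336 → P i := stepQ 7335 Q7335 (allL N7335 (tt N9592 D10507) (tt N4518 F9015) (tt N4826 F9016) (tt N4517 (iv D8233)) (tt N7362 (iv F9054)))
theorem Q7337 : ∀ i, i < 7337 → P i := stepQ 7336 Q7336 (allL N7336 (tt N9593 D10508) (tt N4519 (iv D8234)) (tt N4906 F9017) (tt N4542 F9018) (tt N7383 (iv F9096)))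
theorem Q7338 : ∀ i, i < 7338 → P i := stepQ 7337 Q7337 (allL N7337 (tt N4520 (iv D8235)) (tt N9594 D10509) (tt N7665 (iv F9622)) (tt N9595 D10510) (tt N9596 D10511))
theorem Q7339 : ∀ i, i < 7339 → P i := stepQ 7338 Q7338 (allL N7338 (tt N9597 D10512) (tt N4521 F9019) (tt N4991 F9020) (tt N4520 (iv D8236)) (tt N7412 (iv F9170)))
theorem Q7340 : ∀ i, i < 7340 → P i := stepQ 7339 Q7339 (allL N7339 (tt N9596 (iv F13621)) (tt N4522 F9021) (tt N7384 (iv F9100)) (tt N7383 F9098) (tt N4520 (iv D8237)))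
theorem Q7341 : ∀ i, i < 7341 → P i := stepQ 7340 Q7340 (allL N7340 (tt N4524 (iv D8238)) (tt N7422 (iv F9183)) (tt N5639 F9185) (tt N9598 D10513) (tt N7421 F9181))
theorem Q7342 : ∀ i, i < 7342 → P i := stepQ 7341 Q7341 (allL N7341 (tt N7915 (iv F10118)) (tt N7710 (iv F9711)) (tt N4524 (iv D8239)) (tt N7763 (iv F9833)) (tt N7913 (iv F10115)))
theorem Q7343 : ∀ i, i < 7343 → P i := stepQ 7342 Q7342 (allL N7342 (tt N7941 (iv F10167)) (tt N4525 F9022) (tt N7763 (iv F9832)) (tt N4524 (iv D8240)) (tt N9599 D10514))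
theorem Q7344 : ∀ i, i < 7344 → P i := stepQ 7343 Q7343 (allL N7343 (tt N7421 (iv F9179)) (tt N4526 F9023) (tt N9600 D10515) (tt N9600 F13635) (tt N4524 (iv D8241)))
theorem Q7345 : ∀ i, i < 7345 → P i := stepQ 7344 Q7344 (allL N7344 (tt N5889 F9024) (tt N9599 (iv F13629)) (tt N4564 F9025) (tt N4538 F9026) (tt N4525 (iv D8242)))
theorem Q7346 : ∀ i, i < 7346 → P i := stepQ 7345 Q7345 (allL N7345 (tt N5775 F9027) (tt N9600 (iv F13633)) (tt N4558 F9028) (tt N4526 (iv D8243)) (tt N4537 F9029))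
theorem Q7347 : ∀ i, i < 7347 → P i := stepQ 7346 Q7346 (allL N7346 (tt N8061 (iv F10389)) (tt N7485 (iv F9292)) (tt N4527 (iv D8244)) (tt N9601 D10516) (tt N5803 F9030))
theorem Q7348 : ∀ i, i < 7348 → P i := stepQ 7347 Q7347 (allL N7347 (tt N8149 (iv F10548)) (tt N7447 (iv F9226)) (tt N9601 (iv F13636)) (tt N4527 (iv D8245)) (tt N5872 F9031))
theorem Q7349 : ∀ i, i < 7349 → P i := stepQ 7348 Q7348 (allL N7348 (tt N4528 (iv D8246)) (tt N7514 (iv F9334)) (tt N5795 F9033) (tt N9602 D10517) (tt N5786 F9032))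
theorem Q7350 : ∀ i, i < 7350 → P i := stepQ 7349 Q7349 (allL N7349 (tt N9603 D10518) (tt N5522 F9034) (tt N4529 F9035) (tt N4528 (iv D8247)) (tt N5809 F9036))
theorem Q7351 : ∀ i, i < 7351 → P i := stepQ 7350 Q7350 (allL N7350 (tt N4529 (iv D8248)) (tt N7146 F9039) (tt N9604 D10519) (tt N5873 F9038) (tt N5814 F9037))
theorem Q7352 : ∀ i, i < 7352 → P i := stepQ 7351 Q7351 (allL N7351 (tt N9209 (iv F12796)) (tt N7201 F9040) (tt N4532 F9041) (tt N4531 (iv D8249)) (tt N5851 (iv F9042)))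
theorem Q7353 : ∀ i, i < 7353 → P i := stepQ 7352 Q7352 (allL N7352 (tt N9321 (iv F13022)) (tt N6845 F9043) (tt N5837 F9044) (tt N4533 (iv D8250)) (tt N5827 (iv F9045)))
theorem Q7354 : ∀ i, i < 7354 → P i := stepQ 7353 Q7353 (allL N7353 (tt N4534 (iv D8251)) (tt N7545 (iv F9370)) (tt N5870 F9047) (tt N9605 D10520) (tt N5861 F9046))
theorem Q7355 : ∀ i, i < 7355 → P i := stepQ 7354 Q7354 (allL N7354 (tt N8065 (iv F10401)) (tt N7779 (iv F9868)) (tt N4535 (iv D8252)) (tt N9606 D10521) (tt N5860 F9048))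
theorem Q7356 : ∀ i, i < 7356 → P i := stepQ 7355 Q7355 (allL N7355 (tt N8215 (iv F10690)) (tt N7449 (iv F9232)) (tt N9606 (iv F13651)) (tt N4535 (iv D8253)) (tt N5815 F9049))
theorem Q7357 : ∀ i, i < 7357 → P i := stepQ 7356 Q7356 (allL N7356 (tt N4536 (iv D8254)) (tt N7553 (iv F9381)) (tt N5895 (iv F9382)) (tt N9607 D10522) (tt N8963 (iv F12193)))
theorem Q7358 : ∀ i, i < 7358 → P i := stepQ 7357 Q7357 (allL N7357 (tt N7940 (iv F10166)) (tt N7712 (iv F9717)) (tt N4536 (iv D8255)) (tt N7711 F9716) (tt N7939 (iv F10165)))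
theorem Q7359 : ∀ i, i < 7359 → P i := stepQ 7358 Q7358 (allL N7358 (tt N7918 (iv F10121)) (tt N4537 F9050) (tt N7711 (iv F9714)) (tt N4536 (iv D8256)) (tt N9600 (iv F13634)))
theorem Q7360 : ∀ i, i < 7360 → P i := stepQ 7359 Q7359 (allL N7359 (tt N8963 F12192) (tt N4538 F9051) (tt N9599 (iv F13630)) (tt N9599 (iv F13631)) (tt N4536 (iv D8257)))
theorem Q7361 : ∀ i, i < 7361 → P i := stepQ 7360 Q7360 (allL N7360 (tt N7618 (iv F9543)) (tt N5877 (iv F9053)) (tt N4539 (iv D8258)) (tt N8580 (iv F11433)) (tt N5875 F9052))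
theorem Q7362 : ∀ i, i < 7362 → P i := stepQ 7361 Q7361 (allL N7361 (tt N4540 (iv D8259)) (tt N8569 (iv F11404)) (tt N7619 (iv F9545)) (tt N9608 D10523) (tt N8037 (iv F10340)))
theorem Q7363 : ∀ i, i < 7363 → P i := stepQ 7362 Q7362 (allL N7362 (tt N9609 D10524) (tt N5910 F9055) (tt N4541 (iv D8260)) (tt N7365 (iv F9058)) (tt N7335 F9054))
theorem Q7364 : ∀ i, i < 7364 → P i := stepQ 7363 Q7363 (allL N7363 (tt N4542 (iv D8261)) (tt N9610 D10525) (tt N7786 (iv F9890)) (tt N9611 D10526) (tt N9612 D10527))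
theorem Q7365 : ∀ i, i < 7365 → P i := stepQ 7364 Q7364 (allL N7364 (tt N9612 (iv F13664)) (tt N4543 F9056) (tt N7382 (iv F9094)) (tt N7412 (iv F9169)) (tt N4542 (iv D8262)))
theorem Q7366 : ∀ i, i < 7366 → P i := stepQ 7365 Q7365 (allL N7365 (tt N9613 D10528) (tt N4544 (iv D8263)) (tt N5048 F9057) (tt N7362 F9058) (tt N4598 F9059))
theorem Q7367 : ∀ i, i < 7367 → P i := stepQ 7366 Q7366 (allL N7366 (tt N9299 (iv F12975)) (tt N4615 F9060) (tt N6776 F9061) (tt N4600 F9062) (tt N4547 (iv D8264)))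
theorem Q7368 : ∀ i, i < 7368 → P i := stepQ 7367 Q7367 (allL N7367 (tt N5220 F9063) (tt N4552 F9064) (tt N8219 (iv F10697)) (tt N9614 D10529) (tt N4550 (iv D8265)))
theorem Q7369 : ∀ i, i < 7369 → P i := stepQ 7368 Q7368 (allL N7368 (tt N6913 F9065) (tt N6579 F9066) (tt N8739 (iv F11753)) (tt N8969 (iv F12205)) (tt N4551 (iv D8266)))
theorem Q7370 : ∀ i, i < 7370 → P i := stepQ 7369 Q7369 (allL N7369 (tt N9615 D10530) (tt N9614 (iv F13670)) (tt N8740 (iv F11757)) (tt N4552 (iv D8267)) (tt N9616 D10531))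
theorem Q7371 : ∀ i, i < 7371 → P i := stepQ 7370 Q7370 (allL N7370 (tt N5620 F9067) (tt N4556 F9068) (tt N4605 F9070) (tt N4605 F9069) (tt N4555 (iv D8268)))
theorem Q7372 : ∀ i, i < 7372 → P i := stepQ 7371 Q7371 (allL N7371 (tt N6248 F9071) (tt N4558 F9072) (tt N4563 F9073) (tt N4563 (iv F9074)) (tt N4557 (iv D8269)))
theorem Q7373 : ∀ i, i < 7373 → P i := stepQ 7372 Q7372 (allL N7372 (tt N9111 (iv F12533)) (tt N5149 F9075) (tt N4559 (iv D8270)) (tt N9574 (iv F13569)) (tt N5268 F9076))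
theorem Q7374 : ∀ i, i < 7374 → P i := stepQ 7373 Q7373 (allL N7373 (tt N9108 (iv F12525)) (tt N4560 (iv D8271)) (tt N9617 D10532) (tt N9066 F12430) (tt N7568 F9423))
theorem Q7375 : ∀ i, i < 7375 → P i := stepQ 7374 Q7374 (allL N7374 (tt N6919 F9078) (tt N9066 (iv F12429)) (tt N6754 F9077) (tt N4560 (iv D8272)) (tt N9064 F12424))
theorem Q7376 : ∀ i, i < 7376 → P i := stepQ 7375 Q7375 (allL N7375 (tt N4563 F9079) (tt N7568 (iv F9421)) (tt N6147 (iv F9422)) (tt N9618 D10533) (tt N4560 (iv D8273)))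
theorem Q7377 : ∀ i, i < 7377 → P i := stepQ 7376 Q7376 (allL N7376 (tt N6425 F9080) (tt N4564 F9081) (tt N4604 F9083) (tt N4604 F9082) (tt N4562 (iv D8274)))
theorem Q7378 : ∀ i, i < 7378 → P i := stepQ 7377 Q7377 (allL N7377 (tt N4571 F9084) (tt N4565 (iv D8275)) (tt N7502 (iv F9322)) (tt N9619 D10534) (tt N4733 (iv F9085)))
theorem Q7379 : ∀ i, i < 7379 → P i := stepQ 7378 Q7378 (allL N7378 (tt N9620 D10535) (tt N9619 (iv F13688)) (tt N5959 F9086) (tt N4565 (iv D8276)) (tt N9621 D10536))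
theorem Q7380 : ∀ i, i < 7380 → P i := stepQ 7379 Q7379 (allL N7379 (tt N4568 F9087) (tt N4733 F9088) (tt N8444 (iv F11153)) (tt N9622 D10537) (tt N4565 (iv D8277)))
theorem Q7381 : ∀ i, i < 7381 → P i := stepQ 7380 Q7380 (allL N7380 (tt N4566 (iv D8278)) (tt N7603 (iv F9506)) (tt N9110 (iv F12532)) (tt N9623 D10538) (tt N7601 F9503))
theorem Q7382 : ∀ i, i < 7382 → P i := stepQ 7381 Q7381 (allL N7381 (tt N9624 D10539) (tt N4993 F9089) (tt N4567 F9090) (tt N4566 (iv D8279)) (tt N4992 (iv F9091)))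
theorem Q7383 : ∀ i, i < 7383 → P i := stepQ 7382 Q7382 (allL N7382 (tt N5045 F9092) (tt N4569 F9093) (tt N7364 F9094) (tt N4597 (iv F9095)) (tt N4567 (iv D8280)))
theorem Q7384 : ∀ i, i < 7384 → P i := stepQ 7383 Q7383 (allL N7383 (tt N7582 (iv F9453)) (tt N6214 F9097) (tt N4568 (iv D8281)) (tt N7339 (iv F9098)) (tt N7336 F9096))
theorem Q7385 : ∀ i, i < 7385 → P i := stepQ 7384 Q7384 (allL N7384 (tt N4761 F9102) (tt N4570 F9099) (tt N7339 F9100) (tt N4568 (iv D8282)) (tt N4596 F9101))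
theorem Q7386 : ∀ i, i < 7386 → P i := stepQ 7385 Q7385 (allL N7385 (tt N6589 (iv F9106)) (tt N4573 F9103) (tt N7168 F9104) (tt N4571 (iv D8283)) (tt N6429 (iv F9105)))
theorem Q7387 : ∀ i, i < 7387 → P i := stepQ 7386 Q7386 (allL N7386 (tt N7430 F9194) (tt N4574 (iv D8284)) (tt N8248 (iv F10750)) (tt N9463 (iv F13337)) (tt N6236 F9107))
theorem Q7388 : ∀ i, i < 7388 → P i := stepQ 7387 Q7387 (allL N7387 (tt N6828 F9109) (tt N9463 (iv F13335)) (tt N6244 F9108) (tt N4574 (iv D8285)) (tt N6235 F9110))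
theorem Q7389 : ∀ i, i < 7389 → P i := stepQ 7388 Q7388 (allL N7388 (tt N4575 (iv D8286)) (tt N9625 D10540) (tt N6280 F9112) (tt N6380 F9113) (tt N6270 F9111))
theorem Q7390 : ∀ i, i < 7390 → P i := stepQ 7389 Q7389 (allL N7389 (tt N6527 F9114) (tt N4576 (iv D8287)) (tt N8209 (iv F10677)) (tt N6430 F9115) (tt N6281 F9116))
theorem Q7391 : ∀ i, i < 7391 → P i := stepQ 7390 Q7390 (allL N7390 (tt N6653 F9119) (tt N5480 (iv F9120)) (tt N4576 (iv D8288)) (tt N5483 F9117) (tt N5479 F9118))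
theorem Q7392 : ∀ i, i < 7392 → P i := stepQ 7391 Q7391 (allL N7391 (tt N9626 D10541) (tt N7715 (iv F9727)) (tt N4577 (iv D8289)) (tt N7031 F9121) (tt N7005 F9122))
theorem Q7393 : ∀ i, i < 7393 → P i := stepQ 7392 Q7392 (allL N7392 (tt N6526 F9123) (tt N4578 F9124) (tt N9587 (iv F13598)) (tt N4582 F9125) (tt N4577 (iv D8290)))
theorem Q7394 : ∀ i, i < 7394 → P i := stepQ 7393 Q7393 (allL N7393 (tt N7001 F9128) (tt N6623 F9126) (tt N6993 F9127) (tt N4579 (iv D8291)) (tt N6984 (iv F9129)))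
theorem Q7395 : ∀ i, i < 7395 → P i := stepQ 7394 Q7394 (allL N7394 (tt N4580 (iv D8292)) (tt N9083 (iv F12466)) (tt N7029 F9130) (tt N9094 (iv F12497)) (tt N9081 F12463))
theorem Q7396 : ∀ i, i < 7396 → P i := stepQ 7395 Q7395 (allL N7395 (tt N9081 (iv F12462)) (tt N6189 F9131) (tt N7006 F9132) (tt N7005 F9133) (tt N4580 (iv D8293)))
theorem Q7397 : ∀ i, i < 7397 → P i := stepQ 7396 Q7396 (allL N7396 (tt N9582 (iv F13585)) (tt N4581 (iv D8294)) (tt N9268 (iv F12910)) (tt N8984 F12242) (tt N6588 F9139))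
theorem Q7398 : ∀ i, i < 7398 → P i := stepQ 7397 Q7397 (allL N7397 (tt N7013 F9134) (tt N8984 (iv F12240)) (tt N6644 F9135) (tt N4581 (iv D8295)) (tt N8983 F12238))
theorem Q7399 : ∀ i, i < 7399 → P i := stepQ 7398 Q7398 (allL N7398 (tt N4582 F9136) (tt N6588 (iv F9137)) (tt N9627 D10542) (tt N6587 F9138) (tt N4581 (iv D8296)))
theorem Q7400 : ∀ i, i < 7400 → P i := stepQ 7399 Q7399 (allL N7399 (tt N4583 (iv D8297)) (tt N6586 F9141) (tt N9628 D10543) (tt N8983 (iv F12237)) (tt N7026 F9140))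
theorem Q7401 : ∀ i, i < 7401 → P i := stepQ 7400 Q7400 (allL N7400 (tt N4584 (iv D8298)) (tt N4841 F9144) (tt N8206 (iv F10663)) (tt N4763 F9143) (tt N4758 F9142))
theorem Q7402 : ∀ i, i < 7402 → P i := stepQ 7401 Q7401 (allL N7401 (tt N4589 F9145) (tt N6871 F9146) (tt N4586 (iv D8299)) (tt N6870 F9147) (tt N6374 F9148))
theorem Q7403 : ∀ i, i < 7403 → P i := stepQ 7402 Q7402 (allL N7402 (tt N9629 D10544) (tt N4589 F9149) (tt N8119 (iv F10509)) (tt N4588 (iv D8300)) (tt N6375 (iv F9150)))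
theorem Q7404 : ∀ i, i < 7404 → P i := stepQ 7403 Q7403 (allL N7403 (tt N7551 F9377) (tt N4590 (iv D8301)) (tt N8263 (iv F10780)) (tt N9477 (iv F13377)) (tt N6415 F9151))
theorem Q7405 : ∀ i, i < 7405 → P i := stepQ 7404 Q7404 (allL N7404 (tt N6870 F9152) (tt N9477 (iv F13375)) (tt N6252 F9153) (tt N4590 (iv D8302)) (tt N6237 F9154))
theorem Q7406 : ∀ i, i < 7406 → P i := stepQ 7405 Q7405 (allL N7405 (tt N4591 (iv D8303)) (tt N4594 F9155) (tt N7533 (iv F9358)) (tt N9630 D10545) (tt N6427 F9156))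
theorem Q7407 : ∀ i, i < 7407 → P i := stepQ 7406 Q7406 (allL N7406 (tt N8984 (iv F12239)) (tt N4593 F9157) (tt N7183 F9158) (tt N4591 (iv D8304)) (tt N6282 F9159))
theorem Q7408 : ∀ i, i < 7408 → P i := stepQ 7407 Q7407 (allL N7407 (tt N9631 D10546) (tt N4592 (iv D8305)) (tt N5308 F9160) (tt N8676 (iv F11630)) (tt N6414 F9161))
theorem Q7409 : ∀ i, i < 7409 → P i := stepQ 7408 Q7408 (allL N7408 (tt N9632 D10547) (tt N9630 (iv F13719)) (tt N5967 F9162) (tt N4594 (iv D8306)) (tt N9622 (iv F13695)))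
theorem Q7410 : ∀ i, i < 7410 → P i := stepQ 7409 Q7409 (allL N7409 (tt N4597 F9163) (tt N6427 F9164) (tt N8553 (iv F11379)) (tt N9621 (iv F13693)) (tt N4594 (iv D8307)))
theorem Q7411 : ∀ i, i < 7411 → P i := stepQ 7410 Q7410 (allL N7410 (tt N4595 (iv D8308)) (tt N7782 (iv F9878)) (tt N9115 (iv F12544)) (tt N9633 D10548) (tt N7761 (iv F9829)))
theorem Q7412 : ∀ i, i < 7412 → P i := stepQ 7411 Q7411 (allL N7411 (tt N9634 D10549) (tt N4907 F9165) (tt N4596 F9166) (tt N4595 (iv D8309)) (tt N4854 F9167))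
theorem Q7413 : ∀ i, i < 7413 → P i := stepQ 7412 Q7412 (allL N7412 (tt N9635 D10550) (tt N6449 F9168) (tt N4597 (iv D8310)) (tt N7364 F9169) (tt N7338 F9170))
theorem Q7414 : ∀ i, i < 7414 → P i := stepQ 7413 Q7413 (allL N7413 (tt N4598 (iv D8311)) (tt N5157 F9171) (tt N8570 (iv F11409)) (tt N9590 (iv F13608)) (tt N9613 (iv F13669)))
theorem Q7415 : ∀ i, i < 7415 → P i := stepQ 7414 Q7414 (allL N7414 (tt N4599 (iv D8312)) (tt N4853 F9172) (tt N6655 F9173) (tt N4846 F9174) (tt N5035 F9175))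
theorem Q7416 : ∀ i, i < 7416 → P i := stepQ 7415 Q7415 (allL N7415 (tt N9118 (iv F12549)) (tt N4602 (iv D8313)) (tt N9636 D10551) (tt N9637 D10552) (tt N9065 (iv F12428)))
theorem Q7417 : ∀ i, i < 7417 → P i := stepQ 7416 Q7416 (allL N7416 (tt N8288 (iv F10836)) (tt N5305 F9408) (tt N4602 (iv D8314)) (tt N6777 (iv F9409)) (tt N5304 (iv F9410)))
theorem Q7418 : ∀ i, i < 7418 → P i := stepQ 7417 Q7417 (allL N7417 (tt N7250 F9176) (tt N9637 (iv F13738)) (tt N6777 F9411) (tt N4602 (iv D8315)) (tt N9618 (iv F13687)))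
theorem Q7419 : ∀ i, i < 7419 → P i := stepQ 7418 Q7418 (allL N7418 (tt N4604 F9177) (tt N9065 (iv F12425)) (tt N6469 F11414) (tt N9064 F12423) (tt N4602 (iv D8316)))
theorem Q7420 : ∀ i, i < 7420 → P i := stepQ 7419 Q7419 (allL N7419 (tt N4605 (iv D8317)) (tt N9638 D10553) (tt N6479 F9420) (tt N9616 (iv F13677)) (tt N8969 (iv F12206)))
theorem Q7421 : ∀ i, i < 7421 → P i := stepQ 7420 Q7420 (allL N7420 (tt N4616 F9178) (tt N9596 (iv F13622)) (tt N4606 (iv D8318)) (tt N7595 (iv F9485)) (tt N9594 F13620))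
theorem Q7422 : ∀ i, i < 7422 → P i := stepQ 7421 Q7421 (allL N7421 (tt N7343 F9179) (tt N4607 (iv D8319)) (tt N6179 F9180) (tt N9043 (iv F12372)) (tt N7340 (iv F9181)))
theorem Q7423 : ∀ i, i < 7423 → P i := stepQ 7422 Q7422 (allL N7422 (tt N4628 F9182) (tt N7340 F9183) (tt N4613 F9184) (tt N9012 (iv F12308)) (tt N4607 (iv D8320)))
theorem Q7424 : ∀ i, i < 7424 → P i := stepQ 7423 Q7423 (allL N7423 (tt N4714 F9186) (tt N9639 D10554) (tt N4608 (iv D8321)) (tt N6007 F9187) (tt N9640 D10555))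
theorem Q7425 : ∀ i, i < 7425 → P i := stepQ 7424 Q7424 (allL N7424 (tt N9641 D10556) (tt N4609 (iv D8322)) (tt N9359 (iv F13102)) (tt N4710 F9188) (tt N9642 D10557))
theorem Q7426 : ∀ i, i < 7426 → P i := stepQ 7425 Q7425 (allL N7425 (tt N9015 (iv F12315)) (tt N9642 (iv F13755)) (tt N9012 (iv F12307)) (tt N4613 F12309) (tt N4609 (iv D8323)))
theorem Q7427 : ∀ i, i < 7427 → P i := stepQ 7426 Q7426 (allL N7426 (tt N4672 F9189) (tt N4610 (iv D8324)) (tt N9643 D10558) (tt N9644 D10559) (tt N9645 D10560))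
theorem Q7428 : ∀ i, i < 7428 → P i := stepQ 7427 Q7427 (allL N7427 (tt N4645 F9190) (tt N9644 (iv F13761)) (tt N7885 (iv F10050)) (tt N4610 (iv D8325)) (tt N9646 D10561))
theorem Q7429 : ∀ i, i < 7429 → P i := stepQ 7428 Q7428 (allL N7428 (tt N4613 F9191) (tt N9645 (iv F13763)) (tt N9594 (iv F13619)) (tt N9647 D10562) (tt N4610 (iv D8326)))
theorem Q7430 : ∀ i, i < 7430 → P i := stepQ 7429 Q7429 (allL N7429 (tt N4611 (iv D8327)) (tt N9617 (iv F13681)) (tt N7893 (iv F10071)) (tt N7158 F9192) (tt N9648 D10563))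
theorem Q7431 : ∀ i, i < 7431 → P i := stepQ 7430 Q7430 (allL N7430 (tt N7386 (iv F9194)) (tt N6173 F9193) (tt N4611 (iv D8328)) (tt N9394 (iv F13202)) (tt N8827 (iv F11895)))
theorem Q7432 : ∀ i, i < 7432 → P i := stepQ 7431 Q7431 (allL N7431 (tt N9649 D10564) (tt N4612 F9195) (tt N9394 (iv F13201)) (tt N4611 (iv D8329)) (tt N9650 D10565))
theorem Q7433 : ∀ i, i < 7433 → P i := stepQ 7432 Q7432 (allL N7432 (tt N9648 (iv F13770)) (tt N4613 F9196) (tt N5513 F9197) (tt N9642 F13757) (tt N4611 (iv D8330)))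
theorem Q7434 : ∀ i, i < 7434 → P i := stepQ 7433 Q7433 (allL N7433 (tt N4612 (iv D8331)) (tt N6865 (iv F10054)) (tt N7886 (iv F10052)) (tt N9013 (iv F12312)) (tt N9049 (iv F12384)))
theorem Q7435 : ∀ i, i < 7435 → P i := stepQ 7434 Q7434 (allL N7434 (tt N9049 (iv F12385)) (tt N9650 (iv F13779)) (tt N9044 (iv F12373)) (tt N4711 F12310) (tt N4612 (iv D8332)))
theorem Q7436 : ∀ i, i < 7436 → P i := stepQ 7435 Q7435 (allL N7435 (tt N4637 F9199) (tt N9651 D10566) (tt N4614 (iv D8334)) (tt N5990 F9198) (tt N9652 D10567))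
theorem Q7437 : ∀ i, i < 7437 → P i := stepQ 7436 Q7436 (allL N7436 (tt N4615 F9200) (tt N5998 F9201) (tt N9460 (iv F13326)) (tt N6008 F9202) (tt N4614 (iv D8335)))
theorem Q7438 : ∀ i, i < 7438 → P i := stepQ 7437 Q7437 (allL N7437 (tt N9594 (iv F13618)) (tt N6362 F9203) (tt N4638 F9204) (tt N9020 F12330) (tt N4616 (iv D8336)))
theorem Q7439 : ∀ i, i < 7439 → P i := stepQ 7438 Q7438 (allL N7438 (tt N6064 F9206) (tt N4889 (iv F9207)) (tt N4618 (iv D8337)) (tt N5473 F9205) (tt N4887 F9209))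
theorem Q7440 : ∀ i, i < 7440 → P i := stepQ 7439 Q7439 (allL N7439 (tt N7131 F9210) (tt N4626 F9211) (tt N8577 (iv F11424)) (tt N4619 (iv D8338)) (tt N4721 (iv F9212)))
theorem Q7441 : ∀ i, i < 7441 → P i := stepQ 7440 Q7440 (allL N7440 (tt N7586 (iv F9460)) (tt N4671 F9213) (tt N4887 F9214) (tt N8991 (iv F12266)) (tt N4620 (iv D8339)))
theorem Q7442 : ∀ i, i < 7442 → P i := stepQ 7441 Q7441 (allL N7441 (tt N5463 F9215) (tt N4630 F9216) (tt N8990 (iv F12262)) (tt N4721 F9217) (tt N4621 (iv D8340)))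
theorem Q7443 : ∀ i, i < 7443 → P i := stepQ 7442 Q7442 (allL N7442 (tt N7592 (iv F9477)) (tt N5657 F9218) (tt N4633 F9219) (tt N5668 F9220) (tt N4622 (iv D8341)))
theorem Q7444 : ∀ i, i < 7444 → P i := stepQ 7443 Q7443 (allL N7443 (tt N5989 F9221) (tt N7443 F9222) (tt N8815 (iv F11868)) (tt N4629 F9223) (tt N4623 (iv D8342)))
theorem Q7445 : ∀ i, i < 7445 → P i := stepQ 7444 Q7444 (allL N7444 (tt N7593 (iv F9480)) (tt N8810 (iv F11857)) (tt N4624 (iv D8343)) (tt N8809 (iv F11856)) (tt N9653 D10568))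
theorem Q7446 : ∀ i, i < 7446 → P i := stepQ 7445 Q7445 (allL N7445 (tt N9453 (iv F13308)) (tt N7445 F9224) (tt N8809 F11855) (tt N4624 (iv D8344)) (tt N9654 D10569))
theorem Q7447 : ∀ i, i < 7447 → P i := stepQ 7446 Q7446 (allL N7446 (tt N4625 (iv D8345)) (tt N9655 D10570) (tt N4631 F9225) (tt N9026 (iv F12342)) (tt N9656 D10571))
theorem Q7448 : ∀ i, i < 7448 → P i := stepQ 7447 Q7447 (allL N7447 (tt N9656 (iv F13793)) (tt N7347 F9226) (tt N4635 F9227) (tt N4628 (iv F9228)) (tt N4625 (iv D8346)))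
theorem Q7449 : ∀ i, i < 7449 → P i := stepQ 7448 Q7448 (allL N7448 (tt N4627 (iv D8347)) (tt N9657 D10572) (tt N5312 F9231) (tt N9017 (iv F12322)) (tt N9658 D10573))
theorem Q7450 : ∀ i, i < 7450 → P i := stepQ 7449 Q7449 (allL N7449 (tt N9658 (iv F13799)) (tt N7355 F9232) (tt N4644 F9233) (tt N4719 F9234) (tt N4627 (iv D8348)))
theorem Q7451 : ∀ i, i < 7451 → P i := stepQ 7450 Q7450 (allL N7450 (tt N7595 (iv F9484)) (tt N8817 (iv F11872)) (tt N4629 (iv D8349)) (tt N8815 F11869) (tt N9659 D10574))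
theorem Q7452 : ∀ i, i < 7452 → P i := stepQ 7451 Q7451 (allL N7451 (tt N4630 F9235) (tt N7451 F9236) (tt N9660 D10575) (tt N9654 (iv F13789)) (tt N4629 (iv D8350)))
theorem Q7453 : ∀ i, i < 7453 → P i := stepQ 7452 Q7452 (allL N7452 (tt N4632 (iv D8351)) (tt N9661 D10576) (tt N7592 (iv F9478)) (tt N4709 F9237) (tt N9647 (iv F13768)))
theorem Q7454 : ∀ i, i < 7454 → P i := stepQ 7453 Q7453 (allL N7453 (tt N7111 F9238) (tt N4632 (iv D8352)) (tt N9629 (iv F13717)) (tt N9530 (iv F13482)) (tt N8114 (iv F12090)))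
theorem Q7455 : ∀ i, i < 7455 → P i := stepQ 7454 Q7454 (allL N7454 (tt N9647 (iv F13769)) (tt N8114 F12091) (tt N9656 (iv F13795)) (tt N9527 (iv F13767)) (tt N4632 (iv D8353)))
theorem Q7456 : ∀ i, i < 7456 → P i := stepQ 7455 Q7455 (allL N7455 (tt N4888 F9239) (tt N4633 (iv D8354)) (tt N9662 D10577) (tt N9663 D10578) (tt N9664 D10579))
theorem Q7457 : ∀ i, i < 7457 → P i := stepQ 7456 Q7456 (allL N7456 (tt N6007 F9240) (tt N9663 (iv F13813)) (tt N5668 F9241) (tt N4633 (iv D8355)) (tt N9665 D10580))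
theorem Q7458 : ∀ i, i < 7458 → P i := stepQ 7457 Q7457 (allL N7457 (tt N4635 F9242) (tt N9664 (iv F13816)) (tt N9653 (iv F13786)) (tt N9666 D10581) (tt N4633 (iv D8356)))
theorem Q7459 : ∀ i, i < 7459 → P i := stepQ 7458 Q7458 (allL N7458 (tt N7180 F9245) (tt N4662 F9243) (tt N4634 (iv D8357)) (tt N4717 F9244) (tt N8052 (iv F10369)))
theorem Q7460 : ∀ i, i < 7460 → P i := stepQ 7459 Q7459 (allL N7459 (tt N5467 F9246) (tt N4635 F9247) (tt N8091 (iv F10468)) (tt N4642 F9248) (tt N4634 (iv D8358)))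
theorem Q7461 : ∀ i, i < 7461 → P i := stepQ 7460 Q7460 (allL N7460 (tt N8227 (iv F10709)) (tt N4638 F9249) (tt N5682 F9250) (tt N7753 (iv F9811)) (tt N4636 (iv D8359)))
theorem Q7462 : ∀ i, i < 7462 → P i := stepQ 7461 Q7461 (allL N7461 (tt N9652 (iv F13784)) (tt N7749 (iv F9798)) (tt N9045 (iv F12377)) (tt N4715 F9251) (tt N4637 (iv D8360)))
theorem Q7463 : ∀ i, i < 7463 → P i := stepQ 7462 Q7462 (allL N7462 (tt N9640 (iv F13748)) (tt N7753 (iv F9810)) (tt N9020 (iv F12329)) (tt N4638 (iv D8361)) (tt N4714 F9252))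
theorem Q7464 : ∀ i, i < 7464 → P i := stepQ 7463 Q7463 (allL N7463 (tt N4640 (iv D8362)) (tt N5568 F9253) (tt N7509 (iv F9328)) (tt N7170 F9255) (tt N5547 F9254))
theorem Q7465 : ∀ i, i < 7465 → P i := stepQ 7464 Q7464 (allL N7464 (tt N8055 (iv F10379)) (tt N4668 F9256) (tt N4641 F9257) (tt N4640 (iv D8363)) (tt N8054 F10378))
theorem Q7466 : ∀ i, i < 7466 → P i := stepQ 7465 Q7465 (allL N7465 (tt N5472 F9258) (tt N4644 F9259) (tt N8095 (iv F10479)) (tt N4718 F9260) (tt N4641 (iv D8364)))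
theorem Q7467 : ∀ i, i < 7467 → P i := stepQ 7466 Q7466 (allL N7466 (tt N5555 F9262) (tt N4659 F9263) (tt N4642 (iv D8365)) (tt N8091 (iv F10469)) (tt N4657 F9261))
theorem Q7468 : ∀ i, i < 7468 → P i := stepQ 7467 Q7467 (allL N7467 (tt N4885 F9268) (tt N4643 (iv D8366)) (tt N9667 D10582) (tt N9668 D10583) (tt N9669 D10584))
theorem Q7469 : ∀ i, i < 7469 → P i := stepQ 7468 Q7468 (allL N7468 (tt N7885 (iv F10051)) (tt N5659 (iv F9267)) (tt N4643 (iv D8367)) (tt N5655 F9266) (tt N9660 (iv F13805)))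
theorem Q7470 : ∀ i, i < 7470 → P i := stepQ 7469 Q7469 (allL N7469 (tt N5990 F9264) (tt N9668 (iv F13825)) (tt N5655 (iv F9265)) (tt N4643 (iv D8368)) (tt N9666 (iv F13820)))
theorem Q7471 : ∀ i, i < 7471 → P i := stepQ 7470 Q7470 (allL N7470 (tt N4644 F9269) (tt N9669 (iv F13828)) (tt N9659 (iv F13803)) (tt N9665 (iv F13818)) (tt N4643 (iv D8369)))
theorem Q7472 : ∀ i, i < 7472 → P i := stepQ 7471 Q7471 (allL N7471 (tt N8130 F12110) (tt N4645 (iv D8370)) (tt N9670 D10585) (tt N9526 (iv F13476)) (tt N8127 (iv F12099)))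
theorem Q7473 : ∀ i, i < 7473 → P i := stepQ 7472 Q7472 (allL N7472 (tt N9646 (iv F13764)) (tt N8127 F12100) (tt N9658 (iv F13801)) (tt N9531 (iv F13766)) (tt N4645 (iv D8371)))
theorem Q7474 : ∀ i, i < 7474 → P i := stepQ 7473 Q7473 (allL N7473 (tt N7596 (iv F9486)) (tt N5313 F9271) (tt N4646 (iv D8372)) (tt N9027 (iv F12345)) (tt N5312 F9270))
theorem Q7475 : ∀ i, i < 7475 → P i := stepQ 7474 Q7474 (allL N7474 (tt N5715 F9272) (tt N6031 F9273) (tt N9671 D10586) (tt N9672 D10587) (tt N4647 (iv D8373)))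
theorem Q7476 : ∀ i, i < 7476 → P i := stepQ 7475 Q7475 (allL N7475 (tt N4654 F9274) (tt N9673 D10588) (tt N4648 (iv D8374)) (tt N9674 D10589) (tt N9675 D10590))
theorem Q7477 : ∀ i, i < 7477 → P i := stepQ 7476 Q7476 (allL N7476 (tt N6694 F9275) (tt N6033 F9276) (tt N9674 (iv F13837)) (tt N4648 (iv D8375)) (tt N9676 D10591))
theorem Q7478 : ∀ i, i < 7478 → P i := stepQ 7477 Q7477 (allL N7477 (tt N5716 F9277) (tt N6115 F9279) (tt N4649 (iv D8376)) (tt N5019 F9278) (tt N9677 D10592))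
theorem Q7479 : ∀ i, i < 7479 → P i := stepQ 7478 Q7478 (allL N7478 (tt N5722 F9280) (tt N6134 F9281) (tt N4651 F9282) (tt N4650 (iv D8377)) (tt N9678 D10593))
theorem Q7480 : ∀ i, i < 7480 → P i := stepQ 7479 Q7479 (allL N7479 (tt N5703 F9283) (tt N6135 F9284) (tt N9675 (iv F13839)) (tt N9677 (iv F13846)) (tt N4650 (iv D8378)))
theorem Q7481 : ∀ i, i < 7481 → P i := stepQ 7480 Q7480 (allL N7480 (tt N8626 (iv F11529)) (tt N8579 (iv F11430)) (tt N9676 (iv F13843)) (tt N4727 F9285) (tt N4651 (iv D8379)))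
theorem Q7482 : ∀ i, i < 7482 → P i := stepQ 7481 Q7481 (allL N7481 (tt N4653 F9286) (tt N9300 (iv F12980)) (tt N9679 D10594) (tt N9680 D10595) (tt N4652 (iv D8380)))
theorem Q7483 : ∀ i, i < 7483 → P i := stepQ 7482 Q7482 (allL N7482 (tt N5373 F9287) (tt N8498 (iv F11256)) (tt N4653 (iv D8381)) (tt N8542 (iv F11354)) (tt N9681 D10596))
theorem Q7484 : ∀ i, i < 7484 → P i := stepQ 7483 Q7483 (allL N7483 (tt N5709 F9288) (tt N8985 (iv F12244)) (tt N8542 (iv F11356)) (tt N4653 (iv D8382)) (tt N4728 (iv F9289)))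
theorem Q7485 : ∀ i, i < 7485 → P i := stepQ 7484 Q7484 (allL N7484 (tt N5399 F9291) (tt N8499 (iv F11258)) (tt N4655 F9290) (tt N4654 (iv D8383)) (tt N9682 D10597))
theorem Q7486 : ∀ i, i < 7486 → P i := stepQ 7485 Q7485 (allL N7485 (tt N9675 (iv F13838)) (tt N7346 F9292) (tt N4659 F9293) (tt N9681 F13855) (tt N4654 (iv D8384)))
theorem Q7487 : ∀ i, i < 7487 → P i := stepQ 7486 Q7486 (allL N7486 (tt N4655 (iv D8385)) (tt N9302 (iv F12982)) (tt N9683 D10598) (tt N9028 (iv F12349)) (tt N9684 D10599))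
theorem Q7488 : ∀ i, i < 7488 → P i := stepQ 7487 Q7487 (allL N7487 (tt N9684 (iv F13861)) (tt N8990 (iv F12260)) (tt N4660 F9295) (tt N4728 F9294) (tt N4655 (iv D8386)))
theorem Q7489 : ∀ i, i < 7489 → P i := stepQ 7488 Q7488 (allL N7488 (tt N4656 (iv D8387)) (tt N9337 (iv F13058)) (tt N5700 F9296) (tt N9097 (iv F12501)) (tt N9685 D10600))
theorem Q7490 : ∀ i, i < 7490 → P i := stepQ 7489 Q7489 (allL N7489 (tt N9685 (iv F13863)) (tt N8091 F10470) (tt N9681 (iv F13854)) (tt N4659 F9297) (tt N4656 (iv D8388)))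
theorem Q7491 : ∀ i, i < 7491 → P i := stepQ 7490 Q7490 (allL N7490 (tt N7607 (iv F9519)) (tt N4658 F9298) (tt N4876 F9299) (tt N4657 (iv D8389)) (tt N8095 (iv F10478)))
theorem Q7492 : ∀ i, i < 7492 → P i := stepQ 7491 Q7491 (allL N7491 (tt N4658 (iv D8390)) (tt N9342 (iv F13071)) (tt N5704 F9300) (tt N9029 (iv F12352)) (tt N9686 D10601))
theorem Q7493 : ∀ i, i < 7493 → P i := stepQ 7492 Q7492 (allL N7492 (tt N9686 (iv F13864)) (tt N8095 F10480) (tt N9682 (iv F13858)) (tt N5020 F9301) (tt N4658 (iv D8391)))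
theorem Q7494 : ∀ i, i < 7494 → P i := stepQ 7493 Q7493 (allL N7493 (tt N4662 (iv D8392)) (tt N9687 D10602) (tt N9688 D10603) (tt N9689 D10604) (tt N8417 F11105))
theorem Q7495 : ∀ i, i < 7495 → P i := stepQ 7494 Q7494 (allL N7494 (tt N9690 D10605) (tt N8991 (iv F12264)) (tt N4663 (iv D8393)) (tt N4671 F9302) (tt N8578 (iv F11428)))
theorem Q7496 : ∀ i, i < 7496 → P i := stepQ 7495 Q7495 (allL N7495 (tt N5997 F9303) (tt N4666 F9304) (tt N5964 F9305) (tt N4664 (iv D8394)) (tt N5929 (iv F9306)))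
theorem Q7497 : ∀ i, i < 7497 → P i := stepQ 7496 Q7496 (allL N7496 (tt N6700 (iv F9308)) (tt N8669 (iv F11612)) (tt N4666 F9307) (tt N4665 (iv D8395)) (tt N8405 (iv F11085)))
theorem Q7498 : ∀ i, i < 7498 → P i := stepQ 7497 Q7497 (allL N7497 (tt N6817 F9309) (tt N5929 F9310) (tt N9691 D10606) (tt N4725 F9311) (tt N4666 (iv D8396)))
theorem Q7499 : ∀ i, i < 7499 → P i := stepQ 7498 Q7498 (allL N7498 (tt N8424 F11122) (tt N8754 (iv F11777)) (tt N4667 (iv D8397)) (tt N9692 D10607) (tt N8421 (iv F11123)))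
theorem Q7500 : ∀ i, i < 7500 → P i := stepQ 7499 Q7499 (allL N7499 (tt N6887 F9316) (tt N5931 F9317) (tt N9692 (iv F13874)) (tt N4667 (iv D8398)) (tt N4724 F9318))
theorem Q7501 : ∀ i, i < 7501 → P i := stepQ 7500 Q7500 (allL N7500 (tt N4668 (iv D8399)) (tt N9693 D10608) (tt N9694 D10609) (tt N9695 D10610) (tt N8572 F11412))
theorem Q7502 : ∀ i, i < 7502 → P i := stepQ 7501 Q7501 (allL N7501 (tt N9696 D10611) (tt N8993 (iv F12270)) (tt N4670 (iv D8400)) (tt N4726 F9321) (tt N8434 (iv F11139)))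
theorem Q7503 : ∀ i, i < 7503 → P i := stepQ 7502 Q7502 (allL N7502 (tt N9617 (iv F13680)) (tt N4672 (iv D8401)) (tt N7377 F9322) (tt N9697 D10612) (tt N5488 (iv F9323)))
theorem Q7504 : ∀ i, i < 7504 → P i := stepQ 7503 Q7503 (allL N7503 (tt N7100 (iv F9325)) (tt N9697 (iv F13882)) (tt N4673 F9324) (tt N4672 (iv D8402)) (tt N9698 D10613))
theorem Q7505 : ∀ i, i < 7505 → P i := stepQ 7504 Q7504 (allL N7504 (tt N9645 (iv F13762)) (tt N5488 F9326) (tt N9699 D10614) (tt N9700 D10615) (tt N4672 (iv D8403)))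
theorem Q7506 : ∀ i, i < 7506 → P i := stepQ 7505 Q7505 (allL N7505 (tt N7747 (iv F9794)) (tt N4674 (iv D8404)) (tt N7603 (iv F9507)) (tt N7731 F9795) (tt N9701 D10616))
theorem Q7507 : ∀ i, i < 7507 → P i := stepQ 7506 Q7506 (allL N7506 (tt N9643 (iv F13758)) (tt N9111 (iv F12534)) (tt N4674 (iv D8405)) (tt N9702 D10617) (tt N9703 D10618))
theorem Q7508 : ∀ i, i < 7508 → P i := stepQ 7507 Q7507 (allL N7507 (tt N8586 (iv F11457)) (tt N7731 (iv F9796)) (tt N9702 (iv F13895)) (tt N4674 (iv D8406)) (tt N9704 D10619))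
theorem Q7509 : ∀ i, i < 7509 → P i := stepQ 7508 Q7508 (allL N7508 (tt N4677 F9327) (tt N9701 (iv F13893)) (tt N7958 (iv F10191)) (tt N9705 D10620) (tt N4674 (iv D8407)))
theorem Q7510 : ∀ i, i < 7510 → P i := stepQ 7509 Q7509 (allL N7509 (tt N4675 (iv D8408)) (tt N8248 (iv F10749)) (tt N7463 F9328) (tt N6765 F9329) (tt N8246 F10746))
theorem Q7511 : ∀ i, i < 7511 → P i := stepQ 7510 Q7510 (allL N7510 (tt N9706 D10621) (tt N4676 F9330) (tt N4829 F9331) (tt N4675 (iv D8409)) (tt N8942 (iv F12138)))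
theorem Q7512 : ∀ i, i < 7512 → P i := stepQ 7511 Q7511 (allL N7511 (tt N8246 (iv F10744)) (tt N4677 F9332) (tt N4784 F9333) (tt N8941 (iv F12130)) (tt N4675 (iv D8410)))
theorem Q7513 : ∀ i, i < 7513 → P i := stepQ 7512 Q7512 (allL N7512 (tt N4676 (iv D8411)) (tt N9707 D10622) (tt N9708 D10623) (tt N9709 D10624) (tt N9710 D10625))
theorem Q7514 : ∀ i, i < 7514 → P i := stepQ 7513 Q7513 (allL N7513 (tt N9710 (iv F13911)) (tt N8942 F12139) (tt N9711 D10626) (tt N4707 F12135) (tt N4676 (iv D8412)))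
theorem Q7515 : ∀ i, i < 7515 → P i := stepQ 7514 Q7514 (allL N7514 (tt N9699 (iv F13889)) (tt N7348 F9334) (tt N4677 (iv D8413)) (tt N9712 D10627) (tt N8477 (iv F11205)))
theorem Q7516 : ∀ i, i < 7516 → P i := stepQ 7515 Q7515 (allL N7515 (tt N9713 D10628) (tt N8941 F12133) (tt N9712 (iv F13915)) (tt N4677 (iv D8414)) (tt N4706 F12134))
theorem Q7517 : ∀ i, i < 7517 → P i := stepQ 7516 Q7516 (allL N7516 (tt N9644 (iv F13760)) (tt N8211 (iv F10681)) (tt N4678 (iv D8415)) (tt N4708 F9335) (tt N8210 F10680))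
theorem Q7518 : ∀ i, i < 7518 → P i := stepQ 7517 Q7517 (allL N7517 (tt N4679 (iv D8416)) (tt N7116 F9336) (tt N9703 (iv F13899)) (tt N7115 (iv F9337)) (tt N9714 D10629))
theorem Q7519 : ∀ i, i < 7519 → P i := stepQ 7518 Q7518 (allL N7518 (tt N9715 D10630) (tt N4679 (iv D8417)) (tt N4763 F9338) (tt N8206 F10665) (tt N4757 (iv F9339)))
theorem Q7520 : ∀ i, i < 7520 → P i := stepQ 7519 Q7519 (allL N7519 (tt N9661 (iv F13807)) (tt N8206 F10664) (tt N4680 F9340) (tt N4679 (iv D8418)) (tt N8204 (iv F10666)))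
theorem Q7521 : ∀ i, i < 7521 → P i := stepQ 7520 Q7520 (allL N7520 (tt N9714 (iv F13917)) (tt N4757 F9341) (tt N8477 (iv F11204)) (tt N8210 (iv F10679)) (tt N4679 (iv D8419)))
theorem Q7522 : ∀ i, i < 7522 → P i := stepQ 7521 Q7521 (allL N7521 (tt N8352 (iv F10977)) (tt N8412 (iv F11092)) (tt N4683 F9342) (tt N4682 (iv D8420)) (tt N8352 (iv F10980)))
theorem Q7523 : ∀ i, i < 7523 → P i := stepQ 7522 Q7522 (allL N7522 (tt N8620 (iv F11517)) (tt N8802 (iv F11847)) (tt N8388 (iv F11056)) (tt N4694 F9343) (tt N4683 (iv D8421)))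
theorem Q7524 : ∀ i, i < 7524 → P i := stepQ 7523 Q7523 (allL N7523 (tt N8621 (iv F11521)) (tt N8800 (iv F11843)) (tt N8391 (iv F11065)) (tt N4684 (iv D8422)) (tt N4693 F9344))
theorem Q7525 : ∀ i, i < 7525 → P i := stepQ 7524 Q7524 (allL N7524 (tt N7899 (iv F10084)) (tt N8008 (iv F10278)) (tt N4685 (iv D8423)) (tt N7900 (iv F10088)) (tt N7899 F10085))
theorem Q7526 : ∀ i, i < 7526 → P i := stepQ 7525 Q7525 (allL N7525 (tt N4686 F9345) (tt N8857 (iv F11973)) (tt N7961 (iv F10196)) (tt N4690 F9346) (tt N4685 (iv D8424)))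
theorem Q7527 : ∀ i, i < 7527 → P i := stepQ 7526 Q7526 (allL N7526 (tt N5522 F9350) (tt N5809 F9347) (tt N4686 (iv D8425)) (tt N4695 F9348) (tt N5522 F9349))
theorem Q7528 : ∀ i, i < 7528 → P i := stepQ 7527 Q7527 (allL N7527 (tt N8353 (iv F10981)) (tt N8431 (iv F11133)) (tt N4693 F9351) (tt N4692 (iv D8426)) (tt N8353 (iv F10984)))
theorem Q7529 : ∀ i, i < 7529 → P i := stepQ 7528 Q7528 (allL N7528 (tt N7900 (iv F10086)) (tt N8576 (iv F11420)) (tt N4700 F9352) (tt N8352 (iv F10979)) (tt N4692 (iv D8427)))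
theorem Q7530 : ∀ i, i < 7530 → P i := stepQ 7529 Q7529 (allL N7529 (tt N7901 (iv F10090)) (tt N8389 (iv F11057)) (tt N4694 (iv D8428)) (tt N8388 F11055) (tt N5526 F9353))
theorem Q7531 : ∀ i, i < 7531 → P i := stepQ 7530 Q7530 (allL N7530 (tt N4695 (iv D8429)) (tt N8561 (iv F11387)) (tt N4698 F9355) (tt N8689 (iv F11651)) (tt N5525 F9354))
theorem Q7532 : ∀ i, i < 7532 → P i := stepQ 7531 Q7531 (allL N7531 (tt N4696 (iv D8430)) (tt N7902 (iv F10093)) (tt N5305 F9356) (tt N8656 (iv F11586)) (tt N8651 F11579))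
theorem Q7533 : ∀ i, i < 7533 → P i := stepQ 7532 Q7532 (allL N7532 (tt N4701 (iv D8431)) (tt N4709 F9357) (tt N9716 D10631) (tt N9661 (iv F13808)) (tt N9717 D10632))
theorem Q7534 : ∀ i, i < 7534 → P i := stepQ 7533 Q7533 (allL N7533 (tt N9636 (iv F13734)) (tt N4701 (iv D8432)) (tt N7405 F9358) (tt N9718 D10633) (tt N5532 (iv F9359)))
theorem Q7535 : ∀ i, i < 7535 → P i := stepQ 7534 Q7534 (allL N7534 (tt N7115 F9361) (tt N9718 (iv F13929)) (tt N4702 F9360) (tt N4701 (iv D8433)) (tt N9700 (iv F13891)))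
theorem Q7536 : ∀ i, i < 7536 → P i := stepQ 7535 Q7535 (allL N7535 (tt N9717 (iv F13926)) (tt N5532 F9362) (tt N9719 D10634) (tt N9698 F13887) (tt N4701 (iv D8434)))
theorem Q7537 : ∀ i, i < 7537 → P i := stepQ 7536 Q7536 (allL N7536 (tt N9709 (iv F13909)) (tt N8312 (iv F10890)) (tt N4703 (iv D8435)) (tt N8586 (iv F11456)) (tt N9720 D10635))
theorem Q7538 : ∀ i, i < 7538 → P i := stepQ 7537 Q7537 (allL N7537 (tt N7744 (iv F9789)) (tt N4704 (iv D8436)) (tt N7782 (iv F9879)) (tt N7735 (iv F9790)) (tt N9721 D10636))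
theorem Q7539 : ∀ i, i < 7539 → P i := stepQ 7538 Q7538 (allL N7538 (tt N9716 (iv F13924)) (tt N9116 (iv F12546)) (tt N4704 (iv D8437)) (tt N9722 D10637) (tt N9723 D10638))
theorem Q7540 : ∀ i, i < 7540 → P i := stepQ 7539 Q7539 (allL N7539 (tt N8588 (iv F11460)) (tt N7735 F9791) (tt N9722 (iv F13937)) (tt N4704 (iv D8438)) (tt N9705 (iv F13902)))
theorem Q7541 : ∀ i, i < 7541 → P i := stepQ 7540 Q7540 (allL N7540 (tt N4707 F9363) (tt N9721 (iv F13935)) (tt N7963 (iv F10199)) (tt N9704 (iv F13901)) (tt N4704 (iv D8439)))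
theorem Q7542 : ∀ i, i < 7542 → P i := stepQ 7541 Q7541 (allL N7541 (tt N4705 (iv D8440)) (tt N8263 (iv F10779)) (tt N7557 (iv F9389)) (tt N6768 F9364) (tt N8261 F10776))
theorem Q7543 : ∀ i, i < 7543 → P i := stepQ 7542 Q7542 (allL N7542 (tt N6767 F9365) (tt N4706 F9366) (tt N4823 F9367) (tt N4705 (iv D8441)) (tt N8941 (iv F12131)))
theorem Q7544 : ∀ i, i < 7544 → P i := stepQ 7543 Q7543 (allL N7543 (tt N8261 (iv F10774)) (tt N4707 F9368) (tt N5030 F9369) (tt N8942 (iv F12137)) (tt N4705 (iv D8442)))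
theorem Q7545 : ∀ i, i < 7545 → P i := stepQ 7544 Q7544 (allL N7544 (tt N4706 (iv D8443)) (tt N9724 D10639) (tt N9725 D10640) (tt N8587 (iv F11458)) (tt N9713 (iv F13916)))
theorem Q7546 : ∀ i, i < 7546 → P i := stepQ 7545 Q7545 (allL N7545 (tt N9719 (iv F13933)) (tt N7353 F9370) (tt N4707 (iv D8445)) (tt N9711 (iv F13913)) (tt N8543 (iv F11358)))
theorem Q7547 : ∀ i, i < 7547 → P i := stepQ 7546 Q7546 (allL N7546 (tt N4708 (iv D8447)) (tt N7101 F9372) (tt N9723 (iv F13942)) (tt N7100 F9371) (tt N9726 D10641))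
theorem Q7548 : ∀ i, i < 7548 → P i := stepQ 7547 Q7547 (allL N7547 (tt N9727 D10642) (tt N4708 (iv D8448)) (tt N5044 F9373) (tt N8211 (iv F10683)) (tt N8205 F10660))
theorem Q7549 : ∀ i, i < 7549 → P i := stepQ 7548 Q7548 (allL N7548 (tt N9726 (iv F13945)) (tt N8205 F10661) (tt N8543 (iv F11357)) (tt N8204 (iv F10662)) (tt N4708 (iv D8449)))
theorem Q7550 : ∀ i, i < 7550 → P i := stepQ 7549 Q7549 (allL N7549 (tt N4711 F9374) (tt N9717 (iv F13927)) (tt N9610 (iv F13662)) (tt N9646 (iv F13765)) (tt N4709 (iv D8450)))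
theorem Q7551 : ∀ i, i < 7551 → P i := stepQ 7550 Q7550 (allL N7550 (tt N4710 (iv D8451)) (tt N9636 (iv F13735)) (tt N7902 (iv F10094)) (tt N7191 F9375) (tt N9728 D10643))
theorem Q7552 : ∀ i, i < 7552 → P i := stepQ 7551 Q7551 (allL N7551 (tt N7403 (iv F9377)) (tt N6433 F9376) (tt N4710 (iv D8452)) (tt N9359 (iv F13103)) (tt N8951 (iv F12159)))
theorem Q7553 : ∀ i, i < 7553 → P i := stepQ 7552 Q7552 (allL N7552 (tt N9728 (iv F13952)) (tt N4711 F9378) (tt N5528 F9379) (tt N9650 (iv F13780)) (tt N4710 (iv D8453)))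
theorem Q7554 : ∀ i, i < 7554 → P i := stepQ 7553 Q7553 (allL N7553 (tt N4719 F9380) (tt N7356 F9381) (tt N4711 (iv D8454)) (tt N9044 (iv F12374)) (tt N8546 (iv F11365)))
theorem Q7555 : ∀ i, i < 7555 → P i := stepQ 7554 Q7554 (allL N7554 (tt N4712 (iv D8456)) (tt N5024 F9383) (tt N7906 (iv F10101)) (tt N7596 (iv F9488)) (tt N7594 F9483))
theorem Q7556 : ∀ i, i < 7556 → P i := stepQ 7555 Q7555 (allL N7555 (tt N8267 (iv F10787)) (tt N4715 F9384) (tt N5902 F9385) (tt N7749 F9799) (tt N4713 (iv D8457)))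
theorem Q7557 : ∀ i, i < 7557 → P i := stepQ 7556 Q7556 (allL N7556 (tt N9610 (iv F13661)) (tt N6357 F9387) (tt N4715 (iv D8458)) (tt N9045 (iv F12378)) (tt N6355 F9386))
theorem Q7558 : ∀ i, i < 7558 → P i := stepQ 7557 Q7557 (allL N7557 (tt N4717 (iv D8459)) (tt N5617 F9388) (tt N7541 F9389) (tt N7181 F9390) (tt N5612 F9391))
theorem Q7559 : ∀ i, i < 7559 → P i := stepQ 7558 Q7558 (allL N7558 (tt N7783 (iv F9880)) (tt N5020 F9393) (tt N4718 (iv D8460)) (tt N8095 (iv F10477)) (tt N5011 F9392))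
theorem Q7560 : ∀ i, i < 7560 → P i := stepQ 7559 Q7559 (allL N7559 (tt N4721 (iv D8461)) (tt N5537 F9397) (tt N6480 F9395) (tt N7137 F9396) (tt N7131 F9394))
theorem Q7561 : ∀ i, i < 7561 → P i := stepQ 7560 Q7560 (allL N7560 (tt N7785 (iv F9884)) (tt N4728 F9398) (tt N4721 (iv D8462)) (tt N8990 (iv F12261)) (tt N8985 F12246))
theorem Q7562 : ∀ i, i < 7562 → P i := stepQ 7561 Q7561 (allL N7561 (tt N6010 F9399) (tt N4724 F9400) (tt N5963 F9401) (tt N4722 (iv D8463)) (tt N5931 F9402))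
theorem Q7563 : ∀ i, i < 7563 → P i := stepQ 7562 Q7562 (allL N7562 (tt N5981 F9403) (tt N4725 F9404) (tt N5930 F9405) (tt N5929 F9406) (tt N4722 (iv D8464)))
theorem Q7564 : ∀ i, i < 7564 → P i := stepQ 7563 Q7563 (allL N7563 (tt N5305 F9407) (tt N4723 (iv D8466)) (tt N9631 (iv F13722)) (tt N8668 (iv F11611)) (tt N5303 (iv F9412)))
theorem Q7565 : ∀ i, i < 7565 → P i := stepQ 7564 Q7564 (allL N7564 (tt N6712 (iv F9416)) (tt N8668 (iv F11610)) (tt N4724 F9415) (tt N4723 (iv D8467)) (tt N8415 (iv F11099)))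
theorem Q7566 : ∀ i, i < 7566 → P i := stepQ 7565 Q7565 (allL N7565 (tt N8575 F11418) (tt N8972 (iv F12211)) (tt N4725 (iv D8468)) (tt N9691 (iv F13872)) (tt N8573 (iv F11419)))
theorem Q7567 : ∀ i, i < 7567 → P i := stepQ 7566 Q7566 (allL N7566 (tt N8318 (iv F10904)) (tt N4726 (iv D8469)) (tt N5017 F9417) (tt N8993 (iv F12272)) (tt N8577 (iv F11425)))
theorem Q7568 : ∀ i, i < 7568 → P i := stepQ 7567 Q7567 (allL N7567 (tt N5926 F9418) (tt N6478 (iv F9419)) (tt N4727 (iv D8470)) (tt N9676 (iv F13842)) (tt N9672 F13835))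
theorem Q7569 : ∀ i, i < 7569 → P i := stepQ 7568 Q7568 (allL N7568 (tt N8014 (iv F10296)) (tt N7375 F9421) (tt N4730 (iv D8471)) (tt N8982 (iv F12236)) (tt N7373 (iv F9423)))
theorem Q7570 : ∀ i, i < 7570 → P i := stepQ 7569 Q7569 (allL N7569 (tt N4732 F9424) (tt N5049 F9425) (tt N9729 D10644) (tt N6590 F9426) (tt N4731 (iv D8472)))
theorem Q7571 : ∀ i, i < 7571 → P i := stepQ 7570 Q7570 (allL N7570 (tt N9730 D10645) (tt N9621 (iv F13692)) (tt N4732 (iv D8473)) (tt N6427 (iv F9431)) (tt N9619 (iv F13689)))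
theorem Q7572 : ∀ i, i < 7572 → P i := stepQ 7571 Q7571 (allL N7571 (tt N6581 F9427) (tt N4736 F9428) (tt N6427 F9430) (tt N4732 (iv D8474)) (tt N5025 (iv F9429)))
theorem Q7573 : ∀ i, i < 7573 → P i := stepQ 7572 Q7572 (allL N7572 (tt N9731 D10646) (tt N9622 (iv F13694)) (tt N4734 F9432) (tt N4733 (iv D8475)) (tt N9630 (iv F13720)))
theorem Q7574 : ∀ i, i < 7574 → P i := stepQ 7573 Q7573 (allL N7573 (tt N4734 (iv D8476)) (tt N5051 F9433) (tt N9732 D10647) (tt N6585 F9434) (tt N9733 D10648))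
theorem Q7575 : ∀ i, i < 7575 → P i := stepQ 7574 Q7574 (allL N7574 (tt N9733 (iv F13970)) (tt N4738 F9435) (tt N8222 F10702) (tt N5025 F9436) (tt N4734 (iv D8477)))
theorem Q7576 : ∀ i, i < 7576 → P i := stepQ 7575 Q7575 (allL N7575 (tt N4739 (iv D8478)) (tt N6297 F9437) (tt N9734 D10649) (tt N6592 F9438) (tt N7798 (iv F9917)))
theorem Q7577 : ∀ i, i < 7577 → P i := stepQ 7576 Q7576 (allL N7576 (tt N7798 (iv F9916)) (tt N4740 F9439) (tt N5573 (iv F9441)) (tt N4745 F9440) (tt N4739 (iv D8479)))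
theorem Q7578 : ∀ i, i < 7578 → P i := stepQ 7577 Q7577 (allL N7577 (tt N4872 F9442) (tt N7663 (iv F9617)) (tt N4741 (iv D8480)) (tt N7608 (iv F9523)) (tt N8905 (iv F12055)))
theorem Q7579 : ∀ i, i < 7579 → P i := stepQ 7578 Q7578 (allL N7578 (tt N4866 F9443) (tt N4742 F9444) (tt N5176 F9445) (tt N7599 (iv F9496)) (tt N4741 (iv D8481)))
theorem Q7580 : ∀ i, i < 7580 → P i := stepQ 7579 Q7579 (allL N7579 (tt N5244 F9446) (tt N4894 F9447) (tt N4743 (iv D8482)) (tt N6597 F9448) (tt N8643 (iv F11563)))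
theorem Q7581 : ∀ i, i < 7581 → P i := stepQ 7580 Q7580 (allL N7580 (tt N4744 (iv D8483)) (tt N7800 (iv F9921)) (tt N9735 D10650) (tt N6601 F9449) (tt N7799 F9919))
theorem Q7582 : ∀ i, i < 7582 → P i := stepQ 7581 Q7581 (allL N7581 (tt N7799 (iv F9918)) (tt N4746 F9450) (tt N5603 (iv F9452)) (tt N5023 F9451) (tt N4744 (iv D8484)))
theorem Q7583 : ∀ i, i < 7583 → P i := stepQ 7582 Q7582 (allL N7582 (tt N7383 F9453) (tt N4748 (iv D8485)) (tt N7996 (iv F10255)) (tt N9417 (iv F13246)) (tt N9593 (iv F13616)))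
theorem Q7584 : ∀ i, i < 7584 → P i := stepQ 7583 Q7583 (allL N7583 (tt N8812 (iv F11859)) (tt N9593 (iv F13615)) (tt N9428 (iv F13265)) (tt N9410 (iv F13232)) (tt N4748 (iv D8486)))
theorem Q7585 : ∀ i, i < 7585 → P i := stepQ 7584 Q7584 (allL N7584 (tt N7584 F9454) (tt N5243 F9455) (tt N4754 F9456) (tt N5028 F9457) (tt N4750 (iv D8487)))
theorem Q7586 : ∀ i, i < 7586 → P i := stepQ 7585 Q7585 (allL N7585 (tt N4757 F9458) (tt N8828 (iv F11896)) (tt N4755 (iv D8488)) (tt N6516 F9459) (tt N9715 (iv F13923)))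
theorem Q7587 : ∀ i, i < 7587 → P i := stepQ 7586 Q7586 (allL N7586 (tt N7440 F9460) (tt N5571 F9461) (tt N9715 (iv F13921)) (tt N6523 F9462) (tt N4756 (iv D8489)))
theorem Q7588 : ∀ i, i < 7588 → P i := stepQ 7587 Q7587 (allL N7587 (tt N9736 D10651) (tt N4758 (iv D8490)) (tt N8484 (iv F11221)) (tt N5045 (iv F9464)) (tt N4841 F9463))
theorem Q7589 : ∀ i, i < 7589 → P i := stepQ 7588 Q7588 (allL N7588 (tt N6474 F9465) (tt N5045 F9466) (tt N4759 F9467) (tt N4758 (iv D8491)) (tt N5044 (iv F9468)))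
theorem Q7590 : ∀ i, i < 7590 → P i := stepQ 7589 Q7589 (allL N7589 (tt N4763 F9469) (tt N5986 F9470) (tt N7703 (iv F9693)) (tt N6524 F9471) (tt N4760 (iv D8492)))
theorem Q7591 : ∀ i, i < 7591 → P i := stepQ 7590 Q7590 (allL N7590 (tt N9737 D10652) (tt N4762 F9472) (tt N8488 (iv F11232)) (tt N4761 (iv D8493)) (tt N4863 F9473))
theorem Q7592 : ∀ i, i < 7592 → P i := stepQ 7591 Q7591 (allL N7591 (tt N6430 F9474) (tt N4863 F9475) (tt N8211 (iv F10682)) (tt N5044 F9476) (tt N4762 (iv D8494)))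
theorem Q7593 : ∀ i, i < 7593 → P i := stepQ 7592 Q7592 (allL N7592 (tt N7442 F9477) (tt N9590 (iv F13606)) (tt N7452 F9478) (tt N5157 F9479) (tt N4765 (iv D8495)))
theorem Q7594 : ∀ i, i < 7594 → P i := stepQ 7593 Q7593 (allL N7593 (tt N7444 F9480) (tt N9738 D10653) (tt N4766 (iv D8496)) (tt N8913 (iv F12069)) (tt N9739 D10654))
theorem Q7595 : ∀ i, i < 7595 → P i := stepQ 7594 Q7594 (allL N7594 (tt N6534 F9481) (tt N4769 F9482) (tt N8913 (iv F12068)) (tt N4766 (iv D8497)) (tt N7554 (iv F9483)))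
theorem Q7596 : ∀ i, i < 7596 → P i := stepQ 7595 Q7595 (allL N7595 (tt N7450 F9484) (tt N9740 D10655) (tt N4770 (iv D8498)) (tt N7420 F9485) (tt N9741 D10656))
theorem Q7597 : ∀ i, i < 7597 → P i := stepQ 7596 Q7596 (allL N7596 (tt N7473 F9486) (tt N4772 F9487) (tt N9742 D10657) (tt N7554 F9488) (tt N4770 (iv D8499)))
theorem Q7598 : ∀ i, i < 7598 → P i := stepQ 7597 Q7597 (allL N7597 (tt N7597 F9489) (tt N5705 (iv F9492)) (tt N4772 (iv D8500)) (tt N5925 F9490) (tt N4789 F9491))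
theorem Q7599 : ∀ i, i < 7599 → P i := stepQ 7598 Q7598 (allL N7598 (tt N7773 (iv F9849)) (tt N9743 D10658) (tt N4773 (iv D8501)) (tt N6332 F9493) (tt N9744 D10659))
theorem Q7600 : ∀ i, i < 7600 → P i := stepQ 7599 Q7599 (allL N7599 (tt N5318 F9494) (tt N4774 F9495) (tt N7920 (iv F10125)) (tt N7578 F9496) (tt N4773 (iv D8502)))
theorem Q7601 : ∀ i, i < 7601 → P i := stepQ 7600 Q7600 (allL N7600 (tt N5417 F9499) (tt N4824 F9497) (tt N4775 (iv D8503)) (tt N4787 F9498) (tt N4823 F9500))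
theorem Q7602 : ∀ i, i < 7602 → P i := stepQ 7601 Q7601 (allL N7601 (tt N4905 F9501) (tt N4777 (iv D8504)) (tt N5240 F9502) (tt N9745 D10660) (tt N7380 (iv F9503)))
theorem Q7603 : ∀ i, i < 7603 → P i := stepQ 7602 Q7602 (allL N7602 (tt N8853 (iv F11958)) (tt N9745 (iv F14003)) (tt N4778 F9504) (tt N4777 (iv D8505)) (tt N8894 (iv F12033)))
theorem Q7604 : ∀ i, i < 7604 → P i := stepQ 7603 Q7603 (allL N7603 (tt N6184 F9505) (tt N7380 F9506) (tt N7505 F9507) (tt N8893 (iv F12030)) (tt N4777 (iv D8506)))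
theorem Q7605 : ∀ i, i < 7605 → P i := stepQ 7604 Q7604 (allL N7604 (tt N4778 (iv D8507)) (tt N5057 F9510) (tt N4924 F9509) (tt N4923 F9508) (tt N4934 F9511))
theorem Q7606 : ∀ i, i < 7606 → P i := stepQ 7605 Q7605 (allL N7605 (tt N4934 F9512) (tt N4780 F9513) (tt N5190 (iv F9515)) (tt N5027 F9514) (tt N4778 (iv D8508)))
theorem Q7607 : ∀ i, i < 7607 → P i := stepQ 7606 Q7606 (allL N7606 (tt N4933 F9518) (tt N4781 F9516) (tt N8368 (iv F11013)) (tt N4779 (iv D8509)) (tt N4932 F9517))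
theorem Q7608 : ∀ i, i < 7608 → P i := stepQ 7607 Q7607 (allL N7607 (tt N7490 F9519) (tt N5368 F9520) (tt N4785 (iv D8510)) (tt N6618 F9521) (tt N5366 (iv F9522)))
theorem Q7609 : ∀ i, i < 7609 → P i := stepQ 7608 Q7608 (allL N7608 (tt N7695 (iv F9669)) (tt N9746 D10661) (tt N4788 (iv D8511)) (tt N7577 F9523) (tt N9747 D10662))
theorem Q7610 : ∀ i, i < 7610 → P i := stepQ 7609 Q7609 (allL N7609 (tt N5324 F9524) (tt N4790 F9525) (tt N7935 (iv F10156)) (tt N7769 (iv F9847)) (tt N4788 (iv D8512)))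
theorem Q7611 : ∀ i, i < 7611 → P i := stepQ 7610 Q7610 (allL N7610 (tt N5898 F9526) (tt N4806 F9527) (tt N5046 F9528) (tt N5046 F9529) (tt N4793 (iv D8513)))
theorem Q7612 : ∀ i, i < 7612 → P i := stepQ 7611 Q7611 (allL N7611 (tt N4818 F9530) (tt N5372 F9531) (tt N9748 D10663) (tt N9749 D10664) (tt N4794 (iv D8514)))
theorem Q7613 : ∀ i, i < 7613 → P i := stepQ 7612 Q7612 (allL N7612 (tt N4807 F9532) (tt N7921 (iv F10127)) (tt N4795 (iv D8515)) (tt N9750 D10665) (tt N7919 F10124))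
theorem Q7614 : ∀ i, i < 7614 → P i := stepQ 7613 Q7613 (allL N7613 (tt N5369 (iv F9534)) (tt N5398 F9533) (tt N9750 (iv F14019)) (tt N4795 (iv D8516)) (tt N9751 D10666))
theorem Q7615 : ∀ i, i < 7615 → P i := stepQ 7614 Q7614 (allL N7614 (tt N5345 F9536) (tt N4799 F9535) (tt N7787 (iv F9894)) (tt N4796 (iv D8517)) (tt N5619 (iv F9537)))
theorem Q7616 : ∀ i, i < 7616 → P i := stepQ 7615 Q7615 (allL N7615 (tt N5934 F9538) (tt N8336 (iv F10947)) (tt N4797 (iv D8518)) (tt N8544 (iv F11362)) (tt N8287 (iv F10835)))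
theorem Q7617 : ∀ i, i < 7617 → P i := stepQ 7616 Q7616 (allL N7616 (tt N9749 (iv F14015)) (tt N5549 F9539) (tt N8544 (iv F11361)) (tt N4797 (iv D8519)) (tt N5047 F9549))
theorem Q7618 : ∀ i, i < 7618 → P i := stepQ 7617 Q7617 (allL N7617 (tt N5174 F9540) (tt N4798 (iv D8520)) (tt N9752 D10667) (tt N8567 (iv F11400)) (tt N5171 F9541))
theorem Q7619 : ∀ i, i < 7619 → P i := stepQ 7618 Q7618 (allL N7618 (tt N7360 F9543) (tt N8567 (iv F11399)) (tt N4799 F9542) (tt N4798 (iv D8521)) (tt N8316 (iv F10897)))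
theorem Q7620 : ∀ i, i < 7620 → P i := stepQ 7619 Q7619 (allL N7619 (tt N4799 (iv D8522)) (tt N5334 F9544) (tt N7361 F9545) (tt N7970 (iv F10208)) (tt N7985 (iv F10231)))
theorem Q7621 : ∀ i, i < 7621 → P i := stepQ 7620 Q7620 (allL N7620 (tt N7985 (iv F10230)) (tt N5619 F9546) (tt N4806 F9547) (tt N5047 (iv F9548)) (tt N4799 (iv D8523)))
theorem Q7622 : ∀ i, i < 7622 → P i := stepQ 7621 Q7621 (allL N7621 (tt N4800 (iv D8524)) (tt N5257 F9550) (tt N7330 F9551) (tt N9753 D10668) (tt N5255 F9552))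
theorem Q7623 : ∀ i, i < 7623 → P i := stepQ 7622 Q7622 (allL N7622 (tt N4833 F9553) (tt N8190 (iv F10633)) (tt N9591 (iv F13610)) (tt N4801 (iv D8525)) (tt N8185 (iv F10617)))
theorem Q7624 : ∀ i, i < 7624 → P i := stepQ 7623 Q7623 (allL N7623 (tt N6250 F9554) (tt N7669 (iv F9628)) (tt N4802 (iv D8526)) (tt N7790 (iv F9897)) (tt N6247 (iv F9555)))
theorem Q7625 : ∀ i, i < 7625 → P i := stepQ 7624 Q7624 (allL N7624 (tt N4803 (iv D8527)) (tt N5299 F9556) (tt N9592 (iv F13613)) (tt N9754 D10669) (tt N5297 F9557))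
theorem Q7626 : ∀ i, i < 7626 → P i := stepQ 7625 Q7625 (allL N7625 (tt N4826 F9560) (tt N5604 F9561) (tt N4805 (iv D8528)) (tt N5936 F9558) (tt N5600 F9559))
theorem Q7627 : ∀ i, i < 7627 → P i := stepQ 7626 Q7626 (allL N7626 (tt N5119 F9562) (tt N5082 F9563) (tt N4809 F9564) (tt N4808 (iv D8529)) (tt N9755 D10670))
theorem Q7628 : ∀ i, i < 7628 → P i := stepQ 7627 Q7627 (allL N7627 (tt N9590 (iv F13605)) (tt N8144 (iv F10541)) (tt N4822 F9565) (tt N9756 D10671) (tt N4808 (iv D8530)))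
theorem Q7629 : ∀ i, i < 7629 → P i := stepQ 7628 Q7628 (allL N7628 (tt N5933 F9566) (tt N8145 (iv F10544)) (tt N9757 D10672) (tt N4814 F9567) (tt N4809 (iv D8531)))
theorem Q7630 : ∀ i, i < 7630 → P i := stepQ 7629 Q7629 (allL N7629 (tt N9748 (iv F14013)) (tt N9758 D10673) (tt N4810 (iv D8532)) (tt N9759 D10674) (tt N9760 D10675))
theorem Q7631 : ∀ i, i < 7631 → P i := stepQ 7630 Q7630 (allL N7630 (tt N5935 F9568) (tt N8147 (iv F10546)) (tt N9759 (iv F14046)) (tt N4810 (iv D8533)) (tt N9761 D10676))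
theorem Q7632 : ∀ i, i < 7632 → P i := stepQ 7631 Q7631 (allL N7631 (tt N4811 (iv D8534)) (tt N9762 D10677) (tt N4818 F9569) (tt N9763 D10678) (tt N8166 (iv F10576)))
theorem Q7633 : ∀ i, i < 7633 → P i := stepQ 7632 Q7632 (allL N7632 (tt N4813 (iv D8535)) (tt N9764 D10679) (tt N5369 F9570) (tt N9765 D10680) (tt N8186 (iv F10619)))
theorem Q7634 : ∀ i, i < 7634 → P i := stepQ 7633 Q7633 (allL N7633 (tt N9750 (iv F14020)) (tt N9766 D10681) (tt N4814 (iv D8536)) (tt N9757 (iv F14041)) (tt N9767 D10682))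
theorem Q7635 : ∀ i, i < 7635 → P i := stepQ 7634 Q7634 (allL N7634 (tt N4815 F9571) (tt N8202 (iv F10653)) (tt N9768 D10683) (tt N9761 (iv F14052)) (tt N4814 (iv D8537)))
theorem Q7636 : ∀ i, i < 7636 → P i := stepQ 7635 Q7635 (allL N7635 (tt N7255 F9573) (tt N4838 F9575) (tt N4816 (iv D8538)) (tt N7078 F9572) (tt N4835 F9574))
theorem Q7637 : ∀ i, i < 7637 → P i := stepQ 7636 Q7636 (allL N7636 (tt N7970 (iv F10206)) (tt N5358 F9576) (tt N9765 (iv F14063)) (tt N5369 F9577) (tt N4817 (iv D8539)))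
theorem Q7638 : ∀ i, i < 7638 → P i := stepQ 7637 Q7637 (allL N7637 (tt N7971 (iv F10210)) (tt N5360 F9578) (tt N9763 (iv F14057)) (tt N4818 (iv D8540)) (tt N9769 D10684))
theorem Q7639 : ∀ i, i < 7639 → P i := stepQ 7638 Q7638 (allL N7638 (tt N9754 (iv F14030)) (tt N8169 (iv F10586)) (tt N4819 (iv D8541)) (tt N4833 F9579) (tt N8167 (iv F10583)))
theorem Q7640 : ∀ i, i < 7640 → P i := stepQ 7639 Q7639 (allL N7639 (tt N4820 (iv D8542)) (tt N8160 (iv F10567)) (tt N9590 (iv F13607)) (tt N8570 (iv F11408)) (tt N8159 F10565))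
theorem Q7641 : ∀ i, i < 7641 → P i := stepQ 7640 Q7640 (allL N7640 (tt N9753 (iv F14026)) (tt N8171 (iv F10591)) (tt N4821 F9580) (tt N4820 (iv D8543)) (tt N8187 (iv F10625)))
theorem Q7642 : ∀ i, i < 7642 → P i := stepQ 7641 Q7641 (allL N7641 (tt N5938 F9581) (tt N7802 (iv F9929)) (tt N9769 (iv F14073)) (tt N4834 F9582) (tt N4821 (iv D8544)))
theorem Q7643 : ∀ i, i < 7643 → P i := stepQ 7642 Q7642 (allL N7642 (tt N5421 F9583) (tt N4822 (iv D8545)) (tt N9770 D10685) (tt N9771 D10686) (tt N5418 (iv F9584)))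
theorem Q7644 : ∀ i, i < 7644 → P i := stepQ 7643 Q7643 (allL N7643 (tt N5937 F9585) (tt N9771 (iv F14077)) (tt N9756 (iv F14040)) (tt N4822 (iv D8546)) (tt N9772 D10687))
theorem Q7645 : ∀ i, i < 7645 → P i := stepQ 7644 Q7644 (allL N7644 (tt N4824 F9586) (tt N5418 F9587) (tt N9760 (iv F14048)) (tt N9773 D10688) (tt N4822 (iv D8547)))
theorem Q7646 : ∀ i, i < 7646 → P i := stepQ 7645 Q7645 (allL N7645 (tt N5459 F9588) (tt N4830 (iv D8548)) (tt N9774 D10689) (tt N9775 D10690) (tt N5457 (iv F9589)))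
theorem Q7647 : ∀ i, i < 7647 → P i := stepQ 7646 Q7646 (allL N7646 (tt N9591 (iv F13611)) (tt N9331 (iv F13046)) (tt N4830 (iv D8549)) (tt N9755 (iv F14037)) (tt N9768 (iv F14071)))
theorem Q7648 : ∀ i, i < 7648 → P i := stepQ 7647 Q7647 (allL N7647 (tt N5936 F9590) (tt N9775 (iv F14087)) (tt N9755 (iv F14036)) (tt N4830 (iv D8550)) (tt N9773 (iv F14084)))
theorem Q7649 : ∀ i, i < 7649 → P i := stepQ 7648 Q7648 (allL N7648 (tt N4831 F9591) (tt N5457 F9592) (tt N9767 (iv F14068)) (tt N9772 (iv F14081)) (tt N4830 (iv D8551)))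
theorem Q7650 : ∀ i, i < 7650 → P i := stepQ 7649 Q7649 (allL N7649 (tt N7256 F9594) (tt N4862 F9596) (tt N4832 (iv D8552)) (tt N7075 F9593) (tt N4859 F9595))
theorem Q7651 : ∀ i, i < 7651 → P i := stepQ 7650 Q7650 (allL N7650 (tt N9120 (iv F12554)) (tt N4834 F9597) (tt N7650 F9598) (tt N7802 (iv F9931)) (tt N4832 (iv D8553)))
theorem Q7652 : ∀ i, i < 7652 → P i := stepQ 7651 Q7651 (allL N7651 (tt N9751 (iv F14021)) (tt N5371 F9600) (tt N4834 (iv D8554)) (tt N9769 (iv F14074)) (tt N5369 F9599))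
theorem Q7653 : ∀ i, i < 7653 → P i := stepQ 7652 Q7652 (allL N7652 (tt N4836 (iv D8555)) (tt N5701 F9601) (tt N9743 (iv F13997)) (tt N5037 F9602) (tt N9776 D10691))
theorem Q7654 : ∀ i, i < 7654 → P i := stepQ 7653 Q7653 (allL N7653 (tt N7973 (iv F10214)) (tt N6371 F9603) (tt N4837 F9604) (tt N4836 (iv D8556)) (tt N9777 D10692))
theorem Q7655 : ∀ i, i < 7655 → P i := stepQ 7654 Q7654 (allL N7654 (tt N9776 (iv F14089)) (tt N5359 F9605) (tt N9778 D10693) (tt N9779 D10694) (tt N4836 (iv D8557)))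
theorem Q7656 : ∀ i, i < 7656 → P i := stepQ 7655 Q7655 (allL N7655 (tt N5959 F9606) (tt N7075 F9607) (tt N9780 D10695) (tt N4862 F9608) (tt N4837 (iv D8558)))
theorem Q7657 : ∀ i, i < 7657 → P i := stepQ 7656 Q7656 (allL N7656 (tt N9781 D10696) (tt N8170 (iv F10588)) (tt N4838 (iv D8559)) (tt N9782 D10697) (tt N8934 (iv F12120)))
theorem Q7658 : ∀ i, i < 7658 → P i := stepQ 7657 Q7657 (allL N7657 (tt N5967 F9609) (tt N7078 F9610) (tt N9782 (iv F14101)) (tt N4838 (iv D8560)) (tt N4861 F9611))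
theorem Q7659 : ∀ i, i < 7659 → P i := stepQ 7658 Q7658 (allL N7658 (tt N9743 (iv F13999)) (tt N8930 (iv F12116)) (tt N4839 (iv D8561)) (tt N9783 D10698) (tt N9784 D10699))
theorem Q7660 : ∀ i, i < 7660 → P i := stepQ 7659 Q7659 (allL N7659 (tt N5958 F9612) (tt N8931 (iv F12113)) (tt N9783 (iv F14104)) (tt N4839 (iv D8562)) (tt N9785 D10700))
theorem Q7661 : ∀ i, i < 7661 → P i := stepQ 7660 Q7660 (allL N7660 (tt N4840 F9613) (tt N8932 (iv F12118)) (tt N9786 D10701) (tt N9787 D10702) (tt N4839 (iv D8563)))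
theorem Q7662 : ∀ i, i < 7662 → P i := stepQ 7661 Q7661 (allL N7661 (tt N9778 (iv F14095)) (tt N8485 (iv F11224)) (tt N4840 (iv D8564)) (tt N4858 F9614) (tt N8484 F11223))
theorem Q7663 : ∀ i, i < 7663 → P i := stepQ 7662 Q7662 (allL N7662 (tt N4841 (iv D8565)) (tt N6933 F9615) (tt N9784 (iv F14106)) (tt N9632 (iv F13724)) (tt N9736 (iv F13979)))
theorem Q7664 : ∀ i, i < 7664 → P i := stepQ 7663 Q7663 (allL N7663 (tt N4854 F9616) (tt N7577 F9617) (tt N4847 (iv D8566)) (tt N9746 (iv F14007)) (tt N9634 (iv F13729)))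
theorem Q7665 : ∀ i, i < 7665 → P i := stepQ 7664 Q7664 (allL N7664 (tt N4860 F9619) (tt N5702 F9618) (tt N9746 (iv F14006)) (tt N4847 (iv D8567)) (tt N9788 D10703))
theorem Q7666 : ∀ i, i < 7666 → P i := stepQ 7665 Q7665 (allL N7665 (tt N4850 F9620) (tt N5703 F9621) (tt N7337 F9622) (tt N9776 (iv F14091)) (tt N4847 (iv D8568)))
theorem Q7667 : ∀ i, i < 7667 → P i := stepQ 7666 Q7666 (allL N7666 (tt N7976 (iv F10218)) (tt N6228 F9623) (tt N9789 D10704) (tt N5040 F9627) (tt N4849 (iv D8569)))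
theorem Q7668 : ∀ i, i < 7668 → P i := stepQ 7667 Q7667 (allL N7667 (tt N4858 F9624) (tt N9790 D10705) (tt N4850 (iv D8570)) (tt N9791 D10706) (tt N8487 (iv F11229)))
theorem Q7669 : ∀ i, i < 7669 → P i := stepQ 7668 Q7668 (allL N7668 (tt N7984 (iv F10228)) (tt N6418 F9625) (tt N9791 (iv F14123)) (tt N4850 (iv D8571)) (tt N5039 (iv F9626)))
theorem Q7670 : ∀ i, i < 7670 → P i := stepQ 7669 Q7669 (allL N7669 (tt N9110 (iv F12530)) (tt N7623 F9628) (tt N4851 (iv D8572)) (tt N5041 F9629) (tt N8834 (iv F11914)))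
theorem Q7671 : ∀ i, i < 7671 → P i := stepQ 7670 Q7670 (allL N7670 (tt N4852 (iv D8573)) (tt N8424 (iv F11121)) (tt N9634 (iv F13728)) (tt N9781 (iv F14100)) (tt N8422 F11118))
theorem Q7672 : ∀ i, i < 7672 → P i := stepQ 7671 Q7671 (allL N7671 (tt N8757 (iv F11784)) (tt N4852 (iv D8574)) (tt N5565 F9630) (tt N8956 (iv F12175)) (tt N8755 (iv F11782)))
theorem Q7673 : ∀ i, i < 7673 → P i := stepQ 7672 Q7672 (allL N7672 (tt N9115 (iv F12542)) (tt N8956 (iv F12173)) (tt N4853 F9631) (tt N4852 (iv D8575)) (tt N8954 (iv F12167)))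
theorem Q7674 : ∀ i, i < 7674 → P i := stepQ 7673 Q7673 (allL N7673 (tt N8422 (iv F11117)) (tt N8755 (iv F11779)) (tt N8487 (iv F11230)) (tt N8834 (iv F11913)) (tt N4852 (iv D8576)))
theorem Q7675 : ∀ i, i < 7675 → P i := stepQ 7674 Q7674 (allL N7674 (tt N9746 (iv F14008)) (tt N9353 F14009) (tt N4856 (iv D8577)) (tt N9792 D10707) (tt N9793 D10708))
theorem Q7676 : ∀ i, i < 7676 → P i := stepQ 7675 Q7675 (allL N7675 (tt N5965 F9632) (tt N9354 (iv F13093)) (tt N9792 (iv F14126)) (tt N4856 (iv D8578)) (tt N9787 (iv F14112)))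
theorem Q7677 : ∀ i, i < 7677 → P i := stepQ 7676 Q7676 (allL N7676 (tt N4857 F9633) (tt N8943 (iv F12140)) (tt N9794 D10709) (tt N9785 (iv F14108)) (tt N4856 (iv D8579)))
theorem Q7678 : ∀ i, i < 7678 → P i := stepQ 7677 Q7677 (allL N7677 (tt N9795 D10710) (tt N8490 (iv F11235)) (tt N4857 (iv D8580)) (tt N5043 F9634) (tt N8488 (iv F11233)))
theorem Q7679 : ∀ i, i < 7679 → P i := stepQ 7678 Q7678 (allL N7678 (tt N7079 F9635) (tt N4861 F9636) (tt N7678 F9637) (tt N4859 (iv D8581)) (tt N7078 F9638))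
theorem Q7680 : ∀ i, i < 7680 → P i := stepQ 7679 Q7679 (allL N7679 (tt N6276 F9639) (tt N4860 (iv D8582)) (tt N7679 F9640) (tt N9796 D10711) (tt N5370 F9641))
theorem Q7681 : ∀ i, i < 7681 → P i := stepQ 7680 Q7680 (allL N7680 (tt N7975 (iv F10216)) (tt N9796 (iv F14133)) (tt N4861 F9642) (tt N4860 (iv D8583)) (tt N9779 (iv F14097)))
theorem Q7682 : ∀ i, i < 7682 → P i := stepQ 7681 Q7681 (allL N7681 (tt N9788 (iv F14113)) (tt N5370 F9643) (tt N9795 (iv F14131)) (tt N9777 F14094) (tt N4860 (iv D8584)))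
theorem Q7683 : ∀ i, i < 7683 → P i := stepQ 7682 Q7682 (allL N7682 (tt N9797 D10712) (tt N8188 (iv F10627)) (tt N4862 (iv D8585)) (tt N9780 (iv F14098)) (tt N8938 (iv F12126)))
theorem Q7684 : ∀ i, i < 7684 → P i := stepQ 7683 Q7683 (allL N7683 (tt N4863 (iv D8586)) (tt N6937 F9644) (tt N9793 (iv F14128)) (tt N9620 (iv F13690)) (tt N9737 (iv F13981)))
theorem Q7685 : ∀ i, i < 7685 → P i := stepQ 7684 Q7684 (allL N7684 (tt N4873 F9645) (tt N8840 (iv F11926)) (tt N4867 (iv D8587)) (tt N6021 F9646) (tt N9798 D10713))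
theorem Q7686 : ∀ i, i < 7686 → P i := stepQ 7685 Q7685 (allL N7685 (tt N4868 F9647) (tt N6016 F9648) (tt N7163 F9649) (tt N6014 F9650) (tt N4867 (iv D8588)))
theorem Q7687 : ∀ i, i < 7687 → P i := stepQ 7686 Q7686 (allL N7686 (tt N6839 F9651) (tt N9195 (iv F12750)) (tt N4868 (iv D8589)) (tt N5008 F9652) (tt N9799 D10714))
theorem Q7688 : ∀ i, i < 7688 → P i := stepQ 7687 Q7687 (allL N7687 (tt N4869 (iv D8590)) (tt N8587 (iv F11459)) (tt N8905 (iv F12054)) (tt N9724 (iv F13943)) (tt N9800 D10715))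
theorem Q7689 : ∀ i, i < 7689 → P i := stepQ 7688 Q7688 (allL N7688 (tt N9801 D10716) (tt N4869 (iv D8591)) (tt N5626 F9653) (tt N9284 (iv F12938)) (tt N9802 D10717))
theorem Q7690 : ∀ i, i < 7690 → P i := stepQ 7689 Q7689 (allL N7689 (tt N6855 (iv F9655)) (tt N9284 (iv F12937)) (tt N4870 F9654) (tt N4869 (iv D8592)) (tt N9803 D10718))
theorem Q7691 : ∀ i, i < 7691 → P i := stepQ 7690 Q7690 (allL N7690 (tt N9800 (iv F14142)) (tt N9802 (iv F14145)) (tt N8493 (iv F11245)) (tt N9799 (iv F14144)) (tt N4869 (iv D8593)))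
theorem Q7692 : ∀ i, i < 7692 → P i := stepQ 7691 Q7691 (allL N7691 (tt N4870 (iv D8594)) (tt N6015 F9659) (tt N7186 F9656) (tt N6022 F9657) (tt N5007 F9658))
theorem Q7693 : ∀ i, i < 7693 → P i := stepQ 7692 Q7692 (allL N7692 (tt N9798 (iv F14138)) (tt N4952 F9660) (tt N5196 F9661) (tt N5009 F9662) (tt N4873 (iv D8595)))
theorem Q7694 : ∀ i, i < 7694 → P i := stepQ 7693 Q7693 (allL N7693 (tt N9804 D10719) (tt N4950 F9663) (tt N5177 F9664) (tt N4874 (iv D8596)) (tt N4947 F9665))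
theorem Q7695 : ∀ i, i < 7695 → P i := stepQ 7694 Q7694 (allL N7694 (tt N6402 F9668) (tt N4880 F9666) (tt N8052 (iv F10368)) (tt N4877 (iv D8597)) (tt N5012 F9667))
theorem Q7696 : ∀ i, i < 7696 → P i := stepQ 7695 Q7695 (allL N7695 (tt N7608 F9669) (tt N6194 (iv F9670)) (tt N4878 (iv D8598)) (tt N6192 F9671) (tt N9667 (iv F13822)))
theorem Q7697 : ∀ i, i < 7697 → P i := stepQ 7696 Q7696 (allL N7696 (tt N6021 F9675) (tt N7696 F9676) (tt N6192 F9677) (tt N4878 (iv D8599)) (tt N8373 (iv F11029)))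
theorem Q7698 : ∀ i, i < 7698 → P i := stepQ 7697 Q7697 (allL N7697 (tt N4879 F9678) (tt N7697 F9679) (tt N8364 (iv F11008)) (tt N8363 F11005) (tt N4878 (iv D8600)))
theorem Q7699 : ∀ i, i < 7699 → P i := stepQ 7698 Q7698 (allL N7698 (tt N4880 (iv D8601)) (tt N7698 F9680) (tt N8374 (iv F11033)) (tt N8373 F11030) (tt N5014 F9681))
theorem Q7700 : ∀ i, i < 7700 → P i := stepQ 7699 Q7699 (allL N7699 (tt N9707 (iv F13907)) (tt N9805 D10720) (tt N4884 (iv D8602)) (tt N9528 (iv F13478)) (tt N9806 D10721))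
theorem Q7701 : ∀ i, i < 7701 → P i := stepQ 7700 Q7700 (allL N7700 (tt N5474 F9682) (tt N4885 (iv D8603)) (tt N8993 (iv F12271)) (tt N5017 F9683) (tt N5473 (iv F9684)))
theorem Q7702 : ∀ i, i < 7702 → P i := stepQ 7701 Q7701 (allL N7701 (tt N9669 (iv F13827)) (tt N5473 F9685) (tt N8495 (iv F11250)) (tt N4889 (iv F9686)) (tt N4885 (iv D8604)))
theorem Q7703 : ∀ i, i < 7703 → P i := stepQ 7702 Q7702 (allL N7702 (tt N4889 F9687) (tt N7167 F9688) (tt N5178 F9689) (tt N7165 (iv F9690)) (tt N4886 (iv D8605)))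
theorem Q7704 : ∀ i, i < 7704 → P i := stepQ 7703 Q7703 (allL N7703 (tt N4887 (iv D8606)) (tt N5580 F9691) (tt N7589 F9693) (tt N7751 (iv F9802)) (tt N6064 F9692))
theorem Q7705 : ∀ i, i < 7705 → P i := stepQ 7704 Q7704 (allL N7704 (tt N5469 F9695) (tt N4888 F9694) (tt N8991 (iv F12265)) (tt N4887 (iv D8607)) (tt N5466 (iv F9696)))
theorem Q7706 : ∀ i, i < 7706 → P i := stepQ 7705 Q7705 (allL N7705 (tt N9664 (iv F13815)) (tt N5466 F9697) (tt N8494 (iv F11247)) (tt N5018 F9698) (tt N4888 (iv D8608)))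
theorem Q7707 : ∀ i, i < 7707 → P i := stepQ 7706 Q7706 (allL N7706 (tt N9724 (iv F13944)) (tt N9807 D10722) (tt N4890 (iv D8609)) (tt N9529 (iv F13480)) (tt N9808 D10723))
theorem Q7708 : ∀ i, i < 7708 → P i := stepQ 7707 Q7707 (allL N7707 (tt N4918 F9699) (tt N5247 F9700) (tt N5184 (iv F9702)) (tt N4972 F9701) (tt N4892 (iv D8610)))
theorem Q7709 : ∀ i, i < 7709 → P i := stepQ 7708 Q7708 (allL N7708 (tt N6951 F9705) (tt N6597 F9703) (tt N6136 F9704) (tt N4894 (iv D8611)) (tt N8642 (iv F11561)))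
theorem Q7710 : ∀ i, i < 7710 → P i := stepQ 7709 Q7709 (allL N7709 (tt N6420 F9709) (tt N4899 F9706) (tt N7269 F9707) (tt N4896 (iv D8612)) (tt N4999 F9708))
theorem Q7711 : ∀ i, i < 7711 → P i := stepQ 7710 Q7710 (allL N7710 (tt N5764 F9710) (tt N7341 F9711) (tt N4897 (iv D8613)) (tt N4995 F9712) (tt N5584 F9713))
theorem Q7712 : ∀ i, i < 7712 → P i := stepQ 7711 Q7711 (allL N7711 (tt N8338 (iv F10950)) (tt N4898 (iv D8614)) (tt N7358 F9714) (tt N7357 (iv F9716)) (tt N5583 F9715))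
theorem Q7713 : ∀ i, i < 7713 → P i := stepQ 7712 Q7712 (allL N7712 (tt N5884 F9720) (tt N7357 F9717) (tt N4899 F9718) (tt N4898 (iv D8615)) (tt N5599 F9719))
theorem Q7714 : ∀ i, i < 7714 → P i := stepQ 7713 Q7713 (allL N7713 (tt N4902 (iv D8616)) (tt N9809 D10724) (tt N8757 (iv F11786)) (tt N9810 D10725) (tt N6056 F9724))
theorem Q7715 : ∀ i, i < 7715 → P i := stepQ 7714 Q7714 (allL N7714 (tt N6056 (iv F9723)) (tt N4904 F9721) (tt N5566 F9722) (tt N5566 F9725) (tt N4902 (iv D8617)))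
theorem Q7716 : ∀ i, i < 7716 → P i := stepQ 7715 Q7715 (allL N7715 (tt N6292 F9726) (tt N7391 F9727) (tt N4920 F9729) (tt N4985 F9728) (tt N4911 (iv D8618)))
theorem Q7717 : ∀ i, i < 7717 → P i := stepQ 7716 Q7716 (allL N7716 (tt N5184 F9733) (tt N6721 F9730) (tt N4913 (iv D8619)) (tt N4987 F9731) (tt N5183 F9732))
theorem Q7718 : ∀ i, i < 7718 → P i := stepQ 7717 Q7717 (allL N7717 (tt N4914 (iv D8620)) (tt N9550 (iv F13519)) (tt N4918 F9734) (tt N4975 F9736) (tt N5585 F9735))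
theorem Q7719 : ∀ i, i < 7719 → P i := stepQ 7718 Q7718 (allL N7718 (tt N4919 (iv D8621)) (tt N5267 F9739) (tt N6292 F9737) (tt N5001 F9738) (tt N5182 F9740))
theorem Q7720 : ∀ i, i < 7720 → P i := stepQ 7719 Q7719 (allL N7719 (tt N5182 F9741) (tt N8175 (iv F10597)) (tt N5585 F9742) (tt N4983 F9743) (tt N4919 (iv D8622)))
theorem Q7721 : ∀ i, i < 7721 → P i := stepQ 7720 Q7720 (allL N7720 (tt N6620 F9744) (tt N5054 F9745) (tt N8501 (iv F11264)) (tt N4933 F9746) (tt N4923 (iv D8623)))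
theorem Q7722 : ∀ i, i < 7722 → P i := stepQ 7721 Q7721 (allL N7721 (tt N9249 (iv F12873)) (tt N9811 D10726) (tt N4925 (iv D8624)) (tt N4937 F9747) (tt N9812 D10727))
theorem Q7723 : ∀ i, i < 7723 → P i := stepQ 7722 Q7722 (allL N7722 (tt N6018 F9748) (tt N7722 F9749) (tt N8853 (iv F11960)) (tt N4926 (iv D8625)) (tt N4943 F9750))
theorem Q7724 : ∀ i, i < 7724 → P i := stepQ 7723 Q7723 (allL N7723 (tt N4928 F9751) (tt N7723 F9752) (tt N5185 F9754) (tt N4942 F9753) (tt N4926 (iv D8626)))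
theorem Q7725 : ∀ i, i < 7725 → P i := stepQ 7724 Q7724 (allL N7724 (tt N5588 F9755) (tt N4928 F9756) (tt N8006 (iv F10275)) (tt N4945 F9757) (tt N4927 (iv D8627)))
theorem Q7726 : ∀ i, i < 7726 → P i := stepQ 7725 Q7725 (allL N7725 (tt N8209 (iv F10675)) (tt N4929 (iv D8628)) (tt N9452 (iv F13306)) (tt N4963 F9758) (tt N8208 (iv F10673)))
theorem Q7727 : ∀ i, i < 7727 → P i := stepQ 7726 Q7726 (allL N7726 (tt N9470 (iv F13357)) (tt N8208 F10674) (tt N8502 (iv F11267)) (tt N4967 F9759) (tt N4929 (iv D8629)))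
theorem Q7728 : ∀ i, i < 7728 → P i := stepQ 7727 Q7727 (allL N7727 (tt N8448 (iv F11159)) (tt N5098 F9760) (tt N4933 (iv D8630)) (tt N8501 (iv F11265)) (tt N8534 (iv F11334)))
theorem Q7729 : ∀ i, i < 7729 → P i := stepQ 7728 Q7728 (allL N7728 (tt N9813 D10728) (tt N4935 (iv D8631)) (tt N7982 (iv F10226)) (tt N6408 F9761) (tt N8297 (iv F10855)))
theorem Q7730 : ∀ i, i < 7730 → P i := stepQ 7729 Q7729 (allL N7729 (tt N4942 F9762) (tt N8297 (iv F10853)) (tt N8448 (iv F11158)) (tt N6019 F9763) (tt N4935 (iv D8632)))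
theorem Q7731 : ∀ i, i < 7731 → P i := stepQ 7730 Q7730 (allL N7730 (tt N7872 (iv F10024)) (tt N9814 D10729) (tt N4936 (iv D8633)) (tt N6020 F9764) (tt N9473 (iv F13367)))
theorem Q7732 : ∀ i, i < 7732 → P i := stepQ 7731 Q7731 (allL N7731 (tt N4937 (iv D8634)) (tt N7507 F9796) (tt N8893 (iv F12029)) (tt N7505 (iv F9795)) (tt N9815 D10730))
theorem Q7733 : ∀ i, i < 7733 → P i := stepQ 7732 Q7732 (allL N7732 (tt N9816 D10731) (tt N4937 (iv D8635)) (tt N5070 F9765) (tt N9811 (iv F14168)) (tt N8123 (iv F11340)))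
theorem Q7734 : ∀ i, i < 7734 → P i := stepQ 7733 Q7733 (allL N7733 (tt N9815 (iv F14175)) (tt N8123 F11337) (tt N8534 F11338) (tt N4940 F11339) (tt N4937 (iv D8636)))
theorem Q7735 : ∀ i, i < 7735 → P i := stepQ 7734 Q7734 (allL N7734 (tt N9817 D10732) (tt N4939 F9766) (tt N5074 F9767) (tt N4938 (iv D8637)) (tt N9818 D10733))
theorem Q7736 : ∀ i, i < 7736 → P i := stepQ 7735 Q7735 (allL N7735 (tt N4939 (iv D8638)) (tt N7539 (iv F9791)) (tt N8894 (iv F12031)) (tt N7537 F9790) (tt N9819 D10734))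
theorem Q7737 : ∀ i, i < 7737 → P i := stepQ 7736 Q7736 (allL N7736 (tt N9819 (iv F14183)) (tt N9818 (iv F14181)) (tt N8533 (iv F11331)) (tt N9812 (iv F14169)) (tt N4939 (iv D8639)))
theorem Q7738 : ∀ i, i < 7738 → P i := stepQ 7737 Q7737 (allL N7737 (tt N8368 (iv F11012)) (tt N5089 F9769) (tt N4942 (iv D8641)) (tt N5185 F9768) (tt N5192 (iv F9770)))
theorem Q7739 : ∀ i, i < 7739 → P i := stepQ 7738 Q7738 (allL N7738 (tt N4943 (iv D8642)) (tt N8313 (iv F10891)) (tt N8532 (iv F11327)) (tt N6456 F9771) (tt N6018 F9772))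
theorem Q7740 : ∀ i, i < 7740 → P i := stepQ 7739 Q7739 (allL N7739 (tt N4945 F9773) (tt N5577 F9774) (tt N6101 F9775) (tt N5576 F9776) (tt N4944 (iv D8643)))
theorem Q7741 : ∀ i, i < 7741 → P i := stepQ 7740 Q7740 (allL N7740 (tt N4946 (iv D8644)) (tt N5607 F9780) (tt N5590 F9777) (tt N5606 F9778) (tt N6614 F9779))
theorem Q7742 : ∀ i, i < 7742 → P i := stepQ 7741 Q7741 (allL N7741 (tt N4947 (iv D8645)) (tt N8945 (iv F12143)) (tt N5007 F9781) (tt N6013 (iv F9782)) (tt N9804 (iv F14153)))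
theorem Q7743 : ∀ i, i < 7743 → P i := stepQ 7742 Q7742 (allL N7742 (tt N6622 F9783) (tt N6187 F9784) (tt N4962 F9785) (tt N6184 (iv F9786)) (tt N4948 (iv D8646)))
theorem Q7744 : ∀ i, i < 7744 → P i := stepQ 7743 Q7743 (allL N7743 (tt N4951 (iv D8647)) (tt N7914 (iv F10116)) (tt N4958 F9787) (tt N7909 (iv F10107)) (tt N8536 (iv F11343)))
theorem Q7745 : ∀ i, i < 7745 → P i := stepQ 7744 Q7744 (allL N7744 (tt N7537 F9789) (tt N7903 (iv F10095)) (tt N4959 (iv D8648)) (tt N4969 F9788) (tt N9820 D10735))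
theorem Q7746 : ∀ i, i < 7746 → P i := stepQ 7745 Q7745 (allL N7745 (tt N4960 (iv D8649)) (tt N9251 (iv F12877)) (tt N6622 F9792) (tt N9249 F12875) (tt N9258 (iv F12896)))
theorem Q7747 : ∀ i, i < 7747 → P i := stepQ 7746 Q7746 (allL N7746 (tt N9821 D10736) (tt N4960 (iv D8650)) (tt N7895 (iv F10076)) (tt N7894 F10074) (tt N9822 D10737))
theorem Q7748 : ∀ i, i < 7748 → P i := stepQ 7747 Q7747 (allL N7747 (tt N7505 F9794) (tt N7894 (iv F10073)) (tt N4961 F9793) (tt N4960 (iv D8651)) (tt N9823 D10738))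
theorem Q7749 : ∀ i, i < 7749 → P i := stepQ 7748 Q7748 (allL N7748 (tt N9258 (iv F12895)) (tt N9822 (iv F14190)) (tt N8536 (iv F11344)) (tt N9820 (iv F14189)) (tt N4960 (iv D8652)))
theorem Q7750 : ∀ i, i < 7750 → P i := stepQ 7749 Q7749 (allL N7749 (tt N4964 F9797) (tt N7461 F9798) (tt N8370 (iv F11020)) (tt N7555 (iv F9799)) (tt N4962 (iv D8653)))
theorem Q7751 : ∀ i, i < 7751 → P i := stepQ 7750 Q7750 (allL N7750 (tt N4963 (iv D8654)) (tt N8302 (iv F10867)) (tt N6529 F9801) (tt N7776 (iv F9862)) (tt N6518 F9800))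
theorem Q7752 : ∀ i, i < 7752 → P i := stepQ 7751 Q7751 (allL N7751 (tt N4965 (iv D8655)) (tt N8303 (iv F10868)) (tt N6524 F9804) (tt N7703 F9802) (tt N6507 F9803))
theorem Q7753 : ∀ i, i < 7753 → P i := stepQ 7752 Q7752 (allL N7752 (tt N6623 F9805) (tt N6186 F9806) (tt N4966 (iv D8656)) (tt N6438 F9807) (tt N6183 F9808))
theorem Q7754 : ∀ i, i < 7754 → P i := stepQ 7753 Q7753 (allL N7753 (tt N4967 F9809) (tt N7462 F9810) (tt N8371 (iv F11023)) (tt N7460 F9811) (tt N4966 (iv D8657)))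
theorem Q7755 : ∀ i, i < 7755 → P i := stepQ 7754 Q7754 (allL N7754 (tt N9824 D10739) (tt N4969 (iv D8658)) (tt N7904 (iv F10098)) (tt N7903 F10096) (tt N9825 D10740))
theorem Q7756 : ∀ i, i < 7756 → P i := stepQ 7755 Q7755 (allL N7755 (tt N9257 (iv F12889)) (tt N9825 (iv F14197)) (tt N8535 (iv F11342)) (tt N9823 (iv F14195)) (tt N4969 (iv D8659)))
theorem Q7757 : ∀ i, i < 7757 → P i := stepQ 7756 Q7756 (allL N7756 (tt N8398 (iv F11074)) (tt N4973 (iv D8660)) (tt N6592 F9812) (tt N9734 (iv F13974)) (tt N9538 (iv F13499)))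
theorem Q7758 : ∀ i, i < 7758 → P i := stepQ 7757 Q7757 (allL N7757 (tt N8920 (iv F12082)) (tt N9734 (iv F13973)) (tt N8714 (iv F11702)) (tt N4973 (iv D8661)) (tt N9541 (iv F13505)))
theorem Q7759 : ∀ i, i < 7759 → P i := stepQ 7758 Q7758 (allL N7758 (tt N4975 (iv D8662)) (tt N5768 (iv F9817)) (tt N4978 F9813) (tt N5764 F9814) (tt N5596 F9815))
theorem Q7760 : ∀ i, i < 7760 → P i := stepQ 7759 Q7759 (allL N7759 (tt N4976 (iv D8663)) (tt N5766 (iv F9823)) (tt N4989 F9820) (tt N5884 F9821) (tt N5763 F9822))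
theorem Q7761 : ∀ i, i < 7761 → P i := stepQ 7760 Q7760 (allL N7760 (tt N5763 F9824) (tt N9555 (iv F13531)) (tt N4983 F9825) (tt N5585 F9826) (tt N4976 (iv D8664)))
theorem Q7762 : ∀ i, i < 7762 → P i := stepQ 7761 Q7761 (allL N7761 (tt N4990 (iv D8665)) (tt N5026 F9827) (tt N5251 F9828) (tt N8892 (iv F12027)) (tt N7410 F9829))
theorem Q7763 : ∀ i, i < 7763 → P i := stepQ 7762 Q7762 (allL N7762 (tt N4992 (iv D8666)) (tt N6332 F9830) (tt N5037 F9831) (tt N9743 (iv F13998)) (tt N9624 (iv F13700)))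
theorem Q7764 : ∀ i, i < 7764 → P i := stepQ 7763 Q7763 (allL N7763 (tt N8568 (iv F11401)) (tt N4995 (iv D8667)) (tt N7342 F9832) (tt N7341 F9833) (tt N5598 F9834))
theorem Q7765 : ∀ i, i < 7765 → P i := stepQ 7764 Q7764 (allL N7764 (tt N5248 F9835) (tt N4998 (iv D8668)) (tt N5022 F9836) (tt N6647 (iv F9837)) (tt N9826 D10741))
theorem Q7766 : ∀ i, i < 7766 → P i := stepQ 7765 Q7765 (allL N7765 (tt N7065 F9840) (tt N6647 F9838) (tt N6463 F9839) (tt N4998 (iv D8669)) (tt N8644 (iv F11565)))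
theorem Q7767 : ∀ i, i < 7767 → P i := stepQ 7766 Q7766 (allL N7766 (tt N5000 F9841) (tt N9826 (iv F14201)) (tt N8276 (iv F10803)) (tt N8642 (iv F11560)) (tt N4998 (iv D8670)))
theorem Q7768 : ∀ i, i < 7768 → P i := stepQ 7767 Q7767 (allL N7767 (tt N5002 (iv D8671)) (tt N9827 D10742) (tt N8973 (iv F12215)) (tt N9828 D10743) (tt N8042 F10346))
theorem Q7769 : ∀ i, i < 7769 → P i := stepQ 7768 Q7768 (allL N7768 (tt N8042 (iv F10344)) (tt N5003 F9842) (tt N5616 F9843) (tt N5616 F9844) (tt N5002 (iv D8672)))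
theorem Q7770 : ∀ i, i < 7770 → P i := stepQ 7769 Q7769 (allL N7769 (tt N5006 F9845) (tt N5021 F9846) (tt N5195 F9848) (tt N7609 F9847) (tt N5005 (iv D8673)))
theorem Q7771 : ∀ i, i < 7771 → P i := stepQ 7770 Q7770 (allL N7770 (tt N5008 (iv D8674)) (tt N9709 (iv F13910)) (tt N8896 (iv F12035)) (tt N9707 F13908) (tt N9829 D10744))
theorem Q7772 : ∀ i, i < 7772 → P i := stepQ 7771 Q7771 (allL N7771 (tt N9830 D10745) (tt N5008 (iv D8675)) (tt N8259 F10772) (tt N9195 (iv F12751)) (tt N9831 D10746))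
theorem Q7773 : ∀ i, i < 7773 → P i := stepQ 7772 Q7772 (allL N7772 (tt N9829 (iv F14208)) (tt N9831 (iv F14211)) (tt N8539 (iv F11350)) (tt N9803 (iv F14150)) (tt N5008 (iv D8676)))
theorem Q7774 : ∀ i, i < 7774 → P i := stepQ 7773 Q7773 (allL N7773 (tt N7598 F9849) (tt N6443 (iv F9850)) (tt N5014 (iv D8677)) (tt N6441 F9851) (tt N9662 (iv F13810)))
theorem Q7775 : ∀ i, i < 7775 → P i := stepQ 7774 Q7774 (allL N7774 (tt N6013 F9855) (tt N7774 F9856) (tt N6441 F9857) (tt N5014 (iv D8678)) (tt N8363 (iv F11004)))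
theorem Q7776 : ∀ i, i < 7776 → P i := stepQ 7775 Q7775 (allL N7775 (tt N5018 F9858) (tt N7166 F9859) (tt N5197 F9860) (tt N7188 F9861) (tt N5016 (iv D8679)))
theorem Q7777 : ∀ i, i < 7777 → P i := stepQ 7776 Q7776 (allL N7776 (tt N5017 (iv D8680)) (tt N5609 F9863) (tt N7792 (iv F9901)) (tt N7750 F9862) (tt N8947 (iv F12150)))
theorem Q7778 : ∀ i, i < 7778 → P i := stepQ 7777 Q7777 (allL N7777 (tt N8947 (iv F12151)) (tt N5018 F9864) (tt N8985 (iv F12245)) (tt N5466 F9865) (tt N5017 (iv D8681)))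
theorem Q7779 : ∀ i, i < 7779 → P i := stepQ 7778 Q7778 (allL N7778 (tt N6451 F9866) (tt N6462 F9867) (tt N9832 D10747) (tt N9678 (iv F13849)) (tt N5019 (iv D8682)))
theorem Q7780 : ∀ i, i < 7780 → P i := stepQ 7779 Q7779 (allL N7779 (tt N9832 (iv F14213)) (tt N7354 F9868) (tt N5020 (iv D8683)) (tt N9682 (iv F13859)) (tt N8542 (iv F11355)))
theorem Q7781 : ∀ i, i < 7781 → P i := stepQ 7780 Q7780 (allL N7780 (tt N5023 F9869) (tt N5198 F9870) (tt N8031 (iv F10332)) (tt N6598 F9871) (tt N5022 (iv D8684)))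
theorem Q7782 : ∀ i, i < 7782 → P i := stepQ 7781 Q7781 (allL N7781 (tt N5025 (iv D8685)) (tt N6477 F9872) (tt N9638 (iv F13743)) (tt N6650 F9874) (tt N6581 F9873))
theorem Q7783 : ∀ i, i < 7783 → P i := stepQ 7782 Q7782 (allL N7782 (tt N6438 F9877) (tt N7410 F9878) (tt N7537 F9879) (tt N8894 (iv F12032)) (tt N5026 (iv D8686)))
theorem Q7784 : ∀ i, i < 7784 → P i := stepQ 7783 Q7783 (allL N7783 (tt N7558 F9880) (tt N6420 F9881) (tt N8261 (iv F10773)) (tt N6612 F9882) (tt N5029 (iv D8687)))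
theorem Q7785 : ∀ i, i < 7785 → P i := stepQ 7784 Q7784 (allL N7784 (tt N5909 F9883) (tt N9609 (iv F13658)) (tt N5032 (iv D8688)) (tt N7875 (iv F10032)) (tt N7871 F10021))
theorem Q7786 : ∀ i, i < 7786 → P i := stepQ 7785 Q7785 (allL N7785 (tt N7560 F9884) (tt N5620 F9885) (tt N5033 (iv D8689)) (tt N6532 F9886) (tt N6520 (iv F9887)))
theorem Q7787 : ∀ i, i < 7787 → P i := stepQ 7786 Q7786 (allL N7786 (tt N5040 F9888) (tt N6451 F9889) (tt N7363 F9890) (tt N9788 (iv F14115)) (tt N5037 (iv D8690)))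
theorem Q7788 : ∀ i, i < 7788 → P i := stepQ 7787 Q7787 (allL N7787 (tt N6464 F9891) (tt N5040 F9892) (tt N7614 F9894) (tt N6228 F9893) (tt N5038 (iv D8691)))
theorem Q7789 : ∀ i, i < 7789 → P i := stepQ 7788 Q7788 (allL N7788 (tt N5043 F9895) (tt N9833 D10748) (tt N5040 (iv D8692)) (tt N9789 (iv F14119)) (tt N8545 (iv F11363)))
theorem Q7790 : ∀ i, i < 7790 → P i := stepQ 7789 Q7789 (allL N7789 (tt N5041 (iv D8693)) (tt N8575 (iv F11417)) (tt N9624 (iv F13699)) (tt N9797 (iv F14137)) (tt N8574 F11416))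
theorem Q7791 : ∀ i, i < 7791 → P i := stepQ 7790 Q7790 (allL N7790 (tt N8973 (iv F12213)) (tt N5041 (iv D8694)) (tt N5615 F9896) (tt N7623 F9897) (tt N8955 (iv F12169)))
theorem Q7792 : ∀ i, i < 7792 → P i := stepQ 7791 Q7791 (allL N7791 (tt N8574 (iv F11415)) (tt N8955 (iv F12170)) (tt N8545 (iv F11364)) (tt N8954 F12166) (tt N5041 (iv D8695)))
theorem Q7793 : ∀ i, i < 7793 → P i := stepQ 7792 Q7792 (allL N7792 (tt N5044 (iv D8696)) (tt N6476 F9898) (tt N7776 F9901) (tt N6529 F9899) (tt N6474 F9900))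
theorem Q7794 : ∀ i, i < 7794 → P i := stepQ 7793 Q7793 (allL N7793 (tt N5047 (iv D8697)) (tt N5926 F9902) (tt N9613 (iv F13668)) (tt N9751 (iv F14023)) (tt N9749 F14018))
theorem Q7795 : ∀ i, i < 7795 → P i := stepQ 7794 Q7794 (allL N7794 (tt N6479 F9903) (tt N5047 (iv D8698)) (tt N5619 F9904) (tt N5619 F9905) (tt N5549 F9906))
theorem Q7796 : ∀ i, i < 7796 → P i := stepQ 7795 Q7795 (allL N7795 (tt N5310 F9907) (tt N6590 F9908) (tt N6163 F9909) (tt N5049 (iv D8699)) (tt N8710 (iv F11687)))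
theorem Q7797 : ∀ i, i < 7797 → P i := stepQ 7796 Q7796 (allL N7796 (tt N5311 F9910) (tt N7088 F9911) (tt N5055 F9912) (tt N5052 F9913) (tt N5050 (iv D8700)))
theorem Q7798 : ∀ i, i < 7798 → P i := stepQ 7797 Q7797 (allL N7797 (tt N5052 F9914) (tt N9733 (iv F13971)) (tt N5058 F9915) (tt N8710 (iv F11686)) (tt N5051 (iv D8701)))
theorem Q7799 : ∀ i, i < 7799 → P i := stepQ 7798 Q7798 (allL N7798 (tt N7576 F9916) (tt N5053 (iv D8702)) (tt N9834 D10749) (tt N8709 (iv F11684)) (tt N7575 F9917))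
theorem Q7800 : ∀ i, i < 7800 → P i := stepQ 7799 Q7799 (allL N7799 (tt N7581 F9918) (tt N5056 (iv D8703)) (tt N9835 D10750) (tt N8699 (iv F11669)) (tt N7580 (iv F9919)))
theorem Q7801 : ∀ i, i < 7801 → P i := stepQ 7800 Q7800 (allL N7800 (tt N5057 F9920) (tt N7580 F9921) (tt N6162 F9922) (tt N6161 F9923) (tt N5056 (iv D8704)))
theorem Q7802 : ∀ i, i < 7802 → P i := stepQ 7801 Q7801 (allL N7801 (tt N6673 F9924) (tt N5073 F9925) (tt N7077 F9926) (tt N5062 F9927) (tt N5060 (iv D8705)))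
theorem Q7803 : ∀ i, i < 7803 → P i := stepQ 7802 Q7802 (allL N7802 (tt N5062 F9928) (tt N7641 F9929) (tt N7802 F9930) (tt N7650 F9931) (tt N5061 (iv D8706)))
theorem Q7804 : ∀ i, i < 7804 → P i := stepQ 7803 Q7803 (allL N7803 (tt N8679 (iv F11633)) (tt N5065 F9932) (tt N8671 (iv F11618)) (tt N8235 (iv F10728)) (tt N5063 (iv D8707)))
theorem Q7805 : ∀ i, i < 7805 → P i := stepQ 7804 Q7804 (allL N7804 (tt N5139 F9933) (tt N8234 (iv F10723)) (tt N5112 F9934) (tt N5111 F9935) (tt N5064 (iv D8708)))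
theorem Q7806 : ∀ i, i < 7806 → P i := stepQ 7805 Q7805 (allL N7805 (tt N5140 F9936) (tt N8235 (iv F10726)) (tt N5095 F9937) (tt N5065 (iv D8709)) (tt N9836 D10751))
theorem Q7807 : ∀ i, i < 7807 → P i := stepQ 7806 Q7806 (allL N7806 (tt N5141 F9939) (tt N9837 D10752) (tt N5066 (iv D8710)) (tt N5077 F9938) (tt N9838 D10753))
theorem Q7808 : ∀ i, i < 7808 → P i := stepQ 7807 Q7807 (allL N7807 (tt N9839 D10754) (tt N5067 (iv D8711)) (tt N9840 D10755) (tt N9841 D10756) (tt N9842 D10757))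
theorem Q7809 : ∀ i, i < 7809 → P i := stepQ 7808 Q7808 (allL N7808 (tt N5143 F9940) (tt N9841 (iv F14233)) (tt N5068 F9941) (tt N5067 (iv D8712)) (tt N9843 D10758))
theorem Q7810 : ∀ i, i < 7810 → P i := stepQ 7809 Q7809 (allL N7809 (tt N5129 F9942) (tt N9842 (iv F14239)) (tt N5096 F9943) (tt N9838 (iv F14230)) (tt N5067 (iv D8713)))
theorem Q7811 : ∀ i, i < 7811 → P i := stepQ 7810 Q7810 (allL N7810 (tt N5168 F9944) (tt N6645 F9945) (tt N9836 (iv F14222)) (tt N5078 F9946) (tt N5068 (iv D8714)))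
theorem Q7812 : ∀ i, i < 7812 → P i := stepQ 7811 Q7811 (allL N7811 (tt N9222 F12829) (tt N5069 (iv D8715)) (tt N9844 D10759) (tt N9281 (iv F12930)) (tt N9845 D10760))
theorem Q7813 : ∀ i, i < 7813 → P i := stepQ 7812 Q7812 (allL N7812 (tt N5147 F9947) (tt N9281 (iv F12929)) (tt N5087 F9948) (tt N5069 (iv D8716)) (tt N9846 D10761))
theorem Q7814 : ∀ i, i < 7814 → P i := stepQ 7813 Q7813 (allL N7813 (tt N5072 F9949) (tt N9845 (iv F14245)) (tt N5092 F9950) (tt N9847 D10762) (tt N5069 (iv D8717)))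
theorem Q7815 : ∀ i, i < 7815 → P i := stepQ 7814 Q7814 (allL N7814 (tt N5070 (iv D8718)) (tt N9848 D10763) (tt N7103 F9951) (tt N9849 D10764) (tt N8122 (iv F10517)))
theorem Q7816 : ∀ i, i < 7816 → P i := stepQ 7815 Q7815 (allL N7815 (tt N8121 (iv F10514)) (tt N5071 F9952) (tt N9811 (iv F14167)) (tt N5070 (iv D8719)) (tt N8120 (iv F10513)))
theorem Q7817 : ∀ i, i < 7817 → P i := stepQ 7816 Q7816 (allL N7816 (tt N5151 F9953) (tt N8120 (iv F10511)) (tt N5102 F9954) (tt N5076 F9955) (tt N5071 (iv D8720)))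
theorem Q7818 : ∀ i, i < 7818 → P i := stepQ 7817 Q7817 (allL N7817 (tt N5074 (iv D8721)) (tt N9850 D10765) (tt N7113 F9956) (tt N9851 D10766) (tt N9852 D10767))
theorem Q7819 : ∀ i, i < 7819 → P i := stepQ 7818 Q7818 (allL N7818 (tt N9852 (iv F14266)) (tt N5076 F9957) (tt N7114 F13275) (tt N8120 (iv F10512)) (tt N5074 (iv D8722)))
theorem Q7820 : ∀ i, i < 7820 → P i := stepQ 7819 Q7819 (allL N7819 (tt N9272 (iv F12920)) (tt N5075 (iv D8723)) (tt N9853 D10768) (tt N9231 F12839) (tt N9854 D10769))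
theorem Q7821 : ∀ i, i < 7821 → P i := stepQ 7820 Q7820 (allL N7820 (tt N5155 F9958) (tt N9231 (iv F12838)) (tt N5086 F9959) (tt N5075 (iv D8724)) (tt N9847 (iv F14251)))
theorem Q7822 : ∀ i, i < 7822 → P i := stepQ 7821 Q7821 (allL N7821 (tt N5076 F9960) (tt N9854 (iv F14269)) (tt N5117 F9961) (tt N9846 (iv F14248)) (tt N5075 (iv D8725)))
theorem Q7823 : ∀ i, i < 7823 → P i := stepQ 7822 Q7822 (allL N7822 (tt N9855 D10770) (tt N5077 (iv D8726)) (tt N9856 D10771) (tt N9837 (iv F14225)) (tt N9857 D10772))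
theorem Q7824 : ∀ i, i < 7824 → P i := stepQ 7823 Q7823 (allL N7823 (tt N5133 F9962) (tt N9857 (iv F14274)) (tt N5113 F9963) (tt N9843 (iv F14244)) (tt N5077 (iv D8727)))
theorem Q7825 : ∀ i, i < 7825 → P i := stepQ 7824 Q7824 (allL N7824 (tt N5126 F9964) (tt N9858 D10773) (tt N5078 (iv D8728)) (tt N9836 (iv F14221)) (tt N5111 F9965))
theorem Q7826 : ∀ i, i < 7826 → P i := stepQ 7825 Q7825 (allL N7825 (tt N8141 (iv F10535)) (tt N7993 (iv F10248)) (tt N5081 F9966) (tt N5080 (iv D8729)) (tt N7061 (iv F9967)))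
theorem Q7827 : ∀ i, i < 7827 → P i := stepQ 7826 Q7826 (allL N7826 (tt N7826 F9968) (tt N7994 (iv F10252)) (tt N6308 F9969) (tt N6905 (iv F9970)) (tt N5080 (iv D8730)))
theorem Q7828 : ∀ i, i < 7828 → P i := stepQ 7827 Q7827 (allL N7827 (tt N5085 F9971) (tt N9755 (iv F14035)) (tt N9332 F13044) (tt N9331 (iv F13045)) (tt N5082 (iv D8731)))
theorem Q7829 : ∀ i, i < 7829 → P i := stepQ 7828 Q7828 (allL N7828 (tt N9323 (iv F13028)) (tt N7196 F9972) (tt N9859 D10774) (tt N7205 (iv F9973)) (tt N5083 (iv D8732)))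
theorem Q7830 : ∀ i, i < 7830 → P i := stepQ 7829 Q7829 (allL N7829 (tt N6725 F9975) (tt N5086 F9976) (tt N9309 (iv F12992)) (tt N5134 (iv F9977)) (tt N5084 (iv D8733)))
theorem Q7831 : ∀ i, i < 7831 → P i := stepQ 7830 Q7830 (allL N7830 (tt N9325 (iv F13033)) (tt N9520 (iv F13461)) (tt N5085 (iv D8734)) (tt N9317 F13014) (tt N9860 D10775))
theorem Q7832 : ∀ i, i < 7832 → P i := stepQ 7831 Q7831 (allL N7831 (tt N9156 (iv F12658)) (tt N5087 F9978) (tt N9317 (iv F13013)) (tt N5085 (iv D8735)) (tt N9861 D10776))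
theorem Q7833 : ∀ i, i < 7833 → P i := stepQ 7832 Q7832 (allL N7832 (tt N5145 F9979) (tt N9861 (iv F14282)) (tt N5093 F9981) (tt N5118 F9980) (tt N5087 (iv D8736)))
theorem Q7834 : ∀ i, i < 7834 → P i := stepQ 7833 Q7833 (allL N7833 (tt N9182 (iv F12720)) (tt N5088 (iv D8737)) (tt N8020 (iv F10304)) (tt N5116 F9982) (tt N9862 D10777))
theorem Q7835 : ∀ i, i < 7835 → P i := stepQ 7834 Q7834 (allL N7834 (tt N5180 F9983) (tt N9862 (iv F14286)) (tt N9847 (iv F14250)) (tt N5092 F9984) (tt N5088 (iv D8738)))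
theorem Q7836 : ∀ i, i < 7836 → P i := stepQ 7835 Q7835 (allL N7835 (tt N5090 (iv D8739)) (tt N9863 D10778) (tt N8154 (iv F14050)) (tt N8153 F14049) (tt N9864 D10779))
theorem Q7837 : ∀ i, i < 7837 → P i := stepQ 7836 Q7836 (allL N7836 (tt N9865 D10780) (tt N7992 (iv F10243)) (tt N5090 (iv D8740)) (tt N9513 (iv F13447)) (tt N9508 F13437))
theorem Q7838 : ∀ i, i < 7838 → P i := stepQ 7837 Q7837 (allL N7837 (tt N9190 (iv F12740)) (tt N5091 F9985) (tt N9513 (iv F13448)) (tt N5090 (iv D8741)) (tt N9866 D10781))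
theorem Q7839 : ∀ i, i < 7839 → P i := stepQ 7838 Q7838 (allL N7838 (tt N9864 (iv F14292)) (tt N5092 F9986) (tt N9867 D10782) (tt N9862 F14288) (tt N5090 (iv D8742)))
theorem Q7840 : ∀ i, i < 7840 → P i := stepQ 7839 Q7839 (allL N7839 (tt N5179 F9987) (tt N9866 (iv F14296)) (tt N9846 (iv F14247)) (tt N5117 F9988) (tt N5091 (iv D8743)))
theorem Q7841 : ∀ i, i < 7841 → P i := stepQ 7840 Q7840 (allL N7840 (tt N8450 (iv F11164)) (tt N9868 D10783) (tt N5094 (iv D8744)) (tt N9869 D10784) (tt N9870 D10785))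
theorem Q7842 : ∀ i, i < 7842 → P i := stepQ 7841 Q7841 (allL N7841 (tt N8463 (iv F11180)) (tt N5095 F9989) (tt N9869 (iv F14306)) (tt N5094 (iv D8745)) (tt N9871 D10786))
theorem Q7843 : ∀ i, i < 7843 → P i := stepQ 7842 Q7842 (allL N7842 (tt N8436 (iv F11143)) (tt N5096 F9990) (tt N9872 D10787) (tt N9873 D10788) (tt N5094 (iv D8746)))
theorem Q7844 : ∀ i, i < 7844 → P i := stepQ 7843 Q7843 (allL N7843 (tt N5175 F9991) (tt N9871 (iv F14308)) (tt N9843 (iv F14243)) (tt N5113 F9992) (tt N5095 (iv D8747)))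
theorem Q7845 : ∀ i, i < 7845 → P i := stepQ 7844 Q7844 (allL N7844 (tt N5170 F9993) (tt N9873 (iv F14310)) (tt N9838 (iv F14229)) (tt N5096 (iv D8748)) (tt N5112 F9994))
theorem Q7846 : ∀ i, i < 7846 → P i := stepQ 7845 Q7845 (allL N7845 (tt N8435 (iv F11140)) (tt N5097 (iv D8749)) (tt N8167 (iv F10582)) (tt N8166 F10579) (tt N9765 (iv F14064)))
theorem Q7847 : ∀ i, i < 7847 → P i := stepQ 7846 Q7846 (allL N7846 (tt N8047 (iv F10360)) (tt N8166 (iv F10578)) (tt N7846 F9995) (tt N5097 (iv D8750)) (tt N9762 (iv F14053)))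
theorem Q7848 : ∀ i, i < 7848 → P i := stepQ 7847 Q7847 (allL N7847 (tt N5100 F9996) (tt N9765 (iv F14062)) (tt N9874 D10789) (tt N9764 F14060) (tt N5097 (iv D8751)))
theorem Q7849 : ∀ i, i < 7849 → P i := stepQ 7848 Q7848 (allL N7848 (tt N5098 (iv D8752)) (tt N9875 D10790) (tt N7848 F9997) (tt N9876 D10791) (tt N9877 D10792))
theorem Q7850 : ∀ i, i < 7850 → P i := stepQ 7849 Q7849 (allL N7849 (tt N8305 (iv F10874)) (tt N8501 (iv F11263)) (tt N5099 F9998) (tt N5098 (iv D8753)) (tt N9878 D10793))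
theorem Q7851 : ∀ i, i < 7851 → P i := stepQ 7850 Q7850 (allL N7850 (tt N9877 (iv F14320)) (tt N8534 F11335) (tt N8882 (iv F12014)) (tt N5107 F11336) (tt N5098 (iv D8754)))
theorem Q7852 : ∀ i, i < 7852 → P i := stepQ 7851 Q7851 (allL N7851 (tt N5099 (iv D8755)) (tt N8507 (iv F11278)) (tt N7851 F9999) (tt N8376 (iv F11035)) (tt N9130 (iv F12587)))
theorem Q7853 : ∀ i, i < 7853 → P i := stepQ 7852 Q7852 (allL N7852 (tt N9130 (iv F12588)) (tt N5102 F10000) (tt N9551 (iv F13523)) (tt N5109 F10001) (tt N5099 (iv D8756)))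
theorem Q7854 : ∀ i, i < 7854 → P i := stepQ 7853 Q7853 (allL N7853 (tt N5102 F10002) (tt N8473 (iv F11195)) (tt N6654 F10003) (tt N5103 F10004) (tt N5101 (iv D8757)))
theorem Q7855 : ∀ i, i < 7855 → P i := stepQ 7854 Q7854 (allL N7854 (tt N5106 (iv D8758)) (tt N9879 D10794) (tt N7854 F10005) (tt N9880 D10795) (tt N9881 D10796))
theorem Q7856 : ∀ i, i < 7856 → P i := stepQ 7855 Q7855 (allL N7855 (tt N9881 (iv F14327)) (tt N8533 (iv F11330)) (tt N8885 (iv F13278)) (tt N9878 (iv F14323)) (tt N5106 (iv D8759)))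
theorem Q7857 : ∀ i, i < 7857 → P i := stepQ 7856 Q7856 (allL N7856 (tt N8549 (iv F11372)) (tt N5108 (iv D8761)) (tt N8187 (iv F10624)) (tt N8186 F10622) (tt N9763 (iv F14058)))
theorem Q7858 : ∀ i, i < 7858 → P i := stepQ 7857 Q7857 (allL N7857 (tt N8059 (iv F10388)) (tt N8186 (iv F10621)) (tt N7857 F10006) (tt N5108 (iv D8762)) (tt N9764 (iv F14059)))
theorem Q7859 : ∀ i, i < 7859 → P i := stepQ 7858 Q7858 (allL N7858 (tt N5109 F10007) (tt N9763 (iv F14056)) (tt N9882 D10797) (tt N9762 F14054) (tt N5108 (iv D8763)))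
theorem Q7860 : ∀ i, i < 7860 → P i := stepQ 7859 Q7859 (allL N7859 (tt N9883 D10798) (tt N7091 F13276) (tt N5109 (iv D8764)) (tt N9551 (iv F13524)) (tt N7089 F13277))
theorem Q7861 : ∀ i, i < 7861 → P i := stepQ 7860 Q7860 (allL N7860 (tt N8556 (iv F11384)) (tt N9884 D10799) (tt N5110 (iv D8765)) (tt N9885 D10800) (tt N9886 D10801))
theorem Q7862 : ∀ i, i < 7862 → P i := stepQ 7861 Q7861 (allL N7861 (tt N8511 (iv F11289)) (tt N5112 F10008) (tt N9885 (iv F14336)) (tt N5110 (iv D8766)) (tt N9873 (iv F14311)))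
theorem Q7863 : ∀ i, i < 7863 → P i := stepQ 7862 Q7862 (allL N7862 (tt N8438 (iv F11437)) (tt N5113 F10009) (tt N9887 D10802) (tt N9871 (iv F14309)) (tt N5110 (iv D8767)))
theorem Q7864 : ∀ i, i < 7864 → P i := stepQ 7863 Q7863 (allL N7863 (tt N8680 (iv F11637)) (tt N5111 (iv D8768)) (tt N8666 (iv F11607)) (tt N8234 F10725) (tt N9858 (iv F14276)))
theorem Q7865 : ∀ i, i < 7865 → P i := stepQ 7864 Q7864 (allL N7864 (tt N7864 F10010) (tt N7998 (iv F10259)) (tt N6324 F10012) (tt N7061 F10011) (tt N5114 (iv D8769)))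
theorem Q7866 : ∀ i, i < 7866 → P i := stepQ 7865 Q7865 (allL N7865 (tt N7865 F10013) (tt N7949 (iv F10181)) (tt N5115 (iv D8770)) (tt N7060 F10014) (tt N6904 F10015))
theorem Q7867 : ∀ i, i < 7867 → P i := stepQ 7866 Q7866 (allL N7866 (tt N5116 (iv D8771)) (tt N9888 D10803) (tt N8199 (iv F14070)) (tt N8198 F14069) (tt N9889 D10804))
theorem Q7868 : ∀ i, i < 7868 → P i := stepQ 7867 Q7867 (allL N7867 (tt N9890 D10805) (tt N8021 (iv F10308)) (tt N5116 (iv D8772)) (tt N8020 F10306) (tt N9512 F13445))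
theorem Q7869 : ∀ i, i < 7869 → P i := stepQ 7868 Q7868 (allL N7868 (tt N9889 (iv F14342)) (tt N5117 F10016) (tt N9891 D10806) (tt N9866 (iv F14298)) (tt N5116 (iv D8773)))
theorem Q7870 : ∀ i, i < 7870 → P i := stepQ 7869 Q7869 (allL N7869 (tt N9892 D10807) (tt N5118 (iv D8774)) (tt N9893 D10808) (tt N9861 (iv F14283)) (tt N5134 F10017))
theorem Q7871 : ∀ i, i < 7871 → P i := stepQ 7870 Q7870 (allL N7870 (tt N9755 (iv F14034)) (tt N5120 F10018) (tt N9754 (iv F14032)) (tt N9592 (iv F13614)) (tt N5119 (iv D8775)))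
theorem Q7872 : ∀ i, i < 7872 → P i := stepQ 7871 Q7871 (allL N7871 (tt N7140 F10019) (tt N9592 (iv F13612)) (tt N7101 F10020) (tt N5120 (iv D8776)) (tt N7784 (iv F10021)))
theorem Q7873 : ∀ i, i < 7873 → P i := stepQ 7872 Q7872 (allL N7872 (tt N7730 F10024) (tt N5121 (iv D8777)) (tt N6327 (iv F10025)) (tt N7175 F10022) (tt N7179 F10023))
theorem Q7874 : ∀ i, i < 7874 → P i := stepQ 7873 Q7873 (allL N7873 (tt N8976 (iv F12224)) (tt N5130 F10027) (tt N7124 F10029) (tt N5124 F10028) (tt N5122 (iv D8778)))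
theorem Q7875 : ∀ i, i < 7875 → P i := stepQ 7874 Q7874 (allL N7874 (tt N9756 (iv F14038)) (tt N5123 (iv D8779)) (tt N9753 (iv F14028)) (tt N7330 F10030) (tt N9894 D10809))
theorem Q7876 : ∀ i, i < 7876 → P i := stepQ 7875 Q7875 (allL N7875 (tt N5124 F10031) (tt N9894 (iv F14355)) (tt N7093 F10033) (tt N7784 F10032) (tt N5123 (iv D8780)))
theorem Q7877 : ∀ i, i < 7877 → P i := stepQ 7876 Q7876 (allL N7876 (tt N6652 F10034) (tt N7876 F10035) (tt N5130 F10037) (tt N5126 F10036) (tt N5125 (iv D8781)))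
theorem Q7878 : ∀ i, i < 7878 → P i := stepQ 7877 Q7877 (allL N7877 (tt N5127 (iv D8782)) (tt N9895 D10810) (tt N6303 F10038) (tt N9203 (iv F12779)) (tt N9896 D10811))
theorem Q7879 : ∀ i, i < 7879 → P i := stepQ 7878 Q7878 (allL N7878 (tt N7015 F10041) (tt N5128 F10039) (tt N6291 F10040) (tt N5127 (iv D8783)) (tt N9897 D10812))
theorem Q7880 : ∀ i, i < 7880 → P i := stepQ 7879 Q7879 (allL N7879 (tt N9896 (iv F14359)) (tt N5129 F10042) (tt N6359 F10043) (tt N5132 F10044) (tt N5127 (iv D8784)))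
theorem Q7881 : ∀ i, i < 7881 → P i := stepQ 7880 Q7880 (allL N7880 (tt N6654 F10045) (tt N9897 (iv F14362)) (tt N5186 F10046) (tt N5133 F10047) (tt N5128 (iv D8785)))
theorem Q7882 : ∀ i, i < 7882 → P i := stepQ 7881 Q7881 (allL N7881 (tt N5131 (iv D8786)) (tt N9898 D10813) (tt N6307 F10048) (tt N9285 (iv F12941)) (tt N9899 D10814))
theorem Q7883 : ∀ i, i < 7883 → P i := stepQ 7882 Q7882 (allL N7882 (tt N9899 (iv F14367)) (tt N5133 F10049) (tt N6358 F10132) (tt N9897 (iv F14364)) (tt N5131 (iv D8787)))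
theorem Q7884 : ∀ i, i < 7884 → P i := stepQ 7883 Q7883 (allL N7883 (tt N5134 (iv D8788)) (tt N9756 (iv F14039)) (tt N9330 (iv F13042)) (tt N8144 (iv F10543)) (tt N9892 (iv F14351)))
theorem Q7885 : ∀ i, i < 7885 → P i := stepQ 7884 Q7884 (allL N7884 (tt N9327 (iv F13035)) (tt N9511 (iv F13442)) (tt N5134 (iv D8789)) (tt N9309 F12994) (tt N9900 D10815))
theorem Q7886 : ∀ i, i < 7886 → P i := stepQ 7885 Q7885 (allL N7885 (tt N7468 F10051) (tt N9591 (iv F13609)) (tt N7427 F10050) (tt N5136 (iv D8790)) (tt N9742 (iv F13996)))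
theorem Q7887 : ∀ i, i < 7887 → P i := stepQ 7886 Q7886 (allL N7886 (tt N5138 (iv D8791)) (tt N9123 (iv F12564)) (tt N7433 F10052) (tt N6536 F10053) (tt N6563 F10055))
theorem Q7888 : ∀ i, i < 7888 → P i := stepQ 7887 Q7887 (allL N7887 (tt N6563 F10056) (tt N5145 F10057) (tt N7151 F10059) (tt N5158 F10058) (tt N5138 (iv D8792)))
theorem Q7889 : ∀ i, i < 7889 → P i := stepQ 7888 Q7888 (allL N7888 (tt N9836 (iv F14220)) (tt N6883 F10060) (tt N5145 F10062) (tt N5161 F10061) (tt N5140 (iv D8793)))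
theorem Q7890 : ∀ i, i < 7890 → P i := stepQ 7889 Q7889 (allL N7889 (tt N9838 (iv F14227)) (tt N9367 (iv F13130)) (tt N5180 F10063) (tt N5144 F10064) (tt N5141 (iv D8794)))
theorem Q7891 : ∀ i, i < 7891 → P i := stepQ 7890 Q7890 (allL N7890 (tt N5142 (iv D8795)) (tt N8640 (iv F11556)) (tt N5962 F10065) (tt N9901 D10816) (tt N8638 F11552))
theorem Q7892 : ∀ i, i < 7892 → P i := stepQ 7891 Q7891 (allL N7891 (tt N8638 (iv F11551)) (tt N5144 F10066) (tt N6213 F10067) (tt N9367 F13132) (tt N5142 (iv D8796)))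
theorem Q7893 : ∀ i, i < 7893 → P i := stepQ 7892 Q7892 (allL N7892 (tt N9843 (iv F14241)) (tt N9397 (iv F13210)) (tt N5179 F10068) (tt N5160 F10069) (tt N5143 (iv D8797)))
theorem Q7894 : ∀ i, i < 7894 → P i := stepQ 7893 Q7893 (allL N7893 (tt N5146 (iv D8798)) (tt N6043 F10070) (tt N7429 F10071) (tt N9194 (iv F12746)) (tt N6041 F10072))
theorem Q7895 : ∀ i, i < 7895 → P i := stepQ 7894 Q7894 (allL N7894 (tt N8248 (iv F10748)) (tt N7747 F10073) (tt N5146 (iv D8799)) (tt N7746 (iv F10074)) (tt N8245 (iv F10745)))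
theorem Q7896 : ∀ i, i < 7896 → P i := stepQ 7895 Q7895 (allL N7895 (tt N8250 (iv F10754)) (tt N5147 F10075) (tt N7746 F10076) (tt N5146 (iv D8800)) (tt N8249 (iv F10752)))
theorem Q7897 : ∀ i, i < 7897 → P i := stepQ 7896 Q7896 (allL N7896 (tt N6041 F10077) (tt N5148 F10078) (tt N9461 (iv F13331)) (tt N8264 (iv F10782)) (tt N5146 (iv D8801)))
theorem Q7898 : ∀ i, i < 7898 → P i := stepQ 7897 Q7897 (allL N7897 (tt N9846 (iv F14246)) (tt N8249 (iv F10751)) (tt N5175 F10079) (tt N5156 F10080) (tt N5147 (iv D8802)))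
theorem Q7899 : ∀ i, i < 7899 → P i := stepQ 7898 Q7898 (allL N7898 (tt N9847 (iv F14249)) (tt N8264 (iv F10783)) (tt N5170 F10081) (tt N5148 (iv D8803)) (tt N5155 F10082))
theorem Q7900 : ∀ i, i < 7900 → P i := stepQ 7899 Q7899 (allL N7899 (tt N7524 F10084) (tt N9574 (iv F13568)) (tt N5150 F10083) (tt N5149 (iv D8804)) (tt N7524 (iv F10085)))
theorem Q7901 : ∀ i, i < 7901 → P i := stepQ 7900 Q7900 (allL N7900 (tt N7528 F10086) (tt N5294 F10087) (tt N6341 F10089) (tt N7524 F10088) (tt N5152 (iv D8805)))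
theorem Q7902 : ∀ i, i < 7902 → P i := stepQ 7901 Q7901 (allL N7901 (tt N7529 F10090) (tt N5231 F10091) (tt N5153 (iv D8806)) (tt N8255 (iv F10764)) (tt N5229 F10092))
theorem Q7903 : ∀ i, i < 7903 → P i := stepQ 7902 Q7902 (allL N7902 (tt N5154 (iv D8807)) (tt N7531 F10093) (tt N7550 F10094) (tt N9283 (iv F12934)) (tt N9902 D10817))
theorem Q7904 : ∀ i, i < 7904 → P i := stepQ 7903 Q7903 (allL N7903 (tt N8263 (iv F10778)) (tt N7744 F10095) (tt N5154 (iv D8808)) (tt N7754 (iv F10096)) (tt N8260 (iv F10775)))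
theorem Q7905 : ∀ i, i < 7905 → P i := stepQ 7904 Q7904 (allL N7904 (tt N8252 (iv F10760)) (tt N5155 F10097) (tt N7754 F10098) (tt N5154 (iv D8809)) (tt N8264 (iv F10781)))
theorem Q7906 : ∀ i, i < 7906 → P i := stepQ 7905 Q7905 (allL N7905 (tt N9902 (iv F14372)) (tt N5156 F10099) (tt N9465 (iv F13343)) (tt N8249 F10753) (tt N5154 (iv D8810)))
theorem Q7907 : ∀ i, i < 7907 → P i := stepQ 7906 Q7906 (allL N7906 (tt N5158 F10100) (tt N9613 (iv F13667)) (tt N7554 F10101) (tt N9742 (iv F13995)) (tt N5157 (iv D8811)))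
theorem Q7908 : ∀ i, i < 7908 → P i := stepQ 7907 Q7907 (allL N7907 (tt N5159 (iv D8812)) (tt N9631 (iv F13721)) (tt N6432 F10102) (tt N9903 D10818) (tt N9904 D10819))
theorem Q7909 : ∀ i, i < 7909 → P i := stepQ 7908 Q7908 (allL N7908 (tt N9904 (iv F14377)) (tt N5160 F10103) (tt N6448 F10104) (tt N9397 (iv F13212)) (tt N5159 (iv D8813)))
theorem Q7910 : ∀ i, i < 7910 → P i := stepQ 7909 Q7909 (allL N7909 (tt N5759 F10105) (tt N5172 F10106) (tt N5164 (iv D8814)) (tt N7743 F10107) (tt N9905 D10820))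
theorem Q7911 : ∀ i, i < 7911 → P i := stepQ 7910 Q7910 (allL N7910 (tt N5169 (iv D8815)) (tt N8514 (iv F11296)) (tt N8328 (iv F10929)) (tt N8328 (iv F10928)) (tt N9168 (iv F12685)))
theorem Q7912 : ∀ i, i < 7912 → P i := stepQ 7911 Q7911 (allL N7911 (tt N9906 D10821) (tt N5846 F10108) (tt N5169 (iv D8816)) (tt N5202 F10109) (tt N9907 D10822))
theorem Q7913 : ∀ i, i < 7913 → P i := stepQ 7912 Q7912 (allL N7912 (tt N9168 (iv F12683)) (tt N5170 F10110) (tt N9455 F13313) (tt N5174 (iv F10111)) (tt N5169 (iv D8817)))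
theorem Q7914 : ∀ i, i < 7914 → P i := stepQ 7913 Q7913 (allL N7913 (tt N5172 (iv D8818)) (tt N5584 F10112) (tt N5583 F10113) (tt N5583 F10114) (tt N7341 F10115))
theorem Q7915 : ∀ i, i < 7915 → P i := stepQ 7914 Q7914 (allL N7914 (tt N9908 D10823) (tt N7743 F10116) (tt N5173 F10117) (tt N5172 (iv D8819)) (tt N9909 D10824))
theorem Q7916 : ∀ i, i < 7916 → P i := stepQ 7915 Q7915 (allL N7915 (tt N7341 F10118) (tt N9905 (iv F14381)) (tt N8918 (iv F12079)) (tt N9907 (iv F14386)) (tt N5172 (iv D8820)))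
theorem Q7917 : ∀ i, i < 7917 → P i := stepQ 7916 Q7916 (allL N7916 (tt N5173 (iv D8821)) (tt N9166 (iv F12680)) (tt N8339 (iv F10952)) (tt N8339 (iv F10951)) (tt N9165 (iv F12679)))
theorem Q7918 : ∀ i, i < 7918 → P i := stepQ 7917 Q7917 (allL N7917 (tt N9165 (iv F12677)) (tt N5175 F10119) (tt N9459 F13324) (tt N5203 F10120) (tt N5173 (iv D8822)))
theorem Q7919 : ∀ i, i < 7919 → P i := stepQ 7918 Q7918 (allL N7918 (tt N7358 F10121) (tt N9457 (iv F13319)) (tt N5174 (iv D8823)) (tt N9455 (iv F13314)) (tt N8917 (iv F12077)))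
theorem Q7920 : ∀ i, i < 7920 → P i := stepQ 7919 Q7919 (allL N7919 (tt N5181 F10122) (tt N5176 (iv D8824)) (tt N5733 F10123) (tt N9910 D10825) (tt N7612 (iv F10124)))
theorem Q7921 : ∀ i, i < 7921 → P i := stepQ 7920 Q7920 (allL N7920 (tt N8374 (iv F11031)) (tt N9910 (iv F14389)) (tt N7599 F10125) (tt N5176 (iv D8825)) (tt N9911 D10826))
theorem Q7922 : ∀ i, i < 7922 → P i := stepQ 7921 Q7921 (allL N7921 (tt N5178 F10126) (tt N7612 F10127) (tt N9800 (iv F14143)) (tt N9912 D10827) (tt N5176 (iv D8826)))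
theorem Q7923 : ∀ i, i < 7923 → P i := stepQ 7922 Q7922 (allL N7922 (tt N9096 (iv F12498)) (tt N5179 F10128) (tt N7188 F10129) (tt N5197 (iv F10130)) (tt N5177 (iv D8827)))
theorem Q7924 : ∀ i, i < 7924 → P i := stepQ 7923 Q7923 (allL N7923 (tt N9086 (iv F12473)) (tt N5180 F10133) (tt N7165 F10134) (tt N5178 (iv D8828)) (tt N5196 F10135))
theorem Q7925 : ∀ i, i < 7925 → P i := stepQ 7924 Q7924 (allL N7924 (tt N9913 D10828) (tt N5183 (iv D8829)) (tt N5586 F10138) (tt N6723 F10136) (tt N6721 F10137))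
theorem Q7926 : ∀ i, i < 7926 → P i := stepQ 7925 Q7925 (allL N7925 (tt N5185 (iv D8830)) (tt N9913 (iv F14397)) (tt N6620 F10140) (tt N6624 F10139) (tt N9914 D10829))
theorem Q7927 : ∀ i, i < 7927 → P i := stepQ 7926 Q7926 (allL N7926 (tt N9914 (iv F14401)) (tt N5186 F10141) (tt N9470 (iv F13359)) (tt N5191 F10142) (tt N5185 (iv D8831)))
theorem Q7928 : ∀ i, i < 7928 → P i := stepQ 7927 Q7927 (allL N7927 (tt N6734 F10145) (tt N5188 F10143) (tt N5275 F10144) (tt N5187 (iv D8832)) (tt N6677 (iv F10146)))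
theorem Q7929 : ∀ i, i < 7929 → P i := stepQ 7928 Q7928 (allL N7928 (tt N8371 (iv F11025)) (tt N6677 F10148) (tt N9257 (iv F12891)) (tt N9914 (iv F14403)) (tt N5188 (iv D8833)))
theorem Q7930 : ∀ i, i < 7930 → P i := stepQ 7929 Q7929 (allL N7929 (tt N8370 (iv F11018)) (tt N6679 F10149) (tt N9258 (iv F12894)) (tt N5189 (iv D8834)) (tt N6624 F10150))
theorem Q7931 : ∀ i, i < 7931 → P i := stepQ 7930 Q7930 (allL N7930 (tt N9888 (iv F14338)) (tt N5190 (iv D8835)) (tt N8038 (iv F10343)) (tt N8037 (iv F10341)) (tt N9588 (iv F13602)))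
theorem Q7932 : ∀ i, i < 7932 → P i := stepQ 7931 Q7931 (allL N7931 (tt N5191 F10151) (tt N9588 (iv F13600)) (tt N9819 (iv F14185)) (tt N8369 (iv F11017)) (tt N5190 (iv D8836)))
theorem Q7933 : ∀ i, i < 7933 → P i := stepQ 7932 Q7932 (allL N7932 (tt N5192 (iv D8837)) (tt N9608 (iv F13656)) (tt N9815 (iv F14177)) (tt N8569 (iv F11405)) (tt N8368 F11014))
theorem Q7934 : ∀ i, i < 7934 → P i := stepQ 7933 Q7933 (allL N7933 (tt N5193 (iv D8838)) (tt N8362 (iv F11000)) (tt N6702 F10153) (tt N9085 (iv F12472)) (tt N6684 F10152))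
theorem Q7935 : ∀ i, i < 7935 → P i := stepQ 7934 Q7934 (allL N7934 (tt N5194 (iv D8839)) (tt N5195 F10154) (tt N5915 F10155) (tt N9915 D10830) (tt N9589 (iv F13604)))
theorem Q7936 : ∀ i, i < 7936 → P i := stepQ 7935 Q7935 (allL N7935 (tt N8364 (iv F11006)) (tt N9915 (iv F14405)) (tt N7609 F10156) (tt N5195 (iv D8840)) (tt N9912 (iv F14396)))
theorem Q7937 : ∀ i, i < 7937 → P i := stepQ 7936 Q7936 (allL N7936 (tt N5197 F10157) (tt N9589 (iv F13603)) (tt N9829 (iv F14209)) (tt N9911 (iv F14394)) (tt N5195 (iv D8841)))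
theorem Q7938 : ∀ i, i < 7938 → P i := stepQ 7937 Q7937 (allL N7937 (tt N5880 F10158) (tt N5202 F10159) (tt N5199 (iv D8842)) (tt N5846 F10160) (tt N9916 D10831))
theorem Q7939 : ∀ i, i < 7939 → P i := stepQ 7938 Q7938 (allL N7938 (tt N5203 F10161) (tt N8544 (iv F11360)) (tt N9917 D10832) (tt N8336 (iv F10948)) (tt N5201 (iv D8843)))
theorem Q7940 : ∀ i, i < 7940 → P i := stepQ 7939 Q7939 (allL N7939 (tt N5202 (iv D8844)) (tt N5599 F10162) (tt N5598 F10163) (tt N5598 F10164) (tt N7357 F10165))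
theorem Q7941 : ∀ i, i < 7941 → P i := stepQ 7940 Q7940 (allL N7940 (tt N7357 F10166) (tt N9916 (iv F14409)) (tt N8911 (iv F12066)) (tt N9909 (iv F14388)) (tt N5202 (iv D8845)))
theorem Q7942 : ∀ i, i < 7942 → P i := stepQ 7941 Q7941 (allL N7941 (tt N7342 F10167) (tt N9456 (iv F13315)) (tt N5203 (iv D8846)) (tt N9459 (iv F13323)) (tt N8909 (iv F12061)))
theorem Q7943 : ∀ i, i < 7943 → P i := stepQ 7942 Q7942 (allL N7942 (tt N9918 D10833) (tt N5205 (iv D8847)) (tt N6853 F12892) (tt N9919 D10834) (tt N9920 D10835))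
theorem Q7944 : ∀ i, i < 7944 → P i := stepQ 7943 Q7943 (allL N7943 (tt N5226 F10169) (tt N9919 (iv F14418)) (tt N5206 F10168) (tt N5205 (iv D8848)) (tt N9921 D10836))
theorem Q7945 : ∀ i, i < 7945 → P i := stepQ 7944 Q7944 (allL N7944 (tt N9483 (iv F13387)) (tt N9920 (iv F14421)) (tt N5215 F10170) (tt N5209 F10171) (tt N5205 (iv D8849)))
theorem Q7946 : ∀ i, i < 7946 → P i := stepQ 7945 Q7945 (allL N7945 (tt N8064 (iv F10396)) (tt N9122 (iv F12561)) (tt N5216 F10173) (tt N5211 F10172) (tt N5206 (iv D8850)))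
theorem Q7947 : ∀ i, i < 7947 → P i := stepQ 7946 Q7946 (allL N7946 (tt N5207 (iv D8851)) (tt N5209 F10174) (tt N6514 F10175) (tt N9920 F14423) (tt N5207 F10176))
theorem Q7948 : ∀ i, i < 7948 → P i := stepQ 7947 Q7947 (allL N7947 (tt N9922 D10837) (tt N5208 F10177) (tt N6854 F10178) (tt N5207 (iv D8852)) (tt N9923 D10838))
theorem Q7949 : ∀ i, i < 7949 → P i := stepQ 7948 Q7948 (allL N7948 (tt N9494 (iv F13404)) (tt N9923 (iv F14431)) (tt N5217 F10179) (tt N9921 (iv F14426)) (tt N5208 (iv D8853)))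
theorem Q7950 : ∀ i, i < 7950 → P i := stepQ 7949 Q7949 (allL N7949 (tt N5243 F10180) (tt N7865 F10181) (tt N9484 (iv F13391)) (tt N5218 F10182) (tt N5213 (iv D8855)))
theorem Q7951 : ∀ i, i < 7951 → P i := stepQ 7950 Q7950 (allL N7950 (tt N8821 (iv F11874)) (tt N9369 (iv F13135)) (tt N9921 (iv F14425)) (tt N5217 F10183) (tt N5214 (iv D8856)))
theorem Q7952 : ∀ i, i < 7952 → P i := stepQ 7951 Q7951 (allL N7951 (tt N9532 (iv F13484)) (tt N5221 F10184) (tt N8268 (iv F10789)) (tt N5232 (iv F10185)) (tt N5219 (iv D8857)))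
theorem Q7953 : ∀ i, i < 7953 → P i := stepQ 7952 Q7952 (allL N7952 (tt N9534 (iv F13489)) (tt N5223 F10186) (tt N8228 (iv F10711)) (tt N5220 (iv D8858)) (tt N9924 D10839))
theorem Q7954 : ∀ i, i < 7954 → P i := stepQ 7953 Q7953 (allL N7953 (tt N9490 (iv F13398)) (tt N9925 D10840) (tt N5221 (iv D8859)) (tt N5233 F10187) (tt N9926 D10841))
theorem Q7955 : ∀ i, i < 7955 → P i := stepQ 7954 Q7954 (allL N7954 (tt N9927 D10842) (tt N5222 (iv D8860)) (tt N5762 (iv F10390)) (tt N9928 D10843) (tt N9929 D10844))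
theorem Q7956 : ∀ i, i < 7956 → P i := stepQ 7955 Q7955 (allL N7955 (tt N9486 (iv F13392)) (tt N9928 (iv F14444)) (tt N5223 F10188) (tt N5222 (iv D8861)) (tt N9930 D10845))
theorem Q7957 : ∀ i, i < 7957 → P i := stepQ 7956 Q7956 (allL N7956 (tt N8063 (iv F10393)) (tt N9929 (iv F14448)) (tt N5246 F10189) (tt N9926 (iv F14440)) (tt N5222 (iv D8862)))
theorem Q7958 : ∀ i, i < 7958 → P i := stepQ 7957 Q7957 (allL N7957 (tt N9484 (iv F13389)) (tt N9924 (iv F14433)) (tt N8610 F11502) (tt N5234 F10190) (tt N5223 (iv D8863)))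
theorem Q7959 : ∀ i, i < 7959 → P i := stepQ 7958 Q7958 (allL N7958 (tt N9931 D10846) (tt N5224 (iv D8864)) (tt N7508 F10191) (tt N9932 D10847) (tt N9933 D10848))
theorem Q7960 : ∀ i, i < 7960 → P i := stepQ 7959 Q7959 (allL N7959 (tt N9482 (iv F13385)) (tt N9932 (iv F14455)) (tt N5238 F10192) (tt N5224 (iv D8865)) (tt N9934 D10849))
theorem Q7961 : ∀ i, i < 7961 → P i := stepQ 7960 Q7960 (allL N7960 (tt N5227 F10193) (tt N9933 (iv F14458)) (tt N5242 F10194) (tt N9935 D10850) (tt N5224 (iv D8866)))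
theorem Q7962 : ∀ i, i < 7962 → P i := stepQ 7961 Q7961 (allL N7961 (tt N8255 (iv F10762)) (tt N5226 F10195) (tt N7525 F10196) (tt N5225 (iv D8867)) (tt N8255 (iv F10765)))
theorem Q7963 : ∀ i, i < 7963 → P i := stepQ 7962 Q7962 (allL N7962 (tt N9921 (iv F14424)) (tt N8255 (iv F10763)) (tt N5247 F10197) (tt N5231 F10198) (tt N5226 (iv D8868)))
theorem Q7964 : ∀ i, i < 7964 → P i := stepQ 7963 Q7963 (allL N7963 (tt N9936 D10851) (tt N5230 (iv D8869)) (tt N7540 F10199) (tt N9937 D10852) (tt N9938 D10853))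
theorem Q7965 : ∀ i, i < 7965 → P i := stepQ 7964 Q7964 (allL N7964 (tt N9480 (iv F13383)) (tt N9937 (iv F14466)) (tt N5237 F10200) (tt N5230 (iv D8870)) (tt N9935 (iv F14463)))
theorem Q7966 : ∀ i, i < 7966 → P i := stepQ 7965 Q7965 (allL N7965 (tt N5231 F10201) (tt N9938 (iv F14468)) (tt N5252 F10202) (tt N9934 (iv F14461)) (tt N5230 (iv D8871)))
theorem Q7967 : ∀ i, i < 7967 → P i := stepQ 7966 Q7966 (allL N7966 (tt N5232 (iv D8872)) (tt N8969 (iv F12207)) (tt N8266 (iv F10786)) (tt N6579 F10203) (tt N9638 (iv F13745)))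
theorem Q7968 : ∀ i, i < 7968 → P i := stepQ 7967 Q7967 (allL N7967 (tt N9638 (iv F13742)) (tt N5234 F10204) (tt N8270 (iv F10793)) (tt N9924 (iv F14434)) (tt N5232 (iv D8873)))
theorem Q7969 : ∀ i, i < 7969 → P i := stepQ 7968 Q7968 (allL N7968 (tt N9939 D10854) (tt N5233 (iv D8874)) (tt N5883 (iv F10402)) (tt N9925 (iv F14436)) (tt N9940 D10855))
theorem Q7970 : ∀ i, i < 7970 → P i := stepQ 7969 Q7969 (allL N7969 (tt N8066 (iv F10403)) (tt N9940 (iv F14472)) (tt N5250 F10205) (tt N9930 (iv F14451)) (tt N5233 (iv D8875)))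
theorem Q7971 : ∀ i, i < 7971 → P i := stepQ 7970 Q7970 (allL N7970 (tt N7636 F10206) (tt N5237 F10207) (tt N9608 (iv F13657)) (tt N7619 F10208) (tt N5235 (iv D8876)))
theorem Q7972 : ∀ i, i < 7972 → P i := stepQ 7971 Q7971 (allL N7971 (tt N7637 F10210) (tt N5238 F10209) (tt N9588 (iv F13601)) (tt N5236 (iv D8877)) (tt N9941 D10856))
theorem Q7973 : ∀ i, i < 7973 → P i := stepQ 7972 Q7972 (allL N7972 (tt N9495 (iv F13406)) (tt N9941 (iv F14475)) (tt N5243 (iv F10212)) (tt N5253 F10211) (tt N5238 (iv D8878)))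
theorem Q7974 : ∀ i, i < 7974 → P i := stepQ 7973 Q7973 (allL N7973 (tt N7653 F10214) (tt N5239 (iv D8879)) (tt N8892 (iv F12026)) (tt N5251 F10213) (tt N9942 D10857))
theorem Q7975 : ∀ i, i < 7975 → P i := stepQ 7974 Q7974 (allL N7974 (tt N9496 (iv F13409)) (tt N9942 (iv F14479)) (tt N9935 (iv F14462)) (tt N5242 F10215) (tt N5239 (iv D8880)))
theorem Q7976 : ∀ i, i < 7976 → P i := stepQ 7975 Q7975 (allL N7975 (tt N7680 F10216) (tt N5241 F10217) (tt N9745 (iv F14004)) (tt N5240 (iv D8881)) (tt N9943 D10858))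
theorem Q7977 : ∀ i, i < 7977 → P i := stepQ 7976 Q7976 (allL N7976 (tt N7666 F10218) (tt N5242 F10219) (tt N9593 (iv F13617)) (tt N9942 (iv F14480)) (tt N5240 (iv D8882)))
theorem Q7978 : ∀ i, i < 7978 → P i := stepQ 7977 Q7977 (allL N7977 (tt N9497 (iv F13411)) (tt N9943 (iv F14482)) (tt N9934 (iv F14460)) (tt N5252 F10220) (tt N5241 (iv D8883)))
theorem Q7979 : ∀ i, i < 7979 → P i := stepQ 7978 Q7978 (allL N7978 (tt N9735 (iv F13977)) (tt N5245 F10221) (tt N8631 (iv F11538)) (tt N5244 (iv D8884)) (tt N9944 D10859))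
theorem Q7980 : ∀ i, i < 7980 → P i := stepQ 7979 Q7979 (allL N7979 (tt N8643 (iv F11562)) (tt N5246 F10222) (tt N8609 (iv F11498)) (tt N9945 D10860) (tt N5244 (iv D8885)))
theorem Q7981 : ∀ i, i < 7981 → P i := stepQ 7980 Q7980 (allL N7980 (tt N9500 (iv F13417)) (tt N9944 (iv F14484)) (tt N9930 (iv F14450)) (tt N5250 F10223) (tt N5245 (iv D8886)))
theorem Q7982 : ∀ i, i < 7982 → P i := stepQ 7981 Q7981 (allL N7981 (tt N9501 (iv F13419)) (tt N9945 (iv F14487)) (tt N9926 (iv F14439)) (tt N5246 (iv D8887)) (tt N5249 F10224))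
theorem Q7983 : ∀ i, i < 7983 → P i := stepQ 7982 Q7982 (allL N7982 (tt N9734 (iv F13975)) (tt N5249 F10225) (tt N7728 F10226) (tt N5248 (iv D8888)) (tt N9945 (iv F14489)))
theorem Q7984 : ∀ i, i < 7984 → P i := stepQ 7983 Q7983 (allL N7983 (tt N9826 (iv F14200)) (tt N5250 F10227) (tt N8946 (iv F12147)) (tt N9944 (iv F14486)) (tt N5248 (iv D8889)))
theorem Q7985 : ∀ i, i < 7985 → P i := stepQ 7984 Q7984 (allL N7984 (tt N7668 F10228) (tt N5252 F10229) (tt N9597 (iv F13624)) (tt N9943 (iv F14483)) (tt N5251 (iv D8890)))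
theorem Q7986 : ∀ i, i < 7986 → P i := stepQ 7985 Q7985 (allL N7985 (tt N7620 F10230) (tt N5253 (iv D8891)) (tt N9609 (iv F13659)) (tt N9941 (iv F14477)) (tt N7619 F10231))
theorem Q7987 : ∀ i, i < 7987 → P i := stepQ 7986 Q7986 (allL N7986 (tt N5582 F10234) (tt N5679 F10232) (tt N5255 (iv D8892)) (tt N9946 D10861) (tt N7331 F10233))
theorem Q7988 : ∀ i, i < 7988 → P i := stepQ 7987 Q7987 (allL N7987 (tt N8167 (iv F10580)) (tt N5256 F10235) (tt N9946 (iv F14492)) (tt N5255 (iv D8893)) (tt N9754 (iv F14033)))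
theorem Q7989 : ∀ i, i < 7989 → P i := stepQ 7988 Q7988 (allL N7988 (tt N5256 (iv D8894)) (tt N8671 (iv F11617)) (tt N9868 (iv F14302)) (tt N7246 (iv F10242)) (tt N7227 F10238))
theorem Q7990 : ∀ i, i < 7990 → P i := stepQ 7989 Q7989 (allL N7989 (tt N7227 (iv F10237)) (tt N9754 (iv F14031)) (tt N9947 D10862) (tt N5299 F10236) (tt N5256 (iv D8895)))
theorem Q7991 : ∀ i, i < 7991 → P i := stepQ 7990 Q7990 (allL N7990 (tt N5268 F10239) (tt N9703 (iv F13898)) (tt N5257 (iv D8896)) (tt N9948 D10863) (tt N9111 (iv F12535)))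
theorem Q7992 : ∀ i, i < 7992 → P i := stepQ 7991 Q7991 (allL N7991 (tt N7245 F10240) (tt N9753 (iv F14027)) (tt N9948 (iv F14499)) (tt N5257 (iv D8897)) (tt N5298 F10241))
theorem Q7993 : ∀ i, i < 7993 → P i := stepQ 7992 Q7992 (allL N7992 (tt N5264 F10244) (tt N7836 F10243) (tt N5258 (iv D8898)) (tt N7240 (iv F10245)) (tt N7233 F10246))
theorem Q7994 : ∀ i, i < 7994 → P i := stepQ 7993 Q7993 (allL N7993 (tt N5271 F10247) (tt N7825 F10248) (tt N7240 F10249) (tt N5258 (iv D8899)) (tt N5286 (iv F10250)))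
theorem Q7995 : ∀ i, i < 7995 → P i := stepQ 7994 Q7994 (allL N7994 (tt N5259 F10251) (tt N7826 F10252) (tt N9949 D10864) (tt N5282 F10253) (tt N5258 (iv D8900)))
theorem Q7996 : ∀ i, i < 7996 → P i := stepQ 7995 Q7995 (allL N7995 (tt N9950 D10865) (tt N9951 D10866) (tt N5259 (iv D8901)) (tt N5300 F10254) (tt N9112 (iv F12536)))
theorem Q7997 : ∀ i, i < 7997 → P i := stepQ 7996 Q7996 (allL N7996 (tt N8834 (iv F11912)) (tt N5260 (iv D8902)) (tt N7582 F10255) (tt N9952 D10867) (tt N9110 (iv F12531)))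
theorem Q7998 : ∀ i, i < 7998 → P i := stepQ 7997 Q7997 (allL N7997 (tt N9953 D10868) (tt N9952 (iv F14508)) (tt N5261 F10256) (tt N5260 (iv D8903)) (tt N9117 (iv F12548)))
theorem Q7999 : ∀ i, i < 7999 → P i := stepQ 7998 Q7998 (allL N7998 (tt N5261 (iv D8904)) (tt N7864 F10259) (tt N9954 D10869) (tt N5286 F10257) (tt N5281 F10258))
theorem Q8000 : ∀ i, i < 8000 → P i := stepQ 7999 Q7999 (allL N7999 (tt N5262 (iv D8905)) (tt N6056 F10260) (tt N6028 F10261) (tt N9105 (iv F12524)) (tt N9809 (iv F14163)))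
theorem Q8001 : ∀ i, i < 8001 → P i := stepQ 8000 Q8000 (allL N8000 (tt N9834 (iv F14218)) (tt N5264 F10262) (tt N8297 (iv F10854)) (tt N5262 (iv D8906)) (tt N9422 (iv F13255)))
theorem Q8002 : ∀ i, i < 8002 → P i := stepQ 8001 Q8001 (allL N8001 (tt N9809 (iv F14162)) (tt N5265 F10263) (tt N5975 F10264) (tt N9445 (iv F13286)) (tt N5262 (iv D8907)))
theorem Q8003 : ∀ i, i < 8003 → P i := stepQ 8002 Q8002 (allL N8002 (tt N9868 (iv F14303)) (tt N8450 (iv F11162)) (tt N5264 F10265) (tt N5263 (iv D8908)) (tt N9955 D10870))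
theorem Q8004 : ∀ i, i < 8004 → P i := stepQ 8003 Q8003 (allL N8003 (tt N8179 (iv F10608)) (tt N8451 (iv F11165)) (tt N5274 F10266) (tt N9956 D10871) (tt N5263 (iv D8909)))
theorem Q8005 : ∀ i, i < 8005 → P i := stepQ 8004 Q8004 (allL N8004 (tt N7233 F10267) (tt N9422 (iv F13253)) (tt N5980 (iv F10269)) (tt N5293 F10268) (tt N5264 (iv D8910)))
theorem Q8006 : ∀ i, i < 8006 → P i := stepQ 8005 Q8005 (allL N8005 (tt N7239 F10270) (tt N9445 (iv F13285)) (tt N5983 F10271) (tt N5265 (iv D8911)) (tt N5292 F10272))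
theorem Q8007 : ∀ i, i < 8007 → P i := stepQ 8006 Q8006 (allL N8006 (tt N8053 (iv F10372)) (tt N5266 (iv D8912)) (tt N7724 F10275) (tt N7182 F10273) (tt N7171 F10274))
theorem Q8008 : ∀ i, i < 8008 → P i := stepQ 8007 Q8007 (allL N8007 (tt N8177 (iv F10603)) (tt N5806 F10276) (tt N5266 (iv D8913)) (tt N7241 F10277) (tt N9957 D10872))
theorem Q8009 : ∀ i, i < 8009 → P i := stepQ 8008 Q8008 (allL N8008 (tt N9958 D10873) (tt N7524 F10278) (tt N5267 (iv D8914)) (tt N5294 F10279) (tt N9574 (iv F13570)))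
theorem Q8010 : ∀ i, i < 8010 → P i := stepQ 8009 Q8009 (allL N8009 (tt N6707 F10280) (tt N5270 (iv D8915)) (tt N9913 (iv F14398)) (tt N6708 (iv F10284)) (tt N6706 (iv F10283)))
theorem Q8011 : ∀ i, i < 8011 → P i := stepQ 8010 Q8010 (allL N8010 (tt N7246 F10285) (tt N6708 F10286) (tt N5271 F10287) (tt N5270 (iv D8916)) (tt N5279 F10288))
theorem Q8012 : ∀ i, i < 8012 → P i := stepQ 8011 Q8011 (allL N8011 (tt N7234 F10289) (tt N6706 F10290) (tt N9958 (iv F14523)) (tt N5277 F10291) (tt N5270 (iv D8917)))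
theorem Q8013 : ∀ i, i < 8013 → P i := stepQ 8012 Q8012 (allL N8012 (tt N8844 (iv F11938)) (tt N9959 D10874) (tt N5272 (iv D8918)) (tt N5283 F10292) (tt N9113 (iv F12537)))
theorem Q8014 : ∀ i, i < 8014 → P i := stepQ 8013 Q8013 (allL N8013 (tt N5273 (iv D8919)) (tt N7133 F10295) (tt N9957 (iv F14521)) (tt N7132 F10294) (tt N7235 F10293))
theorem Q8015 : ∀ i, i < 8015 → P i := stepQ 8014 Q8014 (allL N8014 (tt N7568 F10296) (tt N5274 (iv D8920)) (tt N5490 F10297) (tt N9450 (iv F13298)) (tt N9108 (iv F12527)))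
theorem Q8016 : ∀ i, i < 8016 → P i := stepQ 8015 Q8015 (allL N8015 (tt N9954 (iv F14514)) (tt N9450 F13299) (tt N9956 (iv F14518)) (tt N5274 (iv D8921)) (tt N9119 (iv F12553)))
theorem Q8017 : ∀ i, i < 8017 → P i := stepQ 8016 Q8016 (allL N8016 (tt N5288 F10298) (tt N9885 (iv F14335)) (tt N5276 (iv D8922)) (tt N9884 F14334) (tt N9960 D10875))
theorem Q8018 : ∀ i, i < 8018 → P i := stepQ 8017 Q8017 (allL N8017 (tt N5298 F10299) (tt N8666 (iv F11606)) (tt N9884 (iv F14332)) (tt N5276 (iv D8923)) (tt N7245 F10300))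
theorem Q8019 : ∀ i, i < 8019 → P i := stepQ 8018 Q8018 (allL N8018 (tt N7232 F10301) (tt N9232 (iv F12841)) (tt N5277 (iv D8924)) (tt N9958 (iv F14524)) (tt N9114 F12541))
theorem Q8020 : ∀ i, i < 8020 → P i := stepQ 8019 Q8019 (allL N8019 (tt N7238 F10303) (tt N9255 (iv F12884)) (tt N5279 F10302) (tt N5278 (iv D8925)) (tt N9961 D10876))
theorem Q8021 : ∀ i, i < 8021 → P i := stepQ 8020 Q8020 (allL N8020 (tt N9962 D10877) (tt N5280 (iv D8926)) (tt N7833 F10304) (tt N7867 (iv F10306)) (tt N7231 F10305))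
theorem Q8022 : ∀ i, i < 8022 → P i := stepQ 8021 Q8021 (allL N8021 (tt N5292 F10307) (tt N7867 F10308) (tt N5281 F10309) (tt N5280 (iv D8927)) (tt N7239 F10310))
theorem Q8023 : ∀ i, i < 8023 → P i := stepQ 8022 Q8022 (allL N8022 (tt N7132 F10311) (tt N9963 D10878) (tt N5282 (iv D8928)) (tt N9949 (iv F14501)) (tt N7236 (iv F10312)))
theorem Q8024 : ∀ i, i < 8024 → P i := stepQ 8023 Q8023 (allL N8023 (tt N5283 (iv D8929)) (tt N8751 (iv F12360)) (tt N9960 (iv F14530)) (tt N9950 (iv F14504)) (tt N7229 (iv F10317)))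
theorem Q8025 : ∀ i, i < 8025 → P i := stepQ 8024 Q8024 (allL N8024 (tt N6996 F10314) (tt N5283 (iv D8930)) (tt N6485 F10313) (tt N9959 (iv F14527)) (tt N6993 (iv F10315)))
theorem Q8026 : ∀ i, i < 8026 → P i := stepQ 8025 Q8025 (allL N8025 (tt N7045 F10321) (tt N5285 F10318) (tt N6489 F10319) (tt N5284 (iv D8931)) (tt N7043 (iv F10320)))
theorem Q8027 : ∀ i, i < 8027 → P i := stepQ 8026 Q8026 (allL N8026 (tt N5285 (iv D8932)) (tt N8758 (iv F12391)) (tt N9964 D10879) (tt N9953 (iv F14510)) (tt N7247 F10324))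
theorem Q8028 : ∀ i, i < 8028 → P i := stepQ 8027 Q8027 (allL N8027 (tt N7247 (iv F10323)) (tt N7043 F10322) (tt N9961 (iv F14532)) (tt N9113 (iv F12538)) (tt N5285 (iv D8933)))
theorem Q8029 : ∀ i, i < 8029 → P i := stepQ 8028 Q8028 (allL N8028 (tt N5302 F10325) (tt N9965 D10880) (tt N5286 (iv D8934)) (tt N9954 (iv F14513)) (tt N7248 (iv F10326)))
theorem Q8030 : ∀ i, i < 8030 → P i := stepQ 8029 Q8029 (allL N8029 (tt N9960 (iv F14529)) (tt N5849 F10327) (tt N7132 F10328) (tt N9957 (iv F14522)) (tt N5288 (iv D8935)))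
theorem Q8031 : ∀ i, i < 8031 → P i := stepQ 8030 Q8030 (allL N8030 (tt N9964 (iv F14539)) (tt N5850 F10329) (tt N5302 F10330) (tt N5289 (iv D8936)) (tt N7241 (iv F10331)))
theorem Q8032 : ∀ i, i < 8032 → P i := stepQ 8031 Q8031 (allL N8031 (tt N5290 (iv D8937)) (tt N8042 (iv F10345)) (tt N7780 F10332) (tt N9077 (iv F12454)) (tt N9827 (iv F14204)))
theorem Q8033 : ∀ i, i < 8033 → P i := stepQ 8032 Q8032 (allL N8032 (tt N9835 (iv F14219)) (tt N5292 F10333) (tt N8313 (iv F10892)) (tt N5290 (iv D8938)) (tt N9445 (iv F13287)))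
theorem Q8034 : ∀ i, i < 8034 → P i := stepQ 8033 Q8033 (allL N8033 (tt N9827 (iv F14203)) (tt N5293 F10334) (tt N8315 (iv F10894)) (tt N9422 (iv F13254)) (tt N5290 (iv D8939)))
theorem Q8035 : ∀ i, i < 8035 → P i := stepQ 8034 Q8034 (allL N8034 (tt N9884 (iv F14333)) (tt N8556 (iv F11382)) (tt N5292 F10335) (tt N5291 (iv D8940)) (tt N9956 (iv F14519)))
theorem Q8036 : ∀ i, i < 8036 → P i := stepQ 8035 Q8035 (allL N8035 (tt N8178 (iv F10605)) (tt N8557 (iv F11385)) (tt N5301 F10336) (tt N9955 F14517) (tt N5291 (iv D8941)))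
theorem Q8037 : ∀ i, i < 8037 → P i := stepQ 8036 Q8036 (allL N8036 (tt N5294 (iv D8942)) (tt N9723 (iv F13940)) (tt N5299 F10337) (tt N9947 (iv F14496)) (tt N9116 (iv F12547)))
theorem Q8038 : ∀ i, i < 8038 → P i := stepQ 8037 Q8037 (allL N8037 (tt N5601 F10339) (tt N5899 F10338) (tt N5297 (iv D8943)) (tt N7930 F10341) (tt N7361 F10340))
theorem Q8039 : ∀ i, i < 8039 → P i := stepQ 8038 Q8038 (allL N8038 (tt N8187 (iv F10626)) (tt N5298 F10342) (tt N7930 F10343) (tt N5297 (iv D8944)) (tt N9753 (iv F14029)))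
theorem Q8040 : ∀ i, i < 8040 → P i := stepQ 8039 Q8039 (allL N8039 (tt N8954 (iv F12165)) (tt N5300 (iv D8945)) (tt N9635 (iv F13732)) (tt N9951 (iv F14507)) (tt N9115 (iv F12543)))
theorem Q8041 : ∀ i, i < 8041 → P i := stepQ 8040 Q8040 (allL N8040 (tt N9065 (iv F12427)) (tt N5301 (iv D8946)) (tt N8957 (iv F12179)) (tt N9420 (iv F13251)) (tt N9118 (iv F12551)))
theorem Q8042 : ∀ i, i < 8042 → P i := stepQ 8041 Q8041 (allL N8041 (tt N9949 (iv F14502)) (tt N9420 F13252) (tt N9955 (iv F14516)) (tt N5301 (iv D8947)) (tt N9109 (iv F12529)))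
theorem Q8043 : ∀ i, i < 8043 → P i := stepQ 8042 Q8042 (allL N8042 (tt N7768 F10344) (tt N8031 F10345) (tt N5304 (iv D8948)) (tt N8667 (iv F11608)) (tt N7767 (iv F10346)))
theorem Q8044 : ∀ i, i < 8044 → P i := stepQ 8043 Q8043 (allL N8043 (tt N8710 (iv F11688)) (tt N9027 (iv F12344)) (tt N5320 F10347) (tt N5313 F10348) (tt N5310 (iv D8949)))
theorem Q8045 : ∀ i, i < 8045 → P i := stepQ 8044 Q8044 (allL N8044 (tt N5409 F10349) (tt N5314 (iv D8950)) (tt N6911 F10350) (tt N5628 F10351) (tt N9966 D10881))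
theorem Q8046 : ∀ i, i < 8046 → P i := stepQ 8045 Q8045 (allL N8045 (tt N5657 F10352) (tt N9966 (iv F14545)) (tt N9200 (iv F12769)) (tt N5648 F10353) (tt N5314 (iv D8951)))
theorem Q8047 : ∀ i, i < 8047 → P i := stepQ 8046 Q8046 (allL N8046 (tt N5694 F10355) (tt N9967 D10882) (tt N5315 (iv D8952)) (tt N5642 F10354) (tt N9968 D10883))
theorem Q8048 : ∀ i, i < 8048 → P i := stepQ 8047 Q8047 (allL N8047 (tt N7846 F10360) (tt N5316 (iv D8953)) (tt N9969 D10884) (tt N5696 F10359) (tt N9970 D10885))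
theorem Q8049 : ∀ i, i < 8049 → P i := stepQ 8048 Q8048 (allL N8048 (tt N9197 (iv F12757)) (tt N9970 (iv F14556)) (tt N8113 (iv F10503)) (tt N5673 F10943) (tt N5316 (iv D8954)))
theorem Q8050 : ∀ i, i < 8050 → P i := stepQ 8049 Q8049 (allL N8049 (tt N6611 F10363) (tt N5317 (iv D8955)) (tt N9971 D10886) (tt N5324 F10361) (tt N6635 F10362))
theorem Q8051 : ∀ i, i < 8051 → P i := stepQ 8050 Q8050 (allL N8050 (tt N5798 F10364) (tt N9969 (iv F14552)) (tt N5318 (iv D8956)) (tt N9972 D10887) (tt N9973 D10888))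
theorem Q8052 : ∀ i, i < 8052 → P i := stepQ 8051 Q8051 (allL N8051 (tt N6609 F10365) (tt N5319 F10366) (tt N9972 (iv F14563)) (tt N5318 (iv D8957)) (tt N6608 F10367))
theorem Q8053 : ∀ i, i < 8053 → P i := stepQ 8052 Q8052 (allL N8052 (tt N5321 (iv D8958)) (tt N5741 (iv F10371)) (tt N7694 F10368) (tt N5739 F10370) (tt N7458 F10369))
theorem Q8054 : ∀ i, i < 8054 → P i := stepQ 8053 Q8053 (allL N8053 (tt N8006 F10372) (tt N5433 F10373) (tt N5322 F10374) (tt N5321 (iv D8959)) (tt N9468 (iv F13352)))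
theorem Q8055 : ∀ i, i < 8055 → P i := stepQ 8054 Q8054 (allL N8054 (tt N5323 (iv D8960)) (tt N5920 (iv F10377)) (tt N5591 F10375) (tt N5919 F10376) (tt N7464 (iv F10378)))
theorem Q8056 : ∀ i, i < 8056 → P i := stepQ 8055 Q8055 (allL N8055 (tt N7464 F10379) (tt N5445 F10380) (tt N9706 (iv F13903)) (tt N9468 (iv F13351)) (tt N5323 (iv D8961)))
theorem Q8057 : ∀ i, i < 8057 → P i := stepQ 8056 Q8056 (allL N8056 (tt N5855 F10381) (tt N9974 D10889) (tt N5324 (iv D8962)) (tt N9971 (iv F14561)) (tt N9975 D10890))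
theorem Q8058 : ∀ i, i < 8058 → P i := stepQ 8057 Q8057 (allL N8057 (tt N5675 F10382) (tt N9976 D10891) (tt N5326 (iv D8963)) (tt N5630 F10383) (tt N9977 D10892))
theorem Q8059 : ∀ i, i < 8059 → P i := stepQ 8058 Q8058 (allL N8058 (tt N5328 F10384) (tt N5455 F10385) (tt N9978 D10893) (tt N5643 F10386) (tt N5326 (iv D8964)))
theorem Q8060 : ∀ i, i < 8060 → P i := stepQ 8059 Q8059 (allL N8059 (tt N7857 F10388) (tt N5327 (iv D8965)) (tt N9974 (iv F14568)) (tt N5672 F10387) (tt N9979 D10894))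
theorem Q8061 : ∀ i, i < 8061 → P i := stepQ 8060 Q8060 (allL N8060 (tt N9198 (iv F12761)) (tt N9979 (iv F14580)) (tt N8126 (iv F10519)) (tt N5697 F10942) (tt N5327 (iv D8966)))
theorem Q8062 : ∀ i, i < 8062 → P i := stepQ 8061 Q8061 (allL N8061 (tt N7346 F10389) (tt N5329 (iv D8967)) (tt N8486 (iv F11228)) (tt N9980 D10895) (tt N8474 F11200))
theorem Q8063 : ∀ i, i < 8063 → P i := stepQ 8062 Q8062 (allL N8062 (tt N7200 F10392) (tt N9980 (iv F14583)) (tt N5330 F10391) (tt N5329 (iv D8968)) (tt N9981 D10896))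
theorem Q8064 : ∀ i, i < 8064 → P i := stepQ 8063 Q8063 (allL N8063 (tt N7956 F10393) (tt N8474 (iv F11198)) (tt N6224 F10394) (tt N5333 F10395) (tt N5329 (iv D8969)))
theorem Q8065 : ∀ i, i < 8065 → P i := stepQ 8064 Q8064 (allL N8064 (tt N7945 F10396) (tt N5341 F10397) (tt N6656 F10399) (tt N5335 F10398) (tt N5330 (iv D8970)))
theorem Q8066 : ∀ i, i < 8066 → P i := stepQ 8065 Q8065 (allL N8065 (tt N7354 F10401) (tt N5332 F10400) (tt N8526 (iv F11316)) (tt N5331 (iv D8971)) (tt N8513 F11295))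
theorem Q8067 : ∀ i, i < 8067 → P i := stepQ 8066 Q8066 (allL N8066 (tt N7969 F10403) (tt N8513 (iv F11294)) (tt N6367 F10404) (tt N9981 (iv F14587)) (tt N5332 (iv D8972)))
theorem Q8068 : ∀ i, i < 8068 → P i := stepQ 8067 Q8067 (allL N8067 (tt N5477 F10405) (tt N6652 F10406) (tt N5341 F10408) (tt N5337 F10407) (tt N5336 (iv D8973)))
theorem Q8069 : ∀ i, i < 8069 → P i := stepQ 8068 Q8068 (allL N8068 (tt N5338 (iv D8974)) (tt N5647 F10411) (tt N6362 F10410) (tt N9204 (iv F12783)) (tt N5646 F10409))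
theorem Q8070 : ∀ i, i < 8070 → P i := stepQ 8069 Q8069 (allL N8069 (tt N6364 (iv F10413)) (tt N8486 (iv F11227)) (tt N5338 (iv D8975)) (tt N9982 D10897) (tt N6318 F10412))
theorem Q8071 : ∀ i, i < 8071 → P i := stepQ 8070 Q8070 (allL N8070 (tt N9897 (iv F14361)) (tt N5339 F10414) (tt N9982 (iv F14588)) (tt N5338 (iv D8976)) (tt N7015 F10415))
theorem Q8072 : ∀ i, i < 8072 → P i := stepQ 8071 Q8071 (allL N8071 (tt N5480 F10416) (tt N7015 F10417) (tt N5438 F10418) (tt N5344 F10419) (tt N5339 (iv D8977)))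
theorem Q8073 : ∀ i, i < 8073 → P i := stepQ 8072 Q8072 (allL N8072 (tt N6354 F10422) (tt N8526 (iv F11315)) (tt N5343 F10420) (tt N5342 (iv D8978)) (tt N6351 (iv F10421)))
theorem Q8074 : ∀ i, i < 8074 → P i := stepQ 8073 Q8073 (allL N8073 (tt N5343 (iv D8979)) (tt N5904 F10425) (tt N6357 F10424) (tt N9286 (iv F12944)) (tt N6338 F10423))
theorem Q8075 : ∀ i, i < 8075 → P i := stepQ 8074 Q8074 (allL N8074 (tt N5358 F10426) (tt N6091 F10427) (tt N9541 (iv F13504)) (tt N5351 F10428) (tt N5346 (iv D8980)))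
theorem Q8076 : ∀ i, i < 8076 → P i := stepQ 8075 Q8075 (allL N8075 (tt N5360 F10429) (tt N6092 F10430) (tt N9539 (iv F13501)) (tt N5347 (iv D8981)) (tt N9983 D10898))
theorem Q8077 : ∀ i, i < 8077 → P i := stepQ 8076 Q8076 (allL N8076 (tt N6277 F10433) (tt N7010 F10431) (tt N5349 F10432) (tt N5348 (iv D8982)) (tt N6274 (iv F10434)))
theorem Q8078 : ∀ i, i < 8078 → P i := stepQ 8077 Q8077 (allL N8077 (tt N5364 F10435) (tt N6689 F10436) (tt N8077 F10437) (tt N5352 F10438) (tt N5349 (iv D8983)))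
theorem Q8079 : ∀ i, i < 8079 → P i := stepQ 8078 Q8078 (allL N8078 (tt N6164 (iv F10442)) (tt N7009 F10439) (tt N8078 F10440) (tt N6274 F10441) (tt N5350 (iv D8984)))
theorem Q8080 : ∀ i, i < 8080 → P i := stepQ 8079 Q8079 (allL N8079 (tt N6033 F10445) (tt N5351 (iv D8985)) (tt N6084 F10447) (tt N6091 F10446) (tt N6112 (iv F10448)))
theorem Q8081 : ∀ i, i < 8081 → P i := stepQ 8080 Q8080 (allL N8080 (tt N5352 F10449) (tt N6112 F10450) (tt N7282 F10451) (tt N9983 (iv F14593)) (tt N5351 (iv D8986)))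
theorem Q8082 : ∀ i, i < 8082 → P i := stepQ 8081 Q8081 (allL N8081 (tt N7272 F10452) (tt N9323 (iv F13029)) (tt N8097 (iv F10481)) (tt N5356 F10453) (tt N5353 (iv D8987)))
theorem Q8083 : ∀ i, i < 8083 → P i := stepQ 8082 Q8082 (allL N8082 (tt N7274 F10454) (tt N9324 (iv F13031)) (tt N8090 (iv F10466)) (tt N5354 (iv D8988)) (tt N9984 D10899))
theorem Q8084 : ∀ i, i < 8084 → P i := stepQ 8083 Q8083 (allL N8083 (tt N7277 F10455) (tt N8988 (iv F12253)) (tt N5364 F10456) (tt N5357 F10457) (tt N5355 (iv D8989)))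
theorem Q8085 : ∀ i, i < 8085 → P i := stepQ 8084 Q8084 (allL N8084 (tt N9302 (iv F12983)) (tt N5356 (iv D8990)) (tt N8214 (iv F10688)) (tt N9323 (iv F13030)) (tt N9336 (iv F13056)))
theorem Q8086 : ∀ i, i < 8086 → P i := stepQ 8085 Q8085 (allL N8085 (tt N5357 F10458) (tt N9336 (iv F13057)) (tt N8085 F10459) (tt N9984 (iv F14596)) (tt N5356 (iv D8991)))
theorem Q8087 : ∀ i, i < 8087 → P i := stepQ 8086 Q8086 (allL N8086 (tt N9535 (iv F13491)) (tt N9777 (iv F14093)) (tt N5358 (iv D8992)) (tt N5370 F10460) (tt N6371 F10461))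
theorem Q8088 : ∀ i, i < 8088 → P i := stepQ 8087 Q8087 (allL N8087 (tt N9536 (iv F13494)) (tt N9779 (iv F14096)) (tt N5360 F10462) (tt N5359 (iv D8993)) (tt N9796 (iv F14135)))
theorem Q8089 : ∀ i, i < 8089 → P i := stepQ 8088 Q8088 (allL N8088 (tt N9983 (iv F14591)) (tt N9769 (iv F14072)) (tt N8088 F10464) (tt N5371 F10463) (tt N5360 (iv D8994)))
theorem Q8090 : ∀ i, i < 8090 → P i := stepQ 8089 Q8089 (allL N8089 (tt N9985 D10900) (tt N5361 (iv D8995)) (tt N9986 D10901) (tt N9987 D10902) (tt N6942 F10465))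
theorem Q8091 : ∀ i, i < 8091 → P i := stepQ 8090 Q8090 (allL N8090 (tt N9539 (iv F13500)) (tt N9987 (iv F14604)) (tt N8082 F10466) (tt N5361 (iv D8996)) (tt N9988 D10903))
theorem Q8092 : ∀ i, i < 8092 → P i := stepQ 8091 Q8091 (allL N8091 (tt N5362 (iv D8997)) (tt N7489 (iv F10470)) (tt N7459 F10468) (tt N7466 F10469) (tt N6626 F10467))
theorem Q8093 : ∀ i, i < 8093 → P i := stepQ 8092 Q8092 (allL N8092 (tt N8941 (iv F12129)) (tt N5385 F10471) (tt N5362 (iv D8998)) (tt N9989 D10904) (tt N6767 F10472))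
theorem Q8094 : ∀ i, i < 8094 → P i := stepQ 8093 Q8093 (allL N8093 (tt N9469 (iv F13355)) (tt N5363 F10473) (tt N9989 (iv F14611)) (tt N5362 (iv D8999)) (tt N6618 F10474))
theorem Q8095 : ∀ i, i < 8095 → P i := stepQ 8094 Q8094 (allL N8094 (tt N8942 (iv F12136)) (tt N5391 F10475) (tt N5366 F10476) (tt N5365 (iv D9000)) (tt N9706 (iv F13905)))
theorem Q8096 : ∀ i, i < 8096 → P i := stepQ 8095 Q8095 (allL N8095 (tt N5366 (iv D9001)) (tt N7492 (iv F10480)) (tt N7465 F10479) (tt N7558 F10477) (tt N7490 F10478))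
theorem Q8097 : ∀ i, i < 8097 → P i := stepQ 8096 Q8096 (allL N8096 (tt N9990 D10905) (tt N5367 (iv D9002)) (tt N9991 D10906) (tt N9992 D10907) (tt N6962 F10485))
theorem Q8098 : ∀ i, i < 8098 → P i := stepQ 8097 Q8097 (allL N8097 (tt N9541 (iv F13503)) (tt N9992 (iv F14619)) (tt N8081 F10481) (tt N5367 (iv D9003)) (tt N8920 (iv F12084)))
theorem Q8099 : ∀ i, i < 8099 → P i := stepQ 8098 Q8098 (allL N8098 (tt N5368 F10482) (tt N6962 (iv F10484)) (tt N8098 F10483) (tt N9988 (iv F14608)) (tt N5367 (iv D9004)))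
theorem Q8100 : ∀ i, i < 8100 → P i := stepQ 8099 Q8099 (allL N8099 (tt N9679 (iv F13850)) (tt N9993 D10908) (tt N5372 (iv D9005)) (tt N9994 D10909) (tt N9995 D10910))
theorem Q8101 : ∀ i, i < 8101 → P i := stepQ 8100 Q8100 (allL N8100 (tt N9672 (iv F13833)) (tt N9749 (iv F14016)) (tt N9994 (iv F14621)) (tt N5372 (iv D9006)) (tt N5926 F10532))
theorem Q8102 : ∀ i, i < 8102 → P i := stepQ 8101 Q8101 (allL N8101 (tt N9601 (iv F13637)) (tt N5373 (iv D9007)) (tt N9996 D10911) (tt N9997 D10912) (tt N9998 D10913))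
theorem Q8103 : ∀ i, i < 8103 → P i := stepQ 8102 Q8102 (allL N8102 (tt N9999 D10914) (tt N9997 (iv F14631)) (tt N5374 F10486) (tt N5373 (iv D9008)) (tt N9399 (iv F13216)))
theorem Q8104 : ∀ i, i < 8104 → P i := stepQ 8103 Q8103 (allL N8103 (tt N9681 (iv F13852)) (tt N9998 (iv F14635)) (tt N6372 F10487) (tt N9210 F12801) (tt N5373 (iv D9009)))
theorem Q8105 : ∀ i, i < 8105 → P i := stepQ 8104 Q8104 (allL N8104 (tt N5374 (iv D9010)) (tt N6685 F10488) (tt N10000 D10915) (tt N5715 F10489) (tt N9054 F12396))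
theorem Q8106 : ∀ i, i < 8106 → P i := stepQ 8105 Q8105 (allL N8105 (tt N5377 (iv D9011)) (tt N9202 (iv F12776)) (tt N10001 D10916) (tt N10002 D10917) (tt N9201 F12774))
theorem Q8107 : ∀ i, i < 8107 → P i := stepQ 8106 Q8106 (allL N8106 (tt N10003 D10918) (tt N9996 (iv F14626)) (tt N5377 (iv D9012)) (tt N9396 (iv F13208)) (tt N9363 F13119))
theorem Q8108 : ∀ i, i < 8108 → P i := stepQ 8107 Q8107 (allL N8107 (tt N5381 (iv D9013)) (tt N10004 D10919) (tt N10005 D10920) (tt N10006 D10921) (tt N10007 D10922))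
theorem Q8109 : ∀ i, i < 8109 → P i := stepQ 8108 Q8108 (allL N8108 (tt N10008 D10923) (tt N10009 D10924) (tt N5381 (iv D9014)) (tt N10010 D10925) (tt N10008 F14662))
theorem Q8110 : ∀ i, i < 8110 → P i := stepQ 8109 Q8109 (allL N8109 (tt N10011 D10926) (tt N5382 F10490) (tt N10010 (iv F14665)) (tt N5381 (iv D9015)) (tt N6873 (iv F10498)))
theorem Q8111 : ∀ i, i < 8111 → P i := stepQ 8110 Q8110 (allL N8110 (tt N10007 (iv F14657)) (tt N5383 F10491) (tt N6833 (iv F10492)) (tt N6832 F10493) (tt N5381 (iv D9016)))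
theorem Q8112 : ∀ i, i < 8112 → P i := stepQ 8111 Q8111 (allL N8111 (tt N5517 F10494) (tt N6873 F10497) (tt N5422 F10495) (tt N5397 F10496) (tt N5382 (iv D9017)))
theorem Q8113 : ∀ i, i < 8113 → P i := stepQ 8112 Q8112 (allL N8112 (tt N5518 F10499) (tt N6832 F10500) (tt N5416 F10501) (tt N5383 (iv D9018)) (tt N5396 F10502))
theorem Q8114 : ∀ i, i < 8114 → P i := stepQ 8113 Q8113 (allL N8113 (tt N10004 (iv F14650)) (tt N5384 (iv D9019)) (tt N8048 F10503) (tt N8351 F10976) (tt N6793 (iv F10504)))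
theorem Q8115 : ∀ i, i < 8115 → P i := stepQ 8114 Q8114 (allL N8114 (tt N8923 F12089) (tt N7454 (iv F12091)) (tt N5384 (iv D9020)) (tt N10012 D10927) (tt N7453 F12090))
theorem Q8116 : ∀ i, i < 8116 → P i := stepQ 8115 Q8115 (allL N8115 (tt N8686 (iv F11646)) (tt N8351 (iv F10974)) (tt N10012 (iv F14671)) (tt N5384 (iv D9021)) (tt N8350 F10972))
theorem Q8117 : ∀ i, i < 8117 → P i := stepQ 8116 Q8116 (allL N8116 (tt N5387 F10505) (tt N6793 F10506) (tt N9807 (iv F14159)) (tt N8354 (iv F10985)) (tt N5384 (iv D9022)))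
theorem Q8118 : ∀ i, i < 8118 → P i := stepQ 8117 Q8117 (allL N8117 (tt N5385 (iv D9023)) (tt N9808 (iv F14161)) (tt N8922 (iv F12092)) (tt N10013 D10928) (tt N9807 F14160))
theorem Q8119 : ∀ i, i < 8119 → P i := stepQ 8118 Q8118 (allL N8118 (tt N10014 D10929) (tt N9989 (iv F14610)) (tt N5386 F10507) (tt N5385 (iv D9024)) (tt N10015 D10930))
theorem Q8120 : ∀ i, i < 8120 → P i := stepQ 8119 Q8119 (allL N8119 (tt N9807 (iv F14158)) (tt N6767 F10508) (tt N7402 F10509) (tt N5392 (iv F10510)) (tt N5385 (iv D9025)))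
theorem Q8121 : ∀ i, i < 8121 → P i := stepQ 8120 Q8120 (allL N8120 (tt N5386 (iv D9026)) (tt N7816 F10511) (tt N9435 (iv F13274)) (tt N7818 F10512) (tt N7815 F10513))
theorem Q8122 : ∀ i, i < 8122 → P i := stepQ 8121 Q8121 (allL N8121 (tt N7815 F10514) (tt N5388 F10515) (tt N9434 (iv F13270)) (tt N5394 F10516) (tt N5386 (iv D9027)))
theorem Q8123 : ∀ i, i < 8123 → P i := stepQ 8122 Q8122 (allL N8122 (tt N5389 (iv D9028)) (tt N8692 (iv F11658)) (tt N10016 D10931) (tt N8691 F11657) (tt N7814 F10517))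
theorem Q8124 : ∀ i, i < 8124 → P i := stepQ 8123 Q8123 (allL N8123 (tt N10016 (iv F14680)) (tt N7733 (iv F11337)) (tt N8924 (iv F12094)) (tt N5390 (iv D9029)) (tt N7732 F11340))
theorem Q8125 : ∀ i, i < 8125 → P i := stepQ 8124 Q8124 (allL N8124 (tt N5391 (iv D9030)) (tt N9806 (iv F14157)) (tt N8926 (iv F12101)) (tt N10017 D10932) (tt N9805 F14156))
theorem Q8126 : ∀ i, i < 8126 → P i := stepQ 8125 Q8125 (allL N8125 (tt N9805 (iv F14154)) (tt N9706 (iv F13906)) (tt N8927 (iv F12111)) (tt N10015 (iv F14678)) (tt N5391 (iv D9031)))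
theorem Q8127 : ∀ i, i < 8127 → P i := stepQ 8126 Q8126 (allL N8126 (tt N10018 D10933) (tt N5393 (iv D9032)) (tt N8060 F10519) (tt N8355 (iv F10990)) (tt N6806 (iv F10520)))
theorem Q8128 : ∀ i, i < 8128 → P i := stepQ 8127 Q8127 (allL N8127 (tt N8925 (iv F12098)) (tt N7472 (iv F12100)) (tt N5393 (iv D9033)) (tt N10019 D10934) (tt N7471 F12099))
theorem Q8129 : ∀ i, i < 8129 → P i := stepQ 8128 Q8128 (allL N8128 (tt N8691 (iv F11656)) (tt N8355 (iv F10988)) (tt N10019 (iv F14687)) (tt N5393 (iv D9034)) (tt N8354 F10986))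
theorem Q8130 : ∀ i, i < 8130 → P i := stepQ 8129 Q8129 (allL N8129 (tt N5394 F10521) (tt N6806 F10522) (tt N9805 (iv F14155)) (tt N8350 (iv F10971)) (tt N5393 (iv D9035)))
theorem Q8131 : ∀ i, i < 8131 → P i := stepQ 8130 Q8130 (allL N8130 (tt N7471 (iv F12110)) (tt N8989 (iv F12257)) (tt N5394 (iv D9036)) (tt N9434 (iv F13271)) (tt N8925 F12109))
theorem Q8132 : ∀ i, i < 8132 → P i := stepQ 8131 Q8131 (allL N8131 (tt N5395 (iv D9037)) (tt N10018 (iv F14682)) (tt N10020 D10935) (tt N10021 D10936) (tt N10022 D10937))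
theorem Q8133 : ∀ i, i < 8133 → P i := stepQ 8132 Q8132 (allL N8132 (tt N10023 D10938) (tt N10024 D10939) (tt N5395 (iv D9038)) (tt N10025 D10940) (tt N10023 F14697))
theorem Q8134 : ∀ i, i < 8134 → P i := stepQ 8133 Q8133 (allL N8133 (tt N10026 D10941) (tt N5396 F10523) (tt N10025 (iv F14702)) (tt N5395 (iv D9039)) (tt N6832 (iv F10524)))
theorem Q8135 : ∀ i, i < 8135 → P i := stepQ 8134 Q8134 (allL N8134 (tt N10022 (iv F14692)) (tt N5397 F10525) (tt N6831 (iv F10527)) (tt N6873 F10526) (tt N5395 (iv D9040)))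
theorem Q8136 : ∀ i, i < 8136 → P i := stepQ 8135 Q8135 (allL N8135 (tt N9683 (iv F13860)) (tt N10027 D10942) (tt N5398 (iv D9041)) (tt N5699 F10528) (tt N10028 D10943))
theorem Q8137 : ∀ i, i < 8137 → P i := stepQ 8136 Q8136 (allL N8136 (tt N5400 F10529) (tt N9751 (iv F14022)) (tt N5705 (iv F10531)) (tt N5926 (iv F10530)) (tt N5398 (iv D9042)))
theorem Q8138 : ∀ i, i < 8138 → P i := stepQ 8137 Q8137 (allL N8137 (tt N9606 (iv F13650)) (tt N5399 (iv D9043)) (tt N10029 D10944) (tt N9209 (iv F12795)) (tt N10030 D10945))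
theorem Q8139 : ∀ i, i < 8139 → P i := stepQ 8138 Q8138 (allL N8138 (tt N9682 (iv F13856)) (tt N10030 (iv F14715)) (tt N6381 F10533) (tt N9399 (iv F13215)) (tt N5399 (iv D9044)))
theorem Q8140 : ∀ i, i < 8140 → P i := stepQ 8139 Q8139 (allL N8139 (tt N5401 (iv D9045)) (tt N9206 (iv F12789)) (tt N10031 D10946) (tt N10032 D10947) (tt N9205 F12787))
theorem Q8141 : ∀ i, i < 8141 → P i := stepQ 8140 Q8140 (allL N8140 (tt N10033 D10948) (tt N10029 (iv F14711)) (tt N5401 (iv D9046)) (tt N9364 F13123) (tt N9362 (iv F13113)))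
theorem Q8142 : ∀ i, i < 8142 → P i := stepQ 8141 Q8141 (allL N8141 (tt N7825 F10535) (tt N8418 (iv F11107)) (tt N5406 F10534) (tt N5405 (iv D9047)) (tt N9051 (iv F12389)))
theorem Q8143 : ∀ i, i < 8143 → P i := stepQ 8142 Q8142 (allL N8142 (tt N8142 F10536) (tt N8419 (iv F11110)) (tt N6382 F10537) (tt N9032 (iv F12357)) (tt N5405 (iv D9048)))
theorem Q8144 : ∀ i, i < 8144 → P i := stepQ 8143 Q8143 (allL N8143 (tt N5407 (iv D9049)) (tt N8440 (iv F11147)) (tt N6061 F10538) (tt N6896 F10540) (tt N7058 F10539))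
theorem Q8145 : ∀ i, i < 8145 → P i := stepQ 8144 Q8144 (allL N8144 (tt N9966 (iv F14544)) (tt N7627 F10541) (tt N6933 F10542) (tt N7883 F10543) (tt N5409 (iv D9050)))
theorem Q8146 : ∀ i, i < 8146 → P i := stepQ 8145 Q8145 (allL N8145 (tt N8593 (iv F11473)) (tt N7628 F10544) (tt N10034 D10949) (tt N5484 F10545) (tt N5410 (iv D9051)))
theorem Q8147 : ∀ i, i < 8147 → P i := stepQ 8146 Q8146 (allL N8146 (tt N10035 D10950) (tt N9786 (iv F14110)) (tt N5411 (iv D9052)) (tt N10036 D10951) (tt N10037 D10952))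
theorem Q8148 : ∀ i, i < 8148 → P i := stepQ 8147 Q8147 (allL N8147 (tt N9151 (iv F12645)) (tt N7630 F10546) (tt N10036 (iv F14729)) (tt N5411 (iv D9053)) (tt N10038 D10953))
theorem Q8149 : ∀ i, i < 8149 → P i := stepQ 8148 Q8148 (allL N8148 (tt N5412 (iv D9054)) (tt N10039 D10954) (tt N6929 F10547) (tt N10040 D10955) (tt N10041 D10956))
theorem Q8150 : ∀ i, i < 8150 → P i := stepQ 8149 Q8149 (allL N8149 (tt N7347 F10548) (tt N5412 (iv D9055)) (tt N10009 (iv F14663)) (tt N8531 (iv F11326)) (tt N8482 F11219))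
theorem Q8151 : ∀ i, i < 8151 → P i := stepQ 8150 Q8150 (allL N8150 (tt N10042 D10957) (tt N8531 (iv F11325)) (tt N5413 F10549) (tt N5412 (iv D9056)) (tt N7253 (iv F10550)))
theorem Q8152 : ∀ i, i < 8152 → P i := stepQ 8151 Q8151 (allL N8151 (tt N10041 (iv F14738)) (tt N8482 (iv F11216)) (tt N6385 F10551) (tt N6926 (iv F10552)) (tt N5412 (iv D9057)))
theorem Q8153 : ∀ i, i < 8153 → P i := stepQ 8152 Q8152 (allL N8152 (tt N5415 (iv D9058)) (tt N6764 (iv F10555)) (tt N9162 (iv F12673)) (tt N6762 F10554) (tt N6772 F10553))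
theorem Q8154 : ∀ i, i < 8154 → P i := stepQ 8153 Q8153 (allL N8153 (tt N9967 (iv F14548)) (tt N9760 (iv F14047)) (tt N5418 (iv D9059)) (tt N7835 (iv F14049)) (tt N9758 F14044))
theorem Q8155 : ∀ i, i < 8155 → P i := stepQ 8154 Q8154 (allL N8154 (tt N10043 D10958) (tt N9773 (iv F14083)) (tt N7835 F14050) (tt N5418 (iv D9060)) (tt N9775 (iv F14088)))
theorem Q8156 : ∀ i, i < 8156 → P i := stepQ 8155 Q8155 (allL N8155 (tt N5419 (iv D9061)) (tt N9876 (iv F14318)) (tt N8172 (iv F10593)) (tt N9875 F14317) (tt N9986 (iv F14601)))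
theorem Q8157 : ∀ i, i < 8157 → P i := stepQ 8156 Q8156 (allL N8156 (tt N10044 D10959) (tt N8480 (iv F11210)) (tt N5420 F10556) (tt N5419 (iv D9062)) (tt N7070 (iv F10557)))
theorem Q8158 : ∀ i, i < 8158 → P i := stepQ 8157 Q8157 (allL N8157 (tt N9986 (iv F14602)) (tt N8481 (iv F11214)) (tt N6384 F10558) (tt N6960 (iv F10559)) (tt N5419 (iv D9063)))
theorem Q8159 : ∀ i, i < 8159 → P i := stepQ 8158 Q8158 (allL N8158 (tt N5420 (iv D9064)) (tt N6763 (iv F10562)) (tt N9176 (iv F12702)) (tt N6773 F10561) (tt N6761 F10560))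
theorem Q8160 : ∀ i, i < 8160 → P i := stepQ 8159 Q8159 (allL N8159 (tt N5429 F10563) (tt N5423 (iv D9065)) (tt N9910 (iv F14390)) (tt N5733 F10564) (tt N7639 (iv F10565)))
theorem Q8161 : ∀ i, i < 8161 → P i := stepQ 8160 Q8160 (allL N8160 (tt N5426 F10566) (tt N7639 F10567) (tt N10045 D10960) (tt N5916 (iv F10568)) (tt N5423 (iv D9066)))
theorem Q8162 : ∀ i, i < 8162 → P i := stepQ 8161 Q8161 (allL N8161 (tt N5424 (iv D9067)) (tt N5800 (iv F10570)) (tt N5741 F10569) (tt N5740 (iv F10571)) (tt N10046 D10961))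
theorem Q8163 : ∀ i, i < 8163 → P i := stepQ 8162 Q8162 (allL N8162 (tt N5800 F10573) (tt N5424 (iv D9068)) (tt N5784 F10572) (tt N10047 D10962) (tt N10048 D10963))
theorem Q8164 : ∀ i, i < 8164 → P i := stepQ 8163 Q8163 (allL N8163 (tt N10049 D10964) (tt N10047 (iv F14756)) (tt N5425 F10574) (tt N5424 (iv D9069)) (tt N9293 (iv F12959)))
theorem Q8165 : ∀ i, i < 8165 → P i := stepQ 8164 Q8164 (allL N8164 (tt N10046 (iv F14751)) (tt N10048 (iv F14760)) (tt N6386 F10575) (tt N9220 (iv F12823)) (tt N5424 (iv D9070)))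
theorem Q8166 : ∀ i, i < 8166 → P i := stepQ 8165 Q8165 (allL N8165 (tt N5425 (iv D9071)) (tt N9138 (iv F12608)) (tt N5747 (iv F11102)) (tt N5746 F11101) (tt N9137 (iv F12606)))
theorem Q8167 : ∀ i, i < 8167 → P i := stepQ 8166 Q8166 (allL N8166 (tt N5783 F10577) (tt N7846 F10578) (tt N5429 (iv D9072)) (tt N7845 (iv F10579)) (tt N7631 F10576))
theorem Q8168 : ∀ i, i < 8168 → P i := stepQ 8167 Q8167 (allL N8167 (tt N7987 F10580) (tt N5430 F10581) (tt N7845 F10582) (tt N5429 (iv D9073)) (tt N7638 F10583))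
theorem Q8169 : ∀ i, i < 8169 → P i := stepQ 8168 Q8168 (allL N8168 (tt N5430 (iv D9074)) (tt N6093 F10585) (tt N10050 D10965) (tt N6110 F10584) (tt N9140 (iv F12618)))
theorem Q8170 : ∀ i, i < 8170 → P i := stepQ 8169 Q8169 (allL N8169 (tt N9140 (iv F12615)) (tt N7638 F10586) (tt N10051 D10966) (tt N5448 F10587) (tt N5430 (iv D9075)))
theorem Q8171 : ∀ i, i < 8171 → P i := stepQ 8170 Q8170 (allL N8170 (tt N6390 F10589) (tt N7656 F10588) (tt N5431 (iv D9076)) (tt N10052 D10967) (tt N6388 F10590))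
theorem Q8172 : ∀ i, i < 8172 → P i := stepQ 8171 Q8171 (allL N8171 (tt N9145 (iv F12633)) (tt N7640 F10591) (tt N10052 (iv F14774)) (tt N5431 (iv D9077)) (tt N5447 F10592))
theorem Q8173 : ∀ i, i < 8173 → P i := stepQ 8172 Q8172 (allL N8172 (tt N10053 D10968) (tt N5432 (iv D9078)) (tt N8155 F10593) (tt N9865 (iv F14316)) (tt N9340 (iv F13067)))
theorem Q8174 : ∀ i, i < 8174 → P i := stepQ 8173 Q8173 (allL N8173 (tt N10050 (iv F14768)) (tt N9865 F14315) (tt N8173 F10594) (tt N5432 (iv D9079)) (tt N10054 D10969))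
theorem Q8175 : ∀ i, i < 8175 → P i := stepQ 8174 Q8174 (allL N8174 (tt N5434 F10595) (tt N9340 (iv F13066)) (tt N7312 F10596) (tt N10055 D10970) (tt N5432 (iv D9080)))
theorem Q8176 : ∀ i, i < 8176 → P i := stepQ 8175 Q8175 (allL N8175 (tt N5433 (iv D9081)) (tt N7719 F10597) (tt N8175 F10598) (tt N7314 F10600) (tt N7306 F10599))
theorem Q8177 : ∀ i, i < 8177 → P i := stepQ 8176 Q8176 (allL N8176 (tt N7306 F10601) (tt N9468 (iv F13349)) (tt N8847 (iv F11945)) (tt N5445 F10602) (tt N5433 (iv D9082)))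
theorem Q8178 : ∀ i, i < 8178 → P i := stepQ 8177 Q8177 (allL N8177 (tt N8007 F10603) (tt N8471 (iv F11187)) (tt N5437 (iv D9083)) (tt N5562 F10604) (tt N10056 D10971))
theorem Q8179 : ∀ i, i < 8179 → P i := stepQ 8178 Q8178 (allL N8178 (tt N8035 F10605) (tt N8512 (iv F11291)) (tt N6423 F10606) (tt N10056 (iv F14787)) (tt N5439 (iv D9084)))
theorem Q8180 : ∀ i, i < 8180 → P i := stepQ 8179 Q8179 (allL N8179 (tt N8003 F10608) (tt N8472 (iv F11191)) (tt N6245 F10607) (tt N5440 (iv D9085)) (tt N5562 F10609))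
theorem Q8181 : ∀ i, i < 8181 → P i := stepQ 8180 Q8180 (allL N8180 (tt N5443 F10610) (tt N10057 D10972) (tt N5442 (iv D9086)) (tt N10058 D10973) (tt N7305 (iv F10611)))
theorem Q8182 : ∀ i, i < 8182 → P i := stepQ 8181 Q8181 (allL N8181 (tt N5447 F10612) (tt N6095 F10613) (tt N10058 (iv F14794)) (tt N5442 (iv D9087)) (tt N9145 (iv F12636)))
theorem Q8183 : ∀ i, i < 8183 → P i := stepQ 8182 Q8182 (allL N8182 (tt N10059 D10974) (tt N5444 (iv D9088)) (tt N8200 (iv F10650)) (tt N9890 F14346) (tt N9357 (iv F13100)))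
theorem Q8184 : ∀ i, i < 8184 → P i := stepQ 8183 Q8183 (allL N8183 (tt N10058 (iv F14792)) (tt N9890 F14347) (tt N8183 F10614) (tt N5444 (iv D9089)) (tt N10055 (iv F14784)))
theorem Q8185 : ∀ i, i < 8185 → P i := stepQ 8184 Q8184 (allL N8184 (tt N5445 F10615) (tt N9357 (iv F13099)) (tt N8189 (iv F10630)) (tt N10054 (iv F14781)) (tt N5444 (iv D9090)))
theorem Q8186 : ∀ i, i < 8186 → P i := stepQ 8185 Q8185 (allL N8185 (tt N5446 (iv D9091)) (tt N5450 F10616) (tt N9915 (iv F14406)) (tt N5915 (iv F10618)) (tt N7622 F10617))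
theorem Q8187 : ∀ i, i < 8187 → P i := stepQ 8186 Q8186 (allL N8186 (tt N5866 F10620) (tt N7857 F10621) (tt N5446 (iv D9092)) (tt N7856 (iv F10622)) (tt N7632 F10619))
theorem Q8188 : ∀ i, i < 8188 → P i := stepQ 8187 Q8187 (allL N8187 (tt N8038 F10626) (tt N5447 F10623) (tt N7856 F10624) (tt N5446 (iv D9093)) (tt N7640 F10625))
theorem Q8189 : ∀ i, i < 8189 → P i := stepQ 8188 Q8188 (allL N8188 (tt N6395 F10629) (tt N7682 F10627) (tt N5448 (iv D9094)) (tt N10051 (iv F14771)) (tt N6394 F10628))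
theorem Q8190 : ∀ i, i < 8190 → P i := stepQ 8189 Q8189 (allL N8189 (tt N5449 (iv D9095)) (tt N6939 F10631) (tt N8184 F10630) (tt N9569 (iv F13564)) (tt N8937 (iv F12125)))
theorem Q8191 : ∀ i, i < 8191 → P i := stepQ 8190 Q8190 (allL N8190 (tt N5453 F10632) (tt N7622 F10633) (tt N10060 D10975) (tt N5734 F10634) (tt N5450 (iv D9096)))
theorem Q8192 : ∀ i, i < 8192 → P i := stepQ 8191 Q8191 (allL N8191 (tt N5451 (iv D9097)) (tt N5858 (iv F10636)) (tt N5920 F10635) (tt N5857 (iv F10637)) (tt N10061 D10976))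
theorem Q8193 : ∀ i, i < 8193 → P i := stepQ 8192 Q8192 (allL N8192 (tt N5858 F10639) (tt N5451 (iv D9098)) (tt N5825 F10638) (tt N5824 (iv F10640)) (tt N10062 D10977))
theorem Q8194 : ∀ i, i < 8194 → P i := stepQ 8193 Q8193 (allL N8193 (tt N10063 D10978) (tt N5824 F10641) (tt N5452 F10642) (tt N5451 (iv D9099)) (tt N9220 (iv F12824)))
theorem Q8195 : ∀ i, i < 8195 → P i := stepQ 8194 Q8194 (allL N8194 (tt N10061 (iv F14801)) (tt N10062 (iv F14806)) (tt N6396 F10643) (tt N9293 (iv F12958)) (tt N5451 (iv D9100)))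
theorem Q8196 : ∀ i, i < 8196 → P i := stepQ 8195 Q8195 (allL N8195 (tt N5452 (iv D9101)) (tt N9139 (iv F12612)) (tt N5726 F10644) (tt N5725 (iv F10645)) (tt N9147 (iv F12640)))
theorem Q8197 : ∀ i, i < 8197 → P i := stepQ 8196 Q8196 (allL N8196 (tt N8196 F10646) (tt N8425 (iv F11127)) (tt N6399 F10647) (tt N9051 (iv F12388)) (tt N5454 (iv D9102)))
theorem Q8198 : ∀ i, i < 8198 → P i := stepQ 8197 Q8197 (allL N8197 (tt N8197 F10648) (tt N8383 (iv F11049)) (tt N5455 (iv D9103)) (tt N9400 (iv F13220)) (tt N6907 F10649))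
theorem Q8199 : ∀ i, i < 8199 → P i := stepQ 8198 Q8198 (allL N8198 (tt N9976 (iv F14572)) (tt N9767 (iv F14067)) (tt N5457 (iv D9104)) (tt N7866 (iv F14069)) (tt N9766 F14066))
theorem Q8200 : ∀ i, i < 8200 → P i := stepQ 8199 Q8199 (allL N8199 (tt N10064 D10979) (tt N9772 (iv F14080)) (tt N7866 F14070) (tt N5457 (iv D9105)) (tt N9771 (iv F14078)))
theorem Q8201 : ∀ i, i < 8201 → P i := stepQ 8200 Q8200 (allL N8200 (tt N5458 (iv D9106)) (tt N9880 (iv F14325)) (tt N8182 F10650) (tt N9879 (iv F14326)) (tt N9991 (iv F14616)))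
theorem Q8202 : ∀ i, i < 8202 → P i := stepQ 8201 Q8201 (allL N8201 (tt N9991 (iv F14617)) (tt N8500 (iv F11262)) (tt N6405 F10651) (tt N7070 F10652) (tt N5458 (iv D9107)))
theorem Q8203 : ∀ i, i < 8203 → P i := stepQ 8202 Q8202 (allL N8202 (tt N5460 (iv D9108)) (tt N7634 F10653) (tt N10065 D10980) (tt N10038 (iv F14732)) (tt N5484 F10654))
theorem Q8204 : ∀ i, i < 8204 → P i := stepQ 8203 Q8203 (allL N8203 (tt N7135 F10655) (tt N8203 F10656) (tt N5470 F10658) (tt N5463 F10657) (tt N5462 (iv D9109)))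
theorem Q8205 : ∀ i, i < 8205 → P i := stepQ 8204 Q8204 (allL N8204 (tt N10066 D10981) (tt N5464 (iv D9110)) (tt N10067 D10982) (tt N7548 F10662) (tt N7519 F10666))
theorem Q8206 : ∀ i, i < 8206 → P i := stepQ 8205 Q8205 (allL N8205 (tt N8995 (iv F12275)) (tt N7548 (iv F10661)) (tt N5465 F10659) (tt N5464 (iv D9111)) (tt N7547 (iv F10660)))
theorem Q8207 : ∀ i, i < 8207 → P i := stepQ 8206 Q8206 (allL N8206 (tt N8987 (iv F12249)) (tt N7519 (iv F10664)) (tt N7400 F10663) (tt N7518 (iv F10665)) (tt N5464 (iv D9112)))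
theorem Q8208 : ∀ i, i < 8208 → P i := stepQ 8207 Q8207 (allL N8207 (tt N7173 F10667) (tt N5468 F10668) (tt N6267 F10669) (tt N5467 (iv D9113)) (tt N7172 F10670))
theorem Q8209 : ∀ i, i < 8209 → P i := stepQ 8208 Q8208 (allL N8208 (tt N5468 (iv D9114)) (tt N7726 (iv F10674)) (tt N7128 F10671) (tt N7127 F10672) (tt N7725 F10673))
theorem Q8210 : ∀ i, i < 8210 → P i := stepQ 8209 Q8209 (allL N8209 (tt N7725 F10675) (tt N7172 F10676) (tt N7389 F10677) (tt N5474 F10678) (tt N5468 (iv D9115)))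
theorem Q8211 : ∀ i, i < 8211 → P i := stepQ 8210 Q8210 (allL N8210 (tt N10068 D10983) (tt N5475 (iv D9116)) (tt N10069 D10984) (tt N7520 F10679) (tt N7516 (iv F10680)))
theorem Q8212 : ∀ i, i < 8212 → P i := stepQ 8211 Q8211 (allL N8211 (tt N8989 (iv F12256)) (tt N7516 F10681) (tt N7591 F10682) (tt N7547 F10683) (tt N5475 (iv D9117)))
theorem Q8213 : ∀ i, i < 8213 → P i := stepQ 8212 Q8212 (allL N8212 (tt N5479 (iv D9118)) (tt N6654 F10687) (tt N6227 F10684) (tt N6369 F10685) (tt N6653 F10686))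
theorem Q8214 : ∀ i, i < 8214 → P i := stepQ 8213 Q8213 (allL N8213 (tt N10070 D10985) (tt N9794 (iv F14129)) (tt N5484 (iv D9119)) (tt N10034 (iv F14726)) (tt N10071 D10986))
theorem Q8215 : ∀ i, i < 8215 → P i := stepQ 8214 Q8214 (allL N8214 (tt N5485 (iv D9120)) (tt N10072 D10987) (tt N8084 F10688) (tt N10073 D10988) (tt N10074 D10989))
theorem Q8216 : ∀ i, i < 8216 → P i := stepQ 8215 Q8215 (allL N8215 (tt N7355 F10690) (tt N5485 (iv D9121)) (tt N10024 (iv F14698)) (tt N6925 F10689) (tt N8491 F11240))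
theorem Q8217 : ∀ i, i < 8217 → P i := stepQ 8216 Q8216 (allL N8216 (tt N10074 (iv F14839)) (tt N8491 (iv F11237)) (tt N6400 F10691) (tt N7253 F10692) (tt N5485 (iv D9122)))
theorem Q8218 : ∀ i, i < 8218 → P i := stepQ 8217 Q8217 (allL N8217 (tt N5487 F10693) (tt N6075 F10694) (tt N10075 D10990) (tt N6086 F10695) (tt N5486 (iv D9123)))
theorem Q8219 : ∀ i, i < 8219 → P i := stepQ 8218 Q8218 (allL N8218 (tt N10076 D10991) (tt N9698 (iv F13886)) (tt N5487 (iv D9124)) (tt N5532 F10696) (tt N9697 (iv F13884)))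
theorem Q8220 : ∀ i, i < 8220 → P i := stepQ 8219 Q8219 (allL N8219 (tt N5488 (iv D9125)) (tt N9648 (iv F13771)) (tt N7367 F10697) (tt N10077 D10992) (tt N9617 (iv F13683)))
theorem Q8221 : ∀ i, i < 8221 → P i := stepQ 8220 Q8220 (allL N8220 (tt N10078 D10993) (tt N9700 (iv F13890)) (tt N5489 F10698) (tt N5488 (iv D9126)) (tt N9718 (iv F13931)))
theorem Q8222 : ∀ i, i < 8222 → P i := stepQ 8221 Q8221 (allL N8221 (tt N5489 (iv D9127)) (tt N6077 (iv F10700)) (tt N10079 D10994) (tt N6072 F10699) (tt N10080 D10995))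
theorem Q8223 : ∀ i, i < 8223 → P i := stepQ 8222 Q8222 (allL N8222 (tt N10080 (iv F14857)) (tt N8582 (iv F11442)) (tt N7574 (iv F10702)) (tt N5533 F10701) (tt N5489 (iv D9128)))
theorem Q8224 : ∀ i, i < 8224 → P i := stepQ 8223 Q8223 (allL N8223 (tt N5492 F10703) (tt N7138 F10704) (tt N9063 (iv F12421)) (tt N10081 D10996) (tt N5491 (iv D9129)))
theorem Q8225 : ∀ i, i < 8225 → P i := stepQ 8224 Q8224 (allL N8224 (tt N5493 (iv D9130)) (tt N7150 F10705) (tt N10082 D10997) (tt N8614 (iv F11509)) (tt N10083 D10998))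
theorem Q8226 : ∀ i, i < 8226 → P i := stepQ 8225 Q8225 (allL N8225 (tt N10083 (iv F14864)) (tt N7137 F10706) (tt N5500 F10707) (tt N5537 F10708) (tt N5493 (iv D9131)))
theorem Q8227 : ∀ i, i < 8227 → P i := stepQ 8226 Q8226 (allL N8226 (tt N5494 (iv D9132)) (tt N9467 (iv F13348)) (tt N9061 (iv F12417)) (tt N10084 D10999) (tt N9466 F13346))
theorem Q8228 : ∀ i, i < 8228 → P i := stepQ 8227 Q8227 (allL N8227 (tt N7460 F10709) (tt N5495 (iv D9133)) (tt N8449 (iv F11161)) (tt N9472 (iv F13365)) (tt N6020 (iv F10710)))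
theorem Q8229 : ∀ i, i < 8229 → P i := stepQ 8228 Q8228 (allL N8228 (tt N10079 (iv F14855)) (tt N9472 (iv F13364)) (tt N7952 F10711) (tt N5495 (iv D9134)) (tt N9471 F13362))
theorem Q8230 : ∀ i, i < 8230 → P i := stepQ 8229 Q8229 (allL N8229 (tt N5498 F10712) (tt N6020 F10713) (tt N9108 (iv F12526)) (tt N9814 (iv F14173)) (tt N5495 (iv D9135)))
theorem Q8231 : ∀ i, i < 8231 → P i := stepQ 8230 Q8230 (allL N8230 (tt N5497 (iv D9136)) (tt N9475 (iv F13373)) (tt N10085 D11000) (tt N10086 D11001) (tt N9474 (iv F13370)))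
theorem Q8232 : ∀ i, i < 8232 → P i := stepQ 8231 Q8231 (allL N8231 (tt N10077 (iv F14850)) (tt N6863 (iv F10714)) (tt N5499 (iv D9137)) (tt N9067 (iv F12431)) (tt N6861 F10715))
theorem Q8233 : ∀ i, i < 8233 → P i := stepQ 8232 Q8232 (allL N8232 (tt N6074 F10716) (tt N8319 (iv F10908)) (tt N6094 F10717) (tt N5610 F10718) (tt N5501 (iv D9138)))
theorem Q8234 : ∀ i, i < 8234 → P i := stepQ 8233 Q8233 (allL N8233 (tt N6105 F10720) (tt N8320 (iv F10912)) (tt N6054 F10719) (tt N5502 (iv D9139)) (tt N10087 D11002))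
theorem Q8235 : ∀ i, i < 8235 → P i := stepQ 8234 Q8234 (allL N8234 (tt N5504 F10722) (tt N7804 F10723) (tt N6051 F10724) (tt N7863 (iv F10725)) (tt N5503 (iv D9140)))
theorem Q8236 : ∀ i, i < 8236 → P i := stepQ 8235 Q8235 (allL N8235 (tt N5505 (iv D9141)) (tt N7805 F10726) (tt N6059 F10727) (tt N7803 F10728) (tt N10088 D11003))
theorem Q8237 : ∀ i, i < 8237 → P i := stepQ 8236 Q8236 (allL N8236 (tt N10088 (iv F14876)) (tt N5506 F10729) (tt N6070 F10731) (tt N5540 F10730) (tt N5505 (iv D9142)))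
theorem Q8238 : ∀ i, i < 8238 → P i := stepQ 8237 Q8237 (allL N8237 (tt N5507 (iv D9143)) (tt N9838 (iv F14228)) (tt N8743 (iv F11764)) (tt N9842 (iv F14240)) (tt N9837 F14226))
theorem Q8239 : ∀ i, i < 8239 → P i := stepQ 8238 Q8238 (allL N8238 (tt N9837 (iv F14223)) (tt N5508 F10732) (tt N8612 (iv F11504)) (tt N5511 (iv F10733)) (tt N5507 (iv D9144)))
theorem Q8240 : ∀ i, i < 8240 → P i := stepQ 8239 Q8239 (allL N8239 (tt N5647 F10734) (tt N5509 (iv D9145)) (tt N5635 F10735) (tt N10089 D11004) (tt N5624 (iv F10736)))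
theorem Q8241 : ∀ i, i < 8241 → P i := stepQ 8240 Q8240 (allL N8240 (tt N8682 (iv F11641)) (tt N10089 (iv F14881)) (tt N8713 (iv F11696)) (tt N5509 (iv D9146)) (tt N10090 D11005))
theorem Q8242 : ∀ i, i < 8242 → P i := stepQ 8241 Q8241 (allL N8241 (tt N5511 F10737) (tt N5624 F10738) (tt N8754 (iv F11778)) (tt N10091 D11006) (tt N5509 (iv D9147)))
theorem Q8243 : ∀ i, i < 8243 → P i := stepQ 8242 Q8242 (allL N8242 (tt N5510 (iv D9148)) (tt N9843 (iv F14242)) (tt N8747 (iv F11769)) (tt N9857 (iv F14275)) (tt N9841 (iv F14236)))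
theorem Q8244 : ∀ i, i < 8244 → P i := stepQ 8243 Q8243 (allL N8243 (tt N9841 F14235) (tt N5512 F10739) (tt N8777 (iv F11812)) (tt N5539 F10740) (tt N5510 (iv D9149)))
theorem Q8245 : ∀ i, i < 8245 → P i := stepQ 8244 Q8244 (allL N8244 (tt N8650 (iv F11576)) (tt N6784 F10741) (tt N9642 F13756) (tt N5513 (iv D9150)) (tt N6782 (iv F10742)))
theorem Q8246 : ∀ i, i < 8246 → P i := stepQ 8245 Q8245 (allL N8245 (tt N5514 (iv D9151)) (tt N9823 (iv F14194)) (tt N10092 D11007) (tt N9825 (iv F14199)) (tt N7894 F10745))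
theorem Q8247 : ∀ i, i < 8247 → P i := stepQ 8246 Q8246 (allL N8246 (tt N7511 F10744) (tt N5514 (iv D9152)) (tt N5555 F10743) (tt N9093 (iv F12494)) (tt N7509 (iv F10746)))
theorem Q8248 : ∀ i, i < 8248 → P i := stepQ 8247 Q8247 (allL N8247 (tt N10093 D11008) (tt N9093 F12495) (tt N5515 F10747) (tt N5514 (iv D9153)) (tt N9185 (iv F12724)))
theorem Q8249 : ∀ i, i < 8249 → P i := stepQ 8248 Q8248 (allL N8248 (tt N7894 F10748) (tt N7509 F10749) (tt N7386 F10750) (tt N9183 (iv F12721)) (tt N5514 (iv D9154)))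
theorem Q8250 : ∀ i, i < 8250 → P i := stepQ 8249 Q8249 (allL N8249 (tt N5515 (iv D9155)) (tt N7897 F10751) (tt N7193 F12907) (tt N7905 (iv F10753)) (tt N7895 F10752))
theorem Q8251 : ∀ i, i < 8251 → P i := stepQ 8250 Q8250 (allL N8250 (tt N7895 F10754) (tt N5517 F10755) (tt N9649 (iv F13776)) (tt N5531 (iv F10756)) (tt N5515 (iv D9156)))
theorem Q8252 : ∀ i, i < 8252 → P i := stepQ 8251 Q8251 (allL N8251 (tt N7156 F10757) (tt N9715 (iv F13920)) (tt N5516 (iv D9157)) (tt N9641 (iv F13751)) (tt N8828 (iv F11897)))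
theorem Q8253 : ∀ i, i < 8253 → P i := stepQ 8252 Q8252 (allL N8252 (tt N7904 F10760) (tt N5518 F10758) (tt N9641 (iv F13752)) (tt N5516 (iv D9158)) (tt N5530 F10759))
theorem Q8254 : ∀ i, i < 8254 → P i := stepQ 8253 Q8253 (allL N8253 (tt N8388 (iv F11053)) (tt N8390 (iv F11060)) (tt N5520 F10761) (tt N5519 (iv D9159)) (tt N8388 F11054))
theorem Q8255 : ∀ i, i < 8255 → P i := stepQ 8254 Q8254 (allL N8254 (tt N8689 (iv F11650)) (tt N8459 (iv F11172)) (tt N8620 F11520) (tt N5521 (iv D9160)) (tt N8689 (iv F11652)))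
theorem Q8256 : ∀ i, i < 8256 → P i := stepQ 8255 Q8255 (allL N8255 (tt N7961 F10762) (tt N7962 F10763) (tt N5523 (iv D9161)) (tt N7901 F10764) (tt N7961 F10765))
theorem Q8257 : ∀ i, i < 8257 → P i := stepQ 8256 Q8256 (allL N8256 (tt N8690 (iv F11653)) (tt N8458 F11171) (tt N8621 F11524) (tt N5525 (iv D9162)) (tt N8690 (iv F11655)))
theorem Q8258 : ∀ i, i < 8258 → P i := stepQ 8257 Q8257 (allL N8257 (tt N8391 (iv F11063)) (tt N8393 (iv F11068)) (tt N5527 F10766) (tt N5526 (iv D9163)) (tt N8391 (iv F11066)))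
theorem Q8259 : ∀ i, i < 8259 → P i := stepQ 8258 Q8258 (allL N8258 (tt N8654 (iv F11582)) (tt N6876 F10767) (tt N9650 F13781) (tt N5528 (iv D9164)) (tt N6875 F10768))
theorem Q8260 : ∀ i, i < 8260 → P i := stepQ 8259 Q8259 (allL N8259 (tt N5531 F10769) (tt N6783 F10770) (tt N7771 (iv F10772)) (tt N6782 F10771) (tt N5528 (iv D9165)))
theorem Q8261 : ∀ i, i < 8261 → P i := stepQ 8260 Q8260 (allL N8260 (tt N5529 (iv D9166)) (tt N9820 (iv F14188)) (tt N10094 D11009) (tt N9822 (iv F14192)) (tt N7903 F10775))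
theorem Q8262 : ∀ i, i < 8262 → P i := stepQ 8261 Q8261 (allL N8261 (tt N7543 F10774) (tt N5529 (iv D9167)) (tt N7783 F10773) (tt N9087 (iv F12476)) (tt N7541 (iv F10776)))
theorem Q8263 : ∀ i, i < 8263 → P i := stepQ 8262 Q8262 (allL N8262 (tt N10095 D11010) (tt N9087 (iv F12475)) (tt N5530 F10777) (tt N5529 (iv D9168)) (tt N9183 (iv F12722)))
theorem Q8264 : ∀ i, i < 8264 → P i := stepQ 8263 Q8263 (allL N8263 (tt N7903 F10778) (tt N7541 F10779) (tt N7403 F10780) (tt N9185 (iv F12723)) (tt N5529 (iv D9169)))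
theorem Q8265 : ∀ i, i < 8265 → P i := stepQ 8264 Q8264 (allL N8264 (tt N5530 (iv D9170)) (tt N7898 F10783) (tt N7161 F10784) (tt N7896 F10782) (tt N7904 F10781))
theorem Q8266 : ∀ i, i < 8266 → P i := stepQ 8265 Q8265 (allL N8265 (tt N7160 F10785) (tt N9727 (iv F13948)) (tt N5531 (iv D9171)) (tt N9649 (iv F13775)) (tt N8952 (iv F12160)))
theorem Q8267 : ∀ i, i < 8267 → P i := stepQ 8266 Q8266 (allL N8266 (tt N5532 (iv D9172)) (tt N9728 (iv F13953)) (tt N7966 F10786) (tt N9062 (iv F12420)) (tt N9636 (iv F13736)))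
theorem Q8268 : ∀ i, i < 8268 → P i := stepQ 8267 Q8267 (allL N8267 (tt N7555 F10787) (tt N5534 (iv D9173)) (tt N8555 (iv F11381)) (tt N9473 (iv F13366)) (tt N6457 (iv F10788)))
theorem Q8269 : ∀ i, i < 8269 → P i := stepQ 8268 Q8268 (allL N8268 (tt N10075 (iv F14842)) (tt N9473 (iv F13368)) (tt N7951 F10789) (tt N5534 (iv D9174)) (tt N9814 (iv F14174)))
theorem Q8270 : ∀ i, i < 8270 → P i := stepQ 8269 Q8269 (allL N8269 (tt N5536 F10790) (tt N6457 F10791) (tt N9118 (iv F12550)) (tt N9471 (iv F13361)) (tt N5534 (iv D9175)))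
theorem Q8271 : ∀ i, i < 8271 → P i := stepQ 8270 Q8270 (allL N8270 (tt N5537 (iv D9176)) (tt N6459 F10792) (tt N7967 F10793) (tt N9447 (iv F13290)) (tt N8957 (iv F12177)))
theorem Q8272 : ∀ i, i < 8272 → P i := stepQ 8271 Q8271 (allL N8271 (tt N5904 F10794) (tt N5538 (iv D9177)) (tt N5892 F10795) (tt N10096 D11011) (tt N9196 (iv F12756)))
theorem Q8273 : ∀ i, i < 8273 → P i := stepQ 8272 Q8272 (allL N8272 (tt N8696 (iv F11663)) (tt N10096 (iv F14905)) (tt N8738 (iv F11750)) (tt N5538 (iv D9178)) (tt N10091 (iv F14889)))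
theorem Q8274 : ∀ i, i < 8274 → P i := stepQ 8273 Q8273 (allL N8273 (tt N5539 F10796) (tt N9196 (iv F12754)) (tt N8972 (iv F12212)) (tt N10090 (iv F14886)) (tt N5538 (iv D9179)))
theorem Q8275 : ∀ i, i < 8275 → P i := stepQ 8274 Q8274 (allL N8274 (tt N5540 (iv D9180)) (tt N8566 (iv F11396)) (tt N6478 F10797) (tt N10087 (iv F14874)) (tt N5610 F10798))
theorem Q8276 : ∀ i, i < 8276 → P i := stepQ 8275 Q8275 (allL N8275 (tt N5546 F10799) (tt N6559 F10800) (tt N5545 F10801) (tt N5611 F10802) (tt N5542 (iv D9181)))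
theorem Q8277 : ∀ i, i < 8277 → P i := stepQ 8276 Q8276 (allL N8276 (tt N5549 (iv D9182)) (tt N6040 (iv F10807)) (tt N7766 F10803) (tt N6034 F10804) (tt N6479 F10805))
theorem Q8278 : ∀ i, i < 8278 → P i := stepQ 8277 Q8277 (allL N8277 (tt N5551 F10811) (tt N6914 F10812) (tt N9344 (iv F13077)) (tt N9615 (iv F13672)) (tt N5550 (iv D9183)))
theorem Q8279 : ∀ i, i < 8279 → P i := stepQ 8278 Q8278 (allL N8278 (tt N5552 (iv D9184)) (tt N6916 F10813) (tt N9402 (iv F13226)) (tt N6913 F10814) (tt N10097 D11012))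
theorem Q8280 : ∀ i, i < 8280 → P i := stepQ 8279 Q8279 (allL N8279 (tt N10097 (iv F14908)) (tt N6532 F10815) (tt N5558 F10816) (tt N5620 F10817) (tt N5552 (iv D9185)))
theorem Q8281 : ∀ i, i < 8281 → P i := stepQ 8280 Q8280 (allL N8280 (tt N6036 F10818) (tt N6680 F10819) (tt N8824 (iv F11887)) (tt N5553 (iv D9186)) (tt N6780 (iv F10821)))
theorem Q8282 : ∀ i, i < 8282 → P i := stepQ 8281 Q8281 (allL N8281 (tt N5554 (iv D9187)) (tt N9345 (iv F13079)) (tt N6913 F10822) (tt N9402 (iv F13225)) (tt N8823 (iv F11884)))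
theorem Q8283 : ∀ i, i < 8283 → P i := stepQ 8282 Q8282 (allL N8282 (tt N5556 (iv D9188)) (tt N9347 (iv F13082)) (tt N9615 (iv F13671)) (tt N9344 (iv F13078)) (tt N8953 (iv F12164)))
theorem Q8284 : ∀ i, i < 8284 → P i := stepQ 8283 Q8283 (allL N8283 (tt N5558 F10823) (tt N6751 F10824) (tt N6780 F10826) (tt N6780 F10825) (tt N5557 (iv D9189)))
theorem Q8285 : ∀ i, i < 8285 → P i := stepQ 8284 Q8284 (allL N8284 (tt N5560 (iv D9190)) (tt N9962 (iv F14533)) (tt N10098 D11013) (tt N10098 (iv F14915)) (tt N9314 F13003))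
theorem Q8286 : ∀ i, i < 8286 → P i := stepQ 8285 Q8285 (allL N8285 (tt N9314 (iv F13002)) (tt N7170 F10827) (tt N8832 (iv F11906)) (tt N5568 F10828) (tt N5560 (iv D9191)))
theorem Q8287 : ∀ i, i < 8287 → P i := stepQ 8286 Q8286 (allL N8286 (tt N9310 (iv F12995)) (tt N6523 F10830) (tt N5561 (iv D9192)) (tt N5571 F10829) (tt N6521 F10831))
theorem Q8288 : ∀ i, i < 8288 → P i := stepQ 8287 Q8287 (allL N8287 (tt N5752 F10832) (tt N5636 F10833) (tt N5563 (iv D9193)) (tt N5782 F10834) (tt N7615 F10835))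
theorem Q8289 : ∀ i, i < 8289 → P i := stepQ 8288 Q8288 (allL N8288 (tt N7416 F10836) (tt N6667 F10837) (tt N8956 (iv F12174)) (tt N5565 (iv D9194)) (tt N5614 F10838))
theorem Q8290 : ∀ i, i < 8290 → P i := stepQ 8289 Q8289 (allL N8289 (tt N5567 (iv D9195)) (tt N10099 D11014) (tt N10100 D11015) (tt N10100 (iv F14922)) (tt N9522 F13467))
theorem Q8291 : ∀ i, i < 8291 → P i := stepQ 8290 Q8290 (allL N8290 (tt N9522 (iv F13464)) (tt N7181 F10839) (tt N8836 (iv F11918)) (tt N5617 F10840) (tt N5567 (iv D9196)))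
theorem Q8292 : ∀ i, i < 8292 → P i := stepQ 8291 Q8291 (allL N8291 (tt N9315 (iv F13004)) (tt N6531 F10842) (tt N5570 (iv D9197)) (tt N5618 F10841) (tt N6530 F10843))
theorem Q8293 : ∀ i, i < 8293 → P i := stepQ 8292 Q8292 (allL N8292 (tt N9773 (iv F14082)) (tt N5573 F10844) (tt N8435 (iv F11142)) (tt N5572 (iv D9198)) (tt N5936 F10845))
theorem Q8294 : ∀ i, i < 8294 → P i := stepQ 8293 Q8293 (allL N8293 (tt N5573 (iv D9199)) (tt N6106 (iv F10847)) (tt N10101 D11016) (tt N6104 F10846) (tt N10102 D11017))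
theorem Q8295 : ∀ i, i < 8295 → P i := stepQ 8294 Q8294 (allL N8294 (tt N10102 (iv F14927)) (tt N5936 F10848) (tt N10103 D11018) (tt N5604 F10849) (tt N5573 (iv D9200)))
theorem Q8296 : ∀ i, i < 8296 → P i := stepQ 8295 Q8295 (allL N8295 (tt N10104 D11019) (tt N5946 F10850) (tt N5574 (iv D9201)) (tt N10105 D11020) (tt N8838 (iv F11922)))
theorem Q8297 : ∀ i, i < 8297 → P i := stepQ 8296 Q8296 (allL N8296 (tt N10106 D11021) (tt N5937 F10851) (tt N10105 (iv F14936)) (tt N5574 (iv D9202)) (tt N5603 F10852))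
theorem Q8298 : ∀ i, i < 8298 → P i := stepQ 8297 Q8297 (allL N8297 (tt N10101 (iv F14923)) (tt N7729 F10853) (tt N8000 F10854) (tt N5575 (iv D9203)) (tt N7728 F10855))
theorem Q8299 : ∀ i, i < 8299 → P i := stepQ 8298 Q8298 (allL N8298 (tt N5577 (iv D9204)) (tt N9804 (iv F14151)) (tt N10107 D11022) (tt N10108 D11023) (tt N8945 (iv F12144)))
theorem Q8300 : ∀ i, i < 8300 → P i := stepQ 8299 Q8299 (allL N8299 (tt N6763 F10856) (tt N5578 (iv D9205)) (tt N10109 D11024) (tt N6717 (iv F10857)) (tt N6699 F10858))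
theorem Q8301 : ∀ i, i < 8301 → P i := stepQ 8300 Q8300 (allL N8300 (tt N6104 F10859) (tt N6717 F10860) (tt N6602 F10861) (tt N5578 (iv D9206)) (tt N6716 (iv F10862)))
theorem Q8302 : ∀ i, i < 8302 → P i := stepQ 8301 Q8301 (allL N8301 (tt N5579 F10863) (tt N6699 F10864) (tt N9269 (iv F12912)) (tt N6698 (iv F10865)) (tt N5578 (iv D9207)))
theorem Q8303 : ∀ i, i < 8303 → P i := stepQ 8302 Q8302 (allL N8302 (tt N9651 (iv F13782)) (tt N7750 F10867) (tt N5579 (iv D9208)) (tt N5609 F10866) (tt N8842 (iv F11934)))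
theorem Q8304 : ∀ i, i < 8304 → P i := stepQ 8303 Q8303 (allL N8303 (tt N9639 (iv F13746)) (tt N7751 F10868) (tt N5581 F10869) (tt N5580 (iv D9209)) (tt N8841 (iv F11931)))
theorem Q8305 : ∀ i, i < 8305 → P i := stepQ 8304 Q8304 (allL N8304 (tt N5581 (iv D9210)) (tt N6573 F10870) (tt N9240 (iv F12858)) (tt N6716 F10872) (tt N5608 F10871))
theorem Q8306 : ∀ i, i < 8306 → P i := stepQ 8305 Q8305 (allL N8305 (tt N7849 F10874) (tt N5585 (iv D9211)) (tt N8305 F10873) (tt N9555 (iv F13533)) (tt N9550 F13521))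
theorem Q8307 : ∀ i, i < 8307 → P i := stepQ 8306 Q8306 (allL N8306 (tt N6098 F10875) (tt N5594 (iv D9212)) (tt N6594 F10877) (tt N5608 (iv F10878)) (tt N6698 F10876))
theorem Q8308 : ∀ i, i < 8308 → P i := stepQ 8307 Q8307 (allL N8307 (tt N5822 F10879) (tt N5887 F10880) (tt N5594 (iv D9213)) (tt N10110 D11025) (tt N6686 F10881))
theorem Q8309 : ∀ i, i < 8309 → P i := stepQ 8308 Q8308 (allL N8308 (tt N6764 F10882) (tt N5608 F10883) (tt N10110 (iv F14954)) (tt N5594 (iv D9214)) (tt N6573 F10884))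
theorem Q8310 : ∀ i, i < 8310 → P i := stepQ 8309 Q8309 (allL N8309 (tt N5597 (iv D9215)) (tt N9971 (iv F14560)) (tt N5672 F10885) (tt N9974 (iv F14569)) (tt N9549 (iv F13518)))
theorem Q8311 : ∀ i, i < 8311 → P i := stepQ 8310 Q8310 (allL N8310 (tt N9772 (iv F14079)) (tt N5603 F10886) (tt N8549 (iv F11374)) (tt N5600 (iv D9216)) (tt N5937 F10887))
theorem Q8312 : ∀ i, i < 8312 → P i := stepQ 8311 Q8311 (allL N8311 (tt N5603 (iv D9217)) (tt N6099 (iv F10889)) (tt N10111 D11026) (tt N6098 F10888) (tt N10106 (iv F14938)))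
theorem Q8313 : ∀ i, i < 8313 → P i := stepQ 8312 Q8312 (allL N8312 (tt N10112 D11027) (tt N7536 F10890) (tt N5604 (iv D9218)) (tt N10103 (iv F14932)) (tt N8944 (iv F12142)))
theorem Q8314 : ∀ i, i < 8314 → P i := stepQ 8313 Q8313 (allL N8313 (tt N10111 (iv F14956)) (tt N7738 F10891) (tt N8032 F10892) (tt N5605 (iv D9219)) (tt N8631 (iv F11539)))
theorem Q8315 : ∀ i, i < 8315 → P i := stepQ 8314 Q8314 (allL N8314 (tt N5607 (iv D9220)) (tt N9798 (iv F14139)) (tt N10113 D11028) (tt N10114 D11029) (tt N8840 (iv F11927)))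
theorem Q8316 : ∀ i, i < 8316 → P i := stepQ 8315 Q8315 (allL N8315 (tt N5609 (iv D9221)) (tt N7098 F10893) (tt N8033 F10894) (tt N7097 (iv F10895)) (tt N8946 (iv F12146)))
theorem Q8317 : ∀ i, i < 8317 → P i := stepQ 8316 Q8316 (allL N8316 (tt N5875 F10896) (tt N5893 F10898) (tt N5613 (iv D9222)) (tt N5864 (iv F10899)) (tt N7618 F10897))
theorem Q8318 : ∀ i, i < 8318 → P i := stepQ 8317 Q8317 (allL N8317 (tt N5915 F10900) (tt N5614 F10901) (tt N5864 F10902) (tt N5613 (iv D9223)) (tt N6667 F10903))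
theorem Q8319 : ∀ i, i < 8319 → P i := stepQ 8318 Q8318 (allL N8318 (tt N7566 F10904) (tt N5618 (iv D9224)) (tt N9727 (iv F13949)) (tt N6531 F10905) (tt N6522 F10906))
theorem Q8320 : ∀ i, i < 8320 → P i := stepQ 8319 Q8319 (allL N8319 (tt N5656 F10907) (tt N8232 F10908) (tt N5671 F10909) (tt N5891 F10910) (tt N5621 (iv D9225)))
theorem Q8321 : ∀ i, i < 8321 → P i := stepQ 8320 Q8320 (allL N8320 (tt N5693 F10911) (tt N8233 F10912) (tt N5634 F10913) (tt N5622 (iv D9226)) (tt N10115 D11030))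
theorem Q8322 : ∀ i, i < 8322 → P i := stepQ 8321 Q8321 (allL N8321 (tt N5658 F10914) (tt N10090 (iv F14885)) (tt N5623 (iv D9227)) (tt N9196 (iv F12755)) (tt N10089 (iv F14883)))
theorem Q8323 : ∀ i, i < 8323 → P i := stepQ 8322 Q8322 (allL N8322 (tt N5669 F10917) (tt N10091 (iv F14888)) (tt N5625 F10918) (tt N5624 (iv D9228)) (tt N10096 (iv F14907)))
theorem Q8324 : ∀ i, i < 8324 → P i := stepQ 8323 Q8323 (allL N8323 (tt N5698 F10919) (tt N5932 F10920) (tt N10115 (iv F14970)) (tt N5897 F10921) (tt N5625 (iv D9229)))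
theorem Q8325 : ∀ i, i < 8325 → P i := stepQ 8324 Q8324 (allL N8324 (tt N6728 F10922) (tt N5629 F10923) (tt N6918 F10924) (tt N10116 D11031) (tt N5628 (iv D9230)))
theorem Q8326 : ∀ i, i < 8326 → P i := stepQ 8325 Q8325 (allL N8325 (tt N5659 F10925) (tt N10116 (iv F14973)) (tt N9192 (iv F12743)) (tt N5629 (iv D9231)) (tt N9978 (iv F14578)))
theorem Q8327 : ∀ i, i < 8327 → P i := stepQ 8326 Q8326 (allL N8326 (tt N9162 (iv F12671)) (tt N5630 (iv D9232)) (tt N10117 D11032) (tt N9976 (iv F14573)) (tt N9160 (iv F12668)))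
theorem Q8328 : ∀ i, i < 8328 → P i := stepQ 8327 Q8327 (allL N8327 (tt N5684 F10926) (tt N9160 (iv F12667)) (tt N9193 (iv F12745)) (tt N9968 (iv F14551)) (tt N5630 (iv D9233)))
theorem Q8329 : ∀ i, i < 8329 → P i := stepQ 8328 Q8328 (allL N8328 (tt N5631 (iv D9234)) (tt N5823 F10927) (tt N7910 F10929) (tt N7910 F10928) (tt N6736 F10930))
theorem Q8330 : ∀ i, i < 8330 → P i := stepQ 8329 Q8329 (allL N8329 (tt N10118 D11033) (tt N8538 (iv F11347)) (tt N5631 (iv D9235)) (tt N5894 F10931) (tt N10119 D11034))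
theorem Q8331 : ∀ i, i < 8331 → P i := stepQ 8330 Q8330 (allL N8330 (tt N6736 F10932) (tt N5632 F10933) (tt N9598 (iv F13626)) (tt N5639 (iv F10934)) (tt N5631 (iv D9236)))
theorem Q8332 : ∀ i, i < 8332 → P i := stepQ 8331 Q8331 (allL N8331 (tt N5760 F10935) (tt N8414 (iv F11097)) (tt N5633 (iv D9237)) (tt N10120 D11035) (tt N10121 D11036))
theorem Q8333 : ∀ i, i < 8333 → P i := stepQ 8332 Q8332 (allL N8332 (tt N5770 F10937) (tt N5634 F10936) (tt N10120 (iv F14981)) (tt N5633 (iv D9238)) (tt N10122 D11037))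
theorem Q8334 : ∀ i, i < 8334 → P i := stepQ 8333 Q8333 (allL N8333 (tt N5754 F10938) (tt N5635 F10939) (tt N9927 (iv F14442)) (tt N10123 D11038) (tt N5633 (iv D9239)))
theorem Q8335 : ∀ i, i < 8335 → P i := stepQ 8334 Q8334 (allL N8334 (tt N5697 F10940) (tt N10122 (iv F14986)) (tt N10096 (iv F14906)) (tt N5892 F10941) (tt N5634 (iv D9240)))
theorem Q8336 : ∀ i, i < 8336 → P i := stepQ 8335 Q8335 (allL N8335 (tt N5673 F10945) (tt N10123 (iv F14988)) (tt N10089 (iv F14882)) (tt N5635 (iv D9241)) (tt N5671 F10944))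
theorem Q8337 : ∀ i, i < 8337 → P i := stepQ 8336 Q8336 (allL N8336 (tt N5639 F10946) (tt N7615 F10947) (tt N9790 (iv F14121)) (tt N7938 F10948) (tt N5636 (iv D9242)))
theorem Q8338 : ∀ i, i < 8338 → P i := stepQ 8337 Q8337 (allL N8337 (tt N10124 D11039) (tt N8492 (iv F11241)) (tt N5638 F10949) (tt N5637 (iv D9243)) (tt N10125 D11040))
theorem Q8339 : ∀ i, i < 8339 → P i := stepQ 8338 Q8338 (allL N8338 (tt N7711 F10950) (tt N8493 (iv F11244)) (tt N8791 (iv F11834)) (tt N10119 (iv F14980)) (tt N5637 (iv D9244)))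
theorem Q8340 : ∀ i, i < 8340 → P i := stepQ 8339 Q8339 (allL N8339 (tt N5638 (iv D9245)) (tt N6740 F10953) (tt N7916 F10952) (tt N7916 F10951) (tt N6738 F10954))
theorem Q8341 : ∀ i, i < 8341 → P i := stepQ 8340 Q8340 (allL N8340 (tt N6738 F10955) (tt N5641 F10956) (tt N9607 (iv F13654)) (tt N5895 F10957) (tt N5638 (iv D9246)))
theorem Q8342 : ∀ i, i < 8342 → P i := stepQ 8341 Q8341 (allL N8341 (tt N5811 F10958) (tt N5640 (iv D9247)) (tt N10047 (iv F14757)) (tt N5784 F10959) (tt N5830 F10960))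
theorem Q8343 : ∀ i, i < 8343 → P i := stepQ 8342 Q8342 (allL N8342 (tt N9176 (iv F12700)) (tt N5642 (iv D9248)) (tt N10126 D11041) (tt N9967 (iv F14549)) (tt N9175 F12699))
theorem Q8344 : ∀ i, i < 8344 → P i := stepQ 8343 Q8343 (allL N8343 (tt N5683 F10961) (tt N9175 (iv F12698)) (tt N9282 (iv F12932)) (tt N9977 (iv F14575)) (tt N5642 (iv D9249)))
theorem Q8345 : ∀ i, i < 8345 → P i := stepQ 8344 Q8344 (allL N8344 (tt N5649 F10962) (tt N10127 D11042) (tt N5643 (iv D9250)) (tt N9978 (iv F14577)) (tt N5648 F10963))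
theorem Q8346 : ∀ i, i < 8346 → P i := stepQ 8345 Q8345 (allL N8345 (tt N6774 F10964) (tt N5648 (iv D9251)) (tt N7249 F10965) (tt N9966 (iv F14547)) (tt N10127 (iv F14998)))
theorem Q8347 : ∀ i, i < 8347 → P i := stepQ 8346 Q8346 (allL N8346 (tt N10128 D11043) (tt N5664 F10966) (tt N5652 (iv D9252)) (tt N7319 F10967) (tt N5744 F10968))
theorem Q8348 : ∀ i, i < 8348 → P i := stepQ 8347 Q8347 (allL N8347 (tt N9901 (iv F14370)) (tt N5658 (iv D9253)) (tt N6199 F12471) (tt N9205 (iv F12785)) (tt N10002 (iv F14647)))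
theorem Q8349 : ∀ i, i < 8349 → P i := stepQ 8348 Q8348 (allL N8348 (tt N10089 (iv F14880)) (tt N10002 (iv F14645)) (tt N5676 F10969) (tt N9202 F12778) (tt N5658 (iv D9254)))
theorem Q8350 : ∀ i, i < 8350 → P i := stepQ 8349 Q8349 (allL N8349 (tt N9978 (iv F14576)) (tt N9660 F13806) (tt N9199 F12768) (tt N5670 F10970) (tt N5659 (iv D9255)))
theorem Q8351 : ∀ i, i < 8351 → P i := stepQ 8350 Q8350 (allL N8350 (tt N9849 (iv F14255)) (tt N5660 (iv D9256)) (tt N10129 D11044) (tt N8129 F10971) (tt N8115 (iv F10972)))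
theorem Q8352 : ∀ i, i < 8352 → P i := stepQ 8351 Q8351 (allL N8351 (tt N5663 F10973) (tt N8115 F10974) (tt N5673 F10975) (tt N8113 (iv F10976)) (tt N5660 (iv D9257)))
theorem Q8353 : ∀ i, i < 8353 → P i := stepQ 8352 Q8352 (allL N8352 (tt N7521 F10977) (tt N7301 F10978) (tt N5661 (iv D9258)) (tt N7528 F10979) (tt N7521 F10980))
theorem Q8354 : ∀ i, i < 8354 → P i := stepQ 8353 Q8353 (allL N8353 (tt N7527 F10981) (tt N7319 F10982) (tt N5665 F10983) (tt N5664 (iv D9259)) (tt N7527 F10984))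
theorem Q8355 : ∀ i, i < 8355 → P i := stepQ 8354 Q8354 (allL N8354 (tt N9851 (iv F14262)) (tt N5666 (iv D9260)) (tt N10130 D11045) (tt N8116 F10985) (tt N8128 (iv F10986)))
theorem Q8356 : ∀ i, i < 8356 → P i := stepQ 8355 Q8355 (allL N8355 (tt N5667 F10987) (tt N8128 F10988) (tt N5697 F10989) (tt N8126 F10990) (tt N5666 (iv D9261)))
theorem Q8357 : ∀ i, i < 8357 → P i := stepQ 8356 Q8356 (allL N8356 (tt N9016 (iv F12318)) (tt N5670 F10991) (tt N9654 (iv F13790)) (tt N9660 (iv F13804)) (tt N5668 (iv D9262)))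
theorem Q8358 : ∀ i, i < 8358 → P i := stepQ 8357 Q8357 (allL N8357 (tt N9903 (iv F14375)) (tt N5669 (iv D9263)) (tt N6195 F12468) (tt N9201 (iv F12772)) (tt N10032 (iv F14723)))
theorem Q8359 : ∀ i, i < 8359 → P i := stepQ 8358 Q8358 (allL N8358 (tt N10096 (iv F14904)) (tt N10032 (iv F14721)) (tt N5695 F10992) (tt N9206 (iv F12791)) (tt N5669 (iv D9264)))
theorem Q8360 : ∀ i, i < 8360 → P i := stepQ 8359 Q8359 (allL N8359 (tt N10115 (iv F14968)) (tt N8359 F10994) (tt N5670 (iv D9265)) (tt N9199 (iv F12767)) (tt N5693 F10993))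
theorem Q8361 : ∀ i, i < 8361 → P i := stepQ 8360 Q8360 (allL N8360 (tt N5887 F10995) (tt N5671 (iv D9266)) (tt N10131 D11046) (tt N5874 F10996) (tt N10123 (iv F14989)))
theorem Q8362 : ∀ i, i < 8362 → P i := stepQ 8361 Q8361 (allL N8361 (tt N6687 F10997) (tt N5673 F10998) (tt N7286 F10999) (tt N9970 (iv F14557)) (tt N5672 (iv D9267)))
theorem Q8363 : ∀ i, i < 8363 → P i := stepQ 8362 Q8362 (allL N8362 (tt N5674 (iv D9268)) (tt N7933 F11000) (tt N6611 F11001) (tt N6610 F11002) (tt N9125 (iv F12572)))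
theorem Q8364 : ∀ i, i < 8364 → P i := stepQ 8363 Q8363 (allL N8363 (tt N8629 (iv F11534)) (tt N8363 F11003) (tt N5674 (iv D9269)) (tt N7697 (iv F11005)) (tt N7774 F11004))
theorem Q8365 : ∀ i, i < 8365 → P i := stepQ 8364 Q8364 (allL N8364 (tt N7935 F11006) (tt N5675 F11007) (tt N7697 F11008) (tt N5674 (iv D9270)) (tt N10132 D11047))
theorem Q8366 : ∀ i, i < 8366 → P i := stepQ 8365 Q8365 (allL N8365 (tt N9125 (iv F12571)) (tt N5676 F11009) (tt N10133 D11048) (tt N10134 D11049) (tt N5674 (iv D9271)))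
theorem Q8367 : ∀ i, i < 8367 → P i := stepQ 8366 Q8366 (allL N8366 (tt N9977 (iv F14574)) (tt N10132 (iv F15011)) (tt N9206 (iv F12790)) (tt N5695 F11010) (tt N5675 (iv D9272)))
theorem Q8368 : ∀ i, i < 8368 → P i := stepQ 8367 Q8367 (allL N8367 (tt N9968 (iv F14550)) (tt N10134 (iv F15018)) (tt N9202 (iv F12777)) (tt N5676 (iv D9273)) (tt N5694 F11011))
theorem Q8369 : ∀ i, i < 8369 → P i := stepQ 8368 Q8368 (allL N8368 (tt N7737 F11012) (tt N9946 (iv F14491)) (tt N7606 F11013) (tt N5679 (iv D9274)) (tt N7932 (iv F11014)))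
theorem Q8370 : ∀ i, i < 8370 → P i := stepQ 8369 Q8369 (allL N8369 (tt N5682 F11015) (tt N7331 F11016) (tt N9701 (iv F13894)) (tt N7931 F11017) (tt N5679 (iv D9275)))
theorem Q8371 : ∀ i, i < 8371 → P i := stepQ 8370 Q8370 (allL N8370 (tt N7929 F11018) (tt N5683 F11019) (tt N7749 F11020) (tt N5902 (iv F11021)) (tt N5681 (iv D9276)))
theorem Q8372 : ∀ i, i < 8372 → P i := stepQ 8371 Q8371 (allL N8371 (tt N7928 F11025) (tt N5684 F11022) (tt N7753 F11023) (tt N5682 (iv D9277)) (tt N5901 F11024))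
theorem Q8373 : ∀ i, i < 8373 → P i := stepQ 8372 Q8372 (allL N8372 (tt N5692 (iv D9278)) (tt N9133 (iv F12595)) (tt N6609 F11026) (tt N6636 F11027) (tt N9132 F12593))
theorem Q8374 : ∀ i, i < 8374 → P i := stepQ 8373 Q8373 (allL N8373 (tt N8633 (iv F11541)) (tt N8373 F11028) (tt N5692 (iv D9279)) (tt N7698 (iv F11030)) (tt N7696 F11029))
theorem Q8375 : ∀ i, i < 8375 → P i := stepQ 8374 Q8374 (allL N8374 (tt N7920 F11031) (tt N5694 F11032) (tt N7698 F11033) (tt N5692 (iv D9280)) (tt N10134 (iv F15020)))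
theorem Q8376 : ∀ i, i < 8376 → P i := stepQ 8375 Q8375 (allL N8375 (tt N9132 (iv F12591)) (tt N5695 F11034) (tt N10135 D11050) (tt N10132 (iv F15013)) (tt N5692 (iv D9281)))
theorem Q8377 : ∀ i, i < 8377 → P i := stepQ 8376 Q8376 (allL N8376 (tt N5696 (iv D9282)) (tt N6693 F11037) (tt N8376 F11036) (tt N7851 F11035) (tt N6691 F11038))
theorem Q8378 : ∀ i, i < 8378 → P i := stepQ 8377 Q8377 (allL N8377 (tt N9555 (iv F13534)) (tt N9972 (iv F14562)) (tt N5696 (iv D9283)) (tt N9969 (iv F14553)) (tt N9554 (iv F13535)))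
theorem Q8379 : ∀ i, i < 8379 → P i := stepQ 8378 Q8378 (allL N8378 (tt N6691 F11039) (tt N5697 F11040) (tt N7293 (iv F11041)) (tt N9979 (iv F14581)) (tt N5696 (iv D9284)))
theorem Q8380 : ∀ i, i < 8380 → P i := stepQ 8379 Q8379 (allL N8379 (tt N9933 (iv F14457)) (tt N5699 (iv D9285)) (tt N10136 D11051) (tt N10027 (iv F14707)) (tt N9931 (iv F14454)))
theorem Q8381 : ∀ i, i < 8381 → P i := stepQ 8380 Q8380 (allL N8380 (tt N5712 F11042) (tt N9931 (iv F14452)) (tt N5703 F11043) (tt N9995 (iv F14625)) (tt N5699 (iv D9286)))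
theorem Q8382 : ∀ i, i < 8382 → P i := stepQ 8381 Q8381 (allL N8381 (tt N6372 F11044) (tt N9776 (iv F14090)) (tt N9995 (iv F14624)) (tt N5703 (iv F11045)) (tt N5701 (iv D9287)))
theorem Q8383 : ∀ i, i < 8383 → P i := stepQ 8382 Q8382 (allL N8382 (tt N6381 F11046) (tt N9788 (iv F14114)) (tt N10028 (iv F14708)) (tt N6451 F11047) (tt N5702 (iv D9288)))
theorem Q8384 : ∀ i, i < 8384 → P i := stepQ 8383 Q8383 (allL N8383 (tt N5705 F11048) (tt N8197 F11049) (tt N9684 (iv F13862)) (tt N9053 (iv F12392)) (tt N5704 (iv D9289)))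
theorem Q8385 : ∀ i, i < 8385 → P i := stepQ 8384 Q8384 (allL N8384 (tt N7271 F11050) (tt N5707 F11051) (tt N10086 (iv F14872)) (tt N10085 F14870) (tt N5706 (iv D9290)))
theorem Q8386 : ∀ i, i < 8386 → P i := stepQ 8385 Q8385 (allL N8385 (tt N9671 (iv F13832)) (tt N10137 D11052) (tt N5707 (iv D9291)) (tt N9999 (iv F14639)) (tt N10138 D11053))
theorem Q8387 : ∀ i, i < 8387 → P i := stepQ 8386 Q8386 (allL N8386 (tt N9680 (iv F13851)) (tt N10085 (iv F14869)) (tt N9999 (iv F14638)) (tt N5707 (iv D9292)) (tt N9294 F12961))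
theorem Q8388 : ∀ i, i < 8388 → P i := stepQ 8387 Q8387 (allL N8387 (tt N5708 (iv D9293)) (tt N10139 D11054) (tt N5715 F11052) (tt N10000 (iv F14641)) (tt N10140 D11055))
theorem Q8389 : ∀ i, i < 8389 → P i := stepQ 8388 Q8388 (allL N8388 (tt N8253 F11053) (tt N5708 (iv D9294)) (tt N7522 F11056) (tt N7529 (iv F11055)) (tt N8253 (iv F11054)))
theorem Q8390 : ∀ i, i < 8390 → P i := stepQ 8389 Q8389 (allL N8389 (tt N9994 (iv F14622)) (tt N7529 F11057) (tt N5709 F11058) (tt N5708 (iv D9295)) (tt N6452 (iv F11059)))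
theorem Q8391 : ∀ i, i < 8391 → P i := stepQ 8390 Q8390 (allL N8390 (tt N10140 (iv F15032)) (tt N8253 F11060) (tt N5718 F11061) (tt N5712 (iv F11062)) (tt N5708 (iv D9296)))
theorem Q8392 : ∀ i, i < 8392 → P i := stepQ 8391 Q8391 (allL N8391 (tt N8257 F11063) (tt N5711 F11064) (tt N7523 F11065) (tt N5710 (iv D9297)) (tt N8257 F11066))
theorem Q8393 : ∀ i, i < 8393 → P i := stepQ 8392 Q8392 (allL N8392 (tt N5711 (iv D9298)) (tt N10141 D11056) (tt N6694 F11067) (tt N9030 (iv F12353)) (tt N10142 D11057))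
theorem Q8394 : ∀ i, i < 8394 → P i := stepQ 8393 Q8393 (allL N8393 (tt N10142 (iv F15036)) (tt N8257 F11068) (tt N5721 F11069) (tt N6452 F11070) (tt N5711 (iv D9299)))
theorem Q8395 : ∀ i, i < 8395 → P i := stepQ 8394 Q8394 (allL N8394 (tt N7280 F11071) (tt N5713 (iv D9300)) (tt N10084 (iv F14867)) (tt N9061 F12418) (tt N10143 D11058))
theorem Q8396 : ∀ i, i < 8396 → P i := stepQ 8395 Q8395 (allL N8395 (tt N9674 (iv F13836)) (tt N10144 D11059) (tt N5713 (iv D9301)) (tt N9207 (iv F12792)) (tt N10145 D11060))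
theorem Q8397 : ∀ i, i < 8397 → P i := stepQ 8396 Q8396 (allL N8396 (tt N5714 F11072) (tt N10143 (iv F15039)) (tt N8626 F11530) (tt N9294 (iv F12960)) (tt N5713 (iv D9302)))
theorem Q8398 : ∀ i, i < 8398 → P i := stepQ 8397 Q8397 (allL N8397 (tt N9677 (iv F13844)) (tt N7021 F11073) (tt N10140 (iv F15033)) (tt N9031 F12355) (tt N5716 (iv D9303)))
theorem Q8399 : ∀ i, i < 8399 → P i := stepQ 8398 Q8398 (allL N8398 (tt N7756 F11074) (tt N5717 (iv D9304)) (tt N8628 (iv F11533)) (tt N9103 (iv F12520)) (tt N10146 D11061))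
theorem Q8400 : ∀ i, i < 8400 → P i := stepQ 8399 Q8399 (allL N8399 (tt N5718 F11075) (tt N10146 (iv F15042)) (tt N10138 (iv F15029)) (tt N9208 (iv F12794)) (tt N5717 (iv D9305)))
theorem Q8401 : ∀ i, i < 8401 → P i := stepQ 8400 Q8400 (allL N8400 (tt N9080 (iv F12458)) (tt N5720 (iv D9306)) (tt N8632 (iv F11540)) (tt N9075 (iv F12451)) (tt N10147 D11062))
theorem Q8402 : ∀ i, i < 8402 → P i := stepQ 8401 Q8401 (allL N8401 (tt N5721 F11076) (tt N10147 (iv F15044)) (tt N10145 (iv F15040)) (tt N9398 (iv F13213)) (tt N5720 (iv D9307)))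
theorem Q8403 : ∀ i, i < 8403 → P i := stepQ 8402 Q8402 (allL N8402 (tt N7009 F11077) (tt N5722 (iv D9308)) (tt N9081 (iv F12461)) (tt N6988 F11078) (tt N7024 (iv F11079)))
theorem Q8404 : ∀ i, i < 8404 → P i := stepQ 8403 Q8403 (allL N8403 (tt N9678 (iv F13847)) (tt N7024 F11080) (tt N10142 (iv F15037)) (tt N9098 (iv F12503)) (tt N5722 (iv D9309)))
theorem Q8405 : ∀ i, i < 8405 → P i := stepQ 8404 Q8404 (allL N8404 (tt N9676 (iv F13840)) (tt N6696 F11082) (tt N5723 (iv D9310)) (tt N9054 (iv F12394)) (tt N6694 F11081))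
theorem Q8406 : ∀ i, i < 8406 → P i := stepQ 8405 Q8405 (allL N8405 (tt N5725 (iv D9311)) (tt N6094 F11083) (tt N10148 D11063) (tt N5914 F11084) (tt N7496 F11085))
theorem Q8407 : ∀ i, i < 8407 → P i := stepQ 8406 Q8406 (allL N8406 (tt N5726 (iv D9312)) (tt N6895 F11086) (tt N10149 D11064) (tt N5917 F11087) (tt N6552 F11088))
theorem Q8408 : ∀ i, i < 8408 → P i := stepQ 8407 Q8407 (allL N8407 (tt N10150 D11065) (tt N9387 (iv F13182)) (tt N5727 (iv D9313)) (tt N6565 F11089) (tt N9218 (iv F12819)))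
theorem Q8409 : ∀ i, i < 8409 → P i := stepQ 8408 Q8408 (allL N8408 (tt N10057 (iv F14788)) (tt N5728 (iv D9314)) (tt N10114 (iv F14966)) (tt N10113 (iv F14963)) (tt N10151 D11066))
theorem Q8410 : ∀ i, i < 8410 → P i := stepQ 8409 Q8409 (allL N8409 (tt N10148 (iv F15045)) (tt N8559 F14811) (tt N5728 (iv D9315)) (tt N10063 F14810) (tt N10152 D11067))
theorem Q8411 : ∀ i, i < 8411 → P i := stepQ 8410 Q8410 (allL N8410 (tt N10149 (iv F15048)) (tt N10113 F14962) (tt N10063 (iv F14809)) (tt N5728 (iv D9316)) (tt N9215 F12812))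
theorem Q8412 : ∀ i, i < 8412 → P i := stepQ 8411 Q8411 (allL N8411 (tt N5729 F11090) (tt N10151 (iv F15056)) (tt N5995 (iv F11091)) (tt N9290 (iv F12949)) (tt N5728 (iv D9317)))
theorem Q8413 : ∀ i, i < 8413 → P i := stepQ 8412 Q8412 (allL N8412 (tt N9136 (iv F12603)) (tt N7521 F11092) (tt N5729 (iv D9318)) (tt N5744 F11093) (tt N7301 F11094))
theorem Q8414 : ∀ i, i < 8414 → P i := stepQ 8413 Q8413 (allL N8413 (tt N5730 (iv D9319)) (tt N10153 D11068) (tt N10152 (iv F15058)) (tt N9289 (iv F12946)) (tt N7300 F11095))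
theorem Q8415 : ∀ i, i < 8415 → P i := stepQ 8414 Q8414 (allL N8414 (tt N5740 F11096) (tt N8331 F11097) (tt N5732 (iv D9320)) (tt N10154 D11069) (tt N10155 D11070))
theorem Q8416 : ∀ i, i < 8416 → P i := stepQ 8415 Q8415 (allL N8415 (tt N5746 F11100) (tt N6054 F11098) (tt N10154 (iv F15065)) (tt N5732 (iv D9321)) (tt N7564 F11099))
theorem Q8417 : ∀ i, i < 8417 → P i := stepQ 8416 Q8416 (allL N8416 (tt N5744 F11103) (tt N9643 (iv F13759)) (tt N5734 (iv D9322)) (tt N10060 (iv F14800)) (tt N10128 (iv F15001)))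
theorem Q8418 : ∀ i, i < 8418 → P i := stepQ 8417 Q8417 (allL N8417 (tt N5741 F11104) (tt N10053 (iv F14776)) (tt N5735 (iv D9323)) (tt N10156 D11071) (tt N7493 (iv F11105)))
theorem Q8419 : ∀ i, i < 8419 → P i := stepQ 8418 Q8418 (allL N8418 (tt N5747 F11106) (tt N8141 F11107) (tt N10156 (iv F15071)) (tt N5735 (iv D9324)) (tt N6564 (iv F11108)))
theorem Q8420 : ∀ i, i < 8420 → P i := stepQ 8419 Q8419 (allL N8419 (tt N5736 F11109) (tt N8142 F11110) (tt N10157 D11072) (tt N6552 F11111) (tt N5735 (iv D9325)))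
theorem Q8421 : ∀ i, i < 8421 → P i := stepQ 8420 Q8420 (allL N8420 (tt N6386 F11113) (tt N10158 D11073) (tt N5736 (iv D9326)) (tt N5918 F11112) (tt N9211 (iv F12802)))
theorem Q8422 : ∀ i, i < 8422 → P i := stepQ 8421 Q8421 (allL N8421 (tt N5737 (iv D9327)) (tt N6146 F11116) (tt N10155 (iv F15068)) (tt N10150 (iv F15053)) (tt N7498 F11123))
theorem Q8423 : ∀ i, i < 8423 → P i := stepQ 8422 Q8422 (allL N8422 (tt N7673 F11117) (tt N5737 (iv D9328)) (tt N9596 (iv F13623)) (tt N10159 D11074) (tt N7670 (iv F11118)))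
theorem Q8424 : ∀ i, i < 8424 → P i := stepQ 8423 Q8423 (allL N8423 (tt N6396 (iv F11120)) (tt N10159 (iv F15080)) (tt N5738 F11119) (tt N5737 (iv D9329)) (tt N9219 (iv F12820)))
theorem Q8425 : ∀ i, i < 8425 → P i := stepQ 8424 Q8424 (allL N8424 (tt N7498 (iv F11122)) (tt N7670 F11121) (tt N10128 (iv F15000)) (tt N9211 (iv F12803)) (tt N5737 (iv D9330)))
theorem Q8426 : ∀ i, i < 8426 → P i := stepQ 8425 Q8425 (allL N8425 (tt N5738 (iv D9331)) (tt N8196 F11127) (tt N10160 D11075) (tt N6564 F11124) (tt N5917 F11125))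
theorem Q8427 : ∀ i, i < 8427 → P i := stepQ 8426 Q8426 (allL N8426 (tt N10155 (iv F15066)) (tt N5801 F11129) (tt N5750 F11130) (tt N10061 (iv F14804)) (tt N5740 (iv D9332)))
theorem Q8428 : ∀ i, i < 8428 → P i := stepQ 8427 Q8427 (allL N8427 (tt N10161 D11076) (tt N5742 (iv D9333)) (tt N10108 (iv F14946)) (tt N10107 (iv F14943)) (tt N10162 D11077))
theorem Q8429 : ∀ i, i < 8429 → P i := stepQ 8428 Q8428 (allL N8428 (tt N10154 (iv F15063)) (tt N8455 F14765) (tt N5742 (iv D9334)) (tt N10049 F14764) (tt N10163 D11078))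
theorem Q8430 : ∀ i, i < 8430 → P i := stepQ 8429 Q8429 (allL N8429 (tt N10156 (iv F15069)) (tt N10107 F14942) (tt N10049 (iv F14763)) (tt N5742 (iv D9335)) (tt N9290 F12950))
theorem Q8431 : ∀ i, i < 8431 → P i := stepQ 8430 Q8430 (allL N8430 (tt N5743 F11131) (tt N10162 (iv F15092)) (tt N6009 (iv F11132)) (tt N9215 (iv F12811)) (tt N5742 (iv D9336)))
theorem Q8432 : ∀ i, i < 8432 → P i := stepQ 8431 Q8431 (allL N8431 (tt N9146 (iv F12637)) (tt N7527 F11133) (tt N5743 (iv D9337)) (tt N5921 F11134) (tt N7319 F11135))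
theorem Q8433 : ∀ i, i < 8433 → P i := stepQ 8432 Q8432 (allL N8432 (tt N10164 D11079) (tt N9388 (iv F13186)) (tt N5748 (iv D9338)) (tt N6553 F11136) (tt N9292 (iv F12956)))
theorem Q8434 : ∀ i, i < 8434 → P i := stepQ 8433 Q8433 (allL N8433 (tt N5749 (iv D9339)) (tt N10165 D11080) (tt N10163 (iv F15094)) (tt N9214 (iv F12808)) (tt N7318 F11137))
theorem Q8435 : ∀ i, i < 8435 → P i := stepQ 8434 Q8434 (allL N8434 (tt N10160 (iv F15084)) (tt N6505 F11138) (tt N10061 (iv F14803)) (tt N5750 (iv D9340)) (tt N7501 F11139))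
theorem Q8436 : ∀ i, i < 8436 → P i := stepQ 8435 Q8435 (allL N8435 (tt N7845 F11140) (tt N5753 F11141) (tt N8292 F11142) (tt N5752 (iv D9341)) (tt N8580 (iv F11434)))
theorem Q8437 : ∀ i, i < 8437 → P i := stepQ 8436 Q8436 (allL N8436 (tt N7842 F11143) (tt N8580 (iv F11435)) (tt N10166 D11081) (tt N5877 F11436) (tt N5753 (iv D9342)))
theorem Q8438 : ∀ i, i < 8438 → P i := stepQ 8437 Q8437 (allL N8437 (tt N5767 F11144) (tt N9699 (iv F13888)) (tt N5754 (iv D9343)) (tt N10167 D11082) (tt N10168 D11083))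
theorem Q8439 : ∀ i, i < 8439 → P i := stepQ 8438 Q8438 (allL N8438 (tt N7862 F11437) (tt N8581 (iv F11439)) (tt N10167 (iv F15103)) (tt N5754 (iv D9344)) (tt N5876 F11438))
theorem Q8440 : ∀ i, i < 8440 → P i := stepQ 8439 Q8439 (allL N8439 (tt N5761 F11145) (tt N10169 D11084) (tt N5755 (iv D9345)) (tt N10170 D11085) (tt N10171 D11086))
theorem Q8441 : ∀ i, i < 8441 → P i := stepQ 8440 Q8440 (allL N8440 (tt N5771 F11146) (tt N8143 F11147) (tt N10170 (iv F15109)) (tt N5755 (iv D9346)) (tt N6556 (iv F11148)))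
theorem Q8442 : ∀ i, i < 8442 → P i := stepQ 8441 Q8441 (allL N8441 (tt N5756 F11149) (tt N9295 (iv F12963)) (tt N10172 D11087) (tt N6554 F11150) (tt N5755 (iv D9347)))
theorem Q8443 : ∀ i, i < 8443 → P i := stepQ 8442 Q8442 (allL N8442 (tt N8878 F12363) (tt N10173 D11088) (tt N5756 (iv D9348)) (tt N5879 F11151) (tt N10174 D11089))
theorem Q8444 : ∀ i, i < 8444 → P i := stepQ 8443 Q8443 (allL N8443 (tt N5757 (iv D9349)) (tt N6178 F11152) (tt N10121 (iv F14984)) (tt N10175 D11090) (tt N10176 D11091))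
theorem Q8445 : ∀ i, i < 8445 → P i := stepQ 8444 Q8444 (allL N8444 (tt N10177 D11092) (tt N5757 (iv D9350)) (tt N7379 F11153) (tt N10178 D11093) (tt N8603 (iv F11489)))
theorem Q8446 : ∀ i, i < 8446 → P i := stepQ 8445 Q8445 (allL N8445 (tt N8886 F12367) (tt N10178 (iv F15124)) (tt N5758 F11154) (tt N5757 (iv D9351)) (tt N10179 D11094))
theorem Q8447 : ∀ i, i < 8447 → P i := stepQ 8446 Q8446 (allL N8446 (tt N10176 (iv F15117)) (tt N8603 F11490) (tt N10168 (iv F15105)) (tt N10174 (iv F15298)) (tt N5757 (iv D9352)))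
theorem Q8448 : ∀ i, i < 8448 → P i := stepQ 8447 Q8447 (allL N8447 (tt N5758 (iv D9353)) (tt N9297 (iv F12969)) (tt N10180 D11096) (tt N6556 F11155) (tt N5878 F11156))
theorem Q8449 : ∀ i, i < 8449 → P i := stepQ 8448 Q8448 (allL N8448 (tt N7727 F11159) (tt N5761 F11157) (tt N7729 F11158) (tt N5759 (iv D9354)) (tt N10181 D11097))
theorem Q8450 : ∀ i, i < 8450 → P i := stepQ 8449 Q8449 (allL N8449 (tt N9905 (iv F14380)) (tt N5762 F11160) (tt N8227 F11161) (tt N10182 D11098) (tt N5759 (iv D9355)))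
theorem Q8451 : ∀ i, i < 8451 → P i := stepQ 8450 Q8450 (allL N8450 (tt N7840 F11164) (tt N8002 F11162) (tt N5761 F11163) (tt N5760 (iv D9356)) (tt N10183 D11099))
theorem Q8452 : ∀ i, i < 8452 → P i := stepQ 8451 Q8451 (allL N8451 (tt N10121 (iv F14983)) (tt N8003 F11165) (tt N5774 F11166) (tt N10184 D11100) (tt N5760 (iv D9357)))
theorem Q8453 : ∀ i, i < 8453 → P i := stepQ 8452 Q8452 (allL N8452 (tt N10171 (iv F15110)) (tt N10181 (iv F15129)) (tt N9925 F14438) (tt N5883 F11167) (tt N5761 (iv D9358)))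
theorem Q8454 : ∀ i, i < 8454 → P i := stepQ 8453 Q8453 (allL N8453 (tt N10185 D11101) (tt N10182 (iv F15132)) (tt N9928 (iv F14445)) (tt N5762 (iv D9359)) (tt N5882 F11168))
theorem Q8455 : ∀ i, i < 8455 → P i := stepQ 8454 Q8454 (allL N8454 (tt N9972 (iv F14564)) (tt N5765 (iv D9360)) (tt N8633 (iv F11542)) (tt N10186 D11102) (tt N10187 D11103))
theorem Q8456 : ∀ i, i < 8456 → P i := stepQ 8455 Q8455 (allL N8455 (tt N10120 (iv F14982)) (tt N8428 (iv F14765)) (tt N5765 (iv D9361)) (tt N10188 D11104) (tt N10189 D11105))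
theorem Q8457 : ∀ i, i < 8457 → P i := stepQ 8456 Q8456 (allL N8456 (tt N10170 (iv F15108)) (tt N10186 (iv F15146)) (tt N10188 (iv F15151)) (tt N5765 (iv D9362)) (tt N10190 D11106))
theorem Q8458 : ∀ i, i < 8458 → P i := stepQ 8457 Q8457 (allL N8457 (tt N5766 F11169) (tt N10187 (iv F15148)) (tt N10144 (iv F15365)) (tt N10191 D11108) (tt N5765 (iv D9363)))
theorem Q8459 : ∀ i, i < 8459 → P i := stepQ 8458 Q8458 (allL N8458 (tt N10192 D11109) (tt N8256 (iv F11171)) (tt N5766 (iv D9364)) (tt N5886 F11170) (tt N9560 (iv F13544)))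
theorem Q8460 : ∀ i, i < 8460 → P i := stepQ 8459 Q8459 (allL N8459 (tt N10193 D11110) (tt N8254 F11172) (tt N5768 F11173) (tt N5767 (iv D9365)) (tt N9545 (iv F13512)))
theorem Q8461 : ∀ i, i < 8461 → P i := stepQ 8460 Q8460 (allL N8460 (tt N10168 (iv F15104)) (tt N6082 F11174) (tt N5777 F11175) (tt N9560 (iv F13543)) (tt N5767 (iv D9366)))
theorem Q8462 : ∀ i, i < 8462 → P i := stepQ 8461 Q8461 (allL N8461 (tt N5768 (iv D9367)) (tt N10194 D11111) (tt N10137 (iv F15353)) (tt N10190 (iv F15154)) (tt N5885 F11176))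
theorem Q8463 : ∀ i, i < 8463 → P i := stepQ 8462 Q8462 (allL N8462 (tt N6693 F11177) (tt N5770 (iv D9368)) (tt N6717 F11178) (tt N10109 (iv F14950)) (tt N6692 (iv F11179)))
theorem Q8464 : ∀ i, i < 8464 → P i := stepQ 8463 Q8463 (allL N8463 (tt N7841 F11180) (tt N10109 (iv F14949)) (tt N5771 F11181) (tt N5770 (iv D9369)) (tt N10195 D11113))
theorem Q8465 : ∀ i, i < 8465 → P i := stepQ 8464 Q8464 (allL N8464 (tt N10122 (iv F14985)) (tt N6692 F11182) (tt N10192 (iv F15156)) (tt N10196 D11114) (tt N5770 (iv D9370)))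
theorem Q8466 : ∀ i, i < 8466 → P i := stepQ 8465 Q8465 (allL N8465 (tt N10197 D11115) (tt N9627 (iv F13709)) (tt N5772 (iv D9371)) (tt N6555 F11183) (tt N10198 D11116))
theorem Q8467 : ∀ i, i < 8467 → P i := stepQ 8466 Q8466 (allL N8466 (tt N5773 (iv D9372)) (tt N10199 D11117) (tt N10189 (iv F15153)) (tt N10200 D11118) (tt N9559 (iv F13541)))
theorem Q8468 : ∀ i, i < 8468 → P i := stepQ 8467 Q8467 (allL N8467 (tt N10180 (iv F15127)) (tt N7090 F11184) (tt N10184 (iv F15141)) (tt N5774 (iv D9373)) (tt N10201 D11119))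
theorem Q8469 : ∀ i, i < 8469 → P i := stepQ 8468 Q8468 (allL N8468 (tt N5777 F11185) (tt N8608 (iv F11494)) (tt N9929 (iv F14449)) (tt N10202 D11120) (tt N5774 (iv D9374)))
theorem Q8470 : ∀ i, i < 8470 → P i := stepQ 8469 Q8469 (allL N8469 (tt N5776 (iv D9375)) (tt N8615 (iv F11510)) (tt N10203 D11121) (tt N10204 D11122) (tt N9544 (iv F13509)))
theorem Q8471 : ∀ i, i < 8471 → P i := stepQ 8470 Q8470 (allL N8470 (tt N10175 (iv F15115)) (tt N9628 (iv F13713)) (tt N5778 (iv D9376)) (tt N6557 F11186) (tt N10205 D11123))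
theorem Q8472 : ∀ i, i < 8472 → P i := stepQ 8471 Q8471 (allL N8471 (tt N5806 F11189) (tt N8177 F11187) (tt N5780 F11188) (tt N5779 (iv D9377)) (tt N10206 D11124))
theorem Q8473 : ∀ i, i < 8473 → P i := stepQ 8472 Q8472 (allL N8472 (tt N5801 F11190) (tt N8179 F11191) (tt N5792 F11192) (tt N5819 (iv F11193)) (tt N5779 (iv D9378)))
theorem Q8474 : ∀ i, i < 8474 → P i := stepQ 8473 Q8473 (allL N8473 (tt N5812 F11194) (tt N7853 F11195) (tt N10207 D11125) (tt N5820 F11196) (tt N5780 (iv D9379)))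
theorem Q8475 : ∀ i, i < 8475 → P i := stepQ 8474 Q8474 (allL N8474 (tt N5803 F11197) (tt N8063 F11198) (tt N5781 (iv D9380)) (tt N5821 F11199) (tt N8061 (iv F11200)))
theorem Q8476 : ∀ i, i < 8476 → P i := stepQ 8475 Q8475 (allL N8475 (tt N5785 F11201) (tt N9197 (iv F12758)) (tt N9998 (iv F14636)) (tt N5826 F11202) (tt N5784 (iv D9381)))
theorem Q8477 : ∀ i, i < 8477 → P i := stepQ 8476 Q8476 (allL N8476 (tt N10208 D11126) (tt N10067 (iv F14821)) (tt N5785 (iv D9382)) (tt N5861 F11203) (tt N9602 (iv F13640)))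
theorem Q8478 : ∀ i, i < 8478 → P i := stepQ 8477 Q8477 (allL N8477 (tt N10209 D11127) (tt N5786 (iv D9383)) (tt N7520 F11204) (tt N10069 (iv F14829)) (tt N7514 F11205))
theorem Q8479 : ∀ i, i < 8479 → P i := stepQ 8478 Q8478 (allL N8478 (tt N10210 D11128) (tt N10069 (iv F14828)) (tt N5787 F11206) (tt N5786 (iv D9384)) (tt N9605 (iv F13649)))
theorem Q8480 : ∀ i, i < 8480 → P i := stepQ 8479 Q8479 (allL N8479 (tt N5787 (iv D9385)) (tt N9198 (iv F12762)) (tt N10030 (iv F14717)) (tt N5830 F11207) (tt N5825 F11208))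
theorem Q8481 : ∀ i, i < 8481 → P i := stepQ 8480 Q8480 (allL N8480 (tt N5807 F11209) (tt N8156 F11210) (tt N5789 F11211) (tt N5788 (iv D9386)) (tt N5853 (iv F11212)))
theorem Q8482 : ∀ i, i < 8482 → P i := stepQ 8481 Q8481 (allL N8481 (tt N5802 F11213) (tt N8157 F11214) (tt N10208 (iv F15191)) (tt N5833 F11215) (tt N5788 (iv D9387)))
theorem Q8483 : ∀ i, i < 8483 → P i := stepQ 8482 Q8482 (allL N8482 (tt N5872 F11218) (tt N8151 F11216) (tt N5790 (iv D9388)) (tt N5834 F11217) (tt N8149 (iv F11219)))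
theorem Q8484 : ∀ i, i < 8484 → P i := stepQ 8483 Q8483 (allL N8483 (tt N5791 (iv D9389)) (tt N9363 (iv F13117)) (tt N10048 (iv F14761)) (tt N5835 F11220) (tt N9996 F14628))
theorem Q8485 : ∀ i, i < 8485 → P i := stepQ 8484 Q8484 (allL N8484 (tt N10211 D11129) (tt N5791 (iv D9390)) (tt N7587 F11221) (tt N5869 F11222) (tt N7661 (iv F11223)))
theorem Q8486 : ∀ i, i < 8486 → P i := stepQ 8485 Q8485 (allL N8485 (tt N9996 (iv F14627)) (tt N7661 F11224) (tt N9602 (iv F13639)) (tt N5795 (iv F11225)) (tt N5791 (iv D9391)))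
theorem Q8487 : ∀ i, i < 8487 → P i := stepQ 8486 Q8486 (allL N8486 (tt N5795 F11226) (tt N8069 F11227) (tt N8061 F11228) (tt N10212 D11130) (tt N5792 (iv D9392)))
theorem Q8488 : ∀ i, i < 8488 → P i := stepQ 8487 Q8487 (allL N8487 (tt N5793 (iv D9393)) (tt N8916 (iv F12072)) (tt N7673 F11230) (tt N10177 (iv F15123)) (tt N7667 F11229))
theorem Q8489 : ∀ i, i < 8489 → P i := stepQ 8488 Q8488 (allL N8488 (tt N10213 D11131) (tt N5794 F11231) (tt N7590 F11232) (tt N5793 (iv D9394)) (tt N7677 F11233))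
theorem Q8490 : ∀ i, i < 8490 → P i := stepQ 8489 Q8489 (allL N8489 (tt N5794 (iv D9395)) (tt N9362 (iv F13115)) (tt N10062 (iv F14807)) (tt N5841 F11234) (tt N10029 F14713))
theorem Q8491 : ∀ i, i < 8491 → P i := stepQ 8490 Q8490 (allL N8490 (tt N10029 (iv F14710)) (tt N7677 F11235) (tt N9605 (iv F13648)) (tt N5870 F11236) (tt N5794 (iv D9396)))
theorem Q8492 : ∀ i, i < 8492 → P i := stepQ 8491 Q8491 (allL N8491 (tt N5815 F11239) (tt N8216 F11237) (tt N5796 (iv D9397)) (tt N5843 F11238) (tt N8215 (iv F11240)))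
theorem Q8493 : ∀ i, i < 8493 → P i := stepQ 8492 Q8492 (allL N8492 (tt N10186 (iv F15145)) (tt N8337 F11241) (tt N6631 F11242) (tt N5797 (iv D9398)) (tt N10214 D11132))
theorem Q8494 : ∀ i, i < 8494 → P i := stepQ 8493 Q8493 (allL N8493 (tt N5799 F11243) (tt N8338 F11244) (tt N7690 F11245) (tt N10215 D11133) (tt N5797 (iv D9399)))
theorem Q8495 : ∀ i, i < 8495 → P i := stepQ 8494 Q8494 (allL N8494 (tt N9973 (iv F14565)) (tt N5802 F11246) (tt N7705 F11247) (tt N5856 (iv F11248)) (tt N5798 (iv D9400)))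
theorem Q8496 : ∀ i, i < 8496 → P i := stepQ 8495 Q8495 (allL N8495 (tt N9975 (iv F14570)) (tt N5804 F11249) (tt N7701 F11250) (tt N5799 (iv D9401)) (tt N5855 F11251))
theorem Q8497 : ∀ i, i < 8497 → P i := stepQ 8496 Q8496 (allL N8496 (tt N10048 (iv F14759)) (tt N10046 (iv F14752)) (tt N5872 F11252) (tt N5859 (iv F11253)) (tt N5800 (iv D9402)))
theorem Q8498 : ∀ i, i < 8498 → P i := stepQ 8497 Q8497 (allL N8497 (tt N10062 (iv F14805)) (tt N10061 (iv F14802)) (tt N5815 F11254) (tt N5801 (iv D9403)) (tt N5858 F11255))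
theorem Q8499 : ∀ i, i < 8499 → P i := stepQ 8498 Q8498 (allL N8498 (tt N9998 (iv F14634)) (tt N7482 F11256) (tt N5802 (iv D9404)) (tt N5860 F11257) (tt N9601 (iv F13638)))
theorem Q8500 : ∀ i, i < 8500 → P i := stepQ 8499 Q8499 (allL N8499 (tt N10030 (iv F14714)) (tt N7484 F11258) (tt N5804 F11259) (tt N5803 (iv D9405)) (tt N9606 (iv F13652)))
theorem Q8501 : ∀ i, i < 8501 → P i := stepQ 8500 Q8500 (allL N8500 (tt N5804 (iv D9406)) (tt N8201 F11262) (tt N10210 (iv F15198)) (tt N5853 F11260) (tt N5832 F11261))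
theorem Q8502 : ∀ i, i < 8502 → P i := stepQ 8501 Q8501 (allL N8501 (tt N5805 (iv D9407)) (tt N7849 F11263) (tt N7720 F11264) (tt N7727 F11265) (tt N10216 D11134))
theorem Q8503 : ∀ i, i < 8503 → P i := stepQ 8502 Q8502 (allL N8502 (tt N10216 (iv F15215)) (tt N5808 F11266) (tt N7726 F11267) (tt N5847 F11268) (tt N5805 (iv D9408)))
theorem Q8504 : ∀ i, i < 8504 → P i := stepQ 8503 Q8503 (allL N8503 (tt N10047 (iv F14755)) (tt N7241 F11269) (tt N5807 F11270) (tt N5806 (iv D9409)) (tt N5850 F11271))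
theorem Q8505 : ∀ i, i < 8505 → P i := stepQ 8504 Q8504 (allL N8504 (tt N10206 (iv F15182)) (tt N9957 (iv F14520)) (tt N5814 F11273) (tt N5849 F11272) (tt N5806 (iv D9410)))
theorem Q8506 : ∀ i, i < 8506 → P i := stepQ 8505 Q8505 (allL N8505 (tt N10207 (iv F15186)) (tt N7200 F11274) (tt N5808 (iv D9411)) (tt N5851 F11275) (tt N9604 (iv F13647)))
theorem Q8507 : ∀ i, i < 8507 → P i := stepQ 8506 Q8506 (allL N8506 (tt N5809 (iv D9412)) (tt N10217 D11135) (tt N5812 F11276) (tt N5827 F11277) (tt N9603 (iv F13641)))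
theorem Q8508 : ∀ i, i < 8508 → P i := stepQ 8507 Q8507 (allL N8507 (tt N5810 (iv D9413)) (tt N7851 F11278) (tt N6707 F11280) (tt N6693 F11281) (tt N6688 F11279))
theorem Q8509 : ∀ i, i < 8509 → P i := stepQ 8508 Q8508 (allL N8508 (tt N5813 (iv D9414)) (tt N8850 (iv F11955)) (tt N10206 (iv F15185)) (tt N5868 F11282) (tt N10212 (iv F15206)))
theorem Q8510 : ∀ i, i < 8510 → P i := stepQ 8509 Q8509 (allL N8509 (tt N10218 D11136) (tt N5813 (iv D9415)) (tt N6526 F11283) (tt N5836 F11284) (tt N7008 (iv F11285)))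
theorem Q8511 : ∀ i, i < 8511 → P i := stepQ 8510 Q8510 (allL N8510 (tt N10212 (iv F15203)) (tt N7008 F11286) (tt N9603 (iv F13642)) (tt N5842 F11287) (tt N5813 (iv D9416)))
theorem Q8512 : ∀ i, i < 8512 → P i := stepQ 8511 Q8511 (allL N8511 (tt N7861 F11289) (tt N10110 (iv F14953)) (tt N5816 (iv D9417)) (tt N5887 F11288) (tt N10196 (iv F15164)))
theorem Q8513 : ∀ i, i < 8513 → P i := stepQ 8512 Q8512 (allL N8512 (tt N5859 F11290) (tt N8178 F11291) (tt N5868 F11292) (tt N10206 (iv F15184)) (tt N5818 (iv D9418)))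
theorem Q8514 : ∀ i, i < 8514 → P i := stepQ 8513 Q8513 (allL N8513 (tt N5860 F11293) (tt N8066 F11294) (tt N5820 (iv D9419)) (tt N10207 (iv F15188)) (tt N8065 (iv F11295)))
theorem Q8515 : ∀ i, i < 8515 → P i := stepQ 8514 Q8514 (allL N8514 (tt N10110 (iv F14952)) (tt N7910 F11296) (tt N6753 F11297) (tt N5823 (iv D9420)) (tt N6739 F11298))
theorem Q8516 : ∀ i, i < 8516 → P i := stepQ 8515 Q8515 (allL N8515 (tt N5849 F11299) (tt N9220 (iv F12822)) (tt N5835 F11300) (tt N10048 (iv F14762)) (tt N5824 (iv D9421)))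
theorem Q8517 : ∀ i, i < 8517 → P i := stepQ 8516 Q8516 (allL N8516 (tt N5851 F11301) (tt N9210 (iv F12799)) (tt N5826 (iv D9422)) (tt N9998 (iv F14637)) (tt N9209 F12797))
theorem Q8518 : ∀ i, i < 8518 → P i := stepQ 8517 Q8517 (allL N8517 (tt N5827 (iv D9423)) (tt N9230 (iv F12837)) (tt N5833 F11302) (tt N10208 (iv F15192)) (tt N9321 (iv F13023)))
theorem Q8519 : ∀ i, i < 8519 → P i := stepQ 8518 Q8518 (allL N8518 (tt N10219 D11137) (tt N5827 (iv D9424)) (tt N6510 F11303) (tt N10217 (iv F15221)) (tt N6845 F11304))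
theorem Q8520 : ∀ i, i < 8520 → P i := stepQ 8519 Q8519 (allL N8519 (tt N10220 D11138) (tt N5829 F11305) (tt N6515 F11306) (tt N5828 (iv D9425)) (tt N6859 (iv F11307)))
theorem Q8521 : ∀ i, i < 8521 → P i := stepQ 8520 Q8520 (allL N8520 (tt N5829 (iv D9426)) (tt N9280 (iv F12928)) (tt N5853 F11308) (tt N10210 (iv F15199)) (tt N10221 D11139))
theorem Q8522 : ∀ i, i < 8522 → P i := stepQ 8521 Q8521 (allL N8521 (tt N10221 (iv F15230)) (tt N6859 F11309) (tt N5842 F11310) (tt N9603 (iv F13643)) (tt N5829 (iv D9427)))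
theorem Q8523 : ∀ i, i < 8523 → P i := stepQ 8522 Q8522 (allL N8522 (tt N5852 F11311) (tt N9399 (iv F13214)) (tt N5830 (iv D9428)) (tt N10030 (iv F14716)) (tt N9997 F14633))
theorem Q8524 : ∀ i, i < 8524 → P i := stepQ 8523 Q8523 (allL N8523 (tt N5831 (iv D9429)) (tt N9906 (iv F14384)) (tt N9352 (iv F13091)) (tt N10222 D11140) (tt N9346 F13081))
theorem Q8525 : ∀ i, i < 8525 → P i := stepQ 8524 Q8524 (allL N8524 (tt N5837 F11312) (tt N9364 (iv F13121)) (tt N9209 (iv F12798)) (tt N10029 (iv F14712)) (tt N5835 (iv D9430)))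
theorem Q8526 : ∀ i, i < 8526 → P i := stepQ 8525 Q8525 (allL N8525 (tt N5836 (iv D9431)) (tt N10223 D11141) (tt N6996 F11314) (tt N10224 D11142) (tt N6990 F11313))
theorem Q8527 : ∀ i, i < 8527 → P i := stepQ 8526 Q8526 (allL N8526 (tt N5870 F11317) (tt N8072 F11315) (tt N8065 F11316) (tt N5838 (iv D9432)) (tt N5868 F11318))
theorem Q8528 : ∀ i, i < 8528 → P i := stepQ 8527 Q8527 (allL N8527 (tt N9628 (iv F13712)) (tt N8883 (iv F12016)) (tt N7028 (iv F11720)) (tt N5839 (iv D9433)) (tt N7022 F11717))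
theorem Q8529 : ∀ i, i < 8529 → P i := stepQ 8528 Q8528 (allL N8528 (tt N5840 (iv D9434)) (tt N10225 D11143) (tt N7045 F11321) (tt N10226 D11144) (tt N7040 F11320))
theorem Q8530 : ∀ i, i < 8530 → P i := stepQ 8529 Q8529 (allL N8529 (tt N5850 F11322) (tt N9293 (iv F12957)) (tt N5841 (iv D9435)) (tt N10062 (iv F14808)) (tt N10047 F14758))
theorem Q8531 : ∀ i, i < 8531 → P i := stepQ 8530 Q8530 (allL N8530 (tt N5842 F11323) (tt N9396 (iv F13206)) (tt N9997 (iv F14632)) (tt N9996 F14629) (tt N5841 (iv D9436)))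
theorem Q8532 : ∀ i, i < 8532 → P i := stepQ 8531 Q8531 (allL N8531 (tt N5873 F11324) (tt N8150 F11325) (tt N10221 (iv F15232)) (tt N8149 F11326) (tt N5843 (iv D9437)))
theorem Q8533 : ∀ i, i < 8533 → P i := stepQ 8532 Q8532 (allL N8532 (tt N5844 (iv D9438)) (tt N5882 (iv F11329)) (tt N7738 F11327) (tt N5880 F11328) (tt N10182 (iv F15134)))
theorem Q8534 : ∀ i, i < 8534 → P i := stepQ 8533 Q8533 (allL N8533 (tt N10182 (iv F15135)) (tt N7855 F11330) (tt N7736 F11331) (tt N10216 (iv F15218)) (tt N5844 (iv D9439)))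
theorem Q8535 : ∀ i, i < 8535 → P i := stepQ 8534 Q8534 (allL N8534 (tt N10181 (iv F15128)) (tt N7850 (iv F11335)) (tt N7733 (iv F11338)) (tt N5845 (iv D9440)) (tt N7727 F11334))
theorem Q8536 : ∀ i, i < 8536 → P i := stepQ 8535 Q8535 (allL N8535 (tt N5847 F11341) (tt N9907 (iv F14385)) (tt N7755 F11342) (tt N9905 (iv F14383)) (tt N5846 (iv D9441)))
theorem Q8537 : ∀ i, i < 8537 → P i := stepQ 8536 Q8536 (allL N8536 (tt N5848 (iv D9442)) (tt N9909 (iv F14387)) (tt N7748 F11344) (tt N9916 (iv F14411)) (tt N7743 F11343))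
theorem Q8538 : ∀ i, i < 8538 → P i := stepQ 8537 Q8537 (allL N8537 (tt N9997 (iv F14630)) (tt N7204 F11345) (tt N5873 F11346) (tt N9604 (iv F13646)) (tt N5852 (iv D9443)))
theorem Q8539 : ∀ i, i < 8539 → P i := stepQ 8538 Q8538 (allL N8538 (tt N10227 D11145) (tt N8329 F11347) (tt N6603 F11348) (tt N5854 (iv D9444)) (tt N10215 (iv F15214)))
theorem Q8540 : ∀ i, i < 8540 → P i := stepQ 8539 Q8539 (allL N8539 (tt N5856 F11349) (tt N8568 (iv F11402)) (tt N7772 F11350) (tt N10214 (iv F15211)) (tt N5854 (iv D9445)))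
theorem Q8541 : ∀ i, i < 8541 → P i := stepQ 8540 Q8540 (allL N8540 (tt N5857 (iv D9446)) (tt N8547 (iv F11369)) (tt N5914 F11351) (tt N10148 (iv F15047)) (tt N10228 D11146))
theorem Q8542 : ∀ i, i < 8542 → P i := stepQ 8541 Q8541 (allL N8541 (tt N10228 (iv F15249)) (tt N5859 F11352) (tt N5922 F11353) (tt N10046 F14754) (tt N5857 (iv D9447)))
theorem Q8543 : ∀ i, i < 8543 → P i := stepQ 8542 Q8542 (allL N8542 (tt N10229 D11147) (tt N5860 (iv D9448)) (tt N7483 F11356) (tt N7482 F11354) (tt N7779 F11355))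
theorem Q8544 : ∀ i, i < 8544 → P i := stepQ 8543 Q8543 (allL N8543 (tt N10230 D11148) (tt N5861 (iv D9449)) (tt N7548 F11357) (tt N10067 (iv F14822)) (tt N7545 F11358))
theorem Q8545 : ∀ i, i < 8545 → P i := stepQ 8544 Q8544 (allL N8544 (tt N5867 F11359) (tt N7938 F11360) (tt N7616 F11361) (tt N7615 F11362) (tt N5864 (iv D9450)))
theorem Q8546 : ∀ i, i < 8546 → P i := stepQ 8545 Q8545 (allL N8545 (tt N5869 (iv D9451)) (tt N8908 (iv F12059)) (tt N7791 F11364) (tt N10231 D11149) (tt N7788 F11363))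
theorem Q8547 : ∀ i, i < 8547 → P i := stepQ 8546 Q8546 (allL N8546 (tt N5871 (iv D9452)) (tt N8963 (iv F12191)) (tt N6534 F11366) (tt N6533 (iv F11367)) (tt N7553 F11365))
theorem Q8548 : ∀ i, i < 8548 → P i := stepQ 8547 Q8547 (allL N8547 (tt N5881 F11368) (tt N8540 F11369) (tt N5874 (iv D9453)) (tt N10131 (iv F15009)) (tt N10232 D11150))
theorem Q8549 : ∀ i, i < 8549 → P i := stepQ 8548 Q8548 (allL N8548 (tt N5877 F11370) (tt N5892 F11371) (tt N9939 (iv F14471)) (tt N10122 (iv F14987)) (tt N5874 (iv D9454)))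
theorem Q8550 : ∀ i, i < 8550 → P i := stepQ 8549 Q8549 (allL N8549 (tt N7856 F11372) (tt N5876 F11373) (tt N8310 F11374) (tt N5875 (iv D9455)) (tt N8581 (iv F11441)))
theorem Q8551 : ∀ i, i < 8551 → P i := stepQ 8550 Q8550 (allL N8550 (tt N5886 F11376) (tt N9719 (iv F13932)) (tt N5877 (iv D9457)) (tt N10166 (iv F15102)) (tt N10233 D11151))
theorem Q8552 : ∀ i, i < 8552 → P i := stepQ 8551 Q8551 (allL N8551 (tt N5882 F11377) (tt N10234 D11152) (tt N5878 (iv D9459)) (tt N9296 (iv F12966)) (tt N10185 (iv F15144)))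
theorem Q8553 : ∀ i, i < 8553 → P i := stepQ 8552 Q8552 (allL N8552 (tt N5879 (iv D9460)) (tt N6435 F11378) (tt N10232 (iv F15262)) (tt N10197 (iv F15165)) (tt N10235 D11153))
theorem Q8554 : ∀ i, i < 8554 → P i := stepQ 8553 Q8553 (allL N8553 (tt N10231 (iv F15259)) (tt N5879 (iv D9461)) (tt N7409 F11379) (tt N10173 (iv F15114)) (tt N8968 (iv F12202)))
theorem Q8555 : ∀ i, i < 8555 → P i := stepQ 8554 Q8554 (allL N8554 (tt N10235 (iv F15268)) (tt N8968 F12203) (tt N10233 (iv F15265)) (tt N10179 (iv F15299)) (tt N5879 (iv D9462)))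
theorem Q8556 : ∀ i, i < 8556 → P i := stepQ 8555 Q8555 (allL N8555 (tt N9916 (iv F14408)) (tt N5883 F11380) (tt N8267 F11381) (tt N10181 (iv F15131)) (tt N5880 (iv D9463)))
theorem Q8557 : ∀ i, i < 8557 → P i := stepQ 8556 Q8556 (allL N8556 (tt N7860 F11384) (tt N8034 F11382) (tt N5882 F11383) (tt N5881 (iv D9464)) (tt N10184 (iv F15142)))
theorem Q8558 : ∀ i, i < 8558 → P i := stepQ 8557 Q8557 (allL N8557 (tt N10232 (iv F15260)) (tt N8035 F11385) (tt N5888 F11386) (tt N10183 F15139) (tt N5881 (iv D9465)))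
theorem Q8559 : ∀ i, i < 8559 → P i := stepQ 8558 Q8558 (allL N8558 (tt N9971 (iv F14559)) (tt N5885 (iv D9466)) (tt N8629 (iv F11535)) (tt N10227 (iv F15247)) (tt N10194 (iv F15158)))
theorem Q8560 : ∀ i, i < 8560 → P i := stepQ 8559 Q8559 (allL N8559 (tt N10131 (iv F15008)) (tt N8409 (iv F14811)) (tt N5885 (iv D9467)) (tt N10236 D11155) (tt N10203 (iv F15178)))
theorem Q8561 : ∀ i, i < 8561 → P i := stepQ 8560 Q8560 (allL N8560 (tt N9296 (iv F12967)) (tt N10227 (iv F15248)) (tt N10236 (iv F15272)) (tt N5885 (iv D9468)) (tt N10191 (iv F15155)))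
theorem Q8562 : ∀ i, i < 8562 → P i := stepQ 8561 Q8561 (allL N8561 (tt N10233 (iv F15263)) (tt N7530 F11387) (tt N5890 F11388) (tt N9545 (iv F13511)) (tt N5886 (iv D9469)))
theorem Q8563 : ∀ i, i < 8563 → P i := stepQ 8562 Q8562 (allL N8562 (tt N10123 (iv F14990)) (tt N6686 F11389) (tt N10193 (iv F15157)) (tt N10195 (iv F15161)) (tt N5887 (iv D9470)))
theorem Q8564 : ∀ i, i < 8564 → P i := stepQ 8563 Q8563 (allL N8563 (tt N7144 F11390) (tt N5888 (iv D9471)) (tt N7096 F11391) (tt N7084 (iv F11392)) (tt N10237 D11156))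
theorem Q8565 : ∀ i, i < 8565 → P i := stepQ 8564 Q8564 (allL N8564 (tt N10172 (iv F15112)) (tt N7084 F11393) (tt N10183 (iv F15138)) (tt N5888 (iv D9472)) (tt N10202 (iv F15176)))
theorem Q8566 : ∀ i, i < 8566 → P i := stepQ 8565 Q8565 (allL N8565 (tt N5890 F11394) (tt N10237 (iv F15274)) (tt N9940 (iv F14473)) (tt N10201 (iv F15174)) (tt N5888 (iv D9473)))
theorem Q8567 : ∀ i, i < 8567 → P i := stepQ 8566 Q8566 (allL N8566 (tt N5903 F11395) (tt N8274 F11396) (tt N5897 F11397) (tt N10115 (iv F14971)) (tt N5891 (iv D9474)))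
theorem Q8568 : ∀ i, i < 8568 → P i := stepQ 8567 Q8567 (allL N8567 (tt N5895 F11398) (tt N7618 F11399) (tt N9833 (iv F14215)) (tt N7617 F11400) (tt N5893 (iv D9475)))
theorem Q8569 : ∀ i, i < 8569 → P i := stepQ 8568 Q8568 (allL N8568 (tt N7763 F11401) (tt N8539 F11402) (tt N8964 (iv F12195)) (tt N10125 (iv F14993)) (tt N5894 (iv D9476)))
theorem Q8570 : ∀ i, i < 8570 → P i := stepQ 8569 Q8569 (allL N8569 (tt N5902 F11403) (tt N7361 F11404) (tt N9721 (iv F13936)) (tt N7932 F11405) (tt N5899 (iv D9477)))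
theorem Q8571 : ∀ i, i < 8571 → P i := stepQ 8570 Q8570 (allL N8570 (tt N6667 F11406) (tt N5916 F11407) (tt N7413 F11409) (tt N7639 F11408) (tt N5915 (iv D9478)))
theorem Q8572 : ∀ i, i < 8572 → P i := stepQ 8571 Q8571 (allL N8571 (tt N5921 F11410) (tt N9716 (iv F13925)) (tt N5916 (iv D9479)) (tt N10045 (iv F14750)) (tt N10238 D11157))
theorem Q8573 : ∀ i, i < 8573 → P i := stepQ 8572 Q8572 (allL N8572 (tt N5920 F11411) (tt N10059 (iv F14796)) (tt N5917 (iv D9480)) (tt N10149 (iv F15050)) (tt N7500 (iv F11412)))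
theorem Q8574 : ∀ i, i < 8574 → P i := stepQ 8573 Q8573 (allL N8573 (tt N5918 (iv D9481)) (tt N6468 F11413) (tt N10228 (iv F15250)) (tt N10164 (iv F15096)) (tt N7565 F11419))
theorem Q8575 : ∀ i, i < 8575 → P i := stepQ 8574 Q8574 (allL N8574 (tt N7791 F11415) (tt N5918 (iv D9482)) (tt N9612 (iv F13666)) (tt N10158 (iv F15078)) (tt N7789 (iv F11416)))
theorem Q8576 : ∀ i, i < 8576 → P i := stepQ 8575 Q8575 (allL N8575 (tt N7565 (iv F11418)) (tt N7789 F11417) (tt N10238 (iv F15278)) (tt N9219 (iv F12821)) (tt N5918 (iv D9483)))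
theorem Q8577 : ∀ i, i < 8577 → P i := stepQ 8576 Q8576 (allL N8576 (tt N10238 (iv F15277)) (tt N7528 F11420) (tt N5924 F11421) (tt N7301 F11422) (tt N5921 (iv D9484)))
theorem Q8578 : ∀ i, i < 8578 → P i := stepQ 8577 Q8577 (allL N8577 (tt N6522 F11423) (tt N5922 (iv D9485)) (tt N7439 F11424) (tt N6501 (iv F11426)) (tt N7566 F11425))
theorem Q8579 : ∀ i, i < 8579 → P i := stepQ 8578 Q8578 (allL N8578 (tt N10157 (iv F15073)) (tt N6501 F11427) (tt N10046 (iv F14753)) (tt N5922 (iv D9486)) (tt N7494 F11428))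
theorem Q8580 : ∀ i, i < 8580 → P i := stepQ 8579 Q8579 (allL N8579 (tt N6011 F11429) (tt N7480 F11430) (tt N5932 F11431) (tt N6453 F11432) (tt N5928 (iv D9487)))
theorem Q8581 : ∀ i, i < 8581 → P i := stepQ 8580 Q8580 (allL N8580 (tt N9765 (iv F14061)) (tt N8436 F11435) (tt N5933 (iv D9488)) (tt N7360 F11433) (tt N8435 F11434))
theorem Q8582 : ∀ i, i < 8582 → P i := stepQ 8581 Q8581 (allL N8581 (tt N9763 (iv F14055)) (tt N8438 F11439) (tt N5935 F11440) (tt N5934 (iv D9489)) (tt N8549 F11441))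
theorem Q8583 : ∀ i, i < 8583 → P i := stepQ 8582 Q8582 (allL N8582 (tt N9761 (iv F14051)) (tt N8222 F11442) (tt N5938 F11443) (tt N6455 F11444) (tt N5935 (iv D9490)))
theorem Q8584 : ∀ i, i < 8584 → P i := stepQ 8583 Q8583 (allL N8583 (tt N6825 F11445) (tt N5942 (iv D9491)) (tt N10239 D11158) (tt N6868 (iv F11447)) (tt N6825 (iv F11446)))
theorem Q8585 : ∀ i, i < 8585 → P i := stepQ 8584 Q8584 (allL N8584 (tt N6000 F11448) (tt N6868 F11449) (tt N5954 F11450) (tt N5942 (iv D9492)) (tt N6860 (iv F11451)))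
theorem Q8586 : ∀ i, i < 8586 → P i := stepQ 8585 Q8585 (allL N8585 (tt N5945 F11452) (tt N6825 F11453) (tt N5956 F11454) (tt N6823 F11455) (tt N5942 (iv D9493)))
theorem Q8587 : ∀ i, i < 8587 → P i := stepQ 8586 Q8586 (allL N8586 (tt N7507 F11457) (tt N10103 (iv F14931)) (tt N5943 (iv D9494)) (tt N7536 F11456) (tt N10240 D11159))
theorem Q8588 : ∀ i, i < 8588 → P i := stepQ 8587 Q8587 (allL N8587 (tt N5946 (iv D9495)) (tt N7687 F11459) (tt N10241 D11160) (tt N7544 F11458) (tt N10136 F15025))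
theorem Q8589 : ∀ i, i < 8589 → P i := stepQ 8588 Q8588 (allL N8588 (tt N7539 F11460) (tt N10105 (iv F14935)) (tt N5947 F11461) (tt N5946 (iv D9496)) (tt N10242 D11161))
theorem Q8590 : ∀ i, i < 8590 → P i := stepQ 8589 Q8589 (allL N8589 (tt N10136 F15026) (tt N8838 F11923) (tt N10209 (iv F15195)) (tt N10240 (iv F15282)) (tt N5946 (iv D9497)))
theorem Q8591 : ∀ i, i < 8591 → P i := stepQ 8590 Q8590 (allL N8590 (tt N6867 F11463) (tt N5948 (iv D9498)) (tt N10243 D11162) (tt N6826 F11462) (tt N6867 (iv F11464)))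
theorem Q8592 : ∀ i, i < 8592 → P i := stepQ 8591 Q8591 (allL N8591 (tt N5949 F11465) (tt N6867 F11466) (tt N5972 F11467) (tt N6860 F11468) (tt N5948 (iv D9499)))
theorem Q8593 : ∀ i, i < 8593 → P i := stepQ 8592 Q8592 (allL N8592 (tt N5979 F11469) (tt N7213 (iv F11472)) (tt N5951 (iv D9500)) (tt N7222 F11470) (tt N5969 F11471))
theorem Q8594 : ∀ i, i < 8594 → P i := stepQ 8593 Q8593 (allL N8593 (tt N8145 F11473) (tt N8659 (iv F11591)) (tt N10244 D11163) (tt N6741 F11474) (tt N5952 (iv D9501)))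
theorem Q8595 : ∀ i, i < 8595 → P i := stepQ 8594 Q8594 (allL N8594 (tt N9332 (iv F13043)) (tt N10245 D11164) (tt N5953 (iv D9502)) (tt N9319 (iv F13018)) (tt N10246 D11165))
theorem Q8596 : ∀ i, i < 8596 → P i := stepQ 8595 Q8595 (allL N8595 (tt N8931 (iv F12112)) (tt N8719 (iv F11708)) (tt N5955 (iv D9503)) (tt N7033 F11475) (tt N10247 D11166))
theorem Q8597 : ∀ i, i < 8597 → P i := stepQ 8596 Q8596 (allL N8596 (tt N9339 (iv F13063)) (tt N5956 F11476) (tt N9178 (iv F12706)) (tt N9056 F12402) (tt N5955 (iv D9504)))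
theorem Q8598 : ∀ i, i < 8598 → P i := stepQ 8597 Q8597 (allL N8597 (tt N9785 (iv F14107)) (tt N8839 (iv F11924)) (tt N10248 D11167) (tt N5966 F11477) (tt N5958 (iv D9505)))
theorem Q8599 : ∀ i, i < 8599 → P i := stepQ 8598 Q8598 (allL N8598 (tt N6193 F11478) (tt N8736 (iv F11741)) (tt N5961 F11479) (tt N5960 (iv D9506)) (tt N10249 D11168))
theorem Q8600 : ∀ i, i < 8600 → P i := stepQ 8599 Q8599 (allL N8599 (tt N6185 F11480) (tt N8737 (iv F11746)) (tt N6178 F11481) (tt N10250 D11169) (tt N5960 (iv D9507)))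
theorem Q8601 : ∀ i, i < 8601 → P i := stepQ 8600 Q8600 (allL N8600 (tt N6204 F11482) (tt N5963 F11483) (tt N9903 (iv F14376)) (tt N6432 F11484) (tt N5961 (iv D9508)))
theorem Q8602 : ∀ i, i < 8602 → P i := stepQ 8601 Q8601 (allL N8601 (tt N6445 F11485) (tt N5964 F11486) (tt N9901 (iv F14371)) (tt N5962 (iv D9509)) (tt N6012 F11487))
theorem Q8603 : ∀ i, i < 8603 → P i := stepQ 8602 Q8602 (allL N8602 (tt N9787 (iv F14111)) (tt N8837 (iv F11920)) (tt N10251 D11170) (tt N6454 F11488) (tt N5965 (iv D9510)))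
theorem Q8604 : ∀ i, i < 8604 → P i := stepQ 8603 Q8603 (allL N8603 (tt N9789 (iv F14117)) (tt N8446 (iv F11490)) (tt N5966 (iv D9511)) (tt N10248 (iv F15295)) (tt N8444 F11489))
theorem Q8605 : ∀ i, i < 8605 → P i := stepQ 8604 Q8604 (allL N8604 (tt N8855 (iv F11967)) (tt N10252 D11171) (tt N5968 (iv D9512)) (tt N9058 (iv F12407)) (tt N8887 (iv F12022)))
theorem Q8606 : ∀ i, i < 8606 → P i := stepQ 8605 Q8605 (allL N8605 (tt N9354 (iv F13092)) (tt N8748 (iv F11771)) (tt N5971 (iv D9513)) (tt N6997 F11491) (tt N10253 D11172))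
theorem Q8607 : ∀ i, i < 8607 → P i := stepQ 8606 Q8606 (allL N8606 (tt N9341 (iv F13068)) (tt N5972 F11492) (tt N9186 (iv F12725)) (tt N9099 (iv F12506)) (tt N5971 (iv D9514)))
theorem Q8608 : ∀ i, i < 8608 → P i := stepQ 8607 Q8607 (allL N8607 (tt N9329 (iv F13038)) (tt N5973 (iv D9515)) (tt N10254 D11173) (tt N9100 (iv F12508)) (tt N5985 F11493))
theorem Q8609 : ∀ i, i < 8609 → P i := stepQ 8608 Q8608 (allL N8608 (tt N9457 (iv F13318)) (tt N8468 F11494) (tt N5976 F11495) (tt N9411 F13235) (tt N5974 (iv D9516)))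
theorem Q8610 : ∀ i, i < 8610 → P i := stepQ 8609 Q8609 (allL N8609 (tt N6258 F11496) (tt N5976 F11497) (tt N7979 F11498) (tt N9423 (iv F13257)) (tt N5975 (iv D9517)))
theorem Q8611 : ∀ i, i < 8611 → P i := stepQ 8610 Q8610 (allL N8610 (tt N7213 F11499) (tt N5979 F11500) (tt N7957 (iv F11502)) (tt N6458 F11501) (tt N5978 (iv D9518)))
theorem Q8612 : ∀ i, i < 8612 → P i := stepQ 8611 Q8611 (allL N8611 (tt N9330 (iv F13041)) (tt N10255 D11174) (tt N5985 (iv D9519)) (tt N9055 (iv F12397)) (tt N10256 D11175))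
theorem Q8613 : ∀ i, i < 8613 → P i := stepQ 8612 Q8612 (allL N8612 (tt N10257 D11176) (tt N6524 F11503) (tt N8238 F11504) (tt N5986 (iv D9520)) (tt N6475 F11505))
theorem Q8614 : ∀ i, i < 8614 → P i := stepQ 8613 Q8613 (allL N8613 (tt N5987 (iv D9521)) (tt N10258 D11177) (tt N6149 F11507) (tt N10259 D11178) (tt N6140 F11506))
theorem Q8615 : ∀ i, i < 8615 → P i := stepQ 8614 Q8614 (allL N8614 (tt N8677 (iv F11631)) (tt N5989 F11508) (tt N10153 (iv F15062)) (tt N8224 F11509) (tt N5988 (iv D9522)))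
theorem Q8616 : ∀ i, i < 8616 → P i := stepQ 8615 Q8615 (allL N8615 (tt N9017 (iv F12321)) (tt N8469 F11510) (tt N5989 (iv D9523)) (tt N9042 (iv F12370)) (tt N10260 D11179))
theorem Q8617 : ∀ i, i < 8617 → P i := stepQ 8616 Q8616 (allL N8616 (tt N10261 D11180) (tt N5990 (iv D9524)) (tt N10151 (iv F15057)) (tt N9651 (iv F13783)) (tt N10262 D11181))
theorem Q8618 : ∀ i, i < 8618 → P i := stepQ 8617 Q8617 (allL N8617 (tt N9666 (iv F13819)) (tt N10262 (iv F15330)) (tt N10260 (iv F15327)) (tt N9640 F13749) (tt N5990 (iv D9525)))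
theorem Q8619 : ∀ i, i < 8619 → P i := stepQ 8618 Q8618 (allL N8618 (tt N7222 F11511) (tt N6892 F11512) (tt N5998 F11513) (tt N6011 F11514) (tt N5993 (iv D9526)))
theorem Q8620 : ∀ i, i < 8620 → P i := stepQ 8619 Q8619 (allL N8619 (tt N6841 F11516) (tt N9135 (iv F12602)) (tt N5999 (iv D9527)) (tt N6864 F11515) (tt N10263 D11182))
theorem Q8621 : ∀ i, i < 8621 → P i := stepQ 8620 Q8620 (allL N8620 (tt N7522 F11517) (tt N6127 F11518) (tt N8254 (iv F11520)) (tt N6004 F11519) (tt N6002 (iv D9528)))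
theorem Q8622 : ∀ i, i < 8622 → P i := stepQ 8621 Q8621 (allL N8621 (tt N7523 F11521) (tt N6160 F11522) (tt N8256 (iv F11524)) (tt N6472 F11523) (tt N6003 (iv D9529)))
theorem Q8623 : ∀ i, i < 8623 → P i := stepQ 8622 Q8622 (allL N8622 (tt N6857 F11526) (tt N9148 (iv F12641)) (tt N6005 (iv D9530)) (tt N6838 F11525) (tt N10264 D11183))
theorem Q8624 : ∀ i, i < 8624 → P i := stepQ 8623 Q8623 (allL N8623 (tt N10265 D11184) (tt N6007 (iv D9531)) (tt N10162 (iv F15093)) (tt N9639 (iv F13747)) (tt N10266 D11185))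
theorem Q8625 : ∀ i, i < 8625 → P i := stepQ 8624 Q8624 (allL N8624 (tt N9665 (iv F13817)) (tt N10266 (iv F15338)) (tt N10267 D11186) (tt N9652 (iv F13785)) (tt N6007 (iv D9532)))
theorem Q8626 : ∀ i, i < 8626 → P i := stepQ 8625 Q8625 (allL N8625 (tt N9654 (iv F13787)) (tt N10268 D11187) (tt N6008 (iv D9533)) (tt N9460 F13327) (tt N9453 (iv F13328)))
theorem Q8627 : ∀ i, i < 8627 → P i := stepQ 8626 Q8626 (allL N8626 (tt N7480 F11529) (tt N6011 (iv D9534)) (tt N8396 (iv F11530)) (tt N6892 F11527) (tt N6023 F11528))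
theorem Q8628 : ∀ i, i < 8628 → P i := stepQ 8627 Q8627 (allL N8627 (tt N6442 F11531) (tt N8712 (iv F11692)) (tt N6012 (iv D9535)) (tt N6431 F11532) (tt N10250 (iv F15305)))
theorem Q8629 : ∀ i, i < 8629 → P i := stepQ 8628 Q8628 (allL N8628 (tt N8727 (iv F11727)) (tt N6013 (iv D9536)) (tt N8398 F11533) (tt N8945 (iv F12145)) (tt N10114 (iv F14967)))
theorem Q8630 : ∀ i, i < 8630 → P i := stepQ 8629 Q8629 (allL N8629 (tt N8363 F11534) (tt N10114 (iv F14965)) (tt N8558 F11535) (tt N9798 (iv F14140)) (tt N6013 (iv D9537)))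
theorem Q8631 : ∀ i, i < 8631 → P i := stepQ 8630 Q8630 (allL N8630 (tt N9668 (iv F13824)) (tt N10269 D11188) (tt N6014 (iv D9538)) (tt N7163 F11536) (tt N10270 D11189))
theorem Q8632 : ∀ i, i < 8632 → P i := stepQ 8631 Q8631 (allL N8631 (tt N10271 D11190) (tt N6018 F11537) (tt N7978 F11538) (tt N6017 (iv D9539)) (tt N8313 F11539))
theorem Q8633 : ∀ i, i < 8633 → P i := stepQ 8632 Q8632 (allL N8632 (tt N8764 (iv F11797)) (tt N6021 (iv D9540)) (tt N8400 F11540) (tt N8840 (iv F11928)) (tt N10108 (iv F14947)))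
theorem Q8634 : ∀ i, i < 8634 → P i := stepQ 8633 Q8633 (allL N8633 (tt N8373 F11541) (tt N10108 (iv F14945)) (tt N8454 F11542) (tt N9804 (iv F14152)) (tt N6021 (iv D9541)))
theorem Q8635 : ∀ i, i < 8635 → P i := stepQ 8634 Q8634 (allL N8634 (tt N9663 (iv F13812)) (tt N10272 D11191) (tt N6022 (iv D9542)) (tt N7186 F11543) (tt N10273 D11192))
theorem Q8636 : ∀ i, i < 8636 → P i := stepQ 8635 Q8635 (allL N8635 (tt N7194 F11544) (tt N6650 F11545) (tt N6030 F11546) (tt N6477 F11547) (tt N6026 (iv D9543)))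
theorem Q8637 : ∀ i, i < 8637 → P i := stepQ 8636 Q8636 (allL N8636 (tt N6076 F11548) (tt N10274 D11193) (tt N6031 (iv D9544)) (tt N8950 (iv F12158)) (tt N10275 D11194))
theorem Q8638 : ∀ i, i < 8638 → P i := stepQ 8637 Q8637 (allL N8637 (tt N6040 F11549) (tt N9672 (iv F13834)) (tt N8950 (iv F12157)) (tt N6031 (iv D9545)) (tt N6478 (iv F11550)))
theorem Q8639 : ∀ i, i < 8639 → P i := stepQ 8638 Q8638 (allL N8638 (tt N7891 F11551) (tt N6032 (iv D9546)) (tt N8788 (iv F11831)) (tt N10276 D11195) (tt N7890 (iv F11552)))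
theorem Q8640 : ∀ i, i < 8640 → P i := stepQ 8639 Q8639 (allL N8639 (tt N6087 F11554) (tt N10276 (iv F15374)) (tt N6033 F11553) (tt N6032 (iv D9547)) (tt N10277 D11196))
theorem Q8641 : ∀ i, i < 8641 → P i := stepQ 8640 Q8640 (allL N8640 (tt N6068 F11555) (tt N7890 F11556) (tt N6055 F11557) (tt N10275 (iv F15372)) (tt N6032 (iv D9548)))
theorem Q8642 : ∀ i, i < 8642 → P i := stepQ 8641 Q8641 (allL N8641 (tt N6112 F11558) (tt N9676 (iv F13841)) (tt N10087 (iv F14875)) (tt N6478 F11559) (tt N6033 (iv D9549)))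
theorem Q8643 : ∀ i, i < 8643 → P i := stepQ 8642 Q8642 (allL N8642 (tt N9344 (iv F13075)) (tt N9076 (iv F12452)) (tt N6034 (iv D9550)) (tt N7766 F11560) (tt N7708 F11561))
theorem Q8644 : ∀ i, i < 8644 → P i := stepQ 8643 Q8643 (allL N8643 (tt N7979 F11562) (tt N6035 (iv D9551)) (tt N10278 D11197) (tt N9104 F12522) (tt N7579 F11563))
theorem Q8645 : ∀ i, i < 8645 → P i := stepQ 8644 Q8644 (allL N8644 (tt N9402 (iv F13223)) (tt N9104 (iv F12521)) (tt N6036 F11564) (tt N6035 (iv D9552)) (tt N7765 F11565))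
theorem Q8646 : ∀ i, i < 8646 → P i := stepQ 8645 Q8645 (allL N8645 (tt N6780 F11566) (tt N6045 F11567) (tt N9616 (iv F13676)) (tt N6479 F11568) (tt N6036 (iv D9553)))
theorem Q8647 : ∀ i, i < 8647 → P i := stepQ 8646 Q8646 (allL N8646 (tt N6091 F11569) (tt N7208 F11570) (tt N10279 D11198) (tt N6044 F11571) (tt N6037 (iv D9554)))
theorem Q8648 : ∀ i, i < 8648 → P i := stepQ 8647 Q8647 (allL N8647 (tt N6065 F11572) (tt N10280 D11199) (tt N6038 (iv D9555)) (tt N10281 D11200) (tt N9503 (iv F13425)))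
theorem Q8649 : ∀ i, i < 8649 → P i := stepQ 8648 Q8648 (allL N8648 (tt N6092 F11573) (tt N7209 F11574) (tt N10281 (iv F15392)) (tt N6038 (iv D9556)) (tt N10282 D11201))
theorem Q8650 : ∀ i, i < 8650 → P i := stepQ 8649 Q8649 (allL N8649 (tt N6039 (iv D9557)) (tt N9223 (iv F12830)) (tt N6047 F11575) (tt N10283 D11202) (tt N9221 F12827))
theorem Q8651 : ∀ i, i < 8651 → P i := stepQ 8650 Q8650 (allL N8650 (tt N8244 F11576) (tt N6039 (iv D9558)) (tt N10284 D11203) (tt N9902 (iv F14374)) (tt N9194 (iv F12747)))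
theorem Q8652 : ∀ i, i < 8652 → P i := stepQ 8651 Q8651 (allL N8651 (tt N6080 F11578) (tt N9902 (iv F14373)) (tt N6040 F11577) (tt N6039 (iv D9559)) (tt N7531 (iv F11579)))
theorem Q8653 : ∀ i, i < 8653 → P i := stepQ 8652 Q8652 (allL N8652 (tt N9221 (iv F12825)) (tt N9194 (iv F12749)) (tt N6053 F11580) (tt N6043 F11581) (tt N6039 (iv D9560)))
theorem Q8654 : ∀ i, i < 8654 → P i := stepQ 8653 Q8653 (allL N8653 (tt N9802 F14147) (tt N10278 (iv F15381)) (tt N6041 (iv D9561)) (tt N10285 D11204) (tt N9801 (iv F14148)))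
theorem Q8655 : ∀ i, i < 8655 → P i := stepQ 8654 Q8654 (allL N8654 (tt N8258 F11582) (tt N6042 F11583) (tt N10285 (iv F15403)) (tt N6041 (iv D9562)) (tt N9283 (iv F12935)))
theorem Q8656 : ∀ i, i < 8656 → P i := stepQ 8655 Q8655 (allL N8655 (tt N6042 (iv D9563)) (tt N9273 (iv F12921)) (tt N6069 F11584) (tt N10286 D11205) (tt N9271 F12918))
theorem Q8657 : ∀ i, i < 8657 → P i := stepQ 8656 Q8656 (allL N8656 (tt N9271 (iv F12917)) (tt N9283 (iv F12933)) (tt N6060 F11585) (tt N7531 F11586) (tt N6042 (iv D9564)))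
theorem Q8658 : ∀ i, i < 8658 → P i := stepQ 8657 Q8657 (allL N8657 (tt N6067 F11587) (tt N10287 D11206) (tt N6044 (iv D9565)) (tt N10279 (iv F15383)) (tt N9517 (iv F13454)))
theorem Q8659 : ∀ i, i < 8659 → P i := stepQ 8658 Q8658 (allL N8658 (tt N6045 F11588) (tt N7224 F11589) (tt N10088 (iv F14878)) (tt N10282 (iv F15397)) (tt N6044 (iv D9566)))
theorem Q8660 : ∀ i, i < 8660 → P i := stepQ 8659 Q8659 (allL N8659 (tt N6075 F11590) (tt N8593 F11591) (tt N10286 (iv F15406)) (tt N6069 F11592) (tt N6046 (iv D9567)))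
theorem Q8661 : ∀ i, i < 8661 → P i := stepQ 8660 Q8660 (allL N8660 (tt N6077 F11593) (tt N9151 (iv F12646)) (tt N10283 (iv F15399)) (tt N6047 (iv D9568)) (tt N10288 D11207))
theorem Q8662 : ∀ i, i < 8662 → P i := stepQ 8661 Q8661 (allL N8661 (tt N6106 F11595) (tt N10043 (iv F14743)) (tt N6048 (iv D9569)) (tt N6062 F11594) (tt N10289 D11208))
theorem Q8663 : ∀ i, i < 8663 → P i := stepQ 8662 Q8662 (allL N8662 (tt N6762 F11596) (tt N6049 (iv D9570)) (tt N10290 D11209) (tt N10064 (iv F14813)) (tt N6759 (iv F11597)))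
theorem Q8664 : ∀ i, i < 8664 → P i := stepQ 8663 Q8663 (allL N8663 (tt N6099 F11598) (tt N10064 (iv F14812)) (tt N6050 F11599) (tt N6049 (iv D9571)) (tt N10291 D11210))
theorem Q8665 : ∀ i, i < 8665 → P i := stepQ 8664 Q8664 (allL N8664 (tt N6103 F11600) (tt N6759 F11601) (tt N9221 (iv F12826)) (tt N10289 (iv F15416)) (tt N6049 (iv D9572)))
theorem Q8666 : ∀ i, i < 8666 → P i := stepQ 8665 Q8665 (allL N8665 (tt N6097 F11602) (tt N6900 F11603) (tt N10288 (iv F15413)) (tt N6063 F11604) (tt N6050 (iv D9573)))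
theorem Q8667 : ∀ i, i < 8667 → P i := stepQ 8666 Q8666 (allL N8666 (tt N6095 F11605) (tt N8017 F11606) (tt N7863 F11607) (tt N6051 (iv D9574)) (tt N9518 (iv F13457)))
theorem Q8668 : ∀ i, i < 8668 → P i := stepQ 8667 Q8667 (allL N8667 (tt N10098 (iv F14912)) (tt N9077 (iv F12453)) (tt N6052 (iv D9575)) (tt N8042 F11608) (tt N9810 (iv F14166)))
theorem Q8669 : ∀ i, i < 8669 → P i := stepQ 8668 Q8668 (allL N8668 (tt N6111 F11609) (tt N7564 F11610) (tt N10277 (iv F15378)) (tt N7563 F11611) (tt N6054 (iv D9576)))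
theorem Q8670 : ∀ i, i < 8670 → P i := stepQ 8669 Q8669 (allL N8669 (tt N6096 (iv F11614)) (tt N7496 F11612) (tt N10275 (iv F15371)) (tt N6055 (iv D9577)) (tt N6094 F11613))
theorem Q8671 : ∀ i, i < 8671 → P i := stepQ 8670 Q8670 (allL N8670 (tt N10100 (iv F14919)) (tt N9105 (iv F12523)) (tt N6057 F11615) (tt N6056 (iv D9578)) (tt N9828 (iv F14207)))
theorem Q8672 : ∀ i, i < 8672 → P i := stepQ 8671 Q8671 (allL N8671 (tt N6093 F11616) (tt N7988 F11617) (tt N7803 F11618) (tt N6059 (iv D9579)) (tt N9504 (iv F13428)))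
theorem Q8673 : ∀ i, i < 8673 → P i := stepQ 8672 Q8672 (allL N8672 (tt N6773 F11619) (tt N6062 (iv D9580)) (tt N10292 D11211) (tt N10043 (iv F14744)) (tt N6770 (iv F11620)))
theorem Q8674 : ∀ i, i < 8674 → P i := stepQ 8673 Q8673 (allL N8673 (tt N6102 F11621) (tt N6770 F11622) (tt N9271 (iv F12916)) (tt N10291 (iv F15422)) (tt N6062 (iv D9581)))
theorem Q8675 : ∀ i, i < 8675 → P i := stepQ 8674 Q8674 (allL N8674 (tt N6070 F11623) (tt N9170 (iv F12687)) (tt N6063 (iv D9582)) (tt N10288 (iv F15412)) (tt N6069 F11624))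
theorem Q8676 : ∀ i, i < 8676 → P i := stepQ 8675 Q8675 (allL N8675 (tt N9503 (iv F13423)) (tt N6800 F11625) (tt N6103 F11626) (tt N6068 (iv F11627)) (tt N6065 (iv D9583)))
theorem Q8677 : ∀ i, i < 8677 → P i := stepQ 8676 Q8676 (allL N8676 (tt N9517 (iv F13452)) (tt N6879 F11628) (tt N6102 F11629) (tt N7407 F11630) (tt N6067 (iv D9584)))
theorem Q8678 : ∀ i, i < 8678 → P i := stepQ 8677 Q8677 (allL N8677 (tt N8614 F11631) (tt N8677 F11632) (tt N8734 (iv F11740)) (tt N9449 (iv F13297)) (tt N6071 (iv D9585)))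
theorem Q8679 : ∀ i, i < 8679 → P i := stepQ 8678 Q8678 (allL N8678 (tt N10086 (iv F14871)) (tt N10293 D11212) (tt N6072 (iv D9586)) (tt N10079 (iv F14856)) (tt N10294 D11213))
theorem Q8680 : ∀ i, i < 8680 → P i := stepQ 8679 Q8679 (allL N8679 (tt N7803 F11633) (tt N8679 F11634) (tt N6106 F11635) (tt N6105 F11636) (tt N6073 (iv D9587)))
theorem Q8681 : ∀ i, i < 8681 → P i := stepQ 8680 Q8680 (allL N8680 (tt N7863 F11637) (tt N8680 F11638) (tt N6099 F11639) (tt N6074 (iv D9588)) (tt N10295 D11214))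
theorem Q8682 : ∀ i, i < 8682 → P i := stepQ 8681 Q8681 (allL N8681 (tt N10279 (iv F15385)) (tt N10296 D11215) (tt N6075 (iv D9589)) (tt N6087 F11640) (tt N10297 D11216))
theorem Q8683 : ∀ i, i < 8683 → P i := stepQ 8682 Q8682 (allL N8682 (tt N8240 F11641) (tt N6076 (iv D9590)) (tt N6126 (iv F11642)) (tt N10298 D11217) (tt N9562 (iv F13547)))
theorem Q8684 : ∀ i, i < 8684 → P i := stepQ 8683 Q8683 (allL N8683 (tt N10281 (iv F15390)) (tt N10298 (iv F15444)) (tt N6077 F11643) (tt N6076 (iv D9591)) (tt N10299 D11218))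
theorem Q8685 : ∀ i, i < 8685 → P i := stepQ 8684 Q8684 (allL N8684 (tt N10275 (iv F15369)) (tt N9562 F13548) (tt N6100 F11644) (tt N10297 (iv F15442)) (tt N6076 (iv D9592)))
theorem Q8686 : ∀ i, i < 8686 → P i := stepQ 8685 Q8685 (allL N8685 (tt N10288 (iv F15410)) (tt N10080 (iv F14858)) (tt N10295 (iv F15434)) (tt N6088 F11645) (tt N6077 (iv D9593)))
theorem Q8687 : ∀ i, i < 8687 → P i := stepQ 8686 Q8686 (allL N8686 (tt N8115 F11646) (tt N6078 (iv D9594)) (tt N10300 D11219) (tt N9852 (iv F14268)) (tt N9849 F14258))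
theorem Q8688 : ∀ i, i < 8688 → P i := stepQ 8687 Q8687 (allL N8687 (tt N10283 (iv F15398)) (tt N9852 (iv F14267)) (tt N6092 F11647) (tt N6078 (iv D9595)) (tt N9850 (iv F14261)))
theorem Q8689 : ∀ i, i < 8689 → P i := stepQ 8688 Q8688 (allL N8688 (tt N6081 F11648) (tt N9849 (iv F14256)) (tt N6096 F11649) (tt N9848 F14254) (tt N6078 (iv D9596)))
theorem Q8690 : ∀ i, i < 8690 → P i := stepQ 8689 Q8689 (allL N8689 (tt N8254 F11650) (tt N9545 (iv F13510)) (tt N6079 (iv D9597)) (tt N7530 F11651) (tt N8254 F11652))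
theorem Q8691 : ∀ i, i < 8691 → P i := stepQ 8690 Q8690 (allL N8690 (tt N8256 F11653) (tt N9560 (iv F13542)) (tt N6083 F11654) (tt N6082 (iv D9598)) (tt N8256 F11655))
theorem Q8692 : ∀ i, i < 8692 → P i := stepQ 8691 Q8691 (allL N8691 (tt N8128 F11656) (tt N6084 (iv D9599)) (tt N10301 D11220) (tt N8122 (iv F11657)) (tt N9851 (iv F14265)))
theorem Q8693 : ∀ i, i < 8693 → P i := stepQ 8692 Q8692 (allL N8692 (tt N10286 (iv F15405)) (tt N8122 F11658) (tt N6091 F11659) (tt N6084 (iv D9600)) (tt N9848 (iv F14253)))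
theorem Q8694 : ∀ i, i < 8694 → P i := stepQ 8693 Q8693 (allL N8693 (tt N6085 F11660) (tt N9851 (iv F14263)) (tt N6111 F11661) (tt N9850 F14260) (tt N6084 (iv D9601)))
theorem Q8695 : ∀ i, i < 8695 → P i := stepQ 8694 Q8694 (allL N8694 (tt N10084 (iv F14866)) (tt N10302 D11221) (tt N6086 (iv D9602)) (tt N10075 (iv F14841)) (tt N10303 D11222))
theorem Q8696 : ∀ i, i < 8696 → P i := stepQ 8695 Q8695 (allL N8695 (tt N9069 (iv F12433)) (tt N6088 F11662) (tt N10304 D11223) (tt N10080 (iv F14859)) (tt N6086 (iv D9603)))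
theorem Q8697 : ∀ i, i < 8697 → P i := stepQ 8696 Q8696 (allL N8696 (tt N8272 F11663) (tt N6087 (iv D9604)) (tt N6159 (iv F11664)) (tt N10296 (iv F15436)) (tt N9583 (iv F13587)))
theorem Q8698 : ∀ i, i < 8698 → P i := stepQ 8697 Q8697 (allL N8697 (tt N10277 (iv F15376)) (tt N9583 F13588) (tt N6107 F11665) (tt N10299 (iv F15450)) (tt N6087 (iv D9605)))
theorem Q8699 : ∀ i, i < 8699 → P i := stepQ 8698 Q8698 (allL N8698 (tt N10087 (iv F14873)) (tt N8698 F11667) (tt N6088 (iv D9606)) (tt N10295 (iv F15433)) (tt N6105 F11666))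
theorem Q8700 : ∀ i, i < 8700 → P i := stepQ 8699 Q8699 (allL N8699 (tt N6594 F11668) (tt N6090 (iv D9607)) (tt N10057 (iv F14789)) (tt N7799 F11669) (tt N6592 F11670))
theorem Q8701 : ∀ i, i < 8701 → P i := stepQ 8700 Q8700 (allL N8700 (tt N10282 (iv F15394)) (tt N9983 (iv F14592)) (tt N6097 (iv F11672)) (tt N6112 F11671) (tt N6092 (iv D9608)))
theorem Q8702 : ∀ i, i < 8702 → P i := stepQ 8701 Q8701 (allL N8701 (tt N9504 (iv F13426)) (tt N9140 (iv F12616)) (tt N9848 (iv F14252)) (tt N6096 F11673) (tt N6093 (iv D9609)))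
theorem Q8703 : ∀ i, i < 8703 → P i := stepQ 8702 Q8702 (allL N8702 (tt N9518 (iv F13455)) (tt N9145 (iv F12634)) (tt N9850 (iv F14259)) (tt N6111 F11674) (tt N6095 (iv D9610)))
theorem Q8704 : ∀ i, i < 8704 → P i := stepQ 8703 Q8703 (allL N8703 (tt N10114 (iv F14964)) (tt N8703 F11675) (tt N6098 (iv D9611)) (tt N10111 (iv F14958)) (tt N8727 (iv F11729)))
theorem Q8705 : ∀ i, i < 8705 → P i := stepQ 8704 Q8704 (allL N8704 (tt N6698 F11676) (tt N6100 F11677) (tt N10261 (iv F15329)) (tt N10102 (iv F14930)) (tt N6098 (iv D9612)))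
theorem Q8706 : ∀ i, i < 8706 → P i := stepQ 8705 Q8705 (allL N8705 (tt N10291 (iv F15420)) (tt N10106 F14940) (tt N10299 (iv F15449)) (tt N6107 F11678) (tt N6099 (iv D9613)))
theorem Q8707 : ∀ i, i < 8707 → P i := stepQ 8706 Q8706 (allL N8706 (tt N10289 (iv F15414)) (tt N10102 (iv F14928)) (tt N10297 (iv F15441)) (tt N6100 (iv D9614)) (tt N6106 F11679))
theorem Q8708 : ∀ i, i < 8708 → P i := stepQ 8707 Q8707 (allL N8707 (tt N10108 (iv F14944)) (tt N8707 F11680) (tt N6104 (iv D9615)) (tt N10101 (iv F14925)) (tt N8764 (iv F11796)))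
theorem Q8709 : ∀ i, i < 8709 → P i := stepQ 8708 Q8708 (allL N8708 (tt N6716 F11681) (tt N6107 F11682) (tt N10265 (iv F15337)) (tt N10106 (iv F14937)) (tt N6104 (iv D9616)))
theorem Q8710 : ∀ i, i < 8710 → P i := stepQ 8709 Q8709 (allL N8709 (tt N6602 F11683) (tt N6108 (iv D9617)) (tt N10161 (iv F15088)) (tt N7798 F11684) (tt N6601 F11685))
theorem Q8711 : ∀ i, i < 8711 → P i := stepQ 8710 Q8710 (allL N8710 (tt N8043 F11688) (tt N9073 (iv F12445)) (tt N6109 (iv D9618)) (tt N7797 F11686) (tt N7795 F11687))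
theorem Q8712 : ∀ i, i < 8712 → P i := stepQ 8711 Q8711 (allL N8711 (tt N7314 F11689) (tt N10161 (iv F15087)) (tt N6110 (iv D9619)) (tt N10050 (iv F14767)) (tt N7313 (iv F11690)))
theorem Q8713 : ∀ i, i < 8713 → P i := stepQ 8712 Q8712 (allL N8712 (tt N6124 F11691) (tt N8627 F11692) (tt N6115 (iv D9620)) (tt N6411 F11693) (tt N10305 D11224))
theorem Q8714 : ∀ i, i < 8714 → P i := stepQ 8713 Q8713 (allL N8713 (tt N6118 F11695) (tt N9677 (iv F13845)) (tt N8240 F11696) (tt N6135 (iv F11697)) (tt N6115 (iv D9621)))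
theorem Q8715 : ∀ i, i < 8715 → P i := stepQ 8714 Q8714 (allL N8714 (tt N6371 F11700) (tt N6117 F11701) (tt N7757 F11702) (tt N6116 (iv D9622)) (tt N9535 (iv F13492)))
theorem Q8716 : ∀ i, i < 8716 → P i := stepQ 8715 Q8715 (allL N8715 (tt N6117 (iv D9623)) (tt N7210 F11703) (tt N8859 (iv F11978)) (tt N6465 F11704) (tt N10306 D11225))
theorem Q8717 : ∀ i, i < 8717 → P i := stepQ 8716 Q8716 (allL N8716 (tt N10306 (iv F15466)) (tt N9535 F13493) (tt N10307 D11226) (tt N6166 F11707) (tt N6117 (iv D9624)))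
theorem Q8718 : ∀ i, i < 8718 → P i := stepQ 8717 Q8717 (allL N8717 (tt N6127 F11705) (tt N10308 D11227) (tt N6118 (iv D9625)) (tt N10309 D11228) (tt N9564 (iv F13550)))
theorem Q8719 : ∀ i, i < 8719 → P i := stepQ 8718 Q8718 (allL N8718 (tt N10310 D11229) (tt N9536 (iv F13495)) (tt N10309 (iv F15471)) (tt N6118 (iv D9626)) (tt N6165 F11706))
theorem Q8720 : ∀ i, i < 8720 → P i := stepQ 8719 Q8719 (allL N8719 (tt N6125 F11710) (tt N8595 F11708) (tt N6119 (iv D9627)) (tt N6467 F11709) (tt N10311 D11230))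
theorem Q8721 : ∀ i, i < 8721 → P i := stepQ 8720 Q8720 (allL N8720 (tt N6120 F11711) (tt N6901 F11712) (tt N10312 D11231) (tt N6144 F11713) (tt N6119 (iv D9628)))
theorem Q8722 : ∀ i, i < 8722 → P i := stepQ 8721 Q8721 (allL N8721 (tt N10313 D11232) (tt N10314 D11233) (tt N6120 (iv D9629)) (tt N6167 F11714) (tt N10315 D11234))
theorem Q8723 : ∀ i, i < 8723 → P i := stepQ 8722 Q8722 (allL N8722 (tt N6121 (iv D9630)) (tt N10150 (iv F15052)) (tt N10305 (iv F15464)) (tt N6146 F11715) (tt N10316 D11235))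
theorem Q8724 : ∀ i, i < 8724 → P i := stepQ 8723 Q8723 (allL N8723 (tt N6392 F11716) (tt N6121 (iv D9631)) (tt N7304 (iv F11722)) (tt N10317 D11236) (tt N9141 (iv F12620)))
theorem Q8725 : ∀ i, i < 8725 → P i := stepQ 8724 Q8724 (allL N8724 (tt N10318 D11237) (tt N10317 (iv F15496)) (tt N6122 F11723) (tt N6121 (iv D9632)) (tt N10319 D11238))
theorem Q8726 : ∀ i, i < 8726 → P i := stepQ 8725 Q8725 (allL N8725 (tt N10316 (iv F15490)) (tt N9141 F12621) (tt N9564 (iv F13551)) (tt N10315 (iv F15494)) (tt N6121 (iv D9633)))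
theorem Q8727 : ∀ i, i < 8727 → P i := stepQ 8726 Q8726 (allL N8726 (tt N6122 (iv D9634)) (tt N6903 F11724) (tt N10320 D11239) (tt N6150 F11725) (tt N6143 F11726))
theorem Q8728 : ∀ i, i < 8728 → P i := stepQ 8727 Q8727 (allL N8727 (tt N8628 F11727) (tt N8727 F11728) (tt N6123 (iv D9635)) (tt N9813 (iv F14172)) (tt N8703 F11729))
theorem Q8729 : ∀ i, i < 8729 → P i := stepQ 8728 Q8728 (allL N8728 (tt N6406 F11730) (tt N6125 F11731) (tt N9813 (iv F14171)) (tt N6123 (iv D9636)) (tt N10321 D11240))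
theorem Q8730 : ∀ i, i < 8730 → P i := stepQ 8729 Q8729 (allL N8729 (tt N9074 (iv F12446)) (tt N6126 F11732) (tt N10293 (iv F15426)) (tt N10322 D11241) (tt N6123 (iv D9637)))
theorem Q8731 : ∀ i, i < 8731 → P i := stepQ 8730 Q8730 (allL N8730 (tt N8859 (iv F11979)) (tt N8730 F11733) (tt N6125 F11734) (tt N6124 (iv D9638)) (tt N10323 D11242))
theorem Q8732 : ∀ i, i < 8732 → P i := stepQ 8731 Q8731 (allL N8731 (tt N10305 (iv F15462)) (tt N8731 F11735) (tt N6128 F11736) (tt N10324 D11243) (tt N6124 (iv D9639)))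
theorem Q8733 : ∀ i, i < 8733 → P i := stepQ 8732 Q8732 (allL N8732 (tt N10311 (iv F15476)) (tt N10321 (iv F15508)) (tt N10296 F15438) (tt N6159 F11737) (tt N6125 (iv D9640)))
theorem Q8734 : ∀ i, i < 8734 → P i := stepQ 8733 Q8733 (allL N8733 (tt N10325 D11244) (tt N10322 (iv F15511)) (tt N10298 (iv F15445)) (tt N6126 (iv D9641)) (tt N6158 F11738))
theorem Q8735 : ∀ i, i < 8735 → P i := stepQ 8734 Q8734 (allL N8734 (tt N6586 F11739) (tt N6128 (iv D9642)) (tt N8677 F11740) (tt N9731 (iv F13963)) (tt N9561 (iv F13546)))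
theorem Q8736 : ∀ i, i < 8736 → P i := stepQ 8735 Q8735 (allL N8735 (tt N10320 (iv F15504)) (tt N9731 F13965) (tt N10324 (iv F15517)) (tt N6128 (iv D9643)) (tt N9584 (iv F13589)))
theorem Q8737 : ∀ i, i < 8737 → P i := stepQ 8736 Q8736 (allL N8736 (tt N6157 F11743) (tt N8598 F11741) (tt N6134 F11742) (tt N6133 (iv D9644)) (tt N10326 D11245))
theorem Q8738 : ∀ i, i < 8738 → P i := stepQ 8737 Q8737 (allL N8737 (tt N6153 F11745) (tt N8599 F11746) (tt N6146 F11747) (tt N10305 (iv F15465)) (tt N6133 (iv D9645)))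
theorem Q8739 : ∀ i, i < 8739 → P i := stepQ 8738 Q8738 (allL N8738 (tt N6166 F11748) (tt N9678 (iv F13848)) (tt N8272 F11750) (tt N6462 F11749) (tt N6134 (iv D9646)))
theorem Q8740 : ∀ i, i < 8740 → P i := stepQ 8739 Q8739 (allL N8739 (tt N6987 F11751) (tt N6139 F11752) (tt N7368 F11753) (tt N6464 F11754) (tt N6136 (iv D9647)))
theorem Q8741 : ∀ i, i < 8741 → P i := stepQ 8740 Q8740 (allL N8740 (tt N7042 F11755) (tt N6141 F11756) (tt N7369 F11757) (tt N6137 (iv D9648)) (tt N6463 F11758))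
theorem Q8742 : ∀ i, i < 8742 → P i := stepQ 8741 Q8741 (allL N8741 (tt N6152 F11759) (tt N9058 (iv F12406)) (tt N6138 (iv D9649)) (tt N10252 (iv F15310)) (tt N10327 D11246))
theorem Q8743 : ∀ i, i < 8743 → P i := stepQ 8742 Q8742 (allL N8742 (tt N6165 F11760) (tt N7211 F11761) (tt N10252 (iv F15309)) (tt N6138 (iv D9650)) (tt N10310 (iv F15474)))
theorem Q8744 : ∀ i, i < 8744 → P i := stepQ 8743 Q8743 (allL N8743 (tt N6139 F11762) (tt N7212 F11763) (tt N8237 F11764) (tt N10306 (iv F15469)) (tt N6138 (iv D9651)))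
theorem Q8745 : ∀ i, i < 8745 → P i := stepQ 8744 Q8744 (allL N8744 (tt N10328 D11247) (tt N10329 D11248) (tt N6139 (iv D9652)) (tt N6466 F11765) (tt N10259 (iv F15324)))
theorem Q8746 : ∀ i, i < 8746 → P i := stepQ 8745 Q8745 (allL N8745 (tt N10092 (iv F14890)) (tt N6140 (iv D9653)) (tt N9648 (iv F13773)) (tt N10330 D11249) (tt N10258 (iv F15322)))
theorem Q8747 : ∀ i, i < 8747 → P i := stepQ 8746 Q8746 (allL N8746 (tt N10331 D11250) (tt N10330 (iv F15531)) (tt N6141 F11766) (tt N6140 (iv D9654)) (tt N10332 D11251))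
theorem Q8748 : ∀ i, i < 8748 → P i := stepQ 8747 Q8747 (allL N8747 (tt N6141 (iv D9655)) (tt N7223 F11767) (tt N8242 F11769) (tt N10310 (iv F15473)) (tt N6465 F11768))
theorem Q8749 : ∀ i, i < 8749 → P i := stepQ 8748 Q8748 (allL N8748 (tt N6158 F11770) (tt N8605 F11771) (tt N6143 F11772) (tt N6142 (iv D9656)) (tt N10325 (iv F15520)))
theorem Q8750 : ∀ i, i < 8750 → P i := stepQ 8749 Q8749 (allL N8749 (tt N6154 F11773) (tt N9379 (iv F13167)) (tt N10328 (iv F15528)) (tt N10311 (iv F15478)) (tt N6142 (iv D9657)))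
theorem Q8751 : ∀ i, i < 8751 → P i := stepQ 8750 Q8750 (allL N8750 (tt N6475 F11774) (tt N10333 D11252) (tt N6144 (iv D9658)) (tt N10312 (iv F15479)) (tt N10257 (iv F15319)))
theorem Q8752 : ∀ i, i < 8752 → P i := stepQ 8751 Q8751 (allL N8751 (tt N6145 (iv D9659)) (tt N8023 F12360) (tt N10327 (iv F15527)) (tt N10313 (iv F15483)) (tt N9506 (iv F13432)))
theorem Q8753 : ∀ i, i < 8753 → P i := stepQ 8752 Q8752 (allL N8752 (tt N9377 (iv F13159)) (tt N6145 (iv D9660)) (tt N9064 (iv F12422)) (tt N6469 F11775) (tt N9376 (iv F13155)))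
theorem Q8754 : ∀ i, i < 8754 → P i := stepQ 8753 Q8753 (allL N8753 (tt N9506 (iv F13431)) (tt N9376 F13156) (tt N10259 (iv F15323)) (tt N6149 F13157) (tt N6145 (iv D9661)))
theorem Q8755 : ∀ i, i < 8755 → P i := stepQ 8754 Q8754 (allL N8754 (tt N6149 F11776) (tt N7498 F11777) (tt N8241 F11778) (tt N10334 D11253) (tt N6146 (iv D9662)))
theorem Q8756 : ∀ i, i < 8756 → P i := stepQ 8755 Q8755 (allL N8755 (tt N6147 (iv D9663)) (tt N7673 F11779) (tt N6247 F11780) (tt N6247 F11781) (tt N7671 F11782))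
theorem Q8757 : ∀ i, i < 8757 → P i := stepQ 8756 Q8756 (allL N8756 (tt N9392 (iv F13196)) (tt N6148 F11783) (tt N9618 (iv F13686)) (tt N6147 (iv D9664)) (tt N9391 (iv F13194)))
theorem Q8758 : ∀ i, i < 8758 → P i := stepQ 8757 Q8757 (allL N8757 (tt N7671 F11784) (tt N6149 F11785) (tt N7713 F11786) (tt N9376 (iv F13154)) (tt N6147 (iv D9665)))
theorem Q8759 : ∀ i, i < 8759 → P i := stepQ 8758 Q8758 (allL N8758 (tt N6148 (iv D9666)) (tt N8026 F12391) (tt N10335 D11254) (tt N10318 (iv F15498)) (tt N9519 (iv F13459)))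
theorem Q8760 : ∀ i, i < 8760 → P i := stepQ 8759 Q8759 (allL N8759 (tt N9519 (iv F13458)) (tt N9391 F13195) (tt N10332 (iv F15534)) (tt N6470 F13158) (tt N6148 (iv D9667)))
theorem Q8761 : ∀ i, i < 8761 → P i := stepQ 8760 Q8760 (allL N8760 (tt N6169 F11787) (tt N10336 D11255) (tt N6150 (iv D9669)) (tt N10320 (iv F15503)) (tt N10337 D11256))
theorem Q8762 : ∀ i, i < 8762 → P i := stepQ 8761 Q8761 (allL N8761 (tt N10327 (iv F15526)) (tt N6260 F11788) (tt N6475 F11789) (tt N6413 (iv F11790)) (tt N6152 (iv D9670)))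
theorem Q8763 : ∀ i, i < 8763 → P i := stepQ 8762 Q8762 (allL N8762 (tt N10335 (iv F15543)) (tt N6261 F11791) (tt N6169 F11792) (tt N6153 (iv D9671)) (tt N6412 F11793))
theorem Q8764 : ∀ i, i < 8764 → P i := stepQ 8763 Q8763 (allL N8763 (tt N6155 (iv D9672)) (tt N9389 (iv F13190)) (tt N10331 (iv F15533)) (tt N10325 (iv F15519)) (tt N6467 F11794))
theorem Q8765 : ∀ i, i < 8765 → P i := stepQ 8764 Q8764 (allL N8764 (tt N8632 F11797) (tt N8764 F11795) (tt N6156 (iv D9673)) (tt N10271 (iv F15356)) (tt N8707 F11796))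
theorem Q8766 : ∀ i, i < 8766 → P i := stepQ 8765 Q8765 (allL N8765 (tt N6254 F11798) (tt N6158 F11799) (tt N10271 (iv F15355)) (tt N6156 (iv D9674)) (tt N10322 (iv F15512)))
theorem Q8767 : ∀ i, i < 8767 → P i := stepQ 8766 Q8766 (allL N8766 (tt N9078 (iv F12455)) (tt N6159 F11800) (tt N10302 (iv F15455)) (tt N10321 (iv F15509)) (tt N6156 (iv D9675)))
theorem Q8768 : ∀ i, i < 8768 → P i := stepQ 8767 Q8767 (allL N8767 (tt N10252 (iv F15311)) (tt N8767 F11801) (tt N6158 F11802) (tt N6157 (iv D9676)) (tt N10324 (iv F15518)))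
theorem Q8769 : ∀ i, i < 8769 → P i := stepQ 8768 Q8768 (allL N8768 (tt N10326 (iv F15522)) (tt N8768 F11803) (tt N6168 F11804) (tt N10323 F15515) (tt N6157 (iv D9677)))
theorem Q8770 : ∀ i, i < 8770 → P i := stepQ 8769 Q8769 (allL N8769 (tt N6160 (iv D9678)) (tt N10338 D11257) (tt N6166 F11805) (tt N10307 (iv F15470)) (tt N9585 (iv F13590)))
theorem Q8771 : ∀ i, i < 8771 → P i := stepQ 8770 Q8770 (allL N8770 (tt N7279 F11807) (tt N9080 (iv F12459)) (tt N6164 (iv D9679)) (tt N10339 D11258) (tt N7278 F11806))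
theorem Q8772 : ∀ i, i < 8772 → P i := stepQ 8771 Q8771 (allL N8771 (tt N9796 (iv F14132)) (tt N6165 F11808) (tt N10339 (iv F15553)) (tt N6164 (iv D9680)) (tt N9536 (iv F13497)))
theorem Q8773 : ∀ i, i < 8773 → P i := stepQ 8772 Q8772 (allL N8772 (tt N6167 (iv D9681)) (tt N10164 (iv F15095)) (tt N10326 (iv F15525)) (tt N6468 F11809) (tt N10334 (iv F15542)))
theorem Q8774 : ∀ i, i < 8774 → P i := stepQ 8773 Q8773 (allL N8773 (tt N9144 (iv F12629)) (tt N6167 (iv D9682)) (tt N7317 F12442) (tt N10314 (iv F15487)) (tt N9143 (iv F12627)))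
theorem Q8775 : ∀ i, i < 8775 → P i := stepQ 8774 Q8774 (allL N8774 (tt N10334 (iv F15539)) (tt N9143 F12628) (tt N9585 (iv F13591)) (tt N10319 (iv F15502)) (tt N6167 (iv D9683)))
theorem Q8776 : ∀ i, i < 8776 → P i := stepQ 8775 Q8775 (allL N8775 (tt N6588 F11810) (tt N6168 (iv D9684)) (tt N10340 D11259) (tt N9730 (iv F13961)) (tt N9582 (iv F13586)))
theorem Q8777 : ∀ i, i < 8777 → P i := stepQ 8776 Q8776 (allL N8776 (tt N10312 (iv F15480)) (tt N9730 F13962) (tt N10323 (iv F15514)) (tt N6168 (iv D9685)) (tt N9563 (iv F13549)))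
theorem Q8778 : ∀ i, i < 8778 → P i := stepQ 8777 Q8777 (allL N8777 (tt N10337 (iv F15548)) (tt N6529 F11811) (tt N8243 F11812) (tt N6476 F11813) (tt N6169 (iv D9686)))
theorem Q8779 : ∀ i, i < 8779 → P i := stepQ 8778 Q8778 (allL N8778 (tt N6198 F11814) (tt N8827 (iv F11894)) (tt N6181 F11815) (tt N9360 (iv F13105)) (tt N6173 (iv D9687)))
theorem Q8780 : ∀ i, i < 8780 → P i := stepQ 8779 Q8779 (allL N8779 (tt N6957 F11816) (tt N6174 (iv D9688)) (tt N6950 F11817) (tt N10341 D11260) (tt N10342 D11261))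
theorem Q8781 : ∀ i, i < 8781 → P i := stepQ 8780 Q8780 (allL N8780 (tt N6194 F11818) (tt N10341 (iv F15559)) (tt N6175 F11819) (tt N6174 (iv D9689)) (tt N10343 D11262))
theorem Q8782 : ∀ i, i < 8782 → P i := stepQ 8781 Q8781 (allL N8781 (tt N6186 F11820) (tt N10342 (iv F15563)) (tt N9358 (iv F13101)) (tt N10344 D11263) (tt N6174 (iv D9690)))
theorem Q8783 : ∀ i, i < 8783 → P i := stepQ 8782 Q8782 (allL N8782 (tt N6205 F11821) (tt N6399 F11822) (tt N10345 D11264) (tt N6182 F11823) (tt N6175 (iv D9691)))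
theorem Q8784 : ∀ i, i < 8784 → P i := stepQ 8783 Q8783 (allL N8783 (tt N6447 F11824) (tt N10346 D11265) (tt N6176 (iv D9692)) (tt N10347 D11266) (tt N10348 D11267))
theorem Q8785 : ∀ i, i < 8785 → P i := stepQ 8784 Q8784 (allL N8784 (tt N6207 F11825) (tt N6382 F11826) (tt N10347 (iv F15575)) (tt N6176 (iv D9693)) (tt N6366 F11827))
theorem Q8786 : ∀ i, i < 8786 → P i := stepQ 8785 Q8785 (allL N8785 (tt N10223 (iv F15236)) (tt N6177 (iv D9694)) (tt N9011 (iv F12305)) (tt N6436 F11828) (tt N10349 D11268))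
theorem Q8787 : ∀ i, i < 8787 → P i := stepQ 8786 Q8786 (allL N8786 (tt N9364 (iv F13120)) (tt N10349 (iv F15579)) (tt N9360 (iv F13104)) (tt N6181 F13106) (tt N6177 (iv D9695)))
theorem Q8788 : ∀ i, i < 8788 → P i := stepQ 8787 Q8787 (allL N8787 (tt N6219 F11829) (tt N10175 (iv F15116)) (tt N10250 (iv F15304)) (tt N6178 (iv D9696)) (tt N10350 D11269))
theorem Q8789 : ∀ i, i < 8789 → P i := stepQ 8788 Q8788 (allL N8788 (tt N6181 F11830) (tt N10176 (iv F15118)) (tt N8638 F11831) (tt N10351 D11270) (tt N6178 (iv D9697)))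
theorem Q8790 : ∀ i, i < 8790 → P i := stepQ 8789 Q8789 (allL N8789 (tt N6179 (iv D9698)) (tt N10177 (iv F15120)) (tt N8916 (iv F12073)) (tt N8916 (iv F12074)) (tt N9752 (iv F14025)))
theorem Q8791 : ∀ i, i < 8791 → P i := stepQ 8790 Q8790 (allL N8790 (tt N10225 (iv F15241)) (tt N6180 F11832) (tt N9043 (iv F12371)) (tt N6179 (iv D9699)) (tt N10352 D11271))
theorem Q8792 : ∀ i, i < 8792 → P i := stepQ 8791 Q8791 (allL N8791 (tt N9752 (iv F14024)) (tt N6181 F11833) (tt N8338 F11834) (tt N10349 (iv F15581)) (tt N6179 (iv D9700)))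
theorem Q8793 : ∀ i, i < 8793 → P i := stepQ 8792 Q8792 (allL N8792 (tt N9396 (iv F13205)) (tt N10352 (iv F15589)) (tt N9395 (iv F13203)) (tt N6437 F13107) (tt N6180 (iv D9701)))
theorem Q8794 : ∀ i, i < 8794 → P i := stepQ 8793 Q8793 (allL N8793 (tt N6212 F11835) (tt N10353 D11272) (tt N6182 (iv D9703)) (tt N10345 (iv F15570)) (tt N10354 D11273))
theorem Q8795 : ∀ i, i < 8795 → P i := stepQ 8794 Q8794 (allL N8794 (tt N6187 (iv D9704)) (tt N10355 D11274) (tt N9393 (iv F13200)) (tt N10343 (iv F15566)) (tt N6434 F11836))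
theorem Q8796 : ∀ i, i < 8796 → P i := stepQ 8795 Q8795 (allL N8795 (tt N9083 (iv F12465)) (tt N6195 F11837) (tt N9663 (iv F13814)) (tt N9662 F13811) (tt N6192 (iv D9705)))
theorem Q8797 : ∀ i, i < 8797 → P i := stepQ 8796 Q8796 (allL N8796 (tt N10249 (iv F15300)) (tt N8796 F11838) (tt N6208 F11839) (tt N9365 (iv F13126)) (tt N6193 (iv D9706)))
theorem Q8798 : ∀ i, i < 8798 → P i := stepQ 8797 Q8797 (allL N8797 (tt N10343 (iv F15565)) (tt N9667 (iv F13821)) (tt N9205 (iv F12786)) (tt N6199 F11840) (tt N6194 (iv D9707)))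
theorem Q8799 : ∀ i, i < 8799 → P i := stepQ 8798 Q8798 (allL N8798 (tt N10344 (iv F15567)) (tt N9662 (iv F13809)) (tt N9201 (iv F12773)) (tt N6195 (iv D9709)) (tt N6443 F11841))
theorem Q8800 : ∀ i, i < 8800 → P i := stepQ 8799 Q8799 (allL N8799 (tt N6196 (iv D9710)) (tt N10356 D11275) (tt N6204 F11842) (tt N9368 (iv F13133)) (tt N10357 D11276))
theorem Q8801 : ∀ i, i < 8801 → P i := stepQ 8800 Q8800 (allL N8800 (tt N10357 (iv F15600)) (tt N7523 F11843) (tt N6210 F11844) (tt N6198 (iv F11845)) (tt N6196 (iv D9711)))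
theorem Q8802 : ∀ i, i < 8802 → P i := stepQ 8801 Q8801 (allL N8801 (tt N6197 (iv D9712)) (tt N10358 D11277) (tt N6445 F11846) (tt N9366 (iv F13128)) (tt N10359 D11278))
theorem Q8803 : ∀ i, i < 8803 → P i := stepQ 8802 Q8802 (allL N8802 (tt N10359 (iv F15604)) (tt N7522 F11847) (tt N6217 F11848) (tt N6444 F11849) (tt N6197 (iv D9713)))
theorem Q8804 : ∀ i, i < 8804 → P i := stepQ 8803 Q8803 (allL N8803 (tt N9084 F12470) (tt N6199 (iv D9714)) (tt N9668 (iv F13826)) (tt N9667 F13823) (tt N6441 F11850))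
theorem Q8805 : ∀ i, i < 8805 → P i := stepQ 8804 Q8804 (allL N8804 (tt N9362 (iv F13114)) (tt N10360 D11279) (tt N6205 (iv D9716)) (tt N6219 F11851) (tt N10033 (iv F14724)))
theorem Q8806 : ∀ i, i < 8806 → P i := stepQ 8805 Q8805 (allL N8805 (tt N6206 (iv D9717)) (tt N10197 (iv F15166)) (tt N10249 (iv F15301)) (tt N6435 F11852) (tt N10351 (iv F15587)))
theorem Q8807 : ∀ i, i < 8807 → P i := stepQ 8806 Q8806 (allL N8806 (tt N10361 D11280) (tt N6206 (iv D9718)) (tt N9558 F13540) (tt N10362 D11281) (tt N10363 D11282))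
theorem Q8808 : ∀ i, i < 8808 → P i := stepQ 8807 Q8807 (allL N8807 (tt N9363 (iv F13116)) (tt N10362 (iv F15611)) (tt N6207 F11853) (tt N6206 (iv D9719)) (tt N10003 (iv F14648)))
theorem Q8809 : ∀ i, i < 8809 → P i := stepQ 8808 Q8808 (allL N8808 (tt N10351 (iv F15585)) (tt N10363 (iv F15614)) (tt N10357 (iv F15601)) (tt N10033 (iv F14725)) (tt N6206 (iv D9720)))
theorem Q8810 : ∀ i, i < 8810 → P i := stepQ 8809 Q8809 (allL N8809 (tt N6543 F11854) (tt N6208 (iv D9721)) (tt N7445 (iv F11855)) (tt N7444 F11856) (tt N10364 D11283))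
theorem Q8811 : ∀ i, i < 8811 → P i := stepQ 8810 Q8810 (allL N8810 (tt N10347 (iv F15574)) (tt N7444 F11857) (tt N9365 (iv F13127)) (tt N6208 (iv D9722)) (tt N10001 (iv F14642)))
theorem Q8812 : ∀ i, i < 8812 → P i := stepQ 8811 Q8811 (allL N8811 (tt N6210 F11858) (tt N10364 (iv F15617)) (tt N10032 (iv F14722)) (tt N10031 F14720) (tt N6208 (iv D9723)))
theorem Q8813 : ∀ i, i < 8813 → P i := stepQ 8812 Q8812 (allL N8812 (tt N7583 F11859) (tt N6213 F11860) (tt N7167 F11861) (tt N7141 F11862) (tt N6211 (iv D9724)))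
theorem Q8814 : ∀ i, i < 8814 → P i := stepQ 8813 Q8813 (allL N8813 (tt N10354 (iv F15594)) (tt N7152 F11863) (tt N9397 (iv F13211)) (tt N6448 F11864) (tt N6212 (iv D9725)))
theorem Q8815 : ∀ i, i < 8815 → P i := stepQ 8814 Q8814 (allL N8814 (tt N10348 (iv F15576)) (tt N7141 F11865) (tt N9367 (iv F13131)) (tt N6213 (iv D9726)) (tt N6447 F11866))
theorem Q8816 : ∀ i, i < 8816 → P i := stepQ 8815 Q8815 (allL N8815 (tt N6540 F11867) (tt N6216 (iv D9727)) (tt N7443 F11868) (tt N7450 (iv F11869)) (tt N10365 D11284))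
theorem Q8817 : ∀ i, i < 8817 → P i := stepQ 8816 Q8816 (allL N8816 (tt N10250 (iv F15303)) (tt N8816 F11870) (tt N6216 (iv D9728)) (tt N9361 (iv F13111)) (tt N6442 F11871))
theorem Q8818 : ∀ i, i < 8818 → P i := stepQ 8817 Q8817 (allL N8817 (tt N10345 (iv F15569)) (tt N7450 F11872) (tt N9361 F13110) (tt N6216 (iv D9729)) (tt N10031 (iv F14718)))
theorem Q8819 : ∀ i, i < 8819 → P i := stepQ 8818 Q8818 (allL N8818 (tt N6217 F11873) (tt N10365 (iv F15621)) (tt N10002 (iv F14646)) (tt N10001 F14644) (tt N6216 (iv D9730)))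
theorem Q8820 : ∀ i, i < 8820 → P i := stepQ 8819 Q8819 (allL N8819 (tt N8883 (iv F12018)) (tt N6219 (iv D9731)) (tt N9548 (iv F13517)) (tt N10360 (iv F15607)) (tt N10366 D11285))
theorem Q8821 : ∀ i, i < 8821 → P i := stepQ 8820 Q8820 (allL N8820 (tt N10350 (iv F15582)) (tt N10366 (iv F15625)) (tt N10359 (iv F15605)) (tt N10003 (iv F14649)) (tt N6219 (iv D9732)))
theorem Q8822 : ∀ i, i < 8822 → P i := stepQ 8821 Q8821 (allL N8821 (tt N7950 F11874) (tt N6227 F11875) (tt N9981 (iv F14586)) (tt N6367 F11876) (tt N6223 (iv D9733)))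
theorem Q8823 : ∀ i, i < 8823 → P i := stepQ 8822 Q8822 (allL N8822 (tt N6269 F11877) (tt N7014 F11878) (tt N6278 F11880) (tt N6368 F11879) (tt N6225 (iv D9734)))
theorem Q8824 : ∀ i, i < 8824 → P i := stepQ 8823 Q8823 (allL N8823 (tt N6229 (iv D9735)) (tt N6952 F11881) (tt N6951 F11882) (tt N6951 F11883) (tt N8281 F11884))
theorem Q8825 : ∀ i, i < 8825 → P i := stepQ 8824 Q8824 (allL N8824 (tt N6232 (iv D9736)) (tt N6991 (iv F11888)) (tt N8280 F11887) (tt N6987 F11885) (tt N6421 F11886))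
theorem Q8826 : ∀ i, i < 8826 → P i := stepQ 8825 Q8825 (allL N8825 (tt N6235 (iv D9737)) (tt N6830 (iv F11892)) (tt N6240 F11889) (tt N6374 F11890) (tt N6828 F11891))
theorem Q8827 : ∀ i, i < 8827 → P i := stepQ 8826 Q8826 (allL N8826 (tt N9464 (iv F13339)) (tt N6235 (iv D9738)) (tt N8994 (iv F12273)) (tt N6415 F11893) (tt N9463 (iv F13338)))
theorem Q8828 : ∀ i, i < 8828 → P i := stepQ 8827 Q8827 (allL N8827 (tt N6236 (iv D9739)) (tt N8778 F11894) (tt N9802 (iv F14146)) (tt N10367 D11286) (tt N7430 F11895))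
theorem Q8829 : ∀ i, i < 8829 → P i := stepQ 8828 Q8828 (allL N8828 (tt N9461 (iv F13329)) (tt N7585 F11896) (tt N6236 (iv D9740)) (tt N9002 (iv F12291)) (tt N8251 F11897))
theorem Q8830 : ∀ i, i < 8830 → P i := stepQ 8829 Q8829 (allL N8829 (tt N9478 (iv F13379)) (tt N6237 F11898) (tt N9002 (iv F12290)) (tt N6236 (iv D9741)) (tt N9477 (iv F13378)))
theorem Q8831 : ∀ i, i < 8831 → P i := stepQ 8830 Q8830 (allL N8830 (tt N6237 (iv D9742)) (tt N6872 (iv F11902)) (tt N6264 F11899) (tt N6379 F11900) (tt N6870 F11901))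
theorem Q8832 : ∀ i, i < 8832 → P i := stepQ 8831 Q8831 (allL N8831 (tt N6243 (iv D9743)) (tt N9375 (iv F13152)) (tt N9377 (iv F13161)) (tt N9377 (iv F13162)) (tt N6755 F11903))
theorem Q8833 : ∀ i, i < 8833 → P i := stepQ 8832 Q8832 (allL N8832 (tt N6755 F11904) (tt N6244 F11905) (tt N8285 F11906) (tt N6250 (iv F11907)) (tt N6243 (iv D9744)))
theorem Q8834 : ∀ i, i < 8834 → P i := stepQ 8833 Q8833 (allL N8833 (tt N6280 F11908) (tt N6660 F11909) (tt N6653 F11910) (tt N6246 (iv D9745)) (tt N6278 F11911))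
theorem Q8835 : ∀ i, i < 8835 → P i := stepQ 8834 Q8834 (allL N8834 (tt N7996 F11912) (tt N6247 (iv D9746)) (tt N10177 (iv F15121)) (tt N7673 F11913) (tt N7669 F11914))
theorem Q8836 : ∀ i, i < 8836 → P i := stepQ 8835 Q8835 (allL N8835 (tt N6249 (iv D9747)) (tt N9378 (iv F13164)) (tt N9392 (iv F13198)) (tt N9392 (iv F13199)) (tt N6778 F11915))
theorem Q8837 : ∀ i, i < 8837 → P i := stepQ 8836 Q8836 (allL N8836 (tt N6778 F11916) (tt N6252 F11917) (tt N8290 F11918) (tt N6426 F11919) (tt N6249 (iv D9748)))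
theorem Q8838 : ∀ i, i < 8838 → P i := stepQ 8837 Q8837 (allL N8837 (tt N10322 (iv F15510)) (tt N8602 F11920) (tt N10368 D11287) (tt N6407 F11921) (tt N6254 (iv D9749)))
theorem Q8839 : ∀ i, i < 8839 → P i := stepQ 8838 Q8838 (allL N8838 (tt N10278 (iv F15380)) (tt N8589 (iv F11923)) (tt N6255 (iv D9750)) (tt N10369 D11288) (tt N8295 F11922))
theorem Q8840 : ∀ i, i < 8840 → P i := stepQ 8839 Q8839 (allL N8839 (tt N10321 (iv F15507)) (tt N8597 F11924) (tt N10369 (iv F15635)) (tt N6255 (iv D9751)) (tt N6406 F11925))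
theorem Q8841 : ∀ i, i < 8841 → P i := stepQ 8840 Q8840 (allL N8840 (tt N6256 (iv D9752)) (tt N7684 F11926) (tt N9075 (iv F12450)) (tt N8632 F11928) (tt N8314 F11927))
theorem Q8842 : ∀ i, i < 8842 → P i := stepQ 8841 Q8841 (allL N8841 (tt N10370 D11289) (tt N6507 F11929) (tt N6257 (iv D9753)) (tt N6410 F11930) (tt N8303 F11931))
theorem Q8843 : ∀ i, i < 8843 → P i := stepQ 8842 Q8842 (allL N8842 (tt N10371 D11290) (tt N6518 F11932) (tt N6259 F11933) (tt N6258 (iv D9754)) (tt N8302 F11934))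
theorem Q8844 : ∀ i, i < 8844 → P i := stepQ 8843 Q8843 (allL N8843 (tt N10372 D11291) (tt N6270 (iv D9755)) (tt N10373 D11292) (tt N6375 F11935) (tt N9625 (iv F13703)))
theorem Q8845 : ∀ i, i < 8845 → P i := stepQ 8844 Q8844 (allL N8844 (tt N8012 F11938) (tt N6278 (iv D9756)) (tt N10056 (iv F14786)) (tt N6423 F11936) (tt N6660 F11937))
theorem Q8846 : ∀ i, i < 8846 → P i := stepQ 8845 Q8845 (allL N8845 (tt N6279 (iv D9757)) (tt N9382 (iv F13172)) (tt N8845 F11939) (tt N9144 (iv F12632)) (tt N9142 F12625))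
theorem Q8847 : ∀ i, i < 8847 → P i := stepQ 8846 Q8846 (allL N8846 (tt N7308 (iv F11943)) (tt N6502 F11940) (tt N6279 (iv D9758)) (tt N6389 F11941) (tt N7307 F11942))
theorem Q8848 : ∀ i, i < 8848 → P i := stepQ 8847 Q8847 (allL N8847 (tt N9142 (iv F12624)) (tt N6280 F11944) (tt N8176 F11945) (tt N6395 F11946) (tt N6279 (iv D9759)))
theorem Q8849 : ∀ i, i < 8849 → P i := stepQ 8848 Q8848 (allL N8848 (tt N6293 F11947) (tt N9433 (iv F13268)) (tt N6285 (iv D9760)) (tt N6304 F11948) (tt N10374 D11293))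
theorem Q8850 : ∀ i, i < 8850 → P i := stepQ 8849 Q8849 (allL N8849 (tt N6290 F11950) (tt N10375 D11294) (tt N6286 (iv D9761)) (tt N6906 F11949) (tt N6331 (iv F11951)))
theorem Q8851 : ∀ i, i < 8851 → P i := stepQ 8850 Q8850 (allL N8850 (tt N6287 (iv D9762)) (tt N8508 F11955) (tt N7014 F11953) (tt N6351 F11952) (tt N9982 (iv F14589)))
theorem Q8852 : ∀ i, i < 8852 → P i := stepQ 8851 Q8851 (allL N8851 (tt N10376 D11295) (tt N6287 (iv D9763)) (tt N9413 (iv F13238)) (tt N6316 F11956) (tt N10377 D11296))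
theorem Q8853 : ∀ i, i < 8853 → P i := stepQ 8852 Q8852 (allL N8852 (tt N9982 (iv F14590)) (tt N10377 (iv F15660)) (tt N10374 (iv F15652)) (tt N6323 F11957) (tt N6287 (iv D9764)))
theorem Q8854 : ∀ i, i < 8854 → P i := stepQ 8853 Q8853 (allL N8853 (tt N7602 F11958) (tt N6290 F11959) (tt N7722 F11960) (tt N6288 (iv D9765)) (tt N6328 F11961))
theorem Q8855 : ∀ i, i < 8855 → P i := stepQ 8854 Q8854 (allL N8854 (tt N9090 (iv F12484)) (tt N6291 F11962) (tt N7175 F11964) (tt N6327 F11963) (tt N6288 (iv D9766)))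
theorem Q8856 : ∀ i, i < 8856 → P i := stepQ 8855 Q8855 (allL N8855 (tt N8604 F11967) (tt N8855 F11965) (tt N6290 F11966) (tt N6289 (iv D9767)) (tt N6330 F11968))
theorem Q8857 : ∀ i, i < 8857 → P i := stepQ 8856 Q8856 (allL N8856 (tt N7014 F11969) (tt N8856 F11970) (tt N6294 F11972) (tt N6329 F11971) (tt N6289 (iv D9768)))
theorem Q8858 : ∀ i, i < 8858 → P i := stepQ 8857 Q8857 (allL N8857 (tt N10374 (iv F15650)) (tt N7525 F11973) (tt N6296 F11974) (tt N6344 F11975) (tt N6293 (iv D9769)))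
theorem Q8859 : ∀ i, i < 8859 → P i := stepQ 8858 Q8858 (allL N8858 (tt N6296 F11976) (tt N9448 (iv F13293)) (tt N9897 (iv F14363)) (tt N6358 F11977) (tt N6294 (iv D9770)))
theorem Q8860 : ∀ i, i < 8860 → P i := stepQ 8859 Q8859 (allL N8859 (tt N8730 F11979) (tt N6301 (iv D9771)) (tt N8715 F11978) (tt N8949 (iv F12156)) (tt N10378 D11297))
theorem Q8861 : ∀ i, i < 8861 → P i := stepQ 8860 Q8860 (allL N8860 (tt N6335 F11980) (tt N8949 (iv F12154)) (tt N6302 F11981) (tt N6301 (iv D9772)) (tt N10379 D11298))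
theorem Q8862 : ∀ i, i < 8862 → P i := stepQ 8861 Q8861 (allL N8861 (tt N6329 F11982) (tt N10378 (iv F15664)) (tt N6315 F11983) (tt N10380 D11299) (tt N6301 (iv D9773)))
theorem Q8863 : ∀ i, i < 8863 → P i := stepQ 8862 Q8862 (allL N8862 (tt N6348 F11984) (tt N6642 F11985) (tt N9285 (iv F12940)) (tt N6307 F11986) (tt N6302 (iv D9774)))
theorem Q8864 : ∀ i, i < 8864 → P i := stepQ 8863 Q8863 (allL N8863 (tt N6349 F11987) (tt N6575 F11988) (tt N9203 (iv F12780)) (tt N6303 (iv D9775)) (tt N6574 F11989))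
theorem Q8865 : ∀ i, i < 8865 → P i := stepQ 8864 Q8864 (allL N8864 (tt N6304 (iv D9776)) (tt N9227 (iv F12835)) (tt N6311 F11990) (tt N9225 F12833) (tt N10381 D11300))
theorem Q8866 : ∀ i, i < 8866 → P i := stepQ 8865 Q8865 (allL N8865 (tt N10381 (iv F15675)) (tt N8924 (iv F12093)) (tt N6317 F11991) (tt N6306 F11992) (tt N6304 (iv D9777)))
theorem Q8867 : ∀ i, i < 8867 → P i := stepQ 8866 Q8866 (allL N8866 (tt N6305 (iv D9778)) (tt N9277 (iv F12926)) (tt N6331 F11993) (tt N9275 F12924) (tt N10382 D11301))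
theorem Q8868 : ∀ i, i < 8868 → P i := stepQ 8867 Q8867 (allL N8867 (tt N10382 (iv F15677)) (tt N9438 (iv F13282)) (tt N6323 F11994) (tt N10374 (iv F15653)) (tt N6305 (iv D9779)))
theorem Q8869 : ∀ i, i < 8869 → P i := stepQ 8868 Q8868 (allL N8868 (tt N6309 (iv D9780)) (tt N9783 (iv F14103)) (tt N8931 F12114) (tt N8930 (iv F12115)) (tt N10383 D11302))
theorem Q8870 : ∀ i, i < 8870 → P i := stepQ 8869 Q8869 (allL N8869 (tt N9338 (iv F13060)) (tt N7220 F11995) (tt N6309 (iv D9781)) (tt N7219 (iv F11996)) (tt N9867 (iv F14300)))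
theorem Q8871 : ∀ i, i < 8871 → P i := stepQ 8870 Q8870 (allL N8870 (tt N7034 (iv F11999)) (tt N6310 F11997) (tt N7219 F11998) (tt N6309 (iv D9782)) (tt N9187 (iv F12726)))
theorem Q8872 : ∀ i, i < 8872 → P i := stepQ 8871 Q8871 (allL N8871 (tt N10383 (iv F15679)) (tt N6311 F12000) (tt N9508 (iv F13436)) (tt N9179 (iv F12709)) (tt N6309 (iv D9783)))
theorem Q8873 : ∀ i, i < 8873 → P i := stepQ 8872 Q8872 (allL N8872 (tt N6337 F12001) (tt N9187 F12728) (tt N9275 (iv F12923)) (tt N6331 F12002) (tt N6310 (iv D9784)))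
theorem Q8874 : ∀ i, i < 8874 → P i := stepQ 8873 Q8873 (allL N8873 (tt N6339 F12003) (tt N9179 F12708) (tt N9225 (iv F12832)) (tt N6311 (iv D9785)) (tt N6906 F12004))
theorem Q8875 : ∀ i, i < 8875 → P i := stepQ 8874 Q8874 (allL N8874 (tt N6361 F12006) (tt N10384 D11303) (tt N6312 (iv D9786)) (tt N6325 F12005) (tt N10385 D11304))
theorem Q8876 : ∀ i, i < 8876 → P i := stepQ 8875 Q8875 (allL N8875 (tt N10386 D11305) (tt N6313 (iv D9787)) (tt N9860 (iv F14280)) (tt N10387 D11306) (tt N9859 F14279))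
theorem Q8877 : ∀ i, i < 8877 → P i := stepQ 8876 Q8876 (allL N8876 (tt N6356 F12007) (tt N10387 (iv F15690)) (tt N6314 F12008) (tt N6313 (iv D9788)) (tt N10388 D11307))
theorem Q8878 : ∀ i, i < 8878 → P i := stepQ 8877 Q8877 (allL N8877 (tt N6359 F12009) (tt N9859 (iv F14278)) (tt N10381 (iv F15676)) (tt N10385 (iv F15688)) (tt N6313 (iv D9789)))
theorem Q8879 : ∀ i, i < 8879 → P i := stepQ 8878 Q8878 (allL N8878 (tt N8442 (iv F12363)) (tt N6315 (iv D9790)) (tt N9870 (iv F14307)) (tt N9035 F12362) (tt N10389 D11308))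
theorem Q8880 : ∀ i, i < 8880 → P i := stepQ 8879 Q8879 (allL N8879 (tt N6353 F12010) (tt N9035 (iv F12361)) (tt N10380 (iv F15673)) (tt N6315 (iv D9791)) (tt N10390 D11309))
theorem Q8881 : ∀ i, i < 8881 → P i := stepQ 8880 Q8880 (allL N8880 (tt N6317 F12011) (tt N10389 (iv F15698)) (tt N9896 (iv F14360)) (tt N10391 D11310) (tt N6315 (iv D9792)))
theorem Q8882 : ∀ i, i < 8882 → P i := stepQ 8881 Q8881 (allL N8881 (tt N6316 (iv D9793)) (tt N10392 D11311) (tt N8881 F12012) (tt N10393 D11312) (tt N9874 (iv F14313)))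
theorem Q8883 : ∀ i, i < 8883 → P i := stepQ 8882 Q8882 (allL N8882 (tt N9874 (iv F14312)) (tt N6317 F12013) (tt N7850 F12014) (tt N6321 (iv F12015)) (tt N6316 (iv D9794)))
theorem Q8884 : ∀ i, i < 8884 → P i := stepQ 8883 Q8883 (allL N8883 (tt N8819 F12018) (tt N8527 F12016) (tt N8883 F12017) (tt N6319 (iv D9795)) (tt N9129 F12585))
theorem Q8885 : ∀ i, i < 8885 → P i := stepQ 8884 Q8884 (allL N8884 (tt N6320 (iv D9796)) (tt N10394 D11313) (tt N8884 F12019) (tt N10395 D11314) (tt N9882 (iv F14328)))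
theorem Q8886 : ∀ i, i < 8886 → P i := stepQ 8885 Q8885 (allL N8885 (tt N9882 (iv F14329)) (tt N6323 F12020) (tt N7855 F13278) (tt N10377 (iv F15662)) (tt N6320 (iv D9797)))
theorem Q8887 : ∀ i, i < 8887 → P i := stepQ 8886 Q8886 (allL N8886 (tt N8445 (iv F12367)) (tt N6322 (iv D9798)) (tt N9886 (iv F14337)) (tt N9039 F12366) (tt N10396 D11315))
theorem Q8888 : ∀ i, i < 8888 → P i := stepQ 8887 Q8887 (allL N8887 (tt N6330 F12021) (tt N10397 D11316) (tt N6322 (iv D9799)) (tt N10379 (iv F15670)) (tt N8604 F12022))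
theorem Q8889 : ∀ i, i < 8889 → P i := stepQ 8888 Q8888 (allL N8888 (tt N6350 F12023) (tt N9039 (iv F12365)) (tt N10379 (iv F15669)) (tt N6322 (iv D9800)) (tt N10391 (iv F15704)))
theorem Q8890 : ∀ i, i < 8890 → P i := stepQ 8889 Q8889 (allL N8889 (tt N6323 F12024) (tt N10396 (iv F15716)) (tt N9899 (iv F14368)) (tt N10390 (iv F15701)) (tt N6322 (iv D9801)))
theorem Q8891 : ∀ i, i < 8891 → P i := stepQ 8890 Q8890 (allL N8890 (tt N10398 D11317) (tt N6325 (iv D9802)) (tt N9900 (iv F14369)) (tt N10384 (iv F15684)) (tt N10399 D11318))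
theorem Q8892 : ∀ i, i < 8892 → P i := stepQ 8891 Q8891 (allL N8891 (tt N6358 F12025) (tt N10399 (iv F15722)) (tt N10382 (iv F15678)) (tt N10388 (iv F15696)) (tt N6325 (iv D9803)))
theorem Q8893 : ∀ i, i < 8893 → P i := stepQ 8892 Q8892 (allL N8892 (tt N9783 (iv F14102)) (tt N6326 (iv D9804)) (tt N7973 F12026) (tt N7761 F12027) (tt N9623 (iv F13697)))
theorem Q8894 : ∀ i, i < 8894 → P i := stepQ 8893 Q8893 (allL N8893 (tt N6327 F12028) (tt N9623 (iv F13696)) (tt N7731 F12029) (tt N7603 F12030) (tt N6326 (iv D9805)))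
theorem Q8895 : ∀ i, i < 8895 → P i := stepQ 8894 Q8894 (allL N8894 (tt N6328 (iv D9806)) (tt N9633 (iv F13726)) (tt N7735 F12031) (tt N7782 F12032) (tt N7602 F12033))
theorem Q8896 : ∀ i, i < 8896 → P i := stepQ 8895 Q8895 (allL N8895 (tt N10400 D11319) (tt N6331 (iv D9807)) (tt N9512 (iv F13444)) (tt N9187 (iv F12729)) (tt N10375 (iv F15656)))
theorem Q8897 : ∀ i, i < 8897 → P i := stepQ 8896 Q8896 (allL N8896 (tt N6334 F12034) (tt N9624 (iv F13698)) (tt N7770 F12035) (tt N9747 (iv F14011)) (tt N6332 (iv D9808)))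
theorem Q8898 : ∀ i, i < 8898 → P i := stepQ 8897 Q8897 (allL N8897 (tt N10379 (iv F15667)) (tt N7047 F12036) (tt N6361 F12037) (tt N6360 F12038) (tt N6335 (iv D9809)))
theorem Q8899 : ∀ i, i < 8899 → P i := stepQ 8898 Q8898 (allL N8898 (tt N10380 (iv F15671)) (tt N6968 F12039) (tt N6356 F12040) (tt N6336 (iv D9810)) (tt N6967 F12041))
theorem Q8900 : ∀ i, i < 8900 → P i := stepQ 8899 Q8899 (allL N8899 (tt N10401 D11320) (tt N6340 (iv D9811)) (tt N7160 F12042) (tt N7159 (iv F12043)) (tt N10094 (iv F14900)))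
theorem Q8901 : ∀ i, i < 8901 → P i := stepQ 8900 Q8900 (allL N8900 (tt N9225 (iv F12831)) (tt N7159 F12044) (tt N6349 F12045) (tt N6340 (iv D9812)) (tt N10402 D11321))
theorem Q8902 : ∀ i, i < 8902 → P i := stepQ 8901 Q8901 (allL N8901 (tt N6342 F12046) (tt N10094 (iv F14898)) (tt N6354 F12047) (tt N10403 D11322) (tt N6340 (iv D9813)))
theorem Q8903 : ∀ i, i < 8903 → P i := stepQ 8902 Q8902 (allL N8902 (tt N10258 (iv F15320)) (tt N6343 (iv D9814)) (tt N7156 F12048) (tt N7192 (iv F12049)) (tt N10092 (iv F14893)))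
theorem Q8904 : ∀ i, i < 8904 → P i := stepQ 8903 Q8903 (allL N8903 (tt N9275 (iv F12922)) (tt N7192 F12050) (tt N6348 F12051) (tt N6343 (iv D9815)) (tt N10403 (iv F15738)))
theorem Q8905 : ∀ i, i < 8905 → P i := stepQ 8904 Q8904 (allL N8904 (tt N6344 F12052) (tt N10092 (iv F14891)) (tt N6364 F12053) (tt N10402 (iv F15735)) (tt N6343 (iv D9816)))
theorem Q8906 : ∀ i, i < 8906 → P i := stepQ 8905 Q8905 (allL N8905 (tt N6345 (iv D9817)) (tt N9634 (iv F13727)) (tt N7687 F12054) (tt N9744 (iv F14002)) (tt N7577 F12055))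
theorem Q8907 : ∀ i, i < 8907 → P i := stepQ 8906 Q8906 (allL N8906 (tt N10404 D11323) (tt N6350 (iv D9818)) (tt N7147 F12056) (tt N6363 F12057) (tt N10405 D11324))
theorem Q8908 : ∀ i, i < 8908 → P i := stepQ 8907 Q8907 (allL N8907 (tt N10391 (iv F15702)) (tt N10405 (iv F15744)) (tt N10403 (iv F15737)) (tt N6354 F12058) (tt N6350 (iv D9819)))
theorem Q8909 : ∀ i, i < 8909 → P i := stepQ 8908 Q8908 (allL N8908 (tt N6352 (iv D9820)) (tt N8545 F12059) (tt N8962 (iv F12189)) (tt N8962 (iv F12190)) (tt N9833 (iv F14217)))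
theorem Q8910 : ∀ i, i < 8910 → P i := stepQ 8909 Q8909 (allL N8909 (tt N9599 (iv F13628)) (tt N7144 F12060) (tt N6352 (iv D9821)) (tt N7143 (iv F12062)) (tt N7941 F12061))
theorem Q8911 : ∀ i, i < 8911 → P i := stepQ 8910 Q8910 (allL N8910 (tt N10406 D11325) (tt N6353 F12063) (tt N7143 F12064) (tt N6352 (iv D9822)) (tt N10407 D11326))
theorem Q8912 : ∀ i, i < 8912 → P i := stepQ 8911 Q8911 (allL N8911 (tt N9833 (iv F14214)) (tt N6354 F12065) (tt N7940 F12066) (tt N10405 (iv F15746)) (tt N6352 (iv D9823)))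
theorem Q8913 : ∀ i, i < 8913 → P i := stepQ 8912 Q8912 (allL N8912 (tt N10390 (iv F15699)) (tt N10407 (iv F15752)) (tt N10402 (iv F15734)) (tt N6364 F12067) (tt N6353 (iv D9824)))
theorem Q8914 : ∀ i, i < 8914 → P i := stepQ 8913 Q8913 (allL N8913 (tt N6355 (iv D9825)) (tt N9612 (iv F13665)) (tt N7594 F12068) (tt N7593 F12069) (tt N9610 F13663))
theorem Q8915 : ∀ i, i < 8915 → P i := stepQ 8914 Q8914 (allL N8914 (tt N10388 (iv F15694)) (tt N9020 (iv F12328)) (tt N9204 (iv F12782)) (tt N6362 F12070) (tt N6356 (iv D9826)))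
theorem Q8916 : ∀ i, i < 8916 → P i := stepQ 8915 Q8915 (allL N8915 (tt N10385 (iv F15686)) (tt N9045 (iv F12376)) (tt N9286 (iv F12943)) (tt N6357 (iv D9827)) (tt N6361 F12071))
theorem Q8917 : ∀ i, i < 8917 → P i := stepQ 8916 Q8916 (allL N8916 (tt N6363 (iv D9828)) (tt N8487 F12072) (tt N8789 F12073) (tt N8789 F12074) (tt N9790 (iv F14122)))
theorem Q8918 : ∀ i, i < 8918 → P i := stepQ 8917 Q8917 (allL N8917 (tt N9600 (iv F13632)) (tt N7148 F12075) (tt N6363 (iv D9829)) (tt N7147 F12076) (tt N7918 F12077))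
theorem Q8919 : ∀ i, i < 8919 → P i := stepQ 8918 Q8918 (allL N8918 (tt N9790 (iv F14120)) (tt N6364 F12078) (tt N7915 F12079) (tt N10407 (iv F15754)) (tt N6363 (iv D9830)))
theorem Q8920 : ∀ i, i < 8920 → P i := stepQ 8919 Q8919 (allL N8919 (tt N6443 F12080) (tt N10408 D11327) (tt N6366 (iv D9831)) (tt N6434 F12081) (tt N10344 (iv F15568)))
theorem Q8921 : ∀ i, i < 8921 → P i := stepQ 8920 Q8920 (allL N8920 (tt N7757 F12082) (tt N9338 (iv F13061)) (tt N8920 F12083) (tt N6370 (iv D9832)) (tt N8097 F12084))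
theorem Q8922 : ∀ i, i < 8922 → P i := stepQ 8921 Q8921 (allL N8921 (tt N10409 D11328) (tt N6374 (iv D9833)) (tt N10008 (iv F14660)) (tt N6830 F12085) (tt N6871 F12086))
theorem Q8923 : ∀ i, i < 8923 → P i := stepQ 8922 Q8922 (allL N8922 (tt N6375 (iv D9834)) (tt N10410 D11329) (tt N8117 F12092) (tt N10411 D11330) (tt N9629 (iv F13716)))
theorem Q8924 : ∀ i, i < 8924 → P i := stepQ 8923 Q8923 (allL N8923 (tt N8114 (iv F12089)) (tt N6495 F12087) (tt N6375 (iv D9835)) (tt N10373 (iv F15648)) (tt N7111 F12088))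
theorem Q8925 : ∀ i, i < 8925 → P i := stepQ 8924 Q8924 (allL N8924 (tt N10412 D11331) (tt N8865 F12093) (tt N8123 F12094) (tt N6376 (iv D9836)) (tt N7104 (iv F12095)))
theorem Q8926 : ∀ i, i < 8926 → P i := stepQ 8925 Q8925 (allL N8925 (tt N8127 F12098) (tt N6497 F12096) (tt N6378 F12097) (tt N6377 (iv D9837)) (tt N8130 (iv F12109)))
theorem Q8927 : ∀ i, i < 8927 → P i := stepQ 8926 Q8926 (allL N8926 (tt N6378 (iv D9838)) (tt N10413 D11332) (tt N8124 F12101) (tt N10414 D11333) (tt N9670 (iv F13831)))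
theorem Q8928 : ∀ i, i < 8928 → P i := stepQ 8927 Q8927 (allL N8927 (tt N9670 (iv F13830)) (tt N6380 F12102) (tt N8125 F12111) (tt N9625 (iv F13702)) (tt N6378 (iv D9839)))
theorem Q8929 : ∀ i, i < 8929 → P i := stepQ 8928 Q8928 (allL N8928 (tt N10415 D11334) (tt N6379 (iv D9840)) (tt N10023 (iv F14695)) (tt N6872 F12103) (tt N6829 (iv F12104)))
theorem Q8930 : ∀ i, i < 8930 → P i := stepQ 8929 Q8929 (allL N8929 (tt N6380 F12105) (tt N6829 F12106) (tt N6401 F12107) (tt N6828 F12108) (tt N6379 (iv D9841)))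
theorem Q8931 : ∀ i, i < 8931 → P i := stepQ 8930 Q8930 (allL N8930 (tt N10408 (iv F15755)) (tt N7658 F12116) (tt N6383 (iv D9842)) (tt N8868 F12115) (tt N9770 (iv F14075)))
theorem Q8932 : ∀ i, i < 8932 → P i := stepQ 8931 Q8931 (allL N8931 (tt N8595 F12112) (tt N7659 F12113) (tt N8868 (iv F12114)) (tt N6383 (iv D9843)) (tt N10416 D11335))
theorem Q8933 : ∀ i, i < 8933 → P i := stepQ 8932 Q8932 (allL N8932 (tt N6384 F12117) (tt N7660 F12118) (tt N9758 (iv F14043)) (tt N10417 D11336) (tt N6383 (iv D9844)))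
theorem Q8934 : ∀ i, i < 8934 → P i := stepQ 8933 Q8933 (allL N8933 (tt N6385 (iv D9845)) (tt N9736 (iv F13978)) (tt N10037 (iv F14730)) (tt N10418 D11337) (tt N6933 F12119))
theorem Q8935 : ∀ i, i < 8935 → P i := stepQ 8934 Q8934 (allL N8934 (tt N10158 (iv F15076)) (tt N6388 (iv D9846)) (tt N10211 (iv F15202)) (tt N10419 D11338) (tt N7656 F12120))
theorem Q8936 : ∀ i, i < 8936 → P i := stepQ 8935 Q8935 (allL N8935 (tt N10314 (iv F15488)) (tt N10419 (iv F15790)) (tt N8935 F12121) (tt N6388 (iv D9847)) (tt N10051 F14772))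
theorem Q8937 : ∀ i, i < 8937 → P i := stepQ 8936 Q8936 (allL N8936 (tt N6389 (iv D9848)) (tt N9328 (iv F13037)) (tt N8936 F12122) (tt N10420 D11339) (tt N7312 F12123))
theorem Q8938 : ∀ i, i < 8938 → P i := stepQ 8937 Q8937 (allL N8937 (tt N6393 (iv D9849)) (tt N9335 (iv F13055)) (tt N8937 F12124) (tt N10421 D11340) (tt N8189 F12125))
theorem Q8939 : ∀ i, i < 8939 → P i := stepQ 8938 Q8938 (allL N8938 (tt N10159 F15083) (tt N6394 (iv D9850)) (tt N10213 (iv F15208)) (tt N10422 D11341) (tt N7682 F12126))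
theorem Q8940 : ∀ i, i < 8940 → P i := stepQ 8939 Q8939 (allL N8939 (tt N10317 (iv F15495)) (tt N10422 (iv F15800)) (tt N8939 F12127) (tt N6394 (iv D9851)) (tt N10052 (iv F14775)))
theorem Q8941 : ∀ i, i < 8941 → P i := stepQ 8940 Q8940 (allL N8940 (tt N6400 (iv D9852)) (tt N9737 (iv F13980)) (tt N10071 (iv F14834)) (tt N10423 D11342) (tt N6937 F12128))
theorem Q8942 : ∀ i, i < 8942 → P i := stepQ 8941 Q8941 (allL N8941 (tt N8092 F12129) (tt N7515 (iv F12133)) (tt N6403 (iv D9853)) (tt N7511 F12130) (tt N7542 F12131))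
theorem Q8943 : ∀ i, i < 8943 → P i := stepQ 8942 Q8942 (allL N8942 (tt N8094 F12136) (tt N7513 (iv F12139)) (tt N6404 (iv D9854)) (tt N7543 F12137) (tt N7510 F12138))
theorem Q8944 : ∀ i, i < 8944 → P i := stepQ 8943 Q8943 (allL N8943 (tt N6405 (iv D9855)) (tt N7676 F12140) (tt N9766 (iv F14065)) (tt N10416 (iv F15781)) (tt N6959 F12141))
theorem Q8945 : ∀ i, i < 8945 → P i := stepQ 8944 Q8944 (allL N8944 (tt N10424 D11343) (tt N9720 (iv F13934)) (tt N6407 (iv D9856)) (tt N10368 (iv F15631)) (tt N8312 F12142))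
theorem Q8946 : ∀ i, i < 8946 → P i := stepQ 8945 Q8945 (allL N8945 (tt N6409 (iv D9857)) (tt N7741 F12143) (tt N9103 (iv F12519)) (tt N8628 F12145) (tt N8298 F12144))
theorem Q8947 : ∀ i, i < 8947 → P i := stepQ 8946 Q8946 (allL N8946 (tt N6410 (iv D9858)) (tt N9424 (iv F13259)) (tt N7983 F12147) (tt N9446 (iv F13289)) (tt N8315 F12146))
theorem Q8948 : ∀ i, i < 8948 → P i := stepQ 8947 Q8947 (allL N8947 (tt N7777 F12151) (tt N6410 (iv D9859)) (tt N6508 F12148) (tt N6507 F12149) (tt N7776 F12150))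
theorem Q8949 : ∀ i, i < 8949 → P i := stepQ 8948 Q8948 (allL N8948 (tt N6413 F12152) (tt N8958 (iv F12181)) (tt N6468 F12153) (tt N10326 (iv F15524)) (tt N6411 (iv D9860)))
theorem Q8950 : ∀ i, i < 8950 → P i := stepQ 8949 Q8949 (allL N8949 (tt N6412 (iv D9861)) (tt N8860 F12154) (tt N6465 F12155) (tt N8859 F12156) (tt N10335 (iv F15544)))
theorem Q8951 : ∀ i, i < 8951 → P i := stepQ 8950 Q8950 (allL N8950 (tt N6414 (iv D9862)) (tt N9904 (iv F14378)) (tt N8637 F12157) (tt N8636 F12158) (tt N9631 (iv F13723)))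
theorem Q8952 : ∀ i, i < 8952 → P i := stepQ 8951 Q8951 (allL N8951 (tt N6415 (iv D9863)) (tt N8959 (iv F12184)) (tt N9831 (iv F14212)) (tt N10425 D11344) (tt N7551 F12159))
theorem Q8953 : ∀ i, i < 8953 → P i := stepQ 8952 Q8952 (allL N8952 (tt N9465 (iv F13340)) (tt N8995 (iv F12276)) (tt N6415 (iv D9864)) (tt N8994 F12274) (tt N8265 F12160))
theorem Q8954 : ∀ i, i < 8954 → P i := stepQ 8953 Q8953 (allL N8953 (tt N6419 (iv D9865)) (tt N7066 F12161) (tt N7065 F12162) (tt N7065 F12163) (tt N8282 F12164))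
theorem Q8955 : ∀ i, i < 8955 → P i := stepQ 8954 Q8954 (allL N8954 (tt N8039 F12165) (tt N6424 (iv D9866)) (tt N10231 (iv F15257)) (tt N7791 (iv F12166)) (tt N7672 F12167))
theorem Q8956 : ∀ i, i < 8956 → P i := stepQ 8955 Q8955 (allL N8955 (tt N6469 F12168) (tt N7791 F12170) (tt N6424 (iv D9867)) (tt N6424 (iv F12171)) (tt N7790 F12169))
theorem Q8957 : ∀ i, i < 8957 → P i := stepQ 8956 Q8956 (allL N8956 (tt N6426 F12172) (tt N7672 F12173) (tt N8288 F12174) (tt N7671 F12175) (tt N6424 (iv D9868)))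
theorem Q8958 : ∀ i, i < 8958 → P i := stepQ 8957 Q8957 (allL N8957 (tt N6428 (iv D9869)) (tt N7096 F12176) (tt N8040 F12179) (tt N7095 F12178) (tt N8270 F12177))
theorem Q8959 : ∀ i, i < 8959 → P i := stepQ 8958 Q8958 (allL N8958 (tt N6439 F12180) (tt N8948 F12181) (tt N6435 F12182) (tt N10249 (iv F15302)) (tt N6431 (iv D9870)))
theorem Q8960 : ∀ i, i < 8960 → P i := stepQ 8959 Q8959 (allL N8959 (tt N6444 F12183) (tt N8951 F12184) (tt N6437 F12185) (tt N9395 (iv F13204)) (tt N6433 (iv D9871)))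
theorem Q8961 : ∀ i, i < 8961 → P i := stepQ 8960 Q8960 (allL N8960 (tt N7036 F12186) (tt N6434 (iv D9872)) (tt N7064 F12187) (tt N10408 (iv F15757)) (tt N10355 (iv F15596)))
theorem Q8962 : ∀ i, i < 8962 → P i := stepQ 8961 Q8961 (allL N8961 (tt N6437 F12188) (tt N10235 (iv F15269)) (tt N9904 (iv F14379)) (tt N10350 (iv F15584)) (tt N6435 (iv D9873)))
theorem Q8963 : ∀ i, i < 8963 → P i := stepQ 8962 Q8962 (allL N8962 (tt N6436 (iv D9874)) (tt N10231 (iv F15256)) (tt N8908 F12189) (tt N8908 F12190) (tt N9917 (iv F14415)))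
theorem Q8964 : ∀ i, i < 8964 → P i := stepQ 8963 Q8963 (allL N8963 (tt N7359 (iv F12192)) (tt N8546 F12191) (tt N6436 (iv D9875)) (tt N9011 (iv F12306)) (tt N7356 F12193))
theorem Q8965 : ∀ i, i < 8965 → P i := stepQ 8964 Q8964 (allL N8964 (tt N9917 (iv F14412)) (tt N6437 F12194) (tt N8568 F12195) (tt N10352 (iv F15591)) (tt N6436 (iv D9876)))
theorem Q8966 : ∀ i, i < 8966 → P i := stepQ 8965 Q8965 (allL N8965 (tt N6446 (iv D9878)) (tt N9635 (iv F13730)) (tt N7083 F12196) (tt N7082 F12197) (tt N10426 D11345))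
theorem Q8967 : ∀ i, i < 8967 → P i := stepQ 8966 Q8966 (allL N8966 (tt N10426 (iv F15812)) (tt N6448 F12198) (tt N7166 F12199) (tt N7152 F12200) (tt N6446 (iv D9879)))
theorem Q8968 : ∀ i, i < 8968 → P i := stepQ 8967 Q8967 (allL N8967 (tt N6452 F12201) (tt N9936 (iv F14464)) (tt N6451 (iv D9880)) (tt N10028 (iv F14709)) (tt N9994 F14623))
theorem Q8969 : ∀ i, i < 8969 → P i := stepQ 8968 Q8968 (allL N8968 (tt N9791 (iv F14124)) (tt N8554 (iv F12203)) (tt N6454 (iv D9881)) (tt N10251 (iv F15306)) (tt N8553 F12202))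
theorem Q8970 : ∀ i, i < 8970 → P i := stepQ 8969 Q8969 (allL N8969 (tt N7269 F12204) (tt N7966 F12207) (tt N6464 (iv D9882)) (tt N7368 F12205) (tt N7419 F12206))
theorem Q8971 : ∀ i, i < 8971 → P i := stepQ 8970 Q8970 (allL N8970 (tt N10094 (iv F14897)) (tt N6466 (iv D9883)) (tt N9728 (iv F13955)) (tt N10329 (iv F15530)) (tt N10401 (iv F15732)))
theorem Q8972 : ∀ i, i < 8972 → P i := stepQ 8971 Q8971 (allL N8971 (tt N6473 F12208) (tt N10401 (iv F15730)) (tt N6470 F12209) (tt N10332 (iv F15535)) (tt N6466 (iv D9884)))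
theorem Q8973 : ∀ i, i < 8973 → P i := stepQ 8972 Q8972 (allL N8972 (tt N6470 F12210) (tt N7565 F12211) (tt N8273 F12212) (tt N10316 (iv F15493)) (tt N6468 (iv D9885)))
theorem Q8974 : ∀ i, i < 8974 → P i := stepQ 8973 Q8973 (allL N8973 (tt N7790 F12213) (tt N6470 F12214) (tt N7767 F12215) (tt N9391 (iv F13193)) (tt N6469 (iv D9886)))
theorem Q8975 : ∀ i, i < 8975 → P i := stepQ 8974 Q8974 (allL N8974 (tt N6719 F12218) (tt N6483 F12216) (tt N6706 F12217) (tt N6481 (iv D9888)) (tt N10427 D11346))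
theorem Q8976 : ∀ i, i < 8976 → P i := stepQ 8975 Q8975 (allL N8975 (tt N6746 F12221) (tt N6484 F12222) (tt N6681 F12223) (tt N10427 (iv F15819)) (tt N6482 (iv D9889)))
theorem Q8977 : ∀ i, i < 8977 → P i := stepQ 8976 Q8976 (allL N8976 (tt N7873 F12224) (tt N10427 (iv F15817)) (tt N6488 F12226) (tt N6484 F12225) (tt N6483 (iv D9890)))
theorem Q8978 : ∀ i, i < 8978 → P i := stepQ 8977 Q8977 (allL N8977 (tt N6485 (iv D9891)) (tt N9320 (iv F13019)) (tt N6525 F12227) (tt N9021 (iv F12333)) (tt N7003 F12228))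
theorem Q8979 : ∀ i, i < 8979 → P i := stepQ 8978 Q8978 (allL N8978 (tt N9587 (iv F13596)) (tt N6486 F12229) (tt N9959 (iv F14526)) (tt N6485 (iv D9892)) (tt N9586 F13595))
theorem Q8980 : ∀ i, i < 8980 → P i := stepQ 8979 Q8979 (allL N8979 (tt N9448 (iv F13292)) (tt N9586 (iv F13592)) (tt N9436 (iv F13280)) (tt N6490 F12230) (tt N6486 (iv D9893)))
theorem Q8981 : ∀ i, i < 8981 → P i := stepQ 8980 Q8980 (allL N8980 (tt N6489 (iv D9894)) (tt N9525 (iv F13473)) (tt N6528 F12231) (tt N9046 (iv F12379)) (tt N7039 (iv F12232)))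
theorem Q8982 : ∀ i, i < 8982 → P i := stepQ 8981 Q8981 (allL N8981 (tt N7039 F12233) (tt N6490 F12234) (tt N7018 F12235) (tt N9586 (iv F13594)) (tt N6489 (iv D9895)))
theorem Q8983 : ∀ i, i < 8983 → P i := stepQ 8982 Q8982 (allL N8982 (tt N10082 (iv F14861)) (tt N9618 (iv F13685)) (tt N6492 (iv D9896)) (tt N7568 F12236) (tt N9637 (iv F13740)))
theorem Q8984 : ∀ i, i < 8984 → P i := stepQ 8983 Q8983 (allL N8983 (tt N9008 (iv F12301)) (tt N6493 (iv D9897)) (tt N9040 (iv F12368)) (tt N7399 F12237) (tt N7397 (iv F12238)))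
theorem Q8985 : ∀ i, i < 8985 → P i := stepQ 8984 Q8984 (allL N8984 (tt N7406 F12239) (tt N7397 F12240) (tt N6861 F12241) (tt N7396 (iv F12242)) (tt N6493 (iv D9898)))
theorem Q8986 : ∀ i, i < 8986 → P i := stepQ 8985 Q8985 (allL N8985 (tt N6520 F12243) (tt N7483 F12244) (tt N7777 F12245) (tt N6494 (iv D9899)) (tt N7560 (iv F12246)))
theorem Q8987 : ∀ i, i < 8987 → P i := stepQ 8986 Q8986 (allL N8986 (tt N6511 F12248) (tt N10373 (iv F15647)) (tt N6496 F12247) (tt N6495 (iv D9900)) (tt N10428 D11347))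
theorem Q8988 : ∀ i, i < 8988 → P i := stepQ 8987 Q8987 (allL N8987 (tt N8206 F12249) (tt N7111 F12250) (tt N6503 F12251) (tt N6498 F12252) (tt N6495 (iv D9901)))
theorem Q8989 : ∀ i, i < 8989 → P i := stepQ 8988 Q8988 (allL N8988 (tt N9451 (iv F13300)) (tt N8083 F12253) (tt N6504 F12255) (tt N6500 F12254) (tt N6496 (iv D9902)))
theorem Q8990 : ∀ i, i < 8990 → P i := stepQ 8989 Q8989 (allL N8989 (tt N8211 F12256) (tt N8130 F12257) (tt N6506 F12258) (tt N10428 (iv F15823)) (tt N6497 (iv D9903)))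
theorem Q8991 : ∀ i, i < 8991 → P i := stepQ 8990 Q8990 (allL N8990 (tt N6500 F12259) (tt N7487 F12260) (tt N7441 F12262) (tt N7560 F12261) (tt N6499 (iv D9904)))
theorem Q8992 : ∀ i, i < 8992 → P i := stepQ 8991 Q8991 (allL N8991 (tt N6503 F12263) (tt N7494 F12264) (tt N7704 F12265) (tt N7440 F12266) (tt N6501 (iv D9905)))
theorem Q8993 : ∀ i, i < 8993 → P i := stepQ 8992 Q8992 (allL N8992 (tt N9452 (iv F13304)) (tt N7307 F12267) (tt N10428 (iv F15822)) (tt N6506 F12268) (tt N6502 (iv D9906)))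
theorem Q8994 : ∀ i, i < 8994 → P i := stepQ 8993 Q8993 (allL N8993 (tt N6506 F12269) (tt N7501 F12270) (tt N7700 F12271) (tt N7566 F12272) (tt N6505 (iv D9907)))
theorem Q8995 : ∀ i, i < 8995 → P i := stepQ 8994 Q8994 (allL N8994 (tt N9642 (iv F13754)) (tt N6509 (iv D9908)) (tt N8826 F12273) (tt N8952 (iv F12274)) (tt N9641 (iv F13753)))
theorem Q8996 : ∀ i, i < 8996 → P i := stepQ 8995 Q8995 (allL N8995 (tt N8205 F12275) (tt N8952 F12276) (tt N6520 F12277) (tt N6509 (iv D9909)) (tt N9727 (iv F13950)))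
theorem Q8997 : ∀ i, i < 8997 → P i := stepQ 8996 Q8996 (allL N8996 (tt N6512 F12278) (tt N9641 (iv F13750)) (tt N6523 F12279) (tt N9715 (iv F13922)) (tt N6509 (iv D9910)))
theorem Q8998 : ∀ i, i < 8998 → P i := stepQ 8997 Q8997 (allL N8997 (tt N6510 (iv D9911)) (tt N9015 (iv F12316)) (tt N9918 (iv F14416)) (tt N10429 D11348) (tt N6847 F12280))
theorem Q8999 : ∀ i, i < 8999 → P i := stepQ 8998 Q8998 (allL N8998 (tt N10430 D11349) (tt N6511 F12281) (tt N10217 (iv F15220)) (tt N6510 (iv D9912)) (tt N6846 F12282))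
theorem Q9000 : ∀ i, i < 9000 → P i := stepQ 8999 Q8999 (allL N8999 (tt N10428 (iv F15820)) (tt N6846 F12283) (tt N6527 F12284) (tt N6517 F12285) (tt N6511 (iv D9913)))
theorem Q9001 : ∀ i, i < 9001 → P i := stepQ 9000 Q9000 (allL N9000 (tt N6837 F12287) (tt N7110 F12286) (tt N9920 (iv F14422)) (tt N6514 (iv D9914)) (tt N6834 (iv F12288)))
theorem Q9002 : ∀ i, i < 9002 → P i := stepQ 9001 Q9001 (allL N9001 (tt N6515 (iv D9915)) (tt N9049 (iv F12386)) (tt N9922 (iv F14427)) (tt N10431 D11350) (tt N6865 F12289))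
theorem Q9003 : ∀ i, i < 9003 → P i := stepQ 9002 Q9002 (allL N9002 (tt N9650 (iv F13778)) (tt N6516 (iv D9916)) (tt N8829 F12290) (tt N8828 F12291) (tt N9649 (iv F13777)))
theorem Q9004 : ∀ i, i < 9004 → P i := stepQ 9003 Q9003 (allL N9003 (tt N6517 F12292) (tt N9649 (iv F13774)) (tt N6531 F12293) (tt N9727 (iv F13951)) (tt N6516 (iv D9917)))
theorem Q9005 : ∀ i, i < 9005 → P i := stepQ 9004 Q9004 (allL N9004 (tt N6521 (iv D9918)) (tt N9311 (iv F12998)) (tt N9316 (iv F13009)) (tt N9316 (iv F13010)) (tt N9310 F12997))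
theorem Q9006 : ∀ i, i < 9006 → P i := stepQ 9005 Q9005 (allL N9005 (tt N10333 (iv F15536)) (tt N6525 (iv D9919)) (tt N9155 (iv F12655)) (tt N6936 (iv F12295)) (tt N7012 F12294))
theorem Q9007 : ∀ i, i < 9007 → P i := stepQ 9006 Q9006 (allL N9006 (tt N6587 F12296) (tt N6936 F12297) (tt N9021 (iv F12332)) (tt N6525 (iv D9920)) (tt N6934 F12298))
theorem Q9008 : ∀ i, i < 9008 → P i := stepQ 9007 Q9007 (allL N9007 (tt N10336 (iv F15545)) (tt N6528 (iv D9921)) (tt N9173 (iv F12695)) (tt N7252 (iv F12300)) (tt N6935 F12299))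
theorem Q9009 : ∀ i, i < 9009 → P i := stepQ 9008 Q9008 (allL N9008 (tt N8983 F12301) (tt N7252 F12302) (tt N9046 (iv F12380)) (tt N6528 (iv D9922)) (tt N7013 F12303))
theorem Q9010 : ∀ i, i < 9010 → P i := stepQ 9009 Q9009 (allL N9009 (tt N6530 (iv D9923)) (tt N9318 (iv F13015)) (tt N9523 (iv F13470)) (tt N9523 (iv F13469)) (tt N9315 F13006))
theorem Q9011 : ∀ i, i < 9011 → P i := stepQ 9010 Q9010 (allL N9010 (tt N6533 (iv D9924)) (tt N10200 (iv F15172)) (tt N7138 F12304) (tt N10199 F15170) (tt N10432 D11351))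
theorem Q9012 : ∀ i, i < 9012 → P i := stepQ 9011 Q9011 (allL N9011 (tt N10433 D11352) (tt N6533 (iv D9925)) (tt N8785 F12305) (tt N8963 F12306) (tt N9598 F13627))
theorem Q9013 : ∀ i, i < 9013 → P i := stepQ 9012 Q9012 (allL N9012 (tt N10432 (iv F15831)) (tt N9598 (iv F13625)) (tt N7425 F12307) (tt N7422 F12308) (tt N6533 (iv D9926)))
theorem Q9014 : ∀ i, i < 9014 → P i := stepQ 9013 Q9013 (allL N9013 (tt N7254 F12311) (tt N9236 (iv F12852)) (tt N6536 (iv D9927)) (tt N7433 F12312) (tt N10434 D11353))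
theorem Q9015 : ∀ i, i < 9015 → P i := stepQ 9014 Q9014 (allL N9014 (tt N7265 F12313) (tt N9254 (iv F12883)) (tt N6538 F12314) (tt N6537 (iv D9928)) (tt N10435 D11354))
theorem Q9016 : ∀ i, i < 9016 → P i := stepQ 9015 Q9015 (allL N9015 (tt N7425 F12315) (tt N8997 F12316) (tt N6544 F12317) (tt N10434 (iv F15839)) (tt N6537 (iv D9929)))
theorem Q9017 : ∀ i, i < 9017 → P i := stepQ 9016 Q9016 (allL N9016 (tt N8356 F12318) (tt N9134 (iv F12599)) (tt N6546 (iv F12320)) (tt N6563 F12319) (tt N6538 (iv D9930)))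
theorem Q9018 : ∀ i, i < 9018 → P i := stepQ 9017 Q9017 (allL N9017 (tt N8615 F12321) (tt N9548 (iv F13516)) (tt N6539 (iv D9931)) (tt N7448 F12322) (tt N9546 F13514))
theorem Q9019 : ∀ i, i < 9019 → P i := stepQ 9018 Q9018 (allL N9018 (tt N7325 F12323) (tt N6540 (iv D9932)) (tt N9387 (iv F13183)) (tt N6561 F12324) (tt N7323 (iv F12325)))
theorem Q9020 : ∀ i, i < 9020 → P i := stepQ 9019 Q9019 (allL N9019 (tt N10365 (iv F15620)) (tt N7323 F12326) (tt N10434 (iv F15838)) (tt N6544 (iv F12331)) (tt N6540 (iv D9933)))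
theorem Q9021 : ∀ i, i < 9021 → P i := stepQ 9020 Q9020 (allL N9020 (tt N6544 F12327) (tt N8914 F12328) (tt N7462 F12329) (tt N7437 (iv F12330)) (tt N6541 (iv D9934)))
theorem Q9022 : ∀ i, i < 9022 → P i := stepQ 9021 Q9021 (allL N9021 (tt N6542 (iv D9935)) (tt N9155 (iv F12654)) (tt N9006 F12332) (tt N8977 F12333) (tt N9153 F12650))
theorem Q9023 : ∀ i, i < 9023 → P i := stepQ 9022 Q9022 (allL N9022 (tt N9375 (iv F13151)) (tt N6553 F12334) (tt N6542 (iv D9936)) (tt N9388 (iv F13188)) (tt N9216 (iv F12814)))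
theorem Q9024 : ∀ i, i < 9024 → P i := stepQ 9023 Q9023 (allL N9023 (tt N7329 F12336) (tt N6543 F12335) (tt N9388 (iv F13187)) (tt N6542 (iv D9937)) (tt N7328 (iv F12337)))
theorem Q9025 : ∀ i, i < 9025 → P i := stepQ 9024 Q9024 (allL N9024 (tt N9153 (iv F12649)) (tt N6544 F12338) (tt N9370 (iv F13139)) (tt N7323 (iv F12339)) (tt N6542 (iv D9938)))
theorem Q9026 : ∀ i, i < 9026 → P i := stepQ 9025 Q9025 (allL N9025 (tt N10364 (iv F15616)) (tt N7328 F12340) (tt N10435 (iv F15842)) (tt N6562 F12341) (tt N6543 (iv D9939)))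
theorem Q9027 : ∀ i, i < 9027 → P i := stepQ 9026 Q9026 (allL N9026 (tt N10199 (iv F15168)) (tt N9558 (iv F13539)) (tt N6545 (iv D9940)) (tt N7446 F12342) (tt N9556 F13537))
theorem Q9028 : ∀ i, i < 9028 → P i := stepQ 9027 Q9027 (allL N9027 (tt N6546 F12343) (tt N8043 F12344) (tt N7266 (iv F12346)) (tt N7473 F12345) (tt N6545 (iv D9941)))
theorem Q9029 : ∀ i, i < 9029 → P i := stepQ 9028 Q9028 (allL N9028 (tt N6808 F12347) (tt N6912 F12348) (tt N10436 D11355) (tt N7486 F12349) (tt N6547 (iv D9942)))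
theorem Q9030 : ∀ i, i < 9030 → P i := stepQ 9029 Q9029 (allL N9029 (tt N6809 F12350) (tt N6950 F12351) (tt N6548 (iv D9943)) (tt N7491 F12352) (tt N10437 D11356))
theorem Q9031 : ∀ i, i < 9031 → P i := stepQ 9030 Q9030 (allL N9030 (tt N10436 (iv F15844)) (tt N9247 (iv F12871)) (tt N6549 (iv D9944)) (tt N8392 F12353) (tt N10438 D11357))
theorem Q9032 : ∀ i, i < 9032 → P i := stepQ 9031 Q9031 (allL N9031 (tt N6812 F12354) (tt N9370 (iv F13138)) (tt N10438 (iv F15850)) (tt N8397 (iv F12355)) (tt N6550 (iv D9945)))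
theorem Q9033 : ∀ i, i < 9033 → P i := stepQ 9032 Q9032 (allL N9032 (tt N6905 F12356) (tt N6552 (iv D9946)) (tt N6902 F12359) (tt N8142 F12357) (tt N6895 F12358))
theorem Q9034 : ∀ i, i < 9034 → P i := stepQ 9033 Q9033 (allL N9033 (tt N9214 F12809) (tt N9313 (iv F13001)) (tt N6552 (iv D9947)) (tt N10157 (iv F15074)) (tt N9212 (iv F12810)))
theorem Q9035 : ∀ i, i < 9035 → P i := stepQ 9034 Q9034 (allL N9034 (tt N10200 (iv F15171)) (tt N10439 D11358) (tt N6554 (iv D9948)) (tt N10172 (iv F15111)) (tt N10440 D11359))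
theorem Q9036 : ∀ i, i < 9036 → P i := stepQ 9035 Q9035 (allL N9035 (tt N6555 (iv D9949)) (tt N8879 F12361) (tt N10441 D11360) (tt N8878 (iv F12362)) (tt N10442 D11361))
theorem Q9037 : ∀ i, i < 9037 → P i := stepQ 9036 Q9036 (allL N9036 (tt N10224 (iv F15238)) (tt N6555 (iv D9950)) (tt N6587 F12364) (tt N9627 (iv F13710)) (tt N10443 D11362))
theorem Q9038 : ∀ i, i < 9038 → P i := stepQ 9037 Q9037 (allL N9037 (tt N10442 (iv F15858)) (tt N10443 (iv F15865)) (tt N10444 D11363) (tt N10205 (iv F15862)) (tt N6555 (iv D9951)))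
theorem Q9039 : ∀ i, i < 9039 → P i := stepQ 9038 Q9038 (allL N9038 (tt N10204 (iv F15179)) (tt N10445 D11364) (tt N6556 (iv D9952)) (tt N10180 (iv F15126)) (tt N10446 D11365))
theorem Q9040 : ∀ i, i < 9040 → P i := stepQ 9039 Q9039 (allL N9039 (tt N6557 (iv D9953)) (tt N8888 F12365) (tt N10447 D11366) (tt N8886 (iv F12366)) (tt N10448 D11367))
theorem Q9041 : ∀ i, i < 9041 → P i := stepQ 9040 Q9040 (allL N9040 (tt N10226 (iv F15243)) (tt N6557 (iv D9954)) (tt N8983 F12368) (tt N9628 (iv F13714)) (tt N10449 D11368))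
theorem Q9042 : ∀ i, i < 9042 → P i := stepQ 9041 Q9041 (allL N9041 (tt N10448 (iv F15875)) (tt N10449 (iv F15880)) (tt N10450 D11369) (tt N10198 (iv F15863)) (tt N6557 (iv D9955)))
theorem Q9043 : ∀ i, i < 9043 → P i := stepQ 9042 Q9042 (allL N9042 (tt N6558 (iv D9956)) (tt N10204 (iv F15180)) (tt N7150 F12369) (tt N8615 F12370) (tt N10451 D11370))
theorem Q9044 : ∀ i, i < 9044 → P i := stepQ 9043 Q9043 (allL N9043 (tt N10452 D11371) (tt N6558 (iv D9957)) (tt N8790 F12371) (tt N7421 F12372) (tt N9607 (iv F13655)))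
theorem Q9045 : ∀ i, i < 9045 → P i := stepQ 9044 Q9044 (allL N9044 (tt N10451 (iv F15884)) (tt N9607 (iv F13653)) (tt N7434 F12373) (tt N7553 F12374) (tt N6558 (iv D9958)))
theorem Q9046 : ∀ i, i < 9046 → P i := stepQ 9045 Q9045 (allL N9045 (tt N6562 F12375) (tt N8915 F12376) (tt N7461 F12377) (tt N7556 F12378) (tt N6560 (iv D9959)))
theorem Q9047 : ∀ i, i < 9047 → P i := stepQ 9046 Q9046 (allL N9046 (tt N6561 (iv D9960)) (tt N9173 (iv F12694)) (tt N9008 F12380) (tt N8980 F12379) (tt N9172 F12693))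
theorem Q9048 : ∀ i, i < 9048 → P i := stepQ 9047 Q9047 (allL N9047 (tt N9378 (iv F13163)) (tt N6565 F12381) (tt N6561 (iv D9961)) (tt N9387 (iv F13184)) (tt N9291 (iv F12953)))
theorem Q9049 : ∀ i, i < 9049 → P i := stepQ 9048 Q9048 (allL N9048 (tt N9172 (iv F12692)) (tt N6562 F12382) (tt N9374 (iv F13150)) (tt N7328 F12383) (tt N6561 (iv D9962)))
theorem Q9050 : ∀ i, i < 9050 → P i := stepQ 9049 Q9049 (allL N9049 (tt N7434 F12385) (tt N9001 F12386) (tt N6562 (iv D9963)) (tt N10435 (iv F15843)) (tt N7433 F12384))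
theorem Q9051 : ∀ i, i < 9051 → P i := stepQ 9050 Q9050 (allL N9050 (tt N9157 (iv F12659)) (tt N6563 (iv D9964)) (tt N9127 (iv F12581)) (tt N9134 (iv F12600)) (tt N9123 F12566))
theorem Q9052 : ∀ i, i < 9052 → P i := stepQ 9051 Q9051 (allL N9051 (tt N7061 F12387) (tt N6564 (iv D9965)) (tt N7057 F12390) (tt N8196 F12388) (tt N8141 F12389))
theorem Q9053 : ∀ i, i < 9053 → P i := stepQ 9052 Q9052 (allL N9052 (tt N9289 F12947) (tt N9521 (iv F13463)) (tt N6564 (iv D9966)) (tt N10160 (iv F15085)) (tt N9287 (iv F12948)))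
theorem Q9054 : ∀ i, i < 9054 → P i := stepQ 9053 Q9053 (allL N9053 (tt N6566 (iv D9967)) (tt N9400 (iv F13218)) (tt N10453 D11372) (tt N8383 F12392) (tt N6637 F12393))
theorem Q9055 : ∀ i, i < 9055 → P i := stepQ 9054 Q9054 (allL N9054 (tt N6893 F12395) (tt N9127 (iv F12579)) (tt N6566 (iv D9968)) (tt N8404 F12394) (tt N8104 (iv F12396)))
theorem Q9056 : ∀ i, i < 9056 → P i := stepQ 9055 Q9055 (allL N9055 (tt N7012 F12398) (tt N10257 (iv F15317)) (tt N6567 (iv D9969)) (tt N8611 F12397) (tt N10333 (iv F15538)))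
theorem Q9057 : ∀ i, i < 9057 → P i := stepQ 9056 Q9056 (allL N9056 (tt N6954 F12399) (tt N6570 F12400) (tt N6759 F12401) (tt N8596 (iv F12402)) (tt N6569 (iv D9970)))
theorem Q9058 : ∀ i, i < 9058 → P i := stepQ 9057 Q9057 (allL N9057 (tt N6739 F12404) (tt N10196 (iv F15163)) (tt N6572 (iv D9971)) (tt N6692 F12403) (tt N10110 (iv F14955)))
theorem Q9059 : ∀ i, i < 9059 → P i := stepQ 9058 Q9058 (allL N9058 (tt N6967 F12405) (tt N8741 F12406) (tt N6574 (iv D9972)) (tt N8604 F12407) (tt N10380 (iv F15674)))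
theorem Q9060 : ∀ i, i < 9060 → P i := stepQ 9059 Q9059 (allL N9059 (tt N7002 F12408) (tt N6600 F12409) (tt N10443 (iv F15866)) (tt N7025 F12410) (tt N6576 (iv D9973)))
theorem Q9061 : ∀ i, i < 9061 → P i := stepQ 9060 Q9060 (allL N9060 (tt N6934 F12413) (tt N6589 F12411) (tt N6577 (iv D9974)) (tt N7026 F12412) (tt N6587 (iv F12414)))
theorem Q9062 : ∀ i, i < 9062 → P i := stepQ 9061 Q9061 (allL N9061 (tt N6579 F12415) (tt N6808 F12416) (tt N8226 F12417) (tt N8394 (iv F12418)) (tt N6578 (iv D9975)))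
theorem Q9063 : ∀ i, i < 9063 → P i := stepQ 9062 Q9062 (allL N9062 (tt N6583 F12419) (tt N9462 (iv F13334)) (tt N6579 (iv D9976)) (tt N8266 F12420) (tt N9234 (iv F12846)))
theorem Q9064 : ∀ i, i < 9064 → P i := stepQ 9063 Q9063 (allL N9063 (tt N6580 (iv D9977)) (tt N9214 (iv F12807)) (tt N8223 F12421) (tt N10165 (iv F15099)) (tt N9213 F12806))
theorem Q9065 : ∀ i, i < 9065 → P i := stepQ 9064 Q9064 (allL N9064 (tt N9316 (iv F13007)) (tt N6580 (iv D9978)) (tt N8752 F12422) (tt N7418 (iv F12423)) (tt N7374 (iv F12424)))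
theorem Q9066 : ∀ i, i < 9066 → P i := stepQ 9065 Q9065 (allL N9065 (tt N8040 F12427) (tt N7418 F12425) (tt N6581 F12426) (tt N6580 (iv D9979)) (tt N7415 F12428))
theorem Q9067 : ∀ i, i < 9067 → P i := stepQ 9066 Q9066 (allL N9066 (tt N9213 (iv F12805)) (tt N7374 F12429) (tt N9234 (iv F12847)) (tt N7373 (iv F12430)) (tt N6580 (iv D9980)))
theorem Q9068 : ∀ i, i < 9068 → P i := stepQ 9067 Q9067 (allL N9067 (tt N9533 (iv F13487)) (tt N9237 (iv F12853)) (tt N6582 (iv D9981)) (tt N8231 F12431) (tt N9235 F12850))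
theorem Q9069 : ∀ i, i < 9069 → P i := stepQ 9068 Q9068 (allL N9068 (tt N9542 (iv F13506)) (tt N9239 (iv F12856)) (tt N6584 F12432) (tt N6583 (iv D9982)) (tt N9268 (iv F12911)))
theorem Q9070 : ∀ i, i < 9070 → P i := stepQ 9069 Q9069 (allL N9069 (tt N8695 F12433) (tt N6718 F12434) (tt N6591 (iv F12436)) (tt N6651 F12435) (tt N6584 (iv D9983)))
theorem Q9071 : ∀ i, i < 9071 → P i := stepQ 9070 Q9070 (allL N9070 (tt N10153 (iv F15059)) (tt N7304 F12437) (tt N6585 (iv D9984)) (tt N9732 (iv F13967)) (tt N7302 (iv F12438)))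
theorem Q9072 : ∀ i, i < 9072 → P i := stepQ 9071 Q9071 (allL N9071 (tt N9561 (iv F13545)) (tt N7026 F12439) (tt N9235 (iv F12849)) (tt N6589 F12440) (tt N6586 (iv D9985)))
theorem Q9073 : ∀ i, i < 9073 → P i := stepQ 9072 Q9072 (allL N9072 (tt N10165 (iv F15098)) (tt N7317 F12441) (tt N6590 (iv D9986)) (tt N9729 (iv F13956)) (tt N7315 (iv F12443)))
theorem Q9074 : ∀ i, i < 9074 → P i := stepQ 9073 Q9073 (allL N9073 (tt N6591 F12444) (tt N8710 F12445) (tt N9543 (iv F13508)) (tt N9733 (iv F13972)) (tt N6590 (iv D9987)))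
theorem Q9075 : ∀ i, i < 9075 → P i := stepQ 9074 Q9074 (allL N9074 (tt N8729 F12446) (tt N7025 F12447) (tt N10454 D11373) (tt N6600 F12448) (tt N6593 (iv D9988)))
theorem Q9076 : ∀ i, i < 9076 → P i := stepQ 9075 Q9075 (allL N9075 (tt N6597 (iv D9989)) (tt N6809 F12449) (tt N8840 F12450) (tt N8400 F12451) (tt N10455 D11374))
theorem Q9077 : ∀ i, i < 9077 → P i := stepQ 9076 Q9076 (allL N9076 (tt N10455 (iv F15896)) (tt N8642 F12452) (tt N10456 D11375) (tt N9826 (iv F14202)) (tt N6597 (iv D9990)))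
theorem Q9078 : ∀ i, i < 9078 → P i := stepQ 9077 Q9077 (allL N9077 (tt N10113 (iv F14961)) (tt N8667 F12453) (tt N6598 (iv D9991)) (tt N8031 F12454) (tt N10457 D11376))
theorem Q9079 : ∀ i, i < 9079 → P i := stepQ 9078 Q9078 (allL N9078 (tt N8766 F12455) (tt N7032 F12456) (tt N10458 D11377) (tt N6649 F12457) (tt N6599 (iv D9992)))
theorem Q9080 : ∀ i, i < 9080 → P i := stepQ 9079 Q9079 (allL N9079 (tt N10456 (iv F15900)) (tt N9241 (iv F12862)) (tt N6600 (iv D9993)) (tt N10454 (iv F15893)) (tt N9240 F12860))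
theorem Q9081 : ∀ i, i < 9081 → P i := stepQ 9080 Q9080 (allL N9080 (tt N8400 F12458) (tt N8770 F12459) (tt N6601 (iv D9994)) (tt N9735 (iv F13976)) (tt N9540 (iv F13502)))
theorem Q9082 : ∀ i, i < 9082 → P i := stepQ 9081 Q9081 (allL N9081 (tt N7395 F12462) (tt N6606 F12460) (tt N8402 F12461) (tt N6605 (iv D9995)) (tt N7394 (iv F12463)))
theorem Q9083 : ∀ i, i < 9083 → P i := stepQ 9082 Q9082 (allL N9082 (tt N9180 (iv F12710)) (tt N6607 F12464) (tt N9216 (iv F12815)) (tt N9383 (iv F13176)) (tt N6605 (iv D9996)))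
theorem Q9084 : ∀ i, i < 9084 → P i := stepQ 9083 Q9083 (allL N9083 (tt N8795 F12465) (tt N7394 F12466) (tt N9260 (iv F12900)) (tt N6634 F12467) (tt N6606 (iv D9997)))
theorem Q9085 : ∀ i, i < 9085 → P i := stepQ 9084 Q9084 (allL N9084 (tt N8803 (iv F12470)) (tt N9383 (iv F13175)) (tt N9242 (iv F12864)) (tt N6607 (iv D9998)) (tt N6633 F12469))
theorem Q9086 : ∀ i, i < 9086 → P i := stepQ 9085 Q9085 (allL N9085 (tt N9159 (iv F12664)) (tt N6610 (iv D9999)) (tt N9139 (iv F12613)) (tt N7933 F12472) (tt N9124 F12570))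
theorem Q9087 : ∀ i, i < 9087 → P i := stepQ 9086 Q9086 (allL N9086 (tt N7923 F12473) (tt N9124 (iv F12569)) (tt N9243 (iv F12866)) (tt N9132 (iv F12592)) (tt N6610 (iv D10000)))
theorem Q9088 : ∀ i, i < 9088 → P i := stepQ 9087 Q9087 (allL N9087 (tt N6617 F12474) (tt N8262 F12475) (tt N6612 (iv D10001)) (tt N8261 F12476) (tt N6765 F12477))
theorem Q9089 : ∀ i, i < 9089 → P i := stepQ 9088 Q9088 (allL N9088 (tt N9989 (iv F14609)) (tt N6844 (iv F12480)) (tt N6616 (iv D10002)) (tt N6628 F12478) (tt N6766 F12479))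
theorem Q9090 : ∀ i, i < 9090 → P i := stepQ 9089 Q9089 (allL N9089 (tt N7005 F12481) (tt N6619 (iv D10003)) (tt N6985 F12482) (tt N6984 F12483) (tt N9626 (iv F13707)))
theorem Q9091 : ∀ i, i < 9091 → P i := stepQ 9090 Q9090 (allL N9090 (tt N8854 F12484) (tt N9626 (iv F13704)) (tt N9249 (iv F12874)) (tt N6622 F12485) (tt N6619 (iv D10004)))
theorem Q9092 : ∀ i, i < 9092 → P i := stepQ 9091 Q9091 (allL N9091 (tt N7038 F12486) (tt N6622 F12487) (tt N7043 F12488) (tt N9626 (iv F13706)) (tt N6621 (iv D10005)))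
theorem Q9093 : ∀ i, i < 9093 → P i := stepQ 9092 Q9092 (allL N9092 (tt N6745 F12491) (tt N6624 (iv D10006)) (tt N6708 F12489) (tt N9913 (iv F14399)) (tt N6679 F12490))
theorem Q9094 : ∀ i, i < 9094 → P i := stepQ 9093 Q9093 (allL N9093 (tt N6628 (iv D10007)) (tt N8247 (iv F12495)) (tt N6629 F12492) (tt N8246 F12494) (tt N6768 F12493))
theorem Q9095 : ∀ i, i < 9095 → P i := stepQ 9094 Q9094 (allL N9094 (tt N9188 (iv F12730)) (tt N6634 F12496) (tt N9291 (iv F12952)) (tt N7394 F12497) (tt N6632 (iv D10008)))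
theorem Q9096 : ∀ i, i < 9096 → P i := stepQ 9095 Q9095 (allL N9095 (tt N9163 (iv F12674)) (tt N6636 (iv D10009)) (tt N9138 (iv F12609)) (tt N9133 (iv F12596)) (tt N9126 F12577))
theorem Q9097 : ∀ i, i < 9097 → P i := stepQ 9096 Q9096 (allL N9096 (tt N7922 F12498) (tt N9126 (iv F12575)) (tt N9261 (iv F12902)) (tt N9125 F12573) (tt N6636 (iv D10010)))
theorem Q9098 : ∀ i, i < 9098 → P i := stepQ 9097 Q9097 (allL N9097 (tt N7054 F12499) (tt N7064 F12500) (tt N6637 (iv D10011)) (tt N7488 F12501) (tt N10459 D11378))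
theorem Q9099 : ∀ i, i < 9099 → P i := stepQ 9098 Q9098 (allL N9098 (tt N7055 F12502) (tt N9374 (iv F13147)) (tt N10460 D11379) (tt N8403 F12503) (tt N6638 (iv D10012)))
theorem Q9100 : ∀ i, i < 9100 → P i := stepQ 9099 Q9099 (allL N9099 (tt N6956 F12504) (tt N6640 F12505) (tt N6770 F12507) (tt N8606 F12506) (tt N6639 (iv D10013)))
theorem Q9101 : ∀ i, i < 9101 → P i := stepQ 9100 Q9100 (allL N9100 (tt N6923 F12510) (tt N6641 (iv D10014)) (tt N9170 F12688) (tt N8607 F12508) (tt N6922 F12509))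
theorem Q9102 : ∀ i, i < 9102 → P i := stepQ 9101 Q9101 (allL N9101 (tt N7004 F12511) (tt N6649 F12512) (tt N10449 (iv F15881)) (tt N7032 F12513) (tt N6643 (iv D10015)))
theorem Q9103 : ∀ i, i < 9103 → P i := stepQ 9102 Q9102 (allL N9102 (tt N6735 F12516) (tt N6651 F12514) (tt N6646 (iv D10016)) (tt N6718 F12515) (tt N6697 (iv F12517)))
theorem Q9104 : ∀ i, i < 9104 → P i := stepQ 9103 Q9103 (allL N9103 (tt N6647 (iv D10017)) (tt N7054 F12518) (tt N8945 F12519) (tt N8398 F12520) (tt N10461 D11380))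
theorem Q9105 : ∀ i, i < 9105 → P i := stepQ 9104 Q9104 (allL N9104 (tt N10461 (iv F15914)) (tt N8644 F12521) (tt N10462 D11381) (tt N8643 (iv F12522)) (tt N6647 (iv D10018)))
theorem Q9106 : ∀ i, i < 9106 → P i := stepQ 9105 Q9105 (allL N9105 (tt N10107 (iv F14941)) (tt N8670 F12523) (tt N6648 (iv D10019)) (tt N7999 F12524) (tt N10463 D11382))
theorem Q9107 : ∀ i, i < 9107 → P i := stepQ 9106 Q9106 (allL N9106 (tt N10462 (iv F15918)) (tt N9259 (iv F12898)) (tt N6649 (iv D10020)) (tt N10458 (iv F15905)) (tt N9269 (iv F12914)))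
theorem Q9108 : ∀ i, i < 9108 → P i := stepQ 9107 Q9107 (allL N9107 (tt N10464 D11383) (tt N9616 (iv F13678)) (tt N6650 (iv D10021)) (tt N9638 (iv F13744)) (tt N9614 F13679))
theorem Q9109 : ∀ i, i < 9109 → P i := stepQ 9108 Q9108 (allL N9108 (tt N7373 F12525) (tt N6657 (iv D10022)) (tt N8229 F12526) (tt N10465 D11384) (tt N8014 F12527))
theorem Q9110 : ∀ i, i < 9110 → P i := stepQ 9109 Q9109 (allL N9109 (tt N9520 (iv F13460)) (tt N10465 (iv F15928)) (tt N6658 F12528) (tt N6657 (iv D10023)) (tt N8041 F12529))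
theorem Q9111 : ∀ i, i < 9111 → P i := stepQ 9110 Q9110 (allL N9110 (tt N7669 F12530) (tt N6659 (iv D10024)) (tt N7380 F12532) (tt N10466 D11385) (tt N7996 F12531))
theorem Q9112 : ∀ i, i < 9112 → P i := stepQ 9111 Q9111 (allL N9111 (tt N7372 F12533) (tt N7506 F12534) (tt N6659 (iv D10025)) (tt N10467 D11386) (tt N7990 F12535))
theorem Q9113 : ∀ i, i < 9113 → P i := stepQ 9112 Q9112 (allL N9112 (tt N9505 (iv F13430)) (tt N10466 (iv F15932)) (tt N10467 (iv F15936)) (tt N6659 (iv D10026)) (tt N7995 F12536))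
theorem Q9114 : ∀ i, i < 9114 → P i := stepQ 9113 Q9113 (allL N9113 (tt N6660 (iv D10027)) (tt N9381 (iv F13170)) (tt N10468 D11387) (tt N8027 F12538) (tt N8012 F12537))
theorem Q9115 : ∀ i, i < 9115 → P i := stepQ 9114 Q9114 (allL N9114 (tt N9510 (iv F13439)) (tt N6852 F12539) (tt N6662 F12540) (tt N6661 (iv D10028)) (tt N8018 (iv F12541)))
theorem Q9116 : ∀ i, i < 9116 → P i := stepQ 9115 Q9115 (allL N9115 (tt N7672 F12542) (tt N6663 (iv D10029)) (tt N7410 F12544) (tt N10469 D11388) (tt N8039 F12543))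
theorem Q9117 : ∀ i, i < 9117 → P i := stepQ 9116 Q9116 (allL N9116 (tt N7311 F12545) (tt N7538 F12546) (tt N6663 (iv D10030)) (tt N10470 D11389) (tt N8036 F12547))
theorem Q9118 : ∀ i, i < 9118 → P i := stepQ 9117 Q9117 (allL N9117 (tt N9507 (iv F13433)) (tt N10469 (iv F15943)) (tt N10470 (iv F15947)) (tt N6663 (iv D10031)) (tt N7997 F12548))
theorem Q9119 : ∀ i, i < 9119 → P i := stepQ 9118 Q9118 (allL N9118 (tt N7415 F12549) (tt N6664 (iv D10032)) (tt N8269 F12550) (tt N10471 D11390) (tt N8040 F12551))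
theorem Q9120 : ∀ i, i < 9120 → P i := stepQ 9119 Q9119 (allL N9119 (tt N9511 (iv F13441)) (tt N10471 (iv F15950)) (tt N6665 F12552) (tt N6664 (iv D10033)) (tt N8015 F12553))
theorem Q9121 : ∀ i, i < 9121 → P i := stepQ 9120 Q9120 (allL N9120 (tt N7650 F12554) (tt N6807 F12555) (tt N7257 F12556) (tt N6676 F12557) (tt N6671 (iv D10034)))
theorem Q9122 : ∀ i, i < 9122 → P i := stepQ 9121 Q9121 (allL N9121 (tt N6721 F12559) (tt N9914 (iv F14402)) (tt N6678 F12558) (tt N6677 (iv D10035)) (tt N9913 (iv F14400)))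
theorem Q9123 : ∀ i, i < 9123 → P i := stepQ 9122 Q9122 (allL N9122 (tt N6689 F12560) (tt N7945 F12561) (tt N10427 (iv F15818)) (tt N6681 F12562) (tt N6678 (iv D10036)))
theorem Q9124 : ∀ i, i < 9124 → P i := stepQ 9123 Q9123 (allL N9123 (tt N6730 F12563) (tt N7886 F12564) (tt N6701 F12565) (tt N6682 (iv D10037)) (tt N9050 (iv F12566)))
theorem Q9125 : ∀ i, i < 9125 → P i := stepQ 9124 Q9124 (allL N9124 (tt N6731 F12567) (tt N9086 F12569) (tt N6683 (iv D10038)) (tt N6695 F12568) (tt N9085 (iv F12570)))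
theorem Q9126 : ∀ i, i < 9126 → P i := stepQ 9125 Q9125 (allL N9125 (tt N8365 F12571) (tt N6684 (iv D10039)) (tt N10472 D11391) (tt N9096 (iv F12573)) (tt N8362 F12572))
theorem Q9127 : ∀ i, i < 9127 → P i := stepQ 9126 Q9126 (allL N9126 (tt N6733 F12574) (tt N9096 F12575) (tt N6685 F12576) (tt N6684 (iv D10040)) (tt N9095 (iv F12577)))
theorem Q9128 : ∀ i, i < 9128 → P i := stepQ 9127 Q9127 (allL N9127 (tt N6751 F12578) (tt N9054 F12579) (tt N9050 F12581) (tt N6696 F12580) (tt N6685 (iv D10041)))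
theorem Q9129 : ∀ i, i < 9129 → P i := stepQ 9128 Q9128 (allL N9128 (tt N6737 F12582) (tt N10195 (iv F15160)) (tt N6697 F12583) (tt N6686 (iv D10042)) (tt N10109 (iv F14951)))
theorem Q9130 : ∀ i, i < 9130 → P i := stepQ 9129 Q9129 (allL N9129 (tt N10366 (iv F15624)) (tt N7022 F12584) (tt N6687 (iv D10043)) (tt N10473 D11392) (tt N8883 (iv F12585)))
theorem Q9131 : ∀ i, i < 9131 → P i := stepQ 9130 Q9130 (allL N9130 (tt N7852 F12588) (tt N6688 F12586) (tt N10473 (iv F15957)) (tt N6687 (iv D10044)) (tt N7851 F12587))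
theorem Q9132 : ∀ i, i < 9132 → P i := stepQ 9131 Q9131 (allL N9131 (tt N10363 (iv F15613)) (tt N7023 F12589) (tt N6691 F12590) (tt N6690 (iv D10045)) (tt N10361 (iv F15610)))
theorem Q9133 : ∀ i, i < 9133 → P i := stepQ 9132 Q9132 (allL N9132 (tt N8375 F12591) (tt N6695 (iv D10046)) (tt N10474 D11393) (tt N9086 F12592) (tt N8372 (iv F12593)))
theorem Q9134 : ∀ i, i < 9134 → P i := stepQ 9133 Q9133 (allL N9133 (tt N6723 F12594) (tt N8372 F12595) (tt N6715 F12597) (tt N9095 F12596) (tt N6695 (iv D10047)))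
theorem Q9135 : ∀ i, i < 9135 → P i := stepQ 9134 Q9134 (allL N9134 (tt N6720 F12598) (tt N9016 F12599) (tt N6696 (iv D10048)) (tt N9050 F12600) (tt N6713 F12601))
theorem Q9136 : ∀ i, i < 9136 → P i := stepQ 9135 Q9135 (allL N9135 (tt N10475 D11394) (tt N8619 F12602) (tt N6698 (iv D10049)) (tt N9269 (iv F12913)) (tt N10454 (iv F15894)))
theorem Q9137 : ∀ i, i < 9137 → P i := stepQ 9136 Q9136 (allL N9136 (tt N8412 F12603) (tt N10476 D11395) (tt N6700 (iv D10050)) (tt N10477 D11396) (tt N9566 (iv F13554)))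
theorem Q9138 : ∀ i, i < 9138 → P i := stepQ 9137 Q9137 (allL N9137 (tt N6891 F12604) (tt N6701 F12605) (tt N10477 (iv F15969)) (tt N6700 (iv D10051)) (tt N8165 F12606))
theorem Q9139 : ∀ i, i < 9139 → P i := stepQ 9138 Q9138 (allL N9138 (tt N6758 F12607) (tt N8165 F12608) (tt N9095 F12609) (tt N6715 F12610) (tt N6701 (iv D10052)))
theorem Q9140 : ∀ i, i < 9140 → P i := stepQ 9139 Q9139 (allL N9139 (tt N6753 F12611) (tt N8195 F12612) (tt N9085 F12613) (tt N6702 (iv D10053)) (tt N6714 F12614))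
theorem Q9141 : ∀ i, i < 9141 → P i := stepQ 9140 Q9140 (allL N9140 (tt N8169 F12615) (tt N8701 F12616) (tt N7303 F12617) (tt N6703 (iv D10054)) (tt N8168 F12618))
theorem Q9142 : ∀ i, i < 9142 → P i := stepQ 9141 Q9141 (allL N9141 (tt N6704 (iv D10055)) (tt N8725 (iv F12621)) (tt N7305 F12619) (tt N10478 D11397) (tt N8723 F12620))
theorem Q9143 : ∀ i, i < 9143 → P i := stepQ 9142 Q9142 (allL N9142 (tt N8847 F12624) (tt N7011 F12622) (tt N6705 F12623) (tt N6704 (iv D10056)) (tt N8845 (iv F12625)))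
theorem Q9144 : ∀ i, i < 9144 → P i := stepQ 9143 Q9143 (allL N9143 (tt N6709 (iv D10057)) (tt N8774 (iv F12628)) (tt N7313 F12626) (tt N10479 D11398) (tt N8773 F12627))
theorem Q9145 : ∀ i, i < 9145 → P i := stepQ 9144 Q9144 (allL N9144 (tt N8773 F12629) (tt N7030 F12630) (tt N9144 F12631) (tt N8845 F12632) (tt N6709 (iv D10058)))
theorem Q9146 : ∀ i, i < 9146 → P i := stepQ 9145 Q9145 (allL N9145 (tt N8171 F12633) (tt N8702 F12634) (tt N7316 F12635) (tt N6710 (iv D10059)) (tt N8181 F12636))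
theorem Q9147 : ∀ i, i < 9147 → P i := stepQ 9146 Q9146 (allL N9146 (tt N8431 F12637) (tt N10480 D11399) (tt N6712 (iv D10060)) (tt N10481 D11400) (tt N9581 (iv F13581)))
theorem Q9148 : ∀ i, i < 9148 → P i := stepQ 9147 Q9147 (allL N9147 (tt N6822 F12638) (tt N6714 F12639) (tt N10481 (iv F15984)) (tt N6712 (iv D10061)) (tt N8195 F12640))
theorem Q9149 : ∀ i, i < 9149 → P i := stepQ 9148 Q9148 (allL N9148 (tt N10482 D11401) (tt N8622 F12641) (tt N6716 (iv D10062)) (tt N9240 (iv F12859)) (tt N10458 (iv F15906)))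
theorem Q9150 : ∀ i, i < 9150 → P i := stepQ 9149 Q9149 (allL N9149 (tt N10427 (iv F15816)) (tt N7322 F12642) (tt N6722 F12643) (tt N6720 F12644) (tt N6719 (iv D10063)))
theorem Q9151 : ∀ i, i < 9151 → P i := stepQ 9150 Q9150 (allL N9150 (tt N9303 (iv F12984)) (tt N10440 (iv F15854)) (tt N6724 (iv D10064)) (tt N10483 D11402) (tt N10439 F15853))
theorem Q9152 : ∀ i, i < 9152 → P i := stepQ 9151 Q9151 (allL N9151 (tt N8147 F12645) (tt N8660 F12646) (tt N10483 (iv F15988)) (tt N6724 (iv D10065)) (tt N10254 F15315))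
theorem Q9153 : ∀ i, i < 9153 → P i := stepQ 9152 Q9152 (allL N9152 (tt N6726 (iv D10066)) (tt N10388 (iv F15695)) (tt N7195 F12647) (tt N10399 (iv F15724)) (tt N10387 F15693))
theorem Q9154 : ∀ i, i < 9154 → P i := stepQ 9153 Q9153 (allL N9153 (tt N9024 F12649) (tt N6726 (iv D10067)) (tt N7002 F12648) (tt N7039 (iv F12651)) (tt N9021 (iv F12650)))
theorem Q9155 : ∀ i, i < 9155 → P i := stepQ 9154 Q9154 (allL N9154 (tt N10484 D11403) (tt N7039 F12652) (tt N6727 F12653) (tt N6726 (iv D10068)) (tt N9525 (iv F13475)))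
theorem Q9156 : ∀ i, i < 9156 → P i := stepQ 9155 Q9155 (allL N9155 (tt N10387 (iv F15692)) (tt N9021 F12654) (tt N9005 F12655) (tt N9320 F13021) (tt N6726 (iv D10069)))
theorem Q9157 : ∀ i, i < 9157 → P i := stepQ 9156 Q9156 (allL N9156 (tt N7831 F12658) (tt N6730 F12656) (tt N6935 F12657) (tt N6728 (iv D10070)) (tt N9174 (iv F12696)))
theorem Q9158 : ∀ i, i < 9158 → P i := stepQ 9157 Q9157 (allL N9157 (tt N9050 F12659) (tt N9174 (iv F12697)) (tt N6735 F12661) (tt N6746 F12660) (tt N6730 (iv D10071)))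
theorem Q9159 : ∀ i, i < 9159 → P i := stepQ 9158 Q9158 (allL N9158 (tt N9862 (iv F14285)) (tt N6731 (iv D10072)) (tt N6999 F12662) (tt N6744 F12663) (tt N9182 (iv F12719)))
theorem Q9160 : ∀ i, i < 9160 → P i := stepQ 9159 Q9159 (allL N9159 (tt N9085 F12664) (tt N9182 (iv F12717)) (tt N6764 F12665) (tt N6734 F12666) (tt N6731 (iv D10073)))
theorem Q9161 : ∀ i, i < 9161 → P i := stepQ 9160 Q9160 (allL N9160 (tt N6732 (iv D10074)) (tt N8327 F12667) (tt N9343 (iv F13074)) (tt N10485 D11404) (tt N8326 F12668))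
theorem Q9162 : ∀ i, i < 9162 → P i := stepQ 9161 Q9161 (allL N9161 (tt N9866 (iv F14295)) (tt N6733 F12669) (tt N7035 F12670) (tt N6732 (iv D10075)) (tt N9190 (iv F12739)))
theorem Q9163 : ∀ i, i < 9163 → P i := stepQ 9162 Q9162 (allL N9162 (tt N8326 F12671) (tt N6734 F12672) (tt N8152 F12673) (tt N9182 (iv F12718)) (tt N6732 (iv D10076)))
theorem Q9164 : ∀ i, i < 9164 → P i := stepQ 9163 Q9163 (allL N9163 (tt N9095 F12674) (tt N9190 (iv F12737)) (tt N6763 F12675) (tt N6745 F12676) (tt N6733 (iv D10077)))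
theorem Q9165 : ∀ i, i < 9165 → P i := stepQ 9164 Q9164 (allL N9164 (tt N10407 (iv F15751)) (tt N9371 (iv F13141)) (tt N6736 (iv D10078)) (tt N9390 (iv F13192)) (tt N10406 (iv F15750)))
theorem Q9166 : ∀ i, i < 9166 → P i := stepQ 9165 Q9165 (allL N9165 (tt N7917 F12677) (tt N6737 F12678) (tt N9390 (iv F13191)) (tt N6736 (iv D10079)) (tt N7916 F12679))
theorem Q9167 : ∀ i, i < 9167 → P i := stepQ 9166 Q9166 (allL N9166 (tt N10109 (iv F14948)) (tt N7916 F12680) (tt N6758 F12681) (tt N6740 F12682) (tt N6737 (iv D10080)))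
theorem Q9168 : ∀ i, i < 9168 → P i := stepQ 9167 Q9167 (allL N9167 (tt N10405 (iv F15743)) (tt N9373 (iv F13145)) (tt N6738 (iv D10081)) (tt N9372 F13144) (tt N10404 (iv F15742)))
theorem Q9169 : ∀ i, i < 9169 → P i := stepQ 9168 Q9168 (allL N9168 (tt N7912 F12683) (tt N6739 F12684) (tt N9372 (iv F13143)) (tt N6738 (iv D10082)) (tt N7910 F12685))
theorem Q9170 : ∀ i, i < 9170 → P i := stepQ 9169 Q9169 (allL N9169 (tt N9306 (iv F12986)) (tt N10446 (iv F15871)) (tt N6741 (iv D10083)) (tt N10244 (iv F15292)) (tt N10445 F15870))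
theorem Q9171 : ∀ i, i < 9171 → P i := stepQ 9170 Q9170 (allL N9170 (tt N6743 F12686) (tt N8674 F12687) (tt N9100 (iv F12688)) (tt N10254 (iv F15313)) (tt N6741 (iv D10084)))
theorem Q9172 : ∀ i, i < 9172 → P i := stepQ 9171 Q9171 (allL N9171 (tt N6742 (iv D10085)) (tt N10385 (iv F15687)) (tt N7205 F12689) (tt N9859 (iv F14277)) (tt N10384 F15685))
theorem Q9173 : ∀ i, i < 9173 → P i := stepQ 9172 Q9172 (allL N9172 (tt N9048 F12692) (tt N6742 (iv D10086)) (tt N7004 F12690) (tt N7003 F12691) (tt N9046 (iv F12693)))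
theorem Q9174 : ∀ i, i < 9174 → P i := stepQ 9173 Q9173 (allL N9173 (tt N10384 (iv F15682)) (tt N9046 F12694) (tt N9007 F12695) (tt N9525 (iv F13474)) (tt N6742 (iv D10087)))
theorem Q9175 : ∀ i, i < 9175 → P i := stepQ 9174 Q9174 (allL N9174 (tt N9861 (iv F14281)) (tt N9157 F12697) (tt N6743 (iv D10088)) (tt N9177 (iv F12704)) (tt N9156 F12696))
theorem Q9176 : ∀ i, i < 9176 → P i := stepQ 9175 Q9175 (allL N9175 (tt N6744 (iv D10089)) (tt N8343 F12698) (tt N9401 (iv F13222)) (tt N10486 D11405) (tt N8342 (iv F12699)))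
theorem Q9177 : ∀ i, i < 9177 → P i := stepQ 9176 Q9176 (allL N9176 (tt N8342 F12700) (tt N6745 F12701) (tt N8158 F12702) (tt N9190 (iv F12738)) (tt N6744 (iv D10090)))
theorem Q9178 : ∀ i, i < 9178 → P i := stepQ 9177 Q9177 (allL N9177 (tt N10127 (iv F14997)) (tt N6746 (iv D10091)) (tt N7073 F12703) (tt N9174 F12704) (tt N6774 F12705))
theorem Q9179 : ∀ i, i < 9179 → P i := stepQ 9178 Q9178 (allL N9178 (tt N9775 (iv F14086)) (tt N10289 (iv F15415)) (tt N8596 F12706) (tt N6759 (iv D10092)) (tt N10043 (iv F14745)))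
theorem Q9180 : ∀ i, i < 9180 → P i := stepQ 9179 Q9179 (allL N9179 (tt N6760 (iv D10093)) (tt N8873 (iv F12708)) (tt N7231 F12707) (tt N8871 F12709) (tt N9298 (iv F12974)))
theorem Q9181 : ∀ i, i < 9181 → P i := stepQ 9180 Q9180 (allL N9180 (tt N9082 F12710) (tt N6760 (iv D10094)) (tt N6934 F12711) (tt N7038 (iv F12713)) (tt N7000 F12712))
theorem Q9182 : ∀ i, i < 9182 → P i := stepQ 9181 Q9181 (allL N9181 (tt N10355 (iv F15595)) (tt N7038 F12714) (tt N6761 F12715) (tt N6760 (iv D10095)) (tt N7036 F12716))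
theorem Q9183 : ∀ i, i < 9183 → P i := stepQ 9182 Q9182 (allL N9182 (tt N7833 F12720) (tt N9159 F12717) (tt N6762 (iv D10096)) (tt N9162 F12718) (tt N9158 F12719))
theorem Q9184 : ∀ i, i < 9184 → P i := stepQ 9183 Q9183 (allL N9183 (tt N9195 (iv F12752)) (tt N6765 (iv D10097)) (tt N9463 (iv F13336)) (tt N8248 F12721) (tt N8262 F12722))
theorem Q9185 : ∀ i, i < 9185 → P i := stepQ 9184 Q9184 (allL N9184 (tt N6766 (iv D10098)) (tt N10015 (iv F14677)) (tt N9468 (iv F13350)) (tt N9706 (iv F13904)) (tt N9989 (iv F14612)))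
theorem Q9186 : ∀ i, i < 9186 → P i := stepQ 9185 Q9185 (allL N9185 (tt N9284 (iv F12939)) (tt N6768 (iv D10099)) (tt N9477 (iv F13376)) (tt N8263 F12723) (tt N8247 F12724))
theorem Q9187 : ∀ i, i < 9187 → P i := stepQ 9186 Q9186 (allL N9186 (tt N9771 (iv F14076)) (tt N10291 (iv F15421)) (tt N8606 F12725) (tt N6770 (iv D10100)) (tt N10064 (iv F14814)))
theorem Q9188 : ∀ i, i < 9188 → P i := stepQ 9187 Q9187 (allL N9187 (tt N6771 (iv D10101)) (tt N8872 (iv F12728)) (tt N7237 F12727) (tt N8895 F12729) (tt N8870 F12726))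
theorem Q9189 : ∀ i, i < 9189 → P i := stepQ 9188 Q9188 (allL N9188 (tt N9094 F12730) (tt N6771 (iv D10102)) (tt N7013 F12731) (tt N7001 (iv F12733)) (tt N7037 F12732))
theorem Q9190 : ∀ i, i < 9190 → P i := stepQ 9189 Q9189 (allL N9189 (tt N10342 (iv F15562)) (tt N7001 F12734) (tt N6772 F12735) (tt N6771 (iv D10103)) (tt N6957 F12736))
theorem Q9191 : ∀ i, i < 9191 → P i := stepQ 9190 Q9190 (allL N9190 (tt N7837 F12740) (tt N9163 F12737) (tt N6773 (iv D10104)) (tt N9176 F12738) (tt N9161 F12739))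
theorem Q9192 : ∀ i, i < 9192 → P i := stepQ 9191 Q9191 (allL N9191 (tt N6824 F12741) (tt N6781 (iv D10105)) (tt N10487 D11406) (tt N10022 (iv F14694)) (tt N10006 F14656))
theorem Q9193 : ∀ i, i < 9193 → P i := stepQ 9192 Q9192 (allL N9192 (tt N6806 F12742) (tt N10022 (iv F14693)) (tt N8325 F12743) (tt N6781 (iv D10106)) (tt N10018 (iv F14685)))
theorem Q9194 : ∀ i, i < 9194 → P i := stepQ 9193 Q9193 (allL N9193 (tt N6784 F12744) (tt N10006 (iv F14654)) (tt N8327 F12745) (tt N10004 F14652) (tt N6781 (iv D10107)))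
theorem Q9195 : ∀ i, i < 9195 → P i := stepQ 9194 Q9194 (allL N9194 (tt N6782 (iv D10108)) (tt N8652 F12749) (tt N7158 F12748) (tt N7893 F12746) (tt N8650 F12747))
theorem Q9196 : ∀ i, i < 9196 → P i := stepQ 9195 Q9195 (allL N9195 (tt N9183 F12752) (tt N7686 F12750) (tt N6782 (iv D10109)) (tt N7771 F12751) (tt N10095 (iv F14902)))
theorem Q9197 : ∀ i, i < 9197 → P i := stepQ 9196 Q9196 (allL N9196 (tt N6798 F12753) (tt N8273 F12754) (tt N6785 (iv D10110)) (tt N8321 F12755) (tt N8271 F12756))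
theorem Q9198 : ∀ i, i < 9198 → P i := stepQ 9197 Q9197 (allL N9197 (tt N8048 F12757) (tt N8475 F12758) (tt N6796 F12759) (tt N6790 F12760) (tt N6787 (iv D10111)))
theorem Q9199 : ∀ i, i < 9199 → P i := stepQ 9198 Q9198 (allL N9198 (tt N8060 F12761) (tt N8479 F12762) (tt N6805 F12763) (tt N6882 F12764) (tt N6789 (iv D10112)))
theorem Q9200 : ∀ i, i < 9200 → P i := stepQ 9199 Q9199 (allL N9199 (tt N6792 F12765) (tt N9199 F12766) (tt N8349 (iv F12768)) (tt N8359 F12767) (tt N6791 (iv D10113)))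
theorem Q9201 : ∀ i, i < 9201 → P i := stepQ 9200 Q9200 (allL N9200 (tt N6793 (iv D10114)) (tt N10007 (iv F14658)) (tt N8045 F12769) (tt N6874 F12770) (tt N10004 F14653))
theorem Q9202 : ∀ i, i < 9202 → P i := stepQ 9201 Q9201 (allL N9201 (tt N6980 F12771) (tt N6794 (iv D10115)) (tt N8798 F12773) (tt N8357 F12772) (tt N8105 (iv F12774)))
theorem Q9203 : ∀ i, i < 9203 → P i := stepQ 9202 Q9202 (allL N9202 (tt N6796 F12775) (tt N8105 F12776) (tt N8367 F12777) (tt N8348 (iv F12778)) (tt N6794 (iv D10116)))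
theorem Q9204 : ∀ i, i < 9204 → P i := stepQ 9203 Q9203 (allL N9203 (tt N6797 (iv D10117)) (tt N9503 (iv F13424)) (tt N8863 F12780) (tt N7877 F12779) (tt N10280 (iv F15388)))
theorem Q9205 : ∀ i, i < 9205 → P i := stepQ 9204 Q9204 (allL N9204 (tt N10280 (iv F15387)) (tt N6799 F12781) (tt N8914 F12782) (tt N8068 F12783) (tt N6797 (iv D10118)))
theorem Q9206 : ∀ i, i < 9206 → P i := stepQ 9205 Q9205 (allL N9205 (tt N6977 F12784) (tt N6804 (iv D10119)) (tt N8797 F12786) (tt N8347 F12785) (tt N8139 (iv F12787)))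
theorem Q9207 : ∀ i, i < 9207 → P i := stepQ 9206 Q9206 (allL N9206 (tt N6805 F12788) (tt N8139 F12789) (tt N8366 F12790) (tt N8358 F12791) (tt N6804 (iv D10120)))
theorem Q9208 : ∀ i, i < 9208 → P i := stepQ 9207 Q9207 (allL N9207 (tt N6810 F12793) (tt N10488 D11407) (tt N6808 (iv D10121)) (tt N8395 F12792) (tt N10489 D11408))
theorem Q9209 : ∀ i, i < 9209 → P i := stepQ 9208 Q9208 (allL N9208 (tt N10437 (iv F15846)) (tt N10455 (iv F15897)) (tt N10489 (iv F16004)) (tt N8399 F12794) (tt N6809 (iv D10122)))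
theorem Q9210 : ∀ i, i < 9210 → P i := stepQ 9209 Q9209 (allL N9209 (tt N7351 F12796) (tt N6810 (iv D10123)) (tt N8524 F12798) (tt N8137 F12795) (tt N8516 (iv F12797)))
theorem Q9211 : ∀ i, i < 9211 → P i := stepQ 9210 Q9210 (allL N9210 (tt N10489 (iv F16003)) (tt N8516 F12799) (tt N6812 F12800) (tt N8103 (iv F12801)) (tt N6810 (iv D10124)))
theorem Q9212 : ∀ i, i < 9212 → P i := stepQ 9211 Q9211 (allL N9211 (tt N6814 (iv D10125)) (tt N9781 (iv F14099)) (tt N10490 D11409) (tt N8424 F12803) (tt N8420 F12802))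
theorem Q9213 : ∀ i, i < 9213 → P i := stepQ 9212 Q9212 (allL N9212 (tt N6816 (iv D10126)) (tt N6918 F12804) (tt N10491 D11410) (tt N9696 (iv F13880)) (tt N9033 F12810))
theorem Q9214 : ∀ i, i < 9214 → P i := stepQ 9213 Q9213 (allL N9213 (tt N9066 F12805) (tt N6816 (iv D10127)) (tt N9466 (iv F13345)) (tt N9565 (iv F13553)) (tt N9063 (iv F12806)))
theorem Q9215 : ∀ i, i < 9215 → P i := stepQ 9214 Q9214 (allL N9214 (tt N9033 (iv F12809)) (tt N9063 F12807) (tt N10492 D11411) (tt N8433 F12808) (tt N6816 (iv D10128)))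
theorem Q9216 : ∀ i, i < 9216 → P i := stepQ 9215 Q9215 (allL N9215 (tt N9689 (iv F13867)) (tt N10493 D11412) (tt N6818 (iv D10129)) (tt N8430 F12811) (tt N8410 (iv F12812)))
theorem Q9217 : ∀ i, i < 9217 → P i := stepQ 9216 Q9216 (allL N9216 (tt N6992 F12813) (tt N6819 (iv D10130)) (tt N9082 F12815) (tt N7027 (iv F12816)) (tt N9022 F12814))
theorem Q9218 : ∀ i, i < 9218 → P i := stepQ 9217 Q9217 (allL N9217 (tt N10491 (iv F16009)) (tt N6840 F12817) (tt N6819 (iv D10131)) (tt N9566 F13557) (tt N10481 (iv F15985)))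
theorem Q9219 : ∀ i, i < 9219 → P i := stepQ 9218 Q9218 (allL N9218 (tt N9691 (iv F13871)) (tt N7027 F12818) (tt N9566 (iv F13555)) (tt N6819 (iv D10132)) (tt N8407 F12819))
theorem Q9220 : ∀ i, i < 9220 → P i := stepQ 9219 Q9219 (allL N9219 (tt N6820 (iv D10133)) (tt N9797 (iv F14136)) (tt N10494 D11413) (tt N8575 F12821) (tt N8423 F12820))
theorem Q9221 : ∀ i, i < 9221 → P i := stepQ 9220 Q9220 (allL N9220 (tt N10492 (iv F16011)) (tt N8515 F12822) (tt N6821 (iv D10134)) (tt N8164 F12823) (tt N8193 F12824))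
theorem Q9222 : ∀ i, i < 9222 → P i := stepQ 9221 Q9221 (allL N9221 (tt N8652 F12825) (tt N6824 (iv D10135)) (tt N8664 F12826) (tt N10495 D11414) (tt N8649 (iv F12827)))
theorem Q9223 : ∀ i, i < 9223 → P i := stepQ 9222 Q9222 (allL N9222 (tt N7811 (iv F12829)) (tt N10495 (iv F16022)) (tt N6825 F12828) (tt N6824 (iv D10136)) (tt N10496 D11415))
theorem Q9224 : ∀ i, i < 9224 → P i := stepQ 9223 Q9223 (allL N9223 (tt N10006 (iv F14655)) (tt N8649 F12830) (tt N10497 D11416) (tt N10498 D11417) (tt N6824 (iv D10137)))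
theorem Q9225 : ∀ i, i < 9225 → P i := stepQ 9224 Q9224 (allL N9224 (tt N10499 D11418) (tt N10500 D11419) (tt N6826 (iv D10138)) (tt N10243 (iv F15289)) (tt N10501 D11420))
theorem Q9226 : ∀ i, i < 9226 → P i := stepQ 9225 Q9225 (allL N9225 (tt N8900 F12831) (tt N6827 (iv D10139)) (tt N8873 F12832) (tt N8864 (iv F12833)) (tt N10502 D11421))
theorem Q9227 : ∀ i, i < 9227 → P i := stepQ 9226 Q9226 (allL N9226 (tt N10487 (iv F16000)) (tt N7232 F12834) (tt N6827 (iv D10140)) (tt N10503 D11422) (tt N10504 D11423))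
theorem Q9228 : ∀ i, i < 9228 → P i := stepQ 9227 Q9227 (allL N9227 (tt N10239 (iv F15280)) (tt N8864 F12835) (tt N10503 (iv F16043)) (tt N6827 (iv D10141)) (tt N10505 D11424))
theorem Q9229 : ∀ i, i < 9229 → P i := stepQ 9228 Q9228 (allL N9228 (tt N6830 F12836) (tt N10502 (iv F16039)) (tt N9481 (iv F13384)) (tt N10506 D11425) (tt N6827 (iv D10142)))
theorem Q9230 : ∀ i, i < 9230 → P i := stepQ 9229 Q9229 (allL N9229 (tt N6829 (iv D10143)) (tt N10507 D11426) (tt N10508 D11427) (tt N10509 D11428) (tt N10415 (iv F15777)))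
theorem Q9231 : ∀ i, i < 9231 → P i := stepQ 9230 Q9230 (allL N9230 (tt N10497 (iv F16028)) (tt N8517 F12837) (tt N6830 (iv D10144)) (tt N10008 F14661) (tt N10025 (iv F14703)))
theorem Q9232 : ∀ i, i < 9232 → P i := stepQ 9231 Q9231 (allL N9231 (tt N6832 (iv D10145)) (tt N7820 F12838) (tt N10504 (iv F16047)) (tt N7819 (iv F12839)) (tt N10026 (iv F14705)))
theorem Q9233 : ∀ i, i < 9233 → P i := stepQ 9232 Q9232 (allL N9232 (tt N6840 F12840) (tt N8018 F12841) (tt N6834 (iv D10146)) (tt N10510 D11429) (tt N6852 F12842))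
theorem Q9234 : ∀ i, i < 9234 → P i := stepQ 9233 Q9233 (allL N9233 (tt N6846 F12844) (tt N7107 F12843) (tt N10510 (iv F16060)) (tt N6834 (iv D10147)) (tt N10430 (iv F15828)))
theorem Q9235 : ∀ i, i < 9235 → P i := stepQ 9234 Q9234 (allL N9234 (tt N6835 (iv D10148)) (tt N7158 F12845) (tt N9066 F12847) (tt N9617 (iv F13682)) (tt N9062 F12846))
theorem Q9236 : ∀ i, i < 9236 → P i := stepQ 9235 Q9235 (allL N9235 (tt N9567 (iv F13559)) (tt N6836 F12848) (tt N9071 F12849) (tt N6835 (iv D10149)) (tt N9067 (iv F12850)))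
theorem Q9237 : ∀ i, i < 9237 → P i := stepQ 9236 Q9236 (allL N9236 (tt N6836 (iv D10150)) (tt N9013 F12852) (tt N10476 (iv F15965)) (tt N6865 F12851) (tt N10429 (iv F15824)))
theorem Q9238 : ∀ i, i < 9238 → P i := stepQ 9237 Q9237 (allL N9237 (tt N10429 (iv F15825)) (tt N9067 F12853) (tt N10511 D11430) (tt N6863 (iv F12854)) (tt N6836 (iv D10151)))
theorem Q9239 : ∀ i, i < 9239 → P i := stepQ 9238 Q9238 (allL N9238 (tt N6845 F12855) (tt N10512 D11431) (tt N6837 (iv D10152)) (tt N10513 D11432) (tt N10219 (iv F15227)))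
theorem Q9240 : ∀ i, i < 9240 → P i := stepQ 9239 Q9239 (allL N9239 (tt N10431 (iv F15829)) (tt N9068 F12856) (tt N10513 (iv F16069)) (tt N6837 (iv D10153)) (tt N6862 F12857))
theorem Q9241 : ∀ i, i < 9241 → P i := stepQ 9240 Q9240 (allL N9240 (tt N10514 D11433) (tt N6838 (iv D10154)) (tt N8304 F12858) (tt N9148 F12859) (tt N9079 (iv F12860)))
theorem Q9242 : ∀ i, i < 9242 → P i := stepQ 9241 Q9241 (allL N9241 (tt N6853 F12861) (tt N9079 F12862) (tt N10219 (iv F15226)) (tt N10263 (iv F15333)) (tt N6838 (iv D10155)))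
theorem Q9243 : ∀ i, i < 9243 → P i := stepQ 9242 Q9242 (allL N9242 (tt N9528 (iv F13479)) (tt N6841 F12863) (tt N9084 F12864) (tt N6839 (iv D10156)) (tt N10472 (iv F15955)))
theorem Q9244 : ∀ i, i < 9244 → P i := stepQ 9243 Q9243 (allL N9243 (tt N9799 (iv F14141)) (tt N6842 F12865) (tt N9086 F12866) (tt N10474 (iv F15961)) (tt N6839 (iv D10157)))
theorem Q9245 : ∀ i, i < 9245 → P i := stepQ 9244 Q9244 (allL N9244 (tt N10476 (iv F15964)) (tt N9566 (iv F13556)) (tt N6841 F12867) (tt N6840 (iv D10158)) (tt N10476 (iv F15966)))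
theorem Q9246 : ∀ i, i < 9246 → P i := stepQ 9245 Q9245 (allL N9245 (tt N6852 F12868) (tt N10481 (iv F15983)) (tt N6847 F12869) (tt N10480 F15982) (tt N6840 (iv D10159)))
theorem Q9247 : ∀ i, i < 9247 → P i := stepQ 9246 Q9246 (allL N9246 (tt N10263 (iv F15332)) (tt N10472 (iv F15953)) (tt N10139 (iv F15031)) (tt N6858 F12870) (tt N6841 (iv D10160)))
theorem Q9248 : ∀ i, i < 9248 → P i := stepQ 9247 Q9247 (allL N9247 (tt N9920 (iv F14420)) (tt N9030 F12871) (tt N6842 (iv D10161)) (tt N10141 (iv F15034)) (tt N9918 (iv F14417)))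
theorem Q9249 : ∀ i, i < 9249 → P i := stepQ 9248 Q9248 (allL N9248 (tt N10264 (iv F15334)) (tt N10474 (iv F15960)) (tt N10141 (iv F15035)) (tt N6842 (iv D10162)) (tt N6857 F12872))

end Cfsg.Agent.Helper17.HCPTC
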