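import Cfsg.Agent.Helper17.HCPTC.Fin2

set_option autoImplicit false
set_option linter.all false
set_option maxRecDepth 100000

noncomputable section

namespace Cfsg.Agent.Helper17.HCPTC

theorem Q9250 : ∀ i, i < 9250 → P i := stepQ 9249 Q9249 (allL N9249 (tt N7721 F12873) (tt N6843 (iv D10163)) (tt N9090 F12874) (tt N7745 (iv F12875)) (tt N10515 D11434))
theorem Q9251 : ∀ i, i < 9251 → P i := stepQ 9250 Q9250 (allL N9250 (tt N10510 (iv F16061)) (tt N10468 (iv F15939)) (tt N6843 (iv D10164)) (tt N10516 D11435) (tt N10510 F16062))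
theorem Q9252 : ∀ i, i < 9252 → P i := stepQ 9251 Q9251 (allL N9251 (tt N6864 F12876) (tt N7745 F12877) (tt N10516 (iv F16080)) (tt N6843 (iv D10165)) (tt N6854 F12878))
theorem Q9253 : ∀ i, i < 9253 → P i := stepQ 9252 Q9252 (allL N9252 (tt N6844 F12879) (tt N10515 (iv F16075)) (tt N9919 (iv F14419)) (tt N6853 F12880) (tt N6843 (iv D10166)))
theorem Q9254 : ∀ i, i < 9254 → P i := stepQ 9253 Q9253 (allL N9253 (tt N10217 (iv F15219)) (tt N9603 (iv F13644)) (tt N6844 (iv D10167)) (tt N6859 F12881) (tt N10217 (iv F15222)))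
theorem Q9255 : ∀ i, i < 9255 → P i := stepQ 9254 Q9254 (allL N9254 (tt N6862 F12882) (tt N9014 F12883) (tt N10480 (iv F15980)) (tt N6847 (iv D10168)) (tt N10431 (iv F15830)))
theorem Q9256 : ∀ i, i < 9256 → P i := stepQ 9255 Q9255 (allL N9255 (tt N6856 F12886) (tt N8019 F12884) (tt N6849 F12885) (tt N6848 (iv D10169)) (tt N10516 (iv F16081)))
theorem Q9257 : ∀ i, i < 9257 → P i := stepQ 9256 Q9256 (allL N9256 (tt N6863 F12887) (tt N7109 F12888) (tt N9923 (iv F14432)) (tt N10430 (iv F15827)) (tt N6849 (iv D10170)))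
theorem Q9258 : ∀ i, i < 9258 → P i := stepQ 9257 Q9257 (allL N9257 (tt N7755 F12889) (tt N6853 F12890) (tt N7928 F12891) (tt N10515 (iv F16077)) (tt N6850 (iv D10171)))
theorem Q9259 : ∀ i, i < 9259 → P i := stepQ 9258 Q9258 (allL N9258 (tt N7748 F12895) (tt N6854 F12893) (tt N7929 F12894) (tt N6851 (iv D10172)) (tt N7745 F12896))
theorem Q9260 : ∀ i, i < 9260 → P i := stepQ 9259 Q9259 (allL N9259 (tt N6854 (iv D10173)) (tt N9106 F12898) (tt N10220 (iv F15228)) (tt N10264 (iv F15335)) (tt N6864 F12897))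
theorem Q9261 : ∀ i, i < 9261 → P i := stepQ 9260 Q9260 (allL N9260 (tt N9529 (iv F13481)) (tt N6857 F12899) (tt N9083 F12900) (tt N6855 (iv D10174)) (tt N10474 (iv F15962)))
theorem Q9262 : ∀ i, i < 9262 → P i := stepQ 9261 Q9261 (allL N9261 (tt N9803 (iv F14149)) (tt N6858 F12901) (tt N9096 F12902) (tt N10472 (iv F15954)) (tt N6855 (iv D10175)))
theorem Q9263 : ∀ i, i < 9263 → P i := stepQ 9262 Q9262 (allL N9262 (tt N10517 D11436) (tt N6856 (iv D10176)) (tt N6889 F12903) (tt N9581 F13584) (tt N10477 (iv F15970)))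
theorem Q9264 : ∀ i, i < 9264 → P i := stepQ 9263 Q9263 (allL N9263 (tt N10480 (iv F15979)) (tt N9581 (iv F13583)) (tt N6857 F12904) (tt N6856 (iv D10177)) (tt N10480 (iv F15981)))
theorem Q9265 : ∀ i, i < 9265 → P i := stepQ 9264 Q9264 (allL N9264 (tt N10516 (iv F16078)) (tt N10477 (iv F15968)) (tt N6865 F12905) (tt N10476 F15967) (tt N6856 (iv D10178)))
theorem Q9266 : ∀ i, i < 9266 → P i := stepQ 9265 Q9265 (allL N9265 (tt N9923 (iv F14430)) (tt N10000 (iv F14640)) (tt N6858 (iv D10179)) (tt N10139 (iv F15030)) (tt N9922 F14429))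
theorem Q9267 : ∀ i, i < 9267 → P i := stepQ 9266 Q9266 (allL N9266 (tt N6859 (iv D10180)) (tt N10518 D11437) (tt N6863 F12906) (tt N10511 (iv F16064)) (tt N10220 (iv F15229)))
theorem Q9268 : ∀ i, i < 9268 → P i := stepQ 9267 Q9267 (allL N9267 (tt N6861 (iv D10181)) (tt N7191 F12908) (tt N9637 (iv F13739)) (tt N9636 F13737) (tt N10077 (iv F14849)))
theorem Q9269 : ∀ i, i < 9269 → P i := stepQ 9268 Q9268 (allL N9268 (tt N9579 (iv F13576)) (tt N6862 F12909) (tt N7396 F12910) (tt N6861 (iv D10182)) (tt N9068 F12911))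
theorem Q9270 : ∀ i, i < 9270 → P i := stepQ 9269 Q9269 (allL N9269 (tt N10519 D11438) (tt N6864 (iv D10183)) (tt N8301 F12912) (tt N9135 F12913) (tt N9106 F12914))
theorem Q9271 : ∀ i, i < 9271 → P i := stepQ 9270 Q9270 (allL N9270 (tt N6866 (iv D10184)) (tt N6874 F12915) (tt N10520 D11439) (tt N10007 F14659) (tt N10021 (iv F14690)))
theorem Q9272 : ∀ i, i < 9272 → P i := stepQ 9271 Q9271 (allL N9271 (tt N8656 F12917) (tt N6866 (iv D10185)) (tt N8673 F12916) (tt N10521 D11440) (tt N8655 (iv F12918)))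
theorem Q9273 : ∀ i, i < 9273 → P i := stepQ 9272 Q9272 (allL N9272 (tt N7819 F12920) (tt N10521 (iv F16093)) (tt N6867 F12919) (tt N6866 (iv D10186)) (tt N10498 (iv F16031)))
theorem Q9274 : ∀ i, i < 9274 → P i := stepQ 9273 Q9273 (allL N9273 (tt N10021 (iv F14691)) (tt N8655 F12921) (tt N10522 D11441) (tt N10496 (iv F16027)) (tt N6866 (iv D10187)))
theorem Q9275 : ∀ i, i < 9275 → P i := stepQ 9274 Q9274 (allL N9274 (tt N10509 (iv F16057)) (tt N10523 D11442) (tt N6868 (iv D10188)) (tt N10239 (iv F15279)) (tt N10524 D11443))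
theorem Q9276 : ∀ i, i < 9276 → P i := stepQ 9275 Q9275 (allL N9275 (tt N8903 F12922) (tt N6869 (iv D10189)) (tt N8872 F12923) (tt N8866 (iv F12924)) (tt N10525 D11444))
theorem Q9277 : ∀ i, i < 9277 → P i := stepQ 9276 Q9276 (allL N9276 (tt N10520 (iv F16090)) (tt N7238 F12925) (tt N6869 (iv D10190)) (tt N10526 D11445) (tt N10527 D11446))
theorem Q9278 : ∀ i, i < 9278 → P i := stepQ 9277 Q9277 (allL N9277 (tt N10243 (iv F15290)) (tt N8866 F12926) (tt N10526 (iv F16106)) (tt N6869 (iv D10191)) (tt N10506 (iv F16052)))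
theorem Q9279 : ∀ i, i < 9279 → P i := stepQ 9278 Q9278 (allL N9278 (tt N6872 F12927) (tt N10525 (iv F16102)) (tt N9493 F14428) (tt N10505 (iv F16050)) (tt N6869 (iv D10192)))
theorem Q9280 : ∀ i, i < 9280 → P i := stepQ 9279 Q9279 (allL N9279 (tt N6871 (iv D10193)) (tt N10528 D11447) (tt N10529 D11448) (tt N10499 (iv F16032)) (tt N10409 (iv F15758)))
theorem Q9281 : ∀ i, i < 9281 → P i := stepQ 9280 Q9280 (allL N9280 (tt N10522 (iv F16096)) (tt N8520 F12928) (tt N6872 (iv D10194)) (tt N10023 F14696) (tt N10010 F14666))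
theorem Q9282 : ∀ i, i < 9282 → P i := stepQ 9281 Q9281 (allL N9281 (tt N6873 (iv D10195)) (tt N7812 F12929) (tt N10527 (iv F16111)) (tt N7811 F12930) (tt N10011 (iv F14668)))
theorem Q9283 : ∀ i, i < 9283 → P i := stepQ 9282 Q9282 (allL N9282 (tt N6876 F12931) (tt N10021 (iv F14689)) (tt N8343 F12932) (tt N10018 (iv F14684)) (tt N6874 (iv D10196)))
theorem Q9284 : ∀ i, i < 9284 → P i := stepQ 9283 Q9283 (allL N9283 (tt N6875 (iv D10197)) (tt N8656 F12933) (tt N7191 F12936) (tt N7902 F12934) (tt N8654 F12935))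
theorem Q9285 : ∀ i, i < 9285 → P i := stepQ 9284 Q9284 (allL N9284 (tt N9185 F12939) (tt N7689 F12937) (tt N6875 (iv D10198)) (tt N7688 F12938) (tt N10093 (iv F14895)))
theorem Q9286 : ∀ i, i < 9286 → P i := stepQ 9285 Q9285 (allL N9285 (tt N6877 (iv D10199)) (tt N9517 (iv F13453)) (tt N8862 F12940) (tt N7881 F12941) (tt N10287 (iv F15409)))
theorem Q9287 : ∀ i, i < 9287 → P i := stepQ 9286 Q9286 (allL N9286 (tt N10287 (iv F15407)) (tt N6878 F12942) (tt N8915 F12943) (tt N8073 F12944) (tt N6877 (iv D10200)))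
theorem Q9288 : ∀ i, i < 9288 → P i := stepQ 9287 Q9287 (allL N9287 (tt N6886 (iv D10201)) (tt N7249 F12945) (tt N10517 (iv F16082)) (tt N9690 (iv F13870)) (tt N9052 F12948))
theorem Q9289 : ∀ i, i < 9289 → P i := stepQ 9288 Q9288 (allL N9288 (tt N9637 (iv F13741)) (tt N6886 (iv D10202)) (tt N9474 (iv F13371)) (tt N9578 F13574) (tt N10082 (iv F14862)))
theorem Q9290 : ∀ i, i < 9290 → P i := stepQ 9289 Q9289 (allL N9289 (tt N9052 (iv F12947)) (tt N10082 (iv F14863)) (tt N10530 D11449) (tt N8413 F12946) (tt N6886 (iv D10203)))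
theorem Q9291 : ∀ i, i < 9291 → P i := stepQ 9290 Q9290 (allL N9290 (tt N9695 (iv F13877)) (tt N10531 D11450) (tt N6888 (iv D10204)) (tt N8411 F12949) (tt N8429 (iv F12950)))
theorem Q9292 : ∀ i, i < 9292 → P i := stepQ 9291 Q9291 (allL N9291 (tt N6995 F12951) (tt N6889 (iv D10205)) (tt N9094 F12952) (tt N7029 (iv F12954)) (tt N9047 F12953))
theorem Q9293 : ∀ i, i < 9293 → P i := stepQ 9292 Q9292 (allL N9292 (tt N9692 (iv F13873)) (tt N7029 F12955) (tt N9581 (iv F13582)) (tt N6889 (iv D10206)) (tt N8432 F12956))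
theorem Q9294 : ∀ i, i < 9294 → P i := stepQ 9293 Q9293 (allL N9293 (tt N10530 (iv F16116)) (tt N8529 F12957) (tt N6890 (iv D10207)) (tt N8194 F12958) (tt N8163 F12959))
theorem Q9295 : ∀ i, i < 9295 → P i := stepQ 9294 Q9294 (allL N9294 (tt N10453 (iv F15889)) (tt N10464 (iv F15923)) (tt N6892 (iv D10208)) (tt N8396 F12960) (tt N8386 (iv F12961)))
theorem Q9296 : ∀ i, i < 9296 → P i := stepQ 9295 Q9295 (allL N9295 (tt N9295 F12962) (tt N8441 F12963) (tt N6901 F12964) (tt N6899 F12965) (tt N6896 (iv D10209)))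
theorem Q9297 : ∀ i, i < 9297 → P i := stepQ 9296 Q9296 (allL N9296 (tt N8560 F12967) (tt N10290 (iv F15418)) (tt N6897 (iv D10210)) (tt N8551 F12966) (tt N10532 D11451))
theorem Q9298 : ∀ i, i < 9298 → P i := stepQ 9297 Q9297 (allL N9297 (tt N9297 F12968) (tt N8447 F12969) (tt N6903 F12970) (tt N7058 F12971) (tt N6898 (iv D10211)))
theorem Q9299 : ∀ i, i < 9299 → P i := stepQ 9298 Q9298 (allL N9298 (tt N6998 F12972) (tt N6906 (iv D10212)) (tt N7214 F12973) (tt N10375 (iv F15655)) (tt N9179 F12974))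
theorem Q9300 : ∀ i, i < 9300 → P i := stepQ 9299 Q9299 (allL N9299 (tt N7366 F12975) (tt N6923 F12976) (tt N7071 F12977) (tt N7071 F12978) (tt N6910 (iv D10213)))
theorem Q9301 : ∀ i, i < 9301 → P i := stepQ 9300 Q9300 (allL N9300 (tt N6929 F12979) (tt N7481 F12980) (tt N10035 (iv F14728)) (tt N10533 D11452) (tt N6911 (iv D10214)))
theorem Q9302 : ∀ i, i < 9302 → P i := stepQ 9301 Q9301 (allL N9301 (tt N6924 F12981) (tt N10348 (iv F15577)) (tt N6912 (iv D10215)) (tt N10070 (iv F14833)) (tt N10346 F15573))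
theorem Q9303 : ∀ i, i < 9303 → P i := stepQ 9302 Q9302 (allL N9302 (tt N8084 F12983) (tt N7486 F12982) (tt N10070 (iv F14832)) (tt N6912 (iv D10216)) (tt N10534 D11453))
theorem Q9304 : ∀ i, i < 9304 → P i := stepQ 9303 Q9303 (allL N9303 (tt N9150 F12984) (tt N10535 D11454) (tt N6914 (iv D10217)) (tt N10042 (iv F14741)) (tt N10536 D11455))
theorem Q9305 : ∀ i, i < 9305 → P i := stepQ 9304 Q9304 (allL N9304 (tt N10533 (iv F16125)) (tt N9615 F13673) (tt N10042 (iv F14742)) (tt N6914 (iv D10218)) (tt N7072 F12991))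
theorem Q9306 : ∀ i, i < 9306 → P i := stepQ 9305 Q9305 (allL N9305 (tt N9455 (iv F13311)) (tt N6915 (iv D10219)) (tt N10537 D11456) (tt N10538 D11457) (tt N9454 (iv F13310)))
theorem Q9307 : ∀ i, i < 9307 → P i := stepQ 9306 Q9306 (allL N9306 (tt N9169 F12986) (tt N10538 (iv F16141)) (tt N6916 F12985) (tt N6915 (iv D10220)) (tt N10539 D11458))
theorem Q9308 : ∀ i, i < 9308 → P i := stepQ 9307 Q9307 (allL N9307 (tt N6926 F12987) (tt N9454 (iv F13309)) (tt N6921 F12988) (tt N10536 (iv F16137)) (tt N6915 (iv D10221)))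
theorem Q9309 : ∀ i, i < 9309 → P i := stepQ 9308 Q9308 (allL N9308 (tt N9492 (iv F13402)) (tt N10097 (iv F14909)) (tt N6923 F12989) (tt N7072 (iv F12990)) (tt N6916 (iv D10222)))
theorem Q9310 : ∀ i, i < 9310 → P i := stepQ 9309 Q9309 (allL N9309 (tt N6917 (iv D10223)) (tt N7236 F12993) (tt N7829 F12992) (tt N7884 (iv F12994)) (tt N9963 (iv F14538)))
theorem Q9311 : ∀ i, i < 9311 → P i := stepQ 9310 Q9310 (allL N9310 (tt N8286 F12995) (tt N6917 (iv D10224)) (tt N9350 (iv F13088)) (tt N7250 F12996) (tt N9004 (iv F12997)))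
theorem Q9312 : ∀ i, i < 9312 → P i := stepQ 9311 Q9311 (allL N9311 (tt N9963 (iv F14536)) (tt N9004 F12998) (tt N10536 (iv F16136)) (tt N6921 F13011) (tt N6917 (iv D10225)))
theorem Q9313 : ∀ i, i < 9313 → P i := stepQ 9312 Q9312 (allL N9312 (tt N6939 F12999) (tt N9696 (iv F13879)) (tt N10116 (iv F14974)) (tt N6918 (iv D10226)) (tt N10540 D11459))
theorem Q9314 : ∀ i, i < 9314 → P i := stepQ 9313 Q9313 (allL N9313 (tt N6921 F13000) (tt N9033 F13001) (tt N10346 (iv F15572)) (tt N10541 D11460) (tt N6918 (iv D10227)))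
theorem Q9315 : ∀ i, i < 9315 → P i := stepQ 9314 Q9314 (allL N9314 (tt N8285 F13002) (tt N9348 (iv F13086)) (tt N6919 (iv D10228)) (tt N9405 (iv F13229)) (tt N8284 (iv F13003)))
theorem Q9316 : ∀ i, i < 9316 → P i := stepQ 9315 Q9315 (allL N9315 (tt N8291 F13004) (tt N6920 F13005) (tt N9405 (iv F13228)) (tt N6919 (iv D10229)) (tt N9009 (iv F13006)))
theorem Q9317 : ∀ i, i < 9317 → P i := stepQ 9316 Q9316 (allL N9316 (tt N9064 F13007) (tt N6921 F13008) (tt N9004 F13009) (tt N9004 F13010) (tt N6919 (iv D10230)))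
theorem Q9318 : ∀ i, i < 9318 → P i := stepQ 9317 Q9317 (allL N9317 (tt N6920 (iv D10231)) (tt N7248 F13012) (tt N7831 F13013) (tt N7830 (iv F13014)) (tt N9965 (iv F14543)))
theorem Q9319 : ∀ i, i < 9319 → P i := stepQ 9318 Q9318 (allL N9318 (tt N9965 (iv F14541)) (tt N9009 F13015) (tt N10539 (iv F16145)) (tt N7251 F13016) (tt N6920 (iv D10232)))
theorem Q9320 : ∀ i, i < 9320 → P i := stepQ 9319 Q9319 (allL N9319 (tt N6935 F13017) (tt N10337 (iv F15549)) (tt N6922 (iv D10233)) (tt N8594 F13018) (tt N10336 F15547))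
theorem Q9321 : ∀ i, i < 9321 → P i := stepQ 9320 Q9320 (allL N9320 (tt N10346 (iv F15571)) (tt N8977 F13019) (tt N6936 F13020) (tt N9155 (iv F13021)) (tt N6924 (iv D10234)))
theorem Q9322 : ∀ i, i < 9322 → P i := stepQ 9321 Q9321 (allL N9321 (tt N7352 F13022) (tt N10025 (iv F14701)) (tt N6925 (iv D10235)) (tt N10024 F14700) (tt N8517 F13023))
theorem Q9323 : ∀ i, i < 9323 → P i := stepQ 9322 Q9322 (allL N9322 (tt N7263 F13024) (tt N6944 F13027) (tt N6927 (iv D10236)) (tt N7080 F13025) (tt N6941 F13026))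
theorem Q9324 : ∀ i, i < 9324 → P i := stepQ 9323 Q9323 (allL N9323 (tt N7828 F13028) (tt N8081 F13029) (tt N10073 (iv F14838)) (tt N8084 F13030) (tt N6928 (iv D10237)))
theorem Q9325 : ∀ i, i < 9325 → P i := stepQ 9324 Q9324 (allL N9324 (tt N9479 (iv F13381)) (tt N8082 F13031) (tt N10040 (iv F14737)) (tt N6929 (iv D10238)) (tt N10542 D11461))
theorem Q9326 : ∀ i, i < 9326 → P i := stepQ 9325 Q9325 (allL N9325 (tt N7830 F13033) (tt N9569 (iv F13565)) (tt N6930 (iv D10239)) (tt N6939 F13032) (tt N10543 D11462))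
theorem Q9327 : ∀ i, i < 9327 → P i := stepQ 9326 Q9326 (allL N9326 (tt N6931 (iv D10240)) (tt N9690 (iv F13869)) (tt N9966 (iv F14546)) (tt N7249 F13034) (tt N10541 (iv F16151)))
theorem Q9328 : ∀ i, i < 9328 → P i := stepQ 9327 Q9327 (allL N9327 (tt N7884 F13035) (tt N9575 (iv F13572)) (tt N6932 F13036) (tt N6931 (iv D10241)) (tt N10544 D11463))
theorem Q9329 : ∀ i, i < 9329 → P i := stepQ 9328 Q9328 (allL N9328 (tt N10541 (iv F16152)) (tt N8936 F13037) (tt N10041 (iv F14739)) (tt N10543 (iv F16159)) (tt N6931 (iv D10242)))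
theorem Q9330 : ∀ i, i < 9330 → P i := stepQ 9329 Q9329 (allL N9329 (tt N8607 F13038) (tt N7081 F13039) (tt N10542 (iv F16156)) (tt N6940 F13040) (tt N6932 (iv D10243)))
theorem Q9331 : ∀ i, i < 9331 → P i := stepQ 9330 Q9330 (allL N9330 (tt N8611 F13041) (tt N9632 (iv F13725)) (tt N7883 F13042) (tt N6933 (iv D10244)) (tt N10423 (iv F15805)))
theorem Q9332 : ∀ i, i < 9332 → P i := stepQ 9331 Q9331 (allL N9331 (tt N10116 (iv F14972)) (tt N7646 F13046) (tt N6937 (iv D10245)) (tt N7827 F13045) (tt N10065 (iv F14816)))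
theorem Q9333 : ∀ i, i < 9333 → P i := stepQ 9332 Q9332 (allL N9332 (tt N8594 F13043) (tt N9620 (iv F13691)) (tt N7827 (iv F13044)) (tt N6937 (iv D10246)) (tt N10418 (iv F15788)))
theorem Q9334 : ∀ i, i < 9334 → P i := stepQ 9333 Q9333 (allL N9333 (tt N7259 F13047) (tt N6964 F13050) (tt N6938 (iv D10247)) (tt N7074 F13048) (tt N6961 F13049))
theorem Q9335 : ∀ i, i < 9335 → P i := stepQ 9334 Q9334 (allL N9334 (tt N7257 F13051) (tt N6940 F13052) (tt N9334 F13053) (tt N7081 F13054) (tt N6938 (iv D10248)))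
theorem Q9336 : ∀ i, i < 9336 → P i := stepQ 9335 Q9335 (allL N9335 (tt N10540 (iv F16147)) (tt N8937 F13055) (tt N10074 (iv F14840)) (tt N10544 (iv F16162)) (tt N6939 (iv D10249)))
theorem Q9337 : ∀ i, i < 9337 → P i := stepQ 9336 Q9336 (allL N9336 (tt N10534 (iv F16129)) (tt N8085 F13057) (tt N6940 (iv D10250)) (tt N10542 (iv F16155)) (tt N8084 F13056))
theorem Q9338 : ∀ i, i < 9338 → P i := stepQ 9337 Q9337 (allL N9337 (tt N6942 (iv D10251)) (tt N7488 F13058) (tt N10408 (iv F15756)) (tt N7064 F13059) (tt N9985 (iv F14599)))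
theorem Q9339 : ∀ i, i < 9339 → P i := stepQ 9338 Q9338 (allL N9338 (tt N8869 F13060) (tt N8920 F13061) (tt N6943 F13062) (tt N6942 (iv D10252)) (tt N9992 (iv F14620)))
theorem Q9340 : ∀ i, i < 9340 → P i := stepQ 9339 Q9339 (allL N9339 (tt N8596 F13063) (tt N7074 F13064) (tt N10545 D11464) (tt N6964 F13065) (tt N6943 (iv D10253)))
theorem Q9341 : ∀ i, i < 9341 → P i := stepQ 9340 Q9340 (allL N9340 (tt N9687 (iv F13865)) (tt N8174 F13066) (tt N6944 (iv D10254)) (tt N10546 D11465) (tt N8172 F13067))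
theorem Q9342 : ∀ i, i < 9342 → P i := stepQ 9341 Q9341 (allL N9341 (tt N8606 F13068) (tt N7080 F13069) (tt N10546 (iv F16169)) (tt N6944 (iv D10255)) (tt N6963 F13070))
theorem Q9343 : ∀ i, i < 9343 → P i := stepQ 9342 Q9342 (allL N9342 (tt N6962 F13072) (tt N7491 F13071) (tt N10341 (iv F15560)) (tt N6950 (iv D10256)) (tt N9990 (iv F14614)))
theorem Q9344 : ∀ i, i < 9344 → P i := stepQ 9343 Q9343 (allL N9343 (tt N6953 F13073) (tt N10437 (iv F15847)) (tt N9160 F13074) (tt N9985 (iv F14600)) (tt N6950 (iv D10257)))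
theorem Q9345 : ∀ i, i < 9345 → P i := stepQ 9344 Q9344 (allL N9344 (tt N8642 F13075) (tt N6953 F13076) (tt N8277 F13077) (tt N8282 F13078) (tt N6951 (iv D10258)))
theorem Q9346 : ∀ i, i < 9346 → P i := stepQ 9345 Q9345 (allL N9345 (tt N9499 (iv F13415)) (tt N8281 F13079) (tt N10547 D11466) (tt N7067 F13084) (tt N6952 (iv D10259)))
theorem Q9347 : ∀ i, i < 9347 → P i := stepQ 9346 Q9346 (allL N9346 (tt N6960 F13080) (tt N10548 D11467) (tt N6953 (iv D10260)) (tt N10549 D11468) (tt N8523 (iv F13081)))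
theorem Q9348 : ∀ i, i < 9348 → P i := stepQ 9347 Q9347 (allL N9347 (tt N9502 (iv F13421)) (tt N8282 F13082) (tt N10549 (iv F16177)) (tt N6953 (iv D10261)) (tt N7066 (iv F13083)))
theorem Q9349 : ∀ i, i < 9349 → P i := stepQ 9348 Q9348 (allL N9348 (tt N7231 F13085) (tt N9314 F13086) (tt N6954 (iv D10262)) (tt N7068 F13087) (tt N9962 (iv F14534)))
theorem Q9350 : ∀ i, i < 9350 → P i := stepQ 9349 Q9349 (allL N9349 (tt N6955 (iv D10263)) (tt N9689 (iv F13868)) (tt N10342 (iv F15564)) (tt N9687 F13866) (tt N10117 F14977))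
theorem Q9351 : ∀ i, i < 9351 → P i := stepQ 9350 Q9350 (allL N9350 (tt N9810 (iv F14164)) (tt N6955 (iv D10264)) (tt N9310 F13088) (tt N9522 (iv F13466)) (tt N10098 (iv F14913)))
theorem Q9352 : ∀ i, i < 9352 → P i := stepQ 9351 Q9351 (allL N9351 (tt N7237 (iv F13090)) (tt N9522 (iv F13465)) (tt N6956 F13089) (tt N6955 (iv D10265)) (tt N10099 (iv F14917)))
theorem Q9353 : ∀ i, i < 9353 → P i := stepQ 9352 Q9352 (allL N9352 (tt N10117 (iv F14975)) (tt N10098 F14914) (tt N8523 F13091) (tt N9962 (iv F14535)) (tt N6955 (iv D10266)))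
theorem Q9354 : ∀ i, i < 9354 → P i := stepQ 9353 Q9353 (allL N9353 (tt N10341 (iv F15561)) (tt N7674 (iv F14009)) (tt N6959 (iv D10267)) (tt N10550 D11469) (tt N9774 (iv F14085)))
theorem Q9355 : ∀ i, i < 9355 → P i := stepQ 9354 Q9354 (allL N9354 (tt N8605 F13092) (tt N7675 F13093) (tt N10550 (iv F16180)) (tt N6959 (iv D10268)) (tt N10417 (iv F15785)))
theorem Q9356 : ∀ i, i < 9356 → P i := stepQ 9355 Q9355 (allL N9355 (tt N7261 F13094) (tt N6963 F13095) (tt N9355 F13096) (tt N6961 (iv D10269)) (tt N7080 F13097))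
theorem Q9357 : ∀ i, i < 9357 → P i := stepQ 9356 Q9356 (allL N9356 (tt N9498 (iv F13413)) (tt N9988 (iv F14606)) (tt N6963 F13098) (tt N6962 (iv D10270)) (tt N9987 (iv F14605)))
theorem Q9358 : ∀ i, i < 9358 → P i := stepQ 9357 Q9357 (allL N9357 (tt N9693 (iv F13875)) (tt N8184 F13099) (tt N6964 (iv D10271)) (tt N10545 (iv F16165)) (tt N8182 F13100))
theorem Q9359 : ∀ i, i < 9359 → P i := stepQ 9358 Q9358 (allL N9358 (tt N6966 (iv D10272)) (tt N10499 (iv F16033)) (tt N8781 F13101) (tt N10528 (iv F16113)) (tt N10551 D11470))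
theorem Q9360 : ∀ i, i < 9360 → P i := stepQ 9359 Q9359 (allL N9359 (tt N10552 D11471) (tt N6966 (iv D10273)) (tt N7424 F13102) (tt N7551 F13103) (tt N10367 (iv F15630)))
theorem Q9361 : ∀ i, i < 9361 → P i := stepQ 9360 Q9360 (allL N9360 (tt N10551 (iv F16182)) (tt N10367 (iv F15628)) (tt N8786 F13104) (tt N8778 F13105) (tt N6966 (iv D10274)))
theorem Q9362 : ∀ i, i < 9362 → P i := stepQ 9361 Q9361 (allL N9361 (tt N6972 F13108) (tt N9361 F13109) (tt N8817 (iv F13110)) (tt N8816 F13111) (tt N6971 (iv D10275)))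
theorem Q9363 : ∀ i, i < 9363 → P i := stepQ 9362 Q9362 (allL N9362 (tt N8804 F13114) (tt N8489 F13115) (tt N6972 (iv D10276)) (tt N7050 F13112) (tt N8140 F13113))
theorem Q9364 : ∀ i, i < 9364 → P i := stepQ 9363 Q9363 (allL N9363 (tt N8807 F13116) (tt N8483 F13117) (tt N6974 F13118) (tt N6973 (iv D10277)) (tt N8106 (iv F13119)))
theorem Q9365 : ∀ i, i < 9365 → P i := stepQ 9364 Q9364 (allL N9364 (tt N8786 F13120) (tt N8524 F13121) (tt N6981 F13122) (tt N8140 (iv F13123)) (tt N6973 (iv D10278)))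
theorem Q9366 : ∀ i, i < 9366 → P i := stepQ 9365 Q9365 (allL N9365 (tt N6974 (iv D10279)) (tt N9365 F13124) (tt N8810 F13127) (tt N8796 F13126) (tt N7049 F13125))
theorem Q9367 : ∀ i, i < 9367 → P i := stepQ 9366 Q9366 (allL N9366 (tt N10507 (iv F16053)) (tt N9670 (iv F13829)) (tt N6976 (iv D10280)) (tt N8801 F13128) (tt N10413 (iv F15770)))
theorem Q9368 : ∀ i, i < 9368 → P i := stepQ 9367 Q9367 (allL N9367 (tt N6981 F13129) (tt N7889 F13130) (tt N8814 F13131) (tt N7891 (iv F13132)) (tt N6978 (iv D10281)))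
theorem Q9369 : ∀ i, i < 9369 → P i := stepQ 9368 Q9368 (allL N9368 (tt N10528 (iv F16112)) (tt N9629 (iv F13718)) (tt N6982 (iv D10282)) (tt N8799 F13133) (tt N10410 (iv F15759)))
theorem Q9370 : ∀ i, i < 9370 → P i := stepQ 9369 Q9369 (allL N9369 (tt N7010 F13134) (tt N7950 F13135) (tt N9586 (iv F13593)) (tt N7018 F13136) (tt N6985 (iv D10283)))
theorem Q9371 : ∀ i, i < 9371 → P i := stepQ 9370 Q9370 (allL N9370 (tt N6989 F13137) (tt N9031 F13138) (tt N9024 F13139) (tt N7021 F13140) (tt N6988 (iv D10284)))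
theorem Q9372 : ∀ i, i < 9372 → P i := stepQ 9371 Q9371 (allL N9371 (tt N10443 (iv F15864)) (tt N9164 F13141) (tt N6989 (iv D10285)) (tt N7040 F13142) (tt N10224 (iv F15240)))
theorem Q9373 : ∀ i, i < 9373 → P i := stepQ 9372 Q9372 (allL N9372 (tt N10349 (iv F15578)) (tt N6990 (iv D10286)) (tt N9168 F13143) (tt N9167 (iv F13144)) (tt N10223 (iv F15237)))
theorem Q9374 : ∀ i, i < 9374 → P i := stepQ 9373 Q9373 (allL N9373 (tt N10449 (iv F15879)) (tt N9167 F13145) (tt N6991 F13146) (tt N6990 (iv D10287)) (tt N10226 (iv F15245)))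
theorem Q9375 : ∀ i, i < 9375 → P i := stepQ 9374 Q9374 (allL N9374 (tt N6991 (iv D10288)) (tt N9098 F13147) (tt N9048 F13150) (tt N7024 F13148) (tt N7020 F13149))
theorem Q9376 : ∀ i, i < 9376 → P i := stepQ 9375 Q9375 (allL N9375 (tt N9022 F13151) (tt N8831 F13152) (tt N10224 (iv F15239)) (tt N6996 (iv F13153)) (tt N6992 (iv D10289)))
theorem Q9377 : ∀ i, i < 9377 → P i := stepQ 9376 Q9376 (allL N9376 (tt N6994 (iv D10290)) (tt N8753 (iv F13156)) (tt N9810 (iv F14165)) (tt N8757 F13154) (tt N8752 F13155))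
theorem Q9378 : ∀ i, i < 9378 → P i := stepQ 9377 Q9377 (allL N9377 (tt N8752 F13159) (tt N6996 F13160) (tt N8831 F13161) (tt N8831 F13162) (tt N6994 (iv D10291)))
theorem Q9379 : ∀ i, i < 9379 → P i := stepQ 9378 Q9378 (allL N9378 (tt N9047 F13163) (tt N8835 F13164) (tt N10226 (iv F15244)) (tt N7045 F13165) (tt N6995 (iv D10292)))
theorem Q9380 : ∀ i, i < 9380 → P i := stepQ 9379 Q9379 (allL N9379 (tt N6999 F13166) (tt N8749 F13167) (tt N10553 D11472) (tt N10247 (iv F15294)) (tt N6997 (iv D10293)))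
theorem Q9381 : ∀ i, i < 9381 → P i := stepQ 9380 Q9380 (allL N9380 (tt N7008 (iv D10294)) (tt N10473 (iv F15956)) (tt N7010 F13168) (tt N7022 F13169) (tt N10218 (iv F15224)))
theorem Q9382 : ∀ i, i < 9382 → P i := stepQ 9381 Q9381 (allL N9381 (tt N7011 (iv D10295)) (tt N9113 F13170) (tt N9626 (iv F13705)) (tt N7043 F13171) (tt N9959 (iv F14528)))
theorem Q9383 : ∀ i, i < 9383 → P i := stepQ 9382 Q9382 (allL N9382 (tt N9959 (iv F14525)) (tt N8845 F13172) (tt N10218 (iv F15223)) (tt N7030 F13173) (tt N7011 (iv D10296)))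
theorem Q9384 : ∀ i, i < 9384 → P i := stepQ 9383 Q9383 (allL N9383 (tt N7031 F13174) (tt N9084 F13175) (tt N7027 F13177) (tt N9082 F13176) (tt N7019 (iv D10297)))
theorem Q9385 : ∀ i, i < 9385 → P i := stepQ 9384 Q9384 (allL N9384 (tt N7022 (iv D10298)) (tt N10205 (iv F15181)) (tt N7025 F13178) (tt N10443 (iv F15867)) (tt N9628 (iv F13715)))
theorem Q9386 : ∀ i, i < 9386 → P i := stepQ 9385 Q9385 (allL N9385 (tt N7023 (iv D10299)) (tt N10198 (iv F15167)) (tt N7032 F13179) (tt N10449 (iv F15882)) (tt N9627 (iv F13711)))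
theorem Q9387 : ∀ i, i < 9387 → P i := stepQ 9386 Q9386 (allL N9386 (tt N9627 (iv F13708)) (tt N10361 (iv F15608)) (tt N7030 F13180) (tt N10218 (iv F15225)) (tt N7023 (iv D10300)))
theorem Q9388 : ∀ i, i < 9388 → P i := stepQ 9387 Q9387 (allL N9387 (tt N7028 F13181) (tt N8407 F13182) (tt N9018 F13183) (tt N9047 F13184) (tt N7027 (iv D10301)))
theorem Q9389 : ∀ i, i < 9389 → P i := stepQ 9388 Q9388 (allL N9388 (tt N7030 F13185) (tt N8432 F13186) (tt N9023 F13187) (tt N9022 F13188) (tt N7029 (iv D10302)))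
theorem Q9390 : ∀ i, i < 9390 → P i := stepQ 9389 Q9389 (allL N9389 (tt N7035 F13189) (tt N8763 F13190) (tt N10554 D11473) (tt N10253 (iv F15312)) (tt N7033 (iv D10303)))
theorem Q9391 : ∀ i, i < 9391 → P i := stepQ 9390 Q9390 (allL N9390 (tt N10352 (iv F15588)) (tt N7040 (iv D10304)) (tt N9165 F13191) (tt N9164 F13192) (tt N10225 (iv F15242)))
theorem Q9392 : ∀ i, i < 9392 → P i := stepQ 9391 Q9391 (allL N9391 (tt N7044 (iv D10305)) (tt N8759 (iv F13195)) (tt N9828 (iv F14206)) (tt N8973 F13193) (tt N8756 F13194))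
theorem Q9393 : ∀ i, i < 9393 → P i := stepQ 9392 Q9392 (allL N9392 (tt N8756 F13196) (tt N7045 F13197) (tt N8835 F13198) (tt N8835 F13199) (tt N7044 (iv D10306)))
theorem Q9394 : ∀ i, i < 9394 → P i := stepQ 9393 Q9393 (allL N9393 (tt N7046 (iv D10307)) (tt N10509 (iv F16058)) (tt N8794 F13200) (tt N10507 F16055) (tt N10555 D11474))
theorem Q9395 : ∀ i, i < 9395 → P i := stepQ 9394 Q9394 (allL N9394 (tt N10556 D11475) (tt N7046 (iv D10308)) (tt N7431 F13201) (tt N7430 F13202) (tt N10425 (iv F15811)))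
theorem Q9396 : ∀ i, i < 9396 → P i := stepQ 9395 Q9395 (allL N9395 (tt N10555 (iv F16193)) (tt N10425 (iv F15809)) (tt N8792 F13203) (tt N8959 F13204) (tt N7046 (iv D10309)))
theorem Q9397 : ∀ i, i < 9397 → P i := stepQ 9396 Q9396 (allL N9396 (tt N8792 F13205) (tt N8530 F13206) (tt N7053 F13207) (tt N8106 F13208) (tt N7050 (iv D10310)))
theorem Q9398 : ∀ i, i < 9398 → P i := stepQ 9397 Q9397 (allL N9397 (tt N7053 F13209) (tt N7892 F13210) (tt N8813 F13211) (tt N7908 F13212) (tt N7051 (iv D10311)))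
theorem Q9399 : ∀ i, i < 9399 → P i := stepQ 9398 Q9398 (allL N9398 (tt N10459 (iv F15908)) (tt N10461 (iv F15915)) (tt N10557 D11476) (tt N8401 F13213) (tt N7054 (iv D10312)))
theorem Q9400 : ∀ i, i < 9400 → P i := stepQ 9399 Q9399 (allL N9399 (tt N10557 (iv F16201)) (tt N8522 F13214) (tt N7055 (iv D10313)) (tt N8138 F13215) (tt N8102 F13216))
theorem Q9401 : ∀ i, i < 9401 → P i := stepQ 9400 Q9400 (allL N9400 (tt N7060 F13217) (tt N9053 F13218) (tt N7059 F13219) (tt N8197 F13220) (tt N7056 (iv D10314)))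
theorem Q9402 : ∀ i, i < 9402 → P i := stepQ 9401 Q9401 (allL N9401 (tt N7067 F13221) (tt N10459 (iv F15909)) (tt N9175 F13222) (tt N9990 (iv F14615)) (tt N7064 (iv D10315)))
theorem Q9403 : ∀ i, i < 9403 → P i := stepQ 9402 Q9402 (allL N9402 (tt N8644 F13223) (tt N7067 F13224) (tt N8278 F13226) (tt N8281 F13225) (tt N7065 (iv D10316)))
theorem Q9404 : ∀ i, i < 9404 → P i := stepQ 9403 Q9403 (allL N9403 (tt N7070 F13227) (tt N10558 D11477) (tt N7067 (iv D10317)) (tt N10547 (iv F16172)) (tt N10044 (iv F14747)))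
theorem Q9405 : ∀ i, i < 9405 → P i := stepQ 9404 Q9404 (allL N9404 (tt N7068 (iv D10318)) (tt N9695 (iv F13878)) (tt N10355 (iv F15597)) (tt N9693 F13876) (tt N10126 F14996))
theorem Q9406 : ∀ i, i < 9406 → P i := stepQ 9405 Q9405 (allL N9405 (tt N9828 (iv F14205)) (tt N7068 (iv D10319)) (tt N9315 F13228) (tt N9314 F13229) (tt N10100 (iv F14920)))
theorem Q9407 : ∀ i, i < 9407 → P i := stepQ 9406 Q9406 (allL N9406 (tt N10126 (iv F14994)) (tt N10100 F14921) (tt N10044 (iv F14748)) (tt N10099 F14918) (tt N7068 (iv D10320)))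
theorem Q9408 : ∀ i, i < 9408 → P i := stepQ 9407 Q9407 (allL N9407 (tt N7072 (iv D10321)) (tt N10453 (iv F15890)) (tt N10127 (iv F14999)) (tt N10534 (iv F16131)) (tt N10533 F16128))
theorem Q9409 : ∀ i, i < 9409 → P i := stepQ 9408 Q9408 (allL N9408 (tt N9616 (iv F13675)) (tt N7072 (iv D10322)) (tt N10097 (iv F14910)) (tt N10097 (iv F14911)) (tt N9615 (iv F13674)))
theorem Q9410 : ∀ i, i < 9410 → P i := stepQ 9409 Q9409 (allL N9409 (tt N10559 D11478) (tt N7082 (iv D10323)) (tt N9951 (iv F14506)) (tt N9635 (iv F13733)) (tt N10560 D11479))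
theorem Q9411 : ∀ i, i < 9411 → P i := stepQ 9410 Q9410 (allL N9410 (tt N7123 F13230) (tt N10560 (iv F16207)) (tt N7102 F13231) (tt N7583 F13232) (tt N7082 (iv D10324)))
theorem Q9412 : ∀ i, i < 9412 → P i := stepQ 9411 Q9411 (allL N9411 (tt N7087 F13233) (tt N10202 (iv F15175)) (tt N7099 F13234) (tt N8608 (iv F13235)) (tt N7084 (iv D10325)))
theorem Q9413 : ∀ i, i < 9413 → P i := stepQ 9412 Q9412 (allL N9412 (tt N7085 (iv D10326)) (tt N10561 D11480) (tt N9412 F13236) (tt N10562 D11481) (tt N9553 (iv F13530)))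
theorem Q9414 : ∀ i, i < 9414 → P i := stepQ 9413 Q9413 (allL N9413 (tt N9552 (iv F13526)) (tt N7086 F13237) (tt N8851 F13238) (tt N7085 (iv D10327)) (tt N9551 (iv F13525)))
theorem Q9415 : ∀ i, i < 9415 → P i := stepQ 9414 Q9414 (allL N9414 (tt N7146 F13239) (tt N9551 (iv F13522)) (tt N7108 F13240) (tt N7091 F13241) (tt N7086 (iv D10328)))
theorem Q9416 : ∀ i, i < 9416 → P i := stepQ 9415 Q9415 (allL N9415 (tt N7089 (iv D10329)) (tt N10563 D11482) (tt N9415 F13242) (tt N10564 D11483) (tt N9883 (iv F14331)))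
theorem Q9417 : ∀ i, i < 9417 → P i := stepQ 9416 Q9416 (allL N9416 (tt N7091 F13244) (tt N10201 (iv F15173)) (tt N7119 F13245) (tt N10237 (iv F15276)) (tt N7090 (iv D10331)))
theorem Q9418 : ∀ i, i < 9418 → P i := stepQ 9417 Q9417 (allL N9417 (tt N10565 D11484) (tt N7092 (iv D10332)) (tt N9952 (iv F14509)) (tt N7582 F13246) (tt N10566 D11485))
theorem Q9419 : ∀ i, i < 9419 → P i := stepQ 9418 Q9418 (allL N9418 (tt N7125 F13247) (tt N10566 (iv F16225)) (tt N7117 F13248) (tt N10426 (iv F15815)) (tt N7092 (iv D10333)))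
theorem Q9420 : ∀ i, i < 9420 → P i := stepQ 9419 Q9419 (allL N9419 (tt N7095 F13249) (tt N9419 F13250) (tt N9730 (iv F13960)) (tt N10340 (iv F15557)) (tt N7094 (iv D10334)))
theorem Q9421 : ∀ i, i < 9421 → P i := stepQ 9420 Q9420 (allL N9420 (tt N9729 (iv F13957)) (tt N8041 (iv F13252)) (tt N7095 (iv D10335)) (tt N8040 F13251) (tt N10465 (iv F15930)))
theorem Q9422 : ∀ i, i < 9422 → P i := stepQ 9421 Q9421 (allL N9421 (tt N7097 (iv D10336)) (tt N10567 D11486) (tt N10102 (iv F14929)) (tt N10261 (iv F15328)) (tt N10568 D11487))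
theorem Q9423 : ∀ i, i < 9423 → P i := stepQ 9422 Q9422 (allL N9422 (tt N10569 D11488) (tt N8004 F13253) (tt N7097 (iv D10337)) (tt N8033 F13254) (tt N8000 F13255))
theorem Q9424 : ∀ i, i < 9424 → P i := stepQ 9423 Q9423 (allL N9423 (tt N10568 (iv F16231)) (tt N7099 F13256) (tt N9945 (iv F14488)) (tt N8609 F13257) (tt N7097 (iv D10338)))
theorem Q9425 : ∀ i, i < 9425 → P i := stepQ 9424 Q9424 (allL N9424 (tt N7166 F13258) (tt N8946 F13259) (tt N10237 (iv F15275)) (tt N7119 F13260) (tt N7098 (iv D10339)))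
theorem Q9426 : ∀ i, i < 9426 → P i := stepQ 9425 Q9425 (allL N9425 (tt N9702 (iv F13896)) (tt N9947 (iv F14495)) (tt N7100 (iv D10340)) (tt N9723 (iv F13941)) (tt N9702 F13897))
theorem Q9427 : ∀ i, i < 9427 → P i := stepQ 9426 Q9426 (allL N9426 (tt N9698 (iv F13885)) (tt N7102 F13261) (tt N10570 D11489) (tt N9714 (iv F13919)) (tt N7100 (iv D10341)))
theorem Q9428 : ∀ i, i < 9428 → P i := stepQ 9427 Q9427 (allL N9427 (tt N7162 F13262) (tt N9726 (iv F13946)) (tt N10426 (iv F15814)) (tt N7117 F13263) (tt N7101 (iv D10342)))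
theorem Q9429 : ∀ i, i < 9429 → P i := stepQ 9428 Q9428 (allL N9428 (tt N7157 F13264) (tt N9714 (iv F13918)) (tt N7583 F13265) (tt N7102 (iv D10343)) (tt N7116 F13266))
theorem Q9430 : ∀ i, i < 9430 → P i := stepQ 9429 Q9429 (allL N9429 (tt N9697 (iv F13881)) (tt N7103 (iv D10344)) (tt N9568 (iv F13563)) (tt N9567 F13561) (tt N10076 (iv F14846)))
theorem Q9431 : ∀ i, i < 9431 → P i := stepQ 9430 Q9430 (allL N9430 (tt N9526 (iv F13477)) (tt N9567 (iv F13560)) (tt N9849 (iv F14257)) (tt N7103 (iv D10345)) (tt N10571 D11490))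
theorem Q9432 : ∀ i, i < 9432 → P i := stepQ 9431 Q9431 (allL N9431 (tt N7106 F13267) (tt N10076 (iv F14843)) (tt N10412 (iv F15766)) (tt N10572 D11491) (tt N7103 (iv D10346)))
theorem Q9433 : ∀ i, i < 9433 → P i := stepQ 9432 Q9432 (allL N9432 (tt N7104 (iv D10347)) (tt N10573 D11492) (tt N9816 (iv F14179)) (tt N10574 D11493) (tt N10412 (iv F15767)))
theorem Q9434 : ∀ i, i < 9434 → P i := stepQ 9433 Q9433 (allL N9433 (tt N9625 (iv F13701)) (tt N8848 F13268) (tt N7105 F13269) (tt N7104 (iv D10348)) (tt N10372 (iv F15643)))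
theorem Q9435 : ∀ i, i < 9435 → P i := stepQ 9434 Q9434 (allL N9434 (tt N7105 (iv D10349)) (tt N10428 (iv F15821)) (tt N8121 F13270) (tt N8130 F13271) (tt N10373 (iv F15649)))
theorem Q9436 : ∀ i, i < 9436 → P i := stepQ 9435 Q9435 (allL N9435 (tt N10373 (iv F15646)) (tt N7108 F13272) (tt N8120 F13274) (tt N7114 F13273) (tt N7105 (iv D10350)))
theorem Q9437 : ∀ i, i < 9437 → P i := stepQ 9436 Q9436 (allL N9436 (tt N7108 F13279) (tt N10430 (iv F15826)) (tt N8979 F13280) (tt N7109 F13281) (tt N7107 (iv D10351)))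
theorem Q9438 : ∀ i, i < 9438 → P i := stepQ 9437 Q9437 (allL N9437 (tt N7112 (iv D10352)) (tt N10575 D11494) (tt N9817 (iv F14180)) (tt N10576 D11495) (tt N10577 D11496))
theorem Q9439 : ∀ i, i < 9439 → P i := stepQ 9438 Q9438 (allL N9438 (tt N10577 (iv F16262)) (tt N8867 F13282) (tt N9818 (iv F14182)) (tt N10372 (iv F15645)) (tt N7112 (iv D10353)))
theorem Q9440 : ∀ i, i < 9440 → P i := stepQ 9439 Q9439 (allL N9439 (tt N9718 (iv F13928)) (tt N7113 (iv D10354)) (tt N9580 (iv F13580)) (tt N9579 F13578) (tt N10078 (iv F14853)))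
theorem Q9441 : ∀ i, i < 9441 → P i := stepQ 9440 Q9440 (allL N9440 (tt N9530 (iv F13483)) (tt N9579 (iv F13577)) (tt N9851 (iv F14264)) (tt N7113 (iv D10355)) (tt N10572 (iv F16249)))
theorem Q9442 : ∀ i, i < 9442 → P i := stepQ 9441 Q9441 (allL N9441 (tt N7114 F13283) (tt N10078 (iv F14851)) (tt N10577 (iv F16265)) (tt N10571 (iv F16245)) (tt N7113 (iv D10356)))
theorem Q9443 : ∀ i, i < 9443 → P i := stepQ 9442 Q9442 (allL N9442 (tt N9722 (iv F13938)) (tt N9948 (iv F14498)) (tt N7115 (iv D10357)) (tt N9703 F13900) (tt N9722 F13939))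
theorem Q9444 : ∀ i, i < 9444 → P i := stepQ 9443 Q9443 (allL N9443 (tt N9700 F13892) (tt N7117 F13284) (tt N10578 D11497) (tt N9726 (iv F13947)) (tt N7115 (iv D10358)))
theorem Q9445 : ∀ i, i < 9445 → P i := stepQ 9444 Q9444 (allL N9444 (tt N7118 (iv D10359)) (tt N10579 D11498) (tt N10106 (iv F14939)) (tt N10265 (iv F15336)) (tt N10580 D11499))
theorem Q9446 : ∀ i, i < 9446 → P i := stepQ 9445 Q9445 (allL N9445 (tt N10581 D11500) (tt N8005 F13285) (tt N7118 (iv D10360)) (tt N8001 F13286) (tt N8032 F13287))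
theorem Q9447 : ∀ i, i < 9447 → P i := stepQ 9446 Q9446 (allL N9446 (tt N10580 (iv F16273)) (tt N7119 F13288) (tt N9944 (iv F14485)) (tt N8946 F13289) (tt N7118 (iv D10361)))
theorem Q9448 : ∀ i, i < 9448 → P i := stepQ 9447 Q9447 (allL N9447 (tt N10582 D11501) (tt N7120 (iv D10362)) (tt N9924 (iv F14435)) (tt N8270 F13290) (tt N7126 F13291))
theorem Q9449 : ∀ i, i < 9449 → P i := stepQ 9448 Q9448 (allL N9448 (tt N8979 F13292) (tt N8858 F13293) (tt N7176 F13294) (tt N7125 F13295) (tt N7122 (iv D10363)))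
theorem Q9450 : ∀ i, i < 9450 → P i := stepQ 9449 Q9449 (allL N9449 (tt N7126 (iv D10364)) (tt N9449 F13296) (tt N9731 (iv F13964)) (tt N8677 F13297) (tt N10582 (iv F16282)))
theorem Q9451 : ∀ i, i < 9451 → P i := stepQ 9450 Q9450 (allL N9450 (tt N9732 (iv F13966)) (tt N8015 (iv F13299)) (tt N7126 (iv D10365)) (tt N8014 F13298) (tt N10471 (iv F15952)))
theorem Q9452 : ∀ i, i < 9452 → P i := stepQ 9451 Q9451 (allL N9451 (tt N8988 F13300) (tt N7202 F13301) (tt N7135 F13303) (tt N7130 F13302) (tt N7128 (iv D10366)))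
theorem Q9453 : ∀ i, i < 9453 → P i := stepQ 9452 Q9452 (allL N9452 (tt N8992 F13304) (tt N7235 F13305) (tt N7725 F13306) (tt N7136 F13307) (tt N7133 (iv D10367)))
theorem Q9454 : ∀ i, i < 9454 → P i := stepQ 9453 Q9453 (allL N9453 (tt N7445 F13308) (tt N10081 (iv F14860)) (tt N10199 (iv F15169)) (tt N7138 (iv D10368)) (tt N8625 F13328))
theorem Q9455 : ∀ i, i < 9455 → P i := stepQ 9454 Q9454 (allL N9454 (tt N7143 (iv D10369)) (tt N9307 F13309) (tt N10433 (iv F15834)) (tt N10433 (iv F15835)) (tt N9305 F13310))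
theorem Q9456 : ∀ i, i < 9456 → P i := stepQ 9455 Q9455 (allL N9455 (tt N9305 F13311) (tt N7145 F13312) (tt N7912 (iv F13313)) (tt N7918 F13314) (tt N7143 (iv D10370)))
theorem Q9457 : ∀ i, i < 9457 → P i := stepQ 9456 Q9456 (allL N9456 (tt N10237 (iv F15273)) (tt N7941 F13315) (tt N7162 F13316) (tt N7149 F13317) (tt N7144 (iv D10371)))
theorem Q9458 : ∀ i, i < 9458 → P i := stepQ 9457 Q9457 (allL N9457 (tt N8608 F13318) (tt N7918 F13319) (tt N7157 F13320) (tt N7145 (iv D10372)) (tt N7148 F13321))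
theorem Q9459 : ∀ i, i < 9459 → P i := stepQ 9458 Q9458 (allL N9458 (tt N7147 (iv D10373)) (tt N9524 (iv F13472)) (tt N10452 (iv F15887)) (tt N10452 (iv F15888)) (tt N10583 D11502))
theorem Q9460 : ∀ i, i < 9460 → P i := stepQ 9459 Q9459 (allL N9459 (tt N10583 (iv F16284)) (tt N7149 F13322) (tt N7917 (iv F13324)) (tt N7941 F13323) (tt N7147 (iv D10374)))
theorem Q9461 : ∀ i, i < 9461 → P i := stepQ 9460 Q9460 (allL N9460 (tt N7151 F13325) (tt N10083 (iv F14865)) (tt N7436 F13326) (tt N8625 (iv F13327)) (tt N7150 (iv D10375)))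
theorem Q9462 : ∀ i, i < 9462 → P i := stepQ 9461 Q9461 (allL N9461 (tt N8828 F13329) (tt N7157 F13330) (tt N7896 F13331) (tt N7161 (iv F13332)) (tt N7156 (iv D10376)))
theorem Q9463 : ∀ i, i < 9463 → P i := stepQ 9462 Q9462 (allL N9462 (tt N7161 F13333) (tt N9062 F13334) (tt N10329 (iv F15529)) (tt N9728 (iv F13954)) (tt N7158 (iv D10377)))
theorem Q9464 : ∀ i, i < 9464 → P i := stepQ 9463 Q9463 (allL N9463 (tt N7159 (iv D10378)) (tt N7387 F13335) (tt N9183 F13336) (tt N7386 F13337) (tt N8826 F13338))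
theorem Q9465 : ∀ i, i < 9465 → P i := stepQ 9464 Q9464 (allL N9464 (tt N8826 F13339) (tt N10402 (iv F15733)) (tt N9825 (iv F14198)) (tt N10092 (iv F14892)) (tt N7159 (iv D10379)))
theorem Q9466 : ∀ i, i < 9466 → P i := stepQ 9465 Q9465 (allL N9465 (tt N8952 F13340) (tt N7162 F13341) (tt N7905 F13343) (tt N7193 F13342) (tt N7160 (iv D10380)))
theorem Q9467 : ∀ i, i < 9467 → P i := stepQ 9466 Q9466 (allL N9466 (tt N7168 F13344) (tt N7163 (iv D10381)) (tt N9213 F13345) (tt N10269 (iv F15347)) (tt N8226 (iv F13346)))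
theorem Q9468 : ∀ i, i < 9468 → P i := stepQ 9467 Q9467 (allL N9467 (tt N7165 F13347) (tt N8226 F13348) (tt N10584 D11503) (tt N10273 (iv F15364)) (tt N7163 (iv D10382)))
theorem Q9469 : ∀ i, i < 9469 → P i := stepQ 9468 Q9468 (allL N9468 (tt N7171 (iv D10383)) (tt N8176 F13349) (tt N9184 F13350) (tt N8055 F13351) (tt N8053 F13352))
theorem Q9470 : ∀ i, i < 9470 → P i := stepQ 9469 Q9469 (allL N9469 (tt N8093 F13355) (tt N7218 F13356) (tt N7173 (iv D10384)) (tt N7185 F13353) (tt N7217 F13354))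
theorem Q9471 : ∀ i, i < 9471 → P i := stepQ 9470 Q9470 (allL N9470 (tt N7726 F13357) (tt N7176 F13358) (tt N7926 F13359) (tt N7178 F13360) (tt N7175 (iv D10385)))
theorem Q9472 : ∀ i, i < 9472 → P i := stepQ 9471 Q9471 (allL N9471 (tt N10579 (iv F16270)) (tt N7177 (iv D10386)) (tt N10471 (iv F15951)) (tt N8269 F13361) (tt N8228 (iv F13362)))
theorem Q9473 : ∀ i, i < 9473 → P i := stepQ 9472 Q9472 (allL N9472 (tt N7178 F13363) (tt N8228 F13364) (tt N10182 (iv F15133)) (tt N8227 F13365) (tt N7177 (iv D10387)))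
theorem Q9474 : ∀ i, i < 9474 → P i := stepQ 9473 Q9473 (allL N9473 (tt N7179 (iv D10388)) (tt N8268 F13368) (tt N10181 (iv F15130)) (tt N8267 F13366) (tt N7730 F13367))
theorem Q9475 : ∀ i, i < 9475 → P i := stepQ 9474 Q9474 (allL N9474 (tt N7183 (iv D10389)) (tt N7186 F13369) (tt N9288 F13371) (tt N10272 (iv F15359)) (tt N8230 F13370))
theorem Q9476 : ∀ i, i < 9476 → P i := stepQ 9475 Q9475 (allL N9475 (tt N7188 F13372) (tt N8230 F13373) (tt N10585 D11504) (tt N10270 (iv F15352)) (tt N7186 (iv D10390)))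
theorem Q9477 : ∀ i, i < 9477 → P i := stepQ 9476 Q9476 (allL N9476 (tt N7193 F13374) (tt N10077 (iv F14847)) (tt N10330 (iv F15532)) (tt N9648 (iv F13772)) (tt N7191 (iv D10391)))
theorem Q9478 : ∀ i, i < 9478 → P i := stepQ 9477 Q9477 (allL N9477 (tt N7192 (iv D10392)) (tt N7404 F13375) (tt N9185 F13376) (tt N7403 F13377) (tt N8829 F13378))
theorem Q9479 : ∀ i, i < 9479 → P i := stepQ 9478 Q9478 (allL N9478 (tt N8829 F13379) (tt N10403 (iv F15736)) (tt N9822 (iv F14191)) (tt N10094 (iv F14899)) (tt N7192 (iv D10393)))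
theorem Q9480 : ∀ i, i < 9480 → P i := stepQ 9479 Q9479 (allL N9479 (tt N9324 F13381) (tt N7198 F13380) (tt N10399 (iv F15723)) (tt N7195 (iv D10394)) (tt N9893 F14354))
theorem Q9481 : ∀ i, i < 9481 → P i := stepQ 9480 Q9480 (allL N9480 (tt N7964 F13383) (tt N10586 D11505) (tt N7196 (iv D10395)) (tt N7206 F13382) (tt N10587 D11506))
theorem Q9482 : ∀ i, i < 9482 → P i := stepQ 9481 Q9481 (allL N9481 (tt N10588 D11507) (tt N7197 (iv D10396)) (tt N9228 F13384) (tt N10589 D11508) (tt N10590 D11509))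
theorem Q9483 : ∀ i, i < 9483 → P i := stepQ 9482 Q9482 (allL N9482 (tt N7959 F13385) (tt N10589 (iv F16302)) (tt N7198 F13386) (tt N7197 (iv D10397)) (tt N10591 D11510))
theorem Q9484 : ∀ i, i < 9484 → P i := stepQ 9483 Q9483 (allL N9483 (tt N7944 F13387) (tt N10590 (iv F16304)) (tt N7216 F13388) (tt N10587 (iv F16299)) (tt N7197 (iv D10398)))
theorem Q9485 : ∀ i, i < 9485 → P i := stepQ 9484 Q9484 (allL N9484 (tt N7957 F13389) (tt N9893 (iv F14352)) (tt N7949 F13391) (tt N7207 F13390) (tt N7198 (iv D10399)))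
theorem Q9486 : ∀ i, i < 9486 → P i := stepQ 9485 Q9485 (allL N9485 (tt N10592 D11511) (tt N7199 (iv D10400)) (tt N10442 (iv F15861)) (tt N10593 D11512) (tt N10594 D11513))
theorem Q9487 : ∀ i, i < 9487 → P i := stepQ 9486 Q9486 (allL N9486 (tt N7955 F13392) (tt N10593 (iv F16311)) (tt N7209 F13393) (tt N7199 (iv D10401)) (tt N10595 D11514))
theorem Q9488 : ∀ i, i < 9488 → P i := stepQ 9487 Q9487 (allL N9487 (tt N7201 F13394) (tt N10594 (iv F16315)) (tt N7212 F13395) (tt N10596 D11515) (tt N7199 (iv D10402)))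
theorem Q9489 : ∀ i, i < 9489 → P i := stepQ 9488 Q9488 (allL N9488 (tt N9981 (iv F14585)) (tt N9604 (iv F13645)) (tt N7218 F13396) (tt N7204 F13397) (tt N7200 (iv D10403)))
theorem Q9490 : ∀ i, i < 9490 → P i := stepQ 9489 Q9489 (allL N9489 (tt N10597 D11516) (tt N7203 (iv D10404)) (tt N10448 (iv F15878)) (tt N10598 D11517) (tt N10599 D11518))
theorem Q9491 : ∀ i, i < 9491 → P i := stepQ 9490 Q9490 (allL N9490 (tt N7953 F13398) (tt N10598 (iv F16327)) (tt N7208 F13399) (tt N7203 (iv D10405)) (tt N10596 (iv F16325)))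
theorem Q9492 : ∀ i, i < 9492 → P i := stepQ 9491 Q9491 (allL N9491 (tt N7204 F13400) (tt N10599 (iv F16330)) (tt N7223 F13401) (tt N10595 (iv F16321)) (tt N7203 (iv D10406)))
theorem Q9493 : ∀ i, i < 9493 → P i := stepQ 9492 Q9492 (allL N9492 (tt N9308 F13402) (tt N7207 F13403) (tt N9861 (iv F14284)) (tt N9893 (iv F14353)) (tt N7205 (iv D10407)))
theorem Q9494 : ∀ i, i < 9494 → P i := stepQ 9493 Q9493 (allL N9493 (tt N10600 D11519) (tt N7206 (iv D10408)) (tt N9278 (iv F14428)) (tt N10586 (iv F16296)) (tt N10601 D11520))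
theorem Q9495 : ∀ i, i < 9495 → P i := stepQ 9494 Q9494 (allL N9494 (tt N7948 F13404) (tt N10601 (iv F16335)) (tt N7221 F13405) (tt N10591 (iv F16308)) (tt N7206 (iv D10409)))
theorem Q9496 : ∀ i, i < 9496 → P i := stepQ 9495 Q9495 (allL N9495 (tt N7972 F13406) (tt N10282 (iv F15395)) (tt N7213 F13408) (tt N7224 F13407) (tt N7209 (iv D10410)))
theorem Q9497 : ∀ i, i < 9497 → P i := stepQ 9496 Q9496 (allL N9496 (tt N7974 F13409) (tt N10306 (iv F15467)) (tt N10596 (iv F16324)) (tt N7212 F13410) (tt N7210 (iv D10411)))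
theorem Q9498 : ∀ i, i < 9498 → P i := stepQ 9497 Q9497 (allL N9497 (tt N7977 F13411) (tt N10310 (iv F15472)) (tt N10595 (iv F16320)) (tt N7223 F13412) (tt N7211 (iv D10412)))
theorem Q9499 : ∀ i, i < 9499 → P i := stepQ 9498 Q9498 (allL N9498 (tt N9356 F13413) (tt N7215 F13414) (tt N10375 (iv F15654)) (tt N7214 (iv D10413)) (tt N9891 F14350))
theorem Q9500 : ∀ i, i < 9500 → P i := stepQ 9499 Q9499 (allL N9499 (tt N9345 F13415) (tt N7216 F13416) (tt N9862 (iv F14287)) (tt N9867 (iv F14299)) (tt N7214 (iv D10414)))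
theorem Q9501 : ∀ i, i < 9501 → P i := stepQ 9500 Q9500 (allL N9500 (tt N7980 F13417) (tt N9891 (iv F14349)) (tt N10591 (iv F16307)) (tt N7221 F13418) (tt N7215 (iv D10415)))
theorem Q9502 : ∀ i, i < 9502 → P i := stepQ 9501 Q9501 (allL N9501 (tt N7981 F13419) (tt N9867 (iv F14301)) (tt N10587 (iv F16298)) (tt N7216 (iv D10416)) (tt N7220 F13420))
theorem Q9503 : ∀ i, i < 9503 → P i := stepQ 9502 Q9502 (allL N9502 (tt N9347 F13421) (tt N7221 F13422) (tt N9866 (iv F14297)) (tt N9891 (iv F14348)) (tt N7219 (iv D10417)))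
theorem Q9504 : ∀ i, i < 9504 → P i := stepQ 9503 Q9503 (allL N9503 (tt N8675 F13423) (tt N9203 F13424) (tt N7226 (iv D10418)) (tt N9895 (iv F14358)) (tt N8647 F13425))
theorem Q9505 : ∀ i, i < 9505 → P i := stepQ 9504 Q9504 (allL N9504 (tt N8701 F13426) (tt N7227 F13427) (tt N9895 (iv F14357)) (tt N7226 (iv D10419)) (tt N8671 F13428))
theorem Q9506 : ∀ i, i < 9506 → P i := stepQ 9505 Q9505 (allL N9505 (tt N9112 F13430) (tt N9840 (iv F14231)) (tt N7228 (iv D10420)) (tt N7247 F13429) (tt N9950 (iv F14505)))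
theorem Q9507 : ∀ i, i < 9507 → P i := stepQ 9506 Q9506 (allL N9506 (tt N8753 F13431) (tt N7229 (iv D10421)) (tt N9837 (iv F14224)) (tt N9856 (iv F14273)) (tt N8751 F13432))
theorem Q9508 : ∀ i, i < 9508 → P i := stepQ 9507 Q9507 (allL N9507 (tt N9117 F13433) (tt N9856 (iv F14272)) (tt N7230 F13434) (tt N7229 (iv D10422)) (tt N9953 (iv F14511)))
theorem Q9509 : ∀ i, i < 9509 → P i := stepQ 9508 Q9508 (allL N9508 (tt N10545 (iv F16163)) (tt N7233 F13435) (tt N8871 F13436) (tt N7231 (iv D10423)) (tt N7836 (iv F13437)))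
theorem Q9510 : ∀ i, i < 9510 → P i := stepQ 9509 Q9509 (allL N9509 (tt N9947 (iv F14494)) (tt N10503 (iv F16042)) (tt N7233 F13438) (tt N7232 (iv D10424)) (tt N10602 D11521))
theorem Q9511 : ∀ i, i < 9511 → P i := stepQ 9510 Q9510 (allL N9510 (tt N9114 F13439) (tt N10504 (iv F16046)) (tt N7236 F13440) (tt N10603 D11522) (tt N7232 (iv D10425)))
theorem Q9512 : ∀ i, i < 9512 → P i := stepQ 9511 Q9511 (allL N9511 (tt N9119 F13441) (tt N7884 F13442) (tt N10603 (iv F16343)) (tt N7236 (iv D10426)) (tt N9954 F14515))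
theorem Q9513 : ∀ i, i < 9513 → P i := stepQ 9512 Q9512 (allL N9512 (tt N10546 (iv F16167)) (tt N7239 F13443) (tt N8895 F13444) (tt N7237 (iv D10427)) (tt N7867 (iv F13445)))
theorem Q9514 : ∀ i, i < 9514 → P i := stepQ 9513 Q9513 (allL N9513 (tt N10099 (iv F14916)) (tt N7240 F13446) (tt N7837 F13448) (tt N7836 F13447) (tt N7237 (iv D10428)))
theorem Q9515 : ∀ i, i < 9515 → P i := stepQ 9514 Q9514 (allL N9514 (tt N9948 (iv F14497)) (tt N10526 (iv F16105)) (tt N7239 F13449) (tt N7238 (iv D10429)) (tt N10603 (iv F16344)))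
theorem Q9516 : ∀ i, i < 9516 → P i := stepQ 9515 Q9515 (allL N9515 (tt N9961 (iv F14531)) (tt N10527 (iv F16109)) (tt N7248 F13450) (tt N10602 (iv F16340)) (tt N7238 (iv D10430)))
theorem Q9517 : ∀ i, i < 9517 → P i := stepQ 9516 Q9516 (allL N9516 (tt N7241 (iv D10431)) (tt N9869 (iv F14305)) (tt N7246 F13451) (tt N9868 F14304) (tt N9964 (iv F14540)))
theorem Q9518 : ∀ i, i < 9518 → P i := stepQ 9517 Q9517 (allL N9517 (tt N8676 F13452) (tt N9285 F13453) (tt N7244 (iv D10432)) (tt N9898 (iv F14366)) (tt N8657 F13454))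
theorem Q9519 : ∀ i, i < 9519 → P i := stepQ 9518 Q9518 (allL N9518 (tt N8702 F13455) (tt N7245 F13456) (tt N9898 (iv F14365)) (tt N7244 (iv D10433)) (tt N8666 F13457))
theorem Q9520 : ∀ i, i < 9520 → P i := stepQ 9519 Q9519 (allL N9519 (tt N8759 F13458) (tt N7247 (iv D10434)) (tt N9841 (iv F14234)) (tt N9840 F14232) (tt N8758 F13459))
theorem Q9521 : ∀ i, i < 9521 → P i := stepQ 9520 Q9520 (allL N9520 (tt N9109 F13460) (tt N7830 F13461) (tt N10602 (iv F16339)) (tt N7248 (iv D10435)) (tt N9949 F14503))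
theorem Q9522 : ∀ i, i < 9522 → P i := stepQ 9521 Q9521 (allL N9521 (tt N7251 F13462) (tt N9052 F13463) (tt N10353 (iv F15593)) (tt N10540 (iv F16149)) (tt N7249 (iv D10436)))
theorem Q9523 : ∀ i, i < 9523 → P i := stepQ 9522 Q9522 (allL N9522 (tt N8290 F13464) (tt N9351 F13465) (tt N7250 (iv D10437)) (tt N9350 F13466) (tt N8289 (iv F13467)))
theorem Q9524 : ∀ i, i < 9524 → P i := stepQ 9523 Q9523 (allL N9523 (tt N9618 (iv F13684)) (tt N7251 F13468) (tt N9009 F13470) (tt N9009 F13469) (tt N7250 (iv D10438)))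
theorem Q9525 : ∀ i, i < 9525 → P i := stepQ 9524 Q9524 (allL N9524 (tt N7253 F13471) (tt N9458 F13472) (tt N7251 (iv D10439)) (tt N10539 (iv F16146)) (tt N10042 (iv F14740)))
theorem Q9526 : ∀ i, i < 9526 → P i := stepQ 9525 Q9525 (allL N9525 (tt N10353 (iv F15592)) (tt N8980 F13473) (tt N7252 (iv D10440)) (tt N9173 F13474) (tt N9154 F13475))
theorem Q9527 : ∀ i, i < 9527 → P i := stepQ 9526 Q9526 (allL N9526 (tt N9430 F13477) (tt N7254 (iv D10441)) (tt N10358 (iv F15602)) (tt N7471 F13476) (tt N10012 F14672))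
theorem Q9528 : ∀ i, i < 9528 → P i := stepQ 9527 Q9527 (allL N9527 (tt N10434 (iv F15836)) (tt N10012 (iv F14670)) (tt N9546 (iv F13513)) (tt N7454 F13767) (tt N7254 (iv D10442)))
theorem Q9529 : ∀ i, i < 9529 → P i := stepQ 9528 Q9528 (allL N9528 (tt N9242 F13479) (tt N10129 (iv F15002)) (tt N7258 (iv D10443)) (tt N7699 F13478) (tt N10604 D11523))
theorem Q9530 : ∀ i, i < 9530 → P i := stepQ 9529 Q9529 (allL N9529 (tt N9260 F13481) (tt N10130 (iv F15005)) (tt N7262 (iv D10444)) (tt N7706 F13480) (tt N10605 D11524))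
theorem Q9531 : ∀ i, i < 9531 → P i := stepQ 9530 Q9530 (allL N9530 (tt N9440 F13483) (tt N7265 (iv D10445)) (tt N10356 (iv F15598)) (tt N7453 F13482) (tt N10019 (iv F14688)))
theorem Q9532 : ∀ i, i < 9532 → P i := stepQ 9531 Q9531 (allL N9531 (tt N10435 (iv F15840)) (tt N10019 (iv F14686)) (tt N9556 (iv F13536)) (tt N7472 F13766) (tt N7265 (iv D10446)))
theorem Q9533 : ∀ i, i < 9533 → P i := stepQ 9532 Q9532 (allL N9532 (tt N7951 F13484) (tt N7272 F13485) (tt N10076 (iv F14844)) (tt N7280 F13486) (tt N7270 (iv D10447)))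
theorem Q9534 : ∀ i, i < 9534 → P i := stepQ 9533 Q9533 (allL N9533 (tt N9067 F13487) (tt N10571 (iv F16243)) (tt N7271 (iv D10448)) (tt N10078 (iv F14852)) (tt N9567 (iv F13558)))
theorem Q9535 : ∀ i, i < 9535 → P i := stepQ 9534 Q9534 (allL N9534 (tt N7952 F13489) (tt N7274 F13488) (tt N10078 (iv F14854)) (tt N7271 (iv D10449)) (tt N10606 D11525))
theorem Q9536 : ∀ i, i < 9536 → P i := stepQ 9535 Q9535 (allL N9535 (tt N8086 F13491) (tt N8716 (iv F13493)) (tt N7272 (iv D10450)) (tt N7281 F13490) (tt N8714 F13492))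
theorem Q9537 : ∀ i, i < 9537 → P i := stepQ 9536 Q9536 (allL N9536 (tt N8087 F13494) (tt N8718 F13495) (tt N7274 F13496) (tt N7273 (iv D10451)) (tt N8771 F13497))
theorem Q9538 : ∀ i, i < 9538 → P i := stepQ 9537 Q9537 (allL N9537 (tt N9984 (iv F14595)) (tt N10606 (iv F16352)) (tt N9983 F14594) (tt N7282 F13498) (tt N7274 (iv D10452)))
theorem Q9539 : ∀ i, i < 9539 → P i := stepQ 9538 Q9538 (allL N9538 (tt N10146 (iv F15041)) (tt N7275 (iv D10453)) (tt N10607 D11526) (tt N10608 D11527) (tt N7756 F13499))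
theorem Q9540 : ∀ i, i < 9540 → P i := stepQ 9539 Q9539 (allL N9539 (tt N8090 F13500) (tt N10608 (iv F16359)) (tt N8075 F13501) (tt N7275 (iv D10454)) (tt N10339 (iv F15554)))
theorem Q9541 : ∀ i, i < 9541 → P i := stepQ 9540 Q9540 (allL N9540 (tt N10147 (iv F15043)) (tt N7278 (iv D10455)) (tt N10609 D11528) (tt N10610 D11529) (tt N9080 F13502))
theorem Q9542 : ∀ i, i < 9542 → P i := stepQ 9541 Q9541 (allL N9541 (tt N8097 F13503) (tt N10610 (iv F16365)) (tt N8074 F13504) (tt N7278 (iv D10456)) (tt N7757 F13505))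
theorem Q9543 : ∀ i, i < 9543 → P i := stepQ 9542 Q9542 (allL N9542 (tt N9068 F13506) (tt N10572 (iv F16247)) (tt N7280 (iv D10457)) (tt N10076 (iv F14845)) (tt N9579 (iv F13575)))
theorem Q9544 : ∀ i, i < 9544 → P i := stepQ 9543 Q9543 (allL N9543 (tt N10143 (iv F15038)) (tt N7282 F13507) (tt N9073 F13508) (tt N10606 (iv F16354)) (tt N7280 (iv D10458)))
theorem Q9545 : ∀ i, i < 9545 → P i := stepQ 9544 Q9544 (allL N9544 (tt N7283 (iv D10459)) (tt N10260 (iv F15326)) (tt N10611 D11530) (tt N10612 D11531) (tt N8469 F13509))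
theorem Q9546 : ∀ i, i < 9546 → P i := stepQ 9545 Q9545 (allL N9545 (tt N10613 D11532) (tt N8689 F13510) (tt N7283 (iv D10460)) (tt N8561 F13511) (tt N8459 F13512))
theorem Q9547 : ∀ i, i < 9547 → P i := stepQ 9546 Q9546 (allL N9546 (tt N10260 (iv F15325)) (tt N7286 (iv D10461)) (tt N9527 F13513) (tt N9656 F13796) (tt N9017 (iv F13514)))
theorem Q9548 : ∀ i, i < 9548 → P i := stepQ 9547 Q9547 (allL N9547 (tt N10039 (iv F14734)) (tt N9656 (iv F13794)) (tt N9970 (iv F14558)) (tt N7286 (iv D10462)) (tt N9655 F13792))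
theorem Q9549 : ∀ i, i < 9549 → P i := stepQ 9548 Q9548 (allL N9548 (tt N7289 F13515) (tt N9017 F13516) (tt N8819 F13517) (tt N9657 (iv F13797)) (tt N7286 (iv D10463)))
theorem Q9550 : ∀ i, i < 9550 → P i := stepQ 9549 Q9549 (allL N9549 (tt N7287 (iv D10464)) (tt N10614 D11533) (tt N10366 (iv F15626)) (tt N10615 D11534) (tt N8309 F13518))
theorem Q9551 : ∀ i, i < 9551 → P i := stepQ 9550 Q9550 (allL N9550 (tt N9878 (iv F14322)) (tt N7717 F13519) (tt N7288 F13520) (tt N7287 (iv D10465)) (tt N8305 (iv F13521)))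
theorem Q9552 : ∀ i, i < 9552 → P i := stepQ 9551 Q9551 (allL N9551 (tt N7288 (iv D10466)) (tt N9414 F13522) (tt N7852 F13523) (tt N7859 F13524) (tt N9413 F13525))
theorem Q9553 : ∀ i, i < 9553 → P i := stepQ 9552 Q9552 (allL N9552 (tt N9413 F13526) (tt N7290 F13527) (tt N9552 F13528) (tt N7294 F13529) (tt N7288 (iv D10467)))
theorem Q9554 : ∀ i, i < 9554 → P i := stepQ 9553 Q9553 (allL N9553 (tt N7291 (iv D10468)) (tt N10073 (iv F14837)) (tt N9877 (iv F14321)) (tt N10072 F14836) (tt N9412 F13530))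
theorem Q9555 : ∀ i, i < 9555 → P i := stepQ 9554 Q9554 (allL N9554 (tt N7292 (iv D10469)) (tt N10616 D11535) (tt N10363 (iv F15615)) (tt N10617 D11536) (tt N8377 F13535))
theorem Q9556 : ∀ i, i < 9556 → P i := stepQ 9555 Q9555 (allL N9555 (tt N8377 F13534) (tt N7760 F13531) (tt N9555 F13532) (tt N8305 F13533) (tt N7292 (iv D10470)))
theorem Q9557 : ∀ i, i < 9557 → P i := stepQ 9556 Q9556 (allL N9556 (tt N10267 (iv F15341)) (tt N7293 (iv D10471)) (tt N9531 F13536) (tt N9658 (iv F13802)) (tt N9026 (iv F13537)))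
theorem Q9558 : ∀ i, i < 9558 → P i := stepQ 9557 Q9557 (allL N9557 (tt N10072 (iv F14835)) (tt N9658 (iv F13800)) (tt N9979 (iv F14582)) (tt N7293 (iv D10472)) (tt N9657 F13798))
theorem Q9559 : ∀ i, i < 9559 → P i := stepQ 9558 Q9558 (allL N9558 (tt N7294 F13538) (tt N9026 F13539) (tt N8806 (iv F13540)) (tt N9655 (iv F13791)) (tt N7293 (iv D10473)))
theorem Q9560 : ∀ i, i < 9560 → P i := stepQ 9559 Q9559 (allL N9559 (tt N7295 (iv D10474)) (tt N10267 (iv F15342)) (tt N10618 D11537) (tt N10619 D11538) (tt N8466 F13541))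
theorem Q9561 : ∀ i, i < 9561 → P i := stepQ 9560 Q9560 (allL N9560 (tt N10620 D11539) (tt N8690 F13542) (tt N7295 (iv D10475)) (tt N8460 F13543) (tt N8458 F13544))
theorem Q9562 : ∀ i, i < 9562 → P i := stepQ 9561 Q9561 (allL N9561 (tt N9071 F13545) (tt N7298 (iv D10476)) (tt N10294 (iv F15430)) (tt N10621 D11540) (tt N8734 F13546))
theorem Q9563 : ∀ i, i < 9563 → P i := stepQ 9562 Q9562 (allL N9562 (tt N10090 (iv F14884)) (tt N8684 (iv F13548)) (tt N7298 (iv D10477)) (tt N9839 (iv F14237)) (tt N8682 F13547))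
theorem Q9564 : ∀ i, i < 9564 → P i := stepQ 9563 Q9563 (allL N9563 (tt N10245 (iv F15293)) (tt N10621 (iv F16400)) (tt N9839 F14238) (tt N7298 (iv D10478)) (tt N8776 F13549))
theorem Q9565 : ∀ i, i < 9565 → P i := stepQ 9564 Q9564 (allL N9564 (tt N7299 (iv D10479)) (tt N10574 (iv F16254)) (tt N8725 F13551) (tt N10573 F16252) (tt N8717 F13550))
theorem Q9566 : ∀ i, i < 9566 → P i := stepQ 9565 Q9565 (allL N9565 (tt N7302 F13552) (tt N7300 (iv D10480)) (tt N10269 (iv F15346)) (tt N9213 F13553) (tt N10153 (iv F15061)))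
theorem Q9567 : ∀ i, i < 9567 → P i := stepQ 9566 Q9566 (allL N9566 (tt N7301 (iv D10481)) (tt N9244 F13556) (tt N9218 F13555) (tt N9217 (iv F13557)) (tt N9136 F13554))
theorem Q9568 : ∀ i, i < 9568 → P i := stepQ 9567 Q9567 (allL N9567 (tt N9235 F13559) (tt N9430 F13560) (tt N7302 (iv D10482)) (tt N9429 (iv F13561)) (tt N9533 F13558))
theorem Q9569 : ∀ i, i < 9569 → P i := stepQ 9568 Q9568 (allL N9568 (tt N10465 (iv F15927)) (tt N7303 F13562) (tt N9429 F13563) (tt N7302 (iv D10483)) (tt N9729 (iv F13958)))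
theorem Q9570 : ∀ i, i < 9570 → P i := stepQ 9569 Q9569 (allL N9569 (tt N7303 (iv D10484)) (tt N9325 F13565) (tt N10054 (iv F14780)) (tt N8189 F13564) (tt N10420 (iv F15795)))
theorem Q9571 : ∀ i, i < 9571 → P i := stepQ 9570 Q9570 (allL N9570 (tt N10420 (iv F15793)) (tt N9729 F13959) (tt N10314 (iv F15486)) (tt N7317 F13566) (tt N7303 (iv D10485)))
theorem Q9572 : ∀ i, i < 9572 → P i := stepQ 9571 Q9571 (allL N9571 (tt N10421 (iv F15796)) (tt N9732 F13969) (tt N10317 (iv F15497)) (tt N7304 (iv D10486)) (tt N7316 F13567))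
theorem Q9573 : ∀ i, i < 9573 → P i := stepQ 9572 Q9572 (allL N9572 (tt N10151 (iv F15055)) (tt N7305 (iv D10487)) (tt N10475 (iv F15963)) (tt N10569 (iv F16236)) (tt N10057 (iv F14790)))
theorem Q9574 : ∀ i, i < 9574 → P i := stepQ 9573 Q9573 (allL N9573 (tt N10054 (iv F14779)) (tt N10569 (iv F16235)) (tt N10478 (iv F15973)) (tt N7305 (iv D10488)) (tt N10050 F14769))
theorem Q9575 : ∀ i, i < 9575 → P i := stepQ 9574 Q9574 (allL N9574 (tt N10468 (iv F15938)) (tt N7899 F13568) (tt N7309 (iv D10489)) (tt N7372 F13569) (tt N8008 F13570))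
theorem Q9576 : ∀ i, i < 9576 → P i := stepQ 9575 Q9575 (allL N9575 (tt N7316 F13571) (tt N9327 F13572) (tt N10055 (iv F14783)) (tt N7312 (iv D10490)) (tt N10421 (iv F15798)))
theorem Q9577 : ∀ i, i < 9577 → P i := stepQ 9576 Q9576 (allL N9576 (tt N10162 (iv F15091)) (tt N7313 (iv D10491)) (tt N10482 (iv F15986)) (tt N10581 (iv F16278)) (tt N10161 F15090))
theorem Q9578 : ∀ i, i < 9578 → P i := stepQ 9577 Q9577 (allL N9577 (tt N10055 (iv F14782)) (tt N10581 (iv F16277)) (tt N10479 (iv F15977)) (tt N7313 (iv D10492)) (tt N10058 (iv F14795)))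
theorem Q9579 : ∀ i, i < 9579 → P i := stepQ 9578 Q9578 (allL N9578 (tt N7315 (iv D10493)) (tt N7318 F13573) (tt N10272 (iv F15358)) (tt N9288 (iv F13574)) (tt N10165 (iv F15100)))
theorem Q9580 : ∀ i, i < 9580 → P i := stepQ 9579 Q9579 (allL N9579 (tt N9268 F13576) (tt N9440 F13577) (tt N7315 (iv D10494)) (tt N9439 (iv F13578)) (tt N9542 F13575))
theorem Q9581 : ∀ i, i < 9581 → P i := stepQ 9580 Q9580 (allL N9580 (tt N10471 (iv F15949)) (tt N7316 F13579) (tt N9439 F13580) (tt N7315 (iv D10495)) (tt N9732 (iv F13968)))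
theorem Q9582 : ∀ i, i < 9582 → P i := stepQ 9581 Q9581 (allL N9581 (tt N7319 (iv D10496)) (tt N9263 F13583) (tt N9292 F13582) (tt N9262 (iv F13584)) (tt N9146 F13581))
theorem Q9583 : ∀ i, i < 9583 → P i := stepQ 9582 Q9582 (allL N9582 (tt N7396 F13585) (tt N7320 (iv D10497)) (tt N10303 (iv F15459)) (tt N10622 D11541) (tt N8775 F13586))
theorem Q9584 : ∀ i, i < 9584 → P i := stepQ 9583 Q9583 (allL N9583 (tt N10091 (iv F14887)) (tt N8697 (iv F13588)) (tt N7320 (iv D10498)) (tt N9855 (iv F14270)) (tt N8696 F13587))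
theorem Q9585 : ∀ i, i < 9585 → P i := stepQ 9584 Q9584 (allL N9584 (tt N10255 (iv F15316)) (tt N10622 (iv F16404)) (tt N9855 F14271) (tt N7320 (iv D10499)) (tt N8735 F13589))
theorem Q9586 : ∀ i, i < 9586 → P i := stepQ 9585 Q9585 (allL N9585 (tt N7321 (iv D10500)) (tt N10576 (iv F16260)) (tt N8774 F13591) (tt N10575 F16257) (tt N8769 F13590))
theorem Q9587 : ∀ i, i < 9587 → P i := stepQ 9586 Q9586 (allL N9586 (tt N7324 (iv D10501)) (tt N8979 F13592) (tt N9369 F13593) (tt N8981 F13594) (tt N8978 (iv F13595)))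
theorem Q9588 : ∀ i, i < 9588 → P i := stepQ 9587 Q9587 (allL N9587 (tt N8978 F13596) (tt N7326 F13597) (tt N7392 F13598) (tt N7329 F13599) (tt N7324 (iv D10502)))
theorem Q9589 : ∀ i, i < 9589 → P i := stepQ 9588 Q9588 (allL N9588 (tt N9759 (iv F14045)) (tt N7931 F13600) (tt N7971 F13601) (tt N7331 (iv D10503)) (tt N7930 F13602))
theorem Q9590 : ∀ i, i < 9590 → P i := stepQ 9589 Q9589 (allL N9589 (tt N7332 (iv D10504)) (tt N7936 F13603) (tt N9749 (iv F14017)) (tt N9748 F14014) (tt N7934 F13604))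
theorem Q9591 : ∀ i, i < 9591 → P i := stepQ 9590 Q9590 (allL N9590 (tt N7627 F13605) (tt N7592 F13606) (tt N7639 F13607) (tt N7413 F13608) (tt N7333 (iv D10505)))
theorem Q9592 : ∀ i, i < 9592 → P i := stepQ 9591 Q9591 (allL N9591 (tt N7646 F13611) (tt N7885 F13609) (tt N7622 F13610) (tt N7334 (iv D10506)) (tt N10623 D11542))
theorem Q9593 : ∀ i, i < 9593 → P i := stepQ 9592 Q9592 (allL N9592 (tt N7335 (iv D10507)) (tt N7871 F13612) (tt N7624 F13613) (tt N7870 F13614) (tt N9609 (iv F13660)))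
theorem Q9594 : ∀ i, i < 9594 → P i := stepQ 9593 Q9593 (allL N9593 (tt N7336 (iv D10508)) (tt N7583 F13615) (tt N7976 F13617) (tt N10560 (iv F16209)) (tt N7582 F13616))
theorem Q9595 : ∀ i, i < 9595 → P i := stepQ 9594 Q9594 (allL N9594 (tt N7437 F13618) (tt N7337 (iv D10509)) (tt N7428 F13619) (tt N9739 (iv F13987)) (tt N7420 (iv F13620)))
theorem Q9596 : ∀ i, i < 9596 → P i := stepQ 9595 Q9595 (allL N9595 (tt N9786 (iv F14109)) (tt N9739 (iv F13985)) (tt N9776 (iv F14092)) (tt N7337 (iv D10510)) (tt N9738 F13983))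
theorem Q9597 : ∀ i, i < 9597 → P i := stepQ 9596 Q9596 (allL N9596 (tt N7339 F13621) (tt N7420 F13622) (tt N8422 F13623) (tt N9740 (iv F13988)) (tt N7337 (iv D10511)))
theorem Q9598 : ∀ i, i < 9598 → P i := stepQ 9597 Q9597 (allL N9597 (tt N7338 (iv D10512)) (tt N10426 (iv F15813)) (tt N7984 F13624) (tt N10566 (iv F16227)) (tt N9635 (iv F13731)))
theorem Q9599 : ∀ i, i < 9599 → P i := stepQ 9598 Q9598 (allL N9598 (tt N10535 (iv F16132)) (tt N9012 F13625) (tt N8330 F13626) (tt N7340 (iv D10513)) (tt N9011 (iv F13627)))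
theorem Q9600 : ∀ i, i < 9600 → P i := stepQ 9599 Q9599 (allL N9599 (tt N8909 F13628) (tt N7344 F13629) (tt N7359 F13630) (tt N7359 F13631) (tt N7342 (iv D10514)))
theorem Q9601 : ∀ i, i < 9601 → P i := stepQ 9600 Q9600 (allL N9600 (tt N8917 F13632) (tt N7345 F13633) (tt N7343 (iv D10515)) (tt N7343 (iv F13635)) (tt N7358 F13634))
theorem Q9602 : ∀ i, i < 9602 → P i := stepQ 9601 Q9601 (allL N9601 (tt N8101 F13637) (tt N9681 (iv F13853)) (tt N7347 F13636) (tt N7346 (iv D10516)) (tt N8498 F13638))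
theorem Q9603 : ∀ i, i < 9603 → P i := stepQ 9602 Q9602 (allL N9602 (tt N10009 (iv F14664)) (tt N9712 (iv F13914)) (tt N8485 F13639) (tt N7348 (iv D10517)) (tt N8476 F13640))
theorem Q9604 : ∀ i, i < 9604 → P i := stepQ 9603 Q9603 (allL N9603 (tt N7349 (iv D10518)) (tt N9253 F13644) (tt N8510 F13642) (tt N8521 F13643) (tt N8506 F13641))
theorem Q9605 : ∀ i, i < 9605 → P i := stepQ 9604 Q9604 (allL N9604 (tt N9980 (iv F14584)) (tt N9488 F13645) (tt N7350 (iv D10519)) (tt N8537 F13646) (tt N8505 F13647))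
theorem Q9606 : ∀ i, i < 9606 → P i := stepQ 9605 Q9605 (allL N9605 (tt N10024 (iv F14699)) (tt N9711 (iv F13912)) (tt N8490 F13648) (tt N7353 (iv D10520)) (tt N8478 F13649))
theorem Q9607 : ∀ i, i < 9607 → P i := stepQ 9606 Q9606 (allL N9606 (tt N8137 F13650) (tt N9682 (iv F13857)) (tt N7355 F13651) (tt N7354 (iv D10521)) (tt N8499 F13652))
theorem Q9608 : ∀ i, i < 9608 → P i := stepQ 9607 Q9607 (allL N9607 (tt N10538 (iv F16140)) (tt N9044 F13653) (tt N8340 F13654) (tt N7356 (iv D10522)) (tt N9043 F13655))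
theorem Q9609 : ∀ i, i < 9609 → P i := stepQ 9608 Q9608 (allL N9608 (tt N9757 (iv F14042)) (tt N7932 F13656) (tt N7970 F13657) (tt N7361 (iv D10523)) (tt N9946 (iv F14493)))
theorem Q9610 : ∀ i, i < 9610 → P i := stepQ 9609 Q9609 (allL N9609 (tt N7362 (iv D10524)) (tt N7784 F13658) (tt N7985 F13659) (tt N9894 (iv F14356)) (tt N9592 F13660))
theorem Q9611 : ∀ i, i < 9611 → P i := stepQ 9610 Q9610 (allL N9610 (tt N7556 F13661) (tt N7363 (iv D10525)) (tt N7549 F13662) (tt N9741 (iv F13992)) (tt N8913 (iv F13663)))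
theorem Q9612 : ∀ i, i < 9612 → P i := stepQ 9611 Q9611 (allL N9611 (tt N9794 (iv F14130)) (tt N9741 (iv F13991)) (tt N9788 (iv F14116)) (tt N7363 (iv D10526)) (tt N9740 F13989))
theorem Q9613 : ∀ i, i < 9613 → P i := stepQ 9612 Q9612 (allL N9612 (tt N7364 F13664) (tt N8913 F13665) (tt N8574 F13666) (tt N9738 (iv F13982)) (tt N7363 (iv D10527)))
theorem Q9614 : ∀ i, i < 9614 → P i := stepQ 9613 Q9613 (allL N9613 (tt N7365 (iv D10528)) (tt N7906 F13667) (tt N7793 F13668) (tt N10623 (iv F16410)) (tt N7413 F13669))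
theorem Q9615 : ∀ i, i < 9615 → P i := stepQ 9614 Q9614 (allL N9614 (tt N10085 (iv F14868)) (tt N7369 F13670) (tt N10077 (iv F14848)) (tt N7367 (iv D10529)) (tt N9107 (iv F13679)))
theorem Q9616 : ∀ i, i < 9616 → P i := stepQ 9615 Q9615 (allL N9615 (tt N7369 (iv D10530)) (tt N9304 (iv F13673)) (tt N8282 F13671) (tt N8277 F13672) (tt N9408 F13674))
theorem Q9617 : ∀ i, i < 9617 → P i := stepQ 9616 Q9616 (allL N9616 (tt N9408 F13675) (tt N9107 F13678) (tt N8645 F13676) (tt N7419 F13677) (tt N7369 (iv D10531)))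
theorem Q9618 : ∀ i, i < 9618 → P i := stepQ 9617 Q9617 (allL N9617 (tt N7502 F13680) (tt N7429 F13681) (tt N7373 (iv D10532)) (tt N9234 F13682) (tt N8219 F13683))
theorem Q9619 : ∀ i, i < 9619 → P i := stepQ 9618 Q9618 (allL N9618 (tt N9523 F13684) (tt N8982 F13685) (tt N8756 F13686) (tt N7375 (iv D10533)) (tt N7417 F13687))
theorem Q9620 : ∀ i, i < 9620 → P i := stepQ 9619 Q9619 (allL N9619 (tt N10621 (iv F16399)) (tt N7378 F13688) (tt N9697 (iv F13883)) (tt N7377 (iv D10534)) (tt N7570 F13689))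
theorem Q9621 : ∀ i, i < 9621 → P i := stepQ 9620 Q9620 (allL N9620 (tt N7378 (iv D10535)) (tt N9332 F13691) (tt N10624 D11543) (tt N7683 F13690) (tt N10625 D11544))
theorem Q9622 : ∀ i, i < 9622 → P i := stepQ 9621 Q9621 (allL N9621 (tt N10625 (iv F16415)) (tt N7570 F13692) (tt N10173 (iv F15113)) (tt N7409 F13693) (tt N7378 (iv D10536)))
theorem Q9623 : ∀ i, i < 9623 → P i := stepQ 9622 Q9622 (allL N9622 (tt N10626 D11545) (tt N7572 F13694) (tt N10178 (iv F15125)) (tt N7379 (iv D10537)) (tt N7408 F13695))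
theorem Q9624 : ∀ i, i < 9624 → P i := stepQ 9623 Q9623 (allL N9623 (tt N10624 (iv F16411)) (tt N8893 F13696) (tt N10466 (iv F15933)) (tt N7380 (iv D10538)) (tt N8892 F13697))
theorem Q9625 : ∀ i, i < 9625 → P i := stepQ 9624 Q9624 (allL N9624 (tt N7381 (iv D10539)) (tt N8896 F13698) (tt N7789 F13699) (tt N10627 D11546) (tt N7762 F13700))
theorem Q9626 : ∀ i, i < 9626 → P i := stepQ 9625 Q9625 (allL N9625 (tt N9433 F13701) (tt N7388 (iv D10540)) (tt N10015 (iv F14679)) (tt N8927 F13702) (tt N8843 F13703))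
theorem Q9627 : ∀ i, i < 9627 → P i := stepQ 9626 Q9626 (allL N9626 (tt N7391 (iv D10541)) (tt N9090 F13704) (tt N9381 F13705) (tt N9091 F13706) (tt N9089 F13707))
theorem Q9628 : ∀ i, i < 9628 → P i := stepQ 9627 Q9627 (allL N9627 (tt N9386 F13708) (tt N8465 F13709) (tt N7398 (iv D10542)) (tt N9036 F13710) (tt N9385 F13711))
theorem Q9629 : ∀ i, i < 9629 → P i := stepQ 9628 Q9628 (allL N9628 (tt N8527 F13712) (tt N8470 F13713) (tt N7399 (iv D10543)) (tt N9040 F13714) (tt N9384 F13715))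
theorem Q9630 : ∀ i, i < 9630 → P i := stepQ 9629 Q9629 (allL N9629 (tt N7402 (iv D10544)) (tt N9368 F13718) (tt N7453 F13717) (tt N10356 (iv F15599)) (tt N8922 F13716))
theorem Q9631 : ∀ i, i < 9631 → P i := stepQ 9630 Q9630 (allL N9630 (tt N10622 (iv F16403)) (tt N7408 F13719) (tt N9718 (iv F13930)) (tt N7405 (iv D10545)) (tt N7572 F13720))
theorem Q9632 : ∀ i, i < 9632 → P i := stepQ 9631 Q9631 (allL N9631 (tt N7407 (iv D10546)) (tt N7907 F13721) (tt N7563 F13722) (tt N10277 (iv F15379)) (tt N8950 F13723))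
theorem Q9633 : ∀ i, i < 9633 → P i := stepQ 9632 Q9632 (allL N9632 (tt N7408 (iv D10547)) (tt N9330 F13725) (tt N10628 D11547) (tt N7662 F13724) (tt N10626 (iv F16422)))
theorem Q9634 : ∀ i, i < 9634 → P i := stepQ 9633 Q9633 (allL N9633 (tt N10628 (iv F16427)) (tt N8894 F13726) (tt N10469 (iv F15944)) (tt N7410 (iv D10548)) (tt N9745 (iv F14005)))
theorem Q9635 : ∀ i, i < 9635 → P i := stepQ 9634 Q9634 (allL N9634 (tt N7411 (iv D10549)) (tt N8905 F13727) (tt N7670 F13728) (tt N10629 D11548) (tt N7663 F13729))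
theorem Q9636 : ∀ i, i < 9636 → P i := stepQ 9635 Q9635 (allL N9635 (tt N7412 (iv D10550)) (tt N8965 F13730) (tt N8039 F13732) (tt N9409 F13733) (tt N9597 F13731))
theorem Q9637 : ∀ i, i < 9637 → P i := stepQ 9636 Q9636 (allL N9636 (tt N7533 F13734) (tt N7550 F13735) (tt N7415 (iv D10551)) (tt N9267 (iv F13737)) (tt N8266 F13736))
theorem Q9638 : ∀ i, i < 9638 → P i := stepQ 9637 Q9637 (allL N9637 (tt N9288 F13741) (tt N7417 F13738) (tt N9267 F13739) (tt N7415 (iv D10552)) (tt N8982 F13740))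
theorem Q9639 : ∀ i, i < 9639 → P i := stepQ 9638 Q9638 (allL N9638 (tt N7967 F13742) (tt N7419 (iv D10553)) (tt N7781 F13743) (tt N9107 F13744) (tt N7966 F13745))
theorem Q9640 : ∀ i, i < 9640 → P i := stepQ 9639 Q9639 (allL N9639 (tt N8303 F13746) (tt N7423 (iv D10554)) (tt N10493 (iv F16015)) (tt N8623 F13747) (tt N10370 (iv F15638)))
theorem Q9641 : ∀ i, i < 9641 → P i := stepQ 9640 Q9640 (allL N9640 (tt N7462 F13748) (tt N10370 (iv F15637)) (tt N10432 (iv F15832)) (tt N8617 (iv F13749)) (tt N7423 (iv D10555)))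
theorem Q9642 : ∀ i, i < 9642 → P i := stepQ 9641 Q9641 (allL N9641 (tt N7424 (iv D10556)) (tt N8996 F13750) (tt N8252 F13752) (tt N8251 F13751) (tt N8994 F13753))
theorem Q9643 : ∀ i, i < 9643 → P i := stepQ 9642 Q9642 (allL N9642 (tt N8994 F13754) (tt N7425 F13755) (tt N8244 (iv F13756)) (tt N7432 (iv F13757)) (tt N7424 (iv D10557)))
theorem Q9644 : ∀ i, i < 9644 → P i := stepQ 9643 Q9643 (allL N9643 (tt N7506 F13758) (tt N8416 F13759) (tt N7426 (iv D10558)) (tt N10630 D11549) (tt N10241 (iv F15286)))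
theorem Q9645 : ∀ i, i < 9645 → P i := stepQ 9644 Q9644 (allL N9644 (tt N7516 F13760) (tt N7427 F13761) (tt N10630 (iv F16436)) (tt N7426 (iv D10559)) (tt N10068 (iv F14827)))
theorem Q9646 : ∀ i, i < 9646 → P i := stepQ 9645 Q9645 (allL N9645 (tt N7504 F13762) (tt N7428 F13763) (tt N9931 (iv F14453)) (tt N10066 (iv F14819)) (tt N7426 (iv D10560)))
theorem Q9647 : ∀ i, i < 9647 → P i := stepQ 9646 Q9646 (allL N9646 (tt N7472 F13764) (tt N10068 (iv F14825)) (tt N9741 (iv F13993)) (tt N7549 F13765) (tt N7427 (iv D10561)))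
theorem Q9648 : ∀ i, i < 9648 → P i := stepQ 9647 Q9647 (allL N9647 (tt N7454 F13769) (tt N10066 (iv F14818)) (tt N9739 (iv F13986)) (tt N7428 (iv D10562)) (tt N7452 F13768))
theorem Q9649 : ∀ i, i < 9649 → P i := stepQ 9648 Q9648 (allL N9648 (tt N7432 F13770) (tt N8219 F13771) (tt N8745 F13773) (tt N9476 F13772) (tt N7429 (iv D10563)))
theorem Q9650 : ∀ i, i < 9650 → P i := stepQ 9649 Q9649 (allL N9649 (tt N7431 (iv D10564)) (tt N9003 F13774) (tt N8250 F13776) (tt N8265 F13775) (tt N9002 F13777))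
theorem Q9651 : ∀ i, i < 9651 → P i := stepQ 9650 Q9650 (allL N9650 (tt N9002 F13778) (tt N7434 F13779) (tt N8258 (iv F13781)) (tt N7552 F13780) (tt N7431 (iv D10565)))
theorem Q9652 : ∀ i, i < 9652 → P i := stepQ 9651 Q9651 (allL N9651 (tt N8302 F13782) (tt N7435 (iv D10566)) (tt N10531 (iv F16120)) (tt N8616 F13783) (tt N10371 (iv F15641)))
theorem Q9653 : ∀ i, i < 9653 → P i := stepQ 9652 Q9652 (allL N9652 (tt N7461 F13784) (tt N10371 (iv F15640)) (tt N10451 (iv F15885)) (tt N8624 F13785) (tt N7435 (iv D10567)))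
theorem Q9654 : ∀ i, i < 9654 → P i := stepQ 9653 Q9653 (allL N9653 (tt N9739 (iv F13984)) (tt N10001 (iv F14643)) (tt N7457 F13786) (tt N10365 (iv F15623)) (tt N7444 (iv D10568)))
theorem Q9655 : ∀ i, i < 9655 → P i := stepQ 9654 Q9654 (allL N9654 (tt N8625 F13787) (tt N9654 F13788) (tt N8356 F13790) (tt N7451 F13789) (tt N7445 (iv D10569)))
theorem Q9656 : ∀ i, i < 9656 → P i := stepQ 9655 Q9655 (allL N9655 (tt N10562 (iv F16213)) (tt N7446 (iv D10570)) (tt N10362 (iv F15612)) (tt N9558 F13791) (tt N9547 (iv F13792)))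
theorem Q9657 : ∀ i, i < 9657 → P i := stepQ 9656 Q9656 (allL N9656 (tt N7447 F13793) (tt N9547 F13794) (tt N7454 F13795) (tt N9546 (iv F13796)) (tt N7446 (iv D10571)))
theorem Q9658 : ∀ i, i < 9658 → P i := stepQ 9657 Q9657 (allL N9657 (tt N10564 (iv F16220)) (tt N7448 (iv D10572)) (tt N10360 (iv F15606)) (tt N9548 F13797) (tt N9557 (iv F13798)))
theorem Q9659 : ∀ i, i < 9659 → P i := stepQ 9658 Q9658 (allL N9658 (tt N7449 F13799) (tt N9557 F13800) (tt N7472 F13801) (tt N9556 F13802) (tt N7448 (iv D10573)))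
theorem Q9660 : ∀ i, i < 9660 → P i := stepQ 9659 Q9659 (allL N9659 (tt N9741 (iv F13990)) (tt N10031 (iv F14719)) (tt N7470 F13803) (tt N10364 (iv F15619)) (tt N7450 (iv D10574)))
theorem Q9661 : ∀ i, i < 9661 → P i := stepQ 9660 Q9660 (allL N9660 (tt N9742 (iv F13994)) (tt N8349 (iv F13806)) (tt N7451 (iv D10575)) (tt N8356 F13804) (tt N7468 F13805))
theorem Q9662 : ∀ i, i < 9662 → P i := stepQ 9661 Q9661 (allL N9661 (tt N7519 F13807) (tt N7452 (iv D10576)) (tt N10631 D11550) (tt N7532 F13808) (tt N10066 (iv F14820)))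
theorem Q9663 : ∀ i, i < 9663 → P i := stepQ 9662 Q9662 (allL N9662 (tt N9744 (iv F14000)) (tt N8798 F13809) (tt N7455 (iv D10577)) (tt N8795 (iv F13811)) (tt N7773 F13810))
theorem Q9664 : ∀ i, i < 9664 → P i := stepQ 9663 Q9663 (allL N9663 (tt N8634 F13812) (tt N7456 F13813) (tt N8795 F13814) (tt N7455 (iv D10578)) (tt N10135 (iv F15022)))
theorem Q9665 : ∀ i, i < 9665 → P i := stepQ 9664 Q9664 (allL N9664 (tt N7705 F13815) (tt N7457 F13816) (tt N10134 (iv F15019)) (tt N10133 F15016) (tt N7455 (iv D10579)))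
theorem Q9666 : ∀ i, i < 9666 → P i := stepQ 9665 Q9665 (allL N9665 (tt N8624 F13817) (tt N10135 (iv F15023)) (tt N10364 (iv F15618)) (tt N7470 F13818) (tt N7456 (iv D10580)))
theorem Q9667 : ∀ i, i < 9667 → P i := stepQ 9666 Q9666 (allL N9666 (tt N8617 F13819) (tt N10133 (iv F15015)) (tt N10365 (iv F15622)) (tt N7457 (iv D10581)) (tt N7469 F13820))
theorem Q9668 : ∀ i, i < 9668 → P i := stepQ 9667 Q9667 (allL N9667 (tt N9747 (iv F14010)) (tt N8797 F13821) (tt N7467 (iv D10582)) (tt N8803 (iv F13823)) (tt N7695 F13822))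
theorem Q9669 : ∀ i, i < 9669 → P i := stepQ 9668 Q9668 (allL N9668 (tt N8630 F13824) (tt N7469 F13825) (tt N8803 F13826) (tt N7467 (iv D10583)) (tt N10133 (iv F15014)))
theorem Q9670 : ∀ i, i < 9670 → P i := stepQ 9669 Q9669 (allL N9669 (tt N7701 F13827) (tt N7470 F13828) (tt N10132 (iv F15012)) (tt N10135 (iv F15021)) (tt N7467 (iv D10584)))
theorem Q9671 : ∀ i, i < 9671 → P i := stepQ 9670 Q9670 (allL N9670 (tt N8927 F13830) (tt N9366 F13829) (tt N7471 (iv D10585)) (tt N10358 (iv F15603)) (tt N8926 F13831))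
theorem Q9672 : ∀ i, i < 9672 → P i := stepQ 9671 Q9671 (allL N9671 (tt N8385 F13832) (tt N10632 D11551) (tt N7474 (iv D10586)) (tt N10229 (iv F15252)) (tt N10633 D11552))
theorem Q9673 : ∀ i, i < 9673 → P i := stepQ 9672 Q9672 (allL N9672 (tt N8100 F13833) (tt N8637 F13834) (tt N10229 (iv F15251)) (tt N7474 (iv D10587)) (tt N7567 (iv F13835)))
theorem Q9674 : ∀ i, i < 9674 → P i := stepQ 9673 Q9673 (allL N9673 (tt N9929 (iv F14447)) (tt N7475 (iv D10588)) (tt N10176 (iv F15119)) (tt N10634 D11553) (tt N9927 (iv F14443)))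
theorem Q9675 : ∀ i, i < 9675 → P i := stepQ 9674 Q9674 (allL N9674 (tt N8395 F13836) (tt N10634 (iv F16447)) (tt N7476 F13837) (tt N7475 (iv D10589)) (tt N10635 D11554))
theorem Q9676 : ∀ i, i < 9676 → P i := stepQ 9675 Q9675 (allL N9675 (tt N7485 F13838) (tt N9927 (iv F14441)) (tt N7479 F13839) (tt N10633 (iv F16446)) (tt N7475 (iv D10590)))
theorem Q9677 : ∀ i, i < 9677 → P i := stepQ 9676 Q9676 (allL N9676 (tt N8404 F13840) (tt N8641 F13841) (tt N7480 F13843) (tt N7567 F13842) (tt N7476 (iv D10591)))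
theorem Q9678 : ∀ i, i < 9678 → P i := stepQ 9677 Q9677 (allL N9677 (tt N8397 F13844) (tt N8713 F13845) (tt N10633 (iv F16445)) (tt N7479 F13846) (tt N7477 (iv D10592)))
theorem Q9679 : ∀ i, i < 9679 → P i := stepQ 9678 Q9678 (allL N9678 (tt N8403 F13847) (tt N8738 F13848) (tt N10635 (iv F16450)) (tt N7778 F13849) (tt N7478 (iv D10593)))
theorem Q9680 : ∀ i, i < 9680 → P i := stepQ 9679 Q9679 (allL N9679 (tt N8099 F13850) (tt N10636 D11555) (tt N7481 (iv D10594)) (tt N10637 D11556) (tt N10638 D11557))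
theorem Q9681 : ∀ i, i < 9681 → P i := stepQ 9680 Q9680 (allL N9680 (tt N8386 F13851) (tt N10533 (iv F16126)) (tt N10637 (iv F16457)) (tt N7481 (iv D10595)) (tt N10453 F15892))
theorem Q9682 : ∀ i, i < 9682 → P i := stepQ 9681 Q9681 (allL N9681 (tt N8103 F13852) (tt N9601 F13853) (tt N7489 F13854) (tt N7485 (iv F13855)) (tt N7482 (iv D10596)))
theorem Q9683 : ∀ i, i < 9683 → P i := stepQ 9682 Q9682 (allL N9682 (tt N8138 F13856) (tt N9606 F13857) (tt N7492 F13858) (tt N7779 F13859) (tt N7484 (iv D10597)))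
theorem Q9684 : ∀ i, i < 9684 → P i := stepQ 9683 Q9683 (allL N9683 (tt N8135 F13860) (tt N10639 D11558) (tt N7486 (iv D10598)) (tt N10436 (iv F15845)) (tt N10640 D11559))
theorem Q9685 : ∀ i, i < 9685 → P i := stepQ 9684 Q9684 (allL N9684 (tt N7487 F13861) (tt N10534 (iv F16130)) (tt N8383 F13862) (tt N10453 (iv F15891)) (tt N7486 (iv D10599)))
theorem Q9686 : ∀ i, i < 9686 → P i := stepQ 9685 Q9685 (allL N9685 (tt N7489 F13863) (tt N9985 (iv F14598)) (tt N10638 (iv F16460)) (tt N10437 (iv F15848)) (tt N7488 (iv D10600)))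
theorem Q9687 : ∀ i, i < 9687 → P i := stepQ 9686 Q9686 (allL N9686 (tt N7492 F13864) (tt N9990 (iv F14613)) (tt N10640 (iv F16466)) (tt N10459 (iv F15910)) (tt N7491 (iv D10601)))
theorem Q9688 : ∀ i, i < 9688 → P i := stepQ 9687 Q9687 (allL N9687 (tt N9340 F13865) (tt N7493 (iv D10602)) (tt N10641 D11560) (tt N9349 (iv F13866)) (tt N10053 (iv F14778)))
theorem Q9689 : ∀ i, i < 9689 → P i := stepQ 9688 Q9688 (allL N9688 (tt N10045 (iv F14749)) (tt N10529 (iv F16115)) (tt N7493 (iv D10603)) (tt N10642 D11561) (tt N10643 D11562))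
theorem Q9690 : ∀ i, i < 9690 → P i := stepQ 9689 Q9689 (allL N9689 (tt N9215 F13867) (tt N9349 F13868) (tt N10642 (iv F16472)) (tt N7493 (iv D10604)) (tt N10149 F15051))
theorem Q9691 : ∀ i, i < 9691 → P i := stepQ 9690 Q9690 (allL N9690 (tt N7494 (iv D10605)) (tt N9326 F13869) (tt N10643 (iv F16475)) (tt N9287 F13870) (tt N10157 F15075))
theorem Q9692 : ∀ i, i < 9692 → P i := stepQ 9691 Q9691 (allL N9691 (tt N9218 F13871) (tt N10316 (iv F15491)) (tt N7497 (iv D10606)) (tt N7565 F13872) (tt N10150 (iv F15054)))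
theorem Q9693 : ∀ i, i < 9693 → P i := stepQ 9692 Q9692 (allL N9692 (tt N9292 F13873) (tt N10334 (iv F15540)) (tt N7499 F13874) (tt N7498 (iv D10607)) (tt N10164 (iv F15097)))
theorem Q9694 : ∀ i, i < 9694 → P i := stepQ 9693 Q9693 (allL N9693 (tt N9357 F13875) (tt N7500 (iv D10608)) (tt N10644 D11563) (tt N9404 (iv F13876)) (tt N10059 (iv F14798)))
theorem Q9695 : ∀ i, i < 9695 → P i := stepQ 9694 Q9694 (allL N9694 (tt N10060 (iv F14799)) (tt N10508 (iv F16056)) (tt N7500 (iv D10609)) (tt N10645 D11564) (tt N10646 D11565))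
theorem Q9696 : ∀ i, i < 9696 → P i := stepQ 9695 Q9695 (allL N9695 (tt N9290 F13877) (tt N9404 F13878) (tt N10645 (iv F16482)) (tt N7500 (iv D10610)) (tt N10156 (iv F15072)))
theorem Q9697 : ∀ i, i < 9697 → P i := stepQ 9696 Q9696 (allL N9696 (tt N7501 (iv D10611)) (tt N9312 F13879) (tt N10646 (iv F16485)) (tt N9212 F13880) (tt N10160 F15086))
theorem Q9698 : ∀ i, i < 9698 → P i := stepQ 9697 Q9697 (allL N9697 (tt N9429 F13881) (tt N7503 F13882) (tt N9619 F13883) (tt N7502 (iv D10612)) (tt N8218 F13884))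
theorem Q9699 : ∀ i, i < 9699 → P i := stepQ 9698 Q9698 (allL N9698 (tt N9426 F13885) (tt N8218 F13886) (tt N10647 D11566) (tt N7535 (iv F13887)) (tt N7503 (iv D10613)))
theorem Q9700 : ∀ i, i < 9700 → P i := stepQ 9699 Q9699 (allL N9699 (tt N7514 F13889) (tt N8437 F13888) (tt N7504 (iv D10614)) (tt N10648 D11567) (tt N10209 (iv F15196)))
theorem Q9701 : ∀ i, i < 9701 → P i := stepQ 9700 Q9700 (allL N9700 (tt N9443 (iv F13892)) (tt N8220 F13890) (tt N10648 (iv F16490)) (tt N7504 (iv D10615)) (tt N7534 F13891))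
theorem Q9702 : ∀ i, i < 9702 → P i := stepQ 9701 Q9701 (allL N9701 (tt N9823 (iv F14193)) (tt N7508 F13893) (tt N8369 F13894) (tt N9819 (iv F14186)) (tt N7505 (iv D10616)))
theorem Q9703 : ∀ i, i < 9703 → P i := stepQ 9702 Q9702 (allL N9702 (tt N9425 F13896) (tt N10467 (iv F15935)) (tt N7507 F13895) (tt N7506 (iv D10617)) (tt N9425 (iv F13897)))
theorem Q9704 : ∀ i, i < 9704 → P i := stepQ 9703 Q9703 (allL N9703 (tt N10241 (iv F15283)) (tt N7990 F13898) (tt N7517 F13899) (tt N9442 (iv F13900)) (tt N7506 (iv D10618)))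
theorem Q9705 : ∀ i, i < 9705 → P i := stepQ 9704 Q9704 (allL N9704 (tt N10240 (iv F15281)) (tt N9815 (iv F14176)) (tt N9937 (iv F14467)) (tt N7540 F13901) (tt N7507 (iv D10619)))
theorem Q9706 : ∀ i, i < 9706 → P i := stepQ 9705 Q9705 (allL N9705 (tt N10242 (iv F15287)) (tt N9819 (iv F14184)) (tt N9932 (iv F14456)) (tt N7508 (iv D10620)) (tt N7539 F13902))
theorem Q9707 : ∀ i, i < 9707 → P i := stepQ 9706 Q9706 (allL N9706 (tt N7510 (iv D10621)) (tt N8125 F13906) (tt N8055 F13903) (tt N9184 F13904) (tt N8094 F13905))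
theorem Q9708 : ∀ i, i < 9708 → P i := stepQ 9707 Q9707 (allL N9707 (tt N7699 F13907) (tt N7512 (iv D10622)) (tt N9747 (iv F14012)) (tt N7770 (iv F13908)) (tt N10649 D11568))
theorem Q9709 : ∀ i, i < 9709 → P i := stepQ 9708 Q9708 (allL N9708 (tt N10630 (iv F16437)) (tt N10494 (iv F16020)) (tt N7512 (iv D10623)) (tt N10650 D11569) (tt N10630 F16438))
theorem Q9710 : ∀ i, i < 9710 → P i := stepQ 9709 Q9709 (allL N9709 (tt N7536 F13909) (tt N7770 F13910) (tt N10650 (iv F16497)) (tt N7512 (iv D10624)) (tt N10651 D11570))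
theorem Q9711 : ∀ i, i < 9711 → P i := stepQ 9710 Q9710 (allL N9710 (tt N7513 F13911) (tt N10649 (iv F16492)) (tt N10027 (iv F15028)) (tt N10136 F15027) (tt N7512 (iv D10625)))
theorem Q9712 : ∀ i, i < 9712 → P i := stepQ 9711 Q9711 (allL N9711 (tt N10069 (iv F14831)) (tt N9605 F13912) (tt N7513 (iv D10626)) (tt N7545 F13913) (tt N10069 (iv F14830)))
theorem Q9713 : ∀ i, i < 9713 → P i := stepQ 9712 Q9712 (allL N9712 (tt N10067 (iv F14824)) (tt N9602 F13914) (tt N7515 F13915) (tt N7514 (iv D10627)) (tt N10067 (iv F14823)))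
theorem Q9714 : ∀ i, i < 9714 → P i := stepQ 9713 Q9713 (allL N9713 (tt N7515 (iv D10628)) (tt N10652 D11571) (tt N9993 F16453) (tt N10651 (iv F16501)) (tt N7544 F13916))
theorem Q9715 : ∀ i, i < 9715 → P i := stepQ 9714 Q9714 (allL N9714 (tt N7520 F13917) (tt N9428 F13918) (tt N9933 (iv F14459)) (tt N9426 F13919) (tt N7517 (iv D10629)))
theorem Q9716 : ∀ i, i < 9716 → P i := stepQ 9715 Q9715 (allL N9715 (tt N7518 (iv D10630)) (tt N8251 F13920) (tt N7586 F13921) (tt N8996 F13922) (tt N7585 F13923))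
theorem Q9717 : ∀ i, i < 9717 → P i := stepQ 9716 Q9716 (allL N9716 (tt N7538 F13924) (tt N8571 F13925) (tt N7532 (iv D10631)) (tt N10631 (iv F16441)) (tt N10650 (iv F16498)))
theorem Q9718 : ∀ i, i < 9718 → P i := stepQ 9717 Q9717 (allL N9717 (tt N7535 F13926) (tt N7549 F13927) (tt N9936 (iv F14465)) (tt N10068 (iv F14826)) (tt N7532 (iv D10632)))
theorem Q9719 : ∀ i, i < 9719 → P i := stepQ 9718 Q9718 (allL N9718 (tt N9439 F13928) (tt N7534 F13929) (tt N9630 F13930) (tt N7533 (iv D10633)) (tt N8220 F13931))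
theorem Q9720 : ∀ i, i < 9720 → P i := stepQ 9719 Q9719 (allL N9719 (tt N7545 F13933) (tt N8550 F13932) (tt N7535 (iv D10634)) (tt N10647 (iv F16488)) (tt N10230 (iv F15254)))
theorem Q9721 : ∀ i, i < 9721 → P i := stepQ 9720 Q9720 (allL N9720 (tt N10651 (iv F16499)) (tt N8944 F13934) (tt N10230 (iv F15255)) (tt N10242 (iv F15288)) (tt N7536 (iv D10635)))
theorem Q9722 : ∀ i, i < 9722 → P i := stepQ 9721 Q9721 (allL N9721 (tt N9820 (iv F14187)) (tt N7540 F13935) (tt N8569 F13936) (tt N9815 F14178) (tt N7537 (iv D10636)))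
theorem Q9723 : ∀ i, i < 9723 → P i := stepQ 9722 Q9722 (allL N9722 (tt N9442 F13938) (tt N10470 (iv F15946)) (tt N7539 F13937) (tt N7538 (iv D10637)) (tt N9442 (iv F13939)))
theorem Q9724 : ∀ i, i < 9724 → P i := stepQ 9723 Q9723 (allL N9723 (tt N10650 (iv F16495)) (tt N8036 F13940) (tt N7546 F13942) (tt N9425 F13941) (tt N7538 (iv D10638)))
theorem Q9725 : ∀ i, i < 9725 → P i := stepQ 9724 Q9724 (allL N9724 (tt N7706 F13944) (tt N7544 (iv D10639)) (tt N9744 (iv F14001)) (tt N7687 F13943) (tt N10652 (iv F16505)))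
theorem Q9726 : ∀ i, i < 9726 → P i := stepQ 9725 Q9725 (allL N9725 (tt N10631 (iv F16439)) (tt N10490 F16008) (tt N7544 (iv D10640)) (tt N10241 (iv F15285)) (tt N10631 (iv F16442)))
theorem Q9727 : ∀ i, i < 9727 → P i := stepQ 9726 Q9726 (allL N9726 (tt N7548 F13945) (tt N9427 F13946) (tt N9938 (iv F14469)) (tt N9443 F13947) (tt N7546 (iv D10641)))
theorem Q9728 : ∀ i, i < 9728 → P i := stepQ 9727 Q9727 (allL N9727 (tt N7547 (iv D10642)) (tt N8265 F13948) (tt N8318 F13949) (tt N9003 F13951) (tt N8995 F13950))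
theorem Q9729 : ∀ i, i < 9729 → P i := stepQ 9728 Q9728 (allL N9728 (tt N7552 F13952) (tt N8266 F13953) (tt N8970 F13955) (tt N9462 F13954) (tt N7550 (iv D10643)))
theorem Q9730 : ∀ i, i < 9730 → P i := stepQ 9729 Q9729 (allL N9729 (tt N9420 F13957) (tt N9570 (iv F13959)) (tt N7569 (iv D10644)) (tt N9072 F13956) (tt N9568 F13958))
theorem Q9731 : ∀ i, i < 9731 → P i := stepQ 9730 Q9730 (allL N9730 (tt N7570 (iv D10645)) (tt N8776 (iv F13962)) (tt N9419 F13960) (tt N8775 F13961) (tt N10621 (iv F16402)))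
theorem Q9732 : ∀ i, i < 9732 → P i := stepQ 9731 Q9731 (allL N9731 (tt N7572 (iv D10646)) (tt N8735 (iv F13965)) (tt N9449 F13964) (tt N8734 F13963) (tt N10622 (iv F16406)))
theorem Q9733 : ∀ i, i < 9733 → P i := stepQ 9732 Q9732 (allL N9732 (tt N9450 F13966) (tt N9571 (iv F13969)) (tt N7573 (iv D10647)) (tt N9070 F13967) (tt N9580 F13968))
theorem Q9734 : ∀ i, i < 9734 → P i := stepQ 9733 Q9733 (allL N9733 (tt N7574 F13970) (tt N7797 F13971) (tt N10606 (iv F16353)) (tt N9073 F13972) (tt N7573 (iv D10648)))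
theorem Q9735 : ∀ i, i < 9735 → P i := stepQ 9734 Q9734 (allL N9734 (tt N7982 F13975) (tt N7757 F13973) (tt N7575 (iv D10649)) (tt N7756 F13974) (tt N10610 (iv F16366)))
theorem Q9736 : ∀ i, i < 9736 → P i := stepQ 9735 Q9735 (allL N9735 (tt N7978 F13977) (tt N10339 (iv F15552)) (tt N7580 (iv D10650)) (tt N9080 F13976) (tt N10608 (iv F16360)))
theorem Q9737 : ∀ i, i < 9737 → P i := stepQ 9736 Q9736 (allL N9736 (tt N7587 (iv D10651)) (tt N8933 F13978) (tt N10653 D11572) (tt N10625 (iv F16418)) (tt N7662 F13979))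
theorem Q9738 : ∀ i, i < 9738 → P i := stepQ 9737 Q9737 (allL N9737 (tt N7590 (iv D10652)) (tt N8940 F13980) (tt N10654 D11573) (tt N10626 (iv F16421)) (tt N7683 F13981))
theorem Q9739 : ∀ i, i < 9739 → P i := stepQ 9738 Q9738 (allL N9738 (tt N10653 (iv F16506)) (tt N7593 (iv D10653)) (tt N10158 (iv F15077)) (tt N9612 F13982) (tt N9595 (iv F13983)))
theorem Q9740 : ∀ i, i < 9740 → P i := stepQ 9739 Q9739 (allL N9739 (tt N9653 F13984) (tt N9595 F13985) (tt N9647 F13986) (tt N9594 F13987) (tt N7593 (iv D10654)))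
theorem Q9741 : ∀ i, i < 9741 → P i := stepQ 9740 Q9740 (allL N9740 (tt N10654 (iv F16510)) (tt N7595 (iv D10655)) (tt N10159 (iv F15081)) (tt N9596 F13988) (tt N9611 (iv F13989)))
theorem Q9742 : ∀ i, i < 9742 → P i := stepQ 9741 Q9741 (allL N9741 (tt N9659 F13990) (tt N9611 F13991) (tt N9646 F13993) (tt N9610 F13992) (tt N7595 (iv D10656)))
theorem Q9743 : ∀ i, i < 9743 → P i := stepQ 9742 Q9742 (allL N9742 (tt N9660 F13994) (tt N10623 (iv F16408)) (tt N7596 (iv D10657)) (tt N7906 F13995) (tt N7885 F13996))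
theorem Q9744 : ∀ i, i < 9744 → P i := stepQ 9743 Q9743 (allL N9743 (tt N7658 F13999) (tt N7598 (iv D10658)) (tt N7652 F13997) (tt N7762 F13998) (tt N10629 (iv F16434)))
theorem Q9745 : ∀ i, i < 9745 → P i := stepQ 9744 Q9744 (allL N9744 (tt N9662 F14000) (tt N10629 (iv F16432)) (tt N9724 F14001) (tt N8905 F14002) (tt N7598 (iv D10659)))
theorem Q9746 : ∀ i, i < 9746 → P i := stepQ 9745 Q9745 (allL N9745 (tt N9792 (iv F14125)) (tt N7602 F14003) (tt N7975 F14004) (tt N7601 (iv D10660)) (tt N9633 F14005))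
theorem Q9747 : ∀ i, i < 9747 → P i := stepQ 9746 Q9746 (allL N9746 (tt N7674 F14008) (tt N7608 (iv D10661)) (tt N7664 F14006) (tt N7663 F14007) (tt N10627 (iv F16426)))
theorem Q9748 : ∀ i, i < 9748 → P i := stepQ 9747 Q9747 (allL N9747 (tt N9667 F14010) (tt N10627 (iv F16424)) (tt N9707 F14012) (tt N8896 F14011) (tt N7608 (iv D10662)))
theorem Q9749 : ∀ i, i < 9749 → P i := stepQ 9748 Q9748 (allL N9748 (tt N7629 F14013) (tt N9911 (iv F14393)) (tt N7611 (iv D10663)) (tt N9589 (iv F14014)) (tt N9910 (iv F14392)))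
theorem Q9750 : ∀ i, i < 9750 → P i := stepQ 9749 Q9749 (allL N9749 (tt N7616 F14015) (tt N8100 F14016) (tt N9589 F14017) (tt N7611 (iv D10664)) (tt N7793 (iv F14018)))
theorem Q9751 : ∀ i, i < 9751 → P i := stepQ 9750 Q9750 (allL N9750 (tt N7633 F14020) (tt N9912 (iv F14395)) (tt N7613 F14019) (tt N7612 (iv D10665)) (tt N9915 (iv F14407)))
theorem Q9752 : ∀ i, i < 9752 → P i := stepQ 9751 Q9751 (allL N9751 (tt N7651 F14021) (tt N8136 F14022) (tt N10623 (iv F16409)) (tt N7793 F14023) (tt N7613 (iv D10666)))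
theorem Q9753 : ∀ i, i < 9753 → P i := stepQ 9752 Q9752 (allL N9752 (tt N8791 F14024) (tt N9789 (iv F14118)) (tt N7617 (iv D10667)) (tt N9833 (iv F14216)) (tt N8789 F14025))
theorem Q9754 : ∀ i, i < 9754 → P i := stepQ 9753 Q9753 (allL N9753 (tt N7640 F14026) (tt N7991 F14027) (tt N7874 F14028) (tt N7621 (iv D10668)) (tt N8038 F14029))
theorem Q9755 : ∀ i, i < 9755 → P i := stepQ 9754 Q9754 (allL N9754 (tt N7638 F14030) (tt N7989 F14031) (tt N7870 F14032) (tt N7624 (iv D10669)) (tt N7987 F14033))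
theorem Q9756 : ∀ i, i < 9756 → P i := stepQ 9755 Q9755 (allL N9755 (tt N7870 F14034) (tt N7827 F14035) (tt N7647 F14036) (tt N7646 F14037) (tt N7626 (iv D10670)))
theorem Q9757 : ∀ i, i < 9757 → P i := stepQ 9756 Q9756 (allL N9756 (tt N7874 F14038) (tt N7883 F14039) (tt N7643 F14040) (tt N7627 (iv D10671)) (tt N10655 D11574))
theorem Q9758 : ∀ i, i < 9758 → P i := stepQ 9757 Q9757 (allL N9757 (tt N9608 F14042) (tt N9864 (iv F14293)) (tt N7628 (iv D10672)) (tt N7633 F14041) (tt N9863 F14291))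
theorem Q9759 : ∀ i, i < 9759 → P i := stepQ 9758 Q9758 (allL N9758 (tt N10485 (iv F15992)) (tt N7629 (iv D10673)) (tt N8932 F14043) (tt N9889 (iv F14344)) (tt N8153 (iv F14044)))
theorem Q9760 : ∀ i, i < 9760 → P i := stepQ 9759 Q9759 (allL N9759 (tt N9588 F14045) (tt N9889 (iv F14343)) (tt N7630 F14046) (tt N7629 (iv D10674)) (tt N9888 F14341))
theorem Q9761 : ∀ i, i < 9761 → P i := stepQ 9760 Q9760 (allL N9760 (tt N9910 (iv F14391)) (tt N8153 F14047) (tt N7644 F14048) (tt N9863 (iv F14289)) (tt N7629 (iv D10675)))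
theorem Q9762 : ∀ i, i < 9762 → P i := stepQ 9761 Q9761 (allL N9761 (tt N8582 F14051) (tt N10038 (iv F14731)) (tt N10655 (iv F16516)) (tt N7634 F14052) (tt N7630 (iv D10676)))
theorem Q9763 : ∀ i, i < 9763 → P i := stepQ 9762 Q9762 (allL N9762 (tt N9970 (iv F14555)) (tt N7631 (iv D10677)) (tt N10656 D11575) (tt N7858 (iv F14054)) (tt N7846 F14053))
theorem Q9764 : ∀ i, i < 9764 → P i := stepQ 9763 Q9763 (allL N9763 (tt N8581 F14055) (tt N7858 F14056) (tt N7637 F14057) (tt N7631 (iv D10678)) (tt N7856 F14058))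
theorem Q9765 : ∀ i, i < 9765 → P i := stepQ 9764 Q9764 (allL N9764 (tt N9979 (iv F14579)) (tt N7632 (iv D10679)) (tt N10657 D11576) (tt N7847 (iv F14060)) (tt N7857 F14059))
theorem Q9766 : ∀ i, i < 9766 → P i := stepQ 9765 Q9765 (allL N9765 (tt N8580 F14061) (tt N7847 F14062) (tt N7636 F14063) (tt N7632 (iv D10680)) (tt N7845 F14064))
theorem Q9767 : ∀ i, i < 9767 → P i := stepQ 9766 Q9766 (allL N9766 (tt N10486 (iv F15996)) (tt N7633 (iv D10681)) (tt N8943 F14065) (tt N9864 F14294) (tt N8198 (iv F14066)))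
theorem Q9768 : ∀ i, i < 9768 → P i := stepQ 9767 Q9767 (allL N9767 (tt N9915 (iv F14404)) (tt N8198 F14067) (tt N7648 F14068) (tt N9888 (iv F14339)) (tt N7633 (iv D10682)))
theorem Q9769 : ∀ i, i < 9769 → P i := stepQ 9768 Q9768 (allL N9768 (tt N10623 (iv F16407)) (tt N10065 F14817) (tt N7634 (iv D10683)) (tt N10655 (iv F16517)) (tt N7646 F14071))
theorem Q9770 : ∀ i, i < 9770 → P i := stepQ 9769 Q9769 (allL N9769 (tt N9941 (iv F14474)) (tt N8088 F14072) (tt N7641 F14073) (tt N7651 F14074) (tt N7637 (iv D10684)))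
theorem Q9771 : ∀ i, i < 9771 → P i := stepQ 9770 Q9770 (allL N9770 (tt N10641 (iv F16467)) (tt N9784 (iv F14105)) (tt N7642 (iv D10685)) (tt N10400 (iv F15729)) (tt N8930 F14075))
theorem Q9772 : ∀ i, i < 9772 → P i := stepQ 9771 Q9771 (allL N9771 (tt N9186 F14076) (tt N7643 F14077) (tt N10400 (iv F15728)) (tt N7642 (iv D10686)) (tt N8199 F14078))
theorem Q9773 : ∀ i, i < 9773 → P i := stepQ 9772 Q9772 (allL N9772 (tt N8310 F14079) (tt N8199 F14080) (tt N9888 (iv F14340)) (tt N7648 F14081) (tt N7643 (iv D10687)))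
theorem Q9774 : ∀ i, i < 9774 → P i := stepQ 9773 Q9773 (allL N9773 (tt N8292 F14082) (tt N8154 F14083) (tt N9863 (iv F14290)) (tt N7644 (iv D10688)) (tt N7647 F14084))
theorem Q9775 : ∀ i, i < 9775 → P i := stepQ 9774 Q9774 (allL N9774 (tt N10644 (iv F16477)) (tt N9793 (iv F14127)) (tt N7645 (iv D10689)) (tt N10383 F15681) (tt N9353 F14085))
theorem Q9776 : ∀ i, i < 9776 → P i := stepQ 9775 Q9775 (allL N9775 (tt N9178 F14086) (tt N7647 F14087) (tt N10383 (iv F15680)) (tt N7645 (iv D10690)) (tt N8154 F14088))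
theorem Q9777 : ∀ i, i < 9777 → P i := stepQ 9776 Q9776 (allL N9776 (tt N7654 F14089) (tt N8381 F14090) (tt N9595 F14092) (tt N7665 F14091) (tt N7652 (iv D10691)))
theorem Q9778 : ∀ i, i < 9778 → P i := stepQ 9777 Q9777 (allL N9777 (tt N9942 (iv F14478)) (tt N8086 F14093) (tt N10658 D11577) (tt N7681 (iv F14094)) (tt N7653 (iv D10692)))
theorem Q9779 : ∀ i, i < 9779 → P i := stepQ 9778 Q9778 (allL N9778 (tt N7661 F14095) (tt N10656 (iv F16518)) (tt N7654 (iv D10693)) (tt N10659 D11578) (tt N10211 (iv F15201)))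
theorem Q9780 : ∀ i, i < 9780 → P i := stepQ 9779 Q9779 (allL N9779 (tt N9943 (iv F14481)) (tt N8087 F14096) (tt N10659 (iv F16530)) (tt N7654 (iv D10694)) (tt N7680 F14097))
theorem Q9781 : ∀ i, i < 9781 → P i := stepQ 9780 Q9780 (allL N9780 (tt N10466 (iv F15931)) (tt N10051 (iv F14770)) (tt N7655 (iv D10695)) (tt N7682 F14098) (tt N10419 (iv F15792)))
theorem Q9782 : ∀ i, i < 9782 → P i := stepQ 9781 Q9781 (allL N9781 (tt N7656 (iv D10696)) (tt N9211 F14099) (tt N10629 (iv F16433)) (tt N7670 F14100) (tt N10158 (iv F15079)))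
theorem Q9783 : ∀ i, i < 9783 → P i := stepQ 9782 Q9782 (allL N9782 (tt N10469 (iv F15942)) (tt N10052 (iv F14773)) (tt N7657 F14101) (tt N7656 (iv D10697)) (tt N10422 (iv F15802)))
theorem Q9784 : ∀ i, i < 9784 → P i := stepQ 9783 Q9783 (allL N9783 (tt N8892 F14102) (tt N8868 F14103) (tt N7659 F14104) (tt N7658 (iv D10698)) (tt N10624 (iv F16414)))
theorem Q9785 : ∀ i, i < 9785 → P i := stepQ 9784 Q9784 (allL N9784 (tt N10629 (iv F16431)) (tt N9770 F14105) (tt N7662 F14106) (tt N10628 (iv F16429)) (tt N7658 (iv D10699)))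
theorem Q9786 : ∀ i, i < 9786 → P i := stepQ 9785 Q9785 (allL N9785 (tt N8597 F14107) (tt N10416 (iv F15779)) (tt N10660 D11579) (tt N7676 F14108) (tt N7659 (iv D10700)))
theorem Q9787 : ∀ i, i < 9787 → P i := stepQ 9786 Q9786 (allL N9786 (tt N9595 F14109) (tt N8146 F14110) (tt N7660 (iv D10701)) (tt N10661 D11580) (tt N10653 (iv F16508)))
theorem Q9788 : ∀ i, i < 9788 → P i := stepQ 9787 Q9787 (allL N9787 (tt N8602 F14111) (tt N10417 (iv F15783)) (tt N10661 (iv F16538)) (tt N7660 (iv D10702)) (tt N7675 F14112))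
theorem Q9789 : ∀ i, i < 9789 → P i := stepQ 9788 Q9788 (allL N9788 (tt N7681 F14113) (tt N8382 F14114) (tt N9611 F14116) (tt N7786 F14115) (tt N7664 (iv D10703)))
theorem Q9790 : ∀ i, i < 9790 → P i := stepQ 9789 Q9789 (allL N9789 (tt N8603 F14117) (tt N9752 F14118) (tt N7666 (iv D10704)) (tt N7788 F14119) (tt N10177 (iv F15122)))
theorem Q9791 : ∀ i, i < 9791 → P i := stepQ 9790 Q9790 (allL N9790 (tt N8918 F14120) (tt N7667 (iv D10705)) (tt N8336 F14121) (tt N9917 (iv F14414)) (tt N8916 F14122))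
theorem Q9792 : ∀ i, i < 9792 → P i := stepQ 9791 Q9791 (allL N9791 (tt N8968 F14124) (tt N9917 (iv F14413)) (tt N7668 F14123) (tt N7667 (iv D10706)) (tt N10231 (iv F15258)))
theorem Q9793 : ∀ i, i < 9793 → P i := stepQ 9792 Q9792 (allL N9792 (tt N9745 F14125) (tt N10550 (iv F16179)) (tt N7675 F14126) (tt N7674 (iv D10707)) (tt N10628 (iv F16430)))
theorem Q9794 : ∀ i, i < 9794 → P i := stepQ 9793 Q9793 (allL N9793 (tt N10627 (iv F16423)) (tt N9774 F14127) (tt N7683 F14128) (tt N10624 (iv F16413)) (tt N7674 (iv D10708)))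
theorem Q9795 : ∀ i, i < 9795 → P i := stepQ 9794 Q9794 (allL N9794 (tt N9611 F14130) (tt N8213 F14129) (tt N7676 (iv D10709)) (tt N10660 (iv F16534)) (tt N10654 (iv F16512)))
theorem Q9796 : ∀ i, i < 9796 → P i := stepQ 9795 Q9795 (allL N9795 (tt N7677 (iv D10710)) (tt N10657 (iv F16521)) (tt N7681 F14131) (tt N10658 (iv F16525)) (tt N10213 (iv F15207)))
theorem Q9797 : ∀ i, i < 9797 → P i := stepQ 9796 Q9796 (allL N9796 (tt N8771 F14132) (tt N7680 F14133) (tt N9796 F14134) (tt N7679 (iv D10711)) (tt N8087 F14135))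
theorem Q9798 : ∀ i, i < 9798 → P i := stepQ 9797 Q9797 (allL N9797 (tt N7682 (iv D10712)) (tt N9219 F14136) (tt N10627 (iv F16425)) (tt N7789 F14137) (tt N10159 (iv F15082)))
theorem Q9799 : ∀ i, i < 9799 → P i := stepQ 9798 Q9798 (allL N9798 (tt N7692 F14138) (tt N8314 F14139) (tt N10227 (iv F15246)) (tt N8629 F14140) (tt N7684 (iv D10713)))
theorem Q9800 : ∀ i, i < 9800 → P i := stepQ 9799 Q9799 (allL N9799 (tt N9243 F14141) (tt N10095 (iv F14901)) (tt N10215 (iv F15213)) (tt N7690 F14144) (tt N7686 (iv D10714)))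
theorem Q9801 : ∀ i, i < 9801 → P i := stepQ 9800 Q9800 (allL N9800 (tt N7690 F14142) (tt N10136 (iv F15024)) (tt N7921 F14143) (tt N10649 (iv F16494)) (tt N7687 (iv D10715)))
theorem Q9802 : ∀ i, i < 9802 → P i := stepQ 9801 Q9801 (allL N9801 (tt N7688 (iv D10716)) (tt N10104 (iv F14933)) (tt N10258 (iv F15321)) (tt N9824 (iv F14196)) (tt N8653 F14148))
theorem Q9803 : ∀ i, i < 9803 → P i := stepQ 9802 Q9802 (allL N9802 (tt N8653 (iv F14147)) (tt N7690 F14145) (tt N8827 F14146) (tt N10095 (iv F14903)) (tt N7688 (iv D10717)))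
theorem Q9804 : ∀ i, i < 9804 → P i := stepQ 9803 Q9803 (allL N9803 (tt N9261 F14149) (tt N10093 (iv F14894)) (tt N10214 (iv F15210)) (tt N7772 F14150) (tt N7689 (iv D10718)))
theorem Q9805 : ∀ i, i < 9805 → P i := stepQ 9804 Q9804 (allL N9804 (tt N7693 (iv D10719)) (tt N8298 F14151) (tt N10186 (iv F15147)) (tt N8633 F14152) (tt N7741 F14153))
theorem Q9806 : ∀ i, i < 9806 → P i := stepQ 9805 Q9805 (allL N9805 (tt N8125 F14154) (tt N7699 (iv D10720)) (tt N8129 F14155) (tt N10129 (iv F15003)) (tt N8124 (iv F14156)))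
theorem Q9807 : ∀ i, i < 9807 → P i := stepQ 9806 Q9806 (allL N9806 (tt N10649 (iv F16491)) (tt N8124 F14157) (tt N9975 (iv F14571)) (tt N10605 (iv F16350)) (tt N7699 (iv D10721)))
theorem Q9808 : ∀ i, i < 9808 → P i := stepQ 9807 Q9807 (allL N9807 (tt N8119 F14158) (tt N7706 (iv D10722)) (tt N8116 F14159) (tt N10130 (iv F15006)) (tt N8117 (iv F14160)))
theorem Q9809 : ∀ i, i < 9809 → P i := stepQ 9808 Q9808 (allL N9808 (tt N10652 (iv F16502)) (tt N8117 F14161) (tt N9973 (iv F14566)) (tt N10604 F16347) (tt N7706 (iv D10723)))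
theorem Q9810 : ∀ i, i < 9810 → P i := stepQ 9809 Q9809 (allL N9809 (tt N8001 F14162) (tt N7713 (iv D10724)) (tt N10104 (iv F14934)) (tt N10457 (iv F15904)) (tt N7999 F14163))
theorem Q9811 : ∀ i, i < 9811 → P i := stepQ 9810 Q9810 (allL N9810 (tt N9350 F14164) (tt N10457 (iv F15903)) (tt N9376 F14165) (tt N7713 (iv D10725)) (tt N8667 F14166))
theorem Q9812 : ∀ i, i < 9812 → P i := stepQ 9811 Q9811 (allL N9811 (tt N10015 (iv F14676)) (tt N7721 (iv D10726)) (tt N7815 F14167) (tt N7732 F14168) (tt N10014 (iv F14674)))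
theorem Q9813 : ∀ i, i < 9813 → P i := stepQ 9812 Q9812 (allL N9812 (tt N10515 (iv F16074)) (tt N10014 F14675) (tt N10216 (iv F15217)) (tt N7736 F14169) (tt N7721 (iv D10727)))
theorem Q9814 : ∀ i, i < 9814 → P i := stepQ 9813 Q9813 (allL N9813 (tt N7728 (iv D10728)) (tt N9813 F14170) (tt N8728 F14171) (tt N8727 F14172) (tt N10101 (iv F14926)))
theorem Q9815 : ∀ i, i < 9815 → P i := stepQ 9814 Q9814 (allL N9814 (tt N10567 (iv F16228)) (tt N7730 (iv D10729)) (tt N10465 (iv F15929)) (tt N8229 F14173) (tt N8268 F14174))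
theorem Q9816 : ∀ i, i < 9816 → P i := stepQ 9815 Q9815 (allL N9815 (tt N7733 F14175) (tt N9704 F14176) (tt N7932 F14177) (tt N9721 (iv F14178)) (tt N7731 (iv D10730)))
theorem Q9817 : ∀ i, i < 9817 → P i := stepQ 9816 Q9816 (allL N9816 (tt N7732 (iv D10731)) (tt N10662 D11581) (tt N9432 F14179) (tt N10663 D11582) (tt N10016 (iv F14681)))
theorem Q9818 : ∀ i, i < 9818 → P i := stepQ 9817 Q9817 (allL N9817 (tt N7734 (iv D10732)) (tt N10664 D11583) (tt N9437 F14180) (tt N10665 D11584) (tt N10666 D11585))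
theorem Q9819 : ∀ i, i < 9819 → P i := stepQ 9818 Q9818 (allL N9818 (tt N10666 (iv F16554)) (tt N7736 F14181) (tt N9438 F14182) (tt N10014 (iv F14673)) (tt N7734 (iv D10733)))
theorem Q9820 : ∀ i, i < 9820 → P i := stepQ 9819 Q9819 (allL N9819 (tt N7736 F14183) (tt N9705 F14184) (tt N7931 F14185) (tt N9701 F14186) (tt N7735 (iv D10734)))
theorem Q9821 : ∀ i, i < 9821 → P i := stepQ 9820 Q9820 (allL N9820 (tt N9721 F14187) (tt N8260 F14188) (tt N9916 (iv F14410)) (tt N7748 F14189) (tt N7744 (iv D10735)))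
theorem Q9822 : ∀ i, i < 9822 → P i := stepQ 9821 Q9821 (allL N9821 (tt N7746 (iv D10736)) (tt N10519 (iv F16086)) (tt N10556 (iv F16196)) (tt N9830 (iv F14210)) (tt N10285 (iv F15404)))
theorem Q9823 : ∀ i, i < 9823 → P i := stepQ 9822 Q9822 (allL N9822 (tt N10285 (iv F15402)) (tt N7748 F14190) (tt N9478 F14191) (tt N8260 F14192) (tt N7746 (iv D10737)))
theorem Q9824 : ∀ i, i < 9824 → P i := stepQ 9823 Q9823 (allL N9823 (tt N9701 F14193) (tt N8245 F14194) (tt N9905 (iv F14382)) (tt N7755 F14195) (tt N7747 (iv D10738)))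
theorem Q9825 : ∀ i, i < 9825 → P i := stepQ 9824 Q9824 (allL N9824 (tt N7754 (iv D10739)) (tt N10514 (iv F16070)) (tt N10552 (iv F16185)) (tt N9801 F14196) (tt N10284 F15401))
theorem Q9826 : ∀ i, i < 9826 → P i := stepQ 9825 Q9825 (allL N9825 (tt N10284 (iv F15400)) (tt N7755 F14197) (tt N9464 F14198) (tt N8245 F14199) (tt N7754 (iv D10740)))
theorem Q9827 : ∀ i, i < 9827 → P i := stepQ 9826 Q9826 (allL N9826 (tt N7983 F14200) (tt N7766 F14201) (tt N10424 (iv F15806)) (tt N9076 F14202) (tt N7764 (iv D10741)))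
theorem Q9828 : ∀ i, i < 9828 → P i := stepQ 9827 Q9827 (allL N9827 (tt N8033 F14203) (tt N7767 (iv D10742)) (tt N10112 (iv F14960)) (tt N10463 (iv F15922)) (tt N8031 F14204))
theorem Q9829 : ∀ i, i < 9829 → P i := stepQ 9828 Q9828 (allL N9828 (tt N9405 F14205) (tt N10463 (iv F15921)) (tt N9391 F14206) (tt N7767 (iv D10743)) (tt N8670 F14207))
theorem Q9830 : ∀ i, i < 9830 → P i := stepQ 9829 Q9829 (allL N9829 (tt N7772 F14208) (tt N10651 (iv F16500)) (tt N7936 F14209) (tt N10652 (iv F16504)) (tt N7770 (iv D10744)))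
theorem Q9831 : ∀ i, i < 9831 → P i := stepQ 9830 Q9830 (allL N9830 (tt N7771 (iv D10745)) (tt N10112 (iv F14959)) (tt N10401 (iv F15731)) (tt N9821 F14210) (tt N10667 D11586))
theorem Q9832 : ∀ i, i < 9832 → P i := stepQ 9831 Q9831 (allL N9831 (tt N10667 (iv F16557)) (tt N7772 F14211) (tt N8951 F14212) (tt N10093 (iv F14896)) (tt N7771 (iv D10746)))
theorem Q9833 : ∀ i, i < 9833 → P i := stepQ 9832 Q9832 (allL N9832 (tt N7779 F14213) (tt N9939 (iv F14470)) (tt N7778 (iv D10747)) (tt N10635 (iv F16451)) (tt N10229 (iv F15253)))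
theorem Q9834 : ∀ i, i < 9834 → P i := stepQ 9833 Q9833 (allL N9833 (tt N8911 F14214) (tt N7788 (iv D10748)) (tt N8567 F14215) (tt N9752 F14216) (tt N8908 F14217))
theorem Q9835 : ∀ i, i < 9835 → P i := stepQ 9834 Q9834 (allL N9834 (tt N8000 F14218) (tt N10050 (iv F14766)) (tt N7798 (iv D10749)) (tt N10161 (iv F15089)) (tt N10569 (iv F16237)))
theorem Q9836 : ∀ i, i < 9836 → P i := stepQ 9835 Q9835 (allL N9835 (tt N8032 F14219) (tt N10058 (iv F14793)) (tt N7799 (iv D10750)) (tt N10057 F14791) (tt N10581 (iv F16279)))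
theorem Q9837 : ∀ i, i < 9837 → P i := stepQ 9836 Q9836 (allL N9836 (tt N7888 F14220) (tt N10088 (iv F14877)) (tt N7810 F14222) (tt N7824 F14221) (tt N7805 (iv D10751)))
theorem Q9838 : ∀ i, i < 9838 → P i := stepQ 9837 Q9837 (allL N9837 (tt N8238 F14223) (tt N7806 (iv D10752)) (tt N9506 F14224) (tt N7822 F14225) (tt N8237 (iv F14226)))
theorem Q9839 : ∀ i, i < 9839 → P i := stepQ 9838 Q9838 (allL N9838 (tt N7889 F14227) (tt N8237 F14228) (tt N7844 F14229) (tt N7809 F14230) (tt N7806 (iv D10753)))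
theorem Q9840 : ∀ i, i < 9840 → P i := stepQ 9839 Q9839 (allL N9839 (tt N7807 (iv D10754)) (tt N10297 (iv F15440)) (tt N9563 (iv F14238)) (tt N9562 F14237) (tt N10296 F15437))
theorem Q9841 : ∀ i, i < 9841 → P i := stepQ 9840 Q9840 (allL N9840 (tt N10315 (iv F15489)) (tt N9505 F14231) (tt N7807 (iv D10755)) (tt N9519 (iv F14232)) (tt N10313 F15485))
theorem Q9842 : ∀ i, i < 9842 → P i := stepQ 9841 Q9841 (allL N9841 (tt N8243 (iv F14235)) (tt N7808 F14233) (tt N9519 F14234) (tt N7807 (iv D10756)) (tt N8242 F14236))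
theorem Q9843 : ∀ i, i < 9843 → P i := stepQ 9842 Q9842 (allL N9842 (tt N10296 (iv F15435)) (tt N7809 F14239) (tt N10306 (iv F15468)) (tt N8237 F14240) (tt N7807 (iv D10757)))
theorem Q9844 : ∀ i, i < 9844 → P i := stepQ 9843 Q9843 (allL N9843 (tt N7892 F14241) (tt N8242 F14242) (tt N7843 F14243) (tt N7823 F14244) (tt N7808 (iv D10758)))
theorem Q9845 : ∀ i, i < 9845 → P i := stepQ 9844 Q9844 (allL N9844 (tt N10503 (iv F16044)) (tt N10602 (iv F16338)) (tt N7811 (iv D10759)) (tt N10527 (iv F16110)) (tt N10503 F16045))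
theorem Q9846 : ∀ i, i < 9846 → P i := stepQ 9845 Q9845 (allL N9845 (tt N10496 (iv F16025)) (tt N7813 F14245) (tt N10668 D11587) (tt N10026 (iv F14706)) (tt N7811 (iv D10760)))
theorem Q9847 : ∀ i, i < 9847 → P i := stepQ 9846 Q9846 (allL N9846 (tt N7897 F14246) (tt N10011 (iv F14667)) (tt N7839 F14247) (tt N7821 F14248) (tt N7812 (iv D10761)))
theorem Q9848 : ∀ i, i < 9848 → P i := stepQ 9847 Q9847 (allL N9847 (tt N7898 F14249) (tt N10026 (iv F14704)) (tt N7834 F14250) (tt N7813 (iv D10762)) (tt N7820 F14251))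
theorem Q9849 : ∀ i, i < 9849 → P i := stepQ 9848 Q9848 (allL N9848 (tt N10495 (iv F16021)) (tt N7814 (iv D10763)) (tt N8701 F14252) (tt N8688 (iv F14254)) (tt N8692 F14253))
theorem Q9850 : ∀ i, i < 9850 → P i := stepQ 9849 Q9849 (allL N9849 (tt N8350 F14255) (tt N8688 F14256) (tt N9430 F14257) (tt N7814 (iv D10764)) (tt N8686 (iv F14258)))
theorem Q9851 : ∀ i, i < 9851 → P i := stepQ 9850 Q9850 (allL N9850 (tt N10521 (iv F16092)) (tt N7817 (iv D10765)) (tt N8702 F14259) (tt N8693 (iv F14260)) (tt N8687 F14261))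
theorem Q9852 : ∀ i, i < 9852 → P i := stepQ 9851 Q9851 (allL N9851 (tt N8354 F14262) (tt N8693 F14263) (tt N9440 F14264) (tt N7817 (iv D10766)) (tt N8691 F14265))
theorem Q9853 : ∀ i, i < 9853 → P i := stepQ 9852 Q9852 (allL N9852 (tt N7818 F14266) (tt N8687 F14267) (tt N10666 (iv F16555)) (tt N8686 F14268) (tt N7817 (iv D10767)))
theorem Q9854 : ∀ i, i < 9854 → P i := stepQ 9853 Q9853 (allL N9853 (tt N10526 (iv F16107)) (tt N10603 (iv F16342)) (tt N7819 (iv D10768)) (tt N10504 F16048) (tt N10526 F16108))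
theorem Q9855 : ∀ i, i < 9855 → P i := stepQ 9854 Q9854 (allL N9854 (tt N10498 (iv F16029)) (tt N7821 F14269) (tt N10669 D11588) (tt N10011 (iv F14669)) (tt N7819 (iv D10769)))
theorem Q9856 : ∀ i, i < 9856 → P i := stepQ 9855 Q9855 (allL N9855 (tt N7822 (iv D10770)) (tt N10299 (iv F15448)) (tt N9584 (iv F14271)) (tt N9583 F14270) (tt N10298 (iv F15446)))
theorem Q9857 : ∀ i, i < 9857 → P i := stepQ 9856 Q9856 (allL N9856 (tt N10319 (iv F15501)) (tt N9507 F14272) (tt N7822 (iv D10771)) (tt N9506 F14273) (tt N10318 (iv F15500)))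
theorem Q9858 : ∀ i, i < 9858 → P i := stepQ 9857 Q9857 (allL N9857 (tt N10298 (iv F15443)) (tt N7823 F14274) (tt N10310 (iv F15475)) (tt N8242 F14275) (tt N7822 (iv D10772)))
theorem Q9859 : ∀ i, i < 9859 → P i := stepQ 9858 Q9858 (allL N9858 (tt N10295 (iv F15431)) (tt N7824 (iv D10773)) (tt N10282 (iv F15396)) (tt N10088 (iv F14879)) (tt N7863 F14276))
theorem Q9860 : ∀ i, i < 9860 → P i := stepQ 9859 Q9859 (allL N9859 (tt N10034 (iv F14727)) (tt N8877 F14278) (tt N7828 (iv D10774)) (tt N9171 F14277) (tt N8875 (iv F14279)))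
theorem Q9861 : ∀ i, i < 9861 → P i := stepQ 9860 Q9860 (allL N9860 (tt N10543 (iv F16157)) (tt N9949 (iv F14500)) (tt N8875 F14280) (tt N9963 (iv F14537)) (tt N7830 (iv D10775)))
theorem Q9862 : ∀ i, i < 9862 → P i := stepQ 9861 Q9861 (allL N9861 (tt N9174 F14281) (tt N7832 F14282) (tt N9492 F14284) (tt N7869 F14283) (tt N7831 (iv D10776)))
theorem Q9863 : ∀ i, i < 9863 → P i := stepQ 9862 Q9862 (allL N9862 (tt N9158 F14285) (tt N7834 F14286) (tt N9499 F14287) (tt N7838 (iv F14288)) (tt N7833 (iv D10777)))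
theorem Q9864 : ∀ i, i < 9864 → P i := stepQ 9863 Q9863 (allL N9863 (tt N9946 (iv F14490)) (tt N7835 (iv D10778)) (tt N9773 F14290) (tt N9760 F14289) (tt N9757 (iv F14291)))
theorem Q9865 : ∀ i, i < 9865 → P i := stepQ 9864 Q9864 (allL N9864 (tt N7838 F14292) (tt N9757 F14293) (tt N10416 (iv F15780)) (tt N9766 (iv F14294)) (tt N7835 (iv D10779)))
theorem Q9866 : ∀ i, i < 9866 → P i := stepQ 9865 Q9865 (allL N9865 (tt N7836 (iv D10780)) (tt N8173 (iv F14315)) (tt N9875 (iv F14314)) (tt N8172 F14316) (tt N10545 (iv F16166)))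
theorem Q9867 : ∀ i, i < 9867 → P i := stepQ 9866 Q9866 (allL N9866 (tt N9161 F14295) (tt N7839 F14296) (tt N9502 F14297) (tt N7868 F14298) (tt N7837 (iv D10781)))
theorem Q9868 : ∀ i, i < 9868 → P i := stepQ 9867 Q9867 (allL N9867 (tt N9992 (iv F14618)) (tt N9501 F14301) (tt N7838 (iv D10782)) (tt N9499 F14299) (tt N8869 F14300))
theorem Q9869 : ∀ i, i < 9869 → P i := stepQ 9868 Q9868 (allL N9868 (tt N8002 F14303) (tt N7840 (iv D10783)) (tt N7988 F14302) (tt N9516 (iv F14304)) (tt N10670 D11589))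
theorem Q9870 : ∀ i, i < 9870 → P i := stepQ 9869 Q9869 (allL N9869 (tt N10188 (iv F15149)) (tt N9516 F14305) (tt N7841 F14306) (tt N7840 (iv D10784)) (tt N10447 (iv F15874)))
theorem Q9871 : ∀ i, i < 9871 → P i := stepQ 9870 Q9870 (allL N9870 (tt N10183 (iv F15136)) (tt N10670 (iv F16570)) (tt N8878 F14307) (tt N10441 (iv F15856)) (tt N7840 (iv D10785)))
theorem Q9872 : ∀ i, i < 9872 → P i := stepQ 9871 Q9871 (allL N9871 (tt N10195 (iv F15159)) (tt N7843 F14308) (tt N10599 (iv F16331)) (tt N7862 F14309) (tt N7841 (iv D10786)))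
theorem Q9873 : ∀ i, i < 9873 → P i := stepQ 9872 Q9872 (allL N9872 (tt N9925 (iv F14437)) (tt N10596 (iv F16323)) (tt N7842 (iv D10787)) (tt N10594 F16317) (tt N10598 F16329))
theorem Q9874 : ∀ i, i < 9874 → P i := stepQ 9873 Q9873 (allL N9873 (tt N10196 (iv F15162)) (tt N7844 F14310) (tt N10594 (iv F16316)) (tt N7842 (iv D10788)) (tt N7861 F14311))
theorem Q9875 : ∀ i, i < 9875 → P i := stepQ 9874 Q9874 (allL N9874 (tt N8882 F14312) (tt N10658 (iv F16524)) (tt N7847 (iv D10789)) (tt N10657 (iv F16522)) (tt N8881 F14313))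
theorem Q9876 : ∀ i, i < 9876 → P i := stepQ 9875 Q9875 (allL N9875 (tt N10169 (iv F15106)) (tt N7848 (iv D10790)) (tt N9865 F14314) (tt N8155 (iv F14317)) (tt N10671 D11590))
theorem Q9877 : ∀ i, i < 9877 → P i := stepQ 9876 Q9876 (allL N9876 (tt N9969 (iv F14554)) (tt N8155 F14318) (tt N9876 F14319) (tt N7848 (iv D10791)) (tt N10672 D11591))
theorem Q9878 : ∀ i, i < 9878 → P i := stepQ 9877 Q9877 (allL N9877 (tt N7850 F14320) (tt N10671 (iv F16573)) (tt N9553 F14321) (tt N10673 D11592) (tt N7848 (iv D10792)))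
theorem Q9879 : ∀ i, i < 9879 → P i := stepQ 9878 Q9878 (allL N9878 (tt N9550 F14322) (tt N10216 (iv F15216)) (tt N10377 (iv F15661)) (tt N7855 F14323) (tt N7849 (iv D10793)))
theorem Q9880 : ∀ i, i < 9880 → P i := stepQ 9879 Q9879 (allL N9879 (tt N10234 (iv F15266)) (tt N7854 (iv D10794)) (tt N9890 (iv F14345)) (tt N8200 F14326) (tt N10674 D11593))
theorem Q9881 : ∀ i, i < 9881 → P i := stepQ 9880 Q9880 (allL N9880 (tt N9974 (iv F14567)) (tt N8200 F14325) (tt N9880 F14324) (tt N7854 (iv D10795)) (tt N10673 (iv F16583)))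
theorem Q9882 : ∀ i, i < 9882 → P i := stepQ 9881 Q9881 (allL N9881 (tt N7855 F14327) (tt N10674 (iv F16584)) (tt N9883 (iv F14330)) (tt N10672 (iv F16579)) (tt N7854 (iv D10796)))
theorem Q9883 : ∀ i, i < 9883 → P i := stepQ 9882 Q9882 (allL N9882 (tt N8885 F14329) (tt N10659 (iv F16529)) (tt N7858 (iv D10797)) (tt N10656 (iv F16519)) (tt N8884 F14328))
theorem Q9884 : ∀ i, i < 9884 → P i := stepQ 9883 Q9883 (allL N9883 (tt N7859 (iv D10798)) (tt N10040 (iv F14736)) (tt N9881 F14330) (tt N10039 F14735) (tt N9415 F14331))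
theorem Q9885 : ∀ i, i < 9885 → P i := stepQ 9884 Q9884 (allL N9884 (tt N8034 F14333) (tt N7860 (iv D10799)) (tt N8017 F14332) (tt N8016 (iv F14334)) (tt N10675 D11594))
theorem Q9886 : ∀ i, i < 9886 → P i := stepQ 9885 Q9885 (allL N9885 (tt N10236 (iv F15270)) (tt N8016 F14335) (tt N7861 F14336) (tt N7860 (iv D10800)) (tt N10441 (iv F15857)))
theorem Q9887 : ∀ i, i < 9887 → P i := stepQ 9886 Q9886 (allL N9886 (tt N10184 (iv F15143)) (tt N10675 (iv F16588)) (tt N8886 F14337) (tt N10447 (iv F15873)) (tt N7860 (iv D10801)))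
theorem Q9888 : ∀ i, i < 9888 → P i := stepQ 9887 Q9887 (allL N9887 (tt N9928 (iv F14446)) (tt N10595 (iv F16319)) (tt N7862 (iv D10802)) (tt N10599 (iv F16332)) (tt N10593 F16313))
theorem Q9889 : ∀ i, i < 9889 → P i := stepQ 9888 Q9888 (allL N9888 (tt N7930 F14338) (tt N7866 (iv D10803)) (tt N9772 F14340) (tt N9767 F14339) (tt N9759 (iv F14341)))
theorem Q9890 : ∀ i, i < 9890 → P i := stepQ 9889 Q9889 (allL N9889 (tt N7868 F14342) (tt N9759 F14343) (tt N10417 (iv F15784)) (tt N9758 F14344) (tt N7866 (iv D10804)))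
theorem Q9891 : ∀ i, i < 9891 → P i := stepQ 9890 Q9890 (allL N9890 (tt N7867 (iv D10805)) (tt N8183 (iv F14347)) (tt N9879 F14345) (tt N8182 (iv F14346)) (tt N10546 (iv F16170)))
theorem Q9892 : ∀ i, i < 9892 → P i := stepQ 9891 Q9891 (allL N9891 (tt N9987 (iv F14603)) (tt N9500 F14349) (tt N7868 (iv D10806)) (tt N9502 F14348) (tt N9498 (iv F14350)))
theorem Q9893 : ∀ i, i < 9893 → P i := stepQ 9892 Q9892 (allL N9892 (tt N7869 (iv D10807)) (tt N10655 (iv F16515)) (tt N10038 F14733) (tt N10065 (iv F14815)) (tt N7883 F14351))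
theorem Q9894 : ∀ i, i < 9894 → P i := stepQ 9893 Q9893 (allL N9893 (tt N10542 (iv F16153)) (tt N9484 F14352) (tt N7869 (iv D10808)) (tt N9492 F14353) (tt N9479 (iv F14354)))
theorem Q9895 : ∀ i, i < 9895 → P i := stepQ 9894 Q9894 (allL N9894 (tt N10655 (iv F16514)) (tt N7875 F14355) (tt N9941 (iv F14476)) (tt N9609 F14356) (tt N7874 (iv D10809)))
theorem Q9896 : ∀ i, i < 9896 → P i := stepQ 9895 Q9895 (allL N9895 (tt N10297 (iv F15439)) (tt N7877 (iv D10810)) (tt N9504 F14357) (tt N9503 F14358) (tt N10279 (iv F15384)))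
theorem Q9897 : ∀ i, i < 9897 → P i := stepQ 9896 Q9896 (allL N9896 (tt N7879 F14359) (tt N10279 (iv F15386)) (tt N8880 F14360) (tt N10287 (iv F15408)) (tt N7877 (iv D10811)))
theorem Q9898 : ∀ i, i < 9898 → P i := stepQ 9897 Q9897 (allL N9897 (tt N8070 F14361) (tt N7880 F14362) (tt N8858 F14363) (tt N7882 F14364) (tt N7878 (iv D10812)))
theorem Q9899 : ∀ i, i < 9899 → P i := stepQ 9898 Q9898 (allL N9898 (tt N10299 (iv F15447)) (tt N7881 (iv D10813)) (tt N9518 F14365) (tt N9517 F14366) (tt N10281 (iv F15393)))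
theorem Q9900 : ∀ i, i < 9900 → P i := stepQ 9899 Q9899 (allL N9899 (tt N7882 F14367) (tt N10281 (iv F15391)) (tt N8889 F14368) (tt N10280 F15389) (tt N7881 (iv D10814)))
theorem Q9901 : ∀ i, i < 9901 → P i := stepQ 9900 Q9900 (allL N9900 (tt N10544 (iv F16160)) (tt N9954 (iv F14512)) (tt N8890 F14369) (tt N9965 (iv F14542)) (tt N7884 (iv D10815)))
theorem Q9902 : ∀ i, i < 9902 → P i := stepQ 9901 Q9901 (allL N9901 (tt N8347 F14370) (tt N10275 (iv F15370)) (tt N8601 F14371) (tt N7890 (iv D10816)) (tt N10274 F15368))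
theorem Q9903 : ∀ i, i < 9903 → P i := stepQ 9902 Q9902 (allL N9902 (tt N7905 F14372) (tt N8651 F14373) (tt N10667 (iv F16559)) (tt N8650 F14374) (tt N7902 (iv D10817)))
theorem Q9904 : ∀ i, i < 9904 → P i := stepQ 9903 Q9903 (allL N9903 (tt N8357 F14375) (tt N10277 (iv F15377)) (tt N8600 F14376) (tt N7907 (iv D10818)) (tt N10276 (iv F15375)))
theorem Q9905 : ∀ i, i < 9905 → P i := stepQ 9904 Q9904 (allL N9904 (tt N7908 F14377) (tt N8950 F14378) (tt N8961 F14379) (tt N10274 (iv F15367)) (tt N7907 (iv D10819)))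
theorem Q9906 : ∀ i, i < 9906 → P i := stepQ 9905 Q9905 (allL N9905 (tt N8449 F14380) (tt N7915 F14381) (tt N9823 F14382) (tt N8535 F14383) (tt N7909 (iv D10820)))
theorem Q9907 : ∀ i, i < 9907 → P i := stepQ 9906 Q9906 (allL N9906 (tt N7911 (iv D10821)) (tt N8523 F14384) (tt N10118 (iv F14978)) (tt N10118 (iv F14979)) (tt N10548 (iv F16176)))
theorem Q9908 : ∀ i, i < 9908 → P i := stepQ 9907 Q9907 (allL N9907 (tt N10548 (iv F16174)) (tt N8535 F14385) (tt N10407 (iv F15753)) (tt N7915 F14386) (tt N7911 (iv D10822)))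
theorem Q9909 : ∀ i, i < 9909 → P i := stepQ 9908 Q9908 (allL N9908 (tt N7914 (iv D10823)) (tt N10044 (iv F14746)) (tt N10124 (iv F14991)) (tt N10124 (iv F14992)) (tt N10558 (iv F16205)))
theorem Q9910 : ∀ i, i < 9910 → P i := stepQ 9909 Q9909 (allL N9909 (tt N10558 (iv F16202)) (tt N8536 F14387) (tt N10405 (iv F15745)) (tt N7940 F14388) (tt N7914 (iv D10824)))
theorem Q9911 : ∀ i, i < 9911 → P i := stepQ 9910 Q9910 (allL N9910 (tt N9760 F14391) (tt N7920 F14389) (tt N8159 F14390) (tt N7919 (iv D10825)) (tt N9748 F14392))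
theorem Q9912 : ∀ i, i < 9912 → P i := stepQ 9911 Q9911 (allL N9911 (tt N10134 (iv F15017)) (tt N9748 F14393) (tt N10652 (iv F16503)) (tt N7936 F14394) (tt N7920 (iv D10826)))
theorem Q9913 : ∀ i, i < 9913 → P i := stepQ 9912 Q9912 (allL N9912 (tt N10132 (iv F15010)) (tt N9750 F14395) (tt N10649 (iv F16493)) (tt N7921 (iv D10827)) (tt N7935 F14396))
theorem Q9914 : ∀ i, i < 9914 → P i := stepQ 9913 Q9913 (allL N9913 (tt N7924 (iv D10828)) (tt N7925 F14397) (tt N8009 F14398) (tt N9092 F14399) (tt N9121 F14400))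
theorem Q9915 : ∀ i, i < 9915 → P i := stepQ 9914 Q9914 (allL N9914 (tt N7926 F14401) (tt N9121 F14402) (tt N10515 (iv F16076)) (tt N7928 F14403) (tt N7925 (iv D10829)))
theorem Q9916 : ∀ i, i < 9916 → P i := stepQ 9915 Q9915 (allL N9915 (tt N9767 F14404) (tt N7935 F14405) (tt N8185 F14406) (tt N7934 (iv D10830)) (tt N9750 F14407))
theorem Q9917 : ∀ i, i < 9917 → P i := stepQ 9916 Q9916 (allL N9916 (tt N8555 F14408) (tt N7940 F14409) (tt N9820 F14410) (tt N8536 F14411) (tt N7937 (iv D10831)))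
theorem Q9918 : ∀ i, i < 9918 → P i := stepQ 9917 Q9917 (allL N9917 (tt N8964 F14412) (tt N9791 F14413) (tt N7938 (iv D10832)) (tt N9790 F14414) (tt N8962 F14415))
theorem Q9919 : ∀ i, i < 9919 → P i := stepQ 9918 Q9918 (allL N9918 (tt N7942 (iv D10833)) (tt N10438 (iv F15849)) (tt N8997 F14416) (tt N10676 D11595) (tt N9247 F14417))
theorem Q9920 : ∀ i, i < 9920 → P i := stepQ 9919 Q9919 (allL N9919 (tt N10677 D11596) (tt N7943 F14418) (tt N9252 F14419) (tt N7942 (iv D10834)) (tt N10677 (iv F16598)))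
theorem Q9921 : ∀ i, i < 9921 → P i := stepQ 9920 Q9920 (allL N9920 (tt N9247 F14420) (tt N7944 F14421) (tt N9000 F14422) (tt N7946 (iv F14423)) (tt N7942 (iv D10835)))
theorem Q9922 : ∀ i, i < 9922 → P i := stepQ 9921 Q9921 (allL N9921 (tt N7962 F14424) (tt N10677 (iv F16595)) (tt N7950 F14425) (tt N7948 F14426) (tt N7943 (iv D10836)))
theorem Q9923 : ∀ i, i < 9923 → P i := stepQ 9922 Q9922 (allL N9922 (tt N7947 (iv D10837)) (tt N10460 (iv F15911)) (tt N9001 F14427) (tt N10678 D11597) (tt N9265 (iv F14429)))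
theorem Q9924 : ∀ i, i < 9924 → P i := stepQ 9923 Q9923 (allL N9923 (tt N9265 F14430) (tt N7948 F14431) (tt N9256 F14432) (tt N10677 (iv F16597)) (tt N7947 (iv D10838)))
theorem Q9925 : ∀ i, i < 9925 → P i := stepQ 9924 Q9924 (allL N9924 (tt N10606 (iv F16351)) (tt N7957 F14433) (tt N9447 F14435) (tt N7967 F14434) (tt N7952 (iv D10839)))
theorem Q9926 : ∀ i, i < 9926 → P i := stepQ 9925 Q9925 (allL N9925 (tt N9872 F14437) (tt N7953 (iv D10840)) (tt N8452 (iv F14438)) (tt N7968 F14436) (tt N10679 D11598))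
theorem Q9927 : ∀ i, i < 9927 → P i := stepQ 9926 Q9926 (allL N9926 (tt N10596 (iv F16322)) (tt N10679 (iv F16604)) (tt N7981 F14439) (tt N7956 F14440) (tt N7953 (iv D10841)))
theorem Q9928 : ∀ i, i < 9928 → P i := stepQ 9927 Q9927 (allL N9927 (tt N7954 (iv D10842)) (tt N9675 F14441) (tt N8333 F14442) (tt N10680 D11599) (tt N9673 F14443))
theorem Q9929 : ∀ i, i < 9929 → P i := stepQ 9928 Q9928 (allL N9928 (tt N9887 F14446) (tt N7955 F14444) (tt N8453 F14445) (tt N7954 (iv D10843)) (tt N10681 D11600))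
theorem Q9930 : ∀ i, i < 9930 → P i := stepQ 9929 Q9929 (allL N9929 (tt N9673 F14447) (tt N7956 F14448) (tt N8468 F14449) (tt N10679 F16606) (tt N7954 (iv D10844)))
theorem Q9931 : ∀ i, i < 9931 → P i := stepQ 9930 Q9930 (allL N9930 (tt N10595 (iv F16318)) (tt N10681 (iv F16612)) (tt N7980 F14450) (tt N7969 F14451) (tt N7955 (iv D10845)))
theorem Q9932 : ∀ i, i < 9932 → P i := stepQ 9931 Q9931 (allL N9931 (tt N7958 (iv D10846)) (tt N8380 F14452) (tt N9645 F14453) (tt N10682 D11601) (tt N8379 F14454))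
theorem Q9933 : ∀ i, i < 9933 → P i := stepQ 9932 Q9932 (allL N9932 (tt N10578 (iv F16269)) (tt N7959 F14455) (tt N9705 F14456) (tt N7958 (iv D10847)) (tt N10578 (iv F16268)))
theorem Q9934 : ∀ i, i < 9934 → P i := stepQ 9933 Q9933 (allL N9933 (tt N8379 F14457) (tt N7960 F14458) (tt N9714 F14459) (tt N10570 (iv F16239)) (tt N7958 (iv D10848)))
theorem Q9935 : ∀ i, i < 9935 → P i := stepQ 9934 Q9934 (allL N9934 (tt N10591 (iv F16306)) (tt N10578 (iv F16266)) (tt N7977 F14460) (tt N7965 F14461) (tt N7959 (iv D10849)))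
theorem Q9936 : ∀ i, i < 9936 → P i := stepQ 9935 Q9935 (allL N9935 (tt N10587 (iv F16297)) (tt N10570 (iv F16238)) (tt N7974 F14462) (tt N7960 (iv D10850)) (tt N7964 F14463))
theorem Q9937 : ∀ i, i < 9937 → P i := stepQ 9936 Q9936 (allL N9936 (tt N7963 (iv D10851)) (tt N8967 F14464) (tt N9717 F14465) (tt N10683 D11602) (tt N10684 D11603))
theorem Q9938 : ∀ i, i < 9938 → P i := stepQ 9937 Q9937 (allL N9937 (tt N10570 (iv F16241)) (tt N7964 F14466) (tt N9704 F14467) (tt N7963 (iv D10852)) (tt N10570 (iv F16240)))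
theorem Q9939 : ∀ i, i < 9939 → P i := stepQ 9938 Q9938 (allL N9938 (tt N10684 (iv F16623)) (tt N7965 F14468) (tt N9726 F14469) (tt N10578 (iv F16267)) (tt N7963 (iv D10853)))
theorem Q9940 : ∀ i, i < 9940 → P i := stepQ 9939 Q9939 (allL N9939 (tt N7968 (iv D10854)) (tt N9832 F14470) (tt N8548 F14471) (tt N10685 D11604) (tt N10686 D11605))
theorem Q9941 : ∀ i, i < 9941 → P i := stepQ 9940 Q9940 (allL N9940 (tt N10686 (iv F16631)) (tt N7969 F14472) (tt N8565 F14473) (tt N10681 (iv F16614)) (tt N7968 (iv D10855)))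
theorem Q9942 : ∀ i, i < 9942 → P i := stepQ 9941 Q9941 (allL N9941 (tt N9769 F14474) (tt N7972 F14475) (tt N9894 F14476) (tt N7985 F14477) (tt N7971 (iv D10856)))
theorem Q9943 : ∀ i, i < 9943 → P i := stepQ 9942 Q9942 (allL N9942 (tt N9777 F14478) (tt N7974 F14479) (tt N10560 (iv F16208)) (tt N7976 F14480) (tt N7973 (iv D10857)))
theorem Q9944 : ∀ i, i < 9944 → P i := stepQ 9943 Q9943 (allL N9943 (tt N9779 F14481) (tt N7977 F14482) (tt N10566 (iv F16226)) (tt N7984 F14483) (tt N7975 (iv D10858)))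
theorem Q9945 : ∀ i, i < 9945 → P i := stepQ 9944 Q9944 (allL N9944 (tt N10608 (iv F16358)) (tt N7980 F14484) (tt N9446 F14485) (tt N7983 F14486) (tt N7978 (iv D10859)))
theorem Q9946 : ∀ i, i < 9946 → P i := stepQ 9945 Q9945 (allL N9945 (tt N10610 (iv F16364)) (tt N7981 F14487) (tt N9423 F14488) (tt N7979 (iv D10860)) (tt N7982 F14489))
theorem Q9947 : ∀ i, i < 9947 → P i := stepQ 9946 Q9946 (allL N9946 (tt N9863 F14490) (tt N8368 F14491) (tt N7987 F14492) (tt N7986 (iv D10861)) (tt N9608 F14493))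
theorem Q9948 : ∀ i, i < 9948 → P i := stepQ 9947 Q9947 (allL N9947 (tt N9509 F14494) (tt N9425 F14495) (tt N7989 (iv D10862)) (tt N8036 F14496) (tt N10467 (iv F15937)))
theorem Q9949 : ∀ i, i < 9949 → P i := stepQ 9948 Q9948 (allL N9948 (tt N9514 F14497) (tt N9442 F14498) (tt N7991 F14499) (tt N7990 (iv D10863)) (tt N10470 (iv F15948)))
theorem Q9950 : ∀ i, i < 9950 → P i := stepQ 9949 Q9949 (allL N9949 (tt N8041 F14502) (tt N9860 F14500) (tt N7994 (iv D10864)) (tt N8022 F14501) (tt N9520 (iv F14503)))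
theorem Q9951 : ∀ i, i < 9951 → P i := stepQ 9950 Q9950 (allL N9950 (tt N7995 (iv D10865)) (tt N10313 (iv F15484)) (tt N10670 (iv F16571)) (tt N8023 F14504) (tt N9505 F14505))
theorem Q9952 : ∀ i, i < 9952 → P i := stepQ 9951 Q9951 (allL N9951 (tt N10419 (iv F15789)) (tt N7995 (iv D10866)) (tt N9409 F14506) (tt N8039 F14507) (tt N10466 (iv F15934)))
theorem Q9953 : ∀ i, i < 9953 → P i := stepQ 9952 Q9952 (allL N9952 (tt N10422 (iv F15799)) (tt N7997 F14508) (tt N9417 F14509) (tt N7996 (iv D10867)) (tt N10469 (iv F15945)))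
theorem Q9954 : ∀ i, i < 9954 → P i := stepQ 9953 Q9953 (allL N9953 (tt N7997 (iv D10868)) (tt N10318 (iv F15499)) (tt N10675 (iv F16589)) (tt N8026 F14510) (tt N9507 F14511))
theorem Q9955 : ∀ i, i < 9955 → P i := stepQ 9954 Q9954 (allL N9954 (tt N8015 F14514) (tt N9900 F14512) (tt N7998 (iv D10869)) (tt N8028 F14513) (tt N9511 (iv F14515)))
theorem Q9956 : ∀ i, i < 9956 → P i := stepQ 9955 Q9955 (allL N9955 (tt N10670 (iv F16569)) (tt N10183 (iv F15137)) (tt N8041 F14516) (tt N8035 (iv F14517)) (tt N8002 (iv D10870)))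
theorem Q9957 : ∀ i, i < 9957 → P i := stepQ 9956 Q9956 (allL N9956 (tt N10675 (iv F16587)) (tt N10184 (iv F15140)) (tt N8015 F14518) (tt N8003 (iv D10871)) (tt N8034 F14519))
theorem Q9958 : ∀ i, i < 9958 → P i := stepQ 9957 Q9957 (allL N9957 (tt N10056 (iv F14785)) (tt N8504 F14520) (tt N8013 F14521) (tt N8029 F14522) (tt N8007 (iv D10872)))
theorem Q9959 : ∀ i, i < 9959 → P i := stepQ 9958 Q9958 (allL N9958 (tt N8008 (iv D10873)) (tt N10510 (iv F16059)) (tt N8011 F14523) (tt N8018 F14524) (tt N10468 (iv F15941)))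
theorem Q9960 : ∀ i, i < 9960 → P i := stepQ 9959 Q9959 (allL N9959 (tt N9382 F14525) (tt N8012 (iv D10874)) (tt N8978 F14526) (tt N8024 F14527) (tt N9381 F14528))
theorem Q9961 : ∀ i, i < 9961 → P i := stepQ 9960 Q9960 (allL N9960 (tt N8029 F14529) (tt N10441 (iv F15855)) (tt N8023 F14530) (tt N10670 (iv F16572)) (tt N8016 (iv D10875)))
theorem Q9962 : ∀ i, i < 9962 → P i := stepQ 9961 Q9961 (allL N9961 (tt N9515 F14531) (tt N10516 (iv F16079)) (tt N8027 F14532) (tt N10468 (iv F15940)) (tt N8019 (iv D10876)))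
theorem Q9963 : ∀ i, i < 9963 → P i := stepQ 9962 Q9962 (allL N9962 (tt N8020 (iv D10877)) (tt N8284 F14533) (tt N10222 (iv F15235)) (tt N9352 F14535) (tt N9348 F14534))
theorem Q9964 : ∀ i, i < 9964 → P i := stepQ 9963 Q9963 (allL N9963 (tt N9311 F14536) (tt N8022 (iv D10878)) (tt N10387 (iv F15691)) (tt N9860 F14537) (tt N9309 F14538))
theorem Q9965 : ∀ i, i < 9965 → P i := stepQ 9964 Q9964 (allL N9964 (tt N8030 F14539) (tt N10447 (iv F15872)) (tt N8026 (iv D10879)) (tt N10675 (iv F16590)) (tt N9516 F14540))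
theorem Q9966 : ∀ i, i < 9966 → P i := stepQ 9965 Q9965 (allL N9965 (tt N9318 F14541) (tt N8028 (iv D10880)) (tt N10384 (iv F15683)) (tt N9900 F14542) (tt N9317 F14543))
theorem Q9967 : ∀ i, i < 9967 → P i := stepQ 9966 Q9966 (allL N9966 (tt N8144 F14544) (tt N8045 F14545) (tt N9326 F14546) (tt N8345 F14547) (tt N8044 (iv D10881)))
theorem Q9968 : ∀ i, i < 9968 → P i := stepQ 9967 Q9967 (allL N9967 (tt N8153 F14548) (tt N8046 (iv D10882)) (tt N10053 (iv F14777)) (tt N8342 F14549) (tt N10485 (iv F15995)))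
theorem Q9969 : ∀ i, i < 9969 → P i := stepQ 9968 Q9968 (allL N9968 (tt N8367 F14550) (tt N10485 (iv F15993)) (tt N10004 (iv F14651)) (tt N8327 F14551) (tt N8046 (iv D10883)))
theorem Q9970 : ∀ i, i < 9970 → P i := stepQ 9969 Q9969 (allL N9969 (tt N9876 F14554) (tt N8050 F14552) (tt N8047 (iv D10884)) (tt N8377 F14553) (tt N10615 (iv F16382)))
theorem Q9971 : ∀ i, i < 9971 → P i := stepQ 9970 Q9970 (allL N9970 (tt N9762 F14555) (tt N8048 F14556) (tt N9547 F14558) (tt N8361 F14557) (tt N8047 (iv D10885)))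
theorem Q9972 : ∀ i, i < 9972 → P i := stepQ 9971 Q9971 (allL N9971 (tt N8558 F14559) (tt N8309 F14560) (tt N8049 (iv D10886)) (tt N8056 F14561) (tt N10614 (iv F16379)))
theorem Q9973 : ∀ i, i < 9973 → P i := stepQ 9972 Q9972 (allL N9972 (tt N8454 F14564) (tt N8377 F14562) (tt N8051 F14563) (tt N8050 (iv D10887)) (tt N10616 (iv F16385)))
theorem Q9974 : ∀ i, i < 9974 → P i := stepQ 9973 Q9973 (allL N9973 (tt N8494 F14565) (tt N10615 (iv F16381)) (tt N9808 F14566) (tt N10614 F16380) (tt N8050 (iv D10888)))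
theorem Q9975 : ∀ i, i < 9975 → P i := stepQ 9974 Q9974 (allL N9974 (tt N9880 F14567) (tt N8056 (iv D10889)) (tt N8059 F14568) (tt N8309 F14569) (tt N10617 (iv F16388)))
theorem Q9976 : ∀ i, i < 9976 → P i := stepQ 9975 Q9975 (allL N9975 (tt N8495 F14570) (tt N10617 (iv F16387)) (tt N9806 F14571) (tt N10616 F16386) (tt N8056 (iv D10890)))
theorem Q9977 : ∀ i, i < 9977 → P i := stepQ 9976 Q9976 (allL N9976 (tt N8198 F14572) (tt N8057 (iv D10891)) (tt N10059 (iv F14797)) (tt N8326 F14573) (tt N10486 (iv F15999)))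
theorem Q9978 : ∀ i, i < 9978 → P i := stepQ 9977 Q9977 (allL N9977 (tt N8366 F14574) (tt N10486 (iv F15997)) (tt N10018 (iv F14683)) (tt N8343 F14575) (tt N8057 (iv D10892)))
theorem Q9979 : ∀ i, i < 9979 → P i := stepQ 9978 Q9978 (allL N9978 (tt N8349 F14576) (tt N10687 D11606) (tt N8058 (iv D10893)) (tt N8344 F14577) (tt N8325 F14578))
theorem Q9980 : ∀ i, i < 9980 → P i := stepQ 9979 Q9979 (allL N9979 (tt N9764 F14579) (tt N8060 F14580) (tt N9557 F14582) (tt N8378 F14581) (tt N8059 (iv D10894)))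
theorem Q9981 : ∀ i, i < 9981 → P i := stepQ 9980 Q9980 (allL N9980 (tt N9604 F14584) (tt N8062 F14583) (tt N10212 (iv F15205)) (tt N8061 (iv D10895)) (tt N10207 F15189))
theorem Q9982 : ∀ i, i < 9982 → P i := stepQ 9981 Q9981 (allL N9981 (tt N9488 F14585) (tt N10207 (iv F15187)) (tt N8821 F14586) (tt N8066 F14587) (tt N8062 (iv D10896)))
theorem Q9983 : ∀ i, i < 9983 → P i := stepQ 9982 Q9982 (allL N9982 (tt N8852 F14590) (tt N10212 (iv F15204)) (tt N8070 F14588) (tt N8069 (iv D10897)) (tt N8850 F14589))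
theorem Q9984 : ∀ i, i < 9984 → P i := stepQ 9983 Q9983 (allL N9983 (tt N8088 F14591) (tt N8700 F14592) (tt N9537 (iv F14594)) (tt N8080 F14593) (tt N8075 (iv D10898)))
theorem Q9985 : ∀ i, i < 9985 → P i := stepQ 9984 Q9984 (allL N9984 (tt N9537 F14595) (tt N10542 (iv F16154)) (tt N9984 F14597) (tt N8085 F14596) (tt N8082 (iv D10899)))
theorem Q9986 : ∀ i, i < 9986 → P i := stepQ 9985 Q9985 (allL N9985 (tt N8089 (iv D10900)) (tt N9685 F14598) (tt N10485 (iv F15994)) (tt N9343 F14600) (tt N9337 F14599))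
theorem Q9987 : ∀ i, i < 9987 → P i := stepQ 9986 Q9986 (allL N9986 (tt N8157 F14602) (tt N10672 (iv F16577)) (tt N8089 (iv D10901)) (tt N10674 (iv F16586)) (tt N8155 F14601))
theorem Q9988 : ∀ i, i < 9988 → P i := stepQ 9987 Q9987 (allL N9987 (tt N9891 F14603) (tt N8090 F14604) (tt N10674 (iv F16585)) (tt N8089 (iv D10902)) (tt N9356 F14605))
theorem Q9989 : ∀ i, i < 9989 → P i := stepQ 9988 Q9988 (allL N9988 (tt N10339 (iv F15551)) (tt N9356 F14606) (tt N9988 F14607) (tt N8098 F14608) (tt N8090 (iv D10903)))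
theorem Q9990 : ∀ i, i < 9990 → P i := stepQ 9989 Q9989 (allL N9989 (tt N9088 F14609) (tt N8118 F14610) (tt N8093 F14611) (tt N8092 (iv D10904)) (tt N9184 F14612))
theorem Q9991 : ∀ i, i < 9991 → P i := stepQ 9990 Q9990 (allL N9990 (tt N8096 (iv D10905)) (tt N9686 F14613) (tt N10486 (iv F15998)) (tt N9401 F14615) (tt N9342 F14614))
theorem Q9992 : ∀ i, i < 9992 → P i := stepQ 9991 Q9991 (allL N9991 (tt N8201 F14617) (tt N10673 (iv F16581)) (tt N8096 (iv D10906)) (tt N10671 (iv F16575)) (tt N8200 F14616))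
theorem Q9993 : ∀ i, i < 9993 → P i := stepQ 9992 Q9992 (allL N9992 (tt N9867 F14618) (tt N8097 F14619) (tt N10671 (iv F16574)) (tt N8096 (iv D10907)) (tt N9338 F14620))
theorem Q9994 : ∀ i, i < 9994 → P i := stepQ 9993 Q9993 (allL N9993 (tt N10682 (iv F16617)) (tt N8099 (iv D10908)) (tt N9713 (iv F16453)) (tt N10684 (iv F16626)) (tt N10682 F16618))
theorem Q9995 : ∀ i, i < 9995 → P i := stepQ 9994 Q9994 (allL N9994 (tt N8389 F14622) (tt N10684 (iv F16624)) (tt N8100 F14621) (tt N8099 (iv D10909)) (tt N8967 (iv F14623)))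
theorem Q9996 : ∀ i, i < 9996 → P i := stepQ 9995 Q9995 (allL N9995 (tt N10638 (iv F16458)) (tt N10682 (iv F16615)) (tt N8381 F14624) (tt N8380 F14625) (tt N8099 (iv D10910)))
theorem Q9997 : ∀ i, i < 9997 → P i := stepQ 9996 Q9996 (allL N9996 (tt N8485 F14627) (tt N8106 F14626) (tt N8101 (iv D10911)) (tt N8530 (iv F14629)) (tt N8483 (iv F14628)))
theorem Q9998 : ∀ i, i < 9998 → P i := stepQ 9997 Q9997 (allL N9997 (tt N8537 F14630) (tt N8102 F14631) (tt N8530 F14632) (tt N8101 (iv D10912)) (tt N8522 (iv F14633)))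
theorem Q9999 : ∀ i, i < 9999 → P i := stepQ 9998 Q9998 (allL N9998 (tt N8498 F14634) (tt N8103 F14635) (tt N8475 F14636) (tt N8516 F14637) (tt N8101 (iv D10913)))
theorem Q10000 : ∀ i, i < 10000 → P i := stepQ 9999 Q9999 (allL N9999 (tt N8102 (iv D10914)) (tt N10688 D11607) (tt N8386 F14638) (tt N8385 F14639) (tt N10557 (iv F16200)))
theorem Q10001 : ∀ i, i < 10001 → P i := stepQ 10000 Q10000 (allL N10000 (tt N10637 (iv F16456)) (tt N9265 F14640) (tt N8104 (iv D10915)) (tt N8387 F14641) (tt N10460 (iv F15913)))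
theorem Q10002 : ∀ i, i < 10002 → P i := stepQ 10001 Q10001 (allL N10001 (tt N10689 D11608) (tt N9653 F14643) (tt N8105 (iv D10916)) (tt N8818 (iv F14644)) (tt N8810 F14642))
theorem Q10003 : ∀ i, i < 10003 → P i := stepQ 10002 Q10002 (allL N10002 (tt N10274 (iv F15366)) (tt N8348 F14645) (tt N8818 F14646) (tt N8105 (iv D10917)) (tt N8347 F14647))
theorem Q10004 : ∀ i, i < 10004 → P i := stepQ 10003 Q10003 (allL N10003 (tt N8106 (iv D10918)) (tt N10690 D11609) (tt N10410 (iv F15760)) (tt N8820 F14649) (tt N8807 F14648))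
theorem Q10005 : ∀ i, i < 10005 → P i := stepQ 10004 Q10004 (allL N10004 (tt N8113 F14650) (tt N8107 (iv D10919)) (tt N9968 F14651) (tt N9193 (iv F14652)) (tt N9200 (iv F14653)))
theorem Q10006 : ∀ i, i < 10006 → P i := stepQ 10005 Q10005 (allL N10005 (tt N10636 (iv F16452)) (tt N10638 (iv F16459)) (tt N8107 (iv D10920)) (tt N10588 F16301) (tt N10636 F16455))
theorem Q10007 : ∀ i, i < 10007 → P i := stepQ 10006 Q10006 (allL N10006 (tt N9223 F14655) (tt N9193 F14654) (tt N10588 (iv F16300)) (tt N8107 (iv D10921)) (tt N9191 (iv F14656)))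
theorem Q10008 : ∀ i, i < 10008 → P i := stepQ 10007 Q10007 (allL N10007 (tt N8110 F14657) (tt N9200 F14658) (tt N10691 D11610) (tt N9270 (iv F14659)) (tt N8107 (iv D10922)))
theorem Q10009 : ∀ i, i < 10009 → P i := stepQ 10008 Q10008 (allL N10008 (tt N8108 (iv D10923)) (tt N10208 (iv F15190)) (tt N8921 F14660) (tt N9230 (iv F14661)) (tt N8108 (iv F14662)))
theorem Q10010 : ∀ i, i < 10010 → P i := stepQ 10009 Q10009 (allL N10009 (tt N9602 F14664) (tt N8108 (iv D10924)) (tt N8149 F14663) (tt N10221 (iv F15233)) (tt N10208 (iv F15193)))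
theorem Q10011 : ∀ i, i < 10011 → P i := stepQ 10010 Q10010 (allL N10010 (tt N10692 D11611) (tt N10221 (iv F15231)) (tt N8109 F14665) (tt N8108 (iv D10925)) (tt N9280 (iv F14666)))
theorem Q10012 : ∀ i, i < 10012 → P i := stepQ 10011 Q10011 (allL N10011 (tt N8109 (iv D10926)) (tt N9846 F14667) (tt N10601 (iv F16336)) (tt N9854 F14669) (tt N9281 F14668))
theorem Q10013 : ∀ i, i < 10013 → P i := stepQ 10012 Q10012 (allL N10012 (tt N10571 (iv F16242)) (tt N9527 F14670) (tt N8115 F14671) (tt N8114 (iv D10927)) (tt N9526 (iv F14672)))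
theorem Q10014 : ∀ i, i < 10014 → P i := stepQ 10013 Q10013 (allL N10013 (tt N10300 (iv F15451)) (tt N10604 (iv F16346)) (tt N10411 (iv F15763)) (tt N8117 (iv D10928)) (tt N10129 F15004))
theorem Q10015 : ∀ i, i < 10015 → P i := stepQ 10014 Q10014 (allL N10014 (tt N8118 (iv D10929)) (tt N9812 (iv F14675)) (tt N10372 (iv F15644)) (tt N9818 F14673) (tt N9811 F14674))
theorem Q10016 : ∀ i, i < 10016 → P i := stepQ 10015 Q10015 (allL N10015 (tt N9811 F14676) (tt N9184 F14677) (tt N9625 F14679) (tt N8125 F14678) (tt N8118 (iv D10930)))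
theorem Q10017 : ∀ i, i < 10017 → P i := stepQ 10016 Q10016 (allL N10016 (tt N8123 F14680) (tt N10693 D11612) (tt N8122 (iv D10931)) (tt N10301 (iv F15452)) (tt N9816 F14681))
theorem Q10018 : ∀ i, i < 10018 → P i := stepQ 10017 Q10017 (allL N10017 (tt N10301 (iv F15453)) (tt N10605 (iv F16349)) (tt N10414 (iv F15775)) (tt N8124 (iv D10932)) (tt N10130 F15007))
theorem Q10019 : ∀ i, i < 10019 → P i := stepQ 10018 Q10018 (allL N10018 (tt N8126 (iv D10933)) (tt N8131 F14682) (tt N9977 F14683) (tt N9282 F14684) (tt N9192 F14685))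
theorem Q10020 : ∀ i, i < 10020 → P i := stepQ 10019 Q10019 (allL N10019 (tt N10572 (iv F16246)) (tt N9531 F14686) (tt N8128 F14687) (tt N8127 (iv D10934)) (tt N9530 F14688))
theorem Q10021 : ∀ i, i < 10021 → P i := stepQ 10020 Q10020 (allL N10020 (tt N10639 (iv F16461)) (tt N10640 (iv F16465)) (tt N8131 (iv D10935)) (tt N10600 F16334) (tt N10639 F16463))
theorem Q10022 : ∀ i, i < 10022 → P i := stepQ 10021 Q10021 (allL N10021 (tt N9273 F14691) (tt N9282 F14689) (tt N10600 (iv F16333)) (tt N8131 (iv D10936)) (tt N9270 F14690))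
theorem Q10023 : ∀ i, i < 10023 → P i := stepQ 10022 Q10022 (allL N10022 (tt N8134 F14692) (tt N9192 F14693) (tt N10694 D11613) (tt N9191 F14694) (tt N8131 (iv D10937)))
theorem Q10024 : ∀ i, i < 10024 → P i := stepQ 10023 Q10023 (allL N10023 (tt N8132 (iv D10938)) (tt N10210 (iv F15197)) (tt N8928 F14695) (tt N9280 (iv F14696)) (tt N8132 (iv F14697)))
theorem Q10025 : ∀ i, i < 10025 → P i := stepQ 10024 Q10024 (allL N10024 (tt N9605 F14699) (tt N8132 (iv D10939)) (tt N8215 F14698) (tt N9321 (iv F14700)) (tt N10210 (iv F15200)))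
theorem Q10026 : ∀ i, i < 10026 → P i := stepQ 10025 Q10025 (allL N10025 (tt N10695 D11614) (tt N9321 F14701) (tt N8133 F14702) (tt N8132 (iv D10940)) (tt N9230 F14703))
theorem Q10027 : ∀ i, i < 10027 → P i := stepQ 10026 Q10026 (allL N10026 (tt N8133 (iv D10941)) (tt N9847 F14704) (tt N10590 (iv F16305)) (tt N9845 F14706) (tt N9231 F14705))
theorem Q10028 : ∀ i, i < 10028 → P i := stepQ 10027 Q10027 (allL N10027 (tt N10683 (iv F16619)) (tt N8135 (iv D10942)) (tt N9710 F15028) (tt N8379 F14707) (tt N10683 (iv F16622)))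
theorem Q10029 : ∀ i, i < 10029 → P i := stepQ 10028 Q10028 (allL N10028 (tt N10640 (iv F16464)) (tt N10683 (iv F16620)) (tt N8382 F14708) (tt N8967 F14709) (tt N8135 (iv D10943)))
theorem Q10030 : ∀ i, i < 10030 → P i := stepQ 10029 Q10029 (allL N10029 (tt N8490 F14710) (tt N8140 F14711) (tt N8137 (iv D10944)) (tt N8524 F14712) (tt N8489 (iv F14713)))
theorem Q10031 : ∀ i, i < 10031 → P i := stepQ 10030 Q10030 (allL N10030 (tt N8499 F14714) (tt N8138 F14715) (tt N8479 F14717) (tt N8522 F14716) (tt N8137 (iv D10945)))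
theorem Q10032 : ∀ i, i < 10032 → P i := stepQ 10031 Q10031 (allL N10031 (tt N10696 D11615) (tt N9659 F14719) (tt N8139 (iv D10946)) (tt N8811 (iv F14720)) (tt N8817 F14718))
theorem Q10033 : ∀ i, i < 10033 → P i := stepQ 10032 Q10032 (allL N10032 (tt N10276 (iv F15373)) (tt N8358 F14721) (tt N8811 F14722) (tt N8139 (iv D10947)) (tt N8357 F14723))
theorem Q10034 : ∀ i, i < 10034 → P i := stepQ 10033 Q10033 (allL N10033 (tt N8140 (iv D10948)) (tt N10697 D11616) (tt N10413 (iv F15771)) (tt N8808 F14725) (tt N8804 F14724))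
theorem Q10035 : ∀ i, i < 10035 → P i := stepQ 10034 Q10034 (allL N10034 (tt N9859 F14727) (tt N10660 (iv F16533)) (tt N8145 (iv D10949)) (tt N8213 F14726) (tt N10386 (iv F15689)))
theorem Q10036 : ∀ i, i < 10036 → P i := stepQ 10035 Q10035 (allL N10035 (tt N8146 (iv D10950)) (tt N10689 (iv F16643)) (tt N9300 F14728) (tt N10484 (iv F15990)) (tt N10698 D11617))
theorem Q10037 : ∀ i, i < 10037 → P i := stepQ 10036 Q10036 (allL N10036 (tt N10399 F15725) (tt N10661 (iv F16537)) (tt N8147 F14729) (tt N8146 (iv D10951)) (tt N10398 F15727))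
theorem Q10038 : ∀ i, i < 10038 → P i := stepQ 10037 Q10037 (allL N10037 (tt N10698 (iv F16673)) (tt N10653 F16509) (tt N8933 F14730) (tt N10386 (iv F15726)) (tt N8146 (iv D10952)))
theorem Q10039 : ∀ i, i < 10039 → P i := stepQ 10038 Q10038 (allL N10038 (tt N10254 (iv F15314)) (tt N9761 F14731) (tt N9892 (iv F14733)) (tt N8202 F14732) (tt N8147 (iv D10953)))
theorem Q10040 : ∀ i, i < 10040 → P i := stepQ 10039 Q10039 (allL N10039 (tt N9547 F14734) (tt N8148 (iv D10954)) (tt N10672 (iv F16578)) (tt N9883 (iv F14735)) (tt N10562 (iv F16216)))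
theorem Q10041 : ∀ i, i < 10041 → P i := stepQ 10040 Q10040 (allL N10040 (tt N10483 (iv F15987)) (tt N9883 F14736) (tt N9324 F14737) (tt N8148 (iv D10955)) (tt N10563 (iv F16217)))
theorem Q10042 : ∀ i, i < 10042 → P i := stepQ 10041 Q10041 (allL N10041 (tt N8151 F14738) (tt N10562 (iv F16214)) (tt N9328 F14739) (tt N10561 F16212) (tt N8148 (iv D10956)))
theorem Q10043 : ∀ i, i < 10043 → P i := stepQ 10042 Q10042 (allL N10042 (tt N8150 (iv D10957)) (tt N10583 (iv F16285)) (tt N9304 F14742) (tt N9303 F14741) (tt N9524 F14740))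
theorem Q10044 : ∀ i, i < 10044 → P i := stepQ 10043 Q10043 (allL N10043 (tt N8154 (iv D10958)) (tt N8661 F14743) (tt N10169 (iv F15107)) (tt N8672 F14744) (tt N9178 F14745))
theorem Q10045 : ∀ i, i < 10045 → P i := stepQ 10044 Q10044 (allL N10044 (tt N8156 (iv D10959)) (tt N9908 F14746) (tt N9406 F14748) (tt N10699 D11618) (tt N9403 F14747))
theorem Q10046 : ∀ i, i < 10046 → P i := stepQ 10045 Q10045 (allL N10045 (tt N9688 F14749) (tt N10631 (iv F16440)) (tt N8160 (iv D10960)) (tt N8571 F14750) (tt N10490 (iv F16007)))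
theorem Q10047 : ∀ i, i < 10047 → P i := stepQ 10046 Q10046 (allL N10046 (tt N8164 F14751) (tt N8496 F14752) (tt N8578 F14753) (tt N8541 (iv F14754)) (tt N8161 (iv D10961)))
theorem Q10048 : ∀ i, i < 10048 → P i := stepQ 10047 Q10047 (allL N10047 (tt N8503 F14755) (tt N8163 F14756) (tt N8341 F14757) (tt N8162 (iv D10962)) (tt N8529 (iv F14758)))
theorem Q10049 : ∀ i, i < 10049 → P i := stepQ 10048 Q10048 (allL N10048 (tt N8496 F14759) (tt N8164 F14760) (tt N8483 F14761) (tt N8515 F14762) (tt N8162 (iv D10963)))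
theorem Q10050 : ∀ i, i < 10050 → P i := stepQ 10049 Q10049 (allL N10049 (tt N8163 (iv D10964)) (tt N10188 (iv F15150)) (tt N8429 F14763) (tt N8428 (iv F14764)) (tt N10530 (iv F16118)))
theorem Q10051 : ∀ i, i < 10051 → P i := stepQ 10050 Q10050 (allL N10050 (tt N8173 F14768) (tt N9834 F14766) (tt N8168 (iv D10965)) (tt N8711 F14767) (tt N9573 (iv F14769)))
theorem Q10052 : ∀ i, i < 10052 → P i := stepQ 10051 Q10051 (allL N10051 (tt N10478 (iv F15971)) (tt N9780 F14770) (tt N8169 (iv D10966)) (tt N8188 F14771) (tt N8935 (iv F14772)))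
theorem Q10053 : ∀ i, i < 10053 → P i := stepQ 10052 Q10052 (allL N10052 (tt N10479 (iv F15975)) (tt N9782 F14773) (tt N8171 F14774) (tt N8170 (iv D10967)) (tt N8939 F14775))
theorem Q10054 : ∀ i, i < 10054 → P i := stepQ 10053 Q10053 (allL N10053 (tt N8172 (iv D10968)) (tt N8417 F14776) (tt N9967 F14777) (tt N10126 (iv F14995)) (tt N9687 F14778))
theorem Q10055 : ∀ i, i < 10055 → P i := stepQ 10054 Q10054 (allL N10054 (tt N9573 F14779) (tt N10545 (iv F16164)) (tt N9569 F14780) (tt N8184 F14781) (tt N8173 (iv D10969)))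
theorem Q10056 : ∀ i, i < 10056 → P i := stepQ 10055 Q10055 (allL N10055 (tt N9577 F14782) (tt N10546 (iv F16168)) (tt N9575 F14783) (tt N8174 (iv D10970)) (tt N8183 F14784))
theorem Q10057 : ∀ i, i < 10057 → P i := stepQ 10056 Q10056 (allL N10056 (tt N9957 F14785) (tt N10206 (iv F15183)) (tt N8844 F14786) (tt N8178 F14787) (tt N8177 (iv D10971)))
theorem Q10058 : ∀ i, i < 10058 → P i := stepQ 10057 Q10057 (allL N10057 (tt N8408 F14788) (tt N8180 (iv D10972)) (tt N8699 F14789) (tt N9835 (iv F14791)) (tt N9572 F14790))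
theorem Q10059 : ∀ i, i < 10059 → P i := stepQ 10058 Q10058 (allL N10058 (tt N8183 F14792) (tt N9835 F14793) (tt N8181 F14794) (tt N8180 (iv D10973)) (tt N9577 F14795))
theorem Q10060 : ∀ i, i < 10060 → P i := stepQ 10059 Q10059 (allL N10059 (tt N8182 (iv D10974)) (tt N8572 F14796) (tt N9976 F14797) (tt N10117 (iv F14976)) (tt N9693 F14798))
theorem Q10061 : ∀ i, i < 10061 → P i := stepQ 10060 Q10060 (allL N10060 (tt N9694 F14799) (tt N10630 (iv F16435)) (tt N8190 (iv D10975)) (tt N8416 F14800) (tt N10494 (iv F16019)))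
theorem Q10062 : ∀ i, i < 10062 → P i := stepQ 10061 Q10061 (allL N10061 (tt N8194 F14801) (tt N8497 F14802) (tt N8434 F14803) (tt N8426 F14804) (tt N8191 (iv D10976)))
theorem Q10063 : ∀ i, i < 10063 → P i := stepQ 10062 Q10062 (allL N10062 (tt N8497 F14805) (tt N8194 F14806) (tt N8489 F14807) (tt N8529 F14808) (tt N8192 (iv D10977)))
theorem Q10064 : ∀ i, i < 10064 → P i := stepQ 10063 Q10063 (allL N10063 (tt N8193 (iv D10978)) (tt N10236 (iv F15271)) (tt N8410 F14809) (tt N8409 (iv F14810)) (tt N10492 (iv F16013)))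
theorem Q10065 : ∀ i, i < 10065 → P i := stepQ 10064 Q10064 (allL N10064 (tt N8199 (iv D10979)) (tt N8663 F14812) (tt N10234 (iv F15267)) (tt N8662 F14813) (tt N9186 F14814))
theorem Q10066 : ∀ i, i < 10066 → P i := stepQ 10065 Q10065 (allL N10065 (tt N10687 (iv F16635)) (tt N9768 (iv F14817)) (tt N8202 (iv D10980)) (tt N9892 F14815) (tt N9331 F14816))
theorem Q10067 : ∀ i, i < 10067 → P i := stepQ 10066 Q10066 (allL N10066 (tt N8204 (iv D10981)) (tt N9647 F14818) (tt N10682 (iv F16616)) (tt N9645 F14819) (tt N9661 F14820))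
theorem Q10068 : ∀ i, i < 10068 → P i := stepQ 10067 Q10067 (allL N10067 (tt N9712 F14824) (tt N8476 F14821) (tt N8204 (iv D10982)) (tt N8543 F14822) (tt N9712 F14823))
theorem Q10069 : ∀ i, i < 10069 → P i := stepQ 10068 Q10068 (allL N10068 (tt N8210 (iv D10983)) (tt N9646 F14825) (tt N10683 (iv F16621)) (tt N9717 F14826) (tt N9644 F14827))
theorem Q10070 : ∀ i, i < 10070 → P i := stepQ 10069 Q10069 (allL N10069 (tt N9711 F14831) (tt N8478 F14828) (tt N8210 (iv D10984)) (tt N8477 F14829) (tt N9711 F14830))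
theorem Q10071 : ∀ i, i < 10071 → P i := stepQ 10070 Q10070 (allL N10070 (tt N8213 (iv D10985)) (tt N10696 (iv F16666)) (tt N9302 F14832) (tt N9301 F14833) (tt N10700 D11619))
theorem Q10072 : ∀ i, i < 10072 → P i := stepQ 10071 Q10071 (allL N10071 (tt N10700 (iv F16681)) (tt N10654 F16513) (tt N8940 F14834) (tt N10398 (iv F15721)) (tt N8213 (iv D10986)))
theorem Q10073 : ∀ i, i < 10073 → P i := stepQ 10072 Q10072 (allL N10072 (tt N9557 F14835) (tt N8214 (iv D10987)) (tt N10673 (iv F16582)) (tt N9553 (iv F14836)) (tt N10564 (iv F16223)))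
theorem Q10074 : ∀ i, i < 10074 → P i := stepQ 10073 Q10073 (allL N10073 (tt N10244 (iv F15291)) (tt N9553 F14837) (tt N9323 F14838) (tt N8214 (iv D10988)) (tt N10561 (iv F16210)))
theorem Q10075 : ∀ i, i < 10075 → P i := stepQ 10074 Q10074 (allL N10074 (tt N8216 F14839) (tt N10564 (iv F16221)) (tt N9335 F14840) (tt N10563 F16219) (tt N8214 (iv D10989)))
theorem Q10076 : ∀ i, i < 10076 → P i := stepQ 10075 Q10075 (allL N10075 (tt N8268 F14842) (tt N10568 (iv F16232)) (tt N8217 (iv D10990)) (tt N8694 F14841) (tt N10567 F16230))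
theorem Q10077 : ∀ i, i < 10077 → P i := stepQ 10076 Q10076 (allL N10076 (tt N8218 (iv D10991)) (tt N9431 F14843) (tt N9532 F14844) (tt N9542 F14845) (tt N9429 F14846))
theorem Q10078 : ∀ i, i < 10078 → P i := stepQ 10077 Q10077 (allL N10077 (tt N8231 F14850) (tt N9476 F14847) (tt N9614 F14848) (tt N8219 (iv D10992)) (tt N9267 F14849))
theorem Q10079 : ∀ i, i < 10079 → P i := stepQ 10078 Q10078 (allL N10078 (tt N8220 (iv D10993)) (tt N9441 F14851) (tt N9534 F14854) (tt N9533 F14852) (tt N9439 F14853))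
theorem Q10080 : ∀ i, i < 10080 → P i := stepQ 10079 Q10079 (allL N10079 (tt N8228 F14855) (tt N10580 (iv F16274)) (tt N8221 (iv D10994)) (tt N8678 F14856) (tt N10579 F16272))
theorem Q10081 : ∀ i, i < 10081 → P i := stepQ 10080 Q10080 (allL N10080 (tt N8222 F14857) (tt N8685 F14858) (tt N10582 (iv F16283)) (tt N8695 F14859) (tt N8221 (iv D10995)))
theorem Q10082 : ∀ i, i < 10082 → P i := stepQ 10081 Q10081 (allL N10081 (tt N10340 (iv F15555)) (tt N9453 F14860) (tt N10165 (iv F15101)) (tt N8223 (iv D10996)) (tt N10268 (iv F15345)))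
theorem Q10083 : ∀ i, i < 10083 → P i := stepQ 10082 Q10082 (allL N10082 (tt N8982 F14861) (tt N9289 F14863) (tt N8224 (iv D10997)) (tt N10153 (iv F15060)) (tt N9288 F14862))
theorem Q10084 : ∀ i, i < 10084 → P i := stepQ 10083 Q10083 (allL N10083 (tt N8225 F14864) (tt N9460 F14865) (tt N10464 (iv F15924)) (tt N10268 (iv F15344)) (tt N8224 (iv D10998)))
theorem Q10085 : ∀ i, i < 10085 → P i := stepQ 10084 Q10084 (allL N10084 (tt N8694 F14866) (tt N10273 (iv F15362)) (tt N8394 F14867) (tt N8226 (iv D10999)) (tt N10272 F15360))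
theorem Q10086 : ∀ i, i < 10086 → P i := stepQ 10085 Q10085 (allL N10085 (tt N9614 F14868) (tt N8386 F14869) (tt N8230 (iv D11000)) (tt N8384 (iv F14870)) (tt N10464 (iv F15925)))
theorem Q10087 : ∀ i, i < 10087 → P i := stepQ 10086 Q10086 (allL N10086 (tt N8678 F14871) (tt N10270 (iv F15350)) (tt N8384 F14872) (tt N8230 (iv D11001)) (tt N10269 F15348))
theorem Q10088 : ∀ i, i < 10088 → P i := stepQ 10087 Q10087 (allL N10087 (tt N8698 F14873) (tt N10115 (iv F14969)) (tt N8641 F14875) (tt N8274 F14874) (tt N8233 (iv D11002)))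
theorem Q10089 : ∀ i, i < 10089 → P i := stepQ 10088 Q10088 (allL N10088 (tt N8236 F14876) (tt N9836 F14877) (tt N8658 F14878) (tt N9858 F14879) (tt N8235 (iv D11003)))
theorem Q10090 : ∀ i, i < 10090 → P i := stepQ 10089 Q10089 (allL N10089 (tt N8348 F14880) (tt N8240 F14881) (tt N8335 F14882) (tt N8239 (iv D11004)) (tt N8321 F14883))
theorem Q10091 : ∀ i, i < 10091 → P i := stepQ 10090 Q10090 (allL N10090 (tt N9562 F14884) (tt N8321 F14885) (tt N10316 (iv F15492)) (tt N8273 F14886) (tt N8240 (iv D11005)))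
theorem Q10092 : ∀ i, i < 10092 → P i := stepQ 10091 Q10091 (allL N10091 (tt N9583 F14887) (tt N8322 F14888) (tt N10334 (iv F15541)) (tt N8241 (iv D11006)) (tt N8272 F14889))
theorem Q10093 : ∀ i, i < 10093 → P i := stepQ 10092 Q10092 (allL N10092 (tt N8745 F14890) (tt N8904 F14891) (tt N8245 (iv D11007)) (tt N9464 F14892) (tt N8902 F14893))
theorem Q10094 : ∀ i, i < 10094 → P i := stepQ 10093 Q10093 (allL N10093 (tt N8247 (iv D11008)) (tt N9803 F14894) (tt N10425 (iv F15810)) (tt N9831 F14896) (tt N9284 F14895))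
theorem Q10095 : ∀ i, i < 10095 → P i := stepQ 10094 Q10094 (allL N10094 (tt N8970 F14897) (tt N8901 F14898) (tt N8260 (iv D11009)) (tt N9478 F14899) (tt N8899 F14900))
theorem Q10096 : ∀ i, i < 10096 → P i := stepQ 10095 Q10095 (allL N10095 (tt N8262 (iv D11010)) (tt N9799 F14901) (tt N10367 (iv F15629)) (tt N9802 F14903) (tt N9195 F14902))
theorem Q10097 : ∀ i, i < 10097 → P i := stepQ 10096 Q10096 (allL N10096 (tt N8358 F14904) (tt N8272 F14905) (tt N8334 F14906) (tt N8271 (iv D11011)) (tt N8322 F14907))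
theorem Q10098 : ∀ i, i < 10098 → P i := stepQ 10097 Q10097 (allL N10097 (tt N8279 F14908) (tt N9308 F14909) (tt N9408 F14910) (tt N9408 F14911) (tt N8278 (iv D11012)))
theorem Q10099 : ∀ i, i < 10099 → P i := stepQ 10098 Q10098 (allL N10098 (tt N8667 F14912) (tt N9352 (iv F14914)) (tt N8284 (iv D11013)) (tt N8284 F14915) (tt N9350 F14913))
theorem Q10100 : ∀ i, i < 10100 → P i := stepQ 10099 Q10099 (allL N10099 (tt N9513 F14916) (tt N8289 (iv D11014)) (tt N10699 (iv F16679)) (tt N9406 (iv F14918)) (tt N9351 F14917))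
theorem Q10101 : ∀ i, i < 10101 → P i := stepQ 10100 Q10100 (allL N10100 (tt N8670 F14919) (tt N9406 (iv F14921)) (tt N8289 (iv D11015)) (tt N8289 F14922) (tt N9405 F14920))
theorem Q10102 : ∀ i, i < 10102 → P i := stepQ 10101 Q10101 (allL N10101 (tt N8297 F14923) (tt N10101 F14924) (tt N8293 (iv D11016)) (tt N8707 F14925) (tt N9813 F14926))
theorem Q10103 : ∀ i, i < 10103 → P i := stepQ 10102 Q10102 (allL N10102 (tt N8294 F14927) (tt N8706 F14928) (tt N9421 F14929) (tt N8704 F14930) (tt N8293 (iv D11017)))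
theorem Q10104 : ∀ i, i < 10104 → P i := stepQ 10103 Q10103 (allL N10103 (tt N10662 (iv F16540)) (tt N8586 F14931) (tt N8294 (iv D11018)) (tt N8312 F14932) (tt N10369 (iv F15636)))
theorem Q10105 : ∀ i, i < 10105 → P i := stepQ 10104 Q10104 (allL N10104 (tt N8295 (iv D11019)) (tt N9801 F14933) (tt N9809 F14934) (tt N10514 (iv F16073)) (tt N10278 (iv F15382)))
theorem Q10106 : ∀ i, i < 10106 → P i := stepQ 10105 Q10105 (allL N10105 (tt N10664 (iv F16547)) (tt N8588 F14935) (tt N8296 F14936) (tt N8295 (iv D11020)) (tt N10368 (iv F15632)))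
theorem Q10107 : ∀ i, i < 10107 → P i := stepQ 10106 Q10106 (allL N10106 (tt N8296 (iv D11021)) (tt N8705 (iv F14940)) (tt N9444 F14939) (tt N8708 F14937) (tt N8311 F14938))
theorem Q10108 : ∀ i, i < 10108 → P i := stepQ 10107 Q10107 (allL N10107 (tt N9105 F14941) (tt N8429 (iv F14942)) (tt N8298 (iv D11022)) (tt N8427 F14943) (tt N10531 (iv F16122)))
theorem Q10109 : ∀ i, i < 10109 → P i := stepQ 10108 Q10108 (allL N10108 (tt N8707 F14944) (tt N8633 F14945) (tt N8427 F14946) (tt N8298 (iv D11023)) (tt N8632 F14947))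
theorem Q10110 : ∀ i, i < 10110 → P i := stepQ 10109 Q10109 (allL N10109 (tt N9166 F14948) (tt N8463 F14949) (tt N8299 (iv D11024)) (tt N8462 F14950) (tt N9128 F14951))
theorem Q10111 : ∀ i, i < 10111 → P i := stepQ 10110 Q10110 (allL N10110 (tt N8514 F14952) (tt N8511 F14953) (tt N8308 F14954) (tt N8307 (iv D11025)) (tt N9057 F14955))
theorem Q10112 : ∀ i, i < 10112 → P i := stepQ 10111 Q10111 (allL N10111 (tt N8313 F14956) (tt N10111 F14957) (tt N8311 (iv D11026)) (tt N8703 F14958) (tt N10271 (iv F15357)))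
theorem Q10113 : ∀ i, i < 10113 → P i := stepQ 10112 Q10112 (allL N10112 (tt N8312 (iv D11027)) (tt N9830 F14959) (tt N9827 F14960) (tt N10519 (iv F16088)) (tt N10424 (iv F15807)))
theorem Q10114 : ∀ i, i < 10114 → P i := stepQ 10113 Q10113 (allL N10113 (tt N9077 F14961) (tt N8410 (iv F14962)) (tt N8314 (iv D11028)) (tt N8408 F14963) (tt N10493 (iv F16017)))
theorem Q10115 : ∀ i, i < 10115 → P i := stepQ 10114 Q10114 (allL N10114 (tt N8703 F14964) (tt N8629 F14965) (tt N8408 F14966) (tt N8314 (iv D11029)) (tt N8628 F14967))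
theorem Q10116 : ∀ i, i < 10116 → P i := stepQ 10115 Q10115 (allL N10115 (tt N8359 F14968) (tt N10087 F14969) (tt N8323 F14970) (tt N8566 F14971) (tt N8320 (iv D11030)))
theorem Q10117 : ∀ i, i < 10117 → P i := stepQ 10116 Q10116 (allL N10116 (tt N9331 F14972) (tt N8325 F14973) (tt N9312 F14974) (tt N8324 (iv D11031)) (tt N10687 (iv F16638)))
theorem Q10118 : ∀ i, i < 10118 → P i := stepQ 10117 Q10117 (allL N10117 (tt N9352 F14975) (tt N10149 (iv F15049)) (tt N8326 (iv D11032)) (tt N10059 F14976) (tt N9349 (iv F14977)))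
theorem Q10119 : ∀ i, i < 10119 → P i := stepQ 10118 Q10118 (allL N10118 (tt N8329 (iv D11033)) (tt N10222 (iv F15234)) (tt N9906 F14978) (tt N9906 F14979) (tt N10537 (iv F16139)))
theorem Q10120 : ∀ i, i < 10120 → P i := stepQ 10119 Q10119 (allL N10119 (tt N10537 (iv F16138)) (tt N10215 (iv F15212)) (tt N10349 (iv F15580)) (tt N8338 F14980) (tt N8329 (iv D11034)))
theorem Q10121 : ∀ i, i < 10121 → P i := stepQ 10120 Q10120 (allL N10120 (tt N8455 F14982) (tt N10154 (iv F15064)) (tt N8332 F14981) (tt N8331 (iv D11035)) (tt N10701 D11620))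
theorem Q10122 : ∀ i, i < 10122 → P i := stepQ 10121 Q10121 (allL N10121 (tt N8451 F14983) (tt N10155 (iv F15067)) (tt N8443 F14984) (tt N10702 D11621) (tt N8331 (iv D11036)))
theorem Q10123 : ∀ i, i < 10123 → P i := stepQ 10122 Q10122 (allL N10122 (tt N8464 F14985) (tt N8334 F14986) (tt N10685 (iv F16629)) (tt N8548 F14987) (tt N8332 (iv D11037)))
theorem Q10124 : ∀ i, i < 10124 → P i := stepQ 10123 Q10123 (allL N10123 (tt N8562 F14990) (tt N8335 F14988) (tt N10680 (iv F16608)) (tt N8333 (iv D11038)) (tt N8360 F14989))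
theorem Q10125 : ∀ i, i < 10125 → P i := stepQ 10124 Q10124 (allL N10124 (tt N8337 (iv D11039)) (tt N10699 (iv F16678)) (tt N9908 F14991) (tt N9908 F14992) (tt N10703 D11622))
theorem Q10126 : ∀ i, i < 10126 → P i := stepQ 10125 Q10125 (allL N10125 (tt N10703 (iv F16691)) (tt N10214 (iv F15209)) (tt N10352 (iv F15590)) (tt N8568 F14993) (tt N8337 (iv D11040)))
theorem Q10127 : ∀ i, i < 10127 → P i := stepQ 10126 Q10126 (allL N10126 (tt N9406 F14994) (tt N10156 (iv F15070)) (tt N8342 (iv D11041)) (tt N10053 F14995) (tt N9404 (iv F14996)))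
theorem Q10128 : ∀ i, i < 10128 → P i := stepQ 10127 Q10127 (allL N10127 (tt N9177 F14997) (tt N8344 (iv D11042)) (tt N9407 F14999) (tt N10687 (iv F16637)) (tt N8345 F14998))
theorem Q10129 : ∀ i, i < 10129 → P i := stepQ 10128 Q10128 (allL N10128 (tt N8346 (iv D11043)) (tt N10241 (iv F15284)) (tt N8424 F15000) (tt N10490 (iv F16006)) (tt N8416 F15001))
theorem Q10130 : ∀ i, i < 10130 → P i := stepQ 10129 Q10129 (allL N10129 (tt N10663 (iv F16543)) (tt N9528 F15002) (tt N8350 (iv D11044)) (tt N9805 F15003) (tt N10013 (iv F15004)))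
theorem Q10131 : ∀ i, i < 10131 → P i := stepQ 10130 Q10130 (allL N10130 (tt N10665 (iv F16550)) (tt N9529 F15005) (tt N8354 (iv D11045)) (tt N9807 F15006) (tt N10017 (iv F15007)))
theorem Q10132 : ∀ i, i < 10132 → P i := stepQ 10131 Q10131 (allL N10131 (tt N8559 F15008) (tt N10148 (iv F15046)) (tt N8360 (iv D11046)) (tt N8547 F15009) (tt N10702 (iv F16689)))
theorem Q10133 : ∀ i, i < 10133 → P i := stepQ 10132 Q10132 (allL N10132 (tt N9912 F15010) (tt N8366 F15011) (tt N9669 F15012) (tt N8375 F15013) (tt N8364 (iv D11047)))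
theorem Q10134 : ∀ i, i < 10134 → P i := stepQ 10133 Q10133 (allL N10133 (tt N10270 (iv F15349)) (tt N9666 F15015) (tt N8365 (iv D11048)) (tt N9664 (iv F15016)) (tt N9668 F15014))
theorem Q10135 : ∀ i, i < 10135 → P i := stepQ 10134 Q10134 (allL N10134 (tt N9911 F15017) (tt N8367 F15018) (tt N9664 F15019) (tt N8365 (iv D11049)) (tt N8374 F15020))
theorem Q10136 : ∀ i, i < 10136 → P i := stepQ 10135 Q10135 (allL N10135 (tt N10273 (iv F15361)) (tt N9665 F15023) (tt N8375 (iv D11050)) (tt N9669 F15021) (tt N9663 F15022))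
theorem Q10137 : ∀ i, i < 10137 → P i := stepQ 10136 Q10136 (allL N10136 (tt N8589 (iv F15026)) (tt N9800 F15024) (tt N8379 (iv D11051)) (tt N9710 (iv F15027)) (tt N8587 (iv F15025)))
theorem Q10138 : ∀ i, i < 10138 → P i := stepQ 10137 Q10137 (allL N10137 (tt N10680 (iv F16609)) (tt N8385 (iv D11052)) (tt N8461 F15353) (tt N10688 (iv F16641)) (tt N10611 (iv F16368)))
theorem Q10139 : ∀ i, i < 10139 → P i := stepQ 10138 Q10138 (allL N10138 (tt N10633 (iv F16444)) (tt N10611 (iv F16367)) (tt N8399 F15029) (tt N10489 F16005) (tt N8385 (iv D11053)))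
theorem Q10140 : ∀ i, i < 10140 → P i := stepQ 10139 Q10139 (allL N10139 (tt N10676 (iv F16593)) (tt N8387 (iv D11054)) (tt N9246 F15031) (tt N9265 F15030) (tt N10676 F16594))
theorem Q10141 : ∀ i, i < 10141 → P i := stepQ 10140 Q10140 (allL N10140 (tt N8390 F15032) (tt N10676 (iv F16591)) (tt N8397 F15033) (tt N10438 (iv F15851)) (tt N8387 (iv D11055)))
theorem Q10142 : ∀ i, i < 10142 → P i := stepQ 10141 Q10141 (allL N10141 (tt N10678 (iv F16599)) (tt N8392 (iv D11056)) (tt N9248 F15035) (tt N9247 F15034) (tt N10678 (iv F16602)))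
theorem Q10143 : ∀ i, i < 10143 → P i := stepQ 10142 Q10142 (allL N10142 (tt N8393 F15036) (tt N10678 (iv F16600)) (tt N8403 F15037) (tt N10460 (iv F15912)) (tt N8392 (iv D11057)))
theorem Q10144 : ∀ i, i < 10144 → P i := stepQ 10143 Q10143 (allL N10143 (tt N9543 F15038) (tt N8396 F15039) (tt N10268 (iv F15343)) (tt N10464 (iv F15926)) (tt N8394 (iv D11058)))
theorem Q10145 : ∀ i, i < 10145 → P i := stepQ 10144 Q10144 (allL N10144 (tt N10685 (iv F16627)) (tt N8395 (iv D11059)) (tt N8457 F15365) (tt N10488 (iv F16001)) (tt N10618 (iv F16390)))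
theorem Q10146 : ∀ i, i < 10146 → P i := stepQ 10145 Q10145 (allL N10145 (tt N10635 (iv F16449)) (tt N10618 (iv F16389)) (tt N8401 F15040) (tt N10557 (iv F16199)) (tt N8395 (iv D11060)))
theorem Q10147 : ∀ i, i < 10147 → P i := stepQ 10146 Q10146 (allL N10146 (tt N9538 F15041) (tt N8399 F15042) (tt N10262 (iv F15331)) (tt N10455 F15899) (tt N8398 (iv D11061)))
theorem Q10148 : ∀ i, i < 10148 → P i := stepQ 10147 Q10147 (allL N10147 (tt N9540 F15043) (tt N8401 F15044) (tt N10266 (iv F15339)) (tt N10461 (iv F15916)) (tt N8400 (iv D11062)))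
theorem Q10149 : ∀ i, i < 10149 → P i := stepQ 10148 Q10148 (allL N10148 (tt N8409 F15045) (tt N10131 F15046) (tt N8405 (iv D11063)) (tt N8540 F15047) (tt N10704 D11623))
theorem Q10150 : ∀ i, i < 10150 → P i := stepQ 10149 Q10149 (allL N10149 (tt N8410 F15048) (tt N10117 F15049) (tt N8406 (iv D11064)) (tt N8572 F15050) (tt N9689 (iv F15051)))
theorem Q10151 : ∀ i, i < 10151 → P i := stepQ 10150 Q10150 (allL N10150 (tt N8407 (iv D11065)) (tt N8722 F15052) (tt N10704 (iv F16697)) (tt N8421 F15053) (tt N9691 F15054))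
theorem Q10152 : ∀ i, i < 10152 → P i := stepQ 10151 Q10151 (allL N10151 (tt N9572 F15055) (tt N8411 F15056) (tt N8616 F15057) (tt N10531 (iv F16121)) (tt N8408 (iv D11066)))
theorem Q10153 : ∀ i, i < 10153 → P i := stepQ 10152 Q10152 (allL N10152 (tt N10704 (iv F16695)) (tt N10203 (iv F15177)) (tt N8413 F15058) (tt N10530 (iv F16117)) (tt N8409 (iv D11067)))
theorem Q10154 : ∀ i, i < 10154 → P i := stepQ 10153 Q10153 (allL N10153 (tt N9070 F15059) (tt N8413 (iv D11068)) (tt N8614 F15062) (tt N10082 F15060) (tt N9565 F15061))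
theorem Q10155 : ∀ i, i < 10155 → P i := stepQ 10154 Q10154 (allL N10154 (tt N8428 F15063) (tt N10120 F15064) (tt N8415 F15065) (tt N8414 (iv D11069)) (tt N10705 D11624))
theorem Q10156 : ∀ i, i < 10156 → P i := stepQ 10155 Q10155 (allL N10155 (tt N8426 F15066) (tt N10121 F15067) (tt N8421 F15068) (tt N10704 (iv F16698)) (tt N8414 (iv D11070)))
theorem Q10157 : ∀ i, i < 10157 → P i := stepQ 10156 Q10156 (allL N10156 (tt N8429 F15069) (tt N10126 F15070) (tt N8418 F15071) (tt N8417 (iv D11071)) (tt N9695 F15072))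
theorem Q10158 : ∀ i, i < 10158 → P i := stepQ 10157 Q10157 (allL N10157 (tt N8578 F15073) (tt N10541 (iv F16150)) (tt N8419 (iv D11072)) (tt N9033 F15074) (tt N9690 (iv F15075)))
theorem Q10159 : ∀ i, i < 10159 → P i := stepQ 10158 Q10158 (allL N10158 (tt N8934 F15076) (tt N8420 (iv D11073)) (tt N9738 F15077) (tt N8574 F15078) (tt N9781 F15079))
theorem Q10160 : ∀ i, i < 10160 → P i := stepQ 10159 Q10159 (allL N10159 (tt N8938 (iv F15083)) (tt N8423 F15080) (tt N9740 F15081) (tt N8422 (iv D11074)) (tt N9797 F15082))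
theorem Q10161 : ∀ i, i < 10161 → P i := stepQ 10160 Q10160 (allL N10160 (tt N8434 F15084) (tt N10540 (iv F16148)) (tt N8425 (iv D11075)) (tt N9052 F15085) (tt N9696 (iv F15086)))
theorem Q10162 : ∀ i, i < 10162 → P i := stepQ 10161 Q10161 (allL N10161 (tt N8427 (iv D11076)) (tt N8711 F15087) (tt N8709 F15088) (tt N9834 F15089) (tt N9576 (iv F15090)))
theorem Q10163 : ∀ i, i < 10163 → P i := stepQ 10162 Q10162 (allL N10162 (tt N9576 F15091) (tt N8430 F15092) (tt N8623 F15093) (tt N10493 (iv F16016)) (tt N8427 (iv D11077)))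
theorem Q10164 : ∀ i, i < 10164 → P i := stepQ 10163 Q10163 (allL N10163 (tt N10705 (iv F16699)) (tt N10189 (iv F15152)) (tt N8433 F15094) (tt N10492 (iv F16012)) (tt N8428 (iv D11078)))
theorem Q10165 : ∀ i, i < 10165 → P i := stepQ 10164 Q10164 (allL N10164 (tt N8432 (iv D11079)) (tt N8772 F15095) (tt N10705 (iv F16701)) (tt N8573 F15096) (tt N9692 F15097))
theorem Q10166 : ∀ i, i < 10166 → P i := stepQ 10165 Q10165 (allL N10165 (tt N9072 F15098) (tt N8433 (iv D11080)) (tt N10081 F15101) (tt N9063 F15099) (tt N9578 F15100))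
theorem Q10167 : ∀ i, i < 10167 → P i := stepQ 10166 Q10166 (allL N10166 (tt N10706 D11625) (tt N10647 (iv F16487)) (tt N8436 (iv D11081)) (tt N8550 F15102) (tt N10707 D11626))
theorem Q10168 : ∀ i, i < 10168 → P i := stepQ 10167 Q10167 (allL N10167 (tt N10708 D11627) (tt N10648 (iv F16489)) (tt N8438 F15103) (tt N8437 (iv D11082)) (tt N10709 D11628))
theorem Q10169 : ∀ i, i < 10169 → P i := stepQ 10168 Q10168 (allL N10168 (tt N8460 F15104) (tt N10209 (iv F15194)) (tt N8446 F15105) (tt N10707 (iv F16705)) (tt N8437 (iv D11083)))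
theorem Q10170 : ∀ i, i < 10170 → P i := stepQ 10169 Q10169 (allL N10169 (tt N9875 F15106) (tt N8439 (iv D11084)) (tt N10043 F15107) (tt N10292 (iv F15424)) (tt N10710 D11629))
theorem Q10171 : ∀ i, i < 10171 → P i := stepQ 10170 Q10170 (allL N10170 (tt N8456 F15108) (tt N10292 (iv F15423)) (tt N8440 F15109) (tt N8439 (iv D11085)) (tt N10711 D11630))
theorem Q10172 : ∀ i, i < 10172 → P i := stepQ 10171 Q10171 (allL N10171 (tt N8452 F15110) (tt N10710 (iv F16710)) (tt N10706 (iv F16703)) (tt N10532 (iv F16124)) (tt N8439 (iv D11086)))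
theorem Q10173 : ∀ i, i < 10173 → P i := stepQ 10172 Q10172 (allL N10172 (tt N8564 F15112) (tt N10712 D11631) (tt N8441 (iv D11087)) (tt N9034 F15111) (tt N10713 D11632))
theorem Q10174 : ∀ i, i < 10174 → P i := stepQ 10173 Q10173 (allL N10173 (tt N10392 (iv F15705)) (tt N8442 (iv D11088)) (tt N9621 F15113) (tt N8553 F15114) (tt N10248 (iv F15296)))
theorem Q10175 : ∀ i, i < 10175 → P i := stepQ 10174 Q10174 (allL N10174 (tt N10389 (iv F15697)) (tt N10248 F15297) (tt N10707 (iv F16704)) (tt N8446 F15298) (tt N8442 (iv D11089)))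
theorem Q10176 : ∀ i, i < 10176 → P i := stepQ 10175 Q10175 (allL N10175 (tt N8470 F15115) (tt N8787 F15116) (tt N10702 (iv F16688)) (tt N8443 (iv D11090)) (tt N10714 D11633))
theorem Q10177 : ∀ i, i < 10177 → P i := stepQ 10176 Q10176 (allL N10176 (tt N8446 F15117) (tt N8788 F15118) (tt N9673 F15119) (tt N10715 D11634) (tt N8443 (iv D11091)))
theorem Q10178 : ∀ i, i < 10178 → P i := stepQ 10177 Q10177 (allL N10177 (tt N8444 (iv D11092)) (tt N8789 F15120) (tt N8834 F15121) (tt N8487 F15123) (tt N9789 F15122))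
theorem Q10179 : ∀ i, i < 10179 → P i := stepQ 10178 Q10178 (allL N10178 (tt N10394 (iv F15710)) (tt N8445 F15124) (tt N9622 F15125) (tt N8444 (iv D11093)) (tt N10251 (iv F15307)))
theorem Q10180 : ∀ i, i < 10180 → P i := stepQ 10179 Q10179 (allL N10179 (tt N10396 (iv F15715)) (tt N10251 F15308) (tt N10709 (iv F16707)) (tt N8554 F15299) (tt N8445 (iv D11094)))
theorem Q10181 : ∀ i, i < 10181 → P i := stepQ 10180 Q10180 (allL N10180 (tt N8467 F15127) (tt N10716 D11635) (tt N8447 (iv D11096)) (tt N9038 F15126) (tt N10717 D11636))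
theorem Q10182 : ∀ i, i < 10182 → P i := stepQ 10181 Q10181 (allL N10181 (tt N8534 F15128) (tt N8452 F15129) (tt N9473 F15130) (tt N8555 F15131) (tt N8448 (iv D11097)))
theorem Q10183 : ∀ i, i < 10183 → P i := stepQ 10182 Q10182 (allL N10182 (tt N8533 F15135) (tt N8453 F15132) (tt N9472 F15133) (tt N8449 (iv D11098)) (tt N8532 F15134))
theorem Q10184 : ∀ i, i < 10184 → P i := stepQ 10183 Q10183 (allL N10183 (tt N9870 F15136) (tt N9955 F15137) (tt N8564 F15138) (tt N8557 (iv F15139)) (tt N8450 (iv D11099)))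
theorem Q10185 : ∀ i, i < 10185 → P i := stepQ 10184 Q10184 (allL N10184 (tt N9886 F15143) (tt N9956 F15140) (tt N8467 F15141) (tt N8451 (iv D11100)) (tt N8556 F15142))
theorem Q10186 : ∀ i, i < 10186 → P i := stepQ 10185 Q10185 (allL N10185 (tt N8453 (iv D11101)) (tt N10718 D11637) (tt N10708 (iv F16706)) (tt N10711 (iv F16715)) (tt N8551 F15144))
theorem Q10187 : ∀ i, i < 10187 → P i := stepQ 10186 Q10186 (allL N10186 (tt N8492 F15145) (tt N8456 F15146) (tt N9804 F15147) (tt N8454 (iv D11102)) (tt N10585 (iv F16293)))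
theorem Q10188 : ∀ i, i < 10188 → P i := stepQ 10187 Q10187 (allL N10187 (tt N10616 (iv F16383)) (tt N8457 F15148) (tt N10273 (iv F15363)) (tt N10584 (iv F16289)) (tt N8454 (iv D11103)))
theorem Q10189 : ∀ i, i < 10189 → P i := stepQ 10188 Q10188 (allL N10188 (tt N9869 F15149) (tt N10049 F15150) (tt N8456 F15151) (tt N8455 (iv D11104)) (tt N10719 D11638))
theorem Q10190 : ∀ i, i < 10190 → P i := stepQ 10189 Q10189 (allL N10189 (tt N10701 (iv F16685)) (tt N10163 F15152) (tt N8466 F15153) (tt N10720 D11639) (tt N8455 (iv D11105)))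
theorem Q10191 : ∀ i, i < 10191 → P i := stepQ 10190 Q10190 (allL N10190 (tt N10711 (iv F16713)) (tt N10585 F16294) (tt N10688 (iv F16640)) (tt N8461 F15154) (tt N8456 (iv D11106)))
theorem Q10192 : ∀ i, i < 10192 → P i := stepQ 10191 Q10191 (allL N10191 (tt N10532 (iv F16123)) (tt N10584 (iv F16288)) (tt N10488 (iv F16002)) (tt N8457 (iv D11108)) (tt N8560 F15155))
theorem Q10193 : ∀ i, i < 10193 → P i := stepQ 10192 Q10192 (allL N10192 (tt N8458 (iv D11109)) (tt N10513 (iv F16068)) (tt N8464 F15156) (tt N10512 F16067) (tt N10620 (iv F16396)))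
theorem Q10194 : ∀ i, i < 10194 → P i := stepQ 10193 Q10193 (allL N10193 (tt N8459 (iv D11110)) (tt N10511 (iv F16063)) (tt N8562 F15157) (tt N10518 (iv F16084)) (tt N10613 (iv F16374)))
theorem Q10195 : ∀ i, i < 10195 → P i := stepQ 10194 Q10194 (allL N10194 (tt N10614 (iv F16377)) (tt N8461 (iv D11111)) (tt N10270 (iv F15351)) (tt N10585 (iv F16292)) (tt N8558 F15158))
theorem Q10196 : ∀ i, i < 10196 → P i := stepQ 10195 Q10195 (allL N10195 (tt N9871 F15159) (tt N9128 F15160) (tt N10518 (iv F16083)) (tt N8562 F15161) (tt N8463 (iv D11113)))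
theorem Q10197 : ∀ i, i < 10197 → P i := stepQ 10196 Q10196 (allL N10196 (tt N9873 F15162) (tt N9057 F15163) (tt N10512 (iv F16065)) (tt N8464 (iv D11114)) (tt N8511 F15164))
theorem Q10198 : ∀ i, i < 10198 → P i := stepQ 10197 Q10197 (allL N10197 (tt N8465 (iv D11115)) (tt N8805 F15166) (tt N10701 (iv F16686)) (tt N8552 F15165) (tt N10715 (iv F16730)))
theorem Q10199 : ∀ i, i < 10199 → P i := stepQ 10198 Q10198 (allL N10198 (tt N10715 (iv F16727)) (tt N9385 F15167) (tt N10620 (iv F16397)) (tt N9041 F15863) (tt N8465 (iv D11116)))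
theorem Q10200 : ∀ i, i < 10200 → P i := stepQ 10199 Q10199 (allL N10199 (tt N9026 F15168) (tt N8466 (iv D11117)) (tt N9453 F15169) (tt N9010 (iv F15170)) (tt N10267 (iv F15340)))
theorem Q10201 : ∀ i, i < 10201 → P i := stepQ 10200 Q10200 (allL N10200 (tt N9034 F15171) (tt N9010 F15172) (tt N10720 (iv F16748)) (tt N8466 (iv D11118)) (tt N10612 (iv F16372)))
theorem Q10202 : ∀ i, i < 10202 → P i := stepQ 10201 Q10201 (allL N10201 (tt N10717 (iv F16735)) (tt N9416 F15173) (tt N10681 (iv F16613)) (tt N8565 F15174) (tt N8467 (iv D11119)))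
theorem Q10203 : ∀ i, i < 10203 → P i := stepQ 10202 Q10202 (allL N10202 (tt N10713 (iv F16720)) (tt N9411 F15175) (tt N10679 (iv F16605)) (tt N8468 (iv D11120)) (tt N8564 F15176))
theorem Q10204 : ∀ i, i < 10204 → P i := stepQ 10203 Q10203 (allL N10203 (tt N10702 (iv F16690)) (tt N10152 F15177) (tt N8469 (iv D11121)) (tt N10719 (iv F16745)) (tt N8559 F15178))
theorem Q10205 : ∀ i, i < 10205 → P i := stepQ 10204 Q10204 (allL N10204 (tt N9038 F15179) (tt N9042 F15180) (tt N10719 (iv F16744)) (tt N8469 (iv D11122)) (tt N10619 (iv F16394)))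
theorem Q10206 : ∀ i, i < 10206 → P i := stepQ 10205 Q10205 (allL N10205 (tt N10714 (iv F16723)) (tt N9384 F15181) (tt N10613 (iv F16375)) (tt N9037 F15862) (tt N8470 (iv D11123)))
theorem Q10207 : ∀ i, i < 10207 → P i := stepQ 10206 Q10206 (allL N10206 (tt N8504 F15182) (tt N10056 F15183) (tt N8508 F15185) (tt N8512 F15184) (tt N8471 (iv D11124)))
theorem Q10208 : ∀ i, i < 10208 → P i := stepQ 10207 Q10207 (allL N10207 (tt N8505 F15186) (tt N9981 F15187) (tt N8473 (iv D11125)) (tt N8513 F15188) (tt N9980 (iv F15189)))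
theorem Q10209 : ∀ i, i < 10209 → P i := stepQ 10208 Q10208 (allL N10208 (tt N8476 (iv D11126)) (tt N10008 F15190) (tt N8481 F15191) (tt N8517 F15192) (tt N10009 F15193))
theorem Q10210 : ∀ i, i < 10210 → P i := stepQ 10209 Q10209 (allL N10209 (tt N8477 (iv D11127)) (tt N10168 F15194) (tt N8589 F15195) (tt N10721 D11640) (tt N9699 F15196))
theorem Q10211 : ∀ i, i < 10211 → P i := stepQ 10210 Q10210 (allL N10210 (tt N8478 (iv D11128)) (tt N10023 F15197) (tt N8500 F15198) (tt N8520 F15199) (tt N10024 F15200))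
theorem Q10212 : ∀ i, i < 10212 → P i := stepQ 10211 Q10211 (allL N10211 (tt N8484 (iv D11129)) (tt N10393 (iv F15708)) (tt N8934 F15202) (tt N10392 F15706) (tt N9778 F15201))
theorem Q10213 : ∀ i, i < 10213 → P i := stepQ 10212 Q10212 (allL N10212 (tt N8510 F15203) (tt N9982 F15204) (tt N9980 F15205) (tt N8486 (iv D11130)) (tt N8508 F15206))
theorem Q10214 : ∀ i, i < 10214 → P i := stepQ 10213 Q10213 (allL N10213 (tt N8488 (iv D11131)) (tt N10395 (iv F15713)) (tt N8938 F15208) (tt N10394 F15711) (tt N9795 F15207))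
theorem Q10215 : ∀ i, i < 10215 → P i := stepQ 10214 Q10214 (allL N10214 (tt N10585 (iv F16291)) (tt N10125 F15209) (tt N9803 F15210) (tt N8539 F15211) (tt N8492 (iv D11132)))
theorem Q10216 : ∀ i, i < 10216 → P i := stepQ 10215 Q10215 (allL N10215 (tt N10584 (iv F16287)) (tt N10119 F15212) (tt N9799 F15213) (tt N8493 (iv D11133)) (tt N8538 F15214))
theorem Q10217 : ∀ i, i < 10217 → P i := stepQ 10216 Q10216 (allL N10216 (tt N8502 F15215) (tt N9878 F15216) (tt N9812 F15217) (tt N8533 F15218) (tt N8501 (iv D11134)))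
theorem Q10218 : ∀ i, i < 10218 → P i := stepQ 10217 Q10217 (allL N10217 (tt N9253 F15219) (tt N8506 (iv D11135)) (tt N8998 F15220) (tt N8518 F15221) (tt N9253 F15222))
theorem Q10219 : ∀ i, i < 10219 → P i := stepQ 10218 Q10218 (allL N10218 (tt N8509 (iv D11136)) (tt N10376 (iv F15657)) (tt N9382 F15223) (tt N9386 F15225) (tt N9380 F15224))
theorem Q10220 : ∀ i, i < 10220 → P i := stepQ 10219 Q10219 (allL N10219 (tt N8518 (iv D11137)) (tt N10444 (iv F15868)) (tt N9241 F15226) (tt N10722 D11641) (tt N9238 F15227))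
theorem Q10221 : ∀ i, i < 10221 → P i := stepQ 10220 Q10220 (allL N10220 (tt N8519 (iv D11138)) (tt N10450 (iv F15883)) (tt N9259 F15228) (tt N10723 D11642) (tt N9266 F15229))
theorem Q10222 : ∀ i, i < 10222 → P i := stepQ 10221 Q10221 (allL N10221 (tt N8521 F15230) (tt N10010 F15231) (tt N8531 F15232) (tt N10009 F15233) (tt N8520 (iv D11139)))
theorem Q10223 : ∀ i, i < 10223 → P i := stepQ 10222 Q10222 (allL N10222 (tt N10290 (iv F15417)) (tt N10118 F15234) (tt N9962 F15235) (tt N8523 (iv D11140)) (tt N10547 (iv F16173)))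
theorem Q10224 : ∀ i, i < 10224 → P i := stepQ 10223 Q10223 (allL N10223 (tt N8785 F15236) (tt N8525 (iv D11141)) (tt N10406 (iv F15749)) (tt N10406 (iv F15748)) (tt N9372 F15237))
theorem Q10225 : ∀ i, i < 10225 → P i := stepQ 10224 Q10224 (allL N10224 (tt N9036 F15238) (tt N10406 (iv F15747)) (tt N9375 F15239) (tt N8525 (iv D11142)) (tt N9371 F15240))
theorem Q10226 : ∀ i, i < 10226 → P i := stepQ 10225 Q10225 (allL N10225 (tt N8790 F15241) (tt N8528 (iv D11143)) (tt N10404 (iv F15741)) (tt N10404 (iv F15740)) (tt N9390 F15242))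
theorem Q10227 : ∀ i, i < 10227 → P i := stepQ 10226 Q10226 (allL N10226 (tt N9040 F15243) (tt N10404 (iv F15739)) (tt N9378 F15244) (tt N8528 (iv D11144)) (tt N9373 F15245))
theorem Q10228 : ∀ i, i < 10228 → P i := stepQ 10227 Q10227 (allL N10227 (tt N8538 (iv D11145)) (tt N8560 F15248) (tt N9798 F15246) (tt N8558 F15247) (tt N10584 (iv F16290)))
theorem Q10229 : ∀ i, i < 10229 → P i := stepQ 10228 Q10228 (allL N10228 (tt N8541 F15249) (tt N10232 (iv F15261)) (tt N8573 F15250) (tt N10705 (iv F16702)) (tt N8540 (iv D11146)))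
theorem Q10230 : ∀ i, i < 10230 → P i := stepQ 10229 Q10229 (allL N10229 (tt N8542 (iv D11147)) (tt N10686 (iv F16632)) (tt N9672 F15251) (tt N9671 F15252) (tt N9832 F15253))
theorem Q10231 : ∀ i, i < 10231 → P i := stepQ 10230 Q10230 (allL N10230 (tt N8543 (iv D11148)) (tt N10233 (iv F15264)) (tt N9720 F15255) (tt N10724 D11643) (tt N9719 F15254))
theorem Q10232 : ∀ i, i < 10232 → P i := stepQ 10231 Q10231 (allL N10231 (tt N8553 F15259) (tt N8962 F15256) (tt N8954 F15257) (tt N8545 (iv D11149)) (tt N9791 F15258))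
theorem Q10233 : ∀ i, i < 10233 → P i := stepQ 10232 Q10232 (allL N10232 (tt N8557 F15260) (tt N10228 F15261) (tt N8552 F15262) (tt N10701 (iv F16687)) (tt N8547 (iv D11150)))
theorem Q10234 : ∀ i, i < 10234 → P i := stepQ 10233 Q10233 (allL N10233 (tt N8561 F15263) (tt N10230 F15264) (tt N8554 F15265) (tt N10709 (iv F16708)) (tt N8550 (iv D11151)))
theorem Q10235 : ∀ i, i < 10235 → P i := stepQ 10234 Q10234 (allL N10234 (tt N9879 F15266) (tt N8551 (iv D11152)) (tt N10064 F15267) (tt N10290 (iv F15419)) (tt N10718 (iv F16740)))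
theorem Q10236 : ∀ i, i < 10236 → P i := stepQ 10235 Q10235 (allL N10235 (tt N8554 F15268) (tt N8961 F15269) (tt N10686 (iv F16633)) (tt N10714 (iv F16726)) (tt N8552 (iv D11153)))
theorem Q10237 : ∀ i, i < 10237 → P i := stepQ 10236 Q10236 (allL N10236 (tt N9885 F15270) (tt N10063 F15271) (tt N8560 F15272) (tt N8559 (iv D11155)) (tt N10720 (iv F16749)))
theorem Q10238 : ∀ i, i < 10238 → P i := stepQ 10237 Q10237 (allL N10237 (tt N9456 F15273) (tt N8565 F15274) (tt N9424 F15275) (tt N9416 F15276) (tt N8563 (iv D11156)))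
theorem Q10239 : ∀ i, i < 10239 → P i := stepQ 10238 Q10238 (allL N10238 (tt N8576 F15277) (tt N10650 (iv F16496)) (tt N8575 F15278) (tt N10494 (iv F16018)) (tt N8571 (iv D11157)))
theorem Q10240 : ∀ i, i < 10240 → P i := stepQ 10239 Q10239 (allL N10239 (tt N9227 F15280) (tt N10725 D11644) (tt N8583 (iv D11158)) (tt N9274 F15279) (tt N10726 D11645))
theorem Q10241 : ∀ i, i < 10241 → P i := stepQ 10240 Q10240 (allL N10240 (tt N9704 F15281) (tt N10369 (iv F15634)) (tt N10721 (iv F16752)) (tt N8589 F15282) (tt N8586 (iv D11159)))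
theorem Q10242 : ∀ i, i < 10242 → P i := stepQ 10241 Q10241 (allL N10241 (tt N9703 F15283) (tt N10128 F15284) (tt N8587 (iv D11160)) (tt N9725 F15285) (tt N9643 F15286))
theorem Q10243 : ∀ i, i < 10243 → P i := stepQ 10242 Q10242 (allL N10242 (tt N9705 F15287) (tt N10368 (iv F15633)) (tt N10724 (iv F16764)) (tt N9720 F15288) (tt N8588 (iv D11161)))
theorem Q10244 : ∀ i, i < 10244 → P i := stepQ 10243 Q10243 (allL N10243 (tt N9277 F15290) (tt N10727 D11646) (tt N8590 (iv D11162)) (tt N9224 F15289) (tt N10728 D11647))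
theorem Q10245 : ∀ i, i < 10245 → P i := stepQ 10244 Q10244 (allL N10244 (tt N10073 F15291) (tt N10713 (iv F16721)) (tt N8593 (iv D11163)) (tt N9169 F15292) (tt N10712 F16719))
theorem Q10246 : ∀ i, i < 10246 → P i := stepQ 10245 Q10245 (allL N10245 (tt N9563 F15293) (tt N8594 (iv D11164)) (tt N10725 (iv F16767)) (tt N10337 (iv F15550)) (tt N10312 F15481))
theorem Q10247 : ∀ i, i < 10247 → P i := stepQ 10246 Q10246 (allL N10246 (tt N10418 (iv F15786)) (tt N10312 (iv F15482)) (tt N10712 (iv F16717)) (tt N10333 (iv F15537)) (tt N8594 (iv D11165)))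
theorem Q10248 : ∀ i, i < 10248 → P i := stepQ 10247 Q10247 (allL N10247 (tt N10416 (iv F15778)) (tt N10311 (iv F15477)) (tt N10710 (iv F16711)) (tt N9379 F15294) (tt N8595 (iv D11166)))
theorem Q10249 : ∀ i, i < 10249 → P i := stepQ 10248 Q10248 (allL N10248 (tt N10658 (iv F16527)) (tt N10174 (iv F15297)) (tt N8597 (iv D11167)) (tt N8603 F15295) (tt N10173 F15296))
theorem Q10250 : ∀ i, i < 10250 → P i := stepQ 10249 Q10249 (allL N10249 (tt N8796 F15300) (tt N10326 (iv F15523)) (tt N8805 F15301) (tt N8958 F15302) (tt N8598 (iv D11168)))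
theorem Q10251 : ∀ i, i < 10251 → P i := stepQ 10250 Q10250 (allL N10250 (tt N8816 F15303) (tt N10305 (iv F15463)) (tt N8787 F15304) (tt N8599 (iv D11169)) (tt N8627 F15305))
theorem Q10252 : ∀ i, i < 10252 → P i := stepQ 10251 Q10251 (allL N10251 (tt N10659 (iv F16528)) (tt N10179 (iv F15308)) (tt N8602 (iv D11170)) (tt N8968 F15306) (tt N10178 F15307))
theorem Q10253 : ∀ i, i < 10253 → P i := stepQ 10252 Q10252 (allL N10252 (tt N8767 F15311) (tt N8604 (iv D11171)) (tt N8742 F15309) (tt N8741 F15310) (tt N10397 (iv F15718)))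
theorem Q10254 : ∀ i, i < 10254 → P i := stepQ 10253 Q10253 (allL N10253 (tt N10417 (iv F15782)) (tt N10325 F15521) (tt N10718 (iv F16741)) (tt N9389 F15312) (tt N8605 (iv D11172)))
theorem Q10255 : ∀ i, i < 10255 → P i := stepQ 10254 Q10254 (allL N10254 (tt N10038 F15314) (tt N10288 (iv F15411)) (tt N8607 (iv D11173)) (tt N9170 F15313) (tt N9151 (iv F15315)))
theorem Q10256 : ∀ i, i < 10256 → P i := stepQ 10255 Q10255 (allL N10255 (tt N9584 F15316) (tt N8611 (iv D11174)) (tt N10727 (iv F16772)) (tt N10257 (iv F15318)) (tt N10320 F15505))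
theorem Q10257 : ∀ i, i < 10257 → P i := stepQ 10256 Q10256 (allL N10256 (tt N10423 (iv F15803)) (tt N10320 (iv F15506)) (tt N10716 (iv F16732)) (tt N10336 (iv F15546)) (tt N8611 (iv D11175)))
theorem Q10258 : ∀ i, i < 10258 → P i := stepQ 10257 Q10257 (allL N10257 (tt N8612 (iv D11176)) (tt N9055 F15317) (tt N10500 (iv F16034)) (tt N10255 F15318) (tt N8750 F15319))
theorem Q10259 : ∀ i, i < 10259 → P i := stepQ 10258 Q10258 (allL N10258 (tt N8902 F15320) (tt N8613 (iv D11177)) (tt N9801 F15321) (tt N10552 (iv F16186)) (tt N8745 F15322))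
theorem Q10260 : ∀ i, i < 10260 → P i := stepQ 10259 Q10259 (allL N10259 (tt N10500 (iv F16035)) (tt N10552 (iv F16184)) (tt N8753 F15323) (tt N8613 (iv D11178)) (tt N8744 F15324))
theorem Q10261 : ∀ i, i < 10261 → P i := stepQ 10260 Q10260 (allL N10260 (tt N9546 F15325) (tt N9544 F15326) (tt N8617 F15327) (tt N10432 (iv F15833)) (tt N8615 (iv D11179)))
theorem Q10262 : ∀ i, i < 10262 → P i := stepQ 10261 Q10261 (allL N10261 (tt N8616 (iv D11180)) (tt N10294 (iv F15429)) (tt N8704 F15329) (tt N9421 F15328) (tt N10293 F15427))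
theorem Q10263 : ∀ i, i < 10263 → P i := stepQ 10262 Q10262 (allL N10262 (tt N10293 (iv F15425)) (tt N8617 F15330) (tt N10146 F15331) (tt N10370 (iv F15639)) (tt N8616 (iv D11181)))
theorem Q10264 : ∀ i, i < 10264 → P i := stepQ 10263 Q10263 (allL N10263 (tt N9246 F15332) (tt N10454 (iv F15895)) (tt N10722 (iv F16756)) (tt N9241 F15333) (tt N8619 (iv D11182)))
theorem Q10265 : ∀ i, i < 10265 → P i := stepQ 10264 Q10264 (allL N10264 (tt N9248 F15334) (tt N10458 (iv F15907)) (tt N10723 (iv F16760)) (tt N9259 F15335) (tt N8622 (iv D11183)))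
theorem Q10266 : ∀ i, i < 10266 → P i := stepQ 10265 Q10265 (allL N10265 (tt N8623 (iv D11184)) (tt N10303 (iv F15458)) (tt N8708 F15337) (tt N9444 F15336) (tt N10302 F15456))
theorem Q10267 : ∀ i, i < 10267 → P i := stepQ 10266 Q10266 (allL N10266 (tt N10302 (iv F15454)) (tt N8624 F15338) (tt N10147 F15339) (tt N10371 (iv F15642)) (tt N8623 (iv D11185)))
theorem Q10268 : ∀ i, i < 10268 → P i := stepQ 10267 Q10267 (allL N10267 (tt N9556 F15341) (tt N9559 F15342) (tt N8624 (iv D11186)) (tt N10451 (iv F15886)) (tt N10199 F15340))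
theorem Q10269 : ∀ i, i < 10269 → P i := stepQ 10268 Q10268 (allL N10268 (tt N10304 (iv F15460)) (tt N8625 (iv D11187)) (tt N10143 F15343) (tt N10083 F15344) (tt N10081 F15345))
theorem Q10270 : ∀ i, i < 10270 → P i := stepQ 10269 Q10269 (allL N10269 (tt N10294 (iv F15428)) (tt N8630 (iv D11188)) (tt N9565 F15346) (tt N9466 F15347) (tt N10086 (iv F15348)))
theorem Q10271 : ∀ i, i < 10271 → P i := stepQ 10270 Q10270 (allL N10270 (tt N10133 F15349) (tt N10086 F15350) (tt N10194 F15351) (tt N9475 F15352) (tt N8630 (iv D11189)))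
theorem Q10272 : ∀ i, i < 10272 → P i := stepQ 10271 Q10271 (allL N10271 (tt N8631 (iv D11190)) (tt N10271 F15354) (tt N8765 F15355) (tt N8764 F15356) (tt N10111 F15357))
theorem Q10273 : ∀ i, i < 10273 → P i := stepQ 10272 Q10272 (allL N10272 (tt N10303 (iv F15457)) (tt N8634 (iv D11191)) (tt N9578 F15358) (tt N9474 F15359) (tt N10084 (iv F15360)))
theorem Q10274 : ∀ i, i < 10274 → P i := stepQ 10273 Q10273 (allL N10273 (tt N10135 F15361) (tt N10084 F15362) (tt N10187 F15363) (tt N9467 F15364) (tt N8634 (iv D11192)))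
theorem Q10275 : ∀ i, i < 10275 → P i := stepQ 10274 Q10274 (allL N10274 (tt N10002 F15366) (tt N8636 (iv D11193)) (tt N10350 (iv F15583)) (tt N9904 F15367) (tt N9901 (iv F15368)))
theorem Q10276 : ∀ i, i < 10276 → P i := stepQ 10275 Q10275 (allL N10275 (tt N8684 F15369) (tt N9901 F15370) (tt N8669 F15371) (tt N8640 F15372) (tt N8636 (iv D11194)))
theorem Q10277 : ∀ i, i < 10277 → P i := stepQ 10276 Q10276 (allL N10276 (tt N10032 F15373) (tt N8639 F15374) (tt N10351 (iv F15586)) (tt N8638 (iv D11195)) (tt N9903 F15375))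
theorem Q10278 : ∀ i, i < 10278 → P i := stepQ 10277 Q10277 (allL N10277 (tt N8697 F15376) (tt N9903 F15377) (tt N8668 F15378) (tt N9631 F15379) (tt N8639 (iv D11196)))
theorem Q10279 : ∀ i, i < 10279 → P i := stepQ 10278 Q10278 (allL N10278 (tt N8838 F15380) (tt N8653 F15381) (tt N8643 (iv D11197)) (tt N10462 (iv F15920)) (tt N10104 F15382))
theorem Q10280 : ∀ i, i < 10280 → P i := stepQ 10279 Q10279 (allL N10279 (tt N8681 F15385) (tt N9896 F15386) (tt N8646 (iv D11198)) (tt N8657 F15383) (tt N9895 F15384))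
theorem Q10281 : ∀ i, i < 10281 → P i := stepQ 10280 Q10280 (allL N10280 (tt N9204 F15387) (tt N8647 (iv D11199)) (tt N10390 (iv F15700)) (tt N9899 (iv F15389)) (tt N9203 F15388))
theorem Q10282 : ∀ i, i < 10282 → P i := stepQ 10281 Q10281 (allL N10281 (tt N8683 F15390) (tt N9899 F15391) (tt N8648 F15392) (tt N8647 (iv D11200)) (tt N9898 F15393))
theorem Q10283 : ∀ i, i < 10283 → P i := stepQ 10282 Q10282 (allL N10282 (tt N8700 F15394) (tt N9495 F15395) (tt N9858 F15396) (tt N8658 F15397) (tt N8648 (iv D11201)))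
theorem Q10284 : ∀ i, i < 10284 → P i := stepQ 10283 Q10283 (allL N10283 (tt N8687 F15398) (tt N10498 (iv F16030)) (tt N8660 F15399) (tt N8649 (iv D11202)) (tt N10521 (iv F16095)))
theorem Q10285 : ∀ i, i < 10285 → P i := stepQ 10284 Q10284 (allL N10284 (tt N9825 F15400) (tt N10456 (iv F15901)) (tt N8650 (iv D11203)) (tt N10667 (iv F16560)) (tt N9824 (iv F15401)))
theorem Q10286 : ∀ i, i < 10286 → P i := stepQ 10285 Q10285 (allL N10285 (tt N9822 F15402) (tt N10462 (iv F15919)) (tt N8654 F15403) (tt N8653 (iv D11204)) (tt N9821 F15404))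
theorem Q10287 : ∀ i, i < 10287 → P i := stepQ 10286 Q10286 (allL N10286 (tt N8692 F15405) (tt N10496 (iv F16026)) (tt N8659 F15406) (tt N8655 (iv D11205)) (tt N10495 (iv F16024)))
theorem Q10288 : ∀ i, i < 10288 → P i := stepQ 10287 Q10287 (allL N10287 (tt N9286 F15407) (tt N8657 (iv D11206)) (tt N10391 (iv F15703)) (tt N9896 F15408) (tt N9285 F15409))
theorem Q10289 : ∀ i, i < 10289 → P i := stepQ 10288 Q10288 (allL N10288 (tt N8685 F15410) (tt N10254 F15411) (tt N8665 F15413) (tt N8674 F15412) (tt N8660 (iv D11207)))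
theorem Q10290 : ∀ i, i < 10290 → P i := stepQ 10289 Q10289 (allL N10289 (tt N8706 F15414) (tt N9178 F15415) (tt N10495 (iv F16023)) (tt N8664 F15416) (tt N8661 (iv D11208)))
theorem Q10291 : ∀ i, i < 10291 → P i := stepQ 10290 Q10290 (allL N10290 (tt N10222 F15417) (tt N9296 F15418) (tt N8662 (iv D11209)) (tt N10234 F15419) (tt N10553 (iv F16189)))
theorem Q10292 : ∀ i, i < 10292 → P i := stepQ 10291 Q10291 (allL N10291 (tt N8705 F15420) (tt N9186 F15421) (tt N10521 (iv F16094)) (tt N8673 F15422) (tt N8663 (iv D11210)))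
theorem Q10293 : ∀ i, i < 10293 → P i := stepQ 10292 Q10292 (allL N10292 (tt N10699 (iv F16677)) (tt N10170 F15423) (tt N8672 (iv D11211)) (tt N10169 F15424) (tt N10554 (iv F16192)))
theorem Q10294 : ∀ i, i < 10294 → P i := stepQ 10293 Q10293 (allL N10293 (tt N10262 F15425) (tt N8678 (iv D11212)) (tt N8729 F15426) (tt N10580 (iv F16276)) (tt N10261 (iv F15427)))
theorem Q10295 : ∀ i, i < 10295 → P i := stepQ 10294 Q10294 (allL N10294 (tt N10269 F15428) (tt N10261 F15429) (tt N9561 F15430) (tt N10567 (iv F16229)) (tt N8678 (iv D11213)))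
theorem Q10296 : ∀ i, i < 10296 → P i := stepQ 10295 Q10295 (allL N10295 (tt N9858 F15431) (tt N10295 F15432) (tt N8685 F15434) (tt N8698 F15433) (tt N8680 (iv D11214)))
theorem Q10297 : ∀ i, i < 10297 → P i := stepQ 10296 Q10296 (allL N10296 (tt N9842 F15435) (tt N8681 (iv D11215)) (tt N8732 (iv F15438)) (tt N8696 F15436) (tt N9839 (iv F15437)))
theorem Q10298 : ∀ i, i < 10298 → P i := stepQ 10297 Q10297 (allL N10297 (tt N9895 F15439) (tt N9839 F15440) (tt N8706 F15441) (tt N8684 F15442) (tt N8681 (iv D11216)))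
theorem Q10299 : ∀ i, i < 10299 → P i := stepQ 10298 Q10298 (allL N10298 (tt N9857 F15443) (tt N8683 F15444) (tt N8733 F15445) (tt N8682 (iv D11217)) (tt N9855 F15446))
theorem Q10300 : ∀ i, i < 10300 → P i := stepQ 10299 Q10299 (allL N10299 (tt N9898 F15447) (tt N9855 F15448) (tt N8705 F15449) (tt N8697 F15450) (tt N8683 (iv D11218)))
theorem Q10301 : ∀ i, i < 10301 → P i := stepQ 10300 Q10300 (allL N10300 (tt N10013 F15451) (tt N10607 (iv F16356)) (tt N8686 (iv D11219)) (tt N10666 (iv F16556)) (tt N10663 F16546))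
theorem Q10302 : ∀ i, i < 10302 → P i := stepQ 10301 Q10301 (allL N10301 (tt N10017 F15453) (tt N10609 (iv F16362)) (tt N8691 (iv D11220)) (tt N10016 F15452) (tt N10665 (iv F16553)))
theorem Q10303 : ∀ i, i < 10303 → P i := stepQ 10302 Q10302 (allL N10302 (tt N10266 F15454) (tt N8694 (iv D11221)) (tt N8766 F15455) (tt N10568 (iv F16234)) (tt N10265 (iv F15456)))
theorem Q10304 : ∀ i, i < 10304 → P i := stepQ 10303 Q10303 (allL N10303 (tt N10272 F15457) (tt N10265 F15458) (tt N9582 F15459) (tt N10579 (iv F16271)) (tt N8694 (iv D11222)))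
theorem Q10305 : ∀ i, i < 10305 → P i := stepQ 10304 Q10304 (allL N10304 (tt N10268 F15460) (tt N10304 F15461) (tt N8695 (iv D11223)) (tt N10582 (iv F16281)) (tt N10340 (iv F15558)))
theorem Q10306 : ∀ i, i < 10306 → P i := stepQ 10305 Q10305 (allL N10305 (tt N8731 F15462) (tt N10250 F15463) (tt N8722 F15464) (tt N8737 F15465) (tt N8712 (iv D11224)))
theorem Q10307 : ∀ i, i < 10307 → P i := stepQ 10306 Q10306 (allL N10306 (tt N8716 F15466) (tt N9496 F15467) (tt N9842 F15468) (tt N8743 F15469) (tt N8715 (iv D11225)))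
theorem Q10308 : ∀ i, i < 10308 → P i := stepQ 10307 Q10307 (allL N10307 (tt N10729 D11648) (tt N10412 (iv F15768)) (tt N8716 (iv D11226)) (tt N8769 F15470) (tt N10573 (iv F16250)))
theorem Q10309 : ∀ i, i < 10309 → P i := stepQ 10308 Q10308 (allL N10308 (tt N10411 (iv F15765)) (tt N8717 (iv D11227)) (tt N10571 (iv F16244)) (tt N10577 (iv F16264)) (tt N10574 F16255))
theorem Q10310 : ∀ i, i < 10310 → P i := stepQ 10309 Q10309 (allL N10309 (tt N10730 D11649) (tt N10577 (iv F16263)) (tt N8718 F15471) (tt N8717 (iv D11228)) (tt N10575 F16258))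
theorem Q10311 : ∀ i, i < 10311 → P i := stepQ 10310 Q10310 (allL N10310 (tt N8718 (iv D11229)) (tt N9497 F15472) (tt N9857 F15475) (tt N8747 F15473) (tt N8742 F15474))
theorem Q10312 : ∀ i, i < 10312 → P i := stepQ 10311 Q10311 (allL N10311 (tt N8732 F15476) (tt N10247 F15477) (tt N10729 (iv F16777)) (tt N8749 F15478) (tt N8719 (iv D11230)))
theorem Q10313 : ∀ i, i < 10313 → P i := stepQ 10312 Q10312 (allL N10312 (tt N8776 F15480) (tt N10246 F15482) (tt N8720 (iv D11231)) (tt N8750 F15479) (tt N10245 (iv F15481)))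
theorem Q10314 : ∀ i, i < 10314 → P i := stepQ 10313 Q10313 (allL N10313 (tt N8721 (iv D11232)) (tt N9950 F15484) (tt N10378 (iv F15665)) (tt N8751 F15483) (tt N9840 (iv F15485)))
theorem Q10315 : ∀ i, i < 10315 → P i := stepQ 10314 Q10314 (allL N10314 (tt N8935 F15488) (tt N8721 (iv D11233)) (tt N9570 F15486) (tt N8773 F15487) (tt N10478 (iv F15974)))
theorem Q10316 : ∀ i, i < 10316 → P i := stepQ 10315 Q10315 (allL N10315 (tt N9840 F15489) (tt N10478 (iv F15972)) (tt N10573 (iv F16251)) (tt N8725 F15494) (tt N8721 (iv D11234)))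
theorem Q10317 : ∀ i, i < 10317 → P i := stepQ 10316 Q10316 (allL N10316 (tt N8725 F15490) (tt N9691 F15491) (tt N10090 F15492) (tt N8972 F15493) (tt N8722 (iv D11235)))
theorem Q10318 : ∀ i, i < 10318 → P i := stepQ 10317 Q10317 (allL N10317 (tt N8939 F15495) (tt N8724 F15496) (tt N9571 F15497) (tt N8723 (iv D11236)) (tt N10479 (iv F15978)))
theorem Q10319 : ∀ i, i < 10319 → P i := stepQ 10318 Q10318 (allL N10318 (tt N8724 (iv D11237)) (tt N9953 F15499) (tt N10397 (iv F15719)) (tt N8758 F15498) (tt N9856 F15500))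
theorem Q10320 : ∀ i, i < 10320 → P i := stepQ 10319 Q10319 (allL N10319 (tt N9856 F15501) (tt N10479 (iv F15976)) (tt N10575 (iv F16256)) (tt N8774 F15502) (tt N8724 (iv D11238)))
theorem Q10321 : ∀ i, i < 10321 → P i := stepQ 10320 Q10320 (allL N10320 (tt N8735 F15504) (tt N10256 F15506) (tt N8726 (iv D11239)) (tt N8760 F15503) (tt N10255 (iv F15505)))
theorem Q10322 : ∀ i, i < 10322 → P i := stepQ 10321 Q10321 (allL N10321 (tt N8839 F15507) (tt N8732 F15508) (tt N10568 (iv F16233)) (tt N8766 F15509) (tt N8728 (iv D11240)))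
theorem Q10323 : ∀ i, i < 10323 → P i := stepQ 10322 Q10322 (allL N10322 (tt N8837 F15510) (tt N8733 F15511) (tt N10580 (iv F16275)) (tt N8729 (iv D11241)) (tt N8765 F15512))
theorem Q10324 : ∀ i, i < 10324 → P i := stepQ 10323 Q10323 (allL N10323 (tt N10378 (iv F15663)) (tt N10323 F15513) (tt N8776 F15514) (tt N8768 (iv F15515)) (tt N8730 (iv D11242)))
theorem Q10325 : ∀ i, i < 10325 → P i := stepQ 10324 Q10324 (allL N10324 (tt N10397 (iv F15720)) (tt N10324 F15516) (tt N8735 F15517) (tt N8731 (iv D11243)) (tt N8767 F15518))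
theorem Q10326 : ∀ i, i < 10326 → P i := stepQ 10325 Q10325 (allL N10325 (tt N8733 (iv D11244)) (tt N10253 (iv F15521)) (tt N10730 (iv F16781)) (tt N8763 F15519) (tt N8748 F15520))
theorem Q10327 : ∀ i, i < 10327 → P i := stepQ 10326 Q10326 (allL N10326 (tt N8768 F15522) (tt N10249 F15523) (tt N8772 F15525) (tt N8948 F15524) (tt N8736 (iv D11245)))
theorem Q10328 : ∀ i, i < 10328 → P i := stepQ 10327 Q10327 (allL N10327 (tt N8761 F15526) (tt N10380 (iv F15672)) (tt N8751 F15527) (tt N10378 (iv F15666)) (tt N8741 (iv D11246)))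
theorem Q10329 : ∀ i, i < 10329 → P i := stepQ 10328 Q10328 (allL N10328 (tt N8744 (iv D11247)) (tt N10501 (iv F16037)) (tt N8749 F15528) (tt N10729 (iv F16778)) (tt N10500 F16036))
theorem Q10330 : ∀ i, i < 10330 → P i := stepQ 10329 Q10329 (allL N10329 (tt N10367 (iv F15627)) (tt N8744 (iv D11248)) (tt N9462 F15529) (tt N8970 F15530) (tt N10552 (iv F16187)))
theorem Q10331 : ∀ i, i < 10331 → P i := stepQ 10330 Q10330 (allL N10330 (tt N10425 (iv F15808)) (tt N8746 F15531) (tt N9476 F15532) (tt N8745 (iv D11249)) (tt N10556 (iv F16198)))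
theorem Q10332 : ∀ i, i < 10332 → P i := stepQ 10331 Q10331 (allL N10331 (tt N8746 (iv D11250)) (tt N10524 (iv F16100)) (tt N8763 F15533) (tt N10730 (iv F16782)) (tt N10523 F16099))
theorem Q10333 : ∀ i, i < 10333 → P i := stepQ 10332 Q10332 (allL N10332 (tt N10523 (iv F16098)) (tt N10556 (iv F16195)) (tt N8759 F15534) (tt N8971 F15535) (tt N8746 (iv D11251)))
theorem Q10334 : ∀ i, i < 10334 → P i := stepQ 10333 Q10333 (allL N10333 (tt N9005 F15536) (tt N8750 (iv D11252)) (tt N10439 (iv F15852)) (tt N10246 F15537) (tt N9055 F15538))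
theorem Q10335 : ∀ i, i < 10335 → P i := stepQ 10334 Q10334 (allL N10334 (tt N8774 F15539) (tt N9692 F15540) (tt N10091 F15541) (tt N8754 (iv D11253)) (tt N8772 F15542))
theorem Q10336 : ∀ i, i < 10336 → P i := stepQ 10335 Q10335 (allL N10335 (tt N8762 F15543) (tt N10379 (iv F15668)) (tt N8758 (iv D11254)) (tt N10397 (iv F15717)) (tt N8949 F15544))
theorem Q10337 : ∀ i, i < 10337 → P i := stepQ 10336 Q10336 (allL N10336 (tt N9007 F15545) (tt N8760 (iv D11255)) (tt N10445 (iv F15869)) (tt N10256 F15546) (tt N9319 (iv F15547)))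
theorem Q10338 : ∀ i, i < 10338 → P i := stepQ 10337 Q10337 (allL N10337 (tt N8777 F15548) (tt N9319 F15549) (tt N10523 (iv F16097)) (tt N10245 F15550) (tt N8760 (iv D11256)))
theorem Q10339 : ∀ i, i < 10339 → P i := stepQ 10338 Q10338 (allL N10338 (tt N10414 (iv F15773)) (tt N8769 (iv D11257)) (tt N10572 (iv F16248)) (tt N10412 (iv F15769)) (tt N10576 (iv F16261)))
theorem Q10340 : ∀ i, i < 10340 → P i := stepQ 10339 Q10339 (allL N10339 (tt N9988 F15551) (tt N9735 F15552) (tt N8771 F15553) (tt N8770 (iv D11258)) (tt N9539 F15554))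
theorem Q10341 : ∀ i, i < 10341 → P i := stepQ 10340 Q10340 (allL N10340 (tt N10081 F15555) (tt N10340 F15556) (tt N8775 (iv D11259)) (tt N9419 F15557) (tt N10304 F15558))
theorem Q10342 : ∀ i, i < 10342 → P i := stepQ 10341 Q10341 (allL N10341 (tt N9353 F15561) (tt N8780 F15559) (tt N9342 F15560) (tt N8779 (iv D11260)) (tt N10644 (iv F16480)))
theorem Q10343 : ∀ i, i < 10343 → P i := stepQ 10342 Q10342 (allL N10342 (tt N9189 F15562) (tt N8781 F15563) (tt N9349 F15564) (tt N10641 (iv F16469)) (tt N8779 (iv D11261)))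
theorem Q10344 : ∀ i, i < 10344 → P i := stepQ 10343 Q10343 (allL N10343 (tt N8797 F15565) (tt N10644 (iv F16478)) (tt N10507 (iv F16054)) (tt N8794 F15566) (tt N8780 (iv D11262)))
theorem Q10345 : ∀ i, i < 10345 → P i := stepQ 10344 Q10344 (allL N10344 (tt N8798 F15567) (tt N10641 (iv F16468)) (tt N10528 (iv F16114)) (tt N8781 (iv D11263)) (tt N8919 F15568))
theorem Q10346 : ∀ i, i < 10346 → P i := stepQ 10345 Q10345 (allL N10345 (tt N8817 F15569) (tt N10700 (iv F16682)) (tt N8782 (iv D11264)) (tt N8793 F15570) (tt N10696 (iv F16668)))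
theorem Q10347 : ∀ i, i < 10347 → P i := stepQ 10346 Q10346 (allL N10346 (tt N9320 F15571) (tt N8783 (iv D11265)) (tt N9313 F15572) (tt N10698 (iv F16676)) (tt N9301 (iv F15573)))
theorem Q10348 : ∀ i, i < 10348 → P i := stepQ 10347 Q10347 (allL N10347 (tt N8810 F15574) (tt N10698 (iv F16674)) (tt N8784 F15575) (tt N8783 (iv D11266)) (tt N10689 (iv F16645)))
theorem Q10349 : ∀ i, i < 10349 → P i := stepQ 10348 Q10348 (allL N10348 (tt N8814 F15576) (tt N9301 F15577) (tt N10551 (iv F16183)) (tt N10696 (iv F16667)) (tt N8783 (iv D11267)))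
theorem Q10350 : ∀ i, i < 10350 → P i := stepQ 10349 Q10349 (allL N10349 (tt N9372 F15578) (tt N8786 F15579) (tt N10119 F15580) (tt N8791 F15581) (tt N8785 (iv D11268)))
theorem Q10351 : ∀ i, i < 10351 → P i := stepQ 10350 Q10350 (allL N10350 (tt N8820 F15582) (tt N10714 (iv F16724)) (tt N10274 F15583) (tt N8961 F15584) (tt N8787 (iv D11269)))
theorem Q10352 : ∀ i, i < 10352 → P i := stepQ 10351 Q10351 (allL N10351 (tt N8808 F15585) (tt N10715 (iv F16728)) (tt N10276 F15586) (tt N8788 (iv D11270)) (tt N8805 F15587))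
theorem Q10353 : ∀ i, i < 10353 → P i := stepQ 10352 Q10352 (allL N10352 (tt N9390 F15588) (tt N8792 F15589) (tt N10125 F15590) (tt N8964 F15591) (tt N8790 (iv D11271)))
theorem Q10354 : ∀ i, i < 10354 → P i := stepQ 10353 Q10353 (allL N10353 (tt N9525 F15592) (tt N8793 (iv D11272)) (tt N9521 F15593) (tt N10700 (iv F16684)) (tt N10484 (iv F15991)))
theorem Q10355 : ∀ i, i < 10355 → P i := stepQ 10354 Q10354 (allL N10354 (tt N8813 F15594) (tt N10484 (iv F15989)) (tt N10555 (iv F16194)) (tt N10689 (iv F16644)) (tt N8793 (iv D11273)))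
theorem Q10356 : ∀ i, i < 10356 → P i := stepQ 10355 Q10355 (allL N10355 (tt N9181 F15595) (tt N8794 (iv D11274)) (tt N9404 F15597) (tt N10644 (iv F16479)) (tt N8960 F15596))
theorem Q10357 : ∀ i, i < 10357 → P i := stepQ 10356 Q10356 (allL N10356 (tt N10576 (iv F16259)) (tt N8799 (iv D11275)) (tt N9530 F15598) (tt N9629 F15599) (tt N10414 (iv F15776)))
theorem Q10358 : ∀ i, i < 10358 → P i := stepQ 10357 Q10357 (allL N10357 (tt N8800 F15600) (tt N10414 (iv F15774)) (tt N8808 F15601) (tt N10413 F15772) (tt N8799 (iv D11276)))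
theorem Q10359 : ∀ i, i < 10359 → P i := stepQ 10358 Q10358 (allL N10358 (tt N10574 (iv F16253)) (tt N8801 (iv D11277)) (tt N9526 F15602) (tt N9670 F15603) (tt N10411 (iv F15764)))
theorem Q10360 : ∀ i, i < 10360 → P i := stepQ 10359 Q10359 (allL N10359 (tt N8802 F15604) (tt N10411 (iv F15762)) (tt N8820 F15605) (tt N10410 F15761) (tt N8801 (iv D11278)))
theorem Q10361 : ∀ i, i < 10361 → P i := stepQ 10360 Q10360 (allL N10360 (tt N10395 (iv F15712)) (tt N8804 (iv D11279)) (tt N9657 F15606) (tt N8819 F15607) (tt N10697 (iv F16672)))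
theorem Q10362 : ∀ i, i < 10362 → P i := stepQ 10361 Q10361 (allL N10361 (tt N8806 (iv D11280)) (tt N9386 F15608) (tt N10361 F15609) (tt N10376 (iv F15659)) (tt N9131 F15610))
theorem Q10363 : ∀ i, i < 10363 → P i := stepQ 10362 Q10362 (allL N10362 (tt N10393 (iv F15707)) (tt N8807 F15611) (tt N9655 F15612) (tt N8806 (iv D11281)) (tt N10690 (iv F16649)))
theorem Q10364 : ∀ i, i < 10364 → P i := stepQ 10363 Q10363 (allL N10363 (tt N9131 F15613) (tt N8808 F15614) (tt N9554 F15615) (tt N10697 (iv F16671)) (tt N8806 (iv D11282)))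
theorem Q10365 : ∀ i, i < 10365 → P i := stepQ 10364 Q10364 (allL N10364 (tt N9025 F15616) (tt N8811 F15617) (tt N9665 F15618) (tt N9659 F15619) (tt N8809 (iv D11283)))
theorem Q10366 : ∀ i, i < 10366 → P i := stepQ 10365 Q10365 (allL N10365 (tt N9019 F15620) (tt N8818 F15621) (tt N9666 F15622) (tt N9653 F15623) (tt N8815 (iv D11284)))
theorem Q10367 : ∀ i, i < 10367 → P i := stepQ 10366 Q10366 (allL N10366 (tt N9129 F15624) (tt N8820 F15625) (tt N9549 F15626) (tt N10690 (iv F16648)) (tt N8819 (iv D11285)))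
theorem Q10368 : ∀ i, i < 10368 → P i := stepQ 10367 Q10367 (allL N10367 (tt N10329 F15627) (tt N9360 F15628) (tt N10095 F15629) (tt N8827 (iv D11286)) (tt N9359 F15630))
theorem Q10369 : ∀ i, i < 10369 → P i := stepQ 10368 Q10368 (allL N10368 (tt N10731 D11650) (tt N10242 F15633) (tt N8837 (iv D11287)) (tt N8944 F15631) (tt N10105 F15632))
theorem Q10370 : ∀ i, i < 10370 → P i := stepQ 10369 Q10369 (allL N10369 (tt N10693 (iv F16656)) (tt N10240 F15634) (tt N8839 F15635) (tt N8838 (iv D11288)) (tt N10103 F15636))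
theorem Q10371 : ∀ i, i < 10371 → P i := stepQ 10370 Q10370 (allL N10370 (tt N8841 (iv D11289)) (tt N9640 F15637) (tt N10455 (iv F15898)) (tt N10262 F15639) (tt N9639 F15638))
theorem Q10372 : ∀ i, i < 10372 → P i := stepQ 10371 Q10371 (allL N10371 (tt N8842 (iv D11290)) (tt N9652 F15640) (tt N10461 (iv F15917)) (tt N10266 F15642) (tt N9651 F15641))
theorem Q10373 : ∀ i, i < 10373 → P i := stepQ 10372 Q10372 (allL N10372 (tt N8843 (iv D11291)) (tt N10374 (iv F15651)) (tt N10014 F15644) (tt N9438 F15645) (tt N9433 F15643))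
theorem Q10374 : ∀ i, i < 10374 → P i := stepQ 10373 Q10373 (allL N10373 (tt N9435 F15646) (tt N8986 F15647) (tt N8843 (iv D11292)) (tt N8923 F15648) (tt N9434 F15649))
theorem Q10375 : ∀ i, i < 10375 → P i := stepQ 10374 Q10374 (allL N10374 (tt N8857 F15650) (tt N10372 F15651) (tt N8852 F15652) (tt N8867 F15653) (tt N8848 (iv D11293)))
theorem Q10376 : ∀ i, i < 10376 → P i := stepQ 10375 Q10375 (allL N10375 (tt N10550 (iv F16178)) (tt N8849 (iv D11294)) (tt N9498 F15654) (tt N9298 F15655) (tt N8895 F15656))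
theorem Q10377 : ∀ i, i < 10377 → P i := stepQ 10376 Q10376 (allL N10376 (tt N8851 (iv D11295)) (tt N10218 F15657) (tt N10376 F15658) (tt N10361 F15659) (tt N10473 (iv F15958)))
theorem Q10378 : ∀ i, i < 10378 → P i := stepQ 10377 Q10377 (allL N10377 (tt N10473 (iv F15959)) (tt N8852 F15660) (tt N9878 F15661) (tt N8885 F15662) (tt N8851 (iv D11296)))
theorem Q10379 : ∀ i, i < 10379 → P i := stepQ 10378 Q10378 (allL N10378 (tt N10323 F15663) (tt N8861 F15664) (tt N10313 F15665) (tt N10327 F15666) (tt N8859 (iv D11297)))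
theorem Q10380 : ∀ i, i < 10380 → P i := stepQ 10379 Q10379 (allL N10379 (tt N8897 F15667) (tt N10335 F15668) (tt N8888 F15669) (tt N8887 F15670) (tt N8860 (iv D11298)))
theorem Q10381 : ∀ i, i < 10381 → P i := stepQ 10380 Q10380 (allL N10380 (tt N8898 F15671) (tt N10327 F15672) (tt N8879 F15673) (tt N8861 (iv D11299)) (tt N9058 F15674))
theorem Q10382 : ∀ i, i < 10382 → P i := stepQ 10381 Q10381 (allL N10381 (tt N8865 F15675) (tt N10505 (iv F16049)) (tt N8877 F15676) (tt N10525 (iv F16104)) (tt N8864 (iv D11300)))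
theorem Q10383 : ∀ i, i < 10383 → P i := stepQ 10382 Q10382 (allL N10382 (tt N8867 F15677) (tt N10506 (iv F16051)) (tt N8891 F15678) (tt N10502 (iv F16041)) (tt N8866 (iv D11301)))
theorem Q10384 : ∀ i, i < 10384 → P i := stepQ 10383 Q10383 (allL N10383 (tt N8871 F15679) (tt N10624 (iv F16412)) (tt N9775 F15680) (tt N9774 (iv F15681)) (tt N8868 (iv D11302)))
theorem Q10385 : ∀ i, i < 10385 → P i := stepQ 10384 Q10384 (allL N10384 (tt N9173 F15682) (tt N8874 (iv D11303)) (tt N9965 F15683) (tt N8890 F15684) (tt N9171 (iv F15685)))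
theorem Q10386 : ∀ i, i < 10386 → P i := stepQ 10385 Q10385 (allL N10385 (tt N8915 F15686) (tt N9171 F15687) (tt N10525 (iv F16103)) (tt N8877 F15688) (tt N8874 (iv D11304)))
theorem Q10387 : ∀ i, i < 10387 → P i := stepQ 10386 Q10386 (allL N10386 (tt N8875 (iv D11305)) (tt N10559 (iv F16206)) (tt N10418 (iv F15787)) (tt N10037 F15726) (tt N10034 F15689))
theorem Q10388 : ∀ i, i < 10388 → P i := stepQ 10387 Q10387 (allL N10387 (tt N9155 F15692) (tt N8876 F15690) (tt N9963 F15691) (tt N8875 (iv D11306)) (tt N9152 (iv F15693)))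
theorem Q10389 : ∀ i, i < 10389 → P i := stepQ 10388 Q10388 (allL N10388 (tt N8914 F15694) (tt N9152 F15695) (tt N10502 (iv F16040)) (tt N8891 F15696) (tt N8876 (iv D11307)))
theorem Q10390 : ∀ i, i < 10390 → P i := stepQ 10389 Q10389 (allL N10389 (tt N10174 F15697) (tt N8880 F15698) (tt N10598 (iv F16328)) (tt N10448 (iv F15877)) (tt N8878 (iv D11308)))
theorem Q10391 : ∀ i, i < 10391 → P i := stepQ 10390 Q10390 (allL N10390 (tt N8912 F15699) (tt N10442 (iv F15859)) (tt N10280 F15700) (tt N8889 F15701) (tt N8879 (iv D11309)))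
theorem Q10392 : ∀ i, i < 10392 → P i := stepQ 10391 Q10391 (allL N10391 (tt N8907 F15702) (tt N10448 (iv F15876)) (tt N10287 F15703) (tt N8880 (iv D11310)) (tt N8888 F15704))
theorem Q10393 : ∀ i, i < 10393 → P i := stepQ 10392 Q10392 (allL N10392 (tt N10173 F15705) (tt N8881 (iv D11311)) (tt N10419 (iv F15791)) (tt N10211 (iv F15706)) (tt N10658 (iv F16526)))
theorem Q10394 : ∀ i, i < 10394 → P i := stepQ 10393 Q10393 (allL N10393 (tt N10362 F15707) (tt N10211 F15708) (tt N10393 F15709) (tt N8881 (iv D11312)) (tt N10656 (iv F16520)))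
theorem Q10395 : ∀ i, i < 10395 → P i := stepQ 10394 Q10394 (allL N10394 (tt N10178 F15710) (tt N8884 (iv D11313)) (tt N10422 (iv F15801)) (tt N10213 (iv F15711)) (tt N10659 (iv F16531)))
theorem Q10396 : ∀ i, i < 10396 → P i := stepQ 10395 Q10395 (allL N10395 (tt N10360 F15712) (tt N10213 F15713) (tt N10395 F15714) (tt N8884 (iv D11314)) (tt N10657 (iv F16523)))
theorem Q10397 : ∀ i, i < 10397 → P i := stepQ 10396 Q10396 (allL N10396 (tt N10179 F15715) (tt N8889 F15716) (tt N10593 (iv F16312)) (tt N10442 (iv F15860)) (tt N8886 (iv D11315)))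
theorem Q10398 : ∀ i, i < 10398 → P i := stepQ 10397 Q10397 (allL N10397 (tt N10324 F15720) (tt N8887 (iv D11316)) (tt N10318 F15719) (tt N10335 F15717) (tt N10252 F15718))
theorem Q10399 : ∀ i, i < 10399 → P i := stepQ 10398 Q10398 (allL N10398 (tt N8890 (iv D11317)) (tt N10565 (iv F16224)) (tt N10423 (iv F15804)) (tt N10071 F15721) (tt N10036 (iv F15727)))
theorem Q10400 : ∀ i, i < 10400 → P i := stepQ 10399 Q10399 (allL N10399 (tt N10036 (iv F15725)) (tt N8891 F15722) (tt N9479 F15723) (tt N9152 F15724) (tt N8890 (iv D11318)))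
theorem Q10401 : ∀ i, i < 10401 → P i := stepQ 10400 Q10400 (allL N10400 (tt N8895 (iv D11319)) (tt N10628 (iv F16428)) (tt N9771 F15728) (tt N9770 F15729) (tt N10550 (iv F16181)))
theorem Q10402 : ∀ i, i < 10402 → P i := stepQ 10401 Q10401 (allL N10401 (tt N8899 (iv D11320)) (tt N8971 F15730) (tt N9830 F15731) (tt N10556 (iv F16197)) (tt N8970 F15732))
theorem Q10403 : ∀ i, i < 10403 → P i := stepQ 10402 Q10402 (allL N10402 (tt N10502 (iv F16038)) (tt N9464 F15733) (tt N8912 F15734) (tt N8904 F15735) (tt N8900 (iv D11321)))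
theorem Q10404 : ∀ i, i < 10404 → P i := stepQ 10403 Q10403 (allL N10403 (tt N10525 (iv F16101)) (tt N9478 F15736) (tt N8907 F15737) (tt N8901 (iv D11322)) (tt N8903 F15738))
theorem Q10405 : ∀ i, i < 10405 → P i := stepQ 10404 Q10404 (allL N10404 (tt N8906 (iv D11323)) (tt N10226 F15739) (tt N10225 F15741) (tt N10225 F15740) (tt N9167 F15742))
theorem Q10406 : ∀ i, i < 10406 → P i := stepQ 10405 Q10405 (allL N10405 (tt N9167 F15743) (tt N8907 F15744) (tt N9909 F15745) (tt N8911 F15746) (tt N8906 (iv D11324)))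
theorem Q10407 : ∀ i, i < 10407 → P i := stepQ 10406 Q10406 (allL N10406 (tt N8910 (iv D11325)) (tt N10224 F15747) (tt N10223 F15749) (tt N10223 F15748) (tt N9164 F15750))
theorem Q10408 : ∀ i, i < 10408 → P i := stepQ 10407 Q10407 (allL N10407 (tt N9164 F15751) (tt N8912 F15752) (tt N9907 F15753) (tt N8918 F15754) (tt N8910 (iv D11326)))
theorem Q10409 : ∀ i, i < 10409 → P i := stepQ 10408 Q10408 (allL N10408 (tt N8930 F15755) (tt N8919 (iv D11327)) (tt N9337 F15756) (tt N8960 F15757) (tt N10641 (iv F16470)))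
theorem Q10410 : ∀ i, i < 10410 → P i := stepQ 10409 Q10409 (allL N10409 (tt N8921 (iv D11328)) (tt N10732 D11651) (tt N10636 (iv F16454)) (tt N10733 D11652) (tt N9279 F15758))
theorem Q10411 : ∀ i, i < 10411 → P i := stepQ 10410 Q10410 (allL N10410 (tt N10732 (iv F16788)) (tt N8922 (iv D11329)) (tt N10003 F15760) (tt N10359 (iv F15761)) (tt N9368 F15759))
theorem Q10412 : ∀ i, i < 10412 → P i := stepQ 10411 Q10411 (allL N10411 (tt N10308 F15765) (tt N10359 F15762) (tt N10013 F15763) (tt N8922 (iv D11330)) (tt N10358 F15764))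
theorem Q10413 : ∀ i, i < 10413 → P i := stepQ 10412 Q10412 (allL N10412 (tt N8924 (iv D11331)) (tt N10307 F15768) (tt N9431 F15766) (tt N10338 F15769) (tt N9432 F15767))
theorem Q10414 : ∀ i, i < 10414 → P i := stepQ 10413 Q10413 (allL N10413 (tt N10734 D11653) (tt N8926 (iv D11332)) (tt N10033 F15771) (tt N10357 (iv F15772)) (tt N9366 F15770))
theorem Q10415 : ∀ i, i < 10415 → P i := stepQ 10414 Q10414 (allL N10414 (tt N10338 F15773) (tt N10357 F15774) (tt N10017 F15775) (tt N8926 (iv D11333)) (tt N10356 F15776))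
theorem Q10416 : ∀ i, i < 10416 → P i := stepQ 10415 Q10415 (allL N10415 (tt N8928 (iv D11334)) (tt N10734 (iv F16795)) (tt N10639 (iv F16462)) (tt N10735 D11654) (tt N9229 F15777))
theorem Q10417 : ∀ i, i < 10417 → P i := stepQ 10416 Q10416 (allL N10416 (tt N10247 F15778) (tt N9785 F15779) (tt N9864 F15780) (tt N8943 F15781) (tt N8931 (iv D11335)))
theorem Q10418 : ∀ i, i < 10418 → P i := stepQ 10417 Q10417 (allL N10417 (tt N10253 F15782) (tt N9787 F15783) (tt N9889 F15784) (tt N8932 (iv D11336)) (tt N9354 F15785))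
theorem Q10419 : ∀ i, i < 10419 → P i := stepQ 10418 Q10418 (allL N10418 (tt N10246 F15786) (tt N10625 (iv F16416)) (tt N10386 F15787) (tt N8933 (iv D11337)) (tt N9332 F15788))
theorem Q10420 : ∀ i, i < 10420 → P i := stepQ 10419 Q10419 (allL N10419 (tt N9951 F15789) (tt N8935 F15790) (tt N10392 F15791) (tt N8934 (iv D11338)) (tt N9780 F15792))
theorem Q10421 : ∀ i, i < 10421 → P i := stepQ 10420 Q10420 (allL N10420 (tt N9570 F15793) (tt N10543 (iv F16158)) (tt N10420 F15794) (tt N8936 (iv D11339)) (tt N9569 F15795))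
theorem Q10422 : ∀ i, i < 10422 → P i := stepQ 10421 Q10421 (allL N10421 (tt N9571 F15796) (tt N10544 (iv F16161)) (tt N10421 F15797) (tt N8937 (iv D11340)) (tt N9575 F15798))
theorem Q10423 : ∀ i, i < 10423 → P i := stepQ 10422 Q10422 (allL N10422 (tt N9952 F15799) (tt N8939 F15800) (tt N10394 F15801) (tt N8938 (iv D11341)) (tt N9782 F15802))
theorem Q10424 : ∀ i, i < 10424 → P i := stepQ 10423 Q10423 (allL N10423 (tt N10256 F15803) (tt N10626 (iv F16419)) (tt N10398 F15804) (tt N8940 (iv D11342)) (tt N9330 F15805))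
theorem Q10425 : ∀ i, i < 10425 → P i := stepQ 10424 Q10424 (allL N10424 (tt N8944 (iv D11343)) (tt N10667 (iv F16558)) (tt N9826 F15806) (tt N10456 (iv F15902)) (tt N10112 F15807))
theorem Q10426 : ∀ i, i < 10426 → P i := stepQ 10425 Q10425 (allL N10425 (tt N10330 F15808) (tt N9395 F15809) (tt N10093 F15810) (tt N8951 (iv D11344)) (tt N9394 F15811))
theorem Q10427 : ∀ i, i < 10427 → P i := stepQ 10426 Q10426 (allL N10426 (tt N8966 F15812) (tt N9597 F15813) (tt N9427 F15814) (tt N9418 F15815) (tt N8965 (iv D11345)))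
theorem Q10428 : ∀ i, i < 10428 → P i := stepQ 10427 Q10427 (allL N10427 (tt N9149 F15816) (tt N8976 F15817) (tt N9122 F15818) (tt N8975 F15819) (tt N8974 (iv D11346)))
theorem Q10429 : ∀ i, i < 10429 → P i := stepQ 10428 Q10428 (allL N10428 (tt N8999 F15820) (tt N9434 F15821) (tt N8992 F15822) (tt N8989 F15823) (tt N8986 (iv D11347)))
theorem Q10430 : ∀ i, i < 10430 → P i := stepQ 10429 Q10429 (allL N10429 (tt N9237 F15825) (tt N10434 (iv F15837)) (tt N10676 (iv F16592)) (tt N8997 (iv D11348)) (tt N9236 F15824))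
theorem Q10431 : ∀ i, i < 10431 → P i := stepQ 10430 Q10430 (allL N10430 (tt N8998 (iv D11349)) (tt N9436 F15826) (tt N10677 (iv F16596)) (tt N9256 F15827) (tt N9233 F15828))
theorem Q10432 : ∀ i, i < 10432 → P i := stepQ 10431 Q10431 (allL N10431 (tt N9239 F15829) (tt N10435 (iv F15841)) (tt N10678 (iv F16601)) (tt N9001 (iv D11350)) (tt N9254 F15830))
theorem Q10433 : ∀ i, i < 10433 → P i := stepQ 10432 Q10432 (allL N10432 (tt N9012 F15831) (tt N10612 (iv F16370)) (tt N9640 F15832) (tt N10260 F15833) (tt N9010 (iv D11351)))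
theorem Q10434 : ∀ i, i < 10434 → P i := stepQ 10433 Q10433 (allL N10433 (tt N9011 (iv D11352)) (tt N10536 (iv F16135)) (tt N9454 F15834) (tt N9454 F15835) (tt N10535 F16133))
theorem Q10435 : ∀ i, i < 10435 → P i := stepQ 10434 Q10434 (allL N10434 (tt N9527 F15836) (tt N10429 F15837) (tt N9019 F15838) (tt N9015 F15839) (tt N9013 (iv D11353)))
theorem Q10436 : ∀ i, i < 10436 → P i := stepQ 10435 Q10435 (allL N10435 (tt N9531 F15840) (tt N10431 F15841) (tt N9025 F15842) (tt N9049 F15843) (tt N9014 (iv D11354)))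
theorem Q10437 : ∀ i, i < 10437 → P i := stepQ 10436 Q10436 (allL N10436 (tt N9030 F15844) (tt N10736 D11655) (tt N9028 (iv D11355)) (tt N9683 F15845) (tt N10737 D11656))
theorem Q10438 : ∀ i, i < 10438 → P i := stepQ 10437 Q10437 (allL N10437 (tt N9208 F15846) (tt N9343 F15847) (tt N10737 (iv F16808)) (tt N9685 F15848) (tt N9029 (iv D11356)))
theorem Q10439 : ∀ i, i < 10439 → P i := stepQ 10438 Q10438 (allL N10438 (tt N10737 (iv F16806)) (tt N9918 F15849) (tt N9031 F15850) (tt N10140 F15851) (tt N9030 (iv D11357)))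
theorem Q10440 : ∀ i, i < 10440 → P i := stepQ 10439 Q10439 (allL N10439 (tt N10536 (iv F16134)) (tt N9034 (iv D11358)) (tt N10333 F15852) (tt N10712 (iv F16718)) (tt N9150 (iv F15853)))
theorem Q10441 : ∀ i, i < 10441 → P i := stepQ 10440 Q10440 (allL N10440 (tt N10612 (iv F16373)) (tt N9150 F15854) (tt N10738 D11657) (tt N10717 (iv F16737)) (tt N9034 (iv D11359)))
theorem Q10442 : ∀ i, i < 10442 → P i := stepQ 10441 Q10441 (allL N10441 (tt N10720 (iv F16746)) (tt N9960 F15855) (tt N9035 (iv D11360)) (tt N9870 F15856) (tt N9885 F15857))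
theorem Q10443 : ∀ i, i < 10443 → P i := stepQ 10442 Q10442 (allL N10442 (tt N9037 F15858) (tt N10390 F15859) (tt N9485 F15861) (tt N10396 F15860) (tt N9035 (iv D11361)))
theorem Q10444 : ∀ i, i < 10444 → P i := stepQ 10443 Q10443 (allL N10443 (tt N9371 F15864) (tt N9037 F15865) (tt N9059 F15866) (tt N9384 F15867) (tt N9036 (iv D11362)))
theorem Q10445 : ∀ i, i < 10445 → P i := stepQ 10444 Q10444 (allL N10444 (tt N10738 (iv F16810)) (tt N10219 F15868) (tt N9037 (iv D11363)) (tt N10613 (iv F16376)) (tt N10512 (iv F16066)))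
theorem Q10446 : ∀ i, i < 10446 → P i := stepQ 10445 Q10445 (allL N10445 (tt N10539 (iv F16143)) (tt N9038 (iv D11364)) (tt N10336 F15869) (tt N10716 (iv F16733)) (tt N9169 (iv F15870)))
theorem Q10447 : ∀ i, i < 10447 → P i := stepQ 10446 Q10446 (allL N10446 (tt N10619 (iv F16395)) (tt N9169 F15871) (tt N10739 D11658) (tt N10713 (iv F16722)) (tt N9038 (iv D11365)))
theorem Q10448 : ∀ i, i < 10448 → P i := stepQ 10447 Q10447 (allL N10447 (tt N10719 (iv F16742)) (tt N9964 F15872) (tt N9039 (iv D11366)) (tt N9886 F15873) (tt N9869 F15874))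
theorem Q10449 : ∀ i, i < 10449 → P i := stepQ 10448 Q10448 (allL N10448 (tt N9041 F15875) (tt N10391 F15876) (tt N9489 F15878) (tt N10389 F15877) (tt N9039 (iv D11367)))
theorem Q10450 : ∀ i, i < 10450 → P i := stepQ 10449 Q10449 (allL N10449 (tt N9373 F15879) (tt N9041 F15880) (tt N9101 F15881) (tt N9385 F15882) (tt N9040 (iv D11368)))
theorem Q10451 : ∀ i, i < 10451 → P i := stepQ 10450 Q10450 (allL N10450 (tt N10739 (iv F16812)) (tt N10220 F15883) (tt N9041 (iv D11369)) (tt N10620 (iv F16398)) (tt N10518 (iv F16085)))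
theorem Q10452 : ∀ i, i < 10452 → P i := stepQ 10451 Q10451 (allL N10451 (tt N9044 F15884) (tt N10619 (iv F16392)) (tt N9652 F15885) (tt N10267 F15886) (tt N9042 (iv D11370)))
theorem Q10453 : ∀ i, i < 10453 → P i := stepQ 10452 Q10452 (allL N10452 (tt N9043 (iv D11371)) (tt N10539 (iv F16144)) (tt N9458 F15887) (tt N9458 F15888) (tt N10538 (iv F16142)))
theorem Q10454 : ∀ i, i < 10454 → P i := stepQ 10453 Q10453 (allL N10453 (tt N9294 F15889) (tt N9407 F15890) (tt N9053 (iv D11372)) (tt N9684 F15891) (tt N9680 (iv F15892)))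
theorem Q10455 : ∀ i, i < 10455 → P i := stepQ 10454 Q10454 (allL N10454 (tt N10607 (iv F16355)) (tt N10263 F15895) (tt N9074 (iv D11373)) (tt N9079 F15893) (tt N9135 F15894))
theorem Q10456 : ∀ i, i < 10456 → P i := stepQ 10455 Q10455 (allL N10455 (tt N9076 F15896) (tt N9208 F15897) (tt N10370 F15898) (tt N10146 (iv F15899)) (tt N9075 (iv D11374)))
theorem Q10457 : ∀ i, i < 10457 → P i := stepQ 10456 Q10456 (allL N10456 (tt N9079 F15900) (tt N10284 F15901) (tt N9076 (iv D11375)) (tt N10424 F15902) (tt N10514 (iv F16072)))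
theorem Q10458 : ∀ i, i < 10458 → P i := stepQ 10457 Q10457 (allL N10457 (tt N10493 (iv F16014)) (tt N9810 F15903) (tt N10514 (iv F16071)) (tt N9809 F15904) (tt N9077 (iv D11376)))
theorem Q10459 : ∀ i, i < 10459 → P i := stepQ 10458 Q10458 (allL N10458 (tt N10609 (iv F16361)) (tt N10264 F15907) (tt N9078 (iv D11377)) (tt N9106 F15905) (tt N9148 F15906))
theorem Q10460 : ∀ i, i < 10460 → P i := stepQ 10459 Q10459 (allL N10459 (tt N9398 F15908) (tt N9401 F15909) (tt N10740 D11659) (tt N9686 F15910) (tt N9097 (iv D11378)))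
theorem Q10461 : ∀ i, i < 10461 → P i := stepQ 10460 Q10460 (allL N10460 (tt N10740 (iv F16814)) (tt N9922 F15911) (tt N9098 (iv D11379)) (tt N10142 F15912) (tt N10000 F15913))
theorem Q10462 : ∀ i, i < 10462 → P i := stepQ 10461 Q10461 (allL N10461 (tt N9104 F15914) (tt N9398 F15915) (tt N10371 F15917) (tt N10147 F15916) (tt N9103 (iv D11380)))
theorem Q10463 : ∀ i, i < 10463 → P i := stepQ 10462 Q10462 (allL N10462 (tt N9106 F15918) (tt N10285 F15919) (tt N9104 (iv D11381)) (tt N10278 F15920) (tt N10519 (iv F16087)))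
theorem Q10464 : ∀ i, i < 10464 → P i := stepQ 10463 Q10463 (allL N10463 (tt N10531 (iv F16119)) (tt N9828 F15921) (tt N10519 (iv F16089)) (tt N9827 F15922) (tt N9105 (iv D11382)))
theorem Q10465 : ∀ i, i < 10465 → P i := stepQ 10464 Q10464 (allL N10464 (tt N9107 (iv D11383)) (tt N9294 F15923) (tt N10083 F15924) (tt N10143 F15926) (tt N10085 F15925))
theorem Q10466 : ∀ i, i < 10466 → P i := stepQ 10465 Q10465 (allL N10465 (tt N9568 F15927) (tt N9109 F15928) (tt N9814 F15929) (tt N9108 (iv D11384)) (tt N9420 F15930))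
theorem Q10467 : ∀ i, i < 10467 → P i := stepQ 10466 Q10466 (allL N10466 (tt N9780 F15931) (tt N9112 F15932) (tt N9623 F15933) (tt N9110 (iv D11385)) (tt N9951 F15934))
theorem Q10468 : ∀ i, i < 10468 → P i := stepQ 10467 Q10467 (allL N10467 (tt N10602 (iv F16337)) (tt N9702 F15935) (tt N9112 F15936) (tt N9111 (iv D11386)) (tt N9947 F15937))
theorem Q10469 : ∀ i, i < 10469 → P i := stepQ 10468 Q10468 (allL N10468 (tt N9574 F15938) (tt N9250 F15939) (tt N9113 (iv D11387)) (tt N9961 F15940) (tt N9958 F15941))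
theorem Q10470 : ∀ i, i < 10470 → P i := stepQ 10469 Q10469 (allL N10469 (tt N9782 F15942) (tt N9117 F15943) (tt N9633 F15944) (tt N9115 (iv D11388)) (tt N9952 F15945))
theorem Q10471 : ∀ i, i < 10471 → P i := stepQ 10470 Q10470 (allL N10470 (tt N10603 (iv F16341)) (tt N9722 F15946) (tt N9117 F15947) (tt N9116 (iv D11389)) (tt N9948 F15948))
theorem Q10472 : ∀ i, i < 10472 → P i := stepQ 10471 Q10471 (allL N10471 (tt N9580 F15949) (tt N9119 F15950) (tt N9471 F15951) (tt N9118 (iv D11390)) (tt N9450 F15952))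
theorem Q10473 : ∀ i, i < 10473 → P i := stepQ 10472 Q10472 (allL N10472 (tt N10604 (iv F16345)) (tt N9246 F15953) (tt N9125 (iv D11391)) (tt N9261 F15954) (tt N9242 F15955))
theorem Q10474 : ∀ i, i < 10474 → P i := stepQ 10473 Q10473 (allL N10473 (tt N10377 F15959) (tt N9380 F15956) (tt N9130 F15957) (tt N9129 (iv D11392)) (tt N10376 F15958))
theorem Q10475 : ∀ i, i < 10475 → P i := stepQ 10474 Q10474 (allL N10474 (tt N10605 (iv F16348)) (tt N9248 F15960) (tt N9132 (iv D11393)) (tt N9243 F15961) (tt N9260 F15962))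
theorem Q10476 : ∀ i, i < 10476 → P i := stepQ 10475 Q10475 (allL N10475 (tt N9135 (iv D11394)) (tt N10663 (iv F16544)) (tt N9572 F15963) (tt N10662 F16542) (tt N10607 (iv F16357)))
theorem Q10477 : ∀ i, i < 10477 → P i := stepQ 10476 Q10476 (allL N10476 (tt N9244 F15964) (tt N9136 (iv D11395)) (tt N9236 F15965) (tt N9264 (iv F15967)) (tt N9244 F15966))
theorem Q10478 : ∀ i, i < 10478 → P i := stepQ 10477 Q10477 (allL N10477 (tt N10645 (iv F16481)) (tt N9264 F15968) (tt N9137 F15969) (tt N9136 (iv D11396)) (tt N9262 F15970))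
theorem Q10479 : ∀ i, i < 10479 → P i := stepQ 10478 Q10478 (allL N10478 (tt N10051 F15971) (tt N10315 F15972) (tt N9573 F15973) (tt N9141 (iv D11397)) (tt N10314 F15974))
theorem Q10480 : ∀ i, i < 10480 → P i := stepQ 10479 Q10479 (allL N10479 (tt N10052 F15975) (tt N10319 F15976) (tt N9577 F15977) (tt N9143 (iv D11398)) (tt N10317 F15978))
theorem Q10481 : ∀ i, i < 10481 → P i := stepQ 10480 Q10480 (allL N10480 (tt N9263 F15979) (tt N9146 (iv D11399)) (tt N9254 F15980) (tt N9245 (iv F15982)) (tt N9263 F15981))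
theorem Q10482 : ∀ i, i < 10482 → P i := stepQ 10481 Q10481 (allL N10481 (tt N10642 (iv F16471)) (tt N9245 F15983) (tt N9147 F15984) (tt N9146 (iv D11400)) (tt N9217 F15985))
theorem Q10483 : ∀ i, i < 10483 → P i := stepQ 10482 Q10482 (allL N10482 (tt N9148 (iv D11401)) (tt N10665 (iv F16551)) (tt N9576 F15986) (tt N10664 F16549) (tt N10609 (iv F16363)))
theorem Q10484 : ∀ i, i < 10484 → P i := stepQ 10483 Q10483 (allL N10483 (tt N10040 F15987) (tt N10717 (iv F16736)) (tt N9151 F15988) (tt N9150 (iv D11402)) (tt N10716 F16734))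
theorem Q10485 : ∀ i, i < 10485 → P i := stepQ 10484 Q10484 (allL N10484 (tt N9154 (iv D11403)) (tt N10354 F15989) (tt N10533 (iv F16127)) (tt N10035 F15990) (tt N10353 F15991))
theorem Q10486 : ∀ i, i < 10486 → P i := stepQ 10485 Q10485 (allL N10485 (tt N9758 F15992) (tt N9968 F15993) (tt N9985 F15994) (tt N9160 (iv D11404)) (tt N9967 F15995))
theorem Q10487 : ∀ i, i < 10487 → P i := stepQ 10486 Q10486 (allL N10486 (tt N9766 F15996) (tt N9977 F15997) (tt N9990 F15998) (tt N9175 (iv D11405)) (tt N9976 F15999))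
theorem Q10488 : ∀ i, i < 10488 → P i := stepQ 10487 Q10487 (allL N10487 (tt N9226 F16000) (tt N10491 (iv F16010)) (tt N9191 (iv D11406)) (tt N10694 (iv F16662)) (tt N10741 D11660))
theorem Q10489 : ∀ i, i < 10489 → P i := stepQ 10488 Q10488 (allL N10488 (tt N10594 (iv F16314)) (tt N9207 (iv D11407)) (tt N10191 F16002) (tt N10144 F16001) (tt N10592 (iv F16310)))
theorem Q10490 : ∀ i, i < 10490 → P i := stepQ 10489 Q10489 (allL N10489 (tt N9210 F16003) (tt N10592 (iv F16309)) (tt N9208 F16004) (tt N10138 (iv F16005)) (tt N9207 (iv D11408)))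
theorem Q10491 : ∀ i, i < 10491 → P i := stepQ 10490 Q10490 (allL N10490 (tt N10643 (iv F16474)) (tt N9725 (iv F16008)) (tt N9211 (iv D11409)) (tt N10128 F16006) (tt N10045 F16007))
theorem Q10492 : ∀ i, i < 10492 → P i := stepQ 10491 Q10491 (allL N10491 (tt N9217 F16009) (tt N10487 F16010) (tt N9212 (iv D11410)) (tt N10646 (iv F16486)) (tt N10642 F16473))
theorem Q10493 : ∀ i, i < 10493 → P i := stepQ 10492 Q10492 (allL N10492 (tt N9220 F16011) (tt N10720 (iv F16747)) (tt N9214 (iv D11411)) (tt N10163 F16012) (tt N10063 F16013))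
theorem Q10494 : ∀ i, i < 10494 → P i := stepQ 10493 Q10493 (allL N10493 (tt N10457 F16014) (tt N9215 (iv D11412)) (tt N9639 F16015) (tt N10162 F16016) (tt N10113 F16017))
theorem Q10495 : ∀ i, i < 10495 → P i := stepQ 10494 Q10494 (allL N10494 (tt N10646 (iv F16484)) (tt N9708 F16020) (tt N9219 (iv D11413)) (tt N10238 F16018) (tt N10060 F16019))
theorem Q10496 : ∀ i, i < 10496 → P i := stepQ 10495 Q10495 (allL N10495 (tt N9848 F16021) (tt N9222 F16022) (tt N10289 F16023) (tt N9221 (iv D11414)) (tt N10286 F16024))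
theorem Q10497 : ∀ i, i < 10497 → P i := stepQ 10496 Q10496 (allL N10496 (tt N9845 F16025) (tt N10286 F16026) (tt N10742 D11661) (tt N9273 F16027) (tt N9222 (iv D11415)))
theorem Q10498 : ∀ i, i < 10498 → P i := stepQ 10497 Q10497 (allL N10497 (tt N9230 F16028) (tt N10738 (iv F16811)) (tt N9223 (iv D11416)) (tt N10743 D11662) (tt N10695 (iv F16664)))
theorem Q10499 : ∀ i, i < 10499 → P i := stepQ 10498 Q10498 (allL N10498 (tt N9854 F16029) (tt N10283 F16030) (tt N10743 (iv F16823)) (tt N9223 (iv D11417)) (tt N9272 F16031))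
theorem Q10500 : ∀ i, i < 10500 → P i := stepQ 10499 Q10499 (allL N10499 (tt N9224 (iv D11418)) (tt N9358 F16033) (tt N10741 (iv F16820)) (tt N9279 F16032) (tt N10735 (iv F16801)))
theorem Q10501 : ∀ i, i < 10501 → P i := stepQ 10500 Q10500 (allL N10500 (tt N10259 F16035) (tt N9224 (iv D11419)) (tt N10257 F16034) (tt N10727 (iv F16773)) (tt N10328 (iv F16036)))
theorem Q10502 : ∀ i, i < 10502 → P i := stepQ 10501 Q10501 (allL N10501 (tt N10735 (iv F16799)) (tt N10328 F16037) (tt N10695 (iv F16665)) (tt N10726 F16770) (tt N9224 (iv D11420)))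
theorem Q10503 : ∀ i, i < 10503 → P i := stepQ 10502 Q10502 (allL N10502 (tt N10402 F16038) (tt N9228 F16039) (tt N10388 F16040) (tt N10382 F16041) (tt N9225 (iv D11421)))
theorem Q10504 : ∀ i, i < 10504 → P i := stepQ 10503 Q10503 (allL N10503 (tt N9844 F16044) (tt N9509 F16042) (tt N9227 F16043) (tt N9226 (iv D11422)) (tt N9844 (iv F16045)))
theorem Q10505 : ∀ i, i < 10505 → P i := stepQ 10504 Q10504 (allL N10504 (tt N10741 (iv F16818)) (tt N9510 F16046) (tt N9231 F16047) (tt N9853 (iv F16048)) (tt N9226 (iv D11423)))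
theorem Q10506 : ∀ i, i < 10506 → P i := stepQ 10505 Q10505 (allL N10505 (tt N10726 (iv F16769)) (tt N10381 F16049) (tt N10586 (iv F16295)) (tt N9278 F16050) (tt N9227 (iv D11424)))
theorem Q10507 : ∀ i, i < 10507 → P i := stepQ 10506 Q10506 (allL N10506 (tt N10728 (iv F16774)) (tt N10382 F16051) (tt N10589 (iv F16303)) (tt N9228 (iv D11425)) (tt N9277 F16052))
theorem Q10508 : ∀ i, i < 10508 → P i := stepQ 10507 Q10507 (allL N10507 (tt N9366 F16053) (tt N9229 (iv D11426)) (tt N10343 F16054) (tt N9393 (iv F16055)) (tt N10734 (iv F16798)))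
theorem Q10509 : ∀ i, i < 10509 → P i := stepQ 10508 Q10508 (allL N10508 (tt N10694 (iv F16660)) (tt N9694 F16056) (tt N9229 (iv D11427)) (tt N10744 D11663) (tt N10694 (iv F16663)))
theorem Q10510 : ∀ i, i < 10510 → P i := stepQ 10509 Q10509 (allL N10509 (tt N9274 F16057) (tt N9393 F16058) (tt N10744 (iv F16826)) (tt N9229 (iv D11428)) (tt N10733 (iv F16794)))
theorem Q10511 : ∀ i, i < 10511 → P i := stepQ 10510 Q10510 (allL N10510 (tt N9250 F16061) (tt N9958 F16059) (tt N9233 F16060) (tt N9232 (iv D11429)) (tt N9250 (iv F16062)))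
theorem Q10512 : ∀ i, i < 10512 → P i := stepQ 10511 Q10511 (allL N10511 (tt N10722 (iv F16754)) (tt N10193 F16063) (tt N9237 (iv D11430)) (tt N9266 F16064) (tt N10722 (iv F16757)))
theorem Q10513 : ∀ i, i < 10513 → P i := stepQ 10512 Q10512 (allL N10512 (tt N10745 D11664) (tt N9238 (iv D11431)) (tt N10196 F16065) (tt N10192 (iv F16067)) (tt N10444 F16066))
theorem Q10514 : ∀ i, i < 10514 → P i := stepQ 10513 Q10513 (allL N10513 (tt N10723 (iv F16758)) (tt N10192 F16068) (tt N9239 F16069) (tt N9238 (iv D11432)) (tt N10723 (iv F16761)))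
theorem Q10515 : ∀ i, i < 10515 → P i := stepQ 10514 Q10514 (allL N10514 (tt N9240 (iv D11433)) (tt N9824 F16070) (tt N10457 F16071) (tt N10104 F16073) (tt N10456 F16072))
theorem Q10516 : ∀ i, i < 10516 → P i := stepQ 10515 Q10515 (allL N10515 (tt N9812 F16074) (tt N9252 F16075) (tt N9914 F16076) (tt N9257 F16077) (tt N9249 (iv D11434)))
theorem Q10517 : ∀ i, i < 10517 → P i := stepQ 10516 Q10516 (allL N10516 (tt N9264 F16078) (tt N9961 F16079) (tt N9251 F16080) (tt N9250 (iv D11435)) (tt N9255 F16081))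
theorem Q10518 : ∀ i, i < 10518 → P i := stepQ 10517 Q10517 (allL N10517 (tt N9262 (iv D11436)) (tt N10520 (iv F16091)) (tt N9287 F16082) (tt N10643 (iv F16476)) (tt N10645 (iv F16483)))
theorem Q10519 : ∀ i, i < 10519 → P i := stepQ 10518 Q10518 (allL N10518 (tt N10746 D11665) (tt N9266 (iv D11437)) (tt N10195 F16083) (tt N10193 F16084) (tt N10450 F16085))
theorem Q10520 : ∀ i, i < 10520 → P i := stepQ 10519 Q10519 (allL N10519 (tt N9269 (iv D11438)) (tt N9821 F16086) (tt N10463 F16089) (tt N10112 F16088) (tt N10462 F16087))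
theorem Q10521 : ∀ i, i < 10521 → P i := stepQ 10520 Q10520 (allL N10520 (tt N9276 F16090) (tt N10517 F16091) (tt N9270 (iv D11439)) (tt N10691 (iv F16652)) (tt N10744 (iv F16827)))
theorem Q10522 : ∀ i, i < 10522 → P i := stepQ 10521 Q10521 (allL N10521 (tt N9850 F16092) (tt N9272 F16093) (tt N10291 F16094) (tt N9271 (iv D11440)) (tt N10283 F16095))
theorem Q10523 : ∀ i, i < 10523 → P i := stepQ 10522 Q10522 (allL N10522 (tt N9280 F16096) (tt N10739 (iv F16813)) (tt N9273 (iv D11441)) (tt N10742 (iv F16822)) (tt N10692 (iv F16654)))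
theorem Q10524 : ∀ i, i < 10524 → P i := stepQ 10523 Q10523 (allL N10523 (tt N10332 F16098) (tt N9274 (iv D11442)) (tt N10337 F16097) (tt N10725 (iv F16768)) (tt N10331 (iv F16099)))
theorem Q10525 : ∀ i, i < 10525 → P i := stepQ 10524 Q10524 (allL N10524 (tt N10733 (iv F16792)) (tt N10331 F16100) (tt N10692 (iv F16655)) (tt N10728 (iv F16775)) (tt N9274 (iv D11443)))
theorem Q10526 : ∀ i, i < 10526 → P i := stepQ 10525 Q10525 (allL N10525 (tt N10403 F16101) (tt N9278 F16102) (tt N10385 F16103) (tt N10381 F16104) (tt N9275 (iv D11444)))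
theorem Q10527 : ∀ i, i < 10527 → P i := stepQ 10526 Q10526 (allL N10526 (tt N9853 F16107) (tt N9514 F16105) (tt N9277 F16106) (tt N9276 (iv D11445)) (tt N9853 (iv F16108)))
theorem Q10528 : ∀ i, i < 10528 → P i := stepQ 10527 Q10527 (allL N10527 (tt N10744 (iv F16824)) (tt N9515 F16109) (tt N9281 F16111) (tt N9844 F16110) (tt N9276 (iv D11446)))
theorem Q10529 : ∀ i, i < 10529 → P i := stepQ 10528 Q10528 (allL N10528 (tt N9368 F16112) (tt N9279 (iv D11447)) (tt N10344 F16114) (tt N9358 F16113) (tt N10732 (iv F16790)))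
theorem Q10530 : ∀ i, i < 10530 → P i := stepQ 10529 Q10529 (allL N10529 (tt N10691 (iv F16650)) (tt N9688 F16115) (tt N9279 (iv D11448)) (tt N10741 F16821) (tt N10691 (iv F16653)))
theorem Q10531 : ∀ i, i < 10531 → P i := stepQ 10530 Q10530 (allL N10530 (tt N9293 F16116) (tt N10719 (iv F16743)) (tt N9289 (iv D11449)) (tt N10152 F16117) (tt N10049 F16118))
theorem Q10532 : ∀ i, i < 10532 → P i := stepQ 10531 Q10531 (allL N10531 (tt N10463 F16119) (tt N9290 (iv D11450)) (tt N9651 F16120) (tt N10151 F16121) (tt N10107 F16122))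
theorem Q10533 : ∀ i, i < 10533 → P i := stepQ 10532 Q10532 (allL N10532 (tt N10191 F16123) (tt N10553 (iv F16190)) (tt N10745 (iv F16829)) (tt N10171 F16124) (tt N9296 (iv D11451)))
theorem Q10534 : ∀ i, i < 10534 → P i := stepQ 10533 Q10533 (allL N10533 (tt N9304 F16125) (tt N9680 F16126) (tt N10484 F16127) (tt N9300 (iv D11452)) (tt N9407 (iv F16128)))
theorem Q10535 : ∀ i, i < 10535 → P i := stepQ 10534 Q10534 (allL N10534 (tt N9336 F16129) (tt N9684 F16130) (tt N10687 (iv F16636)) (tt N9407 F16131) (tt N9302 (iv D11453)))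
theorem Q10536 : ∀ i, i < 10536 → P i := stepQ 10535 Q10535 (allL N10535 (tt N9598 F16132) (tt N9303 (iv D11454)) (tt N10548 (iv F16175)) (tt N10583 (iv F16286)) (tt N10433 (iv F16133)))
theorem Q10537 : ∀ i, i < 10537 → P i := stepQ 10536 Q10536 (allL N10536 (tt N10439 F16134) (tt N10433 F16135) (tt N9311 F16136) (tt N9307 F16137) (tt N9303 (iv D11455)))
theorem Q10538 : ∀ i, i < 10538 → P i := stepQ 10537 Q10537 (allL N10537 (tt N10119 F16138) (tt N10547 (iv F16171)) (tt N9305 (iv D11456)) (tt N10558 (iv F16204)) (tt N10118 F16139))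
theorem Q10539 : ∀ i, i < 10539 → P i := stepQ 10538 Q10538 (allL N10538 (tt N9607 F16140) (tt N9306 F16141) (tt N10558 (iv F16203)) (tt N9305 (iv D11457)) (tt N10452 F16142))
theorem Q10540 : ∀ i, i < 10540 → P i := stepQ 10539 Q10539 (allL N10539 (tt N10445 F16143) (tt N10452 F16144) (tt N9318 F16145) (tt N9524 F16146) (tt N9306 (iv D11458)))
theorem Q10541 : ∀ i, i < 10541 → P i := stepQ 10540 Q10540 (allL N10540 (tt N9335 F16147) (tt N10160 F16148) (tt N10700 (iv F16683)) (tt N9521 F16149) (tt N9312 (iv D11459)))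
theorem Q10542 : ∀ i, i < 10542 → P i := stepQ 10541 Q10541 (allL N10541 (tt N9328 F16152) (tt N10157 F16150) (tt N10698 (iv F16675)) (tt N9313 (iv D11460)) (tt N9326 F16151))
theorem Q10543 : ∀ i, i < 10543 → P i := stepQ 10542 Q10542 (allL N10542 (tt N9893 F16153) (tt N9984 F16154) (tt N9329 F16156) (tt N9336 F16155) (tt N9324 (iv D11461)))
theorem Q10544 : ∀ i, i < 10544 → P i := stepQ 10543 Q10543 (allL N10543 (tt N9860 F16157) (tt N10420 F16158) (tt N10561 (iv F16211)) (tt N9328 F16159) (tt N9325 (iv D11462)))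
theorem Q10545 : ∀ i, i < 10545 → P i := stepQ 10544 Q10544 (allL N10544 (tt N9900 F16160) (tt N10421 F16161) (tt N10563 (iv F16218)) (tt N9335 F16162) (tt N9327 (iv D11463)))
theorem Q10546 : ∀ i, i < 10546 → P i := stepQ 10545 Q10545 (allL N10545 (tt N9508 F16163) (tt N10054 F16164) (tt N9339 (iv D11464)) (tt N9357 F16165) (tt N9865 F16166))
theorem Q10547 : ∀ i, i < 10547 → P i := stepQ 10546 Q10546 (allL N10546 (tt N9512 F16167) (tt N10055 F16168) (tt N9341 F16169) (tt N9340 (iv D11465)) (tt N9890 F16170))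
theorem Q10548 : ∀ i, i < 10548 → P i := stepQ 10547 Q10547 (allL N10547 (tt N10553 (iv F16188)) (tt N10537 F16171) (tt N9345 (iv D11466)) (tt N9403 F16172) (tt N10222 F16173))
theorem Q10549 : ∀ i, i < 10549 → P i := stepQ 10548 Q10548 (allL N10548 (tt N9907 F16174) (tt N9346 (iv D11467)) (tt N10535 F16175) (tt N10703 (iv F16694)) (tt N9906 F16176))
theorem Q10550 : ∀ i, i < 10550 → P i := stepQ 10549 Q10549 (allL N10549 (tt N10554 (iv F16191)) (tt N10703 (iv F16692)) (tt N9347 F16177) (tt N9346 (iv D11468)) (tt N10699 (iv F16680)))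
theorem Q10551 : ∀ i, i < 10551 → P i := stepQ 10550 Q10550 (allL N10550 (tt N10375 F16178) (tt N9792 F16179) (tt N9354 F16180) (tt N9353 (iv D11469)) (tt N10400 F16181))
theorem Q10552 : ∀ i, i < 10552 → P i := stepQ 10551 Q10551 (allL N10551 (tt N9360 F16182) (tt N10735 (iv F16800)) (tt N10348 F16183) (tt N10734 (iv F16797)) (tt N9358 (iv D11470)))
theorem Q10553 : ∀ i, i < 10553 → P i := stepQ 10552 Q10552 (allL N10552 (tt N9359 (iv D11471)) (tt N10259 F16184) (tt N9824 F16185) (tt N10258 F16186) (tt N10329 F16187))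
theorem Q10554 : ∀ i, i < 10554 → P i := stepQ 10553 Q10553 (allL N10553 (tt N10547 F16188) (tt N10532 F16190) (tt N9379 (iv D11472)) (tt N10710 (iv F16712)) (tt N10290 F16189))
theorem Q10555 : ∀ i, i < 10555 → P i := stepQ 10554 Q10554 (allL N10554 (tt N10549 F16191) (tt N10711 (iv F16714)) (tt N9389 (iv D11473)) (tt N10718 (iv F16739)) (tt N10292 F16192))
theorem Q10556 : ∀ i, i < 10556 → P i := stepQ 10555 Q10555 (allL N10555 (tt N9395 F16193) (tt N10733 (iv F16793)) (tt N10354 F16194) (tt N10732 F16791) (tt N9393 (iv D11474)))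
theorem Q10557 : ∀ i, i < 10557 → P i := stepQ 10556 Q10556 (allL N10556 (tt N9394 (iv D11475)) (tt N10332 F16195) (tt N9821 F16196) (tt N10401 F16197) (tt N10330 F16198))
theorem Q10558 : ∀ i, i < 10558 → P i := stepQ 10557 Q10557 (allL N10557 (tt N9399 F16201) (tt N10597 (iv F16326)) (tt N9398 (iv D11476)) (tt N10145 F16199) (tt N9999 F16200))
theorem Q10559 : ∀ i, i < 10559 → P i := stepQ 10558 Q10558 (allL N10558 (tt N9909 F16202) (tt N9403 (iv D11477)) (tt N10538 F16203) (tt N10537 F16204) (tt N9908 F16205))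
theorem Q10560 : ∀ i, i < 10560 → P i := stepQ 10559 Q10559 (allL N10559 (tt N9409 (iv D11478)) (tt N10386 F16206) (tt N10625 (iv F16417)) (tt N10653 (iv F16507)) (tt N10660 (iv F16535)))
theorem Q10561 : ∀ i, i < 10561 → P i := stepQ 10560 Q10560 (allL N10560 (tt N10660 (iv F16532)) (tt N9410 F16207) (tt N9942 F16208) (tt N9593 F16209) (tt N9409 (iv D11479)))
theorem Q10562 : ∀ i, i < 10562 → P i := stepQ 10561 Q10561 (allL N10561 (tt N10712 (iv F16716)) (tt N9412 (iv D11480)) (tt N10543 F16211) (tt N10041 (iv F16212)) (tt N10073 F16210))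
theorem Q10563 : ∀ i, i < 10563 → P i := stepQ 10562 Q10562 (allL N10562 (tt N9655 F16213) (tt N10041 F16214) (tt N10562 F16215) (tt N9412 (iv D11481)) (tt N10039 F16216))
theorem Q10564 : ∀ i, i < 10564 → P i := stepQ 10563 Q10563 (allL N10563 (tt N10716 (iv F16731)) (tt N9415 (iv D11482)) (tt N10544 F16218) (tt N10074 (iv F16219)) (tt N10040 F16217))
theorem Q10565 : ∀ i, i < 10565 → P i := stepQ 10564 Q10564 (allL N10564 (tt N9657 F16220) (tt N10074 F16221) (tt N10564 F16222) (tt N9415 (iv D11483)) (tt N10072 F16223))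
theorem Q10566 : ∀ i, i < 10566 → P i := stepQ 10565 Q10565 (allL N10565 (tt N9417 (iv D11484)) (tt N10398 F16224) (tt N10626 (iv F16420)) (tt N10654 (iv F16511)) (tt N10661 (iv F16539)))
theorem Q10567 : ∀ i, i < 10567 → P i := stepQ 10566 Q10566 (allL N10566 (tt N10661 (iv F16536)) (tt N9418 F16225) (tt N9943 F16226) (tt N9597 F16227) (tt N9417 (iv D11485)))
theorem Q10568 : ∀ i, i < 10568 → P i := stepQ 10567 Q10567 (allL N10567 (tt N9814 F16228) (tt N9421 (iv D11486)) (tt N10621 (iv F16401)) (tt N10294 F16229) (tt N10075 (iv F16230)))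
theorem Q10569 : ∀ i, i < 10569 → P i := stepQ 10568 Q10568 (allL N10568 (tt N9423 F16231) (tt N10075 F16232) (tt N10321 F16233) (tt N10302 F16234) (tt N9421 (iv D11487)))
theorem Q10570 : ∀ i, i < 10570 → P i := stepQ 10569 Q10569 (allL N10569 (tt N9422 (iv D11488)) (tt N9573 F16235) (tt N10662 (iv F16541)) (tt N9572 F16236) (tt N9834 F16237))
theorem Q10571 : ∀ i, i < 10571 → P i := stepQ 10570 Q10570 (allL N10570 (tt N9937 F16241) (tt N9935 F16238) (tt N9426 (iv D11489)) (tt N9933 F16239) (tt N9937 F16240))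
theorem Q10572 : ∀ i, i < 10572 → P i := stepQ 10571 Q10571 (allL N10571 (tt N10012 F16242) (tt N9533 F16243) (tt N10308 F16244) (tt N9441 F16245) (tt N9430 (iv D11490)))
theorem Q10573 : ∀ i, i < 10573 → P i := stepQ 10572 Q10572 (allL N10572 (tt N10019 F16246) (tt N9542 F16247) (tt N10338 F16248) (tt N9431 (iv D11491)) (tt N9440 F16249))
theorem Q10574 : ∀ i, i < 10574 → P i := stepQ 10573 Q10573 (allL N10573 (tt N10725 (iv F16766)) (tt N9432 (iv D11492)) (tt N10315 F16251) (tt N9564 (iv F16252)) (tt N10307 F16250))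
theorem Q10575 : ∀ i, i < 10575 → P i := stepQ 10574 Q10574 (allL N10574 (tt N10358 F16253) (tt N9564 F16254) (tt N10663 (iv F16545)) (tt N9432 (iv D11493)) (tt N10308 (iv F16255)))
theorem Q10576 : ∀ i, i < 10576 → P i := stepQ 10575 Q10575 (allL N10575 (tt N10727 (iv F16771)) (tt N9437 (iv D11494)) (tt N10319 F16256) (tt N9585 (iv F16257)) (tt N10309 (iv F16258)))
theorem Q10577 : ∀ i, i < 10577 → P i := stepQ 10576 Q10576 (allL N10576 (tt N10356 F16259) (tt N9585 F16260) (tt N10665 (iv F16552)) (tt N9437 (iv D11495)) (tt N10338 F16261))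
theorem Q10578 : ∀ i, i < 10578 → P i := stepQ 10577 Q10577 (allL N10577 (tt N9438 F16262) (tt N10309 F16263) (tt N9441 F16265) (tt N10308 F16264) (tt N9437 (iv D11496)))
theorem Q10579 : ∀ i, i < 10579 → P i := stepQ 10578 Q10578 (allL N10578 (tt N9932 F16269) (tt N9934 F16266) (tt N9443 (iv D11497)) (tt N9938 F16267) (tt N9932 F16268))
theorem Q10580 : ∀ i, i < 10580 → P i := stepQ 10579 Q10579 (allL N10579 (tt N9471 F16270) (tt N9444 (iv D11498)) (tt N10622 (iv F16405)) (tt N10303 F16271) (tt N10079 (iv F16272)))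
theorem Q10581 : ∀ i, i < 10581 → P i := stepQ 10580 Q10580 (allL N10580 (tt N9446 F16273) (tt N10079 F16274) (tt N10322 F16275) (tt N10293 F16276) (tt N9444 (iv D11499)))
theorem Q10582 : ∀ i, i < 10582 → P i := stepQ 10581 Q10581 (allL N10581 (tt N9445 (iv D11500)) (tt N9577 F16277) (tt N10664 (iv F16548)) (tt N9576 F16278) (tt N9835 F16279))
theorem Q10583 : ∀ i, i < 10583 → P i := stepQ 10582 Q10582 (allL N10582 (tt N9447 (iv D11501)) (tt N10582 F16280) (tt N10080 F16283) (tt N10304 F16281) (tt N9449 F16282))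
theorem Q10584 : ∀ i, i < 10584 → P i := stepQ 10583 Q10583 (allL N10583 (tt N9459 F16284) (tt N10042 F16285) (tt N10703 (iv F16693)) (tt N10535 F16286) (tt N9458 (iv D11502)))
theorem Q10585 : ∀ i, i < 10585 → P i := stepQ 10584 Q10584 (allL N10584 (tt N10215 F16287) (tt N10191 F16288) (tt N9467 (iv D11503)) (tt N10187 F16289) (tt N10227 F16290))
theorem Q10586 : ∀ i, i < 10586 → P i := stepQ 10585 Q10585 (allL N10585 (tt N10214 F16291) (tt N10190 (iv F16294)) (tt N9475 (iv D11504)) (tt N10194 F16292) (tt N10186 F16293))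
theorem Q10587 : ∀ i, i < 10587 → P i := stepQ 10586 Q10586 (allL N10586 (tt N10668 (iv F16564)) (tt N9480 (iv D11505)) (tt N10505 F16295) (tt N9493 F16296) (tt N10668 (iv F16563)))
theorem Q10588 : ∀ i, i < 10588 → P i := stepQ 10587 Q10587 (allL N10587 (tt N9935 F16297) (tt N10668 (iv F16561)) (tt N9501 F16298) (tt N9483 F16299) (tt N9480 (iv D11506)))
theorem Q10589 : ∀ i, i < 10589 → P i := stepQ 10588 Q10588 (allL N10588 (tt N9481 (iv D11507)) (tt N10737 (iv F16807)) (tt N10006 F16300) (tt N10005 (iv F16301)) (tt N10736 F16805))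
theorem Q10590 : ∀ i, i < 10590 → P i := stepQ 10589 Q10589 (allL N10589 (tt N10669 (iv F16568)) (tt N9482 F16302) (tt N10506 F16303) (tt N9481 (iv D11508)) (tt N10669 (iv F16567)))
theorem Q10591 : ∀ i, i < 10591 → P i := stepQ 10590 Q10590 (allL N10590 (tt N10736 (iv F16802)) (tt N9483 F16304) (tt N10026 F16305) (tt N10668 (iv F16562)) (tt N9481 (iv D11509)))
theorem Q10592 : ∀ i, i < 10592 → P i := stepQ 10591 Q10591 (allL N10591 (tt N9934 F16306) (tt N10669 (iv F16565)) (tt N9500 F16307) (tt N9494 F16308) (tt N9482 (iv D11510)))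
theorem Q10593 : ∀ i, i < 10593 → P i := stepQ 10592 Q10592 (allL N10592 (tt N9485 (iv D11511)) (tt N10489 F16309) (tt N10612 (iv F16371)) (tt N10611 F16369) (tt N10488 F16310))
theorem Q10594 : ∀ i, i < 10594 → P i := stepQ 10593 Q10593 (allL N10593 (tt N10681 (iv F16611)) (tt N9486 F16311) (tt N10396 F16312) (tt N9485 (iv D11512)) (tt N9887 (iv F16313)))
theorem Q10595 : ∀ i, i < 10595 → P i := stepQ 10594 Q10594 (allL N10594 (tt N10488 F16314) (tt N9487 F16315) (tt N9873 F16316) (tt N9872 (iv F16317)) (tt N9485 (iv D11513)))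
theorem Q10596 : ∀ i, i < 10596 → P i := stepQ 10595 Q10595 (allL N10595 (tt N9930 F16318) (tt N9887 F16319) (tt N9497 F16320) (tt N9491 F16321) (tt N9486 (iv D11514)))
theorem Q10597 : ∀ i, i < 10597 → P i := stepQ 10596 Q10596 (allL N10596 (tt N9926 F16322) (tt N9872 F16323) (tt N9496 F16324) (tt N9487 (iv D11515)) (tt N9490 F16325))
theorem Q10598 : ∀ i, i < 10598 → P i := stepQ 10597 Q10597 (allL N10597 (tt N9489 (iv D11516)) (tt N10557 F16326) (tt N10619 (iv F16393)) (tt N10618 F16391) (tt N10688 (iv F16642)))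
theorem Q10599 : ∀ i, i < 10599 → P i := stepQ 10598 Q10598 (allL N10598 (tt N10679 (iv F16603)) (tt N9490 F16327) (tt N10389 F16328) (tt N9489 (iv D11517)) (tt N9872 (iv F16329)))
theorem Q10600 : ∀ i, i < 10600 → P i := stepQ 10599 Q10599 (allL N10599 (tt N10688 (iv F16639)) (tt N9491 F16330) (tt N9871 F16331) (tt N9887 F16332) (tt N9489 (iv D11518)))
theorem Q10601 : ∀ i, i < 10601 → P i := stepQ 10600 Q10600 (allL N10600 (tt N9493 (iv D11519)) (tt N10740 (iv F16815)) (tt N10021 F16333) (tt N10020 (iv F16334)) (tt N10747 D11666))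
theorem Q10602 : ∀ i, i < 10602 → P i := stepQ 10601 Q10601 (allL N10601 (tt N10747 (iv F16836)) (tt N9494 F16335) (tt N10011 F16336) (tt N10669 (iv F16566)) (tt N9493 (iv D11520)))
theorem Q10603 : ∀ i, i < 10603 → P i := stepQ 10602 Q10602 (allL N10602 (tt N10467 F16337) (tt N9844 F16338) (tt N9520 F16339) (tt N9515 F16340) (tt N9509 (iv D11521)))
theorem Q10604 : ∀ i, i < 10604 → P i := stepQ 10603 Q10603 (allL N10603 (tt N10470 F16341) (tt N9853 F16342) (tt N9511 F16343) (tt N9510 (iv D11522)) (tt N9514 F16344))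
theorem Q10605 : ∀ i, i < 10605 → P i := stepQ 10604 Q10604 (allL N10604 (tt N10472 F16345) (tt N10013 F16346) (tt N10614 (iv F16378)) (tt N9808 (iv F16347)) (tt N9528 (iv D11523)))
theorem Q10606 : ∀ i, i < 10606 → P i := stepQ 10605 Q10605 (allL N10605 (tt N10474 F16348) (tt N10017 F16349) (tt N10616 (iv F16384)) (tt N9806 F16350) (tt N9529 (iv D11524)))
theorem Q10607 : ∀ i, i < 10607 → P i := stepQ 10606 Q10606 (allL N10606 (tt N9924 F16351) (tt N9537 F16352) (tt N9733 F16353) (tt N9543 F16354) (tt N9534 (iv D11525)))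
theorem Q10608 : ∀ i, i < 10608 → P i := stepQ 10607 Q10607 (allL N10607 (tt N10454 F16355) (tt N10300 F16356) (tt N9538 (iv D11526)) (tt N10731 (iv F16786)) (tt N10475 F16357))
theorem Q10609 : ∀ i, i < 10609 → P i := stepQ 10608 Q10608 (allL N10608 (tt N9944 F16358) (tt N9539 F16359) (tt N10731 (iv F16785)) (tt N9538 (iv D11527)) (tt N9735 F16360))
theorem Q10610 : ∀ i, i < 10610 → P i := stepQ 10609 Q10609 (allL N10609 (tt N10458 F16361) (tt N10301 F16362) (tt N9540 (iv D11528)) (tt N10693 (iv F16658)) (tt N10482 F16363))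
theorem Q10611 : ∀ i, i < 10611 → P i := stepQ 10610 Q10610 (allL N10610 (tt N9945 F16364) (tt N9541 F16365) (tt N10693 (iv F16657)) (tt N9540 (iv D11529)) (tt N9734 F16366))
theorem Q10612 : ∀ i, i < 10612 → P i := stepQ 10611 Q10611 (allL N10611 (tt N10632 (iv F16443)) (tt N10138 F16367) (tt N9544 (iv D11530)) (tt N10592 (iv F16369)) (tt N10137 F16368))
theorem Q10613 : ∀ i, i < 10613 → P i := stepQ 10612 Q10612 (allL N10612 (tt N10440 F16373) (tt N10432 F16370) (tt N10592 F16371) (tt N9544 (iv D11531)) (tt N10200 F16372))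
theorem Q10614 : ∀ i, i < 10614 → P i := stepQ 10613 Q10613 (allL N10613 (tt N9545 (iv D11532)) (tt N10722 (iv F16755)) (tt N10205 F16375) (tt N10444 F16376) (tt N10193 F16374))
theorem Q10615 : ∀ i, i < 10615 → P i := stepQ 10614 Q10614 (allL N10614 (tt N10194 F16377) (tt N9549 (iv D11533)) (tt N10604 F16378) (tt N9973 (iv F16380)) (tt N9971 F16379))
theorem Q10616 : ∀ i, i < 10616 → P i := stepQ 10615 Q10615 (allL N10615 (tt N10672 (iv F16576)) (tt N9973 F16381) (tt N10690 (iv F16647)) (tt N9549 (iv D11534)) (tt N9969 F16382))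
theorem Q10617 : ∀ i, i < 10617 → P i := stepQ 10616 Q10616 (allL N10616 (tt N10187 F16383) (tt N9554 (iv D11535)) (tt N10605 F16384) (tt N9975 (iv F16386)) (tt N9972 F16385))
theorem Q10618 : ∀ i, i < 10618 → P i := stepQ 10617 Q10617 (allL N10617 (tt N10673 (iv F16580)) (tt N9975 F16387) (tt N10697 (iv F16670)) (tt N9554 (iv D11536)) (tt N9974 F16388))
theorem Q10619 : ∀ i, i < 10619 → P i := stepQ 10618 Q10618 (allL N10618 (tt N10634 (iv F16448)) (tt N10145 F16389) (tt N9559 (iv D11537)) (tt N10597 (iv F16391)) (tt N10144 F16390))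
theorem Q10620 : ∀ i, i < 10620 → P i := stepQ 10619 Q10619 (allL N10619 (tt N10446 F16395) (tt N10451 F16392) (tt N10597 F16393) (tt N9559 (iv D11538)) (tt N10204 F16394))
theorem Q10621 : ∀ i, i < 10621 → P i := stepQ 10620 Q10620 (allL N10620 (tt N9560 (iv D11539)) (tt N10723 (iv F16759)) (tt N10198 F16397) (tt N10450 F16398) (tt N10192 F16396))
theorem Q10622 : ∀ i, i < 10622 → P i := stepQ 10621 Q10621 (allL N10621 (tt N9619 F16399) (tt N9563 F16400) (tt N10567 F16401) (tt N9561 (iv D11540)) (tt N9730 F16402))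
theorem Q10623 : ∀ i, i < 10623 → P i := stepQ 10622 Q10622 (allL N10622 (tt N9630 F16403) (tt N9584 F16404) (tt N10579 F16405) (tt N9582 (iv D11541)) (tt N9731 F16406))
theorem Q10624 : ∀ i, i < 10624 → P i := stepQ 10623 Q10623 (allL N10623 (tt N9768 F16407) (tt N9742 F16408) (tt N9751 F16409) (tt N9613 F16410) (tt N9591 (iv D11542)))
theorem Q10625 : ∀ i, i < 10625 → P i := stepQ 10624 Q10624 (allL N10624 (tt N9623 F16411) (tt N10383 F16412) (tt N9620 (iv D11543)) (tt N9793 F16413) (tt N9783 F16414))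
theorem Q10626 : ∀ i, i < 10626 → P i := stepQ 10625 Q10625 (allL N10625 (tt N9621 F16415) (tt N10418 F16416) (tt N10559 F16417) (tt N9736 F16418) (tt N9620 (iv D11544)))
theorem Q10627 : ∀ i, i < 10627 → P i := stepQ 10626 Q10626 (allL N10626 (tt N9622 (iv D11545)) (tt N10423 F16419) (tt N10565 F16420) (tt N9737 F16421) (tt N9632 F16422))
theorem Q10628 : ∀ i, i < 10628 → P i := stepQ 10627 Q10627 (allL N10627 (tt N9793 F16423) (tt N9747 F16424) (tt N9797 F16425) (tt N9624 (iv D11546)) (tt N9746 F16426))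
theorem Q10629 : ∀ i, i < 10629 → P i := stepQ 10628 Q10628 (allL N10628 (tt N9633 F16427) (tt N10400 F16428) (tt N9632 (iv D11547)) (tt N9784 F16429) (tt N9792 F16430))
theorem Q10630 : ∀ i, i < 10630 → P i := stepQ 10629 Q10629 (allL N10629 (tt N9784 F16431) (tt N9744 F16432) (tt N9781 F16433) (tt N9634 (iv D11548)) (tt N9743 F16434))
theorem Q10631 : ∀ i, i < 10631 → P i := stepQ 10630 Q10630 (allL N10630 (tt N9708 F16437) (tt N10060 F16435) (tt N9644 F16436) (tt N9643 (iv D11549)) (tt N9708 (iv F16438)))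
theorem Q10632 : ∀ i, i < 10632 → P i := stepQ 10631 Q10631 (allL N10631 (tt N9725 F16439) (tt N10045 F16440) (tt N9661 (iv D11550)) (tt N9716 F16441) (tt N9725 F16442))
theorem Q10633 : ∀ i, i < 10633 → P i := stepQ 10632 Q10632 (allL N10632 (tt N10611 F16443) (tt N9671 (iv D11551)) (tt N10714 (iv F16725)) (tt N10686 (iv F16634)) (tt N10680 F16610))
theorem Q10634 : ∀ i, i < 10634 → P i := stepQ 10633 Q10633 (allL N10633 (tt N10138 F16444) (tt N10680 (iv F16607)) (tt N9677 F16445) (tt N9675 F16446) (tt N9671 (iv D11552)))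
theorem Q10635 : ∀ i, i < 10635 → P i := stepQ 10634 Q10634 (allL N10634 (tt N10618 F16448) (tt N9674 F16447) (tt N10715 (iv F16729)) (tt N9673 (iv D11553)) (tt N10685 (iv F16630)))
theorem Q10636 : ∀ i, i < 10636 → P i := stepQ 10635 Q10635 (allL N10635 (tt N10145 F16449) (tt N10685 (iv F16628)) (tt N9678 F16450) (tt N9832 F16451) (tt N9674 (iv D11554)))
theorem Q10637 : ∀ i, i < 10637 → P i := stepQ 10636 Q10636 (allL N10636 (tt N10005 F16452) (tt N9679 (iv D11555)) (tt N10409 F16454) (tt N10747 (iv F16839)) (tt N10005 (iv F16455)))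
theorem Q10638 : ∀ i, i < 10638 → P i := stepQ 10637 Q10637 (allL N10637 (tt N10000 F16456) (tt N10747 (iv F16837)) (tt N9680 F16457) (tt N9679 (iv D11556)) (tt N10740 (iv F16817)))
theorem Q10639 : ∀ i, i < 10639 → P i := stepQ 10638 Q10638 (allL N10638 (tt N9995 F16458) (tt N10005 F16459) (tt N9685 F16460) (tt N10737 (iv F16809)) (tt N9679 (iv D11557)))
theorem Q10640 : ∀ i, i < 10640 → P i := stepQ 10639 Q10639 (allL N10639 (tt N10020 F16461) (tt N9683 (iv D11558)) (tt N10415 F16462) (tt N10736 (iv F16804)) (tt N10020 (iv F16463)))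
theorem Q10641 : ∀ i, i < 10641 → P i := stepQ 10640 Q10640 (allL N10640 (tt N10028 F16464) (tt N10020 F16465) (tt N9686 F16466) (tt N10740 (iv F16816)) (tt N9683 (iv D11559)))
theorem Q10642 : ∀ i, i < 10642 → P i := stepQ 10641 Q10641 (allL N10641 (tt N9770 F16467) (tt N10344 F16468) (tt N9687 (iv D11560)) (tt N10342 F16469) (tt N10408 F16470))
theorem Q10643 : ∀ i, i < 10643 → P i := stepQ 10642 Q10642 (allL N10642 (tt N10481 F16471) (tt N10741 (iv F16819)) (tt N9689 F16472) (tt N9688 (iv D11561)) (tt N10491 (iv F16473)))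
theorem Q10644 : ∀ i, i < 10644 → P i := stepQ 10643 Q10643 (allL N10643 (tt N10490 F16474) (tt N10691 (iv F16651)) (tt N9690 F16475) (tt N10517 F16476) (tt N9688 (iv D11562)))
theorem Q10645 : ∀ i, i < 10645 → P i := stepQ 10644 Q10644 (allL N10644 (tt N9774 F16477) (tt N10343 F16478) (tt N9693 (iv D11563)) (tt N10355 F16479) (tt N10341 F16480))
theorem Q10646 : ∀ i, i < 10646 → P i := stepQ 10645 Q10645 (allL N10645 (tt N10477 F16481) (tt N10744 (iv F16825)) (tt N9695 F16482) (tt N9694 (iv D11564)) (tt N10517 F16483))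
theorem Q10647 : ∀ i, i < 10647 → P i := stepQ 10646 Q10646 (allL N10646 (tt N10494 F16484) (tt N10694 (iv F16661)) (tt N9696 F16485) (tt N10491 F16486) (tt N9694 (iv D11565)))
theorem Q10648 : ∀ i, i < 10648 → P i := stepQ 10647 Q10647 (allL N10647 (tt N10721 (iv F16750)) (tt N10166 F16487) (tt N9698 (iv D11566)) (tt N9719 F16488) (tt N10721 (iv F16753)))
theorem Q10649 : ∀ i, i < 10649 → P i := stepQ 10648 Q10648 (allL N10648 (tt N10724 (iv F16762)) (tt N10167 F16489) (tt N9700 F16490) (tt N9699 (iv D11567)) (tt N10724 (iv F16765)))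
theorem Q10650 : ∀ i, i < 10650 → P i := stepQ 10649 Q10649 (allL N10649 (tt N9806 F16491) (tt N9710 F16492) (tt N9912 F16493) (tt N9800 F16494) (tt N9707 (iv D11568)))
theorem Q10651 : ∀ i, i < 10651 → P i := stepQ 10650 Q10650 (allL N10650 (tt N9723 F16495) (tt N10238 F16496) (tt N9709 F16497) (tt N9708 (iv D11569)) (tt N9716 F16498))
theorem Q10652 : ∀ i, i < 10652 → P i := stepQ 10651 Q10651 (allL N10651 (tt N9720 F16499) (tt N9829 F16500) (tt N10684 (iv F16625)) (tt N9713 F16501) (tt N9709 (iv D11570)))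
theorem Q10653 : ∀ i, i < 10653 → P i := stepQ 10652 Q10652 (allL N10652 (tt N9808 F16502) (tt N9713 (iv D11571)) (tt N9911 F16503) (tt N9829 F16504) (tt N9724 F16505))
theorem Q10654 : ∀ i, i < 10654 → P i := stepQ 10653 Q10653 (allL N10653 (tt N9738 F16506) (tt N10037 (iv F16509)) (tt N9736 (iv D11572)) (tt N10559 F16507) (tt N9786 F16508))
theorem Q10655 : ∀ i, i < 10655 → P i := stepQ 10654 Q10654 (allL N10654 (tt N9740 F16510) (tt N10071 (iv F16513)) (tt N9737 (iv D11573)) (tt N10565 F16511) (tt N9794 F16512))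
theorem Q10656 : ∀ i, i < 10656 → P i := stepQ 10655 Q10655 (allL N10655 (tt N9894 F16514) (tt N9892 F16515) (tt N9761 F16516) (tt N9768 F16517) (tt N9756 (iv D11574)))
theorem Q10657 : ∀ i, i < 10657 → P i := stepQ 10656 Q10656 (allL N10656 (tt N10690 (iv F16646)) (tt N9778 F16518) (tt N9762 (iv D11575)) (tt N9882 F16519) (tt N10393 F16520))
theorem Q10658 : ∀ i, i < 10658 → P i := stepQ 10657 Q10657 (allL N10657 (tt N10697 (iv F16669)) (tt N9795 F16521) (tt N9764 (iv D11576)) (tt N9874 F16522) (tt N10395 F16523))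
theorem Q10659 : ∀ i, i < 10659 → P i := stepQ 10658 Q10658 (allL N10658 (tt N10248 F16527) (tt N9874 F16524) (tt N9777 (iv D11577)) (tt N9795 F16525) (tt N10392 F16526))
theorem Q10660 : ∀ i, i < 10660 → P i := stepQ 10659 Q10659 (allL N10659 (tt N10251 F16528) (tt N9882 F16529) (tt N9779 F16530) (tt N9778 (iv D11578)) (tt N10394 F16531))
theorem Q10661 : ∀ i, i < 10661 → P i := stepQ 10660 Q10660 (allL N10660 (tt N10560 F16532) (tt N10034 F16533) (tt N9785 (iv D11579)) (tt N9794 F16534) (tt N10559 F16535))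
theorem Q10662 : ∀ i, i < 10662 → P i := stepQ 10661 Q10661 (allL N10661 (tt N10566 F16536) (tt N10036 F16537) (tt N9787 F16538) (tt N9786 (iv D11580)) (tt N10565 F16539))
theorem Q10663 : ∀ i, i < 10663 → P i := stepQ 10662 Q10662 (allL N10662 (tt N10103 F16540) (tt N9816 (iv D11581)) (tt N10569 F16541) (tt N10475 (iv F16542)) (tt N10693 (iv F16659)))
theorem Q10664 : ∀ i, i < 10664 → P i := stepQ 10663 Q10663 (allL N10663 (tt N10129 F16543) (tt N10475 F16544) (tt N10574 F16545) (tt N9816 (iv D11582)) (tt N10300 (iv F16546)))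
theorem Q10665 : ∀ i, i < 10665 → P i := stepQ 10664 Q10664 (allL N10664 (tt N10105 F16547) (tt N9817 (iv D11583)) (tt N10581 F16548) (tt N10482 (iv F16549)) (tt N10731 (iv F16787)))
theorem Q10666 : ∀ i, i < 10666 → P i := stepQ 10665 Q10665 (allL N10665 (tt N10130 F16550) (tt N10482 F16551) (tt N10576 F16552) (tt N9817 (iv D11584)) (tt N10301 F16553))
theorem Q10667 : ∀ i, i < 10667 → P i := stepQ 10666 Q10666 (allL N10666 (tt N9818 F16554) (tt N10731 (iv F16784)) (tt N9852 F16555) (tt N10300 F16556) (tt N9817 (iv D11585)))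
theorem Q10668 : ∀ i, i < 10668 → P i := stepQ 10667 Q10667 (allL N10667 (tt N9831 F16557) (tt N10424 F16558) (tt N9902 F16559) (tt N10284 F16560) (tt N9830 (iv D11586)))
theorem Q10669 : ∀ i, i < 10669 → P i := stepQ 10668 Q10668 (allL N10668 (tt N10586 F16564) (tt N10587 F16561) (tt N9845 (iv D11587)) (tt N10590 F16562) (tt N10586 F16563))
theorem Q10670 : ∀ i, i < 10670 → P i := stepQ 10669 Q10669 (allL N10669 (tt N10589 F16568) (tt N10591 F16565) (tt N9854 (iv D11588)) (tt N10601 F16566) (tt N10589 F16567))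
theorem Q10671 : ∀ i, i < 10671 → P i := stepQ 10670 Q10670 (allL N10670 (tt N9955 F16569) (tt N9870 F16570) (tt N9950 F16571) (tt N9960 F16572) (tt N9868 (iv D11589)))
theorem Q10672 : ∀ i, i < 10672 → P i := stepQ 10671 Q10671 (allL N10671 (tt N10710 (iv F16709)) (tt N9877 F16573) (tt N9992 F16574) (tt N9991 F16575) (tt N9875 (iv D11590)))
theorem Q10673 : ∀ i, i < 10673 → P i := stepQ 10672 Q10672 (allL N10672 (tt N10615 F16576) (tt N9986 F16577) (tt N10039 F16578) (tt N9881 F16579) (tt N9876 (iv D11591)))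
theorem Q10674 : ∀ i, i < 10674 → P i := stepQ 10673 Q10673 (allL N10673 (tt N10617 F16580) (tt N9991 F16581) (tt N10072 F16582) (tt N9877 (iv D11592)) (tt N9880 F16583))
theorem Q10675 : ∀ i, i < 10675 → P i := stepQ 10674 Q10674 (allL N10674 (tt N10718 (iv F16738)) (tt N9881 F16584) (tt N9987 F16585) (tt N9986 F16586) (tt N9879 (iv D11593)))
theorem Q10676 : ∀ i, i < 10676 → P i := stepQ 10675 Q10675 (allL N10675 (tt N9956 F16587) (tt N9886 F16588) (tt N9953 F16589) (tt N9964 F16590) (tt N9884 (iv D11594)))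
theorem Q10677 : ∀ i, i < 10677 → P i := stepQ 10676 Q10676 (allL N10676 (tt N10139 F16593) (tt N10140 F16591) (tt N10429 F16592) (tt N9918 (iv D11595)) (tt N10139 (iv F16594)))
theorem Q10678 : ∀ i, i < 10678 → P i := stepQ 10677 Q10677 (allL N10677 (tt N9919 (iv D11596)) (tt N9921 F16595) (tt N10430 F16596) (tt N9923 F16597) (tt N9919 F16598))
theorem Q10679 : ∀ i, i < 10679 → P i := stepQ 10678 Q10678 (allL N10678 (tt N10141 F16599) (tt N10142 F16600) (tt N10431 F16601) (tt N9922 (iv D11597)) (tt N10141 F16602))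
theorem Q10680 : ∀ i, i < 10680 → P i := stepQ 10679 Q10679 (allL N10679 (tt N10598 F16603) (tt N9926 F16604) (tt N10202 F16605) (tt N9929 (iv F16606)) (tt N9925 (iv D11598)))
theorem Q10681 : ∀ i, i < 10681 → P i := stepQ 10680 Q10680 (allL N10680 (tt N10137 F16609) (tt N10633 F16607) (tt N10123 F16608) (tt N9927 (iv D11599)) (tt N10632 (iv F16610)))
theorem Q10682 : ∀ i, i < 10682 → P i := stepQ 10681 Q10681 (allL N10681 (tt N10593 F16611) (tt N9930 F16612) (tt N10201 F16613) (tt N9940 F16614) (tt N9928 (iv D11600)))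
theorem Q10683 : ∀ i, i < 10683 → P i := stepQ 10682 Q10682 (allL N10682 (tt N9993 F16617) (tt N9995 F16615) (tt N10066 F16616) (tt N9931 (iv D11601)) (tt N9993 (iv F16618)))
theorem Q10684 : ∀ i, i < 10684 → P i := stepQ 10683 Q10683 (allL N10683 (tt N10027 F16619) (tt N10028 F16620) (tt N10068 F16621) (tt N9936 (iv D11602)) (tt N10027 F16622))
theorem Q10685 : ∀ i, i < 10685 → P i := stepQ 10684 Q10684 (allL N10684 (tt N9938 F16623) (tt N9994 F16624) (tt N10651 F16625) (tt N9993 F16626) (tt N9936 (iv D11603)))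
theorem Q10686 : ∀ i, i < 10686 → P i := stepQ 10685 Q10685 (allL N10685 (tt N10144 F16627) (tt N10635 F16628) (tt N10122 F16629) (tt N9939 (iv D11604)) (tt N10634 F16630))
theorem Q10687 : ∀ i, i < 10687 → P i := stepQ 10686 Q10686 (allL N10686 (tt N9940 F16631) (tt N10229 F16632) (tt N10235 F16633) (tt N10632 F16634) (tt N9939 (iv D11605)))
theorem Q10688 : ∀ i, i < 10688 → P i := stepQ 10687 Q10687 (allL N10687 (tt N10065 F16635) (tt N9978 (iv D11606)) (tt N10534 F16636) (tt N10127 F16637) (tt N10116 F16638))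
theorem Q10689 : ∀ i, i < 10689 → P i := stepQ 10688 Q10688 (allL N10688 (tt N10599 F16639) (tt N9999 (iv D11607)) (tt N10190 F16640) (tt N10137 F16641) (tt N10597 F16642))
theorem Q10690 : ∀ i, i < 10690 → P i := stepQ 10689 Q10689 (allL N10689 (tt N10001 (iv D11608)) (tt N10035 F16643) (tt N10732 (iv F16789)) (tt N10354 F16644) (tt N10347 F16645))
theorem Q10691 : ∀ i, i < 10691 → P i := stepQ 10690 Q10690 (allL N10690 (tt N10656 F16646) (tt N10003 (iv D11609)) (tt N10615 F16647) (tt N10366 F16648) (tt N10362 F16649))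
theorem Q10692 : ∀ i, i < 10692 → P i := stepQ 10691 Q10691 (allL N10691 (tt N10529 F16650) (tt N10643 F16651) (tt N10007 (iv D11610)) (tt N10520 F16652) (tt N10529 F16653))
theorem Q10693 : ∀ i, i < 10693 → P i := stepQ 10692 Q10692 (allL N10692 (tt N10010 (iv D11611)) (tt N10746 (iv F16832)) (tt N10524 F16655) (tt N10748 D11667) (tt N10522 F16654))
theorem Q10694 : ∀ i, i < 10694 → P i := stepQ 10693 Q10693 (allL N10693 (tt N10369 F16656) (tt N10016 (iv D11612)) (tt N10610 F16657) (tt N10609 F16658) (tt N10662 F16659))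
theorem Q10695 : ∀ i, i < 10695 → P i := stepQ 10694 Q10694 (allL N10694 (tt N10508 F16660) (tt N10646 F16661) (tt N10022 (iv D11613)) (tt N10487 F16662) (tt N10508 F16663))
theorem Q10696 : ∀ i, i < 10696 → P i := stepQ 10695 Q10695 (allL N10695 (tt N10025 (iv D11614)) (tt N10745 (iv F16828)) (tt N10501 F16665) (tt N10749 D11668) (tt N10497 F16664))
theorem Q10697 : ∀ i, i < 10697 → P i := stepQ 10696 Q10696 (allL N10696 (tt N10031 (iv D11615)) (tt N10070 F16666) (tt N10734 (iv F16796)) (tt N10348 F16667) (tt N10345 F16668))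
theorem Q10698 : ∀ i, i < 10698 → P i := stepQ 10697 Q10697 (allL N10697 (tt N10657 F16669) (tt N10033 (iv D11616)) (tt N10617 F16670) (tt N10363 F16671) (tt N10360 F16672))
theorem Q10699 : ∀ i, i < 10699 → P i := stepQ 10698 Q10698 (allL N10698 (tt N10037 F16673) (tt N10347 F16674) (tt N10541 F16675) (tt N10346 F16676) (tt N10035 (iv D11617)))
theorem Q10700 : ∀ i, i < 10700 → P i := stepQ 10699 Q10699 (allL N10699 (tt N10292 F16677) (tt N10124 F16678) (tt N10099 F16679) (tt N10044 (iv D11618)) (tt N10549 F16680))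
theorem Q10701 : ∀ i, i < 10701 → P i := stepQ 10700 Q10700 (allL N10700 (tt N10071 F16681) (tt N10345 F16682) (tt N10540 F16683) (tt N10353 F16684) (tt N10070 (iv D11619)))
theorem Q10702 : ∀ i, i < 10702 → P i := stepQ 10701 Q10701 (allL N10701 (tt N10189 F16685) (tt N10705 (iv F16700)) (tt N10197 F16686) (tt N10232 F16687) (tt N10120 (iv D11620)))
theorem Q10703 : ∀ i, i < 10703 → P i := stepQ 10702 Q10702 (allL N10702 (tt N10203 F16690) (tt N10704 (iv F16696)) (tt N10175 F16688) (tt N10121 (iv D11621)) (tt N10131 F16689))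
theorem Q10704 : ∀ i, i < 10704 → P i := stepQ 10703 Q10703 (allL N10703 (tt N10125 F16691) (tt N10549 F16692) (tt N10583 F16693) (tt N10548 F16694) (tt N10124 (iv D11622)))
theorem Q10705 : ∀ i, i < 10705 → P i := stepQ 10704 Q10704 (allL N10704 (tt N10152 F16695) (tt N10702 F16696) (tt N10150 F16697) (tt N10155 F16698) (tt N10148 (iv D11623)))
theorem Q10706 : ∀ i, i < 10706 → P i := stepQ 10705 Q10705 (allL N10705 (tt N10163 F16699) (tt N10701 F16700) (tt N10164 F16701) (tt N10228 F16702) (tt N10154 (iv D11624)))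
theorem Q10707 : ∀ i, i < 10707 → P i := stepQ 10706 Q10706 (allL N10706 (tt N10166 (iv D11625)) (tt N10749 (iv F16845)) (tt N10171 F16703) (tt N10745 (iv F16830)) (tt N10750 D11669))
theorem Q10708 : ∀ i, i < 10708 → P i := stepQ 10707 Q10707 (allL N10707 (tt N10750 (iv F16848)) (tt N10721 (iv F16751)) (tt N10174 F16704) (tt N10168 F16705) (tt N10166 (iv D11626)))
theorem Q10709 : ∀ i, i < 10709 → P i := stepQ 10708 Q10708 (allL N10708 (tt N10167 (iv D11627)) (tt N10748 (iv F16841)) (tt N10185 F16706) (tt N10746 (iv F16834)) (tt N10751 D11670))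
theorem Q10710 : ∀ i, i < 10710 → P i := stepQ 10709 Q10709 (allL N10709 (tt N10751 (iv F16852)) (tt N10724 (iv F16763)) (tt N10179 F16707) (tt N10233 F16708) (tt N10167 (iv D11628)))
theorem Q10711 : ∀ i, i < 10711 → P i := stepQ 10710 Q10710 (allL N10710 (tt N10671 F16709) (tt N10171 F16710) (tt N10247 F16711) (tt N10553 F16712) (tt N10169 (iv D11629)))
theorem Q10712 : ∀ i, i < 10712 → P i := stepQ 10711 Q10711 (allL N10711 (tt N10190 F16713) (tt N10554 F16714) (tt N10746 (iv F16833)) (tt N10185 F16715) (tt N10170 (iv D11630)))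
theorem Q10713 : ∀ i, i < 10713 → P i := stepQ 10712 Q10712 (allL N10712 (tt N10561 F16716) (tt N10172 (iv D11631)) (tt N10246 F16717) (tt N10439 F16718) (tt N10244 (iv F16719)))
theorem Q10714 : ∀ i, i < 10714 → P i := stepQ 10713 Q10713 (allL N10713 (tt N10202 F16720) (tt N10244 F16721) (tt N10750 (iv F16850)) (tt N10446 F16722) (tt N10172 (iv D11632)))
theorem Q10715 : ∀ i, i < 10715 → P i := stepQ 10714 Q10714 (allL N10714 (tt N10205 F16723) (tt N10350 F16724) (tt N10632 F16725) (tt N10235 F16726) (tt N10175 (iv D11633)))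
theorem Q10716 : ∀ i, i < 10716 → P i := stepQ 10715 Q10715 (allL N10715 (tt N10198 F16727) (tt N10351 F16728) (tt N10634 F16729) (tt N10176 (iv D11634)) (tt N10197 F16730))
theorem Q10717 : ∀ i, i < 10717 → P i := stepQ 10716 Q10716 (allL N10716 (tt N10563 F16731) (tt N10180 (iv D11635)) (tt N10256 F16732) (tt N10445 F16733) (tt N10483 (iv F16734)))
theorem Q10718 : ∀ i, i < 10718 → P i := stepQ 10717 Q10717 (allL N10717 (tt N10201 F16735) (tt N10483 F16736) (tt N10751 (iv F16854)) (tt N10440 F16737) (tt N10180 (iv D11636)))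
theorem Q10719 : ∀ i, i < 10719 → P i := stepQ 10718 Q10718 (allL N10718 (tt N10674 F16738) (tt N10185 (iv D11637)) (tt N10253 F16741) (tt N10554 F16739) (tt N10234 F16740))
theorem Q10720 : ∀ i, i < 10720 → P i := stepQ 10719 Q10719 (allL N10719 (tt N10447 F16742) (tt N10530 F16743) (tt N10204 F16744) (tt N10203 F16745) (tt N10188 (iv D11638)))
theorem Q10721 : ∀ i, i < 10721 → P i := stepQ 10720 Q10720 (allL N10720 (tt N10441 F16746) (tt N10492 F16747) (tt N10200 F16748) (tt N10189 (iv D11639)) (tt N10236 F16749))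
theorem Q10722 : ∀ i, i < 10722 → P i := stepQ 10721 Q10721 (allL N10721 (tt N10647 F16750) (tt N10707 F16751) (tt N10240 F16752) (tt N10209 (iv D11640)) (tt N10647 F16753))
theorem Q10723 : ∀ i, i < 10723 → P i := stepQ 10722 Q10722 (allL N10722 (tt N10511 F16754) (tt N10613 F16755) (tt N10263 F16756) (tt N10219 (iv D11641)) (tt N10511 F16757))
theorem Q10724 : ∀ i, i < 10724 → P i := stepQ 10723 Q10723 (allL N10723 (tt N10513 F16758) (tt N10620 F16759) (tt N10264 F16760) (tt N10220 (iv D11642)) (tt N10513 F16761))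
theorem Q10725 : ∀ i, i < 10725 → P i := stepQ 10724 Q10724 (allL N10724 (tt N10648 F16762) (tt N10709 F16763) (tt N10242 F16764) (tt N10230 (iv D11643)) (tt N10648 F16765))
theorem Q10726 : ∀ i, i < 10726 → P i := stepQ 10725 Q10725 (allL N10725 (tt N10573 F16766) (tt N10239 (iv D11644)) (tt N10245 F16767) (tt N10523 F16768) (tt N10729 (iv F16779)))
theorem Q10727 : ∀ i, i < 10727 → P i := stepQ 10726 Q10726 (allL N10726 (tt N10505 F16769) (tt N10729 (iv F16776)) (tt N10749 (iv F16846)) (tt N10501 (iv F16770)) (tt N10239 (iv D11645)))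
theorem Q10728 : ∀ i, i < 10728 → P i := stepQ 10727 Q10727 (allL N10727 (tt N10575 F16771) (tt N10243 (iv D11646)) (tt N10255 F16772) (tt N10500 F16773) (tt N10730 (iv F16783)))
theorem Q10729 : ∀ i, i < 10729 → P i := stepQ 10728 Q10728 (allL N10728 (tt N10506 F16774) (tt N10730 (iv F16780)) (tt N10748 (iv F16842)) (tt N10524 F16775) (tt N10243 (iv D11647)))
theorem Q10730 : ∀ i, i < 10730 → P i := stepQ 10729 Q10729 (allL N10729 (tt N10307 (iv D11648)) (tt N10726 F16776) (tt N10311 F16777) (tt N10328 F16778) (tt N10725 F16779))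
theorem Q10731 : ∀ i, i < 10731 → P i := stepQ 10730 Q10730 (allL N10730 (tt N10309 (iv D11649)) (tt N10728 F16780) (tt N10325 F16781) (tt N10331 F16782) (tt N10727 F16783))
theorem Q10732 : ∀ i, i < 10732 → P i := stepQ 10731 Q10731 (allL N10731 (tt N10368 (iv D11650)) (tt N10666 F16784) (tt N10608 F16785) (tt N10607 F16786) (tt N10664 F16787))
theorem Q10733 : ∀ i, i < 10733 → P i := stepQ 10732 Q10732 (allL N10732 (tt N10410 F16788) (tt N10409 (iv D11651)) (tt N10689 F16789) (tt N10555 (iv F16791)) (tt N10528 F16790))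
theorem Q10734 : ∀ i, i < 10734 → P i := stepQ 10733 Q10733 (allL N10733 (tt N10524 F16792) (tt N10555 F16793) (tt N10747 (iv F16838)) (tt N10409 (iv D11652)) (tt N10509 F16794))
theorem Q10735 : ∀ i, i < 10735 → P i := stepQ 10734 Q10734 (allL N10734 (tt N10413 (iv D11653)) (tt N10415 F16795) (tt N10696 F16796) (tt N10551 F16797) (tt N10507 F16798))
theorem Q10736 : ∀ i, i < 10736 → P i := stepQ 10735 Q10735 (allL N10735 (tt N10501 F16799) (tt N10551 F16800) (tt N10736 (iv F16803)) (tt N10415 (iv D11654)) (tt N10499 F16801))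
theorem Q10737 : ∀ i, i < 10737 → P i := stepQ 10736 Q10736 (allL N10736 (tt N10590 F16802) (tt N10436 (iv D11655)) (tt N10735 F16803) (tt N10639 F16804) (tt N10588 (iv F16805)))
theorem Q10738 : ∀ i, i < 10738 → P i := stepQ 10737 Q10737 (allL N10737 (tt N10438 F16806) (tt N10588 F16807) (tt N10437 F16808) (tt N10638 F16809) (tt N10436 (iv D11656)))
theorem Q10739 : ∀ i, i < 10739 → P i := stepQ 10738 Q10738 (allL N10738 (tt N10444 F16810) (tt N10497 F16811) (tt N10440 (iv D11657)) (tt N10751 (iv F16855)) (tt N10745 (iv F16831)))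
theorem Q10740 : ∀ i, i < 10740 → P i := stepQ 10739 Q10739 (allL N10739 (tt N10450 F16812) (tt N10522 F16813) (tt N10446 (iv D11658)) (tt N10750 (iv F16851)) (tt N10746 (iv F16835)))
theorem Q10741 : ∀ i, i < 10741 → P i := stepQ 10740 Q10740 (allL N10740 (tt N10460 F16814) (tt N10600 F16815) (tt N10459 (iv D11659)) (tt N10640 F16816) (tt N10637 F16817))
theorem Q10742 : ∀ i, i < 10742 → P i := stepQ 10741 Q10741 (allL N10741 (tt N10504 F16818) (tt N10642 F16819) (tt N10499 F16820) (tt N10529 (iv F16821)) (tt N10487 (iv D11660)))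
theorem Q10743 : ∀ i, i < 10743 → P i := stepQ 10742 Q10742 (allL N10742 (tt N10749 (iv F16844)) (tt N10750 (iv F16849)) (tt N10496 (iv D11661)) (tt N10522 F16822) (tt N10749 (iv F16847)))
theorem Q10744 : ∀ i, i < 10744 → P i := stepQ 10743 Q10743 (allL N10743 (tt N10748 (iv F16840)) (tt N10751 (iv F16853)) (tt N10498 F16823) (tt N10497 (iv D11662)) (tt N10748 (iv F16843)))
theorem Q10745 : ∀ i, i < 10745 → P i := stepQ 10744 Q10744 (allL N10744 (tt N10527 F16824) (tt N10645 F16825) (tt N10509 F16826) (tt N10508 (iv D11663)) (tt N10520 F16827))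
theorem Q10746 : ∀ i, i < 10746 → P i := stepQ 10745 Q10745 (allL N10745 (tt N10512 (iv D11664)) (tt N10695 F16828) (tt N10532 F16829) (tt N10706 F16830) (tt N10738 F16831))
theorem Q10747 : ∀ i, i < 10747 → P i := stepQ 10746 Q10746 (allL N10746 (tt N10518 (iv D11665)) (tt N10692 F16832) (tt N10711 F16833) (tt N10708 F16834) (tt N10739 F16835))
theorem Q10748 : ∀ i, i < 10748 → P i := stepQ 10747 Q10747 (allL N10747 (tt N10601 F16836) (tt N10637 F16837) (tt N10733 F16838) (tt N10636 F16839) (tt N10600 (iv D11666)))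
theorem Q10749 : ∀ i, i < 10749 → P i := stepQ 10748 Q10748 (allL N10748 (tt N10743 F16840) (tt N10708 F16841) (tt N10728 F16842) (tt N10692 (iv D11667)) (tt N10743 F16843))
theorem Q10750 : ∀ i, i < 10750 → P i := stepQ 10749 Q10749 (allL N10749 (tt N10742 F16844) (tt N10706 F16845) (tt N10726 F16846) (tt N10695 (iv D11668)) (tt N10742 F16847))
theorem Q10751 : ∀ i, i < 10751 → P i := stepQ 10750 Q10750 (allL N10750 (tt N10707 F16848) (tt N10742 F16849) (tt N10713 F16850) (tt N10739 F16851) (tt N10706 (iv D11669)))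
theorem Q10752 : ∀ i, i < 10752 → P i := stepQ 10751 Q10751 (allL N10751 (tt N10709 F16852) (tt N10743 F16853) (tt N10717 F16854) (tt N10738 F16855) (tt N10708 (iv D11670)))

theorem closedN : ∀ i, i < N → P i := Q10752

end Cfsg.Agent.Helper17.HCPTC
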