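import Cfsg.Agent.Helper17.HCPTC.Base

set_option autoImplicit false
set_option linter.all false

noncomputable section

namespace Cfsg.Agent.Helper17.HCPTC

theorem c0_4 {p0 p1 p2 p3 p4 q4 q5 q6 q7 : Q} (h0 : act 1 p0 = p1) (h1 : act 0 p1 = p2) (h2 : act 1 p2 = p3) (h3 : act 0 p3 = p4) (h4 : act 1 q4 = q5) (h5 : act 0 q5 = q6) (h6 : act 1 q6 = q7) (h7 : act 0 q7 = p0) : p4 = q4 := by
  have hr := R0 p0
  subst h0
  subst h1
  subst h2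
  subst h3
  subst h7
  subst h6
  subst h5
  subst h4
  exact ij (ij (ij (ij (hr))))

theorem c0_5 {p0 p1 p2 p3 p4 p5 q5 q6 q7 : Q} (h0 : act 1 p0 = p1) (h1 : act 0 p1 = p2) (h2 : act 1 p2 = p3) (h3 : act 0 p3 = p4) (h4 : act 1 p4 = p5) (h5 : act 0 q5 = q6) (h6 : act 1 q6 = q7) (h7 : act 0 q7 = p0) : p5 = q5 := by
  have hr := R0 p0
  subst h0
  subst h1
  subst h2
  subst h3
  subst h4
  subst h7
  subst h6
  subst h5
  exact ij (ij (ij (hr)))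

theorem c0_6 {p0 p1 p2 p3 p4 p5 p6 q6 q7 : Q} (h0 : act 1 p0 = p1) (h1 : act 0 p1 = p2) (h2 : act 1 p2 = p3) (h3 : act 0 p3 = p4) (h4 : act 1 p4 = p5) (h5 : act 0 p5 = p6) (h6 : act 1 q6 = q7) (h7 : act 0 q7 = p0) : p6 = q6 := by
  have hr := R0 p0
  subst h0
  subst h1
  subst h2
  subst h3
  subst h4
  subst h5
  subst h7
  subst h6
  exact ij (ij (hr))

theorem c1_2 {p0 p1 p2 q2 q3 q4 q5 q6 q7 : Q} (h0 : act 2 p0 = p1) (h1 : act 0 p1 = p2) (h2 : act 2 q2 = q3) (h3 : act 0 q3 = q4) (h4 : act 2 q4 = q5) (h5 : act 0 q5 = q6) (h6 : act 2 q6 = q7) (h7 : act 0 q7 = p0) : p2 = q2 := by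
  have hr := R1 p0
  subst h0
  subst h1
  subst h7
  subst h6
  subst h5
  subst h4
  subst h3
  subst h2
  exact ij (ij (ij (ij (ij (ij (hr))))))

theorem c1_3 {p0 p1 p2 p3 q3 q4 q5 q6 q7 : Q} (h0 : act 2 p0 = p1) (h1 : act 0 p1 = p2) (h2 : act 2 p2 = p3) (h3 : act 0 q3 = q4) (h4 : act 2 q4 = q5) (h5 : act 0 q5 = q6) (h6 : act 2 q6 = q7) (h7 : act 0 q7 = p0) : p3 = q3 := by
  have hr := R1 p0
  subst h0
  subst h1
  subst h2
  subst h7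
  subst h6
  subst h5
  subst h4
  subst h3
  exact ij (ij (ij (ij (ij (hr)))))

theorem c2_6 {p0 p1 p2 p3 p4 p5 p6 q6 q7 : Q} (h0 : act 3 p0 = p1) (h1 : act 0 p1 = p2) (h2 : act 3 p2 = p3) (h3 : act 0 p3 = p4) (h4 : act 3 p4 = p5) (h5 : act 0 p5 = p6) (h6 : act 3 q6 = q7) (h7 : act 0 q7 = p0) : p6 = q6 := by
  have hr := R2 p0
  subst h0
  subst h1
  subst h2
  subst h3
  subst h4
  subst h5
  subst h7
  subst h6
  exact ij (ij (hr))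

theorem c3_2 {p0 p1 p2 q2 q3 : Q} (h0 : act 4 p0 = p1) (h1 : act 0 p1 = p2) (h2 : act 4 q2 = q3) (h3 : act 0 q3 = p0) : p2 = q2 := by
  have hr := R3 p0
  subst h0
  subst h1
  subst h3
  subst h2
  exact ij (ij (hr))

theorem c3_3 {p0 p1 p2 p3 q3 : Q} (h0 : act 4 p0 = p1) (h1 : act 0 p1 = p2) (h2 : act 4 p2 = p3) (h3 : act 0 q3 = p0) : p3 = q3 := by
  have hr := R3 p0
  subst h0
  subst h1
  subst h2
  subst h3
  exact ij (hr)

theorem c4_1 {p0 p1 q1 q2 q3 q4 q5 q6 q7 : Q} (h0 : act 2 p0 = p1) (h1 : act 1 q1 = q2) (h2 : act 2 q2 = q3) (h3 : act 1 q3 = q4) (h4 : act 2 q4 = q5) (h5 : act 1 q5 = q6) (h6 : act 2 q6 = q7) (h7 : act 1 q7 = p0) : p1 = q1 := by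
  have hr := R4 p0
  subst h0
  subst h7
  subst h6
  subst h5
  subst h4
  subst h3
  subst h2
  subst h1
  exact ij (ij (ij (ij (ij (ij (ij (hr)))))))

theorem c4_2 {p0 p1 p2 q2 q3 q4 q5 q6 q7 : Q} (h0 : act 2 p0 = p1) (h1 : act 1 p1 = p2) (h2 : act 2 q2 = q3) (h3 : act 1 q3 = q4) (h4 : act 2 q4 = q5) (h5 : act 1 q5 = q6) (h6 : act 2 q6 = q7) (h7 : act 1 q7 = p0) : p2 = q2 := by
  have hr := R4 p0
  subst h0
  subst h1
  subst h7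
  subst h6
  subst h5
  subst h4
  subst h3
  subst h2
  exact ij (ij (ij (ij (ij (ij (hr))))))

theorem c4_3 {p0 p1 p2 p3 q3 q4 q5 q6 q7 : Q} (h0 : act 2 p0 = p1) (h1 : act 1 p1 = p2) (h2 : act 2 p2 = p3) (h3 : act 1 q3 = q4) (h4 : act 2 q4 = q5) (h5 : act 1 q5 = q6) (h6 : act 2 q6 = q7) (h7 : act 1 q7 = p0) : p3 = q3 := by
  have hr := R4 p0
  subst h0
  subst h1
  subst h2
  subst h7
  subst h6
  subst h5
  subst h4
  subst h3
  exact ij (ij (ij (ij (ij (hr)))))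

theorem c4_4 {p0 p1 p2 p3 p4 q4 q5 q6 q7 : Q} (h0 : act 2 p0 = p1) (h1 : act 1 p1 = p2) (h2 : act 2 p2 = p3) (h3 : act 1 p3 = p4) (h4 : act 2 q4 = q5) (h5 : act 1 q5 = q6) (h6 : act 2 q6 = q7) (h7 : act 1 q7 = p0) : p4 = q4 := by
  have hr := R4 p0
  subst h0
  subst h1
  subst h2
  subst h3
  subst h7
  subst h6
  subst h5
  subst h4
  exact ij (ij (ij (ij (hr))))

theorem c4_6 {p0 p1 p2 p3 p4 p5 p6 q6 q7 : Q} (h0 : act 2 p0 = p1) (h1 : act 1 p1 = p2) (h2 : act 2 p2 = p3) (h3 : act 1 p3 = p4) (h4 : act 2 p4 = p5) (h5 : act 1 p5 = p6) (h6 : act 2 q6 = q7) (h7 : act 1 q7 = p0) : p6 = q6 := by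
  have hr := R4 p0
  subst h0
  subst h1
  subst h2
  subst h3
  subst h4
  subst h5
  subst h7
  subst h6
  exact ij (ij (hr))

theorem c5_1 {p0 p1 q1 q2 q3 : Q} (h0 : act 3 p0 = p1) (h1 : act 1 q1 = q2) (h2 : act 3 q2 = q3) (h3 : act 1 q3 = p0) : p1 = q1 := by
  have hr := R5 p0
  subst h0
  subst h3
  subst h2
  subst h1
  exact ij (ij (ij (hr)))

theorem c5_2 {p0 p1 p2 q2 q3 : Q} (h0 : act 3 p0 = p1) (h1 : act 1 p1 = p2) (h2 : act 3 q2 = q3) (h3 : act 1 q3 = p0) : p2 = q2 := by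
  have hr := R5 p0
  subst h0
  subst h1
  subst h3
  subst h2
  exact ij (ij (hr))

theorem c5_3 {p0 p1 p2 p3 q3 : Q} (h0 : act 3 p0 = p1) (h1 : act 1 p1 = p2) (h2 : act 3 p2 = p3) (h3 : act 1 q3 = p0) : p3 = q3 := by
  have hr := R5 p0
  subst h0
  subst h1
  subst h2
  subst h3
  exact ij (hr)

theorem c6_2 {p0 p1 p2 q2 q3 : Q} (h0 : act 4 p0 = p1) (h1 : act 1 p1 = p2) (h2 : act 4 q2 = q3) (h3 : act 1 q3 = p0) : p2 = q2 := by
  have hr := R6 p0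
  subst h0
  subst h1
  subst h3
  subst h2
  exact ij (ij (hr))

theorem c6_3 {p0 p1 p2 p3 q3 : Q} (h0 : act 4 p0 = p1) (h1 : act 1 p1 = p2) (h2 : act 4 p2 = p3) (h3 : act 1 q3 = p0) : p3 = q3 := by
  have hr := R6 p0
  subst h0
  subst h1
  subst h2
  subst h3
  exact ij (hr)

theorem c7_2 {p0 p1 p2 q2 q3 : Q} (h0 : act 3 p0 = p1) (h1 : act 2 p1 = p2) (h2 : act 3 q2 = q3) (h3 : act 2 q3 = p0) : p2 = q2 := by
  have hr := R7 p0
  subst h0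
  subst h1
  subst h3
  subst h2
  exact ij (ij (hr))

theorem c7_3 {p0 p1 p2 p3 q3 : Q} (h0 : act 3 p0 = p1) (h1 : act 2 p1 = p2) (h2 : act 3 p2 = p3) (h3 : act 2 q3 = p0) : p3 = q3 := by
  have hr := R7 p0
  subst h0
  subst h1
  subst h2
  subst h3
  exact ij (hr)

theorem c7_4 {p0 p1 p2 p3 p4 : Q} (h0 : act 3 p0 = p1) (h1 : act 2 p1 = p2) (h2 : act 3 p2 = p3) (h3 : act 2 p3 = p4) : p4 = p0 := by
  have hr := R7 p0
  subst h0
  subst h1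
  subst h2
  subst h3
  exact hr

theorem c8_2 {p0 p1 p2 q2 q3 q4 q5 q6 q7 : Q} (h0 : act 4 p0 = p1) (h1 : act 2 p1 = p2) (h2 : act 4 q2 = q3) (h3 : act 2 q3 = q4) (h4 : act 4 q4 = q5) (h5 : act 2 q5 = q6) (h6 : act 4 q6 = q7) (h7 : act 2 q7 = p0) : p2 = q2 := by
  have hr := R8 p0
  subst h0
  subst h1
  subst h7
  subst h6
  subst h5
  subst h4
  subst h3
  subst h2
  exact ij (ij (ij (ij (ij (ij (hr))))))

theorem c8_3 {p0 p1 p2 p3 q3 q4 q5 q6 q7 : Q} (h0 : act 4 p0 = p1) (h1 : act 2 p1 = p2) (h2 : act 4 p2 = p3) (h3 : act 2 q3 = q4) (h4 : act 4 q4 = q5) (h5 : act 2 q5 = q6) (h6 : act 4 q6 = q7) (h7 : act 2 q7 = p0) : p3 = q3 := by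
  have hr := R8 p0
  subst h0
  subst h1
  subst h2
  subst h7
  subst h6
  subst h5
  subst h4
  subst h3
  exact ij (ij (ij (ij (ij (hr)))))

theorem c8_4 {p0 p1 p2 p3 p4 q4 q5 q6 q7 : Q} (h0 : act 4 p0 = p1) (h1 : act 2 p1 = p2) (h2 : act 4 p2 = p3) (h3 : act 2 p3 = p4) (h4 : act 4 q4 = q5) (h5 : act 2 q5 = q6) (h6 : act 4 q6 = q7) (h7 : act 2 q7 = p0) : p4 = q4 := by
  have hr := R8 p0
  subst h0
  subst h1
  subst h2
  subst h3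
  subst h7
  subst h6
  subst h5
  subst h4
  exact ij (ij (ij (ij (hr))))

theorem c8_5 {p0 p1 p2 p3 p4 p5 q5 q6 q7 : Q} (h0 : act 4 p0 = p1) (h1 : act 2 p1 = p2) (h2 : act 4 p2 = p3) (h3 : act 2 p3 = p4) (h4 : act 4 p4 = p5) (h5 : act 2 q5 = q6) (h6 : act 4 q6 = q7) (h7 : act 2 q7 = p0) : p5 = q5 := by
  have hr := R8 p0
  subst h0
  subst h1
  subst h2
  subst h3
  subst h4
  subst h7
  subst h6
  subst h5
  exact ij (ij (ij (hr)))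

theorem c8_6 {p0 p1 p2 p3 p4 p5 p6 q6 q7 : Q} (h0 : act 4 p0 = p1) (h1 : act 2 p1 = p2) (h2 : act 4 p2 = p3) (h3 : act 2 p3 = p4) (h4 : act 4 p4 = p5) (h5 : act 2 p5 = p6) (h6 : act 4 q6 = q7) (h7 : act 2 q7 = p0) : p6 = q6 := by
  have hr := R8 p0
  subst h0
  subst h1
  subst h2
  subst h3
  subst h4
  subst h5
  subst h7
  subst h6
  exact ij (ij (hr))

theorem c8_7 {p0 p1 p2 p3 p4 p5 p6 p7 q7 : Q} (h0 : act 4 p0 = p1) (h1 : act 2 p1 = p2) (h2 : act 4 p2 = p3) (h3 : act 2 p3 = p4) (h4 : act 4 p4 = p5) (h5 : act 2 p5 = p6) (h6 : act 4 p6 = p7) (h7 : act 2 q7 = p0) : p7 = q7 := by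
  have hr := R8 p0
  subst h0
  subst h1
  subst h2
  subst h3
  subst h4
  subst h5
  subst h6
  subst h7
  exact ij (hr)

theorem c9_2 {p0 p1 p2 q2 q3 q4 q5 q6 q7 : Q} (h0 : act 4 p0 = p1) (h1 : act 3 p1 = p2) (h2 : act 4 q2 = q3) (h3 : act 3 q3 = q4) (h4 : act 4 q4 = q5) (h5 : act 3 q5 = q6) (h6 : act 4 q6 = q7) (h7 : act 3 q7 = p0) : p2 = q2 := by
  have hr := R9 p0
  subst h0
  subst h1
  subst h7
  subst h6
  subst h5
  subst h4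
  subst h3
  subst h2
  exact ij (ij (ij (ij (ij (ij (hr))))))

theorem c9_3 {p0 p1 p2 p3 q3 q4 q5 q6 q7 : Q} (h0 : act 4 p0 = p1) (h1 : act 3 p1 = p2) (h2 : act 4 p2 = p3) (h3 : act 3 q3 = q4) (h4 : act 4 q4 = q5) (h5 : act 3 q5 = q6) (h6 : act 4 q6 = q7) (h7 : act 3 q7 = p0) : p3 = q3 := by
  have hr := R9 p0
  subst h0
  subst h1
  subst h2
  subst h7
  subst h6
  subst h5
  subst h4
  subst h3
  exact ij (ij (ij (ij (ij (hr)))))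

theorem c9_4 {p0 p1 p2 p3 p4 q4 q5 q6 q7 : Q} (h0 : act 4 p0 = p1) (h1 : act 3 p1 = p2) (h2 : act 4 p2 = p3) (h3 : act 3 p3 = p4) (h4 : act 4 q4 = q5) (h5 : act 3 q5 = q6) (h6 : act 4 q6 = q7) (h7 : act 3 q7 = p0) : p4 = q4 := by
  have hr := R9 p0
  subst h0
  subst h1
  subst h2
  subst h3
  subst h7
  subst h6
  subst h5
  subst h4
  exact ij (ij (ij (ij (hr))))

theorem c9_5 {p0 p1 p2 p3 p4 p5 q5 q6 q7 : Q} (h0 : act 4 p0 = p1) (h1 : act 3 p1 = p2) (h2 : act 4 p2 = p3) (h3 : act 3 p3 = p4) (h4 : act 4 p4 = p5) (h5 : act 3 q5 = q6) (h6 : act 4 q6 = q7) (h7 : act 3 q7 = p0) : p5 = q5 := by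
  have hr := R9 p0
  subst h0
  subst h1
  subst h2
  subst h3
  subst h4
  subst h7
  subst h6
  subst h5
  exact ij (ij (ij (hr)))

theorem c9_6 {p0 p1 p2 p3 p4 p5 p6 q6 q7 : Q} (h0 : act 4 p0 = p1) (h1 : act 3 p1 = p2) (h2 : act 4 p2 = p3) (h3 : act 3 p3 = p4) (h4 : act 4 p4 = p5) (h5 : act 3 p5 = p6) (h6 : act 4 q6 = q7) (h7 : act 3 q7 = p0) : p6 = q6 := by
  have hr := R9 p0
  subst h0
  subst h1
  subst h2
  subst h3
  subst h4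
  subst h5
  subst h7
  subst h6
  exact ij (ij (hr))

theorem c9_7 {p0 p1 p2 p3 p4 p5 p6 p7 q7 : Q} (h0 : act 4 p0 = p1) (h1 : act 3 p1 = p2) (h2 : act 4 p2 = p3) (h3 : act 3 p3 = p4) (h4 : act 4 p4 = p5) (h5 : act 3 p5 = p6) (h6 : act 4 p6 = p7) (h7 : act 3 q7 = p0) : p7 = q7 := by
  have hr := R9 p0
  subst h0
  subst h1
  subst h2
  subst h3
  subst h4
  subst h5
  subst h6
  subst h7
  exact ij (hr)

theorem c10_3 {p0 p1 p2 p3 q3 q4 q5 q6 q7 : Q} (h0 : act 3 p0 = p1) (h1 : act 0 p1 = p2) (h2 : act 2 p2 = p3) (h3 : act 0 q3 = q4) (h4 : act 3 q4 = q5) (h5 : act 0 q5 = q6) (h6 : act 2 q6 = q7) (h7 : act 0 q7 = p0) : p3 = q3 := by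
  have hr := R10 p0
  subst h0
  subst h1
  subst h2
  subst h7
  subst h6
  subst h5
  subst h4
  subst h3
  exact ij (ij (ij (ij (ij (hr)))))

theorem c10_4 {p0 p1 p2 p3 p4 q4 q5 q6 q7 : Q} (h0 : act 3 p0 = p1) (h1 : act 0 p1 = p2) (h2 : act 2 p2 = p3) (h3 : act 0 p3 = p4) (h4 : act 3 q4 = q5) (h5 : act 0 q5 = q6) (h6 : act 2 q6 = q7) (h7 : act 0 q7 = p0) : p4 = q4 := by
  have hr := R10 p0
  subst h0
  subst h1
  subst h2
  subst h3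
  subst h7
  subst h6
  subst h5
  subst h4
  exact ij (ij (ij (ij (hr))))

theorem c10_5 {p0 p1 p2 p3 p4 p5 q5 q6 q7 : Q} (h0 : act 3 p0 = p1) (h1 : act 0 p1 = p2) (h2 : act 2 p2 = p3) (h3 : act 0 p3 = p4) (h4 : act 3 p4 = p5) (h5 : act 0 q5 = q6) (h6 : act 2 q6 = q7) (h7 : act 0 q7 = p0) : p5 = q5 := by
  have hr := R10 p0
  subst h0
  subst h1
  subst h2
  subst h3
  subst h4
  subst h7
  subst h6
  subst h5
  exact ij (ij (ij (hr)))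

theorem c10_6 {p0 p1 p2 p3 p4 p5 p6 q6 q7 : Q} (h0 : act 3 p0 = p1) (h1 : act 0 p1 = p2) (h2 : act 2 p2 = p3) (h3 : act 0 p3 = p4) (h4 : act 3 p4 = p5) (h5 : act 0 p5 = p6) (h6 : act 2 q6 = q7) (h7 : act 0 q7 = p0) : p6 = q6 := by
  have hr := R10 p0
  subst h0
  subst h1
  subst h2
  subst h3
  subst h4
  subst h5
  subst h7
  subst h6
  exact ij (ij (hr))

theorem c10_7 {p0 p1 p2 p3 p4 p5 p6 p7 q7 : Q} (h0 : act 3 p0 = p1) (h1 : act 0 p1 = p2) (h2 : act 2 p2 = p3) (h3 : act 0 p3 = p4) (h4 : act 3 p4 = p5) (h5 : act 0 p5 = p6) (h6 : act 2 p6 = p7) (h7 : act 0 q7 = p0) : p7 = q7 := by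
  have hr := R10 p0
  subst h0
  subst h1
  subst h2
  subst h3
  subst h4
  subst h5
  subst h6
  subst h7
  exact ij (hr)

theorem c11_5 {p0 p1 p2 p3 p4 p5 q5 q6 q7 : Q} (h0 : act 2 p0 = p1) (h1 : act 4 p1 = p2) (h2 : act 2 p2 = p3) (h3 : act 0 p3 = p4) (h4 : act 2 p4 = p5) (h5 : act 4 q5 = q6) (h6 : act 2 q6 = q7) (h7 : act 0 q7 = p0) : p5 = q5 := by
  have hr := R11 p0
  subst h0
  subst h1
  subst h2
  subst h3
  subst h4
  subst h7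
  subst h6
  subst h5
  exact ij (ij (ij (hr)))

theorem c11_6 {p0 p1 p2 p3 p4 p5 p6 q6 q7 : Q} (h0 : act 2 p0 = p1) (h1 : act 4 p1 = p2) (h2 : act 2 p2 = p3) (h3 : act 0 p3 = p4) (h4 : act 2 p4 = p5) (h5 : act 4 p5 = p6) (h6 : act 2 q6 = q7) (h7 : act 0 q7 = p0) : p6 = q6 := by
  have hr := R11 p0
  subst h0
  subst h1
  subst h2
  subst h3
  subst h4
  subst h5
  subst h7
  subst h6
  exact ij (ij (hr))

theorem c12_1 {p0 p1 q1 q2 q3 q4 q5 q6 q7 : Q} (h0 : act 3 p0 = p1) (h1 : act 4 q1 = q2) (h2 : act 3 q2 = q3) (h3 : act 0 q3 = q4) (h4 : act 3 q4 = q5) (h5 : act 4 q5 = q6) (h6 : act 3 q6 = q7) (h7 : act 0 q7 = p0) : p1 = q1 := by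
  have hr := R12 p0
  subst h0
  subst h7
  subst h6
  subst h5
  subst h4
  subst h3
  subst h2
  subst h1
  exact ij (ij (ij (ij (ij (ij (ij (hr)))))))

theorem c12_5 {p0 p1 p2 p3 p4 p5 q5 q6 q7 : Q} (h0 : act 3 p0 = p1) (h1 : act 4 p1 = p2) (h2 : act 3 p2 = p3) (h3 : act 0 p3 = p4) (h4 : act 3 p4 = p5) (h5 : act 4 q5 = q6) (h6 : act 3 q6 = q7) (h7 : act 0 q7 = p0) : p5 = q5 := by
  have hr := R12 p0
  subst h0
  subst h1
  subst h2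
  subst h3
  subst h4
  subst h7
  subst h6
  subst h5
  exact ij (ij (ij (hr)))

theorem c12_6 {p0 p1 p2 p3 p4 p5 p6 q6 q7 : Q} (h0 : act 3 p0 = p1) (h1 : act 4 p1 = p2) (h2 : act 3 p2 = p3) (h3 : act 0 p3 = p4) (h4 : act 3 p4 = p5) (h5 : act 4 p5 = p6) (h6 : act 3 q6 = q7) (h7 : act 0 q7 = p0) : p6 = q6 := by
  have hr := R12 p0
  subst h0
  subst h1
  subst h2
  subst h3
  subst h4
  subst h5
  subst h7
  subst h6
  exact ij (ij (hr))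

theorem c12_7 {p0 p1 p2 p3 p4 p5 p6 p7 q7 : Q} (h0 : act 3 p0 = p1) (h1 : act 4 p1 = p2) (h2 : act 3 p2 = p3) (h3 : act 0 p3 = p4) (h4 : act 3 p4 = p5) (h5 : act 4 p5 = p6) (h6 : act 3 p6 = p7) (h7 : act 0 q7 = p0) : p7 = q7 := by
  have hr := R12 p0
  subst h0
  subst h1
  subst h2
  subst h3
  subst h4
  subst h5
  subst h6
  subst h7
  exact ij (hr)

theorem c12_8 {p0 p1 p2 p3 p4 p5 p6 p7 p8 : Q} (h0 : act 3 p0 = p1) (h1 : act 4 p1 = p2) (h2 : act 3 p2 = p3) (h3 : act 0 p3 = p4) (h4 : act 3 p4 = p5) (h5 : act 4 p5 = p6) (h6 : act 3 p6 = p7) (h7 : act 0 p7 = p8) : p8 = p0 := by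
  have hr := R12 p0
  subst h0
  subst h1
  subst h2
  subst h3
  subst h4
  subst h5
  subst h6
  subst h7
  exact hr

theorem c13_3 {p0 p1 p2 p3 q3 q4 q5 q6 q7 q8 q9 q10 q11 : Q} (h0 : act 2 p0 = p1) (h1 : act 0 p1 = p2) (h2 : act 1 p2 = p3) (h3 : act 0 q3 = q4) (h4 : act 2 q4 = q5) (h5 : act 0 q5 = q6) (h6 : act 1 q6 = q7) (h7 : act 0 q7 = q8) (h8 : act 2 q8 = q9) (h9 : act 0 q9 = q10) (h10 : act 1 q10 = q11) (h11 : act 0 q11 = p0) : p3 = q3 := by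
  have hr := R13 p0
  subst h0
  subst h1
  subst h2
  subst h11
  subst h10
  subst h9
  subst h8
  subst h7
  subst h6
  subst h5
  subst h4
  subst h3
  exact ij (ij (ij (ij (ij (ij (ij (ij (ij (hr)))))))))

theorem c13_5 {p0 p1 p2 p3 p4 p5 q5 q6 q7 q8 q9 q10 q11 : Q} (h0 : act 2 p0 = p1) (h1 : act 0 p1 = p2) (h2 : act 1 p2 = p3) (h3 : act 0 p3 = p4) (h4 : act 2 p4 = p5) (h5 : act 0 q5 = q6) (h6 : act 1 q6 = q7) (h7 : act 0 q7 = q8) (h8 : act 2 q8 = q9) (h9 : act 0 q9 = q10) (h10 : act 1 q10 = q11) (h11 : act 0 q11 = p0) : p5 = q5 := by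
  have hr := R13 p0
  subst h0
  subst h1
  subst h2
  subst h3
  subst h4
  subst h11
  subst h10
  subst h9
  subst h8
  subst h7
  subst h6
  subst h5
  exact ij (ij (ij (ij (ij (ij (ij (hr)))))))

theorem c13_6 {p0 p1 p2 p3 p4 p5 p6 q6 q7 q8 q9 q10 q11 : Q} (h0 : act 2 p0 = p1) (h1 : act 0 p1 = p2) (h2 : act 1 p2 = p3) (h3 : act 0 p3 = p4) (h4 : act 2 p4 = p5) (h5 : act 0 p5 = p6) (h6 : act 1 q6 = q7) (h7 : act 0 q7 = q8) (h8 : act 2 q8 = q9) (h9 : act 0 q9 = q10) (h10 : act 1 q10 = q11) (h11 : act 0 q11 = p0) : p6 = q6 := by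
  have hr := R13 p0
  subst h0
  subst h1
  subst h2
  subst h3
  subst h4
  subst h5
  subst h11
  subst h10
  subst h9
  subst h8
  subst h7
  subst h6
  exact ij (ij (ij (ij (ij (ij (hr))))))

theorem c15_8 {p0 p1 p2 p3 p4 p5 p6 p7 p8 q8 q9 q10 q11 q12 : Q} (h0 : act 2 p0 = p1) (h1 : act 0 p1 = p2) (h2 : act 2 p2 = p3) (h3 : act 1 p3 = p4) (h4 : act 0 p4 = p5) (h5 : act 1 p5 = p6) (h6 : act 2 p6 = p7) (h7 : act 0 p7 = p8) (h8 : act 2 q8 = q9) (h9 : act 1 q9 = q10) (h10 : act 0 q10 = q11) (h11 : act 1 q11 = q12) (h12 : act 0 q12 = p0) : p8 = q8 := by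
  have hr := R15 p0
  subst h0
  subst h1
  subst h2
  subst h3
  subst h4
  subst h5
  subst h6
  subst h7
  subst h12
  subst h11
  subst h10
  subst h9
  subst h8
  exact ij (ij (ij (ij (ij (hr)))))

theorem c15_9 {p0 p1 p2 p3 p4 p5 p6 p7 p8 p9 q9 q10 q11 q12 : Q} (h0 : act 2 p0 = p1) (h1 : act 0 p1 = p2) (h2 : act 2 p2 = p3) (h3 : act 1 p3 = p4) (h4 : act 0 p4 = p5) (h5 : act 1 p5 = p6) (h6 : act 2 p6 = p7) (h7 : act 0 p7 = p8) (h8 : act 2 p8 = p9) (h9 : act 1 q9 = q10) (h10 : act 0 q10 = q11) (h11 : act 1 q11 = q12) (h12 : act 0 q12 = p0) : p9 = q9 := by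
  have hr := R15 p0
  subst h0
  subst h1
  subst h2
  subst h3
  subst h4
  subst h5
  subst h6
  subst h7
  subst h8
  subst h12
  subst h11
  subst h10
  subst h9
  exact ij (ij (ij (ij (hr))))

theorem c15_10 {p0 p1 p2 p3 p4 p5 p6 p7 p8 p9 p10 q10 q11 q12 : Q} (h0 : act 2 p0 = p1) (h1 : act 0 p1 = p2) (h2 : act 2 p2 = p3) (h3 : act 1 p3 = p4) (h4 : act 0 p4 = p5) (h5 : act 1 p5 = p6) (h6 : act 2 p6 = p7) (h7 : act 0 p7 = p8) (h8 : act 2 p8 = p9) (h9 : act 1 p9 = p10) (h10 : act 0 q10 = q11) (h11 : act 1 q11 = q12) (h12 : act 0 q12 = p0) : p10 = q10 := by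
  have hr := R15 p0
  subst h0
  subst h1
  subst h2
  subst h3
  subst h4
  subst h5
  subst h6
  subst h7
  subst h8
  subst h9
  subst h12
  subst h11
  subst h10
  exact ij (ij (ij (hr)))

theorem c16_1 {p0 p1 q1 q2 q3 q4 q5 q6 q7 q8 q9 q10 q11 q12 : Q} (h0 : act 3 p0 = p1) (h1 : act 0 q1 = q2) (h2 : act 3 q2 = q3) (h3 : act 1 q3 = q4) (h4 : act 2 q4 = q5) (h5 : act 1 q5 = q6) (h6 : act 0 q6 = q7) (h7 : act 3 q7 = q8) (h8 : act 0 q8 = q9) (h9 : act 1 q9 = q10) (h10 : act 2 q10 = q11) (h11 : act 1 q11 = q12) (h12 : act 0 q12 = p0) : p1 = q1 := by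
  have hr := R16 p0
  subst h0
  subst h12
  subst h11
  subst h10
  subst h9
  subst h8
  subst h7
  subst h6
  subst h5
  subst h4
  subst h3
  subst h2
  subst h1
  exact ij (ij (ij (ij (ij (ij (ij (ij (ij (ij (ij (ij (hr))))))))))))

theorem c16_2 {p0 p1 p2 q2 q3 q4 q5 q6 q7 q8 q9 q10 q11 q12 : Q} (h0 : act 3 p0 = p1) (h1 : act 0 p1 = p2) (h2 : act 3 q2 = q3) (h3 : act 1 q3 = q4) (h4 : act 2 q4 = q5) (h5 : act 1 q5 = q6) (h6 : act 0 q6 = q7) (h7 : act 3 q7 = q8) (h8 : act 0 q8 = q9) (h9 : act 1 q9 = q10) (h10 : act 2 q10 = q11) (h11 : act 1 q11 = q12) (h12 : act 0 q12 = p0) : p2 = q2 := by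
  have hr := R16 p0
  subst h0
  subst h1
  subst h12
  subst h11
  subst h10
  subst h9
  subst h8
  subst h7
  subst h6
  subst h5
  subst h4
  subst h3
  subst h2
  exact ij (ij (ij (ij (ij (ij (ij (ij (ij (ij (ij (hr)))))))))))

theorem c16_3 {p0 p1 p2 p3 q3 q4 q5 q6 q7 q8 q9 q10 q11 q12 : Q} (h0 : act 3 p0 = p1) (h1 : act 0 p1 = p2) (h2 : act 3 p2 = p3) (h3 : act 1 q3 = q4) (h4 : act 2 q4 = q5) (h5 : act 1 q5 = q6) (h6 : act 0 q6 = q7) (h7 : act 3 q7 = q8) (h8 : act 0 q8 = q9) (h9 : act 1 q9 = q10) (h10 : act 2 q10 = q11) (h11 : act 1 q11 = q12) (h12 : act 0 q12 = p0) : p3 = q3 := by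
  have hr := R16 p0
  subst h0
  subst h1
  subst h2
  subst h12
  subst h11
  subst h10
  subst h9
  subst h8
  subst h7
  subst h6
  subst h5
  subst h4
  subst h3
  exact ij (ij (ij (ij (ij (ij (ij (ij (ij (ij (hr))))))))))

theorem c16_4 {p0 p1 p2 p3 p4 q4 q5 q6 q7 q8 q9 q10 q11 q12 : Q} (h0 : act 3 p0 = p1) (h1 : act 0 p1 = p2) (h2 : act 3 p2 = p3) (h3 : act 1 p3 = p4) (h4 : act 2 q4 = q5) (h5 : act 1 q5 = q6) (h6 : act 0 q6 = q7) (h7 : act 3 q7 = q8) (h8 : act 0 q8 = q9) (h9 : act 1 q9 = q10) (h10 : act 2 q10 = q11) (h11 : act 1 q11 = q12) (h12 : act 0 q12 = p0) : p4 = q4 := by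
  have hr := R16 p0
  subst h0
  subst h1
  subst h2
  subst h3
  subst h12
  subst h11
  subst h10
  subst h9
  subst h8
  subst h7
  subst h6
  subst h5
  subst h4
  exact ij (ij (ij (ij (ij (ij (ij (ij (ij (hr)))))))))

theorem c16_5 {p0 p1 p2 p3 p4 p5 q5 q6 q7 q8 q9 q10 q11 q12 : Q} (h0 : act 3 p0 = p1) (h1 : act 0 p1 = p2) (h2 : act 3 p2 = p3) (h3 : act 1 p3 = p4) (h4 : act 2 p4 = p5) (h5 : act 1 q5 = q6) (h6 : act 0 q6 = q7) (h7 : act 3 q7 = q8) (h8 : act 0 q8 = q9) (h9 : act 1 q9 = q10) (h10 : act 2 q10 = q11) (h11 : act 1 q11 = q12) (h12 : act 0 q12 = p0) : p5 = q5 := by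
  have hr := R16 p0
  subst h0
  subst h1
  subst h2
  subst h3
  subst h4
  subst h12
  subst h11
  subst h10
  subst h9
  subst h8
  subst h7
  subst h6
  subst h5
  exact ij (ij (ij (ij (ij (ij (ij (ij (hr))))))))

theorem c16_7 {p0 p1 p2 p3 p4 p5 p6 p7 q7 q8 q9 q10 q11 q12 : Q} (h0 : act 3 p0 = p1) (h1 : act 0 p1 = p2) (h2 : act 3 p2 = p3) (h3 : act 1 p3 = p4) (h4 : act 2 p4 = p5) (h5 : act 1 p5 = p6) (h6 : act 0 p6 = p7) (h7 : act 3 q7 = q8) (h8 : act 0 q8 = q9) (h9 : act 1 q9 = q10) (h10 : act 2 q10 = q11) (h11 : act 1 q11 = q12) (h12 : act 0 q12 = p0) : p7 = q7 := by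
  have hr := R16 p0
  subst h0
  subst h1
  subst h2
  subst h3
  subst h4
  subst h5
  subst h6
  subst h12
  subst h11
  subst h10
  subst h9
  subst h8
  subst h7
  exact ij (ij (ij (ij (ij (ij (hr))))))

theorem c16_8 {p0 p1 p2 p3 p4 p5 p6 p7 p8 q8 q9 q10 q11 q12 : Q} (h0 : act 3 p0 = p1) (h1 : act 0 p1 = p2) (h2 : act 3 p2 = p3) (h3 : act 1 p3 = p4) (h4 : act 2 p4 = p5) (h5 : act 1 p5 = p6) (h6 : act 0 p6 = p7) (h7 : act 3 p7 = p8) (h8 : act 0 q8 = q9) (h9 : act 1 q9 = q10) (h10 : act 2 q10 = q11) (h11 : act 1 q11 = q12) (h12 : act 0 q12 = p0) : p8 = q8 := by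
  have hr := R16 p0
  subst h0
  subst h1
  subst h2
  subst h3
  subst h4
  subst h5
  subst h6
  subst h7
  subst h12
  subst h11
  subst h10
  subst h9
  subst h8
  exact ij (ij (ij (ij (ij (hr)))))

theorem c16_9 {p0 p1 p2 p3 p4 p5 p6 p7 p8 p9 q9 q10 q11 q12 : Q} (h0 : act 3 p0 = p1) (h1 : act 0 p1 = p2) (h2 : act 3 p2 = p3) (h3 : act 1 p3 = p4) (h4 : act 2 p4 = p5) (h5 : act 1 p5 = p6) (h6 : act 0 p6 = p7) (h7 : act 3 p7 = p8) (h8 : act 0 p8 = p9) (h9 : act 1 q9 = q10) (h10 : act 2 q10 = q11) (h11 : act 1 q11 = q12) (h12 : act 0 q12 = p0) : p9 = q9 := by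
  have hr := R16 p0
  subst h0
  subst h1
  subst h2
  subst h3
  subst h4
  subst h5
  subst h6
  subst h7
  subst h8
  subst h12
  subst h11
  subst h10
  subst h9
  exact ij (ij (ij (ij (hr))))

theorem c16_10 {p0 p1 p2 p3 p4 p5 p6 p7 p8 p9 p10 q10 q11 q12 : Q} (h0 : act 3 p0 = p1) (h1 : act 0 p1 = p2) (h2 : act 3 p2 = p3) (h3 : act 1 p3 = p4) (h4 : act 2 p4 = p5) (h5 : act 1 p5 = p6) (h6 : act 0 p6 = p7) (h7 : act 3 p7 = p8) (h8 : act 0 p8 = p9) (h9 : act 1 p9 = p10) (h10 : act 2 q10 = q11) (h11 : act 1 q11 = q12) (h12 : act 0 q12 = p0) : p10 = q10 := by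
  have hr := R16 p0
  subst h0
  subst h1
  subst h2
  subst h3
  subst h4
  subst h5
  subst h6
  subst h7
  subst h8
  subst h9
  subst h12
  subst h11
  subst h10
  exact ij (ij (ij (hr)))

theorem c17_1 {p0 p1 q1 q2 q3 q4 q5 q6 q7 q8 q9 q10 q11 q12 : Q} (h0 : act 4 p0 = p1) (h1 : act 1 q1 = q2) (h2 : act 2 q2 = q3) (h3 : act 4 q3 = q4) (h4 : act 2 q4 = q5) (h5 : act 1 q5 = q6) (h6 : act 0 q6 = q7) (h7 : act 1 q7 = q8) (h8 : act 2 q8 = q9) (h9 : act 4 q9 = q10) (h10 : act 2 q10 = q11) (h11 : act 1 q11 = q12) (h12 : act 0 q12 = p0) : p1 = q1 := by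
  have hr := R17 p0
  subst h0
  subst h12
  subst h11
  subst h10
  subst h9
  subst h8
  subst h7
  subst h6
  subst h5
  subst h4
  subst h3
  subst h2
  subst h1
  exact ij (ij (ij (ij (ij (ij (ij (ij (ij (ij (ij (ij (hr))))))))))))

theorem c17_2 {p0 p1 p2 q2 q3 q4 q5 q6 q7 q8 q9 q10 q11 q12 : Q} (h0 : act 4 p0 = p1) (h1 : act 1 p1 = p2) (h2 : act 2 q2 = q3) (h3 : act 4 q3 = q4) (h4 : act 2 q4 = q5) (h5 : act 1 q5 = q6) (h6 : act 0 q6 = q7) (h7 : act 1 q7 = q8) (h8 : act 2 q8 = q9) (h9 : act 4 q9 = q10) (h10 : act 2 q10 = q11) (h11 : act 1 q11 = q12) (h12 : act 0 q12 = p0) : p2 = q2 := by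
  have hr := R17 p0
  subst h0
  subst h1
  subst h12
  subst h11
  subst h10
  subst h9
  subst h8
  subst h7
  subst h6
  subst h5
  subst h4
  subst h3
  subst h2
  exact ij (ij (ij (ij (ij (ij (ij (ij (ij (ij (ij (hr)))))))))))

theorem c17_3 {p0 p1 p2 p3 q3 q4 q5 q6 q7 q8 q9 q10 q11 q12 : Q} (h0 : act 4 p0 = p1) (h1 : act 1 p1 = p2) (h2 : act 2 p2 = p3) (h3 : act 4 q3 = q4) (h4 : act 2 q4 = q5) (h5 : act 1 q5 = q6) (h6 : act 0 q6 = q7) (h7 : act 1 q7 = q8) (h8 : act 2 q8 = q9) (h9 : act 4 q9 = q10) (h10 : act 2 q10 = q11) (h11 : act 1 q11 = q12) (h12 : act 0 q12 = p0) : p3 = q3 := by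
  have hr := R17 p0
  subst h0
  subst h1
  subst h2
  subst h12
  subst h11
  subst h10
  subst h9
  subst h8
  subst h7
  subst h6
  subst h5
  subst h4
  subst h3
  exact ij (ij (ij (ij (ij (ij (ij (ij (ij (ij (hr))))))))))

theorem c17_4 {p0 p1 p2 p3 p4 q4 q5 q6 q7 q8 q9 q10 q11 q12 : Q} (h0 : act 4 p0 = p1) (h1 : act 1 p1 = p2) (h2 : act 2 p2 = p3) (h3 : act 4 p3 = p4) (h4 : act 2 q4 = q5) (h5 : act 1 q5 = q6) (h6 : act 0 q6 = q7) (h7 : act 1 q7 = q8) (h8 : act 2 q8 = q9) (h9 : act 4 q9 = q10) (h10 : act 2 q10 = q11) (h11 : act 1 q11 = q12) (h12 : act 0 q12 = p0) : p4 = q4 := by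
  have hr := R17 p0
  subst h0
  subst h1
  subst h2
  subst h3
  subst h12
  subst h11
  subst h10
  subst h9
  subst h8
  subst h7
  subst h6
  subst h5
  subst h4
  exact ij (ij (ij (ij (ij (ij (ij (ij (ij (hr)))))))))

theorem c17_8 {p0 p1 p2 p3 p4 p5 p6 p7 p8 q8 q9 q10 q11 q12 : Q} (h0 : act 4 p0 = p1) (h1 : act 1 p1 = p2) (h2 : act 2 p2 = p3) (h3 : act 4 p3 = p4) (h4 : act 2 p4 = p5) (h5 : act 1 p5 = p6) (h6 : act 0 p6 = p7) (h7 : act 1 p7 = p8) (h8 : act 2 q8 = q9) (h9 : act 4 q9 = q10) (h10 : act 2 q10 = q11) (h11 : act 1 q11 = q12) (h12 : act 0 q12 = p0) : p8 = q8 := by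
  have hr := R17 p0
  subst h0
  subst h1
  subst h2
  subst h3
  subst h4
  subst h5
  subst h6
  subst h7
  subst h12
  subst h11
  subst h10
  subst h9
  subst h8
  exact ij (ij (ij (ij (ij (hr)))))

theorem c17_9 {p0 p1 p2 p3 p4 p5 p6 p7 p8 p9 q9 q10 q11 q12 : Q} (h0 : act 4 p0 = p1) (h1 : act 1 p1 = p2) (h2 : act 2 p2 = p3) (h3 : act 4 p3 = p4) (h4 : act 2 p4 = p5) (h5 : act 1 p5 = p6) (h6 : act 0 p6 = p7) (h7 : act 1 p7 = p8) (h8 : act 2 p8 = p9) (h9 : act 4 q9 = q10) (h10 : act 2 q10 = q11) (h11 : act 1 q11 = q12) (h12 : act 0 q12 = p0) : p9 = q9 := by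
  have hr := R17 p0
  subst h0
  subst h1
  subst h2
  subst h3
  subst h4
  subst h5
  subst h6
  subst h7
  subst h8
  subst h12
  subst h11
  subst h10
  subst h9
  exact ij (ij (ij (ij (hr))))

theorem c17_10 {p0 p1 p2 p3 p4 p5 p6 p7 p8 p9 p10 q10 q11 q12 : Q} (h0 : act 4 p0 = p1) (h1 : act 1 p1 = p2) (h2 : act 2 p2 = p3) (h3 : act 4 p3 = p4) (h4 : act 2 p4 = p5) (h5 : act 1 p5 = p6) (h6 : act 0 p6 = p7) (h7 : act 1 p7 = p8) (h8 : act 2 p8 = p9) (h9 : act 4 p9 = p10) (h10 : act 2 q10 = q11) (h11 : act 1 q11 = q12) (h12 : act 0 q12 = p0) : p10 = q10 := by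
  have hr := R17 p0
  subst h0
  subst h1
  subst h2
  subst h3
  subst h4
  subst h5
  subst h6
  subst h7
  subst h8
  subst h9
  subst h12
  subst h11
  subst h10
  exact ij (ij (ij (hr)))

theorem c17_11 {p0 p1 p2 p3 p4 p5 p6 p7 p8 p9 p10 p11 q11 q12 : Q} (h0 : act 4 p0 = p1) (h1 : act 1 p1 = p2) (h2 : act 2 p2 = p3) (h3 : act 4 p3 = p4) (h4 : act 2 p4 = p5) (h5 : act 1 p5 = p6) (h6 : act 0 p6 = p7) (h7 : act 1 p7 = p8) (h8 : act 2 p8 = p9) (h9 : act 4 p9 = p10) (h10 : act 2 p10 = p11) (h11 : act 1 q11 = q12) (h12 : act 0 q12 = p0) : p11 = q11 := by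
  have hr := R17 p0
  subst h0
  subst h1
  subst h2
  subst h3
  subst h4
  subst h5
  subst h6
  subst h7
  subst h8
  subst h9
  subst h10
  subst h12
  subst h11
  exact ij (ij (hr))

theorem c17_13 {p0 p1 p2 p3 p4 p5 p6 p7 p8 p9 p10 p11 p12 p13 : Q} (h0 : act 4 p0 = p1) (h1 : act 1 p1 = p2) (h2 : act 2 p2 = p3) (h3 : act 4 p3 = p4) (h4 : act 2 p4 = p5) (h5 : act 1 p5 = p6) (h6 : act 0 p6 = p7) (h7 : act 1 p7 = p8) (h8 : act 2 p8 = p9) (h9 : act 4 p9 = p10) (h10 : act 2 p10 = p11) (h11 : act 1 p11 = p12) (h12 : act 0 p12 = p13) : p13 = p0 := by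
  have hr := R17 p0
  subst h0
  subst h1
  subst h2
  subst h3
  subst h4
  subst h5
  subst h6
  subst h7
  subst h8
  subst h9
  subst h10
  subst h11
  subst h12
  exact hr

theorem d0_0 {p0 q1 q2 q3 q4 q5 q6 q7 : Q} (h1 : act 0 q1 = q2) (h2 : act 1 q2 = q3) (h3 : act 0 q3 = q4) (h4 : act 1 q4 = q5) (h5 : act 0 q5 = q6) (h6 : act 1 q6 = q7) (h7 : act 0 q7 = p0) : act 1 p0 = q1 := by
  have hr := R0 p0
  subst h7
  subst h6
  subst h5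
  subst h4
  subst h3
  subst h2
  subst h1
  exact ij (ij (ij (ij (ij (ij (ij (hr)))))))

theorem d0_1 {p0 p1 q2 q3 q4 q5 q6 q7 : Q} (h0 : act 1 p0 = p1) (h2 : act 1 q2 = q3) (h3 : act 0 q3 = q4) (h4 : act 1 q4 = q5) (h5 : act 0 q5 = q6) (h6 : act 1 q6 = q7) (h7 : act 0 q7 = p0) : act 0 p1 = q2 := by
  have hr := R0 p0
  subst h0
  subst h7
  subst h6
  subst h5
  subst h4
  subst h3
  subst h2
  exact ij (ij (ij (ij (ij (ij (hr))))))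

theorem d0_2 {p0 p1 p2 q3 q4 q5 q6 q7 : Q} (h0 : act 1 p0 = p1) (h1 : act 0 p1 = p2) (h3 : act 0 q3 = q4) (h4 : act 1 q4 = q5) (h5 : act 0 q5 = q6) (h6 : act 1 q6 = q7) (h7 : act 0 q7 = p0) : act 1 p2 = q3 := by
  have hr := R0 p0
  subst h0
  subst h1
  subst h7
  subst h6
  subst h5
  subst h4
  subst h3
  exact ij (ij (ij (ij (ij (hr)))))

theorem d0_4 {p0 p1 p2 p3 p4 q5 q6 q7 : Q} (h0 : act 1 p0 = p1) (h1 : act 0 p1 = p2) (h2 : act 1 p2 = p3) (h3 : act 0 p3 = p4) (h5 : act 0 q5 = q6) (h6 : act 1 q6 = q7) (h7 : act 0 q7 = p0) : act 1 p4 = q5 := by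
  have hr := R0 p0
  subst h0
  subst h1
  subst h2
  subst h3
  subst h7
  subst h6
  subst h5
  exact ij (ij (ij (hr)))

theorem d0_5 {p0 p1 p2 p3 p4 p5 q6 q7 : Q} (h0 : act 1 p0 = p1) (h1 : act 0 p1 = p2) (h2 : act 1 p2 = p3) (h3 : act 0 p3 = p4) (h4 : act 1 p4 = p5) (h6 : act 1 q6 = q7) (h7 : act 0 q7 = p0) : act 0 p5 = q6 := by
  have hr := R0 p0
  subst h0
  subst h1
  subst h2
  subst h3
  subst h4
  subst h7
  subst h6
  exact ij (ij (hr))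

theorem d0_6 {p0 p1 p2 p3 p4 p5 p6 q7 : Q} (h0 : act 1 p0 = p1) (h1 : act 0 p1 = p2) (h2 : act 1 p2 = p3) (h3 : act 0 p3 = p4) (h4 : act 1 p4 = p5) (h5 : act 0 p5 = p6) (h7 : act 0 q7 = p0) : act 1 p6 = q7 := by
  have hr := R0 p0
  subst h0
  subst h1
  subst h2
  subst h3
  subst h4
  subst h5
  subst h7
  exact ij (hr)

theorem d0_7 {p0 p1 p2 p3 p4 p5 p6 p7 : Q} (h0 : act 1 p0 = p1) (h1 : act 0 p1 = p2) (h2 : act 1 p2 = p3) (h3 : act 0 p3 = p4) (h4 : act 1 p4 = p5) (h5 : act 0 p5 = p6) (h6 : act 1 p6 = p7) : act 0 p7 = p0 := by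
  have hr := R0 p0
  subst h0
  subst h1
  subst h2
  subst h3
  subst h4
  subst h5
  subst h6
  exact hr

theorem d1_0 {p0 q1 q2 q3 q4 q5 q6 q7 : Q} (h1 : act 0 q1 = q2) (h2 : act 2 q2 = q3) (h3 : act 0 q3 = q4) (h4 : act 2 q4 = q5) (h5 : act 0 q5 = q6) (h6 : act 2 q6 = q7) (h7 : act 0 q7 = p0) : act 2 p0 = q1 := by
  have hr := R1 p0
  subst h7
  subst h6
  subst h5
  subst h4
  subst h3
  subst h2
  subst h1
  exact ij (ij (ij (ij (ij (ij (ij (hr)))))))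

theorem d1_1 {p0 p1 q2 q3 q4 q5 q6 q7 : Q} (h0 : act 2 p0 = p1) (h2 : act 2 q2 = q3) (h3 : act 0 q3 = q4) (h4 : act 2 q4 = q5) (h5 : act 0 q5 = q6) (h6 : act 2 q6 = q7) (h7 : act 0 q7 = p0) : act 0 p1 = q2 := by
  have hr := R1 p0
  subst h0
  subst h7
  subst h6
  subst h5
  subst h4
  subst h3
  subst h2
  exact ij (ij (ij (ij (ij (ij (hr))))))

theorem d1_2 {p0 p1 p2 q3 q4 q5 q6 q7 : Q} (h0 : act 2 p0 = p1) (h1 : act 0 p1 = p2) (h3 : act 0 q3 = q4) (h4 : act 2 q4 = q5) (h5 : act 0 q5 = q6) (h6 : act 2 q6 = q7) (h7 : act 0 q7 = p0) : act 2 p2 = q3 := by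
  have hr := R1 p0
  subst h0
  subst h1
  subst h7
  subst h6
  subst h5
  subst h4
  subst h3
  exact ij (ij (ij (ij (ij (hr)))))

theorem d1_4 {p0 p1 p2 p3 p4 q5 q6 q7 : Q} (h0 : act 2 p0 = p1) (h1 : act 0 p1 = p2) (h2 : act 2 p2 = p3) (h3 : act 0 p3 = p4) (h5 : act 0 q5 = q6) (h6 : act 2 q6 = q7) (h7 : act 0 q7 = p0) : act 2 p4 = q5 := by
  have hr := R1 p0
  subst h0
  subst h1
  subst h2
  subst h3
  subst h7
  subst h6
  subst h5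
  exact ij (ij (ij (hr)))

theorem d1_6 {p0 p1 p2 p3 p4 p5 p6 q7 : Q} (h0 : act 2 p0 = p1) (h1 : act 0 p1 = p2) (h2 : act 2 p2 = p3) (h3 : act 0 p3 = p4) (h4 : act 2 p4 = p5) (h5 : act 0 p5 = p6) (h7 : act 0 q7 = p0) : act 2 p6 = q7 := by
  have hr := R1 p0
  subst h0
  subst h1
  subst h2
  subst h3
  subst h4
  subst h5
  subst h7
  exact ij (hr)

theorem d1_7 {p0 p1 p2 p3 p4 p5 p6 p7 : Q} (h0 : act 2 p0 = p1) (h1 : act 0 p1 = p2) (h2 : act 2 p2 = p3) (h3 : act 0 p3 = p4) (h4 : act 2 p4 = p5) (h5 : act 0 p5 = p6) (h6 : act 2 p6 = p7) : act 0 p7 = p0 := by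
  have hr := R1 p0
  subst h0
  subst h1
  subst h2
  subst h3
  subst h4
  subst h5
  subst h6
  exact hr

theorem d2_0 {p0 q1 q2 q3 q4 q5 q6 q7 : Q} (h1 : act 0 q1 = q2) (h2 : act 3 q2 = q3) (h3 : act 0 q3 = q4) (h4 : act 3 q4 = q5) (h5 : act 0 q5 = q6) (h6 : act 3 q6 = q7) (h7 : act 0 q7 = p0) : act 3 p0 = q1 := by
  have hr := R2 p0
  subst h7
  subst h6
  subst h5
  subst h4
  subst h3
  subst h2
  subst h1
  exact ij (ij (ij (ij (ij (ij (ij (hr)))))))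

theorem d2_1 {p0 p1 q2 q3 q4 q5 q6 q7 : Q} (h0 : act 3 p0 = p1) (h2 : act 3 q2 = q3) (h3 : act 0 q3 = q4) (h4 : act 3 q4 = q5) (h5 : act 0 q5 = q6) (h6 : act 3 q6 = q7) (h7 : act 0 q7 = p0) : act 0 p1 = q2 := by
  have hr := R2 p0
  subst h0
  subst h7
  subst h6
  subst h5
  subst h4
  subst h3
  subst h2
  exact ij (ij (ij (ij (ij (ij (hr))))))

theorem d2_2 {p0 p1 p2 q3 q4 q5 q6 q7 : Q} (h0 : act 3 p0 = p1) (h1 : act 0 p1 = p2) (h3 : act 0 q3 = q4) (h4 : act 3 q4 = q5) (h5 : act 0 q5 = q6) (h6 : act 3 q6 = q7) (h7 : act 0 q7 = p0) : act 3 p2 = q3 := by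
  have hr := R2 p0
  subst h0
  subst h1
  subst h7
  subst h6
  subst h5
  subst h4
  subst h3
  exact ij (ij (ij (ij (ij (hr)))))

theorem d2_5 {p0 p1 p2 p3 p4 p5 q6 q7 : Q} (h0 : act 3 p0 = p1) (h1 : act 0 p1 = p2) (h2 : act 3 p2 = p3) (h3 : act 0 p3 = p4) (h4 : act 3 p4 = p5) (h6 : act 3 q6 = q7) (h7 : act 0 q7 = p0) : act 0 p5 = q6 := by
  have hr := R2 p0
  subst h0
  subst h1
  subst h2
  subst h3
  subst h4
  subst h7
  subst h6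
  exact ij (ij (hr))

theorem d2_6 {p0 p1 p2 p3 p4 p5 p6 q7 : Q} (h0 : act 3 p0 = p1) (h1 : act 0 p1 = p2) (h2 : act 3 p2 = p3) (h3 : act 0 p3 = p4) (h4 : act 3 p4 = p5) (h5 : act 0 p5 = p6) (h7 : act 0 q7 = p0) : act 3 p6 = q7 := by
  have hr := R2 p0
  subst h0
  subst h1
  subst h2
  subst h3
  subst h4
  subst h5
  subst h7
  exact ij (hr)

theorem d2_7 {p0 p1 p2 p3 p4 p5 p6 p7 : Q} (h0 : act 3 p0 = p1) (h1 : act 0 p1 = p2) (h2 : act 3 p2 = p3) (h3 : act 0 p3 = p4) (h4 : act 3 p4 = p5) (h5 : act 0 p5 = p6) (h6 : act 3 p6 = p7) : act 0 p7 = p0 := by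
  have hr := R2 p0
  subst h0
  subst h1
  subst h2
  subst h3
  subst h4
  subst h5
  subst h6
  exact hr

theorem d3_0 {p0 q1 q2 q3 : Q} (h1 : act 0 q1 = q2) (h2 : act 4 q2 = q3) (h3 : act 0 q3 = p0) : act 4 p0 = q1 := by
  have hr := R3 p0
  subst h3
  subst h2
  subst h1
  exact ij (ij (ij (hr)))

theorem d3_1 {p0 p1 q2 q3 : Q} (h0 : act 4 p0 = p1) (h2 : act 4 q2 = q3) (h3 : act 0 q3 = p0) : act 0 p1 = q2 := by
  have hr := R3 p0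
  subst h0
  subst h3
  subst h2
  exact ij (ij (hr))

theorem d3_2 {p0 p1 p2 q3 : Q} (h0 : act 4 p0 = p1) (h1 : act 0 p1 = p2) (h3 : act 0 q3 = p0) : act 4 p2 = q3 := by
  have hr := R3 p0
  subst h0
  subst h1
  subst h3
  exact ij (hr)

theorem d3_3 {p0 p1 p2 p3 : Q} (h0 : act 4 p0 = p1) (h1 : act 0 p1 = p2) (h2 : act 4 p2 = p3) : act 0 p3 = p0 := by
  have hr := R3 p0
  subst h0
  subst h1
  subst h2
  exact hr

theorem d4_0 {p0 q1 q2 q3 q4 q5 q6 q7 : Q} (h1 : act 1 q1 = q2) (h2 : act 2 q2 = q3) (h3 : act 1 q3 = q4) (h4 : act 2 q4 = q5) (h5 : act 1 q5 = q6) (h6 : act 2 q6 = q7) (h7 : act 1 q7 = p0) : act 2 p0 = q1 := by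
  have hr := R4 p0
  subst h7
  subst h6
  subst h5
  subst h4
  subst h3
  subst h2
  subst h1
  exact ij (ij (ij (ij (ij (ij (ij (hr)))))))

theorem d4_1 {p0 p1 q2 q3 q4 q5 q6 q7 : Q} (h0 : act 2 p0 = p1) (h2 : act 2 q2 = q3) (h3 : act 1 q3 = q4) (h4 : act 2 q4 = q5) (h5 : act 1 q5 = q6) (h6 : act 2 q6 = q7) (h7 : act 1 q7 = p0) : act 1 p1 = q2 := by
  have hr := R4 p0
  subst h0
  subst h7
  subst h6
  subst h5
  subst h4
  subst h3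
  subst h2
  exact ij (ij (ij (ij (ij (ij (hr))))))

theorem d4_2 {p0 p1 p2 q3 q4 q5 q6 q7 : Q} (h0 : act 2 p0 = p1) (h1 : act 1 p1 = p2) (h3 : act 1 q3 = q4) (h4 : act 2 q4 = q5) (h5 : act 1 q5 = q6) (h6 : act 2 q6 = q7) (h7 : act 1 q7 = p0) : act 2 p2 = q3 := by
  have hr := R4 p0
  subst h0
  subst h1
  subst h7
  subst h6
  subst h5
  subst h4
  subst h3
  exact ij (ij (ij (ij (ij (hr)))))

theorem d4_3 {p0 p1 p2 p3 q4 q5 q6 q7 : Q} (h0 : act 2 p0 = p1) (h1 : act 1 p1 = p2) (h2 : act 2 p2 = p3) (h4 : act 2 q4 = q5) (h5 : act 1 q5 = q6) (h6 : act 2 q6 = q7) (h7 : act 1 q7 = p0) : act 1 p3 = q4 := by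
  have hr := R4 p0
  subst h0
  subst h1
  subst h2
  subst h7
  subst h6
  subst h5
  subst h4
  exact ij (ij (ij (ij (hr))))

theorem d4_4 {p0 p1 p2 p3 p4 q5 q6 q7 : Q} (h0 : act 2 p0 = p1) (h1 : act 1 p1 = p2) (h2 : act 2 p2 = p3) (h3 : act 1 p3 = p4) (h5 : act 1 q5 = q6) (h6 : act 2 q6 = q7) (h7 : act 1 q7 = p0) : act 2 p4 = q5 := by
  have hr := R4 p0
  subst h0
  subst h1
  subst h2
  subst h3
  subst h7
  subst h6
  subst h5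
  exact ij (ij (ij (hr)))

theorem d4_5 {p0 p1 p2 p3 p4 p5 q6 q7 : Q} (h0 : act 2 p0 = p1) (h1 : act 1 p1 = p2) (h2 : act 2 p2 = p3) (h3 : act 1 p3 = p4) (h4 : act 2 p4 = p5) (h6 : act 2 q6 = q7) (h7 : act 1 q7 = p0) : act 1 p5 = q6 := by
  have hr := R4 p0
  subst h0
  subst h1
  subst h2
  subst h3
  subst h4
  subst h7
  subst h6
  exact ij (ij (hr))

theorem d4_6 {p0 p1 p2 p3 p4 p5 p6 q7 : Q} (h0 : act 2 p0 = p1) (h1 : act 1 p1 = p2) (h2 : act 2 p2 = p3) (h3 : act 1 p3 = p4) (h4 : act 2 p4 = p5) (h5 : act 1 p5 = p6) (h7 : act 1 q7 = p0) : act 2 p6 = q7 := by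
  have hr := R4 p0
  subst h0
  subst h1
  subst h2
  subst h3
  subst h4
  subst h5
  subst h7
  exact ij (hr)

theorem d4_7 {p0 p1 p2 p3 p4 p5 p6 p7 : Q} (h0 : act 2 p0 = p1) (h1 : act 1 p1 = p2) (h2 : act 2 p2 = p3) (h3 : act 1 p3 = p4) (h4 : act 2 p4 = p5) (h5 : act 1 p5 = p6) (h6 : act 2 p6 = p7) : act 1 p7 = p0 := by
  have hr := R4 p0
  subst h0
  subst h1
  subst h2
  subst h3
  subst h4
  subst h5
  subst h6
  exact hr

theorem d5_0 {p0 q1 q2 q3 : Q} (h1 : act 1 q1 = q2) (h2 : act 3 q2 = q3) (h3 : act 1 q3 = p0) : act 3 p0 = q1 := by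
  have hr := R5 p0
  subst h3
  subst h2
  subst h1
  exact ij (ij (ij (hr)))

theorem d5_1 {p0 p1 q2 q3 : Q} (h0 : act 3 p0 = p1) (h2 : act 3 q2 = q3) (h3 : act 1 q3 = p0) : act 1 p1 = q2 := by
  have hr := R5 p0
  subst h0
  subst h3
  subst h2
  exact ij (ij (hr))

theorem d5_2 {p0 p1 p2 q3 : Q} (h0 : act 3 p0 = p1) (h1 : act 1 p1 = p2) (h3 : act 1 q3 = p0) : act 3 p2 = q3 := by
  have hr := R5 p0
  subst h0
  subst h1
  subst h3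
  exact ij (hr)

theorem d5_3 {p0 p1 p2 p3 : Q} (h0 : act 3 p0 = p1) (h1 : act 1 p1 = p2) (h2 : act 3 p2 = p3) : act 1 p3 = p0 := by
  have hr := R5 p0
  subst h0
  subst h1
  subst h2
  exact hr

theorem d6_0 {p0 q1 q2 q3 : Q} (h1 : act 1 q1 = q2) (h2 : act 4 q2 = q3) (h3 : act 1 q3 = p0) : act 4 p0 = q1 := by
  have hr := R6 p0
  subst h3
  subst h2
  subst h1
  exact ij (ij (ij (hr)))

theorem d6_1 {p0 p1 q2 q3 : Q} (h0 : act 4 p0 = p1) (h2 : act 4 q2 = q3) (h3 : act 1 q3 = p0) : act 1 p1 = q2 := by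
  have hr := R6 p0
  subst h0
  subst h3
  subst h2
  exact ij (ij (hr))

theorem d6_2 {p0 p1 p2 q3 : Q} (h0 : act 4 p0 = p1) (h1 : act 1 p1 = p2) (h3 : act 1 q3 = p0) : act 4 p2 = q3 := by
  have hr := R6 p0
  subst h0
  subst h1
  subst h3
  exact ij (hr)

theorem d6_3 {p0 p1 p2 p3 : Q} (h0 : act 4 p0 = p1) (h1 : act 1 p1 = p2) (h2 : act 4 p2 = p3) : act 1 p3 = p0 := by
  have hr := R6 p0
  subst h0
  subst h1
  subst h2
  exact hr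

theorem d7_0 {p0 q1 q2 q3 : Q} (h1 : act 2 q1 = q2) (h2 : act 3 q2 = q3) (h3 : act 2 q3 = p0) : act 3 p0 = q1 := by
  have hr := R7 p0
  subst h3
  subst h2
  subst h1
  exact ij (ij (ij (hr)))

theorem d7_1 {p0 p1 q2 q3 : Q} (h0 : act 3 p0 = p1) (h2 : act 3 q2 = q3) (h3 : act 2 q3 = p0) : act 2 p1 = q2 := by
  have hr := R7 p0
  subst h0
  subst h3
  subst h2
  exact ij (ij (hr))

theorem d7_2 {p0 p1 p2 q3 : Q} (h0 : act 3 p0 = p1) (h1 : act 2 p1 = p2) (h3 : act 2 q3 = p0) : act 3 p2 = q3 := by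
  have hr := R7 p0
  subst h0
  subst h1
  subst h3
  exact ij (hr)

theorem d7_3 {p0 p1 p2 p3 : Q} (h0 : act 3 p0 = p1) (h1 : act 2 p1 = p2) (h2 : act 3 p2 = p3) : act 2 p3 = p0 := by
  have hr := R7 p0
  subst h0
  subst h1
  subst h2
  exact hr

theorem d8_0 {p0 q1 q2 q3 q4 q5 q6 q7 : Q} (h1 : act 2 q1 = q2) (h2 : act 4 q2 = q3) (h3 : act 2 q3 = q4) (h4 : act 4 q4 = q5) (h5 : act 2 q5 = q6) (h6 : act 4 q6 = q7) (h7 : act 2 q7 = p0) : act 4 p0 = q1 := by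
  have hr := R8 p0
  subst h7
  subst h6
  subst h5
  subst h4
  subst h3
  subst h2
  subst h1
  exact ij (ij (ij (ij (ij (ij (ij (hr)))))))

theorem d8_1 {p0 p1 q2 q3 q4 q5 q6 q7 : Q} (h0 : act 4 p0 = p1) (h2 : act 4 q2 = q3) (h3 : act 2 q3 = q4) (h4 : act 4 q4 = q5) (h5 : act 2 q5 = q6) (h6 : act 4 q6 = q7) (h7 : act 2 q7 = p0) : act 2 p1 = q2 := by
  have hr := R8 p0
  subst h0
  subst h7
  subst h6
  subst h5
  subst h4
  subst h3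
  subst h2
  exact ij (ij (ij (ij (ij (ij (hr))))))

theorem d8_2 {p0 p1 p2 q3 q4 q5 q6 q7 : Q} (h0 : act 4 p0 = p1) (h1 : act 2 p1 = p2) (h3 : act 2 q3 = q4) (h4 : act 4 q4 = q5) (h5 : act 2 q5 = q6) (h6 : act 4 q6 = q7) (h7 : act 2 q7 = p0) : act 4 p2 = q3 := by
  have hr := R8 p0
  subst h0
  subst h1
  subst h7
  subst h6
  subst h5
  subst h4
  subst h3
  exact ij (ij (ij (ij (ij (hr)))))

theorem d8_3 {p0 p1 p2 p3 q4 q5 q6 q7 : Q} (h0 : act 4 p0 = p1) (h1 : act 2 p1 = p2) (h2 : act 4 p2 = p3) (h4 : act 4 q4 = q5) (h5 : act 2 q5 = q6) (h6 : act 4 q6 = q7) (h7 : act 2 q7 = p0) : act 2 p3 = q4 := by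
  have hr := R8 p0
  subst h0
  subst h1
  subst h2
  subst h7
  subst h6
  subst h5
  subst h4
  exact ij (ij (ij (ij (hr))))

theorem d8_4 {p0 p1 p2 p3 p4 q5 q6 q7 : Q} (h0 : act 4 p0 = p1) (h1 : act 2 p1 = p2) (h2 : act 4 p2 = p3) (h3 : act 2 p3 = p4) (h5 : act 2 q5 = q6) (h6 : act 4 q6 = q7) (h7 : act 2 q7 = p0) : act 4 p4 = q5 := by
  have hr := R8 p0
  subst h0
  subst h1
  subst h2
  subst h3
  subst h7
  subst h6
  subst h5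
  exact ij (ij (ij (hr)))

theorem d8_6 {p0 p1 p2 p3 p4 p5 p6 q7 : Q} (h0 : act 4 p0 = p1) (h1 : act 2 p1 = p2) (h2 : act 4 p2 = p3) (h3 : act 2 p3 = p4) (h4 : act 4 p4 = p5) (h5 : act 2 p5 = p6) (h7 : act 2 q7 = p0) : act 4 p6 = q7 := by
  have hr := R8 p0
  subst h0
  subst h1
  subst h2
  subst h3
  subst h4
  subst h5
  subst h7
  exact ij (hr)

theorem d8_7 {p0 p1 p2 p3 p4 p5 p6 p7 : Q} (h0 : act 4 p0 = p1) (h1 : act 2 p1 = p2) (h2 : act 4 p2 = p3) (h3 : act 2 p3 = p4) (h4 : act 4 p4 = p5) (h5 : act 2 p5 = p6) (h6 : act 4 p6 = p7) : act 2 p7 = p0 := by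
  have hr := R8 p0
  subst h0
  subst h1
  subst h2
  subst h3
  subst h4
  subst h5
  subst h6
  exact hr

theorem d9_0 {p0 q1 q2 q3 q4 q5 q6 q7 : Q} (h1 : act 3 q1 = q2) (h2 : act 4 q2 = q3) (h3 : act 3 q3 = q4) (h4 : act 4 q4 = q5) (h5 : act 3 q5 = q6) (h6 : act 4 q6 = q7) (h7 : act 3 q7 = p0) : act 4 p0 = q1 := by
  have hr := R9 p0
  subst h7
  subst h6
  subst h5
  subst h4
  subst h3
  subst h2
  subst h1
  exact ij (ij (ij (ij (ij (ij (ij (hr)))))))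

theorem d9_1 {p0 p1 q2 q3 q4 q5 q6 q7 : Q} (h0 : act 4 p0 = p1) (h2 : act 4 q2 = q3) (h3 : act 3 q3 = q4) (h4 : act 4 q4 = q5) (h5 : act 3 q5 = q6) (h6 : act 4 q6 = q7) (h7 : act 3 q7 = p0) : act 3 p1 = q2 := by
  have hr := R9 p0
  subst h0
  subst h7
  subst h6
  subst h5
  subst h4
  subst h3
  subst h2
  exact ij (ij (ij (ij (ij (ij (hr))))))

theorem d9_2 {p0 p1 p2 q3 q4 q5 q6 q7 : Q} (h0 : act 4 p0 = p1) (h1 : act 3 p1 = p2) (h3 : act 3 q3 = q4) (h4 : act 4 q4 = q5) (h5 : act 3 q5 = q6) (h6 : act 4 q6 = q7) (h7 : act 3 q7 = p0) : act 4 p2 = q3 := by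
  have hr := R9 p0
  subst h0
  subst h1
  subst h7
  subst h6
  subst h5
  subst h4
  subst h3
  exact ij (ij (ij (ij (ij (hr)))))

theorem d9_4 {p0 p1 p2 p3 p4 q5 q6 q7 : Q} (h0 : act 4 p0 = p1) (h1 : act 3 p1 = p2) (h2 : act 4 p2 = p3) (h3 : act 3 p3 = p4) (h5 : act 3 q5 = q6) (h6 : act 4 q6 = q7) (h7 : act 3 q7 = p0) : act 4 p4 = q5 := by
  have hr := R9 p0
  subst h0
  subst h1
  subst h2
  subst h3
  subst h7
  subst h6
  subst h5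
  exact ij (ij (ij (hr)))

theorem d9_5 {p0 p1 p2 p3 p4 p5 q6 q7 : Q} (h0 : act 4 p0 = p1) (h1 : act 3 p1 = p2) (h2 : act 4 p2 = p3) (h3 : act 3 p3 = p4) (h4 : act 4 p4 = p5) (h6 : act 4 q6 = q7) (h7 : act 3 q7 = p0) : act 3 p5 = q6 := by
  have hr := R9 p0
  subst h0
  subst h1
  subst h2
  subst h3
  subst h4
  subst h7
  subst h6
  exact ij (ij (hr))

theorem d9_6 {p0 p1 p2 p3 p4 p5 p6 q7 : Q} (h0 : act 4 p0 = p1) (h1 : act 3 p1 = p2) (h2 : act 4 p2 = p3) (h3 : act 3 p3 = p4) (h4 : act 4 p4 = p5) (h5 : act 3 p5 = p6) (h7 : act 3 q7 = p0) : act 4 p6 = q7 := by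
  have hr := R9 p0
  subst h0
  subst h1
  subst h2
  subst h3
  subst h4
  subst h5
  subst h7
  exact ij (hr)

theorem d9_7 {p0 p1 p2 p3 p4 p5 p6 p7 : Q} (h0 : act 4 p0 = p1) (h1 : act 3 p1 = p2) (h2 : act 4 p2 = p3) (h3 : act 3 p3 = p4) (h4 : act 4 p4 = p5) (h5 : act 3 p5 = p6) (h6 : act 4 p6 = p7) : act 3 p7 = p0 := by
  have hr := R9 p0
  subst h0
  subst h1
  subst h2
  subst h3
  subst h4
  subst h5
  subst h6
  exact hr

theorem d10_0 {p0 q1 q2 q3 q4 q5 q6 q7 : Q} (h1 : act 0 q1 = q2) (h2 : act 2 q2 = q3) (h3 : act 0 q3 = q4) (h4 : act 3 q4 = q5) (h5 : act 0 q5 = q6) (h6 : act 2 q6 = q7) (h7 : act 0 q7 = p0) : act 3 p0 = q1 := by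
  have hr := R10 p0
  subst h7
  subst h6
  subst h5
  subst h4
  subst h3
  subst h2
  subst h1
  exact ij (ij (ij (ij (ij (ij (ij (hr)))))))

theorem d10_1 {p0 p1 q2 q3 q4 q5 q6 q7 : Q} (h0 : act 3 p0 = p1) (h2 : act 2 q2 = q3) (h3 : act 0 q3 = q4) (h4 : act 3 q4 = q5) (h5 : act 0 q5 = q6) (h6 : act 2 q6 = q7) (h7 : act 0 q7 = p0) : act 0 p1 = q2 := by
  have hr := R10 p0
  subst h0
  subst h7
  subst h6
  subst h5
  subst h4
  subst h3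
  subst h2
  exact ij (ij (ij (ij (ij (ij (hr))))))

theorem d10_2 {p0 p1 p2 q3 q4 q5 q6 q7 : Q} (h0 : act 3 p0 = p1) (h1 : act 0 p1 = p2) (h3 : act 0 q3 = q4) (h4 : act 3 q4 = q5) (h5 : act 0 q5 = q6) (h6 : act 2 q6 = q7) (h7 : act 0 q7 = p0) : act 2 p2 = q3 := by
  have hr := R10 p0
  subst h0
  subst h1
  subst h7
  subst h6
  subst h5
  subst h4
  subst h3
  exact ij (ij (ij (ij (ij (hr)))))

theorem d10_3 {p0 p1 p2 p3 q4 q5 q6 q7 : Q} (h0 : act 3 p0 = p1) (h1 : act 0 p1 = p2) (h2 : act 2 p2 = p3) (h4 : act 3 q4 = q5) (h5 : act 0 q5 = q6) (h6 : act 2 q6 = q7) (h7 : act 0 q7 = p0) : act 0 p3 = q4 := by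
  have hr := R10 p0
  subst h0
  subst h1
  subst h2
  subst h7
  subst h6
  subst h5
  subst h4
  exact ij (ij (ij (ij (hr))))

theorem d10_4 {p0 p1 p2 p3 p4 q5 q6 q7 : Q} (h0 : act 3 p0 = p1) (h1 : act 0 p1 = p2) (h2 : act 2 p2 = p3) (h3 : act 0 p3 = p4) (h5 : act 0 q5 = q6) (h6 : act 2 q6 = q7) (h7 : act 0 q7 = p0) : act 3 p4 = q5 := by
  have hr := R10 p0
  subst h0
  subst h1
  subst h2
  subst h3
  subst h7
  subst h6
  subst h5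
  exact ij (ij (ij (hr)))

theorem d10_5 {p0 p1 p2 p3 p4 p5 q6 q7 : Q} (h0 : act 3 p0 = p1) (h1 : act 0 p1 = p2) (h2 : act 2 p2 = p3) (h3 : act 0 p3 = p4) (h4 : act 3 p4 = p5) (h6 : act 2 q6 = q7) (h7 : act 0 q7 = p0) : act 0 p5 = q6 := by
  have hr := R10 p0
  subst h0
  subst h1
  subst h2
  subst h3
  subst h4
  subst h7
  subst h6
  exact ij (ij (hr))

theorem d10_7 {p0 p1 p2 p3 p4 p5 p6 p7 : Q} (h0 : act 3 p0 = p1) (h1 : act 0 p1 = p2) (h2 : act 2 p2 = p3) (h3 : act 0 p3 = p4) (h4 : act 3 p4 = p5) (h5 : act 0 p5 = p6) (h6 : act 2 p6 = p7) : act 0 p7 = p0 := by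
  have hr := R10 p0
  subst h0
  subst h1
  subst h2
  subst h3
  subst h4
  subst h5
  subst h6
  exact hr

theorem d11_1 {p0 p1 q2 q3 q4 q5 q6 q7 : Q} (h0 : act 2 p0 = p1) (h2 : act 2 q2 = q3) (h3 : act 0 q3 = q4) (h4 : act 2 q4 = q5) (h5 : act 4 q5 = q6) (h6 : act 2 q6 = q7) (h7 : act 0 q7 = p0) : act 4 p1 = q2 := by
  have hr := R11 p0
  subst h0
  subst h7
  subst h6
  subst h5
  subst h4
  subst h3
  subst h2
  exact ij (ij (ij (ij (ij (ij (hr))))))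

theorem d11_2 {p0 p1 p2 q3 q4 q5 q6 q7 : Q} (h0 : act 2 p0 = p1) (h1 : act 4 p1 = p2) (h3 : act 0 q3 = q4) (h4 : act 2 q4 = q5) (h5 : act 4 q5 = q6) (h6 : act 2 q6 = q7) (h7 : act 0 q7 = p0) : act 2 p2 = q3 := by
  have hr := R11 p0
  subst h0
  subst h1
  subst h7
  subst h6
  subst h5
  subst h4
  subst h3
  exact ij (ij (ij (ij (ij (hr)))))

theorem d11_3 {p0 p1 p2 p3 q4 q5 q6 q7 : Q} (h0 : act 2 p0 = p1) (h1 : act 4 p1 = p2) (h2 : act 2 p2 = p3) (h4 : act 2 q4 = q5) (h5 : act 4 q5 = q6) (h6 : act 2 q6 = q7) (h7 : act 0 q7 = p0) : act 0 p3 = q4 := by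
  have hr := R11 p0
  subst h0
  subst h1
  subst h2
  subst h7
  subst h6
  subst h5
  subst h4
  exact ij (ij (ij (ij (hr))))

theorem d11_4 {p0 p1 p2 p3 p4 q5 q6 q7 : Q} (h0 : act 2 p0 = p1) (h1 : act 4 p1 = p2) (h2 : act 2 p2 = p3) (h3 : act 0 p3 = p4) (h5 : act 4 q5 = q6) (h6 : act 2 q6 = q7) (h7 : act 0 q7 = p0) : act 2 p4 = q5 := by
  have hr := R11 p0
  subst h0
  subst h1
  subst h2
  subst h3
  subst h7
  subst h6
  subst h5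
  exact ij (ij (ij (hr)))

theorem d11_5 {p0 p1 p2 p3 p4 p5 q6 q7 : Q} (h0 : act 2 p0 = p1) (h1 : act 4 p1 = p2) (h2 : act 2 p2 = p3) (h3 : act 0 p3 = p4) (h4 : act 2 p4 = p5) (h6 : act 2 q6 = q7) (h7 : act 0 q7 = p0) : act 4 p5 = q6 := by
  have hr := R11 p0
  subst h0
  subst h1
  subst h2
  subst h3
  subst h4
  subst h7
  subst h6
  exact ij (ij (hr))

theorem d11_6 {p0 p1 p2 p3 p4 p5 p6 q7 : Q} (h0 : act 2 p0 = p1) (h1 : act 4 p1 = p2) (h2 : act 2 p2 = p3) (h3 : act 0 p3 = p4) (h4 : act 2 p4 = p5) (h5 : act 4 p5 = p6) (h7 : act 0 q7 = p0) : act 2 p6 = q7 := by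
  have hr := R11 p0
  subst h0
  subst h1
  subst h2
  subst h3
  subst h4
  subst h5
  subst h7
  exact ij (hr)

theorem d11_7 {p0 p1 p2 p3 p4 p5 p6 p7 : Q} (h0 : act 2 p0 = p1) (h1 : act 4 p1 = p2) (h2 : act 2 p2 = p3) (h3 : act 0 p3 = p4) (h4 : act 2 p4 = p5) (h5 : act 4 p5 = p6) (h6 : act 2 p6 = p7) : act 0 p7 = p0 := by
  have hr := R11 p0
  subst h0
  subst h1
  subst h2
  subst h3
  subst h4
  subst h5
  subst h6
  exact hr

theorem d12_0 {p0 q1 q2 q3 q4 q5 q6 q7 : Q} (h1 : act 4 q1 = q2) (h2 : act 3 q2 = q3) (h3 : act 0 q3 = q4) (h4 : act 3 q4 = q5) (h5 : act 4 q5 = q6) (h6 : act 3 q6 = q7) (h7 : act 0 q7 = p0) : act 3 p0 = q1 := by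
  have hr := R12 p0
  subst h7
  subst h6
  subst h5
  subst h4
  subst h3
  subst h2
  subst h1
  exact ij (ij (ij (ij (ij (ij (ij (hr)))))))

theorem d12_1 {p0 p1 q2 q3 q4 q5 q6 q7 : Q} (h0 : act 3 p0 = p1) (h2 : act 3 q2 = q3) (h3 : act 0 q3 = q4) (h4 : act 3 q4 = q5) (h5 : act 4 q5 = q6) (h6 : act 3 q6 = q7) (h7 : act 0 q7 = p0) : act 4 p1 = q2 := by
  have hr := R12 p0
  subst h0
  subst h7
  subst h6
  subst h5
  subst h4
  subst h3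
  subst h2
  exact ij (ij (ij (ij (ij (ij (hr))))))

theorem d12_2 {p0 p1 p2 q3 q4 q5 q6 q7 : Q} (h0 : act 3 p0 = p1) (h1 : act 4 p1 = p2) (h3 : act 0 q3 = q4) (h4 : act 3 q4 = q5) (h5 : act 4 q5 = q6) (h6 : act 3 q6 = q7) (h7 : act 0 q7 = p0) : act 3 p2 = q3 := by
  have hr := R12 p0
  subst h0
  subst h1
  subst h7
  subst h6
  subst h5
  subst h4
  subst h3
  exact ij (ij (ij (ij (ij (hr)))))

theorem d12_3 {p0 p1 p2 p3 q4 q5 q6 q7 : Q} (h0 : act 3 p0 = p1) (h1 : act 4 p1 = p2) (h2 : act 3 p2 = p3) (h4 : act 3 q4 = q5) (h5 : act 4 q5 = q6) (h6 : act 3 q6 = q7) (h7 : act 0 q7 = p0) : act 0 p3 = q4 := by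
  have hr := R12 p0
  subst h0
  subst h1
  subst h2
  subst h7
  subst h6
  subst h5
  subst h4
  exact ij (ij (ij (ij (hr))))

theorem d12_4 {p0 p1 p2 p3 p4 q5 q6 q7 : Q} (h0 : act 3 p0 = p1) (h1 : act 4 p1 = p2) (h2 : act 3 p2 = p3) (h3 : act 0 p3 = p4) (h5 : act 4 q5 = q6) (h6 : act 3 q6 = q7) (h7 : act 0 q7 = p0) : act 3 p4 = q5 := by
  have hr := R12 p0
  subst h0
  subst h1
  subst h2
  subst h3
  subst h7
  subst h6
  subst h5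
  exact ij (ij (ij (hr)))

theorem d12_5 {p0 p1 p2 p3 p4 p5 q6 q7 : Q} (h0 : act 3 p0 = p1) (h1 : act 4 p1 = p2) (h2 : act 3 p2 = p3) (h3 : act 0 p3 = p4) (h4 : act 3 p4 = p5) (h6 : act 3 q6 = q7) (h7 : act 0 q7 = p0) : act 4 p5 = q6 := by
  have hr := R12 p0
  subst h0
  subst h1
  subst h2
  subst h3
  subst h4
  subst h7
  subst h6
  exact ij (ij (hr))

theorem d12_6 {p0 p1 p2 p3 p4 p5 p6 q7 : Q} (h0 : act 3 p0 = p1) (h1 : act 4 p1 = p2) (h2 : act 3 p2 = p3) (h3 : act 0 p3 = p4) (h4 : act 3 p4 = p5) (h5 : act 4 p5 = p6) (h7 : act 0 q7 = p0) : act 3 p6 = q7 := by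
  have hr := R12 p0
  subst h0
  subst h1
  subst h2
  subst h3
  subst h4
  subst h5
  subst h7
  exact ij (hr)

theorem d12_7 {p0 p1 p2 p3 p4 p5 p6 p7 : Q} (h0 : act 3 p0 = p1) (h1 : act 4 p1 = p2) (h2 : act 3 p2 = p3) (h3 : act 0 p3 = p4) (h4 : act 3 p4 = p5) (h5 : act 4 p5 = p6) (h6 : act 3 p6 = p7) : act 0 p7 = p0 := by
  have hr := R12 p0
  subst h0
  subst h1
  subst h2
  subst h3
  subst h4
  subst h5
  subst h6
  exact hr

theorem d13_0 {p0 q1 q2 q3 q4 q5 q6 q7 q8 q9 q10 q11 : Q} (h1 : act 0 q1 = q2) (h2 : act 1 q2 = q3) (h3 : act 0 q3 = q4) (h4 : act 2 q4 = q5) (h5 : act 0 q5 = q6) (h6 : act 1 q6 = q7) (h7 : act 0 q7 = q8) (h8 : act 2 q8 = q9) (h9 : act 0 q9 = q10) (h10 : act 1 q10 = q11) (h11 : act 0 q11 = p0) : act 2 p0 = q1 := by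
  have hr := R13 p0
  subst h11
  subst h10
  subst h9
  subst h8
  subst h7
  subst h6
  subst h5
  subst h4
  subst h3
  subst h2
  subst h1
  exact ij (ij (ij (ij (ij (ij (ij (ij (ij (ij (ij (hr)))))))))))

theorem d13_1 {p0 p1 q2 q3 q4 q5 q6 q7 q8 q9 q10 q11 : Q} (h0 : act 2 p0 = p1) (h2 : act 1 q2 = q3) (h3 : act 0 q3 = q4) (h4 : act 2 q4 = q5) (h5 : act 0 q5 = q6) (h6 : act 1 q6 = q7) (h7 : act 0 q7 = q8) (h8 : act 2 q8 = q9) (h9 : act 0 q9 = q10) (h10 : act 1 q10 = q11) (h11 : act 0 q11 = p0) : act 0 p1 = q2 := by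
  have hr := R13 p0
  subst h0
  subst h11
  subst h10
  subst h9
  subst h8
  subst h7
  subst h6
  subst h5
  subst h4
  subst h3
  subst h2
  exact ij (ij (ij (ij (ij (ij (ij (ij (ij (ij (hr))))))))))

theorem d13_2 {p0 p1 p2 q3 q4 q5 q6 q7 q8 q9 q10 q11 : Q} (h0 : act 2 p0 = p1) (h1 : act 0 p1 = p2) (h3 : act 0 q3 = q4) (h4 : act 2 q4 = q5) (h5 : act 0 q5 = q6) (h6 : act 1 q6 = q7) (h7 : act 0 q7 = q8) (h8 : act 2 q8 = q9) (h9 : act 0 q9 = q10) (h10 : act 1 q10 = q11) (h11 : act 0 q11 = p0) : act 1 p2 = q3 := by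
  have hr := R13 p0
  subst h0
  subst h1
  subst h11
  subst h10
  subst h9
  subst h8
  subst h7
  subst h6
  subst h5
  subst h4
  subst h3
  exact ij (ij (ij (ij (ij (ij (ij (ij (ij (hr)))))))))

theorem d13_3 {p0 p1 p2 p3 q4 q5 q6 q7 q8 q9 q10 q11 : Q} (h0 : act 2 p0 = p1) (h1 : act 0 p1 = p2) (h2 : act 1 p2 = p3) (h4 : act 2 q4 = q5) (h5 : act 0 q5 = q6) (h6 : act 1 q6 = q7) (h7 : act 0 q7 = q8) (h8 : act 2 q8 = q9) (h9 : act 0 q9 = q10) (h10 : act 1 q10 = q11) (h11 : act 0 q11 = p0) : act 0 p3 = q4 := by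
  have hr := R13 p0
  subst h0
  subst h1
  subst h2
  subst h11
  subst h10
  subst h9
  subst h8
  subst h7
  subst h6
  subst h5
  subst h4
  exact ij (ij (ij (ij (ij (ij (ij (ij (hr))))))))

theorem d13_4 {p0 p1 p2 p3 p4 q5 q6 q7 q8 q9 q10 q11 : Q} (h0 : act 2 p0 = p1) (h1 : act 0 p1 = p2) (h2 : act 1 p2 = p3) (h3 : act 0 p3 = p4) (h5 : act 0 q5 = q6) (h6 : act 1 q6 = q7) (h7 : act 0 q7 = q8) (h8 : act 2 q8 = q9) (h9 : act 0 q9 = q10) (h10 : act 1 q10 = q11) (h11 : act 0 q11 = p0) : act 2 p4 = q5 := by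
  have hr := R13 p0
  subst h0
  subst h1
  subst h2
  subst h3
  subst h11
  subst h10
  subst h9
  subst h8
  subst h7
  subst h6
  subst h5
  exact ij (ij (ij (ij (ij (ij (ij (hr)))))))

theorem d13_5 {p0 p1 p2 p3 p4 p5 q6 q7 q8 q9 q10 q11 : Q} (h0 : act 2 p0 = p1) (h1 : act 0 p1 = p2) (h2 : act 1 p2 = p3) (h3 : act 0 p3 = p4) (h4 : act 2 p4 = p5) (h6 : act 1 q6 = q7) (h7 : act 0 q7 = q8) (h8 : act 2 q8 = q9) (h9 : act 0 q9 = q10) (h10 : act 1 q10 = q11) (h11 : act 0 q11 = p0) : act 0 p5 = q6 := by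
  have hr := R13 p0
  subst h0
  subst h1
  subst h2
  subst h3
  subst h4
  subst h11
  subst h10
  subst h9
  subst h8
  subst h7
  subst h6
  exact ij (ij (ij (ij (ij (ij (hr))))))

theorem d13_6 {p0 p1 p2 p3 p4 p5 p6 q7 q8 q9 q10 q11 : Q} (h0 : act 2 p0 = p1) (h1 : act 0 p1 = p2) (h2 : act 1 p2 = p3) (h3 : act 0 p3 = p4) (h4 : act 2 p4 = p5) (h5 : act 0 p5 = p6) (h7 : act 0 q7 = q8) (h8 : act 2 q8 = q9) (h9 : act 0 q9 = q10) (h10 : act 1 q10 = q11) (h11 : act 0 q11 = p0) : act 1 p6 = q7 := by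
  have hr := R13 p0
  subst h0
  subst h1
  subst h2
  subst h3
  subst h4
  subst h5
  subst h11
  subst h10
  subst h9
  subst h8
  subst h7
  exact ij (ij (ij (ij (ij (hr)))))

theorem d13_7 {p0 p1 p2 p3 p4 p5 p6 p7 q8 q9 q10 q11 : Q} (h0 : act 2 p0 = p1) (h1 : act 0 p1 = p2) (h2 : act 1 p2 = p3) (h3 : act 0 p3 = p4) (h4 : act 2 p4 = p5) (h5 : act 0 p5 = p6) (h6 : act 1 p6 = p7) (h8 : act 2 q8 = q9) (h9 : act 0 q9 = q10) (h10 : act 1 q10 = q11) (h11 : act 0 q11 = p0) : act 0 p7 = q8 := by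
  have hr := R13 p0
  subst h0
  subst h1
  subst h2
  subst h3
  subst h4
  subst h5
  subst h6
  subst h11
  subst h10
  subst h9
  subst h8
  exact ij (ij (ij (ij (hr))))

theorem d13_8 {p0 p1 p2 p3 p4 p5 p6 p7 p8 q9 q10 q11 : Q} (h0 : act 2 p0 = p1) (h1 : act 0 p1 = p2) (h2 : act 1 p2 = p3) (h3 : act 0 p3 = p4) (h4 : act 2 p4 = p5) (h5 : act 0 p5 = p6) (h6 : act 1 p6 = p7) (h7 : act 0 p7 = p8) (h9 : act 0 q9 = q10) (h10 : act 1 q10 = q11) (h11 : act 0 q11 = p0) : act 2 p8 = q9 := by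
  have hr := R13 p0
  subst h0
  subst h1
  subst h2
  subst h3
  subst h4
  subst h5
  subst h6
  subst h7
  subst h11
  subst h10
  subst h9
  exact ij (ij (ij (hr)))

theorem d13_10 {p0 p1 p2 p3 p4 p5 p6 p7 p8 p9 p10 q11 : Q} (h0 : act 2 p0 = p1) (h1 : act 0 p1 = p2) (h2 : act 1 p2 = p3) (h3 : act 0 p3 = p4) (h4 : act 2 p4 = p5) (h5 : act 0 p5 = p6) (h6 : act 1 p6 = p7) (h7 : act 0 p7 = p8) (h8 : act 2 p8 = p9) (h9 : act 0 p9 = p10) (h11 : act 0 q11 = p0) : act 1 p10 = q11 := by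
  have hr := R13 p0
  subst h0
  subst h1
  subst h2
  subst h3
  subst h4
  subst h5
  subst h6
  subst h7
  subst h8
  subst h9
  subst h11
  exact ij (hr)

theorem d13_11 {p0 p1 p2 p3 p4 p5 p6 p7 p8 p9 p10 p11 : Q} (h0 : act 2 p0 = p1) (h1 : act 0 p1 = p2) (h2 : act 1 p2 = p3) (h3 : act 0 p3 = p4) (h4 : act 2 p4 = p5) (h5 : act 0 p5 = p6) (h6 : act 1 p6 = p7) (h7 : act 0 p7 = p8) (h8 : act 2 p8 = p9) (h9 : act 0 p9 = p10) (h10 : act 1 p10 = p11) : act 0 p11 = p0 := by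
  have hr := R13 p0
  subst h0
  subst h1
  subst h2
  subst h3
  subst h4
  subst h5
  subst h6
  subst h7
  subst h8
  subst h9
  subst h10
  exact hr

theorem d14_1 {p0 p1 q2 q3 q4 q5 q6 q7 q8 q9 q10 q11 : Q} (h0 : act 1 p0 = p1) (h2 : act 1 q2 = q3) (h3 : act 0 q3 = q4) (h4 : act 1 q4 = q5) (h5 : act 2 q5 = q6) (h6 : act 1 q6 = q7) (h7 : act 0 q7 = q8) (h8 : act 1 q8 = q9) (h9 : act 2 q9 = q10) (h10 : act 1 q10 = q11) (h11 : act 0 q11 = p0) : act 2 p1 = q2 := by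
  have hr := R14 p0
  subst h0
  subst h11
  subst h10
  subst h9
  subst h8
  subst h7
  subst h6
  subst h5
  subst h4
  subst h3
  subst h2
  exact ij (ij (ij (ij (ij (ij (ij (ij (ij (ij (hr))))))))))

theorem d14_2 {p0 p1 p2 q3 q4 q5 q6 q7 q8 q9 q10 q11 : Q} (h0 : act 1 p0 = p1) (h1 : act 2 p1 = p2) (h3 : act 0 q3 = q4) (h4 : act 1 q4 = q5) (h5 : act 2 q5 = q6) (h6 : act 1 q6 = q7) (h7 : act 0 q7 = q8) (h8 : act 1 q8 = q9) (h9 : act 2 q9 = q10) (h10 : act 1 q10 = q11) (h11 : act 0 q11 = p0) : act 1 p2 = q3 := by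
  have hr := R14 p0
  subst h0
  subst h1
  subst h11
  subst h10
  subst h9
  subst h8
  subst h7
  subst h6
  subst h5
  subst h4
  subst h3
  exact ij (ij (ij (ij (ij (ij (ij (ij (ij (hr)))))))))

theorem d14_3 {p0 p1 p2 p3 q4 q5 q6 q7 q8 q9 q10 q11 : Q} (h0 : act 1 p0 = p1) (h1 : act 2 p1 = p2) (h2 : act 1 p2 = p3) (h4 : act 1 q4 = q5) (h5 : act 2 q5 = q6) (h6 : act 1 q6 = q7) (h7 : act 0 q7 = q8) (h8 : act 1 q8 = q9) (h9 : act 2 q9 = q10) (h10 : act 1 q10 = q11) (h11 : act 0 q11 = p0) : act 0 p3 = q4 := by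
  have hr := R14 p0
  subst h0
  subst h1
  subst h2
  subst h11
  subst h10
  subst h9
  subst h8
  subst h7
  subst h6
  subst h5
  subst h4
  exact ij (ij (ij (ij (ij (ij (ij (ij (hr))))))))

theorem d14_4 {p0 p1 p2 p3 p4 q5 q6 q7 q8 q9 q10 q11 : Q} (h0 : act 1 p0 = p1) (h1 : act 2 p1 = p2) (h2 : act 1 p2 = p3) (h3 : act 0 p3 = p4) (h5 : act 2 q5 = q6) (h6 : act 1 q6 = q7) (h7 : act 0 q7 = q8) (h8 : act 1 q8 = q9) (h9 : act 2 q9 = q10) (h10 : act 1 q10 = q11) (h11 : act 0 q11 = p0) : act 1 p4 = q5 := by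
  have hr := R14 p0
  subst h0
  subst h1
  subst h2
  subst h3
  subst h11
  subst h10
  subst h9
  subst h8
  subst h7
  subst h6
  subst h5
  exact ij (ij (ij (ij (ij (ij (ij (hr)))))))

theorem d14_8 {p0 p1 p2 p3 p4 p5 p6 p7 p8 q9 q10 q11 : Q} (h0 : act 1 p0 = p1) (h1 : act 2 p1 = p2) (h2 : act 1 p2 = p3) (h3 : act 0 p3 = p4) (h4 : act 1 p4 = p5) (h5 : act 2 p5 = p6) (h6 : act 1 p6 = p7) (h7 : act 0 p7 = p8) (h9 : act 2 q9 = q10) (h10 : act 1 q10 = q11) (h11 : act 0 q11 = p0) : act 1 p8 = q9 := by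
  have hr := R14 p0
  subst h0
  subst h1
  subst h2
  subst h3
  subst h4
  subst h5
  subst h6
  subst h7
  subst h11
  subst h10
  subst h9
  exact ij (ij (ij (hr)))

theorem d14_9 {p0 p1 p2 p3 p4 p5 p6 p7 p8 p9 q10 q11 : Q} (h0 : act 1 p0 = p1) (h1 : act 2 p1 = p2) (h2 : act 1 p2 = p3) (h3 : act 0 p3 = p4) (h4 : act 1 p4 = p5) (h5 : act 2 p5 = p6) (h6 : act 1 p6 = p7) (h7 : act 0 p7 = p8) (h8 : act 1 p8 = p9) (h10 : act 1 q10 = q11) (h11 : act 0 q11 = p0) : act 2 p9 = q10 := by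
  have hr := R14 p0
  subst h0
  subst h1
  subst h2
  subst h3
  subst h4
  subst h5
  subst h6
  subst h7
  subst h8
  subst h11
  subst h10
  exact ij (ij (hr))

theorem d14_10 {p0 p1 p2 p3 p4 p5 p6 p7 p8 p9 p10 q11 : Q} (h0 : act 1 p0 = p1) (h1 : act 2 p1 = p2) (h2 : act 1 p2 = p3) (h3 : act 0 p3 = p4) (h4 : act 1 p4 = p5) (h5 : act 2 p5 = p6) (h6 : act 1 p6 = p7) (h7 : act 0 p7 = p8) (h8 : act 1 p8 = p9) (h9 : act 2 p9 = p10) (h11 : act 0 q11 = p0) : act 1 p10 = q11 := by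
  have hr := R14 p0
  subst h0
  subst h1
  subst h2
  subst h3
  subst h4
  subst h5
  subst h6
  subst h7
  subst h8
  subst h9
  subst h11
  exact ij (hr)

theorem d14_11 {p0 p1 p2 p3 p4 p5 p6 p7 p8 p9 p10 p11 : Q} (h0 : act 1 p0 = p1) (h1 : act 2 p1 = p2) (h2 : act 1 p2 = p3) (h3 : act 0 p3 = p4) (h4 : act 1 p4 = p5) (h5 : act 2 p5 = p6) (h6 : act 1 p6 = p7) (h7 : act 0 p7 = p8) (h8 : act 1 p8 = p9) (h9 : act 2 p9 = p10) (h10 : act 1 p10 = p11) : act 0 p11 = p0 := by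
  have hr := R14 p0
  subst h0
  subst h1
  subst h2
  subst h3
  subst h4
  subst h5
  subst h6
  subst h7
  subst h8
  subst h9
  subst h10
  exact hr

theorem d15_0 {p0 q1 q2 q3 q4 q5 q6 q7 q8 q9 q10 q11 q12 : Q} (h1 : act 0 q1 = q2) (h2 : act 2 q2 = q3) (h3 : act 1 q3 = q4) (h4 : act 0 q4 = q5) (h5 : act 1 q5 = q6) (h6 : act 2 q6 = q7) (h7 : act 0 q7 = q8) (h8 : act 2 q8 = q9) (h9 : act 1 q9 = q10) (h10 : act 0 q10 = q11) (h11 : act 1 q11 = q12) (h12 : act 0 q12 = p0) : act 2 p0 = q1 := by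
  have hr := R15 p0
  subst h12
  subst h11
  subst h10
  subst h9
  subst h8
  subst h7
  subst h6
  subst h5
  subst h4
  subst h3
  subst h2
  subst h1
  exact ij (ij (ij (ij (ij (ij (ij (ij (ij (ij (ij (ij (hr))))))))))))

theorem d15_1 {p0 p1 q2 q3 q4 q5 q6 q7 q8 q9 q10 q11 q12 : Q} (h0 : act 2 p0 = p1) (h2 : act 2 q2 = q3) (h3 : act 1 q3 = q4) (h4 : act 0 q4 = q5) (h5 : act 1 q5 = q6) (h6 : act 2 q6 = q7) (h7 : act 0 q7 = q8) (h8 : act 2 q8 = q9) (h9 : act 1 q9 = q10) (h10 : act 0 q10 = q11) (h11 : act 1 q11 = q12) (h12 : act 0 q12 = p0) : act 0 p1 = q2 := by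
  have hr := R15 p0
  subst h0
  subst h12
  subst h11
  subst h10
  subst h9
  subst h8
  subst h7
  subst h6
  subst h5
  subst h4
  subst h3
  subst h2
  exact ij (ij (ij (ij (ij (ij (ij (ij (ij (ij (ij (hr)))))))))))

theorem d15_2 {p0 p1 p2 q3 q4 q5 q6 q7 q8 q9 q10 q11 q12 : Q} (h0 : act 2 p0 = p1) (h1 : act 0 p1 = p2) (h3 : act 1 q3 = q4) (h4 : act 0 q4 = q5) (h5 : act 1 q5 = q6) (h6 : act 2 q6 = q7) (h7 : act 0 q7 = q8) (h8 : act 2 q8 = q9) (h9 : act 1 q9 = q10) (h10 : act 0 q10 = q11) (h11 : act 1 q11 = q12) (h12 : act 0 q12 = p0) : act 2 p2 = q3 := by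
  have hr := R15 p0
  subst h0
  subst h1
  subst h12
  subst h11
  subst h10
  subst h9
  subst h8
  subst h7
  subst h6
  subst h5
  subst h4
  subst h3
  exact ij (ij (ij (ij (ij (ij (ij (ij (ij (ij (hr))))))))))

theorem d15_3 {p0 p1 p2 p3 q4 q5 q6 q7 q8 q9 q10 q11 q12 : Q} (h0 : act 2 p0 = p1) (h1 : act 0 p1 = p2) (h2 : act 2 p2 = p3) (h4 : act 0 q4 = q5) (h5 : act 1 q5 = q6) (h6 : act 2 q6 = q7) (h7 : act 0 q7 = q8) (h8 : act 2 q8 = q9) (h9 : act 1 q9 = q10) (h10 : act 0 q10 = q11) (h11 : act 1 q11 = q12) (h12 : act 0 q12 = p0) : act 1 p3 = q4 := by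
  have hr := R15 p0
  subst h0
  subst h1
  subst h2
  subst h12
  subst h11
  subst h10
  subst h9
  subst h8
  subst h7
  subst h6
  subst h5
  subst h4
  exact ij (ij (ij (ij (ij (ij (ij (ij (ij (hr)))))))))

theorem d15_4 {p0 p1 p2 p3 p4 q5 q6 q7 q8 q9 q10 q11 q12 : Q} (h0 : act 2 p0 = p1) (h1 : act 0 p1 = p2) (h2 : act 2 p2 = p3) (h3 : act 1 p3 = p4) (h5 : act 1 q5 = q6) (h6 : act 2 q6 = q7) (h7 : act 0 q7 = q8) (h8 : act 2 q8 = q9) (h9 : act 1 q9 = q10) (h10 : act 0 q10 = q11) (h11 : act 1 q11 = q12) (h12 : act 0 q12 = p0) : act 0 p4 = q5 := by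
  have hr := R15 p0
  subst h0
  subst h1
  subst h2
  subst h3
  subst h12
  subst h11
  subst h10
  subst h9
  subst h8
  subst h7
  subst h6
  subst h5
  exact ij (ij (ij (ij (ij (ij (ij (ij (hr))))))))

theorem d15_5 {p0 p1 p2 p3 p4 p5 q6 q7 q8 q9 q10 q11 q12 : Q} (h0 : act 2 p0 = p1) (h1 : act 0 p1 = p2) (h2 : act 2 p2 = p3) (h3 : act 1 p3 = p4) (h4 : act 0 p4 = p5) (h6 : act 2 q6 = q7) (h7 : act 0 q7 = q8) (h8 : act 2 q8 = q9) (h9 : act 1 q9 = q10) (h10 : act 0 q10 = q11) (h11 : act 1 q11 = q12) (h12 : act 0 q12 = p0) : act 1 p5 = q6 := by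
  have hr := R15 p0
  subst h0
  subst h1
  subst h2
  subst h3
  subst h4
  subst h12
  subst h11
  subst h10
  subst h9
  subst h8
  subst h7
  subst h6
  exact ij (ij (ij (ij (ij (ij (ij (hr)))))))

theorem d15_6 {p0 p1 p2 p3 p4 p5 p6 q7 q8 q9 q10 q11 q12 : Q} (h0 : act 2 p0 = p1) (h1 : act 0 p1 = p2) (h2 : act 2 p2 = p3) (h3 : act 1 p3 = p4) (h4 : act 0 p4 = p5) (h5 : act 1 p5 = p6) (h7 : act 0 q7 = q8) (h8 : act 2 q8 = q9) (h9 : act 1 q9 = q10) (h10 : act 0 q10 = q11) (h11 : act 1 q11 = q12) (h12 : act 0 q12 = p0) : act 2 p6 = q7 := by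
  have hr := R15 p0
  subst h0
  subst h1
  subst h2
  subst h3
  subst h4
  subst h5
  subst h12
  subst h11
  subst h10
  subst h9
  subst h8
  subst h7
  exact ij (ij (ij (ij (ij (ij (hr))))))

theorem d15_7 {p0 p1 p2 p3 p4 p5 p6 p7 q8 q9 q10 q11 q12 : Q} (h0 : act 2 p0 = p1) (h1 : act 0 p1 = p2) (h2 : act 2 p2 = p3) (h3 : act 1 p3 = p4) (h4 : act 0 p4 = p5) (h5 : act 1 p5 = p6) (h6 : act 2 p6 = p7) (h8 : act 2 q8 = q9) (h9 : act 1 q9 = q10) (h10 : act 0 q10 = q11) (h11 : act 1 q11 = q12) (h12 : act 0 q12 = p0) : act 0 p7 = q8 := by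
  have hr := R15 p0
  subst h0
  subst h1
  subst h2
  subst h3
  subst h4
  subst h5
  subst h6
  subst h12
  subst h11
  subst h10
  subst h9
  subst h8
  exact ij (ij (ij (ij (ij (hr)))))

theorem d15_8 {p0 p1 p2 p3 p4 p5 p6 p7 p8 q9 q10 q11 q12 : Q} (h0 : act 2 p0 = p1) (h1 : act 0 p1 = p2) (h2 : act 2 p2 = p3) (h3 : act 1 p3 = p4) (h4 : act 0 p4 = p5) (h5 : act 1 p5 = p6) (h6 : act 2 p6 = p7) (h7 : act 0 p7 = p8) (h9 : act 1 q9 = q10) (h10 : act 0 q10 = q11) (h11 : act 1 q11 = q12) (h12 : act 0 q12 = p0) : act 2 p8 = q9 := by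
  have hr := R15 p0
  subst h0
  subst h1
  subst h2
  subst h3
  subst h4
  subst h5
  subst h6
  subst h7
  subst h12
  subst h11
  subst h10
  subst h9
  exact ij (ij (ij (ij (hr))))

theorem d15_9 {p0 p1 p2 p3 p4 p5 p6 p7 p8 p9 q10 q11 q12 : Q} (h0 : act 2 p0 = p1) (h1 : act 0 p1 = p2) (h2 : act 2 p2 = p3) (h3 : act 1 p3 = p4) (h4 : act 0 p4 = p5) (h5 : act 1 p5 = p6) (h6 : act 2 p6 = p7) (h7 : act 0 p7 = p8) (h8 : act 2 p8 = p9) (h10 : act 0 q10 = q11) (h11 : act 1 q11 = q12) (h12 : act 0 q12 = p0) : act 1 p9 = q10 := by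
  have hr := R15 p0
  subst h0
  subst h1
  subst h2
  subst h3
  subst h4
  subst h5
  subst h6
  subst h7
  subst h8
  subst h12
  subst h11
  subst h10
  exact ij (ij (ij (hr)))

theorem d15_11 {p0 p1 p2 p3 p4 p5 p6 p7 p8 p9 p10 p11 q12 : Q} (h0 : act 2 p0 = p1) (h1 : act 0 p1 = p2) (h2 : act 2 p2 = p3) (h3 : act 1 p3 = p4) (h4 : act 0 p4 = p5) (h5 : act 1 p5 = p6) (h6 : act 2 p6 = p7) (h7 : act 0 p7 = p8) (h8 : act 2 p8 = p9) (h9 : act 1 p9 = p10) (h10 : act 0 p10 = p11) (h12 : act 0 q12 = p0) : act 1 p11 = q12 := by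
  have hr := R15 p0
  subst h0
  subst h1
  subst h2
  subst h3
  subst h4
  subst h5
  subst h6
  subst h7
  subst h8
  subst h9
  subst h10
  subst h12
  exact ij (hr)

theorem d15_12 {p0 p1 p2 p3 p4 p5 p6 p7 p8 p9 p10 p11 p12 : Q} (h0 : act 2 p0 = p1) (h1 : act 0 p1 = p2) (h2 : act 2 p2 = p3) (h3 : act 1 p3 = p4) (h4 : act 0 p4 = p5) (h5 : act 1 p5 = p6) (h6 : act 2 p6 = p7) (h7 : act 0 p7 = p8) (h8 : act 2 p8 = p9) (h9 : act 1 p9 = p10) (h10 : act 0 p10 = p11) (h11 : act 1 p11 = p12) : act 0 p12 = p0 := by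
  have hr := R15 p0
  subst h0
  subst h1
  subst h2
  subst h3
  subst h4
  subst h5
  subst h6
  subst h7
  subst h8
  subst h9
  subst h10
  subst h11
  exact hr

theorem d16_0 {p0 q1 q2 q3 q4 q5 q6 q7 q8 q9 q10 q11 q12 : Q} (h1 : act 0 q1 = q2) (h2 : act 3 q2 = q3) (h3 : act 1 q3 = q4) (h4 : act 2 q4 = q5) (h5 : act 1 q5 = q6) (h6 : act 0 q6 = q7) (h7 : act 3 q7 = q8) (h8 : act 0 q8 = q9) (h9 : act 1 q9 = q10) (h10 : act 2 q10 = q11) (h11 : act 1 q11 = q12) (h12 : act 0 q12 = p0) : act 3 p0 = q1 := by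
  have hr := R16 p0
  subst h12
  subst h11
  subst h10
  subst h9
  subst h8
  subst h7
  subst h6
  subst h5
  subst h4
  subst h3
  subst h2
  subst h1
  exact ij (ij (ij (ij (ij (ij (ij (ij (ij (ij (ij (ij (hr))))))))))))

theorem d16_1 {p0 p1 q2 q3 q4 q5 q6 q7 q8 q9 q10 q11 q12 : Q} (h0 : act 3 p0 = p1) (h2 : act 3 q2 = q3) (h3 : act 1 q3 = q4) (h4 : act 2 q4 = q5) (h5 : act 1 q5 = q6) (h6 : act 0 q6 = q7) (h7 : act 3 q7 = q8) (h8 : act 0 q8 = q9) (h9 : act 1 q9 = q10) (h10 : act 2 q10 = q11) (h11 : act 1 q11 = q12) (h12 : act 0 q12 = p0) : act 0 p1 = q2 := by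
  have hr := R16 p0
  subst h0
  subst h12
  subst h11
  subst h10
  subst h9
  subst h8
  subst h7
  subst h6
  subst h5
  subst h4
  subst h3
  subst h2
  exact ij (ij (ij (ij (ij (ij (ij (ij (ij (ij (ij (hr)))))))))))

theorem d16_2 {p0 p1 p2 q3 q4 q5 q6 q7 q8 q9 q10 q11 q12 : Q} (h0 : act 3 p0 = p1) (h1 : act 0 p1 = p2) (h3 : act 1 q3 = q4) (h4 : act 2 q4 = q5) (h5 : act 1 q5 = q6) (h6 : act 0 q6 = q7) (h7 : act 3 q7 = q8) (h8 : act 0 q8 = q9) (h9 : act 1 q9 = q10) (h10 : act 2 q10 = q11) (h11 : act 1 q11 = q12) (h12 : act 0 q12 = p0) : act 3 p2 = q3 := by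
  have hr := R16 p0
  subst h0
  subst h1
  subst h12
  subst h11
  subst h10
  subst h9
  subst h8
  subst h7
  subst h6
  subst h5
  subst h4
  subst h3
  exact ij (ij (ij (ij (ij (ij (ij (ij (ij (ij (hr))))))))))

theorem d16_3 {p0 p1 p2 p3 q4 q5 q6 q7 q8 q9 q10 q11 q12 : Q} (h0 : act 3 p0 = p1) (h1 : act 0 p1 = p2) (h2 : act 3 p2 = p3) (h4 : act 2 q4 = q5) (h5 : act 1 q5 = q6) (h6 : act 0 q6 = q7) (h7 : act 3 q7 = q8) (h8 : act 0 q8 = q9) (h9 : act 1 q9 = q10) (h10 : act 2 q10 = q11) (h11 : act 1 q11 = q12) (h12 : act 0 q12 = p0) : act 1 p3 = q4 := by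
  have hr := R16 p0
  subst h0
  subst h1
  subst h2
  subst h12
  subst h11
  subst h10
  subst h9
  subst h8
  subst h7
  subst h6
  subst h5
  subst h4
  exact ij (ij (ij (ij (ij (ij (ij (ij (ij (hr)))))))))

theorem d16_4 {p0 p1 p2 p3 p4 q5 q6 q7 q8 q9 q10 q11 q12 : Q} (h0 : act 3 p0 = p1) (h1 : act 0 p1 = p2) (h2 : act 3 p2 = p3) (h3 : act 1 p3 = p4) (h5 : act 1 q5 = q6) (h6 : act 0 q6 = q7) (h7 : act 3 q7 = q8) (h8 : act 0 q8 = q9) (h9 : act 1 q9 = q10) (h10 : act 2 q10 = q11) (h11 : act 1 q11 = q12) (h12 : act 0 q12 = p0) : act 2 p4 = q5 := by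
  have hr := R16 p0
  subst h0
  subst h1
  subst h2
  subst h3
  subst h12
  subst h11
  subst h10
  subst h9
  subst h8
  subst h7
  subst h6
  subst h5
  exact ij (ij (ij (ij (ij (ij (ij (ij (hr))))))))

theorem d16_5 {p0 p1 p2 p3 p4 p5 q6 q7 q8 q9 q10 q11 q12 : Q} (h0 : act 3 p0 = p1) (h1 : act 0 p1 = p2) (h2 : act 3 p2 = p3) (h3 : act 1 p3 = p4) (h4 : act 2 p4 = p5) (h6 : act 0 q6 = q7) (h7 : act 3 q7 = q8) (h8 : act 0 q8 = q9) (h9 : act 1 q9 = q10) (h10 : act 2 q10 = q11) (h11 : act 1 q11 = q12) (h12 : act 0 q12 = p0) : act 1 p5 = q6 := by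
  have hr := R16 p0
  subst h0
  subst h1
  subst h2
  subst h3
  subst h4
  subst h12
  subst h11
  subst h10
  subst h9
  subst h8
  subst h7
  subst h6
  exact ij (ij (ij (ij (ij (ij (ij (hr)))))))

theorem d16_6 {p0 p1 p2 p3 p4 p5 p6 q7 q8 q9 q10 q11 q12 : Q} (h0 : act 3 p0 = p1) (h1 : act 0 p1 = p2) (h2 : act 3 p2 = p3) (h3 : act 1 p3 = p4) (h4 : act 2 p4 = p5) (h5 : act 1 p5 = p6) (h7 : act 3 q7 = q8) (h8 : act 0 q8 = q9) (h9 : act 1 q9 = q10) (h10 : act 2 q10 = q11) (h11 : act 1 q11 = q12) (h12 : act 0 q12 = p0) : act 0 p6 = q7 := by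
  have hr := R16 p0
  subst h0
  subst h1
  subst h2
  subst h3
  subst h4
  subst h5
  subst h12
  subst h11
  subst h10
  subst h9
  subst h8
  subst h7
  exact ij (ij (ij (ij (ij (ij (hr))))))

theorem d16_7 {p0 p1 p2 p3 p4 p5 p6 p7 q8 q9 q10 q11 q12 : Q} (h0 : act 3 p0 = p1) (h1 : act 0 p1 = p2) (h2 : act 3 p2 = p3) (h3 : act 1 p3 = p4) (h4 : act 2 p4 = p5) (h5 : act 1 p5 = p6) (h6 : act 0 p6 = p7) (h8 : act 0 q8 = q9) (h9 : act 1 q9 = q10) (h10 : act 2 q10 = q11) (h11 : act 1 q11 = q12) (h12 : act 0 q12 = p0) : act 3 p7 = q8 := by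
  have hr := R16 p0
  subst h0
  subst h1
  subst h2
  subst h3
  subst h4
  subst h5
  subst h6
  subst h12
  subst h11
  subst h10
  subst h9
  subst h8
  exact ij (ij (ij (ij (ij (hr)))))

theorem d16_8 {p0 p1 p2 p3 p4 p5 p6 p7 p8 q9 q10 q11 q12 : Q} (h0 : act 3 p0 = p1) (h1 : act 0 p1 = p2) (h2 : act 3 p2 = p3) (h3 : act 1 p3 = p4) (h4 : act 2 p4 = p5) (h5 : act 1 p5 = p6) (h6 : act 0 p6 = p7) (h7 : act 3 p7 = p8) (h9 : act 1 q9 = q10) (h10 : act 2 q10 = q11) (h11 : act 1 q11 = q12) (h12 : act 0 q12 = p0) : act 0 p8 = q9 := by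
  have hr := R16 p0
  subst h0
  subst h1
  subst h2
  subst h3
  subst h4
  subst h5
  subst h6
  subst h7
  subst h12
  subst h11
  subst h10
  subst h9
  exact ij (ij (ij (ij (hr))))

theorem d16_9 {p0 p1 p2 p3 p4 p5 p6 p7 p8 p9 q10 q11 q12 : Q} (h0 : act 3 p0 = p1) (h1 : act 0 p1 = p2) (h2 : act 3 p2 = p3) (h3 : act 1 p3 = p4) (h4 : act 2 p4 = p5) (h5 : act 1 p5 = p6) (h6 : act 0 p6 = p7) (h7 : act 3 p7 = p8) (h8 : act 0 p8 = p9) (h10 : act 2 q10 = q11) (h11 : act 1 q11 = q12) (h12 : act 0 q12 = p0) : act 1 p9 = q10 := by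
  have hr := R16 p0
  subst h0
  subst h1
  subst h2
  subst h3
  subst h4
  subst h5
  subst h6
  subst h7
  subst h8
  subst h12
  subst h11
  subst h10
  exact ij (ij (ij (hr)))

theorem d16_10 {p0 p1 p2 p3 p4 p5 p6 p7 p8 p9 p10 q11 q12 : Q} (h0 : act 3 p0 = p1) (h1 : act 0 p1 = p2) (h2 : act 3 p2 = p3) (h3 : act 1 p3 = p4) (h4 : act 2 p4 = p5) (h5 : act 1 p5 = p6) (h6 : act 0 p6 = p7) (h7 : act 3 p7 = p8) (h8 : act 0 p8 = p9) (h9 : act 1 p9 = p10) (h11 : act 1 q11 = q12) (h12 : act 0 q12 = p0) : act 2 p10 = q11 := by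
  have hr := R16 p0
  subst h0
  subst h1
  subst h2
  subst h3
  subst h4
  subst h5
  subst h6
  subst h7
  subst h8
  subst h9
  subst h12
  subst h11
  exact ij (ij (hr))

theorem d16_11 {p0 p1 p2 p3 p4 p5 p6 p7 p8 p9 p10 p11 q12 : Q} (h0 : act 3 p0 = p1) (h1 : act 0 p1 = p2) (h2 : act 3 p2 = p3) (h3 : act 1 p3 = p4) (h4 : act 2 p4 = p5) (h5 : act 1 p5 = p6) (h6 : act 0 p6 = p7) (h7 : act 3 p7 = p8) (h8 : act 0 p8 = p9) (h9 : act 1 p9 = p10) (h10 : act 2 p10 = p11) (h12 : act 0 q12 = p0) : act 1 p11 = q12 := by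
  have hr := R16 p0
  subst h0
  subst h1
  subst h2
  subst h3
  subst h4
  subst h5
  subst h6
  subst h7
  subst h8
  subst h9
  subst h10
  subst h12
  exact ij (hr)

theorem d16_12 {p0 p1 p2 p3 p4 p5 p6 p7 p8 p9 p10 p11 p12 : Q} (h0 : act 3 p0 = p1) (h1 : act 0 p1 = p2) (h2 : act 3 p2 = p3) (h3 : act 1 p3 = p4) (h4 : act 2 p4 = p5) (h5 : act 1 p5 = p6) (h6 : act 0 p6 = p7) (h7 : act 3 p7 = p8) (h8 : act 0 p8 = p9) (h9 : act 1 p9 = p10) (h10 : act 2 p10 = p11) (h11 : act 1 p11 = p12) : act 0 p12 = p0 := by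
  have hr := R16 p0
  subst h0
  subst h1
  subst h2
  subst h3
  subst h4
  subst h5
  subst h6
  subst h7
  subst h8
  subst h9
  subst h10
  subst h11
  exact hr

theorem d17_0 {p0 q1 q2 q3 q4 q5 q6 q7 q8 q9 q10 q11 q12 : Q} (h1 : act 1 q1 = q2) (h2 : act 2 q2 = q3) (h3 : act 4 q3 = q4) (h4 : act 2 q4 = q5) (h5 : act 1 q5 = q6) (h6 : act 0 q6 = q7) (h7 : act 1 q7 = q8) (h8 : act 2 q8 = q9) (h9 : act 4 q9 = q10) (h10 : act 2 q10 = q11) (h11 : act 1 q11 = q12) (h12 : act 0 q12 = p0) : act 4 p0 = q1 := by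
  have hr := R17 p0
  subst h12
  subst h11
  subst h10
  subst h9
  subst h8
  subst h7
  subst h6
  subst h5
  subst h4
  subst h3
  subst h2
  subst h1
  exact ij (ij (ij (ij (ij (ij (ij (ij (ij (ij (ij (ij (hr))))))))))))

theorem d17_1 {p0 p1 q2 q3 q4 q5 q6 q7 q8 q9 q10 q11 q12 : Q} (h0 : act 4 p0 = p1) (h2 : act 2 q2 = q3) (h3 : act 4 q3 = q4) (h4 : act 2 q4 = q5) (h5 : act 1 q5 = q6) (h6 : act 0 q6 = q7) (h7 : act 1 q7 = q8) (h8 : act 2 q8 = q9) (h9 : act 4 q9 = q10) (h10 : act 2 q10 = q11) (h11 : act 1 q11 = q12) (h12 : act 0 q12 = p0) : act 1 p1 = q2 := by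
  have hr := R17 p0
  subst h0
  subst h12
  subst h11
  subst h10
  subst h9
  subst h8
  subst h7
  subst h6
  subst h5
  subst h4
  subst h3
  subst h2
  exact ij (ij (ij (ij (ij (ij (ij (ij (ij (ij (ij (hr)))))))))))

theorem d17_2 {p0 p1 p2 q3 q4 q5 q6 q7 q8 q9 q10 q11 q12 : Q} (h0 : act 4 p0 = p1) (h1 : act 1 p1 = p2) (h3 : act 4 q3 = q4) (h4 : act 2 q4 = q5) (h5 : act 1 q5 = q6) (h6 : act 0 q6 = q7) (h7 : act 1 q7 = q8) (h8 : act 2 q8 = q9) (h9 : act 4 q9 = q10) (h10 : act 2 q10 = q11) (h11 : act 1 q11 = q12) (h12 : act 0 q12 = p0) : act 2 p2 = q3 := by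
  have hr := R17 p0
  subst h0
  subst h1
  subst h12
  subst h11
  subst h10
  subst h9
  subst h8
  subst h7
  subst h6
  subst h5
  subst h4
  subst h3
  exact ij (ij (ij (ij (ij (ij (ij (ij (ij (ij (hr))))))))))

theorem d17_3 {p0 p1 p2 p3 q4 q5 q6 q7 q8 q9 q10 q11 q12 : Q} (h0 : act 4 p0 = p1) (h1 : act 1 p1 = p2) (h2 : act 2 p2 = p3) (h4 : act 2 q4 = q5) (h5 : act 1 q5 = q6) (h6 : act 0 q6 = q7) (h7 : act 1 q7 = q8) (h8 : act 2 q8 = q9) (h9 : act 4 q9 = q10) (h10 : act 2 q10 = q11) (h11 : act 1 q11 = q12) (h12 : act 0 q12 = p0) : act 4 p3 = q4 := by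
  have hr := R17 p0
  subst h0
  subst h1
  subst h2
  subst h12
  subst h11
  subst h10
  subst h9
  subst h8
  subst h7
  subst h6
  subst h5
  subst h4
  exact ij (ij (ij (ij (ij (ij (ij (ij (ij (hr)))))))))

theorem d17_4 {p0 p1 p2 p3 p4 q5 q6 q7 q8 q9 q10 q11 q12 : Q} (h0 : act 4 p0 = p1) (h1 : act 1 p1 = p2) (h2 : act 2 p2 = p3) (h3 : act 4 p3 = p4) (h5 : act 1 q5 = q6) (h6 : act 0 q6 = q7) (h7 : act 1 q7 = q8) (h8 : act 2 q8 = q9) (h9 : act 4 q9 = q10) (h10 : act 2 q10 = q11) (h11 : act 1 q11 = q12) (h12 : act 0 q12 = p0) : act 2 p4 = q5 := by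
  have hr := R17 p0
  subst h0
  subst h1
  subst h2
  subst h3
  subst h12
  subst h11
  subst h10
  subst h9
  subst h8
  subst h7
  subst h6
  subst h5
  exact ij (ij (ij (ij (ij (ij (ij (ij (hr))))))))

theorem d17_5 {p0 p1 p2 p3 p4 p5 q6 q7 q8 q9 q10 q11 q12 : Q} (h0 : act 4 p0 = p1) (h1 : act 1 p1 = p2) (h2 : act 2 p2 = p3) (h3 : act 4 p3 = p4) (h4 : act 2 p4 = p5) (h6 : act 0 q6 = q7) (h7 : act 1 q7 = q8) (h8 : act 2 q8 = q9) (h9 : act 4 q9 = q10) (h10 : act 2 q10 = q11) (h11 : act 1 q11 = q12) (h12 : act 0 q12 = p0) : act 1 p5 = q6 := by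
  have hr := R17 p0
  subst h0
  subst h1
  subst h2
  subst h3
  subst h4
  subst h12
  subst h11
  subst h10
  subst h9
  subst h8
  subst h7
  subst h6
  exact ij (ij (ij (ij (ij (ij (ij (hr)))))))

theorem d17_6 {p0 p1 p2 p3 p4 p5 p6 q7 q8 q9 q10 q11 q12 : Q} (h0 : act 4 p0 = p1) (h1 : act 1 p1 = p2) (h2 : act 2 p2 = p3) (h3 : act 4 p3 = p4) (h4 : act 2 p4 = p5) (h5 : act 1 p5 = p6) (h7 : act 1 q7 = q8) (h8 : act 2 q8 = q9) (h9 : act 4 q9 = q10) (h10 : act 2 q10 = q11) (h11 : act 1 q11 = q12) (h12 : act 0 q12 = p0) : act 0 p6 = q7 := by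
  have hr := R17 p0
  subst h0
  subst h1
  subst h2
  subst h3
  subst h4
  subst h5
  subst h12
  subst h11
  subst h10
  subst h9
  subst h8
  subst h7
  exact ij (ij (ij (ij (ij (ij (hr))))))

theorem d17_7 {p0 p1 p2 p3 p4 p5 p6 p7 q8 q9 q10 q11 q12 : Q} (h0 : act 4 p0 = p1) (h1 : act 1 p1 = p2) (h2 : act 2 p2 = p3) (h3 : act 4 p3 = p4) (h4 : act 2 p4 = p5) (h5 : act 1 p5 = p6) (h6 : act 0 p6 = p7) (h8 : act 2 q8 = q9) (h9 : act 4 q9 = q10) (h10 : act 2 q10 = q11) (h11 : act 1 q11 = q12) (h12 : act 0 q12 = p0) : act 1 p7 = q8 := by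
  have hr := R17 p0
  subst h0
  subst h1
  subst h2
  subst h3
  subst h4
  subst h5
  subst h6
  subst h12
  subst h11
  subst h10
  subst h9
  subst h8
  exact ij (ij (ij (ij (ij (hr)))))

theorem d17_8 {p0 p1 p2 p3 p4 p5 p6 p7 p8 q9 q10 q11 q12 : Q} (h0 : act 4 p0 = p1) (h1 : act 1 p1 = p2) (h2 : act 2 p2 = p3) (h3 : act 4 p3 = p4) (h4 : act 2 p4 = p5) (h5 : act 1 p5 = p6) (h6 : act 0 p6 = p7) (h7 : act 1 p7 = p8) (h9 : act 4 q9 = q10) (h10 : act 2 q10 = q11) (h11 : act 1 q11 = q12) (h12 : act 0 q12 = p0) : act 2 p8 = q9 := by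
  have hr := R17 p0
  subst h0
  subst h1
  subst h2
  subst h3
  subst h4
  subst h5
  subst h6
  subst h7
  subst h12
  subst h11
  subst h10
  subst h9
  exact ij (ij (ij (ij (hr))))

theorem d17_9 {p0 p1 p2 p3 p4 p5 p6 p7 p8 p9 q10 q11 q12 : Q} (h0 : act 4 p0 = p1) (h1 : act 1 p1 = p2) (h2 : act 2 p2 = p3) (h3 : act 4 p3 = p4) (h4 : act 2 p4 = p5) (h5 : act 1 p5 = p6) (h6 : act 0 p6 = p7) (h7 : act 1 p7 = p8) (h8 : act 2 p8 = p9) (h10 : act 2 q10 = q11) (h11 : act 1 q11 = q12) (h12 : act 0 q12 = p0) : act 4 p9 = q10 := by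
  have hr := R17 p0
  subst h0
  subst h1
  subst h2
  subst h3
  subst h4
  subst h5
  subst h6
  subst h7
  subst h8
  subst h12
  subst h11
  subst h10
  exact ij (ij (ij (hr)))

theorem d17_10 {p0 p1 p2 p3 p4 p5 p6 p7 p8 p9 p10 q11 q12 : Q} (h0 : act 4 p0 = p1) (h1 : act 1 p1 = p2) (h2 : act 2 p2 = p3) (h3 : act 4 p3 = p4) (h4 : act 2 p4 = p5) (h5 : act 1 p5 = p6) (h6 : act 0 p6 = p7) (h7 : act 1 p7 = p8) (h8 : act 2 p8 = p9) (h9 : act 4 p9 = p10) (h11 : act 1 q11 = q12) (h12 : act 0 q12 = p0) : act 2 p10 = q11 := by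
  have hr := R17 p0
  subst h0
  subst h1
  subst h2
  subst h3
  subst h4
  subst h5
  subst h6
  subst h7
  subst h8
  subst h9
  subst h12
  subst h11
  exact ij (ij (hr))

theorem d17_11 {p0 p1 p2 p3 p4 p5 p6 p7 p8 p9 p10 p11 q12 : Q} (h0 : act 4 p0 = p1) (h1 : act 1 p1 = p2) (h2 : act 2 p2 = p3) (h3 : act 4 p3 = p4) (h4 : act 2 p4 = p5) (h5 : act 1 p5 = p6) (h6 : act 0 p6 = p7) (h7 : act 1 p7 = p8) (h8 : act 2 p8 = p9) (h9 : act 4 p9 = p10) (h10 : act 2 p10 = p11) (h12 : act 0 q12 = p0) : act 1 p11 = q12 := by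
  have hr := R17 p0
  subst h0
  subst h1
  subst h2
  subst h3
  subst h4
  subst h5
  subst h6
  subst h7
  subst h8
  subst h9
  subst h10
  subst h12
  exact ij (hr)

theorem d17_12 {p0 p1 p2 p3 p4 p5 p6 p7 p8 p9 p10 p11 p12 : Q} (h0 : act 4 p0 = p1) (h1 : act 1 p1 = p2) (h2 : act 2 p2 = p3) (h3 : act 4 p3 = p4) (h4 : act 2 p4 = p5) (h5 : act 1 p5 = p6) (h6 : act 0 p6 = p7) (h7 : act 1 p7 = p8) (h8 : act 2 p8 = p9) (h9 : act 4 p9 = p10) (h10 : act 2 p10 = p11) (h11 : act 1 p11 = p12) : act 0 p12 = p0 := by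
  have hr := R17 p0
  subst h0
  subst h1
  subst h2
  subst h3
  subst h4
  subst h5
  subst h6
  subst h7
  subst h8
  subst h9
  subst h10
  subst h11
  exact hr

theorem d18_0 {p0 : Q} (hr : act 0 p0 = p0) : act 0 p0 = p0 := by
  exact hr


end Cfsg.Agent.Helper17.HCPTC
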